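import Mathlib
import Groth.Agent.Lib.Helper22.FibreDim
import Groth.Agent.Lib.Helper18.TopDim

/-!
# Dimension of integral schemes of finite type over a field (helper20)

* `ringKrullDim_eq_trdeg`: the Krull dimension of a finitely generated domain over a field is the
  transcendence degree of its fraction field.
* `ringKrullDim_eq_of_le`, `ringKrullDim_eq_of_affineOpens`: all nonempty affine opens of an
  integral scheme locally of finite type over a field have the same dimension.
* `topologicalKrullDim_eq_ringKrullDim`: that common value is the dimension of the scheme.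
-/

set_option autoImplicit false

namespace Groth.Agent.Lib.Helper20.DimTrdeg

universe u

/-- The Krull dimension of a finitely generated domain over a field is the transcendence degree
of its fraction field. -/
theorem ringKrullDim_eq_trdeg (k : Type u) [Field k] (B : Type u) [CommRing B] [IsDomain B]
    [Algebra k B] [Algebra.FiniteType k B] (L : Type u) [Field L] [Algebra B L]
    [IsFractionRing B L] [Algebra k L] [IsScalarTower k B L] :
    ringKrullDim B = (Cardinal.toNat (Algebra.trdeg k L) : ℕ) := by
  obtain ⟨s, g, hinj, hfin⟩ := exists_finite_inj_algHom_of_fg k B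
  have hint : ∀ b : B, g.toRingHom.IsIntegralElem b := fun b => hfin.to_isIntegral b
  have hs : ringKrullDim B = s :=
    Groth.Agent.Lib.Helper22.ringKrullDim_eq_of_finite_inj s g hinj hint
  let _ : Algebra (MvPolynomial (Fin s) k) B := g.toRingHom.toAlgebra
  have hfinPB : Module.Finite (MvPolynomial (Fin s) k) B := hfin
  have : IsScalarTower k (MvPolynomial (Fin s) k) B :=
    IsScalarTower.of_algebraMap_eq fun c => (g.commutes c).symm
  let _ : Algebra (MvPolynomial (Fin s) k) L :=
    ((algebraMap B L).comp (algebraMap (MvPolynomial (Fin s) k) B)).toAlgebra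
  have : IsScalarTower (MvPolynomial (Fin s) k) B L := IsScalarTower.of_algebraMap_eq fun _ => rfl
  have : IsScalarTower k (MvPolynomial (Fin s) k) L := by
    refine IsScalarTower.of_algebraMap_eq fun c => ?_
    rw [IsScalarTower.algebraMap_apply k B L,
      IsScalarTower.algebraMap_apply k (MvPolynomial (Fin s) k) B,
      ← IsScalarTower.algebraMap_apply (MvPolynomial (Fin s) k) B L]
  have hPB : Function.Injective (algebraMap (MvPolynomial (Fin s) k) B) := hinj
  have : FaithfulSMul (MvPolynomial (Fin s) k) L :=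
    (faithfulSMul_iff_algebraMap_injective _ _).mpr
      ((IsFractionRing.injective B L).comp hPB)
  have : Algebra.IsAlgebraic (MvPolynomial (Fin s) k) B := Algebra.IsIntegral.isAlgebraic
  have hPL : Algebra.IsAlgebraic (MvPolynomial (Fin s) k) L :=
    (IsFractionRing.isAlgebraic_iff' (MvPolynomial (Fin s) k) B L).mp inferInstance
  have h1 := trdeg_add_eq k (MvPolynomial (Fin s) k) (A := L)
  rw [MvPolynomial.trdeg_of_isDomain, trdeg_eq_zero, add_zero] at h1
  rw [hs, ← h1]
  simp



open AlgebraicGeometry CategoryTheory Opposite TopologicalSpace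

section Eval

variable {Y : Scheme.{u}}

theorem map_evaluation {U V : Y.Opens} (i : V ≤ U) (x : Y) (hx : x ∈ V) :
    Y.presheaf.map (homOfLE i).op ≫ Y.evaluation V x hx = Y.evaluation U x (i hx) := by
  unfold Scheme.evaluation
  rw [← Category.assoc, TopCat.Presheaf.germ_res]

variable [IsIntegral Y]

theorem genericPoint_mem (W : Y.Opens) [h : Nonempty W] : genericPoint Y ∈ W :=
  ((genericPoint_spec Y).mem_open_set_iff W.isOpen).mpr (by simpa using h)

theorem residue_genericPoint_bijective :
    Function.Bijective (Y.residue (genericPoint Y)).hom := by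
  refine ⟨?_, Y.residue_surjective _⟩
  exact RingHom.injective (R := Y.functionField) _

/-- the evaluation at the generic point, as a ring homomorphism -/
noncomputable def evη (W : Y.Opens) (hη : genericPoint Y ∈ W) :
    Γ(Y, W) →+* Y.residueField (genericPoint Y) :=
  (Y.evaluation W (genericPoint Y) hη).hom

theorem isFractionRing_evη (W : Y.Opens) (hW : IsAffineOpen W) (hη : genericPoint Y ∈ W) :
    @IsFractionRing Γ(Y, W) _ (Y.residueField (genericPoint Y)) _ (evη W hη).toAlgebra := by
  let _ := (evη W hη).toAlgebra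
  have : Nonempty W := ⟨⟨_, hη⟩⟩
  have := functionField_isFractionRing_of_isAffineOpen Y W hW
  let e₀ : Y.functionField ≃+* Y.residueField (genericPoint Y) :=
    RingEquiv.ofBijective (Y.residue (genericPoint Y)).hom residue_genericPoint_bijective
  let e : Y.functionField ≃ₐ[Γ(Y, W)] Y.residueField (genericPoint Y) :=
    { e₀ with
      commutes' := fun b => rfl }
  exact IsLocalization.isLocalization_of_algEquiv (nonZeroDivisors Γ(Y, W)) e

end Eval


section OverField

variable {Y : Scheme.{u}} {k : Type u} [Field k] (g : Y ⟶ Spec (CommRingCat.of k))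

/-- the structure map `k → Γ(Y, W)` -/
noncomputable def kMap (W : Y.Opens) : k →+* Γ(Y, W) :=
  ((Scheme.ΓSpecIso (CommRingCat.of k)).inv ≫ g.appLE ⊤ W (by simp)).hom

theorem kMap_res {W'' W : Y.Opens} (i : W'' ≤ W) :
    (Y.presheaf.map (homOfLE i).op).hom.comp (kMap g W) = kMap g W'' := by
  unfold kMap
  have h : g.appLE ⊤ W (by simp) ≫ Y.presheaf.map (homOfLE i).op = g.appLE ⊤ W'' (by simp) :=
    Scheme.Hom.appLE_map _ _ _
  rw [← CommRingCat.hom_comp, Category.assoc, h]

theorem kMap_finiteType [LocallyOfFiniteType g] (W : Y.Opens) (hW : IsAffineOpen W) :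
    (kMap g W).FiniteType := by
  unfold kMap
  rw [CommRingCat.hom_comp]
  refine RingHom.FiniteType.comp ?_ ?_
  · exact HasRingHomProperty.appLE (P := @LocallyOfFiniteType) g inferInstance
      ⟨⊤, isAffineOpen_top _⟩ ⟨W, hW⟩ _
  · refine RingHom.FiniteType.of_surjective _ ?_
    exact (ConcreteCategory.bijective_of_isIso (Scheme.ΓSpecIso (CommRingCat.of k)).inv).2

variable [IsIntegral Y] [LocallyOfFiniteType g]

include g in
theorem ringKrullDim_eq_of_le {W'' W : Y.Opens} (i : W'' ≤ W) (hW'' : IsAffineOpen W'')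
    (hW : IsAffineOpen W) (hη : genericPoint Y ∈ W'') :
    ringKrullDim Γ(Y, W'') = ringKrullDim Γ(Y, W) := by
  have : Nonempty W'' := ⟨⟨_, hη⟩⟩
  have : Nonempty W := ⟨⟨_, i hη⟩⟩
  let _ : Algebra k Γ(Y, W) := (kMap g W).toAlgebra
  let _ : Algebra k Γ(Y, W'') := (kMap g W'').toAlgebra
  have : Algebra.FiniteType k Γ(Y, W) := kMap_finiteType g W hW
  have : Algebra.FiniteType k Γ(Y, W'') := kMap_finiteType g W'' hW''
  let _ : Algebra Γ(Y, W) (Y.residueField (genericPoint Y)) := (evη W (i hη)).toAlgebra
  let _ : Algebra Γ(Y, W'') (Y.residueField (genericPoint Y)) := (evη W'' hη).toAlgebra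
  let _ : Algebra k (Y.residueField (genericPoint Y)) :=
    ((evη W (i hη)).comp (kMap g W)).toAlgebra
  have : IsScalarTower k Γ(Y, W) (Y.residueField (genericPoint Y)) :=
    IsScalarTower.of_algebraMap_eq fun _ => rfl
  have : IsScalarTower k Γ(Y, W'') (Y.residueField (genericPoint Y)) := by
    refine IsScalarTower.of_algebraMap_eq fun c => ?_
    change (evη W (i hη)) (kMap g W c) = (evη W'' hη) (kMap g W'' c)
    rw [← kMap_res g i]
    have := congrArg (fun φ => φ.hom (kMap g W c)) (map_evaluation i (genericPoint Y) hη)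
    exact this.symm
  have := isFractionRing_evη W hW (i hη)
  have := isFractionRing_evη W'' hW'' hη
  rw [ringKrullDim_eq_trdeg k Γ(Y, W'') (Y.residueField (genericPoint Y)),
    ringKrullDim_eq_trdeg k Γ(Y, W) (Y.residueField (genericPoint Y))]


include g in
theorem ringKrullDim_eq_of_affineOpens {W W' : Y.Opens} (hW : IsAffineOpen W)
    (hW' : IsAffineOpen W') [Nonempty W] [Nonempty W'] :
    ringKrullDim Γ(Y, W) = ringKrullDim Γ(Y, W') := by
  have hη : genericPoint Y ∈ W ⊓ W' := ⟨genericPoint_mem W, genericPoint_mem W'⟩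
  obtain ⟨_, ⟨W'', hW'', rfl⟩, hηW'', hle⟩ :=
    Y.isBasis_affineOpens.exists_subset_of_mem_open hη (W ⊓ W').isOpen
  rw [← ringKrullDim_eq_of_le g (fun x hx => (hle hx).1) hW'' hW hηW'',
    ← ringKrullDim_eq_of_le g (fun x hx => (hle hx).2) hW'' hW' hηW'']

omit [IsIntegral Y] [LocallyOfFiniteType g] in
theorem topologicalKrullDim_opens_eq (W : Y.Opens) (hW : IsAffineOpen W) :
    topologicalKrullDim (W : Set Y) = ringKrullDim Γ(Y, W) := by
  have h1 : topologicalKrullDim (W : Set Y) = topologicalKrullDim (PrimeSpectrum Γ(Y, W)) :=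
    IsHomeomorph.topologicalKrullDim_eq _ (Scheme.homeoOfIso hW.isoSpec).isHomeomorph
  rw [h1, PrimeSpectrum.topologicalKrullDim_eq_ringKrullDim]

include g in
theorem topologicalKrullDim_eq_ringKrullDim {W : Y.Opens} (hW : IsAffineOpen W) [Nonempty W] :
    topologicalKrullDim Y = ringKrullDim Γ(Y, W) := by
  apply le_antisymm
  · unfold topologicalKrullDim Order.krullDim
    refine iSup_le fun p => ?_
    obtain ⟨x, hx⟩ : ((p 0 : IrreducibleCloseds Y) : Set Y).Nonempty := (p 0).isIrreducible'.nonempty
    obtain ⟨_, ⟨W₁, hW₁, rfl⟩, hxW₁, -⟩ :=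
      Y.isBasis_affineOpens.exists_subset_of_mem_open (Set.mem_univ x) isOpen_univ
    have : Nonempty W₁ := ⟨⟨x, hxW₁⟩⟩
    have h := Groth.Agent.Lib.Helper18.TopDim.length_le_topologicalKrullDim_open p W₁ hx hxW₁
    rw [topologicalKrullDim_opens_eq W₁ hW₁, ringKrullDim_eq_of_affineOpens g hW₁ hW] at h
    exact h
  · rw [← topologicalKrullDim_opens_eq W hW]
    exact topologicalKrullDim_subspace_le Y _

end OverField


end Groth.Agent.Lib.Helper20.DimTrdeg

namespace Groth.Agent.Lib.Helper20.DimTrdeg

universe u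

open AlgebraicGeometry CategoryTheory Opposite TopologicalSpace

/-- An integral scheme locally of finite type over a field has finite dimension. -/
theorem exists_nat_eq_topologicalKrullDim {Y : Scheme.{u}} {k : Type u} [Field k]
    (g : Y ⟶ Spec (CommRingCat.of k)) [IsIntegral Y] [LocallyOfFiniteType g] :
    ∃ s : ℕ, topologicalKrullDim Y = s := by
  obtain ⟨_, ⟨W, hW, rfl⟩, hηW, -⟩ :=
    Y.isBasis_affineOpens.exists_subset_of_mem_open (Set.mem_univ (genericPoint Y)) isOpen_univ
  have : Nonempty W := ⟨⟨_, hηW⟩⟩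
  let _ : Algebra k Γ(Y, W) := (kMap g W).toAlgebra
  have : Algebra.FiniteType k Γ(Y, W) := kMap_finiteType g W hW
  obtain ⟨s, γ, hinj, hfin⟩ := exists_finite_inj_algHom_of_fg k Γ(Y, W)
  have hint : ∀ b : Γ(Y, W), γ.toRingHom.IsIntegralElem b := fun b => hfin.to_isIntegral b
  refine ⟨s, ?_⟩
  rw [topologicalKrullDim_eq_ringKrullDim g hW]
  exact Groth.Agent.Lib.Helper22.ringKrullDim_eq_of_finite_inj s γ hinj hint

end Groth.Agent.Lib.Helper20.DimTrdeg
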