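import Mathlib.RingTheory.Unramified.Locus
import Mathlib.RingTheory.Kaehler.TensorProduct
import Mathlib.RingTheory.LocalRing.Module
import Mathlib.RingTheory.Flat.FaithfullyFlat.Basic
import Mathlib.RingTheory.LocalRing.ResidueField.Ideal

set_option autoImplicit false
open TensorProduct

namespace Groth.Agent.Lib.Helper20

/-- For a finite `A`-module `M` and a field `K` over `A`, `K ⊗ M ≠ 0` iff the kernel of `A → K`
lies in the support of `M`. -/
theorem nontrivial_field_tensor_iff {A : Type*} [CommRing A] {M : Type*} [AddCommGroup M]
    [Module A M] [Module.Finite A M] (K : Type*) [Field K] [Algebra A K]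
    (q : PrimeSpectrum A) (hq : q.asIdeal = RingHom.ker (algebraMap A K)) :
    Nontrivial (K ⊗[A] M) ↔ q ∈ Module.support A M := by
  rw [Module.mem_support_iff_nontrivial_residueField_tensorProduct]
  let φ : q.asIdeal.ResidueField →+* K :=
    Ideal.ResidueField.lift q.asIdeal (algebraMap A K) hq.le (by
      intro x hx
      simp only [Submonoid.mem_comap, IsUnit.mem_submonoid_iff, isUnit_iff_ne_zero, ne_eq]
      intro h0
      exact hx (hq ▸ h0))
  let : Algebra q.asIdeal.ResidueField K := φ.toAlgebra
  have : IsScalarTower A q.asIdeal.ResidueField K := .of_algebraMap_eq fun x => by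
    simp [RingHom.algebraMap_toAlgebra, φ]
  let e := AlgebraTensorModule.cancelBaseChange A q.asIdeal.ResidueField K K M
  rw [← e.nontrivial_congr]
  constructor
  · intro h
    by_contra hn
    rw [not_nontrivial_iff_subsingleton] at hn
    exact not_subsingleton _ (inferInstance : Subsingleton (K ⊗[q.asIdeal.ResidueField]
      (q.asIdeal.ResidueField ⊗[A] M)))
  · intro h
    infer_instance

theorem mem_support_baseChange {A B M : Type*} [CommRing A] [CommRing B] [Algebra A B]
    [AddCommGroup M] [Module A M] [Module.Finite A M] (q : PrimeSpectrum B) :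
    q ∈ Module.support B (B ⊗[A] M) ↔
      PrimeSpectrum.comap (algebraMap A B) q ∈ Module.support A M := by
  let K := q.asIdeal.ResidueField
  rw [← nontrivial_field_tensor_iff K q (Ideal.ker_algebraMap_residueField _).symm,
    ← nontrivial_field_tensor_iff K (PrimeSpectrum.comap (algebraMap A B) q) (by
      rw [IsScalarTower.algebraMap_eq A B K, ← RingHom.comap_ker,
        Ideal.ker_algebraMap_residueField]
      rfl)]
  exact (AlgebraTensorModule.cancelBaseChange A B K K M).nontrivial_congr

end Groth.Agent.Lib.Helper20

namespace Groth.Agent.Lib.Helper20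

theorem mem_unramifiedLocus_baseChange {R A R' A' : Type*} [CommRing R] [CommRing A]
    [CommRing R'] [CommRing A'] [Algebra R A] [Algebra R R'] [Algebra R A'] [Algebra A A']
    [Algebra R' A'] [IsScalarTower R A A'] [IsScalarTower R R' A'] [Algebra.IsPushout R R' A A']
    [Algebra.FiniteType R A] (q' : PrimeSpectrum A') :
    q' ∈ Algebra.unramifiedLocus R' A' ↔
      PrimeSpectrum.comap (algebraMap A A') q' ∈ Algebra.unramifiedLocus R A := by
  rw [Algebra.unramifiedLocus_eq_compl_support, Algebra.unramifiedLocus_eq_compl_support,
    Set.mem_compl_iff, Set.mem_compl_iff,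
    ← (KaehlerDifferential.tensorKaehlerEquiv R R' A A').support_eq,
    mem_support_baseChange]

end Groth.Agent.Lib.Helper20
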