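import Mathlib

/-!
# The free abelian sheaf `ℤ[U]^#` on an object of a small site and its Yoneda property
-/

set_option autoImplicit false
universe u
open CategoryTheory Limits Opposite

namespace Groth.Agent.Lib.Helper20.FreeSheaf

variable {C : Type u} [SmallCategory C] (J : GrothendieckTopology C)

/-- free abelian sheaf functor on presheaves of sets -/
noncomputable abbrev freeSheaf : (Cᵒᵖ ⥤ Type u) ⥤ Sheaf J AddCommGrpCat.{u} :=
  (Functor.whiskeringRight _ _ _).obj AddCommGrpCat.free ⋙ presheafToSheaf J AddCommGrpCat.{u}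

/-- the adjunction free sheaf ⊣ underlying presheaf of sets -/
noncomputable def adjA : freeSheaf J ⊣
    sheafToPresheaf J AddCommGrpCat.{u} ⋙
      (Functor.whiskeringRight Cᵒᵖ _ _).obj (forget AddCommGrpCat.{u}) :=
  (AddCommGrpCat.adj.whiskerRight Cᵒᵖ).comp (sheafificationAdjunction J AddCommGrpCat.{u})

/-- `ℤ[U]^#` -/
noncomputable abbrev ZU (U : C) : Sheaf J AddCommGrpCat.{u} := (freeSheaf J).obj (yoneda.obj U)

/-- the map `ℤ[V]^# ⟶ ℤ[U]^#` induced by `g : V ⟶ U` -/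
noncomputable abbrev Zmap {U V : C} (g : V ⟶ U) : ZU J V ⟶ ZU J U :=
  (freeSheaf J).map (yoneda.map g)

/-- Yoneda: maps out of `ℤ[U]^#` are sections over `U`. -/
noncomputable def a (U : C) (Y : Sheaf J AddCommGrpCat.{u}) : (ZU J U ⟶ Y) ≃ Y.obj.obj (op U) :=
  ((adjA J).homEquiv (yoneda.obj U) Y).trans yonedaEquiv

lemma a_nat (U : C) {Y Y' : Sheaf J AddCommGrpCat.{u}} (f : ZU J U ⟶ Y) (g : Y ⟶ Y') :
    a J U Y' (f ≫ g) = g.hom.app (op U) (a J U Y f) := by
  unfold a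
  simp only [Equiv.trans_apply]
  rw [Adjunction.homEquiv_naturality_right, yonedaEquiv_comp]
  rfl

lemma a_nat_left {U V : C} (g : V ⟶ U) {Y : Sheaf J AddCommGrpCat.{u}} (f : ZU J U ⟶ Y) :
    a J V Y (Zmap J g ≫ f) = Y.obj.map g.op (a J U Y f) := by
  unfold a
  simp only [Equiv.trans_apply]
  rw [Adjunction.homEquiv_naturality_left, ← yonedaEquiv_naturality]
  rfl

/-- the universal section of `ℤ[U]^#` over `U` -/
noncomputable def univ (U : C) : (ZU J U).obj.obj (op U) := a J U (ZU J U) (𝟙 _)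

lemma a_eq (U : C) {Y : Sheaf J AddCommGrpCat.{u}} (f : ZU J U ⟶ Y) :
    a J U Y f = f.hom.app (op U) (univ J U) := by
  have := a_nat J U (𝟙 (ZU J U)) f
  rwa [Category.id_comp] at this

lemma a_add (U : C) {Y : Sheaf J AddCommGrpCat.{u}} (f g : ZU J U ⟶ Y) :
    a J U Y (f + g) = a J U Y f + a J U Y g := by
  rw [a_eq, a_eq, a_eq]
  rfl

lemma a_zero (U : C) {Y : Sheaf J AddCommGrpCat.{u}} :
    a J U Y (0 : ZU J U ⟶ Y) = 0 := by
  rw [a_eq]
  rfl

lemma a_symm_add (U : C) {Y : Sheaf J AddCommGrpCat.{u}} (x y : Y.obj.obj (op U)) :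
    (a J U Y).symm (x + y) = (a J U Y).symm x + (a J U Y).symm y := by
  apply (a J U Y).injective
  rw [a_add]
  simp

lemma a_symm_nat (U : C) {Y Y' : Sheaf J AddCommGrpCat.{u}} (x : Y.obj.obj (op U)) (g : Y ⟶ Y') :
    (a J U Y).symm x ≫ g = (a J U Y').symm (g.hom.app (op U) x) := by
  apply (a J U Y').injective
  rw [a_nat]
  simp

lemma a_symm_nat_left {U V : C} (g : V ⟶ U) {Y : Sheaf J AddCommGrpCat.{u}}
    (x : Y.obj.obj (op U)) :
    Zmap J g ≫ (a J U Y).symm x = (a J V Y).symm (Y.obj.map g.op x) := by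
  apply (a J V Y).injective
  rw [a_nat_left]
  simp

end Groth.Agent.Lib.Helper20.FreeSheaf
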