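import Mathlib

/-!
# Extension by zero `j_!` for abelian sheaves on a slice site

For a small site `(C, J)` and `U : C`, the restriction functor
`J.overPullback AddCommGrpCat U : Sheaf J Ab ⥤ Sheaf (J.over U) Ab` has a left adjoint
`extByZero J U` (constructed by Mathlib via left Kan extension + sheafification).  We show it is
exact (preserves finite limits and finite colimits).  Consequently restriction preserves injectives.
-/

set_option autoImplicit false
universe u
open CategoryTheory Limits Opposite

namespace Groth.Agent.Lib.Helper20.ExtByZero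

/-- colimits over a category with a final functor from a discrete category preserve monos in Ab -/
theorem mono_colimMap_of_final_discrete {J : Type u} [Category.{u} J] {T : Type u}
    (Φ : Discrete T ⥤ J) [Φ.Final]
    {K K' : J ⥤ AddCommGrpCat.{u}} (β : K ⟶ K') [∀ j, Mono (β.app j)] :
    Mono (colimMap β) := by
  let e := Functor.Final.colimitIso Φ K
  let e' := Functor.Final.colimitIso Φ K'
  have h : colimMap (Functor.whiskerLeft Φ β) ≫ e'.hom = e.hom ≫ colimMap β := by
    apply colimit.hom_ext; intro t; simp [e, e']
  have h1 : Mono (colimMap (Functor.whiskerLeft Φ β)) := by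
    have : Mono (Functor.whiskerLeft Φ β) := by
      have : ∀ t, Mono ((Functor.whiskerLeft Φ β).app t) := fun t => by
        dsimp; infer_instance
      exact NatTrans.mono_of_mono_app _
    exact (inferInstance : Mono (colim.map (Functor.whiskerLeft Φ β)))
  have h2 : colimMap β = e.inv ≫ colimMap (Functor.whiskerLeft Φ β) ≫ e'.hom := by
    rw [h]; simp
  rw [h2]; infer_instance

section

variable {C : Type u} [SmallCategory C] (U V : C)

/-- the discrete set of maps `V ⟶ U` inside the costructured arrow category -/
def Φ : Discrete (V ⟶ U) ⥤ CostructuredArrow (Over.forget U).op (op V) :=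
  Discrete.functor (fun φ =>
    CostructuredArrow.mk (S := (Over.forget U).op) (Y := op (Over.mk φ)) (𝟙 (op V)))

@[simp] lemma Φ_obj_left (φ : V ⟶ U) : ((Φ U V).obj ⟨φ⟩).left = op (Over.mk φ) := rfl
@[simp] lemma Φ_obj_hom (φ : V ⟶ U) : ((Φ U V).obj ⟨φ⟩).hom = 𝟙 (op V) := rfl

instance : (Φ U V).Final := by
  constructor
  intro d
  let φ₀ : V ⟶ U := d.hom.unop ≫ d.left.unop.hom
  let m₀ : d ⟶ (Φ U V).obj ⟨φ₀⟩ :=
    CostructuredArrow.homMk
      (Quiver.Hom.op (Over.homMk (U := Over.mk φ₀) (V := d.left.unop) d.hom.unop rfl)) (by
      rw [Φ_obj_hom]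
      erw [Category.comp_id]
      rfl)
  let x₀ : StructuredArrow d (Φ U V) := StructuredArrow.mk m₀
  have key : ∀ x : StructuredArrow d (Φ U V), Nonempty (x₀ ⟶ x) := by
    rintro ⟨⟨⟨⟩⟩, ⟨φ⟩, m⟩
    have h1 : m.left.unop.left = d.hom.unop := by
      have := CostructuredArrow.w m
      rw [Φ_obj_hom] at this
      erw [Category.comp_id] at this
      change _ = d.hom at this
      rw [← this]; rfl
    have h2 : φ = φ₀ := by
      have := Over.w m.left.unop
      change _ = φ at this
      rw [← this]
      erw [h1]
      rfl
    subst h2
    refine ⟨StructuredArrow.homMk (𝟙 _) ?_⟩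
    apply CostructuredArrow.hom_ext
    apply Quiver.Hom.unop_inj
    apply Over.OverMorphism.ext
    have e : (Φ U V).map (𝟙 x₀.right) = 𝟙 _ := (Φ U V).map_id _
    rw [e, Category.comp_id]
    exact h1.symm
  have : Nonempty (StructuredArrow d (Φ U V)) := ⟨x₀⟩
  apply zigzag_isConnected
  intro x y
  obtain ⟨f⟩ := key x
  obtain ⟨g⟩ := key y
  exact Relation.ReflTransGen.trans (Relation.ReflTransGen.single (Or.inr ⟨f⟩))
    (Relation.ReflTransGen.single (Or.inl ⟨g⟩))

/-- Left Kan extension of abelian presheaves along `(Over.forget U).op` preserves monos. -/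
instance lan_preservesMonomorphisms :
    ((Over.forget U).op.lan :
      ((Over U)ᵒᵖ ⥤ AddCommGrpCat.{u}) ⥤ (Cᵒᵖ ⥤ AddCommGrpCat.{u})).PreservesMonomorphisms := by
  constructor
  intro G G' α hα
  rw [NatTrans.mono_iff_mono_app]
  intro X
  obtain ⟨V⟩ := X
  let iso := lanEvaluationIsoColim AddCommGrpCat.{u} (Over.forget U).op (op V)
  have hnat := iso.hom.naturality α
  have hmono : Mono (((Functor.whiskeringLeft _ _ AddCommGrpCat.{u}).obj
      (CostructuredArrow.proj (Over.forget U).op (op V)) ⋙ colim).map α) := by
    have : ∀ j, Mono ((Functor.whiskerLeft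
        (CostructuredArrow.proj (Over.forget U).op (op V)) α).app j) := by
      intro j
      have := (NatTrans.mono_iff_mono_app α).1 hα
      dsimp
      infer_instance
    exact mono_colimMap_of_final_discrete (Φ U V) _
  have h2 : ((Over.forget U).op.lan.map α).app (op V) =
      (iso.hom.app G) ≫ ((Functor.whiskeringLeft _ _ AddCommGrpCat.{u}).obj
      (CostructuredArrow.proj (Over.forget U).op (op V)) ⋙ colim).map α ≫ (iso.inv.app G') := by
    rw [← Category.assoc, ← hnat, Category.assoc]
    simp
  rw [h2]
  infer_instance

end

section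

variable {C : Type u} [SmallCategory C] (J : GrothendieckTopology C) (U : C)

/-- extension by zero -/
noncomputable def extByZero :
    Sheaf (J.over U) AddCommGrpCat.{u} ⥤ Sheaf J AddCommGrpCat.{u} :=
  Functor.sheafPullbackConstruction.sheafPullback (Over.forget U) AddCommGrpCat.{u} (J.over U) J

/-- extension by zero is left adjoint to restriction -/
noncomputable def extByZeroAdj : extByZero J U ⊣ J.overPullback AddCommGrpCat.{u} U :=
  Functor.sheafPullbackConstruction.sheafAdjunctionContinuous (Over.forget U) AddCommGrpCat.{u}
    (J.over U) J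

instance : (extByZero J U).IsLeftAdjoint := (extByZeroAdj J U).isLeftAdjoint

instance overPullback_additive : (J.overPullback AddCommGrpCat.{u} U).Additive where

instance : (extByZero J U).Additive := (extByZeroAdj J U).left_adjoint_additive

instance : (extByZero J U).PreservesMonomorphisms := by
  have h1 : (sheafToPresheaf (J.over U) AddCommGrpCat.{u}).PreservesMonomorphisms := inferInstance
  have h2 : (presheafToSheaf J AddCommGrpCat.{u}).PreservesMonomorphisms := inferInstance
  have h3 := lan_preservesMonomorphisms (C := C) U
  unfold extByZero Functor.sheafPullbackConstruction.sheafPullback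
  infer_instance

instance : PreservesFiniteColimits (extByZero J U) := by
  have := (extByZeroAdj J U).leftAdjoint_preservesColimits
  infer_instance

instance : (extByZero J U).PreservesHomology :=
  Functor.preservesHomology_of_preservesMonos_and_cokernels _

instance : PreservesFiniteLimits (extByZero J U) :=
  Functor.preservesFiniteLimits_of_preservesHomology _

end

end Groth.Agent.Lib.Helper20.ExtByZero
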