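import Mathlib

/-!
# Elementary facts on weakly regular sequences
-/

set_option autoImplicit false
universe u

namespace Groth.Agent.Lib.Helper20.RegSeqElem

open RingTheory.Sequence

variable {A : Type u} [CommRing A]

theorem ofList_smul_top (l : List A) :
    (Ideal.ofList l • ⊤ : Submodule A A) = Ideal.ofList l := by
  rw [smul_eq_mul, Ideal.mul_top]

/-- elementary form of weak regularity of `l ++ [r]` -/
theorem isWeaklyRegular_append_singleton_iff (l : List A) (r : A) :
    IsWeaklyRegular A (l ++ [r]) ↔
      IsWeaklyRegular A l ∧ ∀ x, r * x ∈ Ideal.ofList l → x ∈ Ideal.ofList l := by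
  rw [isWeaklyRegular_append_iff, isWeaklyRegular_singleton_iff,
    isSMulRegular_quotient_iff_mem_of_smul_mem, ofList_smul_top]
  rfl

theorem ofList_ofFn {n : ℕ} (f : Fin n → A) : Ideal.ofList (List.ofFn f) = Ideal.span (Set.range f) := by
  have : {r | r ∈ List.ofFn f} = Set.range f := by
    ext x
    rw [Set.mem_ofPred_eq, List.mem_ofFn, Set.mem_range]
  rw [Ideal.ofList, this]

/-- the first element of a weakly regular sequence is a non-zero-divisor modulo the others -/
theorem mem_of_mul_mem_of_isWeaklyRegular_cons (x : A) (l : List A)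
    (h : IsWeaklyRegular A (x :: l)) :
    ∀ z, x * z ∈ Ideal.ofList l → z ∈ Ideal.ofList l := by
  induction l using List.reverseRecOn with
  | nil =>
    intro z hz
    rw [Ideal.ofList_nil, Ideal.mem_bot] at hz ⊢
    have h1 : IsSMulRegular A x := ((isWeaklyRegular_cons_iff A x []).mp h).1
    exact h1 (by simp only [smul_eq_mul, hz, mul_zero])
  | append_singleton l y ih =>
    rw [← List.cons_append, isWeaklyRegular_append_singleton_iff] at h
    obtain ⟨h1, h2⟩ := h
    have ih' := ih h1
    intro z hz
    rw [Ideal.ofList_append, Ideal.ofList_singleton, Submodule.mem_sup] at hz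
    obtain ⟨u, hu, v, hv, huv⟩ := hz
    obtain ⟨w, rfl⟩ := Ideal.mem_span_singleton'.mp hv
    -- `y * w ∈ (x) + (l)`
    have hyw : y * w ∈ Ideal.ofList (x :: l) := by
      rw [Ideal.ofList_cons, Submodule.mem_sup]
      refine ⟨x * z, Ideal.mem_span_singleton'.mpr ⟨z, mul_comm _ _⟩, -u, neg_mem hu, ?_⟩
      rw [← huv]; ring
    have hw := h2 w hyw
    rw [Ideal.ofList_cons, Submodule.mem_sup] at hw
    obtain ⟨p, hp, q, hq, hpq⟩ := hw
    obtain ⟨w', rfl⟩ := Ideal.mem_span_singleton'.mp hp
    have h3 : x * (z - y * w') ∈ Ideal.ofList l := by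
      have : x * (z - y * w') = u + y * q := by
        have e1 : w = w' * x + q := hpq.symm
        rw [mul_sub, ← huv, e1]; ring
      rw [this]
      exact add_mem hu (Ideal.mul_mem_left _ _ hq)
    have h4 := ih' _ h3
    rw [Ideal.ofList_append, Ideal.ofList_singleton, Submodule.mem_sup]
    refine ⟨z - y * w', h4, y * w', Ideal.mem_span_singleton'.mpr ⟨w', mul_comm _ _⟩, by ring⟩



section Blowup

variable {n : ℕ} (a : Fin (n + 1) → A)

local notation "P" => MvPolynomial (Fin n) A

/-- the generators `a_{i+1} - a_0 X_i` -/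
noncomputable def yb (i : Fin n) : MvPolynomial (Fin n) A :=
  algebraMap A (MvPolynomial (Fin n) A) (a i.succ) -
    algebraMap A (MvPolynomial (Fin n) A) (a 0) * MvPolynomial.X i

theorem isWeaklyRegular_blowup (ha : IsWeaklyRegular A (List.ofFn a)) :
    IsWeaklyRegular (MvPolynomial (Fin n) A)
      (algebraMap A (MvPolynomial (Fin n) A) (a 0) :: List.ofFn (yb a)) := by
  have h1 : IsWeaklyRegular (MvPolynomial (Fin n) A)
      ((List.ofFn a).map (algebraMap A (MvPolynomial (Fin n) A))) := ha.of_flat
  rw [List.ofFn_succ, List.map_cons, isWeaklyRegular_cons_iff] at h1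
  rw [isWeaklyRegular_cons_iff]
  refine ⟨h1.1, ?_⟩
  refine (AddEquiv.isWeaklyRegular_congr (e := AddEquiv.refl _) ?_).mp h1.2
  rw [List.map_ofFn, List.forall₂_iff_get]
  refine ⟨by simp, ?_⟩
  intro i h1 h2
  simp only [List.length_ofFn] at h1
  simp only [List.get_eq_getElem, List.getElem_ofFn, Function.comp_apply, AddEquiv.refl_apply]
  intro x
  obtain ⟨p, rfl⟩ := Submodule.Quotient.mk_surjective _ x
  rw [yb, sub_smul, ← Submodule.Quotient.mk_smul, ← Submodule.Quotient.mk_smul,
    ← Submodule.Quotient.mk_sub]
  symm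
  rw [Submodule.Quotient.eq, sub_sub_cancel_left, neg_mem_iff]
  rw [mul_smul]
  exact Submodule.smul_mem_pointwise_smul _ _ _ Submodule.mem_top

end Blowup




section Blowup2

variable {n : ℕ} (a : Fin (n + 1) → A)

/-- the ideal `(a_0 X_i - a_{i+1})` -/
noncomputable def Jb : Ideal (MvPolynomial (Fin n) A) :=
  Ideal.span (Set.range fun i : Fin n =>
    MvPolynomial.C (a 0) * MvPolynomial.X i - MvPolynomial.C (a i.succ))

theorem Jb_eq : Jb a = Ideal.ofList (List.ofFn (yb a)) := by
  rw [ofList_ofFn, Jb]
  apply le_antisymm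
  · rw [Ideal.span_le]
    rintro _ ⟨i, rfl⟩
    have : MvPolynomial.C (a 0) * MvPolynomial.X i - MvPolynomial.C (a i.succ) = - yb a i := by
      rw [yb, neg_sub]; rfl
    show MvPolynomial.C (a 0) * MvPolynomial.X i - MvPolynomial.C (a i.succ) ∈ _
    rw [this]
    exact neg_mem (Ideal.subset_span ⟨i, rfl⟩)
  · rw [Ideal.span_le]
    rintro _ ⟨i, rfl⟩
    have : yb a i = - (MvPolynomial.C (a 0) * MvPolynomial.X i - MvPolynomial.C (a i.succ)) := by
      rw [yb, neg_sub]; rfl
    rw [this]
    exact neg_mem (Ideal.subset_span ⟨i, rfl⟩)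

theorem mem_Jb_of_C_mul_mem (ha : IsWeaklyRegular A (List.ofFn a)) (z : MvPolynomial (Fin n) A)
    (hz : MvPolynomial.C (a 0) * z ∈ Jb a) : z ∈ Jb a := by
  rw [Jb_eq] at hz ⊢
  exact mem_of_mul_mem_of_isWeaklyRegular_cons _ _ (isWeaklyRegular_blowup a ha) z hz

theorem mem_Jb_of_C_pow_mul_mem (ha : IsWeaklyRegular A (List.ofFn a)) (N : ℕ)
    (z : MvPolynomial (Fin n) A)
    (hz : MvPolynomial.C (a 0) ^ N * z ∈ Jb a) : z ∈ Jb a := by
  induction N with
  | zero => simpa using hz
  | succ N ih =>
    apply ih
    apply mem_Jb_of_C_mul_mem a ha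
    rw [← mul_assoc, ← pow_succ']
    exact hz

theorem exists_C_pow_mul_sub_mem (F : MvPolynomial (Fin n) A) :
    ∃ (N : ℕ) (c : A), MvPolynomial.C (a 0) ^ N * F - MvPolynomial.C c ∈ Jb a := by
  induction F using MvPolynomial.induction_on with
  | C r => exact ⟨0, r, by simp⟩
  | add F G hF hG =>
    obtain ⟨N, c, h⟩ := hF
    obtain ⟨N', c', h'⟩ := hG
    refine ⟨N + N', a 0 ^ N' * c + a 0 ^ N * c', ?_⟩
    have : MvPolynomial.C (a 0) ^ (N + N') * (F + G) -
        MvPolynomial.C (a 0 ^ N' * c + a 0 ^ N * c') =
        MvPolynomial.C (a 0) ^ N' * (MvPolynomial.C (a 0) ^ N * F - MvPolynomial.C c) +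
        MvPolynomial.C (a 0) ^ N * (MvPolynomial.C (a 0) ^ N' * G - MvPolynomial.C c') := by
      simp only [map_add, map_mul, map_pow]
      ring
    rw [this]
    exact add_mem (Ideal.mul_mem_left _ _ h) (Ideal.mul_mem_left _ _ h')
  | mul_X F i hF =>
    obtain ⟨N, c, h⟩ := hF
    refine ⟨N + 1, c * a i.succ, ?_⟩
    have : MvPolynomial.C (a 0) ^ (N + 1) * (F * MvPolynomial.X i) -
        MvPolynomial.C (c * a i.succ) =
        MvPolynomial.C (a 0) ^ N * F *
          (MvPolynomial.C (a 0) * MvPolynomial.X i - MvPolynomial.C (a i.succ)) +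
        MvPolynomial.C (a i.succ) * (MvPolynomial.C (a 0) ^ N * F - MvPolynomial.C c) := by
      simp only [map_mul]
      ring
    rw [this]
    exact add_mem (Ideal.mul_mem_left _ _ (Ideal.subset_span ⟨i, rfl⟩)) (Ideal.mul_mem_left _ _ h)

/-- **Presentation of the affine blow-up algebra.** -/
theorem ker_blowup (ha : IsWeaklyRegular A (List.ofFn a)) :
    RingHom.ker (MvPolynomial.aeval (R := A) (S₁ := Localization.Away (a 0))
      (fun i : Fin n => IsLocalization.mk' (Localization.Away (a 0)) (a i.succ)
        (⟨a 0, Submonoid.mem_powers (a 0)⟩ : Submonoid.powers (a 0)))) = Jb a := by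
  set φ := MvPolynomial.aeval (R := A) (S₁ := Localization.Away (a 0))
      (fun i : Fin n => IsLocalization.mk' (Localization.Away (a 0)) (a i.succ)
        (⟨a 0, Submonoid.mem_powers (a 0)⟩ : Submonoid.powers (a 0))) with hφ
  apply le_antisymm
  · intro F hF
    rw [RingHom.mem_ker] at hF
    obtain ⟨N, c, h⟩ := exists_C_pow_mul_sub_mem a F
    have hJ : Jb a ≤ RingHom.ker φ := by
      rw [Jb, Ideal.span_le]
      rintro _ ⟨i, rfl⟩
      rw [SetLike.mem_coe, RingHom.mem_ker, map_sub, map_mul, hφ, MvPolynomial.aeval_C,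
        MvPolynomial.aeval_X, MvPolynomial.aeval_C, sub_eq_zero]
      exact IsLocalization.mk'_spec' (Localization.Away (a 0)) (a i.succ)
        (⟨a 0, Submonoid.mem_powers (a 0)⟩ : Submonoid.powers (a 0))
    have h2 := hJ h
    rw [RingHom.mem_ker, map_sub, map_mul, map_pow, hF, mul_zero, zero_sub, neg_eq_zero, hφ,
      MvPolynomial.aeval_C] at h2
    obtain ⟨⟨_, m, rfl⟩, hm⟩ := (IsLocalization.map_eq_zero_iff (Submonoid.powers (a 0))
      (Localization.Away (a 0)) c).mp h2
    simp only at hm
    apply mem_Jb_of_C_pow_mul_mem a ha (m + N)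
    have : MvPolynomial.C (a 0) ^ (m + N) * F =
        MvPolynomial.C (a 0) ^ m * (MvPolynomial.C (a 0) ^ N * F - MvPolynomial.C c) +
          MvPolynomial.C (a 0 ^ m * c) := by
      simp only [map_mul, map_pow]
      ring
    rw [this, hm, map_zero, add_zero]
    exact Ideal.mul_mem_left _ _ h
  · rw [Jb, Ideal.span_le]
    rintro _ ⟨i, rfl⟩
    rw [SetLike.mem_coe, RingHom.mem_ker, map_sub, map_mul, hφ, MvPolynomial.aeval_C,
      MvPolynomial.aeval_X, MvPolynomial.aeval_C, sub_eq_zero]
    exact IsLocalization.mk'_spec' (Localization.Away (a 0)) (a i.succ)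
      (⟨a 0, Submonoid.mem_powers (a 0)⟩ : Submonoid.powers (a 0))

end Blowup2




/-- relations on a weakly regular sequence have coefficients in the ideal it generates -/
theorem coeff_mem_of_sum_eq_zero : ∀ {n : ℕ} (a : Fin n → A), IsWeaklyRegular A (List.ofFn a) →
    ∀ c : Fin n → A, ∑ i, c i * a i = 0 → ∀ i, c i ∈ Ideal.span (Set.range a) := by
  intro n
  induction n with
  | zero => intro a _ c _ i; exact i.elim0
  | succ n ih =>
    intro a ha c hc
    rw [List.ofFn_succ', List.concat_eq_append, isWeaklyRegular_append_singleton_iff] at ha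
    obtain ⟨ha1, ha2⟩ := ha
    rw [Fin.sum_univ_castSucc] at hc
    set a' : Fin n → A := fun i => a i.castSucc with ha'
    have hle : Ideal.span (Set.range a') ≤ Ideal.span (Set.range a) := by
      apply Ideal.span_mono
      rintro _ ⟨i, rfl⟩
      exact ⟨i.castSucc, rfl⟩
    have h1 : a (Fin.last n) * c (Fin.last n) ∈ Ideal.ofList (List.ofFn a') := by
      rw [ofList_ofFn]
      have : a (Fin.last n) * c (Fin.last n) = - ∑ i : Fin n, c i.castSucc * a' i := by
        rw [eq_neg_iff_add_eq_zero, add_comm, mul_comm (a (Fin.last n))]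
        exact hc
      rw [this]
      refine neg_mem (Ideal.sum_mem _ fun i _ => Ideal.mul_mem_left _ _ (Ideal.subset_span ⟨i, rfl⟩))
    have h2 := ha2 _ h1
    rw [ofList_ofFn] at h2
    obtain ⟨d, hd⟩ := (Ideal.mem_span_range_iff_exists_fun (R := A)).mp h2
    have h3 : ∑ i : Fin n, (c i.castSucc + d i * a (Fin.last n)) * a' i = 0 := by
      have : ∑ i : Fin n, (c i.castSucc + d i * a (Fin.last n)) * a' i =
          ∑ i : Fin n, c i.castSucc * a i.castSucc + (∑ i : Fin n, d i * a' i) * a (Fin.last n) := by
        rw [Finset.sum_mul, ← Finset.sum_add_distrib]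
        refine Finset.sum_congr rfl fun i _ => ?_
        ring
      rw [this, hd]
      exact hc
    have h4 := ih a' ha1 _ h3
    intro i
    refine Fin.lastCases ?_ (fun j => ?_) i
    · exact hle h2
    · have h5 := hle (h4 j)
      have h6 : d j * a (Fin.last n) ∈ Ideal.span (Set.range a) :=
        Ideal.mul_mem_left _ _ (Ideal.subset_span ⟨_, rfl⟩)
      have : c j.castSucc = (c j.castSucc + d j * a (Fin.last n)) - d j * a (Fin.last n) := by ring
      rw [this]
      exact sub_mem h5 h6




/-- an ideal generated by a weakly regular sequence of length `N` inside the maximal ideal of a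
local ring cannot be generated by fewer than `N` elements -/
theorem le_card_of_span_eq [IsLocalRing A] {N : ℕ} (a : Fin N → A)
    (ha : IsWeaklyRegular A (List.ofFn a))
    (ham : Ideal.span (Set.range a) ≤ IsLocalRing.maximalIdeal A)
    {ι : Type} [Fintype ι] (d : ι → A)
    (hd : Ideal.span (Set.range a) = Ideal.span (Set.range d)) : N ≤ Fintype.card ι := by
  classical
  -- matrices expressing one family in terms of the other
  have h1 : ∀ i, ∃ m : ι → A, ∑ j, m j * d j = a i := by
    intro i
    have : a i ∈ Ideal.span (Set.range d) := hd ▸ Ideal.subset_span ⟨i, rfl⟩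
    exact (Ideal.mem_span_range_iff_exists_fun (R := A)).mp this
  have h2 : ∀ j, ∃ k : Fin N → A, ∑ i, k i * a i = d j := by
    intro j
    have : d j ∈ Ideal.span (Set.range a) := hd.symm ▸ Ideal.subset_span ⟨j, rfl⟩
    exact (Ideal.mem_span_range_iff_exists_fun (R := A)).mp this
  choose M hM using h1
  choose K hK using h2
  let MM : Matrix (Fin N) ι A := Matrix.of M
  let KK : Matrix ι (Fin N) A := Matrix.of K
  have h3 : ∀ i i', (MM * KK) i i' - (1 : Matrix (Fin N) (Fin N) A) i i' ∈
      Ideal.span (Set.range a) := by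
    intro i
    apply coeff_mem_of_sum_eq_zero a ha
    have e1 : ∑ i', (MM * KK) i i' * a i' = a i := by
      simp only [Matrix.mul_apply, MM, KK, Matrix.of_apply, Finset.sum_mul]
      rw [Finset.sum_comm]
      rw [← hM i]
      refine Finset.sum_congr rfl fun j _ => ?_
      rw [← hK j, Finset.mul_sum]
      refine Finset.sum_congr rfl fun i' _ => ?_
      ring
    have e2 : ∑ i', (1 : Matrix (Fin N) (Fin N) A) i i' * a i' = a i := by
      simp [Matrix.one_apply]
    simp only [sub_mul, Finset.sum_sub_distrib, e1, e2, sub_self]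
  let res := IsLocalRing.residue A
  have h4 : (MM.map res) * (KK.map res) = 1 := by
    rw [← Matrix.map_mul]
    ext i i'
    have := ham (h3 i i')
    rw [← IsLocalRing.residue_eq_zero_iff, map_sub, sub_eq_zero] at this
    simp only [Matrix.map_apply]
    rw [this, Matrix.one_apply, Matrix.one_apply]
    split_ifs <;> simp
  have h5 : (1 : Matrix (Fin N) (Fin N) (IsLocalRing.ResidueField A)).rank = N := by
    rw [Matrix.rank_one, Fintype.card_fin]
  have h6 := Matrix.rank_mul_le_left (MM.map res) (KK.map res)
  rw [h4, h5] at h6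
  exact h6.trans (Matrix.rank_le_card_width _)




/-- replacing the last element of a regular sequence by a unit multiple plus something in the
ideal of the previous elements -/
theorem isRegular_replace_last (E : List A) (t r u v : A) (hu : IsUnit u) (hv : v ∈ Ideal.ofList E)
    (hr : r = u * t + v) (h : IsRegular A (E ++ [t])) : IsRegular A (E ++ [r]) := by
  obtain ⟨hw, hne⟩ := h
  rw [isWeaklyRegular_append_singleton_iff] at hw
  have hideal : Ideal.ofList (E ++ [r]) = Ideal.ofList (E ++ [t]) := by
    rw [Ideal.ofList_append, Ideal.ofList_append, Ideal.ofList_singleton, Ideal.ofList_singleton]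
    apply le_antisymm
    · refine sup_le le_sup_left ?_
      rw [Ideal.span_singleton_le_iff_mem, hr]
      exact add_mem (Ideal.mul_mem_left _ _ (Ideal.mem_sup_right (Ideal.mem_span_singleton_self t)))
        (Ideal.mem_sup_left hv)
    · refine sup_le le_sup_left ?_
      rw [Ideal.span_singleton_le_iff_mem]
      obtain ⟨w, hw'⟩ := hu.exists_left_inv
      have : t = w * r - w * v := by
        rw [hr]; linear_combination (-t) * hw'
      rw [this]
      exact sub_mem (Ideal.mul_mem_left _ _ (Ideal.mem_sup_right (Ideal.mem_span_singleton_self r)))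
        (Ideal.mul_mem_left _ _ (Ideal.mem_sup_left hv))
  refine ⟨?_, ?_⟩
  · rw [isWeaklyRegular_append_singleton_iff]
    refine ⟨hw.1, fun x hx => ?_⟩
    have h1 : t * (u * x) ∈ Ideal.ofList E := by
      have : t * (u * x) = r * x - v * x := by rw [hr]; ring
      rw [this]
      exact sub_mem hx (Ideal.mul_mem_right _ _ hv)
    have h2 := hw.2 _ h1
    obtain ⟨w, hw'⟩ := hu.exists_left_inv
    have : x = w * (u * x) := by rw [← mul_assoc, hw', one_mul]
    rw [this]
    exact Ideal.mul_mem_left _ _ h2
  · rw [hideal]; exact hne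




omit [CommRing A] in
theorem ofFn_update {n : ℕ} (s : Fin n → A) (k : Fin n) (r : A) :
    List.ofFn (Function.update s k r) = (List.ofFn s).set k r := by
  apply List.ext_getElem
  · simp
  · intro i h1 h2
    rw [List.getElem_ofFn, List.getElem_set, List.getElem_ofFn]
    by_cases hik : (k : ℕ) = i
    · rw [if_pos hik]
      have : (⟨i, by simpa using h1⟩ : Fin n) = k := Fin.ext hik.symm
      rw [this, Function.update_self]
    · rw [if_neg hik, Function.update_of_ne]
      intro h
      exact hik (by rw [← h])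

/-- replacing one element of a regular sequence (local Noetherian case) -/
theorem isRegular_update [IsLocalRing A] [IsNoetherianRing A] {n : ℕ} (s : Fin n → A)
    (hs : IsRegular A (List.ofFn s)) (k : Fin n) (e : Fin n → A) (hu : IsUnit (e k)) :
    IsRegular A (List.ofFn (Function.update s k (∑ j, e j * s j))) ∧
      Ideal.span (Set.range (Function.update s k (∑ j, e j * s j))) = Ideal.span (Set.range s) := by
  classical
  set r := ∑ j, e j * s j with hr
  set L := List.ofFn s with hL
  have hk : (k : ℕ) < L.length := by rw [hL, List.length_ofFn]; exact k.2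
  set E := L.eraseIdx k with hE
  have hLk : L[(k : ℕ)] = s k := by rw [List.getElem_ofFn]
  have hmemE : ∀ j, j ≠ k → s j ∈ E := by
    intro j hj
    rw [hE, List.mem_eraseIdx_iff_getElem]
    refine ⟨j, by rw [hL, List.length_ofFn]; exact j.2, fun h => hj (Fin.ext h), ?_⟩
    rw [List.getElem_ofFn]
  set v := ∑ j ∈ Finset.univ.erase k, e j * s j with hv
  have hrv : r = e k * s k + v := by
    rw [hr, hv]
    exact (Finset.add_sum_erase Finset.univ (fun j => e j * s j) (Finset.mem_univ k)).symm
  have hvE : v ∈ Ideal.ofList E := by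
    refine Ideal.sum_mem _ fun j hj => Ideal.mul_mem_left _ _ (Ideal.subset_span ?_)
    exact hmemE j (Finset.ne_of_mem_erase hj)
  have h1 : IsRegular A (E ++ [s k]) := by
    refine IsLocalRing.isRegular_of_perm hs ?_
    have := (List.getElem_cons_eraseIdx_perm hk).symm
    rw [hLk] at this
    exact this.trans (List.perm_append_singleton _ _).symm
  have h2 : IsRegular A (E ++ [r]) := isRegular_replace_last E (s k) r (e k) v hu hvE hrv h1
  refine ⟨?_, ?_⟩
  · rw [ofFn_update]
    refine IsLocalRing.isRegular_of_perm h2 ?_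
    exact (List.perm_append_singleton _ _).trans (List.set_perm_cons_eraseIdx hk r).symm
  · apply le_antisymm
    · rw [Ideal.span_le]
      rintro _ ⟨j, rfl⟩
      by_cases hj : j = k
      · rw [hj, Function.update_self]
        exact Ideal.sum_mem _ fun i _ => Ideal.mul_mem_left _ _ (Ideal.subset_span ⟨i, rfl⟩)
      · rw [Function.update_of_ne hj]
        exact Ideal.subset_span ⟨j, rfl⟩
    · rw [Ideal.span_le]
      rintro _ ⟨j, rfl⟩
      have hother : ∀ i, i ≠ k → s i ∈ Ideal.span (Set.range (Function.update s k r)) := by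
        intro i hi
        refine Ideal.subset_span ⟨i, ?_⟩
        rw [Function.update_of_ne hi]
      by_cases hj : j = k
      · rw [hj]
        obtain ⟨w, hw⟩ := hu.exists_left_inv
        have h3 : s k = w * r - w * v := by
          rw [hrv]; linear_combination (-(s k)) * hw
        rw [SetLike.mem_coe, h3]
        refine sub_mem (Ideal.mul_mem_left _ _ (Ideal.subset_span ⟨k, ?_⟩))
          (Ideal.mul_mem_left _ _ ?_)
        · rw [Function.update_self]
        · exact Ideal.sum_mem _ fun i hi =>
            Ideal.mul_mem_left _ _ (hother i (Finset.ne_of_mem_erase hi))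
      · exact hother j hj




theorem span_le_maximalIdeal_of_isRegular [IsLocalRing A] {n : ℕ} (a : Fin n → A)
    (ha : IsRegular A (List.ofFn a)) :
    Ideal.span (Set.range a) ≤ IsLocalRing.maximalIdeal A := by
  apply IsLocalRing.le_maximalIdeal
  intro h
  apply ha.top_ne_smul
  rw [ofList_smul_top, ofList_ofFn, h]

theorem exists_exchange [IsLocalRing A] [IsNoetherianRing A] {n : ℕ} (a b : Fin n → A)
    (ha : IsRegular A (List.ofFn a))
    (hab : Ideal.span (Set.range a) = Ideal.span (Set.range b)) :
    ∀ k ≤ n, ∃ a' : Fin n → A, IsRegular A (List.ofFn a') ∧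
      Ideal.span (Set.range a') = Ideal.span (Set.range b) ∧
        ∀ j : Fin n, (j : ℕ) < k → a' j = b j := by
  classical
  intro k
  induction k with
  | zero => intro _; exact ⟨a, ha, hab, fun j hj => absurd hj (Nat.not_lt_zero _)⟩
  | succ k ih =>
    intro hk
    obtain ⟨a', ha', hspan, hagree⟩ := ih (Nat.le_of_succ_le hk)
    set kk : Fin n := ⟨k, hk⟩ with hkk
    have hm := span_le_maximalIdeal_of_isRegular a' ha'
    have hbk : b kk ∈ Ideal.span (Set.range a') := by
      rw [hspan]; exact Ideal.subset_span ⟨kk, rfl⟩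
    obtain ⟨c, hc⟩ := (Ideal.mem_span_range_iff_exists_fun (R := A)).mp hbk
    -- some coefficient at an index `≥ k` is a unit
    have hunit : ∃ i : Fin n, k ≤ (i : ℕ) ∧ IsUnit (c i) := by
      by_contra hcon
      push Not at hcon
      let d : {j : Fin n // j ≠ kk} → A := fun j => b j
      have hd : Ideal.span (Set.range a') = Ideal.span (Set.range d) := by
        apply le_antisymm
        · have hfg : (Ideal.span (Set.range a')).FG :=
            Submodule.fg_span (Set.finite_range a')
          refine Submodule.le_of_le_smul_of_le_jacobson_bot (I := IsLocalRing.maximalIdeal A)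
            hfg (IsLocalRing.maximalIdeal_le_jacobson _) ?_
          conv_lhs => rw [hspan]
          rw [Ideal.span_le]
          rintro _ ⟨j, rfl⟩
          by_cases hj : j = kk
          · rw [hj, ← hc]
            refine Submodule.sum_mem _ fun i _ => ?_
            by_cases hik : (i : ℕ) < k
            · refine Submodule.mem_sup_left ?_
              rw [hagree i hik]
              have hne : i ≠ kk := fun h => by rw [h] at hik; exact lt_irrefl _ hik
              exact Ideal.mul_mem_left _ _ (Ideal.subset_span ⟨⟨i, hne⟩, rfl⟩)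
            · refine Submodule.mem_sup_right ?_
              have hci : c i ∈ IsLocalRing.maximalIdeal A := hcon i (not_lt.mp hik)
              rw [← smul_eq_mul]
              exact Submodule.smul_mem_smul hci (Ideal.subset_span ⟨i, rfl⟩)
          · exact Submodule.mem_sup_left (Ideal.subset_span ⟨⟨j, hj⟩, rfl⟩)
        · rw [Ideal.span_le]
          rintro _ ⟨j, rfl⟩
          rw [hspan]
          exact Ideal.subset_span ⟨j.1, rfl⟩
      have h1 := le_card_of_span_eq a' ha'.toIsWeaklyRegular hm d hd
      have h2 : Fintype.card {j : Fin n // j ≠ kk} = n - 1 := by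
        rw [Fintype.card_subtype_compl, Fintype.card_fin, Fintype.card_subtype_eq]
      rw [h2] at h1
      omega
    obtain ⟨i, hik, hu⟩ := hunit
    set σ : Equiv.Perm (Fin n) := Equiv.swap kk i with hσ
    set s : Fin n → A := a' ∘ σ with hs
    have hsreg : IsRegular A (List.ofFn s) :=
      IsLocalRing.isRegular_of_perm ha' (σ.ofFn_comp_perm a').symm
    have hsum : ∑ j, (c ∘ σ) j * s j = b kk := by
      rw [← hc]
      exact Equiv.sum_comp σ (fun j => c j * a' j)
    have hu' : IsUnit ((c ∘ σ) kk) := by
      rw [Function.comp_apply, hσ, Equiv.swap_apply_left]; exact hu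
    obtain ⟨h1, h2⟩ := isRegular_update s hsreg kk (c ∘ σ) hu'
    rw [hsum] at h1 h2
    refine ⟨Function.update s kk (b kk), h1, ?_, ?_⟩
    · rw [h2, hs, σ.surjective.range_comp, hspan]
    · intro j hj
      by_cases hjk : j = kk
      · rw [hjk, Function.update_self]
      · rw [Function.update_of_ne hjk]
        have hjlt : (j : ℕ) < k := by
          have : (j : ℕ) ≠ k := fun h => hjk (Fin.ext h)
          omega
        have hji : j ≠ i := fun h => by rw [h] at hjlt; omega
        rw [hs, Function.comp_apply, hσ, Equiv.swap_apply_of_ne_of_ne hjk hji]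
        exact hagree j hjlt

/-- **Any `n` generators of an ideal generated by a regular sequence of length `n` in a Noetherian
local ring form a regular sequence.** -/
theorem isRegular_of_span_eq [IsLocalRing A] [IsNoetherianRing A] {n : ℕ} (a b : Fin n → A)
    (ha : IsRegular A (List.ofFn a))
    (hab : Ideal.span (Set.range a) = Ideal.span (Set.range b)) : IsRegular A (List.ofFn b) := by
  obtain ⟨a', ha', -, hagree⟩ := exists_exchange a b ha hab n le_rfl
  have : a' = b := funext fun j => hagree j j.2
  rw [← this]; exact ha'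


end Groth.Agent.Lib.Helper20.RegSeqElem
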