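import Mathlib.AlgebraicGeometry.SpreadingOut
import Mathlib.AlgebraicGeometry.Morphisms.FinitePresentation
import Mathlib.AlgebraicGeometry.Birational.RationalMap

set_option autoImplicit false
universe u
open CategoryTheory CategoryTheory.Limits AlgebraicGeometry

namespace Groth.Agent.Lib.Helper20

variable {X : Scheme.{u}} {R A : CommRingCat.{u}}

lemma res_res (X : Scheme.{u}) {U₁ U₂ U₃ : X.Opens} (h12 : U₁ ≤ U₂) (h23 : U₂ ≤ U₃)
    (s : Γ(X, U₃)) :
    (X.presheaf.map (homOfLE h12).op).hom ((X.presheaf.map (homOfLE h23).op).hom s) =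
      (X.presheaf.map (homOfLE (h12.trans h23)).op).hom s := by
  rw [← CommRingCat.comp_apply, ← Functor.map_comp]
  rfl

set_option backward.isDefEq.respectTransparency.types false in
/-- Lifting a ring map `A ⟶ 𝒪_{X,x}` over `R` to sections on a neighbourhood, for `A` of finite
presentation over `R` (no germ-injectivity needed). -/
lemma exists_lift_of_finitePresentation {U : X.Opens} {x : X} (hxU : x ∈ U)
    (φ : A ⟶ X.presheaf.stalk x) (φRA : R ⟶ A) (φRX : R ⟶ Γ(X, U))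
    (hφRA : RingHom.FinitePresentation φRA.hom)
    (e : φRA ≫ φ = φRX ≫ X.presheaf.germ U x hxU) :
    ∃ (V : X.Opens) (hxV : x ∈ V) (φ' : A ⟶ Γ(X, V)) (i : V ≤ U), IsAffineOpen V ∧
      φ = φ' ≫ X.presheaf.germ V x hxV ∧ φRX ≫ X.presheaf.map i.hom.op = φRA ≫ φ' := by
  classical
  let := φRA.hom.toAlgebra
  obtain ⟨n, π, hπ, s, hs⟩ := hφRA
  -- Step 1: lift the images of the variables
  choose W hxW a ha using fun i : Fin n ↦ X.presheaf.exists_germ_eq (φ (π (MvPolynomial.X i)))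
  let V₀ : X.Opens := (Finset.univ.inf W) ⊓ U
  have hxV₀ : x ∈ V₀ := by
    rw [← SetLike.mem_coe, TopologicalSpace.Opens.coe_inf, TopologicalSpace.Opens.coe_finset_inf]
    exact ⟨by simpa using fun i ↦ hxW i, hxU⟩
  have hV₀W : ∀ i, V₀ ≤ W i := fun i => inf_le_left.trans (Finset.inf_le (Finset.mem_univ i))
  let ρ : R →+* Γ(X, V₀) := (φRX ≫ X.presheaf.map (homOfLE (inf_le_right : V₀ ≤ U)).op).hom
  let ψ₀ : MvPolynomial (Fin n) R →+* Γ(X, V₀) :=
    MvPolynomial.eval₂Hom ρ (fun i => X.presheaf.map (homOfLE (hV₀W i)).op (a i))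
  have hψ₀ : (X.presheaf.germ V₀ x hxV₀).hom.comp ψ₀ = φ.hom.comp π.toRingHom := by
    apply MvPolynomial.ringHom_ext
    · intro r
      simp only [RingHom.coe_comp, Function.comp_apply, ψ₀, MvPolynomial.coe_eval₂Hom,
        MvPolynomial.eval₂_C, ρ, CommRingCat.hom_comp]
      rw [TopCat.Presheaf.germ_res_apply]
      have := congr($(e).hom r)
      simp only [CommRingCat.hom_comp, RingHom.coe_comp, Function.comp_apply] at this
      rw [← this]
      congr 1
      exact (π.commutes r).symm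
    · intro i
      simp only [RingHom.coe_comp, Function.comp_apply, ψ₀, MvPolynomial.coe_eval₂Hom,
        MvPolynomial.eval₂_X]
      rw [TopCat.Presheaf.germ_res_apply]
      exact ha i
  -- Step 2: the relations vanish on a smaller neighbourhood
  have hrel : ∀ r : s, ∃ (V : X.Opens) (_ : x ∈ V) (hV : V ≤ V₀),
      X.presheaf.map (homOfLE hV).op (ψ₀ r) = 0 := by
    intro r
    have h0 : X.presheaf.germ V₀ x hxV₀ (ψ₀ r) = X.presheaf.germ V₀ x hxV₀ 0 := by
      rw [map_zero]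
      have := congr($hψ₀ r)
      simp only [RingHom.coe_comp, Function.comp_apply] at this
      rw [this]
      have hr : (r : MvPolynomial (Fin n) R) ∈ RingHom.ker π.toRingHom :=
        hs ▸ Ideal.subset_span r.2
      rw [RingHom.mem_ker] at hr
      rw [hr, map_zero]
    obtain ⟨W', hxW', i₁, i₂, h⟩ := X.presheaf.germ_eq x hxV₀ hxV₀ _ _ h0
    have h' : X.presheaf.map i₁.op (ψ₀ r) = 0 := by rw [h, map_zero]
    exact ⟨W', hxW', i₁.le, h'⟩
  choose V' hxV' hV' hV'0 using hrel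
  let V₁ : X.Opens := (Finset.univ.inf V') ⊓ V₀
  have hxV₁ : x ∈ V₁ := by
    rw [← SetLike.mem_coe, TopologicalSpace.Opens.coe_inf, TopologicalSpace.Opens.coe_finset_inf]
    exact ⟨by simpa using fun r hr ↦ hxV' ⟨r, hr⟩, hxV₀⟩
  -- Step 3: an affine neighbourhood inside
  obtain ⟨_, ⟨V, hV, rfl⟩, hxV, hVV₁⟩ :=
    X.isBasis_affineOpens.exists_subset_of_mem_open hxV₁ V₁.2
  have hVV₀ : V ≤ V₀ := fun y hy => (hVV₁ hy).2
  have hVV' : ∀ r : s, V ≤ V' r := fun r y hy =>
    (Finset.inf_le (Finset.mem_univ r) : Finset.univ.inf V' ≤ V' r) (hVV₁ hy).1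
  let ψ : MvPolynomial (Fin n) R →+* Γ(X, V) :=
    (X.presheaf.map (homOfLE hVV₀).op).hom.comp ψ₀
  have hψker : RingHom.ker π.toRingHom ≤ RingHom.ker ψ := by
    rw [← hs, Ideal.span_le]
    intro r hr
    rw [SetLike.mem_coe, RingHom.mem_ker]
    have h1 := hV'0 ⟨r, hr⟩
    have h2 : ψ r = X.presheaf.map (homOfLE (hVV' ⟨r, hr⟩)).op
        (X.presheaf.map (homOfLE (hV' ⟨r, hr⟩)).op (ψ₀ r)) := by
      simp only [ψ, RingHom.coe_comp, Function.comp_apply]
      rw [← ConcreteCategory.comp_apply, ← Functor.map_comp]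
      rfl
    rw [h2, h1, map_zero]
  let φ'₀ : A →+* Γ(X, V) := RingHom.liftOfSurjective π.toRingHom hπ ⟨ψ, hψker⟩
  have hφ'₀ : φ'₀.comp π.toRingHom = ψ := RingHom.liftOfSurjective_comp π.toRingHom hπ ⟨ψ, hψker⟩
  refine ⟨V, hxV, CommRingCat.ofHom φ'₀, hVV₀.trans inf_le_right, hV, ?_, ?_⟩
  · ext1
    apply RingHom.cancel_right (f := π.toRingHom) hπ |>.mp
    rw [← hψ₀, CommRingCat.hom_comp, CommRingCat.hom_ofHom, RingHom.comp_assoc, hφ'₀]
    refine RingHom.ext fun t => ?_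
    simp only [ψ, RingHom.coe_comp, Function.comp_apply]
    exact (TopCat.Presheaf.germ_res_apply X.presheaf (homOfLE hVV₀) x hxV (ψ₀ t)).symm
  · ext r
    simp only [CommRingCat.hom_comp, CommRingCat.hom_ofHom, RingHom.coe_comp, Function.comp_apply]
    have h1 : φRA.hom r = π.toRingHom (MvPolynomial.C r) := (π.commutes r).symm
    rw [h1]
    have h2 := congr($hφ'₀ (MvPolynomial.C r))
    simp only [RingHom.coe_comp, Function.comp_apply] at h2
    rw [h2]
    simp only [ψ, ψ₀, RingHom.coe_comp, Function.comp_apply, MvPolynomial.coe_eval₂Hom,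
      MvPolynomial.eval₂_C, ρ, CommRingCat.hom_comp]
    exact (res_res X hVV₀ inf_le_right (φRX.hom r)).symm

variable {S Y : Scheme.{u}} (sX : X ⟶ S) (sY : Y ⟶ S)

set_option backward.isDefEq.respectTransparency.types false in
/-- Spreading out a local homomorphism of stalks to a morphism on a neighbourhood, for `Y` locally
of finite presentation over `S` (no germ-injectivity needed on `X`). -/
lemma spread_out_of_locallyOfFinitePresentation [LocallyOfFinitePresentation sY] {x : X} {y : Y}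
    (e : sX x = sY y) (φ : Y.presheaf.stalk y ⟶ X.presheaf.stalk x)
    (h : sY.stalkMap y ≫ φ =
      S.presheaf.stalkSpecializes (Inseparable.of_eq e).specializes ≫ sX.stalkMap x) :
    ∃ (U : X.Opens) (hxU : x ∈ U) (f : U.toScheme ⟶ Y),
      Spec.map φ ≫ Y.fromSpecStalk y = U.fromSpecStalkOfMem x hxU ≫ f ∧
      f ≫ sY = U.ι ≫ sX := by
  obtain ⟨_, ⟨U, hU, rfl⟩, hxU, -⟩ :=
    S.isBasis_affineOpens.exists_subset_of_mem_open (Set.mem_univ (sX x)) isOpen_univ
  have hyU : sY y ∈ U := e ▸ hxU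
  obtain ⟨_, ⟨V : Y.Opens, hV, rfl⟩, hyV, iVU⟩ :=
    Y.isBasis_affineOpens.exists_subset_of_mem_open hyU (sY ⁻¹ᵁ U).2
  have : sY.appLE U V iVU ≫ Y.presheaf.germ V y hyV ≫ φ =
      sX.app U ≫ X.presheaf.germ (sX ⁻¹ᵁ U) x hxU := by
    rw [Scheme.Hom.appLE, Category.assoc, Y.presheaf.germ_res_assoc,
      ← Scheme.Hom.germ_stalkMap_assoc, h]
    simp
  obtain ⟨W, hxW, φ', i, hW, h₁, h₂⟩ :=
    exists_lift_of_finitePresentation (R := Γ(S, U)) (A := Γ(Y, V)) (U := sX ⁻¹ᵁ U) (x := x) hxU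
    (Y.presheaf.germ _ y hyV ≫ φ) (sY.appLE U V iVU) (sX.app U)
    (sY.finitePresentation_appLE hU hV _) this
  refine ⟨W, hxW, W.toSpecΓ ≫ Spec.map φ' ≫ hV.fromSpec, ?_, ?_⟩
  · rw [W.fromSpecStalkOfMem_toSpecΓ_assoc x hxW, ← Spec.map_comp_assoc, ← h₁,
      Spec.map_comp, Category.assoc, ← IsAffineOpen.fromSpecStalk,
      IsAffineOpen.fromSpecStalk_eq_fromSpecStalk]
  · simp only [Category.assoc]
    rw [← IsAffineOpen.SpecMap_appLE_fromSpec sY hU hV iVU, ← Spec.map_comp_assoc, ← h₂,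
      ← Scheme.Hom.appLE, ← hW.isoSpec_hom, IsAffineOpen.SpecMap_appLE_fromSpec sX hU hW i,
      ← Iso.eq_inv_comp, IsAffineOpen.isoSpec_inv_ι_assoc]

set_option backward.isDefEq.respectTransparency.types false in
lemma spread_out_of_locallyOfFinitePresentation' [LocallyOfFinitePresentation sY] {x : X}
    (φ : Spec (X.presheaf.stalk x) ⟶ Y)
    (h : φ ≫ sY = X.fromSpecStalk x ≫ sX) :
    ∃ (U : X.Opens) (hxU : x ∈ U) (f : U.toScheme ⟶ Y),
      φ = U.fromSpecStalkOfMem x hxU ≫ f ∧ f ≫ sY = U.ι ≫ sX := by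
  have := spread_out_of_locallyOfFinitePresentation sX sY ?_ (Scheme.stalkClosedPointTo φ) ?_
  · simpa only [Scheme.Spec_stalkClosedPointTo_fromSpecStalk] using this
  · rw [← Scheme.Hom.comp_apply, h, Scheme.Hom.comp_apply, Scheme.fromSpecStalk_closedPoint]
  · apply Spec.map_injective
    rw [← cancel_mono (S.fromSpecStalk _)]
    simpa only [Spec.map_comp, Category.assoc, Scheme.SpecMap_stalkMap_fromSpecStalk,
      Scheme.Spec_stalkClosedPointTo_fromSpecStalk_assoc,
      Scheme.SpecMap_stalkSpecializes_fromSpecStalk]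

end Groth.Agent.Lib.Helper20
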