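import Mathlib
import Groth.Agent.S1879

/-!
# Norm-type function for finite projective ring maps (via charpoly with a complement)

For `φ : A →+* B` and a complement `e : (B × Q) ≃ₗ[A] (Fin n → A)`:
* `chi φ n e b` is the charpoly of `(b·) ⊕ 0` on `B ⊕ Q ≅ A^n`;
* `nm φ n e b := (chi φ n e (1 - b)).eval 1` (= `det ((b·) ⊕ 1)`), a norm-type element of `A`;
* `nm_mem_iff`: `nm b ∈ p ↔ b` lies in some prime of `B` over `p`.
-/

set_option autoImplicit false
set_option linter.style.haveILetI false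
set_option linter.unusedSimpArgs false
universe u
open CategoryTheory CategoryTheory.Limits Polynomial TensorProduct

namespace Groth.Agent.Lib.Helper20.HA

/-- charpoly of `(b·) ⊕ 0` on `B ⊕ Q ≅ A^n`. -/
noncomputable def chi {A B : Type u} [CommRing A] [CommRing B] (φ : A →+* B) {Q : Type u}
    [AddCommGroup Q] [Module A Q] (n : ℕ)
    (e : letI := φ.toAlgebra; (B × Q) ≃ₗ[A] (Fin n → A)) (b : B) : A[X] :=
  letI := φ.toAlgebra
  (e.conj ((Algebra.lmul A B b).prodMap (0 : Module.End A Q))).charpoly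

/-- norm-type element: `det ((b·) ⊕ 1)` written as `chi (1 - b)` evaluated at `1`. -/
noncomputable def nm {A B : Type u} [CommRing A] [CommRing B] (φ : A →+* B) {Q : Type u}
    [AddCommGroup Q] [Module A Q] (n : ℕ)
    (e : letI := φ.toAlgebra; (B × Q) ≃ₗ[A] (Fin n → A)) (b : B) : A :=
  (chi φ n e (1 - b)).eval 1

theorem chi_monic {A B : Type u} [CommRing A] [CommRing B] (φ : A →+* B) {Q : Type u}
    [AddCommGroup Q] [Module A Q] (n : ℕ)
    (e : letI := φ.toAlgebra; (B × Q) ≃ₗ[A] (Fin n → A)) (b : B) : (chi φ n e b).Monic := by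
  letI := φ.toAlgebra
  exact LinearMap.charpoly_monic _

theorem aeval_chi {A B : Type u} [CommRing A] [CommRing B] (φ : A →+* B) {Q : Type u}
    [AddCommGroup Q] [Module A Q] (n : ℕ)
    (e : letI := φ.toAlgebra; (B × Q) ≃ₗ[A] (Fin n → A)) (b : B) :
    (chi φ n e b).eval₂ φ b = 0 := by
  letI := φ.toAlgebra
  have := Groth.Agent.S1879.aeval_charpoly_compl e b
  rwa [Polynomial.aeval_def] at this

/-- Over a field, `1` is a root of the charpoly of `(1 - b)·` iff `b` is not a unit. -/
theorem isRoot_one_iff {K V : Type u} [Field K] [CommRing V] [Algebra K V] [Module.Finite K V]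
    (b : V) : ((Algebra.lmul K V (1 - b)).charpoly).IsRoot 1 ↔ ¬ IsUnit b := by
  rw [← Module.End.hasEigenvalue_iff_isRoot_charpoly]
  constructor
  · intro h hu
    obtain ⟨v, hv⟩ := h.exists_hasEigenvector
    have h1 := hv.apply_eq_smul
    have h2 : b * v = 0 := by simpa using h1
    have h3 : v = 0 := by
      obtain ⟨u, rfl⟩ := hu
      simpa using congrArg (fun x => (↑u⁻¹ : V) * x) h2
    exact hv.2 h3
  · intro hu
    by_contra hne
    apply hu
    have hinj : Function.Injective (Algebra.lmul K V b) := by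
      rw [← LinearMap.ker_eq_bot, LinearMap.ker_eq_bot']
      intro v hv
      by_contra hv0
      apply hne
      refine Module.End.hasEigenvalue_of_hasEigenvector (x := v) ⟨?_, hv0⟩
      rw [Module.End.mem_eigenspace_iff]
      have : b * v = 0 := by simpa using hv
      simp only [one_smul]
      show (1 - b) * v = v
      linear_combination -this
    have hsurj : Function.Surjective (Algebra.lmul K V b) :=
      LinearMap.injective_iff_surjective.mp hinj
    obtain ⟨v, hv⟩ := hsurj 1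
    exact IsUnit.of_mul_eq_one v (by simpa using hv)

theorem finite_of_compl {A B : Type u} [CommRing A] [CommRing B] (φ : A →+* B) {Q : Type u}
    [AddCommGroup Q] [Module A Q] (n : ℕ)
    (e : letI := φ.toAlgebra; (B × Q) ≃ₗ[A] (Fin n → A)) :
    letI := φ.toAlgebra; Module.Finite A B := by
  letI := φ.toAlgebra
  refine Module.Finite.of_surjective ((LinearMap.fst A B Q) ∘ₗ e.symm.toLinearMap) ?_
  intro b
  exact ⟨e (b, 0), by simp⟩

theorem isRoot_map_chi_iff' {A B K V : Type u} [CommRing A] [CommRing B] [Field K] [CommRing V]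
    (φ : A →+* B) (ψ : A →+* K) (φ' : K →+* V) (ψ' : B →+* V)
    (sq : IsPushout (CommRingCat.ofHom ψ) (CommRingCat.ofHom φ) (CommRingCat.ofHom φ')
      (CommRingCat.ofHom ψ')) {Q : Type u}
    [AddCommGroup Q] [Module A Q] (n : ℕ)
    (e : letI := φ.toAlgebra; (B × Q) ≃ₗ[A] (Fin n → A)) (b : B) :
    ((chi φ n e (1 - b)).map ψ).IsRoot 1 ↔ ¬ IsUnit (ψ' b) := by
  letI := φ.toAlgebra
  obtain ⟨Q', N', _, _, _, _, _, _, e', hrk, h⟩ := Groth.Agent.S1879.charpoly_map_pushout
    φ ψ φ' ψ' sq n e (1 - b)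
  letI algKV : Algebra K V := φ'.toAlgebra
  have hchi : chi φ n e (1 - b) =
      (e.conj ((Algebra.lmul A B (1 - b)).prodMap (0 : Module.End A Q))).charpoly := rfl
  rw [hchi, ← h]
  haveI : Module.Finite K V :=
    Module.Finite.of_surjective ((LinearMap.fst K _ Q') ∘ₗ e'.symm.toLinearMap)
      (fun x => ⟨e' (x, 0), by simp⟩)
  haveI : Module.Finite K Q' :=
    Module.Finite.of_surjective ((LinearMap.snd K _ Q') ∘ₗ e'.symm.toLinearMap)
      (fun x => ⟨e' (0, x), by simp⟩)
  rw [LinearEquiv.charpoly_conj, LinearMap.charpoly_prodMap, LinearMap.charpoly_zero,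
    Polynomial.IsRoot, Polynomial.eval_mul, Polynomial.eval_pow, Polynomial.eval_X, one_pow,
    mul_one, map_sub, map_one]
  exact isRoot_one_iff (K := K) (V := V) (ψ' b)

theorem isRoot_map_chi_iff {A B : Type u} [CommRing A] [CommRing B] (φ : A →+* B) {Q : Type u}
    [AddCommGroup Q] [Module A Q] (n : ℕ)
    (e : letI := φ.toAlgebra; (B × Q) ≃ₗ[A] (Fin n → A)) (b : B)
    (K : Type u) [Field K] [Algebra A K] :
    letI := φ.toAlgebra
    ((chi φ n e (1 - b)).map (algebraMap A K)).IsRoot 1 ↔ ¬ IsUnit ((1 : K) ⊗ₜ[A] b) := by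
  letI := φ.toAlgebra
  have sq : IsPushout (CommRingCat.ofHom (algebraMap A K)) (CommRingCat.ofHom φ)
      (CommRingCat.ofHom (Algebra.TensorProduct.includeLeftRingHom : K →+* K ⊗[A] B))
      (CommRingCat.ofHom (Algebra.TensorProduct.includeRight.toRingHom : B →+* K ⊗[A] B)) :=
    CommRingCat.isPushout_tensorProduct A K B
  exact isRoot_map_chi_iff' φ (algebraMap A K) _ _ sq n e b

theorem nm_mem_iff {A B : Type u} [CommRing A] [CommRing B] (φ : A →+* B) {Q : Type u}
    [AddCommGroup Q] [Module A Q] (n : ℕ)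
    (e : letI := φ.toAlgebra; (B × Q) ≃ₗ[A] (Fin n → A)) (b : B) (p : Ideal A) [hp : p.IsPrime] :
    nm φ n e b ∈ p ↔ ∃ q : Ideal B, q.IsPrime ∧ q.comap φ = p ∧ b ∈ q := by
  letI := φ.toAlgebra
  have h1 : nm φ n e b ∈ p ↔ ((chi φ n e (1 - b)).map (algebraMap A p.ResidueField)).IsRoot 1 := by
    rw [Polynomial.IsRoot, Polynomial.eval_one_map, nm, Ideal.algebraMap_residueField_eq_zero]
  rw [h1, isRoot_map_chi_iff φ n e b p.ResidueField]
  constructor
  · intro hu
    obtain ⟨M, hM, hbM⟩ := exists_max_ideal_of_mem_nonunits hu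
    haveI := hM.isPrime
    let P : PrimeSpectrum (p.Fiber B) := ⟨M, hM.isPrime⟩
    let q' := (PrimeSpectrum.preimageEquivFiber A B ⟨p, hp⟩).symm P
    refine ⟨q'.1.asIdeal, q'.1.isPrime, ?_, ?_⟩
    · have := q'.2
      simp only [Set.mem_preimage, Set.mem_singleton_iff] at this
      exact congrArg PrimeSpectrum.asIdeal this
    · show b ∈ M.comap Algebra.TensorProduct.includeRight.toRingHom
      exact hbM
  · rintro ⟨q, hq, hqp, hbq⟩ hu
    let q' : (PrimeSpectrum.comap (algebraMap A B)) ⁻¹' {⟨p, hp⟩} := ⟨⟨q, hq⟩, by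
      simp only [Set.mem_preimage, Set.mem_singleton_iff]
      ext1
      exact hqp⟩
    let P := PrimeSpectrum.preimageEquivFiber A B ⟨p, hp⟩ q'
    have h2 : (PrimeSpectrum.preimageEquivFiber A B ⟨p, hp⟩).symm P = q' := Equiv.symm_apply_apply _ _
    have h3 : b ∈ ((PrimeSpectrum.preimageEquivFiber A B ⟨p, hp⟩).symm P).1.asIdeal := by
      rw [h2]; exact hbq
    have h4 : (1 : p.ResidueField) ⊗ₜ[A] b ∈ P.asIdeal := h3
    exact P.isPrime.ne_top (Ideal.eq_top_of_isUnit_mem _ h4 hu)

end Groth.Agent.Lib.Helper20.HA
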