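import Mathlib
import Groth.Agent.Lib.Helper20.HA1

/-!
# Ring-level data of a finite locally free groupoid on affine schemes

`Data A B P`: `A = Γ(U)`, `B = Γ(R)`, `P = Γ(R ×_{s,U,t} R)` with `s t : A → B`, `e : B → A`,
`p1 p2 c : B → P` and the two pushout squares `P = B ⊗_{s,A,t} B` (via `p1, p2`) and
`P = B ⊗_{s,A,s} B` (via `c, p2`).  `inv D = eqLocus s t` is the ring of invariants.

Main results: `isIntegral` (A integral over invariants), `nm_mem_inv`, `exists_prime_of_comap_eq`
(fibres of `Spec A → Spec C` are orbits).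
-/

set_option autoImplicit false
set_option linter.style.haveILetI false
set_option linter.unusedSimpArgs false
universe u
open CategoryTheory CategoryTheory.Limits Polynomial TensorProduct

namespace Groth.Agent.Lib.Helper20.HA

structure Data (A B P : Type u) [CommRing A] [CommRing B] [CommRing P] where
  s : A →+* B
  t : A →+* B
  e : B →+* A
  p1 : B →+* P
  p2 : B →+* P
  c : B →+* P
  es : ∀ a, e (s a) = a
  et : ∀ a, e (t a) = a
  sq1 : IsPushout (CommRingCat.ofHom t) (CommRingCat.ofHom s) (CommRingCat.ofHom p2)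
    (CommRingCat.ofHom p1)
  sq2 : IsPushout (CommRingCat.ofHom s) (CommRingCat.ofHom s) (CommRingCat.ofHom p2)
    (CommRingCat.ofHom c)
  ct : ∀ a, c (t a) = p1 (t a)
  fin : letI := s.toAlgebra; Module.Finite A B
  proj : letI := s.toAlgebra; Module.Projective A B

namespace Data

variable {A B P : Type u} [CommRing A] [CommRing B] [CommRing P] (D : Data A B P)

/-- the ring of invariants -/
def inv : Subring A := RingHom.eqLocus D.s D.t

theorem mem_inv {a : A} : a ∈ D.inv ↔ D.s a = D.t a := Iff.rfl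

theorem exists_compl : ∃ (n : ℕ) (Q : Type u) (_ : AddCommGroup Q) (_ : Module A Q),
    Nonempty (letI := D.s.toAlgebra; (B × Q) ≃ₗ[A] (Fin n → A)) := by
  letI := D.s.toAlgebra
  haveI := D.fin
  haveI := D.proj
  exact Groth.Agent.S1879.exists_compl A B

theorem chi_map_eq {Q : Type u} [AddCommGroup Q] [Module A Q] (n : ℕ)
    (e : letI := D.s.toAlgebra; (B × Q) ≃ₗ[A] (Fin n → A)) (f : A) :
    (chi D.s n e (D.t f)).map D.t = (chi D.s n e (D.t f)).map D.s :=
  Groth.Agent.S1879.charpoly_map_eq D.s D.t D.s D.p2 D.p1 D.c D.sq1 D.sq2 n e (D.t f)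
    (D.ct f).symm

theorem chi_coeff_mem {Q : Type u} [AddCommGroup Q] [Module A Q] (n : ℕ)
    (e : letI := D.s.toAlgebra; (B × Q) ≃ₗ[A] (Fin n → A)) (f : A) (i : ℕ) :
    (chi D.s n e (D.t f)).coeff i ∈ D.inv := by
  rw [mem_inv, ← Polynomial.coeff_map, ← Polynomial.coeff_map, D.chi_map_eq]

theorem chi_eval {Q : Type u} [AddCommGroup Q] [Module A Q] (n : ℕ)
    (e : letI := D.s.toAlgebra; (B × Q) ≃ₗ[A] (Fin n → A)) (f : A) :
    (chi D.s n e (D.t f)).eval f = 0 := by
  have h1 := congrArg D.e (aeval_chi D.s n e (D.t f))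
  rw [Polynomial.hom_eval₂, map_zero] at h1
  have h2 : D.e.comp D.s = RingHom.id _ := by ext a; exact D.es a
  rw [h2, D.et, Polynomial.eval₂_id] at h1
  exact h1

theorem nm_mem_inv {Q : Type u} [AddCommGroup Q] [Module A Q] (n : ℕ)
    (e : letI := D.s.toAlgebra; (B × Q) ≃ₗ[A] (Fin n → A)) (f : A) :
    nm D.s n e (D.t f) ∈ D.inv := by
  rw [mem_inv, nm]
  have h1 : (1 : B) - D.t f = D.t (1 - f) := by rw [map_sub, map_one]
  rw [h1, ← Polynomial.eval_one_map, ← Polynomial.eval_one_map, D.chi_map_eq]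

theorem isIntegral : Algebra.IsIntegral D.inv A := by
  obtain ⟨n, Q, _, _, ⟨e⟩⟩ := D.exists_compl
  constructor
  intro f
  have hsub : (↑(chi D.s n e (D.t f)).coeffs : Set A) ⊆ D.inv := by
    intro x hx
    obtain ⟨i, -, rfl⟩ := Polynomial.mem_coeffs_iff.mp hx
    exact D.chi_coeff_mem n e f i
  refine ⟨(chi D.s n e (D.t f)).toSubring D.inv hsub,
    (Polynomial.monic_toSubring _ _ _).mpr (chi_monic D.s n e _), ?_⟩
  rw [Polynomial.eval₂_eq_eval_map]
  have : ((chi D.s n e (D.t f)).toSubring D.inv hsub).map (algebraMap D.inv A) =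
      chi D.s n e (D.t f) := Polynomial.map_toSubring _ _ _
  rw [this]
  exact D.chi_eval n e f

/-- invariants cannot distinguish source and target of a prime of `B`. -/
theorem comap_inv_eq (q : Ideal B) :
    (q.comap D.s).comap D.inv.subtype = (q.comap D.t).comap D.inv.subtype := by
  ext ⟨x, hx⟩
  simp only [Ideal.mem_comap, Subring.coe_subtype]
  rw [D.mem_inv.mp hx]

/-- Fibres of `Spec A → Spec C` are orbits. -/
theorem exists_prime_of_comap_eq (p0 p1 : Ideal A) [hp0 : p0.IsPrime] [hp1 : p1.IsPrime]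
    (h : p0.comap D.inv.subtype = p1.comap D.inv.subtype) :
    ∃ q : Ideal B, q.IsPrime ∧ q.comap D.s = p0 ∧ q.comap D.t = p1 := by
  classical
  obtain ⟨n, Q, _, _, ⟨e⟩⟩ := D.exists_compl
  letI := D.s.toAlgebra
  haveI := D.fin
  haveI := D.isIntegral
  by_contra hne
  push Not at hne
  have hfin : ((fun q : PrimeSpectrum B => q.asIdeal.comap D.t) ''
      (PrimeSpectrum.comap (algebraMap A B) ⁻¹' {⟨p0, hp0⟩})).Finite :=
    (Algebra.QuasiFinite.finite_comap_preimage_singleton (R := A) (S := B) ⟨p0, hp0⟩).image _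
  have hO : ∀ p ∈ hfin.toFinset, ∃ q : Ideal B, q.IsPrime ∧ q.comap D.s = p0 ∧ q.comap D.t = p := by
    intro p hp
    rw [Set.Finite.mem_toFinset] at hp
    obtain ⟨q, hq, rfl⟩ := hp
    simp only [Set.mem_preimage, Set.mem_singleton_iff] at hq
    exact ⟨q.asIdeal, q.isPrime, congrArg PrimeSpectrum.asIdeal hq, rfl⟩
  have hnot : ¬ ((p1 : Set A) ⊆ ⋃ p ∈ (↑hfin.toFinset : Set (Ideal A)), (p : Set A)) := by
    intro hsub
    have := (Ideal.subset_union_prime (s := hfin.toFinset) (f := fun p => p) p0 p0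
      (fun p hp _ _ => by
        obtain ⟨q, hq, _, rfl⟩ := hO p hp
        exact Ideal.comap_isPrime _ _) (I := p1)).mp hsub
    obtain ⟨p, hp, hle⟩ := this
    obtain ⟨q, hq, hqs, hqt⟩ := hO p hp
    haveI : p.IsPrime := by rw [← hqt]; exact Ideal.comap_isPrime _ _
    have heq : p1 = p := by
      by_contra hne'
      have hlt : p1 < p := lt_of_le_of_ne hle hne'
      have := Ideal.IsIntegral.comap_lt_comap (R := D.inv) hlt
      have h2 : p.comap (algebraMap D.inv A) = p1.comap (algebraMap D.inv A) := by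
        show p.comap D.inv.subtype = p1.comap D.inv.subtype
        rw [← h, ← hqt, ← D.comap_inv_eq, hqs]
      rw [h2] at this
      exact lt_irrefl _ this
    exact hne q hq hqs (hqt.trans heq.symm)
  rw [Set.not_subset] at hnot
  obtain ⟨f, hf1, hfO⟩ := hnot
  simp only [Set.mem_iUnion, not_exists] at hfO
  have hg1 : nm D.s n e (D.t f) ∈ p1 := by
    rw [nm_mem_iff D.s n e (D.t f) p1]
    refine ⟨p1.comap D.e, Ideal.comap_isPrime _ _, ?_, ?_⟩
    · ext a; simp [Ideal.mem_comap, D.es]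
    · simpa [Ideal.mem_comap, D.et] using hf1
  have hg0 : nm D.s n e (D.t f) ∉ p0 := by
    rw [nm_mem_iff D.s n e (D.t f) p0]
    rintro ⟨q, hq, hqs, hfq⟩
    refine hfO (q.comap D.t) ?_ hfq
    rw [Finset.mem_coe, Set.Finite.mem_toFinset]
    exact ⟨⟨q, hq⟩, by
      simp only [Set.mem_preimage, Set.mem_singleton_iff]
      ext1; exact hqs, rfl⟩
  have hgC := D.nm_mem_inv n e f
  have : (⟨_, hgC⟩ : D.inv) ∈ p1.comap D.inv.subtype := hg1
  rw [← h] at this
  exact hg0 this

end Data

end Groth.Agent.Lib.Helper20.HA
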