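import Mathlib
import Groth.Agent.Lib.Helper20.HA2

/-!
# Base change of `Data` along a ring map out of the invariants
-/

set_option autoImplicit false
set_option linter.style.haveILetI false
set_option linter.unusedSimpArgs false
universe u
open CategoryTheory CategoryTheory.Limits Polynomial TensorProduct

namespace Groth.Agent.Lib.Helper20.HA

/-- base change of a map of `C`-algebras is a pushout square of commutative rings. -/
theorem isPushout_map {C C' X Y : Type u} [CommRing C] [CommRing C'] [CommRing X] [CommRing Y]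
    [Algebra C C'] [Algebra C X] [Algebra C Y] (f : X →ₐ[C] Y) :
    IsPushout (CommRingCat.ofHom f.toRingHom)
      (CommRingCat.ofHom (Algebra.TensorProduct.includeRight : X →ₐ[C] C' ⊗[C] X).toRingHom)
      (CommRingCat.ofHom (Algebra.TensorProduct.includeRight : Y →ₐ[C] C' ⊗[C] Y).toRingHom)
      (CommRingCat.ofHom (Algebra.TensorProduct.map (AlgHom.id C' C') f).toRingHom) := by
  have big := (CommRingCat.isPushout_tensorProduct C C' Y).flip
  have left := (CommRingCat.isPushout_tensorProduct C C' X).flip
  have e1 : CommRingCat.ofHom (algebraMap C Y) =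
      CommRingCat.ofHom (algebraMap C X) ≫ CommRingCat.ofHom f.toRingHom := by
    ext x; simp
  have e2 : CommRingCat.ofHom (Algebra.TensorProduct.includeLeftRingHom : C' →+* C' ⊗[C] Y) =
      CommRingCat.ofHom (Algebra.TensorProduct.includeLeftRingHom : C' →+* C' ⊗[C] X) ≫
        CommRingCat.ofHom (Algebra.TensorProduct.map (AlgHom.id C' C') f).toRingHom := by
    ext x; simp
  rw [e1, e2] at big
  exact IsPushout.of_left big (by ext x; simp) left

theorem finite_projective_of_isPushout {R S R' S' : Type u} [CommRing R] [CommRing S] [CommRing R']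
    [CommRing S'] (φ : R →+* S) (ψ : R →+* R') (φ' : R' →+* S') (ψ' : S →+* S')
    (sq : IsPushout (CommRingCat.ofHom ψ) (CommRingCat.ofHom φ) (CommRingCat.ofHom φ')
      (CommRingCat.ofHom ψ'))
    (hfin : letI := φ.toAlgebra; Module.Finite R S)
    (hproj : letI := φ.toAlgebra; Module.Projective R S) :
    letI := φ'.toAlgebra
    Module.Finite R' S' ∧ Module.Projective R' S' := by
  letI := φ.toAlgebra
  letI := ψ.toAlgebra
  letI := φ'.toAlgebra
  letI := ψ'.toAlgebra
  letI : Algebra R S' := (φ'.comp ψ).toAlgebra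
  haveI : IsScalarTower R R' S' := IsScalarTower.of_algebraMap_eq fun _ => rfl
  have hcomm : ∀ r : R, ψ' (φ r) = φ' (ψ r) := by
    intro r
    have := congrArg (fun f => f.hom r) sq.w
    exact this.symm
  haveI : IsScalarTower R S S' := IsScalarTower.of_algebraMap_eq fun r => (hcomm r).symm
  have hpo : Algebra.IsPushout R R' S S' := CommRingCat.isPushout_iff_isPushout.mp sq
  have hbc : IsBaseChange R' (IsScalarTower.toAlgHom R S S').toLinearMap := hpo.out
  haveI := hfin
  haveI := hproj
  exact ⟨Module.Finite.equiv hbc.equiv, Module.Projective.of_equiv hbc.equiv⟩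

namespace Data

variable {A B P : Type u} [CommRing A] [CommRing B] [CommRing P] (D : Data A B P)

theorem p2t_eq (a : A) : D.p2 (D.t a) = D.p1 (D.s a) := by
  have := congrArg (fun f => f.hom a) D.sq1.w
  exact this

theorem p2s_eq (a : A) : D.p2 (D.s a) = D.c (D.s a) := by
  have := congrArg (fun f => f.hom a) D.sq2.w
  exact this

/-- `B` as an algebra over the invariants (via `s`, equivalently `t`). -/
@[reducible] def algB : Algebra D.inv B := (D.s.comp D.inv.subtype).toAlgebra

/-- `P` as an algebra over the invariants. -/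
@[reducible] def algP : Algebra D.inv P := (D.p1.comp (D.s.comp D.inv.subtype)).toAlgebra

attribute [local instance] algB algP

def sA : A →ₐ[D.inv] B := { D.s with commutes' := fun _ => rfl }
def tA : A →ₐ[D.inv] B := { D.t with commutes' := fun r => (D.mem_inv.mp r.2).symm }
def eA : B →ₐ[D.inv] A := { D.e with commutes' := fun r => D.es r }
def p1A : B →ₐ[D.inv] P := { D.p1 with commutes' := fun _ => rfl }
def p2A : B →ₐ[D.inv] P := { D.p2 with
  commutes' := fun r => by
    show D.p2 (D.s r) = D.p1 (D.s r)
    exact (congrArg D.p2 (D.mem_inv.mp r.2)).trans (D.p2t_eq r) }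
def cA : B →ₐ[D.inv] P := { D.c with
  commutes' := fun r => by
    show D.c (D.s r) = D.p1 (D.s r)
    rw [← D.p2s_eq]
    exact (congrArg D.p2 (D.mem_inv.mp r.2)).trans (D.p2t_eq r) }

@[simp] theorem sA_apply (a : A) : D.sA a = D.s a := rfl
@[simp] theorem tA_apply (a : A) : D.tA a = D.t a := rfl
@[simp] theorem eA_apply (b : B) : D.eA b = D.e b := rfl
@[simp] theorem p1A_apply (b : B) : D.p1A b = D.p1 b := rfl
@[simp] theorem p2A_apply (b : B) : D.p2A b = D.p2 b := rfl
@[simp] theorem cA_apply (b : B) : D.cA b = D.c b := rfl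

variable (C' : Type u) [CommRing C'] [Algebra D.inv C']

/-- the inclusion `X → C' ⊗ X` as a ring hom -/
abbrev inc (X : Type u) [CommRing X] [Algebra D.inv X] : X →+* C' ⊗[D.inv] X :=
  (Algebra.TensorProduct.includeRight : X →ₐ[D.inv] C' ⊗[D.inv] X).toRingHom

/-- base change of an algebra map as a ring hom -/
abbrev bc {X Y : Type u} [CommRing X] [Algebra D.inv X] [CommRing Y] [Algebra D.inv Y]
    (f : X →ₐ[D.inv] Y) : C' ⊗[D.inv] X →+* C' ⊗[D.inv] Y :=
  (Algebra.TensorProduct.map (AlgHom.id C' C') f).toRingHom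

theorem bc_sq1 : IsPushout (CommRingCat.ofHom (D.bc C' D.tA)) (CommRingCat.ofHom (D.bc C' D.sA))
    (CommRingCat.ofHom (D.bc C' D.p2A)) (CommRingCat.ofHom (D.bc C' D.p1A)) := by
  have L := (isPushout_map (C' := C') D.sA).flip
  have M := (isPushout_map (C' := C') D.p2A).flip
  have K : IsPushout (CommRingCat.ofHom D.tA.toRingHom) (CommRingCat.ofHom D.sA.toRingHom)
    (CommRingCat.ofHom D.p2A.toRingHom) (CommRingCat.ofHom D.p1A.toRingHom) := D.sq1
  have big := K.paste_horiz M
  have e1 : CommRingCat.ofHom D.tA.toRingHom ≫ CommRingCat.ofHom (D.inc C' B) =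
      CommRingCat.ofHom (D.inc C' A) ≫ CommRingCat.ofHom (D.bc C' D.tA) := by
    ext x; simp
  have e2 : CommRingCat.ofHom D.p1A.toRingHom ≫ CommRingCat.ofHom (D.inc C' P) =
      CommRingCat.ofHom (D.inc C' B) ≫ CommRingCat.ofHom (D.bc C' D.p1A) := by
    ext x; simp
  rw [e1, e2] at big
  refine IsPushout.of_left big ?_ L
  apply CommRingCat.hom_ext
  apply RingHom.ext
  intro x
  induction x using TensorProduct.induction_on with
  | zero => simp
  | tmul c a => simp [D.p2t_eq]
  | add x y hx hy => simp only [map_add, hx, hy]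

theorem bc_sq2 : IsPushout (CommRingCat.ofHom (D.bc C' D.sA)) (CommRingCat.ofHom (D.bc C' D.sA))
    (CommRingCat.ofHom (D.bc C' D.p2A)) (CommRingCat.ofHom (D.bc C' D.cA)) := by
  have L := (isPushout_map (C' := C') D.sA).flip
  have M := (isPushout_map (C' := C') D.p2A).flip
  have K : IsPushout (CommRingCat.ofHom D.sA.toRingHom) (CommRingCat.ofHom D.sA.toRingHom)
    (CommRingCat.ofHom D.p2A.toRingHom) (CommRingCat.ofHom D.cA.toRingHom) := D.sq2
  have big := K.paste_horiz M
  have e1 : CommRingCat.ofHom D.sA.toRingHom ≫ CommRingCat.ofHom (D.inc C' B) =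
      CommRingCat.ofHom (D.inc C' A) ≫ CommRingCat.ofHom (D.bc C' D.sA) := by
    ext x; simp
  have e2 : CommRingCat.ofHom D.cA.toRingHom ≫ CommRingCat.ofHom (D.inc C' P) =
      CommRingCat.ofHom (D.inc C' B) ≫ CommRingCat.ofHom (D.bc C' D.cA) := by
    ext x; simp
  rw [e1, e2] at big
  refine IsPushout.of_left big ?_ L
  apply CommRingCat.hom_ext
  apply RingHom.ext
  intro x
  induction x using TensorProduct.induction_on with
  | zero => simp
  | tmul c a => simp [D.p2s_eq]
  | add x y hx hy => simp only [map_add, hx, hy]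

/-- Base change of the data along `D.inv → C'`. -/
noncomputable def baseChange : Data (C' ⊗[D.inv] A) (C' ⊗[D.inv] B) (C' ⊗[D.inv] P) where
  s := D.bc C' D.sA
  t := D.bc C' D.tA
  e := D.bc C' D.eA
  p1 := D.bc C' D.p1A
  p2 := D.bc C' D.p2A
  c := D.bc C' D.cA
  es := by
    intro x
    induction x using TensorProduct.induction_on with
    | zero => simp
    | tmul c a => simp [D.es]
    | add x y hx hy => simp only [map_add, hx, hy]
  et := by
    intro x
    induction x using TensorProduct.induction_on with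
    | zero => simp
    | tmul c a => simp [D.et]
    | add x y hx hy => simp only [map_add, hx, hy]
  sq1 := D.bc_sq1 C'
  sq2 := D.bc_sq2 C'
  ct := by
    intro x
    induction x using TensorProduct.induction_on with
    | zero => simp
    | tmul c a => simp [D.ct]
    | add x y hx hy => simp only [map_add, hx, hy]
  fin := (finite_projective_of_isPushout D.s (D.inc C' A) (D.bc C' D.sA) (D.inc C' B)
    (isPushout_map (C' := C') D.sA).flip D.fin D.proj).1
  proj := (finite_projective_of_isPushout D.s (D.inc C' A) (D.bc C' D.sA) (D.inc C' B)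
    (isPushout_map (C' := C') D.sA).flip D.fin D.proj).2

@[simp] theorem baseChange_s_tmul (c : C') (a : A) :
    (D.baseChange C').s (c ⊗ₜ a) = c ⊗ₜ D.s a := by simp [baseChange]

@[simp] theorem baseChange_t_tmul (c : C') (a : A) :
    (D.baseChange C').t (c ⊗ₜ a) = c ⊗ₜ D.t a := by simp [baseChange]

@[simp] theorem baseChange_e_tmul (c : C') (b : B) :
    (D.baseChange C').e (c ⊗ₜ b) = c ⊗ₜ D.e b := by simp [baseChange]

end Data

end Groth.Agent.Lib.Helper20.HA
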