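import Mathlib
import Groth.Agent.Lib.Helper20.HA3

/-!
# Invariants commute with flat base change
-/

set_option autoImplicit false
set_option linter.style.haveILetI false
set_option linter.unusedSimpArgs false
universe u
open CategoryTheory CategoryTheory.Limits Polynomial TensorProduct

namespace Groth.Agent.Lib.Helper20.HA

namespace Data

variable {A B P : Type u} [CommRing A] [CommRing B] [CommRing P] (D : Data A B P)

attribute [local instance] algB algP

variable (C' : Type u) [CommRing C'] [Algebra D.inv C']

theorem tmul_one_mem_inv (c' : C') : c' ⊗ₜ[D.inv] (1 : A) ∈ (D.baseChange C').inv := by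
  rw [mem_inv]
  simp

theorem exact_inv : Function.Exact (Algebra.linearMap D.inv A)
    (D.sA.toLinearMap - D.tA.toLinearMap) := by
  intro a
  simp only [LinearMap.sub_apply, AlgHom.toLinearMap_apply, sA_apply, tA_apply, sub_eq_zero,
    Set.mem_range, Algebra.linearMap_apply]
  constructor
  · intro h
    exact ⟨⟨a, D.mem_inv.mpr h⟩, rfl⟩
  · rintro ⟨c, rfl⟩
    exact D.mem_inv.mp c.2

theorem mem_inv_baseChange_iff [Module.Flat D.inv C'] (x : C' ⊗[D.inv] A) :
    x ∈ (D.baseChange C').inv ↔ ∃ c' : C', c' ⊗ₜ[D.inv] (1 : A) = x := by
  constructor
  · intro hx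
    have hex := Module.Flat.lTensor_exact C' D.exact_inv
    have h1 : ((D.sA.toLinearMap - D.tA.toLinearMap).lTensor C') x = 0 := by
      rw [LinearMap.lTensor_sub, LinearMap.sub_apply, sub_eq_zero]
      have := (D.baseChange C').mem_inv.mp hx
      have e1 : ∀ y, (D.sA.toLinearMap.lTensor C') y = (D.baseChange C').s y := by
        intro y
        induction y using TensorProduct.induction_on with
        | zero => simp
        | tmul c a => simp
        | add x y hx hy => simp only [map_add, hx, hy]
      have e2 : ∀ y, (D.tA.toLinearMap.lTensor C') y = (D.baseChange C').t y := by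
        intro y
        induction y using TensorProduct.induction_on with
        | zero => simp
        | tmul c a => simp
        | add x y hx hy => simp only [map_add, hx, hy]
      rw [e1, e2, this]
    obtain ⟨y, hy⟩ := (hex x).mp h1
    refine ⟨TensorProduct.rid D.inv C' y, ?_⟩
    rw [← hy]
    clear hy h1
    induction y using TensorProduct.induction_on with
    | zero => simp
    | tmul c' c =>
      simp only [TensorProduct.rid_tmul, LinearMap.lTensor_tmul, Algebra.linearMap_apply]
      rw [TensorProduct.smul_tmul, Algebra.smul_def, mul_one]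
    | add x y hx hy => simp only [map_add, hx, hy, TensorProduct.add_tmul]
  · rintro ⟨c', rfl⟩
    exact D.tmul_one_mem_inv C' c'

theorem tmul_one_injective [Module.Flat D.inv C'] :
    Function.Injective (fun c' : C' => c' ⊗ₜ[D.inv] (1 : A)) := by
  have hinj : Function.Injective (Algebra.linearMap D.inv A) := Subtype.val_injective
  have h1 := Module.Flat.lTensor_preserves_injective_linearMap (M := C') _ hinj
  intro c1 c2 h
  have h2 : (Algebra.linearMap D.inv A).lTensor C' (c1 ⊗ₜ 1) =
      (Algebra.linearMap D.inv A).lTensor C' (c2 ⊗ₜ 1) := by
    simpa using h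
  have h3 := h1 h2
  have h4 := congrArg (TensorProduct.rid D.inv C') h3
  simpa using h4

end Data

end Groth.Agent.Lib.Helper20.HA
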