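import Mathlib
import Groth.Agent.Lib.Helper20.HA4

/-!
# Ring-theoretic linear combinations, base change of bases along pushout squares, and the
"basis step": if `t(x_i)` is an `s`-basis of `B` then `x_i` is a basis of `A` over the invariants.
-/

set_option autoImplicit false
set_option linter.style.haveILetI false
set_option linter.unusedSimpArgs false
universe u
open CategoryTheory CategoryTheory.Limits Polynomial TensorProduct

namespace Groth.Agent.Lib.Helper20.HA

/-- ring-theoretic linear combination `∑ φ(c_i) z_i`. -/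
def linComb {R V : Type*} [CommRing R] [CommRing V] {ι : Type*} [Fintype ι] (φ : R →+* V)
    (z : ι → V) (c : ι → R) : V := ∑ i, φ (c i) * z i

theorem linComb_eq {R V : Type*} [CommRing R] [CommRing V] {ι : Type*} [Fintype ι] (φ : R →+* V)
    (z : ι → V) (c : ι → R) :
    letI := φ.toAlgebra
    linComb φ z c = Fintype.linearCombination R z c := by
  letI := φ.toAlgebra
  simp only [linComb, Fintype.linearCombination_apply, Algebra.smul_def]
  rfl

/-- a basis from bijectivity of `linComb`. -/
theorem exists_basis_of_bijective {R V : Type*} [CommRing R] [CommRing V] {ι : Type*} [Fintype ι]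
    [DecidableEq ι]
    (φ : R →+* V) (z : ι → V) (h : Function.Bijective (linComb φ z)) :
    letI := φ.toAlgebra
    ∃ β : Module.Basis ι R V, ∀ i, β i = z i := by
  letI := φ.toAlgebra
  have hb : Function.Bijective (Fintype.linearCombination R z) := by
    convert h using 1
    ext c
    exact (linComb_eq φ z c).symm
  let e : (ι → R) ≃ₗ[R] V := LinearEquiv.ofBijective _ hb
  refine ⟨Module.Basis.ofEquivFun e.symm, ?_⟩
  intro i
  rw [Module.Basis.coe_ofEquivFun]
  simp [e, Fintype.linearCombination_apply]

theorem bijective_of_basis {R V : Type*} [CommRing R] [CommRing V] {ι : Type*} [Fintype ι]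
    (φ : R →+* V) (z : ι → V)
    (h : letI := φ.toAlgebra; ∃ β : Module.Basis ι R V, ∀ i, β i = z i) :
    Function.Bijective (linComb φ z) := by
  letI := φ.toAlgebra
  obtain ⟨β, hβ⟩ := h
  have : linComb φ z = fun c => β.equivFun.symm c := by
    ext c
    rw [linComb_eq, Module.Basis.equivFun_symm_apply, Fintype.linearCombination_apply]
    simp only [hβ]
  rw [this]
  exact β.equivFun.symm.bijective

/-- base change of a basis along a pushout square. -/
theorem linComb_bijective_of_isPushout {R S R' S' : Type u} [CommRing R] [CommRing S] [CommRing R']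
    [CommRing S'] (φ : R →+* S) (ψ : R →+* R') (φ' : R' →+* S') (ψ' : S →+* S')
    (sq : IsPushout (CommRingCat.ofHom ψ) (CommRingCat.ofHom φ) (CommRingCat.ofHom φ')
      (CommRingCat.ofHom ψ'))
    {ι : Type*} [Fintype ι] (z : ι → S) (h : Function.Bijective (linComb φ z)) :
    Function.Bijective (linComb φ' (fun i => ψ' (z i))) := by
  classical
  obtain ⟨β, hβ⟩ := exists_basis_of_bijective φ z h
  apply bijective_of_basis
  letI := φ.toAlgebra
  letI := ψ.toAlgebra
  letI := φ'.toAlgebra
  letI := ψ'.toAlgebra
  letI : Algebra R S' := (φ'.comp ψ).toAlgebra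
  haveI : IsScalarTower R R' S' := IsScalarTower.of_algebraMap_eq fun _ => rfl
  have hcomm : ∀ r : R, ψ' (φ r) = φ' (ψ r) := by
    intro r
    have := congrArg (fun f => f.hom r) sq.w
    exact this.symm
  haveI : IsScalarTower R S S' := IsScalarTower.of_algebraMap_eq fun r => (hcomm r).symm
  have hpo : Algebra.IsPushout R R' S S' := CommRingCat.isPushout_iff_isPushout.mp sq
  have hbc : IsBaseChange R' (IsScalarTower.toAlgHom R S S').toLinearMap := hpo.out
  refine ⟨(β.baseChange R').map hbc.equiv, ?_⟩
  intro i
  simp only [Module.Basis.map_apply, Module.Basis.baseChange_apply, IsBaseChange.equiv_tmul,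
    one_smul, hβ]
  rfl

namespace Data

variable {A B P : Type u} [CommRing A] [CommRing B] [CommRing P] (D : Data A B P)

/-- the basis step -/
theorem coeff_mem_inv {ι : Type*} [Fintype ι] (x : ι → A)
    (hx : Function.Bijective (linComb D.s (fun i => D.t (x i)))) (v : ι → A) (a : A)
    (hv : linComb D.s (fun i => D.t (x i)) v = D.t a) : ∀ i, v i ∈ D.inv := by
  have hP := linComb_bijective_of_isPushout D.s D.t D.p2 D.p1 D.sq1 _ hx
  have h1 : linComb D.p2 (fun i => D.p1 (D.t (x i))) (fun i => D.t (v i)) =
      linComb D.p2 (fun i => D.p1 (D.t (x i))) (fun i => D.s (v i)) := by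
    have e1 : linComb D.p2 (fun i => D.p1 (D.t (x i))) (fun i => D.t (v i)) = D.p1 (D.t a) := by
      rw [← hv]
      simp only [linComb, map_sum, map_mul, D.p2t_eq]
    have e2 : linComb D.p2 (fun i => D.p1 (D.t (x i))) (fun i => D.s (v i)) = D.c (D.t a) := by
      rw [← hv]
      simp only [linComb, map_sum, map_mul, D.p2s_eq, D.ct]
    rw [e1, e2, D.ct]
  have h2 := hP.1 h1
  intro i
  exact D.mem_inv.mpr (congrFun h2 i).symm

theorem eq_sum_of_linComb {ι : Type*} [Fintype ι] (x : ι → A) (v : ι → A) (a : A)
    (hv : linComb D.s (fun i => D.t (x i)) v = D.t a) : a = ∑ i, v i * x i := by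
  have := congrArg D.e hv
  simp only [linComb, map_sum, map_mul, D.es, D.et] at this
  exact this.symm

attribute [local instance] algB algP

theorem exists_basis_inv {ι : Type*} [Fintype ι] (x : ι → A)
    (hx : Function.Bijective (linComb D.s (fun i => D.t (x i)))) :
    ∃ β : Module.Basis ι D.inv A, ∀ i, β i = x i := by
  classical
  have hli : LinearIndependent D.inv x := by
    rw [Fintype.linearIndependent_iff]
    intro γ hγ i
    have h1 : linComb D.s (fun i => D.t (x i)) (fun i => (γ i : A)) = 0 := by
      have := congrArg D.t hγ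
      simp only [map_sum, map_zero] at this
      rw [← this]
      simp only [linComb]
      refine Finset.sum_congr rfl fun i _ => ?_
      rw [D.mem_inv.mp (γ i).2]
      show _ = D.t ((γ i : A) * x i)
      rw [map_mul]
    have h2 : linComb D.s (fun i => D.t (x i)) (fun _ => (0 : A)) = 0 := by
      simp [linComb]
    have h3 := hx.1 (h1.trans h2.symm)
    have := congrFun h3 i
    exact Subtype.ext this
  have hsp : ⊤ ≤ Submodule.span D.inv (Set.range x) := by
    intro a _
    obtain ⟨v, hv⟩ := hx.2 (D.t a)
    have hmem := D.coeff_mem_inv x hx v a hv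
    rw [D.eq_sum_of_linComb x v a hv]
    refine Submodule.sum_mem _ fun i _ => ?_
    have : v i * x i = (⟨v i, hmem i⟩ : D.inv) • x i := rfl
    rw [this]
    exact Submodule.smul_mem _ _ (Submodule.subset_span ⟨i, rfl⟩)
  exact ⟨Module.Basis.mk hli hsp, fun i => Module.Basis.mk_apply hli hsp i⟩

/-- the canonical map `A ⊗_C A → B`, `a ⊗ a' ↦ s(a) t(a')`. -/
noncomputable def mu : A ⊗[D.inv] A →ₐ[D.inv] B := Algebra.TensorProduct.productMap D.sA D.tA

@[simp] theorem mu_tmul (a a' : A) : D.mu (a ⊗ₜ a') = D.s a * D.t a' := by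
  simp [mu]

theorem mu_bijective_of_basis {ι : Type*} [Fintype ι] (x : ι → A)
    (hx : Function.Bijective (linComb D.s (fun i => D.t (x i)))) :
    Function.Bijective D.mu := by
  classical
  obtain ⟨β, hβ⟩ := D.exists_basis_inv x hx
  let β' : Module.Basis ι A (A ⊗[D.inv] A) := β.baseChange A
  have h1 : ∀ v : ι → A, D.mu (β'.equivFun.symm v) = linComb D.s (fun i => D.t (x i)) v := by
    intro v
    rw [Module.Basis.equivFun_symm_apply, map_sum, linComb]
    refine Finset.sum_congr rfl fun i _ => ?_
    simp only [β', Module.Basis.baseChange_apply, hβ, TensorProduct.smul_tmul', smul_eq_mul,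
      mul_one, mu_tmul]
  have h2 : (fun v => D.mu (β'.equivFun.symm v)) = linComb D.s (fun i => D.t (x i)) :=
    funext h1
  have h3 : Function.Bijective (fun v => D.mu (β'.equivFun.symm v)) := h2 ▸ hx
  have h4 : (D.mu : A ⊗[D.inv] A → B) =
      (fun v => D.mu (β'.equivFun.symm v)) ∘ β'.equivFun := by
    ext z
    simp only [Function.comp_apply, LinearEquiv.symm_apply_apply]
  rw [h4]
  exact h3.comp β'.equivFun.bijective

end Data

end Groth.Agent.Lib.Helper20.HA
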