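import Mathlib
import Groth.Agent.Lib.Helper20.HA5

/-!
# Pointwise basis criterion `IsBasisAt`, its invariance under the groupoid, and local-to-global
-/

set_option autoImplicit false
set_option linter.style.haveILetI false
set_option linter.unusedSimpArgs false
universe u
open CategoryTheory CategoryTheory.Limits Polynomial TensorProduct

namespace Groth.Agent.Lib.Helper20.HA

/-- the family `y` becomes a basis after base change along `χ : A → L` (for every pushout). -/
def IsBasisAt {A B L : Type u} [CommRing A] [CommRing B] [CommRing L] {ι : Type*} [Fintype ι]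
    (φ : A →+* B) (y : ι → B) (χ : A →+* L) : Prop :=
  ∀ (V : Type u) [CommRing V] (φ' : L →+* V) (ψ' : B →+* V),
    IsPushout (CommRingCat.ofHom χ) (CommRingCat.ofHom φ) (CommRingCat.ofHom φ')
      (CommRingCat.ofHom ψ') → Function.Bijective (linComb φ' (fun i => ψ' (y i)))

theorem isBasisAt_of_isPushout {A B L V : Type u} [CommRing A] [CommRing B] [CommRing L]
    [CommRing V] {ι : Type*} [Fintype ι]
    (φ : A →+* B) (y : ι → B) (χ : A →+* L) (φ' : L →+* V) (ψ' : B →+* V)
    (sq : IsPushout (CommRingCat.ofHom χ) (CommRingCat.ofHom φ) (CommRingCat.ofHom φ')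
      (CommRingCat.ofHom ψ'))
    (h : Function.Bijective (linComb φ' (fun i => ψ' (y i)))) : IsBasisAt φ y χ := by
  intro V2 _ φ2 ψ2 sq2
  let θ := sq.isoIsPushout _ _ sq2
  have h1 : ∀ l, θ.hom (φ' l) = φ2 l := by
    intro l
    have := congrArg (fun f => f.hom l) (sq.inl_isoIsPushout_hom _ _ sq2)
    exact this
  have h2 : ∀ b, θ.hom (ψ' b) = ψ2 b := by
    intro b
    have := congrArg (fun f => f.hom b) (sq.inr_isoIsPushout_hom _ _ sq2)
    exact this
  have h3 : linComb φ2 (fun i => ψ2 (y i)) = (fun v => θ.hom v) ∘ linComb φ' (fun i => ψ' (y i)) := by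
    ext c
    simp only [linComb, Function.comp_apply, map_sum, map_mul, h1, h2]
  rw [h3]
  refine Function.Bijective.comp ?_ h
  exact ConcreteCategory.bijective_of_isIso θ.hom

theorem exists_isPushout {A B L : Type u} [CommRing A] [CommRing B] [CommRing L]
    (φ : A →+* B) (χ : A →+* L) :
    ∃ (V : Type u) (_ : CommRing V) (φ' : L →+* V) (ψ' : B →+* V),
      IsPushout (CommRingCat.ofHom χ) (CommRingCat.ofHom φ) (CommRingCat.ofHom φ')
        (CommRingCat.ofHom ψ') := by
  letI := φ.toAlgebra
  letI := χ.toAlgebra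
  exact ⟨L ⊗[A] B, inferInstance, Algebra.TensorProduct.includeLeftRingHom,
    Algebra.TensorProduct.includeRight.toRingHom, CommRingCat.isPushout_tensorProduct A L B⟩

/-- going up along any ring map `L → L'`. -/
theorem IsBasisAt.comp {A B L L' : Type u} [CommRing A] [CommRing B] [CommRing L] [CommRing L']
    {ι : Type*} [Fintype ι] {φ : A →+* B} {y : ι → B} {χ : A →+* L}
    (h : IsBasisAt φ y χ) (j : L →+* L') : IsBasisAt φ y (j.comp χ) := by
  obtain ⟨V, _, φ', ψ', sq⟩ := exists_isPushout φ χ
  obtain ⟨V', _, φ'', jV, sq'⟩ := exists_isPushout φ' j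
  have hV := h V φ' ψ' sq
  have hV' := linComb_bijective_of_isPushout φ' j φ'' jV sq' _ hV
  have big := sq.paste_horiz sq'
  exact isBasisAt_of_isPushout φ y (j.comp χ) φ'' (jV.comp ψ') big hV'

/-- descent along a field extension `L → L'`. -/
theorem IsBasisAt.of_comp {A B L L' : Type u} [CommRing A] [CommRing B] [Field L] [Field L']
    {ι : Type*} [Fintype ι] {φ : A →+* B} {y : ι → B} {χ : A →+* L} (j : L →+* L')
    (h : IsBasisAt φ y (j.comp χ)) : IsBasisAt φ y χ := by
  classical
  obtain ⟨V, _, φ', ψ', sq⟩ := exists_isPushout φ χ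
  refine isBasisAt_of_isPushout φ y χ φ' ψ' sq ?_
  letI algLV : Algebra L V := φ'.toAlgebra
  letI algLL' : Algebra L L' := j.toAlgebra
  have sq' : IsPushout (CommRingCat.ofHom j) (CommRingCat.ofHom φ')
      (CommRingCat.ofHom (Algebra.TensorProduct.includeLeftRingHom : L' →+* L' ⊗[L] V))
      (CommRingCat.ofHom (Algebra.TensorProduct.includeRight.toRingHom : V →+* L' ⊗[L] V)) :=
    CommRingCat.isPushout_tensorProduct L L' V
  have big := sq.paste_horiz sq'
  have hV' := h _ _ _ big
  -- the `L`-linear map
  let f : (ι → L) →ₗ[L] V := Fintype.linearCombination L (fun i => ψ' (y i))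
  have hf : ∀ c, f c = linComb φ' (fun i => ψ' (y i)) c := fun c => (linComb_eq φ' _ c).symm
  have hfun : linComb φ' (fun i => ψ' (y i)) = f := funext fun c => (hf c).symm
  rw [hfun]
  constructor
  · intro c d hcd
    have h1 : linComb (Algebra.TensorProduct.includeLeftRingHom : L' →+* L' ⊗[L] V)
        (fun i => (Algebra.TensorProduct.includeRight.toRingHom : V →+* L' ⊗[L] V) (ψ' (y i)))
        (fun i => j (c i)) =
        linComb (Algebra.TensorProduct.includeLeftRingHom : L' →+* L' ⊗[L] V)
        (fun i => (Algebra.TensorProduct.includeRight.toRingHom : V →+* L' ⊗[L] V) (ψ' (y i)))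
        (fun i => j (d i)) := by
      have e : ∀ c : ι → L, linComb (Algebra.TensorProduct.includeLeftRingHom : L' →+* L' ⊗[L] V)
          (fun i => (Algebra.TensorProduct.includeRight.toRingHom : V →+* L' ⊗[L] V) (ψ' (y i)))
          (fun i => j (c i)) = (1 : L') ⊗ₜ[L] (f c) := by
        intro c
        rw [hf]
        simp only [linComb, TensorProduct.tmul_sum]
        refine Finset.sum_congr rfl fun i _ => ?_
        simp only [Algebra.TensorProduct.includeLeftRingHom_apply, AlgHom.toRingHom_eq_coe,
          RingHom.coe_coe, Algebra.TensorProduct.includeRight_apply,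
          Algebra.TensorProduct.tmul_mul_tmul, mul_one, one_mul]
        have : φ' (c i) * ψ' (y i) = (c i) • ψ' (y i) := (Algebra.smul_def _ _).symm
        rw [this, TensorProduct.tmul_smul, TensorProduct.smul_tmul', Algebra.smul_def, mul_one]
        rfl
      rw [e, e, hcd]
    have h2 := hV'.1 h1
    funext i
    exact j.injective (congrFun h2 i)
  · haveI : Module.FaithfullyFlat L L' := inferInstance
    rw [← Module.FaithfullyFlat.lTensor_surjective_iff_surjective _ L']
    intro z
    obtain ⟨c', hc'⟩ := hV'.2 z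
    refine ⟨∑ i, (c' i) ⊗ₜ[L] (Pi.single i (1 : L)), ?_⟩
    rw [← hc', map_sum]
    simp only [linComb]
    refine Finset.sum_congr rfl fun i _ => ?_
    simp only [LinearMap.lTensor_tmul, f, Fintype.linearCombination_apply_single, one_smul,
      Algebra.TensorProduct.includeLeftRingHom_apply]
    show c' i ⊗ₜ[L] ψ' (y i) = c' i ⊗ₜ[L] 1 * ((1 : L') ⊗ₜ[L] ψ' (y i))
    rw [Algebra.TensorProduct.tmul_mul_tmul, mul_one, one_mul]

namespace Data

variable {A B P : Type u} [CommRing A] [CommRing B] [CommRing P] (D : Data A B P)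

/-- invariance of the pointwise basis condition along a point of `B`. -/
theorem isBasisAt_s_iff_t {L : Type u} [CommRing L] {ι : Type*} [Fintype ι] (x : ι → A)
    (π : B →+* L) :
    IsBasisAt D.s (fun i => D.t (x i)) (π.comp D.s) ↔
      IsBasisAt D.s (fun i => D.t (x i)) (π.comp D.t) := by
  obtain ⟨W, _, incL, incR, sqW⟩ := exists_isPushout D.p2 π
  have bigS := D.sq2.paste_horiz sqW
  have bigT := D.sq1.paste_horiz sqW
  have hfam : (fun i => (incR.comp D.c) (D.t (x i))) = (fun i => (incR.comp D.p1) (D.t (x i))) := by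
    funext i
    simp only [RingHom.comp_apply, D.ct]
  constructor
  · intro h
    have h1 := h W incL (incR.comp D.c) bigS
    rw [hfam] at h1
    exact isBasisAt_of_isPushout _ _ _ incL (incR.comp D.p1) bigT h1
  · intro h
    have h1 := h W incL (incR.comp D.p1) bigT
    rw [← hfam] at h1
    exact isBasisAt_of_isPushout _ _ _ incL (incR.comp D.c) bigS h1

end Data

end Groth.Agent.Lib.Helper20.HA
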