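import Mathlib
import Groth.Agent.Lib.Helper20.HA6

set_option autoImplicit false
set_option linter.style.haveILetI false
set_option linter.unusedSimpArgs false
universe u
open CategoryTheory CategoryTheory.Limits Polynomial TensorProduct

namespace Groth.Agent.Lib.Helper20.HA

theorem bijective_of_basis' {R V : Type*} [CommRing R] [CommRing V] [Algebra R V] {ι : Type*}
    [Fintype ι] (z : ι → V) (β : Module.Basis ι R V) (hβ : ∀ i, β i = z i) :
    Function.Bijective (linComb (algebraMap R V) z) := by
  have : linComb (algebraMap R V) z = fun c => β.equivFun.symm c := by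
    ext c
    rw [Module.Basis.equivFun_symm_apply, linComb]
    simp only [hβ, Algebra.smul_def]
  rw [this]
  exact β.equivFun.symm.bijective

theorem exists_basis_of_bijective' {R V : Type*} [CommRing R] [CommRing V] [Algebra R V]
    {ι : Type*} [Fintype ι] [DecidableEq ι] (z : ι → V)
    (h : Function.Bijective (linComb (algebraMap R V) z)) :
    ∃ β : Module.Basis ι R V, ∀ i, β i = z i := by
  have hb : Function.Bijective (Fintype.linearCombination R z) := by
    convert h using 1
    ext c
    simp only [linComb, Fintype.linearCombination_apply, Algebra.smul_def]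
  let e : (ι → R) ≃ₗ[R] V := LinearEquiv.ofBijective _ hb
  refine ⟨Module.Basis.ofEquivFun e.symm, ?_⟩
  intro i
  rw [Module.Basis.coe_ofEquivFun]
  simp [e, Fintype.linearCombination_apply]

theorem exists_isBasisAt_quotient {A B : Type u} [CommRing A] [CommRing B] (φ : A →+* B)
    (hfin : letI := φ.toAlgebra; Module.Finite A B) {T : Type u} (τ : T → B)
    (hspan : letI := φ.toAlgebra; Submodule.span A (Set.range τ) = ⊤) (m : Ideal A)
    [hm : m.IsMaximal] :
    ∃ (r : ℕ) (a : Fin r → T), IsBasisAt φ (fun i => τ (a i)) (Ideal.Quotient.mk m) := by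
  classical
  letI := φ.toAlgebra
  haveI := hfin
  letI : Field (A ⧸ m) := Ideal.Quotient.field m
  let w : T → (A ⧸ m) ⊗[A] B := fun a => 1 ⊗ₜ τ a
  have hw : Submodule.span (A ⧸ m) (Set.range w) = ⊤ := by
    have h1 := Submodule.baseChange_span (R := A) (A := A ⧸ m) (M := B) (Set.range τ)
    rw [hspan, Submodule.baseChange_top] at h1
    rw [h1]
    congr 1
    ext v
    simp [w]
  obtain ⟨κ, a, -, hsp, hli⟩ := exists_linearIndependent' (A ⧸ m) w
  rw [hw] at hsp
  let b : Module.Basis κ (A ⧸ m) ((A ⧸ m) ⊗[A] B) := Module.Basis.mk hli hsp.ge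
  haveI : Finite κ := Module.Finite.finite_basis b
  letI : Fintype κ := Fintype.ofFinite κ
  let e : κ ≃ Fin (Fintype.card κ) := Fintype.equivFin κ
  let b' := b.reindex e
  refine ⟨Fintype.card κ, fun i => a (e.symm i), ?_⟩
  have sq : IsPushout (CommRingCat.ofHom (Ideal.Quotient.mk m)) (CommRingCat.ofHom φ)
      (CommRingCat.ofHom (Algebra.TensorProduct.includeLeftRingHom : A ⧸ m →+* (A ⧸ m) ⊗[A] B))
      (CommRingCat.ofHom (Algebra.TensorProduct.includeRight.toRingHom : B →+* (A ⧸ m) ⊗[A] B)) :=
    CommRingCat.isPushout_tensorProduct A (A ⧸ m) B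
  refine isBasisAt_of_isPushout φ _ _ _ _ sq ?_
  have hb' : ∀ i, b' i = (Algebra.TensorProduct.includeRight.toRingHom :
      B →+* (A ⧸ m) ⊗[A] B) (τ (a (e.symm i))) := by
    intro i
    simp [b', b, w]
  exact bijective_of_basis' _ b' hb'

open Module Ideal Submodule in
theorem linComb_bijective_of_forall_isBasisAt {A B : Type u} [CommRing A] [CommRing B]
    (φ : A →+* B)
    (hfin : letI := φ.toAlgebra; Module.Finite A B) (hflat : letI := φ.toAlgebra; Module.Flat A B)
    {n : ℕ} (y : Fin n → B)
    (h : ∀ (m : Ideal A) [m.IsMaximal], IsBasisAt φ y (Ideal.Quotient.mk m)) :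
    Function.Bijective (linComb φ y) := by
  classical
  letI := φ.toAlgebra
  haveI := hfin
  haveI := hflat
  let := @Ideal.Quotient.field.{u}
  have b' : ∀ (P : Ideal A) [P.IsMaximal],
      ∃ β : Module.Basis (Fin n) (A ⧸ P) ((A ⧸ P) ⊗[A] B), ∀ i, β i = 1 ⊗ₜ y i := by
    intro P _
    have sq : IsPushout (CommRingCat.ofHom (Ideal.Quotient.mk P)) (CommRingCat.ofHom φ)
      (CommRingCat.ofHom (Algebra.TensorProduct.includeLeftRingHom : A ⧸ P →+* (A ⧸ P) ⊗[A] B))
      (CommRingCat.ofHom (Algebra.TensorProduct.includeRight.toRingHom : B →+* (A ⧸ P) ⊗[A] B)) :=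
      CommRingCat.isPushout_tensorProduct A (A ⧸ P) B
    have hb := h P _ _ _ sq
    exact exists_basis_of_bijective' _ hb
  have key : Function.Bijective (Finsupp.linearCombination A y) := by
    refine bijective_of_isLocalized_maximal
      _ (fun P _ ↦ Finsupp.mapRange.linearMap (Algebra.linearMap A (Localization P.primeCompl)))
      _ (fun P _ ↦ TensorProduct.mk A (Localization P.primeCompl) B 1) _ fun P _ ↦ ?_
    rw [IsLocalizedModule.map_linearCombination, LinearMap.coe_restrictScalars]
    apply IsLocalRing.linearCombination_bijective_of_flat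
    rw [← (AlgebraTensorModule.cancelBaseChange _ _ P.ResidueField ..).comp_bijective,
      ← (AlgebraTensorModule.cancelBaseChange A (A ⧸ P) P.ResidueField ..).symm.comp_bijective]
    obtain ⟨β, hβ⟩ := b' P
    convert! (β.repr.lTensor _ ≪≫ₗ finsuppScalarRight _ _ P.ResidueField _).symm.bijective
    refine funext fun r ↦ Finsupp.induction_linear r (by simp) (by simp +contextual) fun _ _ ↦ ?_
    simp [smul_tmul', ← hβ]
  have e : linComb φ y = (Finsupp.linearCombination A y) ∘
      (Finsupp.linearEquivFunOnFinite A A (Fin n)).symm := by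
    ext c
    rw [linComb_eq]
    simp [Fintype.linearCombination_apply, Finsupp.linearCombination_apply, Finsupp.sum_fintype]
  rw [e]
  exact key.comp (Finsupp.linearEquivFunOnFinite A A (Fin n)).symm.bijective

end Groth.Agent.Lib.Helper20.HA
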