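import Mathlib
import Groth.Agent.Lib.Helper20.HA7

set_option autoImplicit false
set_option linter.style.haveILetI false
set_option linter.unusedSimpArgs false
universe u
open CategoryTheory CategoryTheory.Limits Polynomial TensorProduct

namespace Groth.Agent.Lib.Helper20.HA

namespace Data

variable {A B P : Type u} [CommRing A] [CommRing B] [CommRing P] (D : Data A B P)

/-- `B` is generated as an `s`-module by `t(A)` (e.g. when `(t, s)` is a monomorphism). -/
def Gen : Prop := letI := D.s.toAlgebra; Submodule.span A (Set.range D.t) = ⊤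

theorem flat : letI := D.s.toAlgebra; Module.Flat A B := by
  letI := D.s.toAlgebra
  haveI := D.proj
  infer_instance

/-- If the ring of invariants is local and `t(A)` generates `B` over `s(A)`, there are
`x_1, …, x_r ∈ A` with `t(x_i)` an `s`-basis of `B`. -/
theorem exists_basis_of_isLocalRing [IsLocalRing D.inv] (hgen : D.Gen) :
    ∃ (r : ℕ) (x : Fin r → A), Function.Bijective (linComb D.s (fun i => D.t (x i))) := by
  haveI : Nontrivial A := by
    refine ⟨⟨0, 1, fun h => ?_⟩⟩
    have : (0 : D.inv) = 1 := Subtype.ext h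
    exact zero_ne_one this
  obtain ⟨m1, hm1⟩ := Ideal.exists_maximal A
  obtain ⟨r, x, hx⟩ := exists_isBasisAt_quotient D.s D.fin (fun a : A => D.t a) hgen m1
  refine ⟨r, x, ?_⟩
  apply linComb_bijective_of_forall_isBasisAt D.s D.fin D.flat
  intro m' hm'
  haveI := D.isIntegral
  have hc1 : (m1.comap (algebraMap D.inv A)).IsMaximal :=
    Ideal.isMaximal_comap_of_isIntegral_of_isMaximal m1
  have hc2 : (m'.comap (algebraMap D.inv A)).IsMaximal :=
    Ideal.isMaximal_comap_of_isIntegral_of_isMaximal m'
  have hcomap : m1.comap D.inv.subtype = m'.comap D.inv.subtype :=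
    (IsLocalRing.eq_maximalIdeal hc1).trans (IsLocalRing.eq_maximalIdeal hc2).symm
  haveI := hm1.isPrime
  haveI := hm'.isPrime
  obtain ⟨q, hq, hqs, hqt⟩ := D.exists_prime_of_comap_eq m1 m' hcomap
  let π : B →+* q.ResidueField := algebraMap B q.ResidueField
  have hker : ∀ b, π b = 0 ↔ b ∈ q := fun b => Ideal.algebraMap_residueField_eq_zero
  letI : Field (A ⧸ m1) := Ideal.Quotient.field m1
  letI : Field (A ⧸ m') := Ideal.Quotient.field m'
  let j1 : A ⧸ m1 →+* q.ResidueField := Ideal.Quotient.lift m1 (π.comp D.s) (by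
    intro a ha
    rw [RingHom.comp_apply, hker]
    rw [← hqs] at ha
    exact ha)
  let j' : A ⧸ m' →+* q.ResidueField := Ideal.Quotient.lift m' (π.comp D.t) (by
    intro a ha
    rw [RingHom.comp_apply, hker]
    rw [← hqt] at ha
    exact ha)
  have e1 : j1.comp (Ideal.Quotient.mk m1) = π.comp D.s := by
    ext a; simp [j1]
  have e' : j'.comp (Ideal.Quotient.mk m') = π.comp D.t := by
    ext a; simp [j']
  have h1 := hx.comp j1
  rw [e1] at h1
  have h2 := (D.isBasisAt_s_iff_t x π).mp h1
  rw [← e'] at h2
  exact IsBasisAt.of_comp j' h2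

end Data

end Groth.Agent.Lib.Helper20.HA
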