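import Mathlib
import Groth.Agent.Lib.Helper20.HA8

set_option autoImplicit false
set_option linter.style.haveILetI false
set_option linter.unusedSimpArgs false
universe u
open CategoryTheory CategoryTheory.Limits Polynomial TensorProduct

namespace Groth.Agent.Lib.Helper20.HA

namespace Data

variable {A B P : Type u} [CommRing A] [CommRing B] [CommRing P] (D : Data A B P)

attribute [local instance] algB algP

section coeff

variable (R : Type u) [CommRing R] [Algebra R A] [Algebra R B]
  (sR tR : A →ₐ[R] B) (hs : ∀ a, sR a = D.s a) (ht : ∀ a, tR a = D.t a)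
  (hinj : Function.Injective (algebraMap R A))
  (hrange : ∀ a, a ∈ D.inv ↔ ∃ r, algebraMap R A r = a)

omit [Algebra R B] in
include hinj hrange in
theorem exists_basis_coeff {ι : Type*} [Fintype ι] (x : ι → A)
    (hx : Function.Bijective (linComb D.s (fun i => D.t (x i)))) :
    ∃ β : Module.Basis ι R A, ∀ i, β i = x i := by
  obtain ⟨β0, hβ0⟩ := D.exists_basis_inv x hx
  let f : R →+* D.inv := (algebraMap R A).codRestrict D.inv (fun r => (hrange _).mpr ⟨r, rfl⟩)
  have hf : Function.Bijective f := by
    constructor
    · intro r1 r2 h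
      exact hinj (congrArg Subtype.val h)
    · rintro ⟨a, ha⟩
      obtain ⟨r, rfl⟩ := (hrange a).mp ha
      exact ⟨r, rfl⟩
  let ρ : R ≃+* D.inv := RingEquiv.ofBijective f hf
  refine ⟨β0.mapCoeffs ρ.symm ?_, ?_⟩
  · intro c a
    obtain ⟨r, rfl⟩ := ρ.surjective c
    rw [RingEquiv.symm_apply_apply, Algebra.smul_def]
    rfl
  · intro i
    rw [Module.Basis.mapCoeffs_apply, hβ0]

include hs ht in
theorem mu_bijective_coeff {ι : Type*} [Fintype ι] (x : ι → A)
    (β : Module.Basis ι R A) (hβ : ∀ i, β i = x i)
    (hx : Function.Bijective (linComb D.s (fun i => D.t (x i)))) :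
    Function.Bijective (Algebra.TensorProduct.productMap sR tR) := by
  classical
  let β' : Module.Basis ι A (A ⊗[R] A) := β.baseChange A
  have h1 : ∀ v : ι → A, Algebra.TensorProduct.productMap sR tR (β'.equivFun.symm v) =
      linComb D.s (fun i => D.t (x i)) v := by
    intro v
    rw [Module.Basis.equivFun_symm_apply, map_sum, linComb]
    refine Finset.sum_congr rfl fun i _ => ?_
    simp only [β', Module.Basis.baseChange_apply, hβ, TensorProduct.smul_tmul', smul_eq_mul,
      mul_one, Algebra.TensorProduct.productMap_apply_tmul, hs, ht]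
  have h2 : (fun v => Algebra.TensorProduct.productMap sR tR (β'.equivFun.symm v)) =
      linComb D.s (fun i => D.t (x i)) := funext h1
  have h3 : Function.Bijective
      (fun v => Algebra.TensorProduct.productMap sR tR (β'.equivFun.symm v)) := h2 ▸ hx
  have h4 : (Algebra.TensorProduct.productMap sR tR : A ⊗[R] A → B) =
      (fun v => Algebra.TensorProduct.productMap sR tR (β'.equivFun.symm v)) ∘ β'.equivFun := by
    ext z
    simp only [Function.comp_apply, LinearEquiv.symm_apply_apply]
  rw [h4]
  exact h3.comp β'.equivFun.bijective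

end coeff

variable (C' : Type u) [CommRing C'] [Algebra D.inv C']

theorem gen_baseChange (hgen : D.Gen) : (D.baseChange C').Gen := by
  letI := D.s.toAlgebra
  letI := (D.baseChange C').s.toAlgebra
  show Submodule.span (C' ⊗[D.inv] A) (Set.range (D.baseChange C').t) = ⊤
  rw [eq_top_iff]
  intro z hz
  clear hz
  induction z using TensorProduct.induction_on with
  | zero => exact Submodule.zero_mem _
  | add z w hz hw => exact Submodule.add_mem _ hz hw
  | tmul c' b =>
    have hb : b ∈ Submodule.span A (Set.range D.t) := by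
      have : Submodule.span A (Set.range D.t) = ⊤ := hgen
      rw [this]; trivial
    induction hb using Submodule.span_induction with
    | mem b hb =>
      obtain ⟨a, rfl⟩ := hb
      have : c' ⊗ₜ[D.inv] D.t a =
          (c' ⊗ₜ[D.inv] (1 : A)) • (D.baseChange C').t ((1 : C') ⊗ₜ[D.inv] a) := by
        rw [Algebra.smul_def]
        show _ = (D.baseChange C').s (c' ⊗ₜ[D.inv] (1 : A)) * _
        simp
      rw [this]
      exact Submodule.smul_mem _ _ (Submodule.subset_span ⟨_, rfl⟩)
    | zero => simp
    | add b1 b2 _ _ h1 h2 =>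
      rw [TensorProduct.tmul_add]
      exact Submodule.add_mem _ h1 h2
    | smul a0 b _ hb =>
      have : c' ⊗ₜ[D.inv] (a0 • b) = ((1 : C') ⊗ₜ[D.inv] a0) • (c' ⊗ₜ[D.inv] b) := by
        rw [Algebra.smul_def, Algebra.smul_def]
        show c' ⊗ₜ[D.inv] (D.s a0 * b) = (D.baseChange C').s ((1 : C') ⊗ₜ[D.inv] a0) * _
        simp
      rw [this]
      exact Submodule.smul_mem _ _ hb

theorem isLocalRing_inv_baseChange [Module.Flat D.inv C'] [IsLocalRing C'] :
    IsLocalRing (D.baseChange C').inv := by
  let f : C' →+* (D.baseChange C').inv :=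
    (Algebra.TensorProduct.includeLeftRingHom : C' →+* C' ⊗[D.inv] A).codRestrict _
      (fun c' => D.tmul_one_mem_inv C' c')
  have hinj : Function.Injective f := by
    intro c1 c2 h
    exact D.tmul_one_injective C' (congrArg Subtype.val h)
  have hsurj : Function.Surjective f := by
    rintro ⟨z, hz⟩
    obtain ⟨c', rfl⟩ := (D.mem_inv_baseChange_iff C' z).mp hz
    exact ⟨c', rfl⟩
  haveI : Nontrivial (D.baseChange C').inv := hinj.nontrivial
  exact IsLocalRing.of_surjective' f hsurj

end Data

end Groth.Agent.Lib.Helper20.HA
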