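import Mathlib
import Groth.Agent.Lib.Helper20.HA9

set_option autoImplicit false
set_option linter.style.haveILetI false
set_option linter.unusedSimpArgs false
universe u
open CategoryTheory CategoryTheory.Limits Polynomial TensorProduct

namespace Groth.Agent.Lib.Helper20.HA

namespace Data

variable {A B P : Type u} [CommRing A] [CommRing B] [CommRing P] (D : Data A B P)

attribute [local instance] algB algP

variable (C' : Type u) [CommRing C'] [Algebra D.inv C']

/-- base change of `s` as a `C'`-algebra map -/
noncomputable abbrev sC : C' ⊗[D.inv] A →ₐ[C'] C' ⊗[D.inv] B :=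
  Algebra.TensorProduct.map (AlgHom.id C' C') D.sA

/-- base change of `t` as a `C'`-algebra map -/
noncomputable abbrev tC : C' ⊗[D.inv] A →ₐ[C'] C' ⊗[D.inv] B :=
  Algebra.TensorProduct.map (AlgHom.id C' C') D.tA

/-- local structure after a flat local base change. -/
theorem local_structure (hgen : D.Gen) [Module.Flat D.inv C'] [IsLocalRing C'] :
    Module.Free C' (C' ⊗[D.inv] A) ∧
      Function.Bijective (Algebra.TensorProduct.productMap (D.sC C') (D.tC C')) := by
  haveI := D.isLocalRing_inv_baseChange C'
  obtain ⟨r, x, hx⟩ := (D.baseChange C').exists_basis_of_isLocalRing (D.gen_baseChange C' hgen)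
  have hinj : Function.Injective (algebraMap C' (C' ⊗[D.inv] A)) := D.tmul_one_injective C'
  have hrange : ∀ a, a ∈ (D.baseChange C').inv ↔ ∃ r, algebraMap C' (C' ⊗[D.inv] A) r = a :=
    fun a => D.mem_inv_baseChange_iff C' a
  obtain ⟨β, hβ⟩ := (D.baseChange C').exists_basis_coeff C' hinj hrange x hx
  refine ⟨Module.Free.of_basis β, ?_⟩
  exact (D.baseChange C').mu_bijective_coeff C' (D.sC C') (D.tC C') (fun _ => rfl) (fun _ => rfl)
    x β hβ hx

theorem flat_inv (hgen : D.Gen) : Module.Flat D.inv A := by
  refine Module.flat_of_isLocalized_maximal D.inv A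
    (fun P _ => Localization.AtPrime P ⊗[D.inv] A)
    (fun P _ => TensorProduct.mk D.inv (Localization.AtPrime P) A 1) ?_
  intro P _
  haveI : Module.Free (Localization.AtPrime P) (Localization.AtPrime P ⊗[D.inv] A) :=
    (D.local_structure (Localization.AtPrime P) hgen).1
  exact Module.Flat.trans D.inv (Localization.AtPrime P) _

theorem mu_bijective (hgen : D.Gen) : Function.Bijective D.mu := by
  have key : Function.Bijective D.mu.toLinearMap := by
    refine bijective_of_isLocalized_maximal
      (fun P _ => Localization.AtPrime P ⊗[D.inv] (A ⊗[D.inv] A))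
      (fun P _ => TensorProduct.mk D.inv (Localization.AtPrime P) (A ⊗[D.inv] A) 1)
      (fun P _ => Localization.AtPrime P ⊗[D.inv] B)
      (fun P _ => TensorProduct.mk D.inv (Localization.AtPrime P) B 1) D.mu.toLinearMap ?_
    intro P _
    have hloc := (D.local_structure (Localization.AtPrime P) hgen).2
    let Ψ : Localization.AtPrime P ⊗[D.inv] (A ⊗[D.inv] A) →ₗ[D.inv]
        Localization.AtPrime P ⊗[D.inv] B :=
      ((Algebra.TensorProduct.productMap (D.sC (Localization.AtPrime P))
        (D.tC (Localization.AtPrime P))).toLinearMap.restrictScalars D.inv) ∘ₗ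
      ((TensorProduct.AlgebraTensorModule.distribBaseChange D.inv (Localization.AtPrime P)
        A A).toLinearMap.restrictScalars D.inv)
    have hΨ : Function.Bijective Ψ := by
      show Function.Bijective ((Algebra.TensorProduct.productMap (D.sC (Localization.AtPrime P))
        (D.tC (Localization.AtPrime P))) ∘
        (TensorProduct.AlgebraTensorModule.distribBaseChange D.inv (Localization.AtPrime P) A A))
      exact hloc.comp (LinearEquiv.bijective _)
    have heq : IsLocalizedModule.map P.primeCompl
        (TensorProduct.mk D.inv (Localization.AtPrime P) (A ⊗[D.inv] A) 1)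
        (TensorProduct.mk D.inv (Localization.AtPrime P) B 1) D.mu.toLinearMap = Ψ := by
      apply IsLocalizedModule.linearMap_ext P.primeCompl
        (TensorProduct.mk D.inv (Localization.AtPrime P) (A ⊗[D.inv] A) 1)
        (TensorProduct.mk D.inv (Localization.AtPrime P) B 1)
      apply LinearMap.ext
      intro z
      simp only [LinearMap.comp_apply, IsLocalizedModule.map_apply]
      induction z using TensorProduct.induction_on with
      | zero => simp
      | add z w hz hw => simp only [map_add, hz, hw]
      | tmul a a' =>
        simp [Ψ, TensorProduct.AlgebraTensorModule.distribBaseChange_tmul]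
    rw [heq]
    exact hΨ
  exact key

theorem faithfullyFlat_inv (hgen : D.Gen) : Module.FaithfullyFlat D.inv A := by
  haveI := D.flat_inv hgen
  haveI := D.isIntegral
  haveI : FaithfulSMul D.inv A :=
    (faithfulSMul_iff_algebraMap_injective D.inv A).mpr Subtype.val_injective
  exact Module.FaithfullyFlat.of_comap_surjective (Algebra.IsIntegral.comap_surjective D.inv A)

/-- `μ` as an `A`-algebra map (`B` an `A`-algebra through `s`). -/
noncomputable def muA : letI := D.s.toAlgebra; A ⊗[D.inv] A →ₐ[A] B :=
  letI := D.s.toAlgebra
  { D.mu.toRingHom with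
    commutes' := fun a => by
      show D.mu (a ⊗ₜ 1) = D.s a
      simp }

theorem finite_inv (hgen : D.Gen) : Module.Finite D.inv A := by
  letI := D.s.toAlgebra
  haveI := D.fin
  haveI := D.faithfullyFlat_inv hgen
  let e : (A ⊗[D.inv] A) ≃ₐ[A] B := AlgEquiv.ofBijective D.muA (D.mu_bijective hgen)
  haveI : Module.Finite A (A ⊗[D.inv] A) := Module.Finite.equiv e.symm.toLinearEquiv
  exact Module.Finite.of_finite_tensorProduct_of_faithfullyFlat A

theorem finitePresentation_inv (hgen : D.Gen) : Algebra.FinitePresentation D.inv A := by
  letI := D.s.toAlgebra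
  haveI := D.fin
  haveI := D.proj
  haveI := D.faithfullyFlat_inv hgen
  let e : (A ⊗[D.inv] A) ≃ₐ[A] B := AlgEquiv.ofBijective D.muA (D.mu_bijective hgen)
  haveI : Module.FinitePresentation A B := Module.finitePresentation_of_projective A B
  haveI : Algebra.FinitePresentation A B := inferInstance
  haveI : Algebra.FinitePresentation A (A ⊗[D.inv] A) := Algebra.FinitePresentation.equiv e.symm
  exact Algebra.FinitePresentation.of_finitePresentation_tensorProduct_of_faithfullyFlat A

end Data

end Groth.Agent.Lib.Helper20.HA
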