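import Mathlib
import Groth.Agent.Lib.Helper20.HA10

/-!
# From an affine groupoid scheme with finite locally free source map to ring-level `Data`
-/

set_option autoImplicit false
set_option linter.style.haveILetI false
set_option linter.unusedSimpArgs false
universe u
open CategoryTheory CategoryTheory.Limits AlgebraicGeometry TensorProduct

namespace Groth.Agent.Lib.Helper20.HA

open Grpd

variable {S : Scheme.{u}} (G : Grpd.GroupoidScheme S) [IsAffine G.U] [IsAffine G.R]
  [IsFinite G.s] [Flat G.s] [LocallyOfFinitePresentation G.s]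

/-- the ring-level data of an affine groupoid scheme with finite locally free source. -/
noncomputable def ofGrpd : Data Γ(G.U, ⊤) Γ(G.R, ⊤) Γ(pullback G.s G.t, ⊤) where
  s := G.s.appTop.hom
  t := G.t.appTop.hom
  e := G.e.appTop.hom
  p1 := (pullback.fst G.s G.t).appTop.hom
  p2 := (pullback.snd G.s G.t).appTop.hom
  c := G.c.appTop.hom
  es := by
    intro a
    have := congrArg (fun φ => φ.appTop.hom a) G.e_s
    simp only [Scheme.Hom.comp_appTop, CommRingCat.hom_comp, RingHom.comp_apply,
      Scheme.Hom.id_appTop, CommRingCat.hom_id, RingHom.id_apply] at this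
    exact this
  et := by
    intro a
    have := congrArg (fun φ => φ.appTop.hom a) G.e_t
    simp only [Scheme.Hom.comp_appTop, CommRingCat.hom_comp, RingHom.comp_apply,
      Scheme.Hom.id_appTop, CommRingCat.hom_id, RingHom.id_apply] at this
    exact this
  sq1 := Groth.Agent.S1880.isPushout_appTop (IsPullback.of_hasPullback G.s G.t)
  sq2 := Groth.Agent.S1880.isPushout_appTop (Groth.Agent.Lib.Helper25.GrpdTrans.isPullback_c_snd G)
  ct := by
    intro a
    have h1 : G.c ≫ G.t = pullback.fst G.s G.t ≫ G.t := Groth.Agent.Lib.Helper25.GrpdTrans.c_t G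
    have h2 := congrArg (fun φ => φ.appTop.hom a) h1
    simp only [Scheme.Hom.comp_appTop, CommRingCat.hom_comp, RingHom.comp_apply] at h2
    exact h2
  fin := G.s.finite_appTop
  proj := by
    letI algAB : Algebra Γ(G.U, ⊤) Γ(G.R, ⊤) := G.s.appTop.hom.toAlgebra
    haveI hfin : Module.Finite Γ(G.U, ⊤) Γ(G.R, ⊤) := G.s.finite_appTop
    haveI hflat : Module.Flat Γ(G.U, ⊤) Γ(G.R, ⊤) :=
      (HasRingHomProperty.iff_of_isAffine (P := @Flat)).mp inferInstance
    haveI hfp : Algebra.FinitePresentation Γ(G.U, ⊤) Γ(G.R, ⊤) :=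
      (HasRingHomProperty.iff_of_isAffine (P := @LocallyOfFinitePresentation)).mp inferInstance
    haveI : Module.FinitePresentation Γ(G.U, ⊤) Γ(G.R, ⊤) :=
      Module.FinitePresentation.of_finite_of_finitePresentation _ _
    exact Module.Flat.projective_of_finitePresentation

theorem ofGrpd_inv : (ofGrpd G).inv = G.invariants := rfl

omit [IsFinite G.s] [Flat G.s] [LocallyOfFinitePresentation G.s] [IsAffine G.U] [IsAffine G.R] in
theorem t_toQuot : G.t ≫ G.toQuot = G.s ≫ G.toQuot := by
  unfold GroupoidScheme.toQuot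
  rw [← Category.assoc, ← Category.assoc, Scheme.toSpecΓ_naturality, Scheme.toSpecΓ_naturality,
    Category.assoc, Category.assoc, ← Spec.map_comp, ← Spec.map_comp]
  congr 2
  ext a
  exact (a.2 : G.s.appTop.hom a = G.t.appTop.hom a).symm

/-- the comparison map `R → U ×_M U`. -/
noncomputable def kk : G.R ⟶ pullback G.toQuot G.toQuot :=
  pullback.lift G.t G.s (t_toQuot G)

omit [IsFinite G.s] [Flat G.s] [LocallyOfFinitePresentation G.s] [IsAffine G.U] [IsAffine G.R] in
theorem mono_kk [Mono G.j] : Mono (kk G) := by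
  constructor
  intro T a b hab
  have h1 : a ≫ G.t = b ≫ G.t := by
    have e : kk G ≫ pullback.fst G.toQuot G.toQuot = G.t := pullback.lift_fst _ _ _
    rw [← e, ← Category.assoc, ← Category.assoc, hab]
  have h2 : a ≫ G.s = b ≫ G.s := by
    have e : kk G ≫ pullback.snd G.toQuot G.toQuot = G.s := pullback.lift_snd _ _ _
    rw [← e, ← Category.assoc, ← Category.assoc, hab]
  rw [← cancel_mono G.j]
  have e1 : G.j ≫ pullback.fst G.pU G.pU = G.t := pullback.lift_fst _ _ _
  have e2 : G.j ≫ pullback.snd G.pU G.pU = G.s := pullback.lift_snd _ _ _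
  apply pullback.hom_ext
  · rw [Category.assoc, Category.assoc, e1, h1]
  · rw [Category.assoc, Category.assoc, e2, h2]

omit [IsAffine G.R] [Flat G.s] [LocallyOfFinitePresentation G.s] in
theorem isClosedImmersion_kk [Mono G.j] : IsClosedImmersion (kk G) := by
  haveI := mono_kk G
  haveI : IsFinite (kk G ≫ pullback.snd G.toQuot G.toQuot) := by
    have : kk G ≫ pullback.snd G.toQuot G.toQuot = G.s := pullback.lift_snd _ _ _
    rw [this]; infer_instance
  haveI : IsFinite (kk G) := IsFinite.of_comp (kk G) (pullback.snd G.toQuot G.toQuot)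
  exact (IsClosedImmersion.iff_isFinite_and_mono (kk G)).mpr ⟨inferInstance, inferInstance⟩

/-- ring-level: if `B` is generated as a ring by `s(A) ∪ t(A)` then `t(A)` spans `B` over `s(A)`. -/
theorem gen_of_closure {A B P : Type u} [CommRing A] [CommRing B] [CommRing P] (D : Data A B P)
    (h : Subring.closure (Set.range D.s ∪ Set.range D.t) = ⊤) : D.Gen := by
  letI := D.s.toAlgebra
  show Submodule.span A (Set.range D.t) = ⊤
  have h1 : Algebra.adjoin A (Set.range D.t) = ⊤ := by
    rw [eq_top_iff]
    intro b hb0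
    clear hb0
    have hb : b ∈ Subring.closure (Set.range D.s ∪ Set.range D.t) := by rw [h]; trivial
    induction hb using Subring.closure_induction with
    | mem x hx =>
      rcases hx with ⟨a, rfl⟩ | ⟨a, rfl⟩
      · exact Subalgebra.algebraMap_mem _ a
      · exact Algebra.subset_adjoin ⟨a, rfl⟩
    | zero => exact Subalgebra.zero_mem _
    | one => exact Subalgebra.one_mem _
    | add x y _ _ hx hy => exact Subalgebra.add_mem _ hx hy
    | neg x _ hx => exact Subalgebra.neg_mem _ hx
    | mul x y _ _ hx hy => exact Subalgebra.mul_mem _ hx hy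
  have h2 : Subalgebra.toSubmodule (Algebra.adjoin A (Set.range D.t)) =
      Submodule.span A (Set.range D.t) := by
    apply Algebra.adjoin_eq_span_of_subset
    intro x hx
    have : Submonoid.closure (Set.range D.t) = MonoidHom.mrange (D.t : A →* B) := by
      apply le_antisymm
      · rw [Submonoid.closure_le]
        rintro _ ⟨a, rfl⟩
        exact ⟨a, rfl⟩
      · rintro _ ⟨a, rfl⟩
        exact Submonoid.subset_closure ⟨a, rfl⟩
    rw [this] at hx
    obtain ⟨a, rfl⟩ := hx
    exact Submodule.subset_span ⟨a, rfl⟩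
  rw [← h2, h1]
  rfl

theorem gen_ofGrpd [Mono G.j] : (ofGrpd G).Gen := by
  apply gen_of_closure
  haveI := isClosedImmersion_kk G
  have hsurj : Function.Surjective (kk G).appTop :=
    (IsClosedImmersion.isAffine_surjective_of_isAffine (kk G)).2
  have sqΓ := Groth.Agent.S1880.isPushout_appTop (IsPullback.of_hasPullback G.toQuot G.toQuot)
  have hcl := CommRingCat.closure_range_union_range_eq_top_of_isPushout sqΓ
  have e1 : ∀ a, (kk G).appTop.hom ((pullback.fst G.toQuot G.toQuot).appTop.hom a) =
      G.t.appTop.hom a := by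
    intro a
    have h : kk G ≫ pullback.fst G.toQuot G.toQuot = G.t := pullback.lift_fst _ _ _
    have := congrArg (fun φ => φ.appTop.hom a) h
    simp only [Scheme.Hom.comp_appTop, CommRingCat.hom_comp, RingHom.comp_apply] at this
    exact this
  have e2 : ∀ a, (kk G).appTop.hom ((pullback.snd G.toQuot G.toQuot).appTop.hom a) =
      G.s.appTop.hom a := by
    intro a
    have h : kk G ≫ pullback.snd G.toQuot G.toQuot = G.s := pullback.lift_snd _ _ _
    have := congrArg (fun φ => φ.appTop.hom a) h
    simp only [Scheme.Hom.comp_appTop, CommRingCat.hom_comp, RingHom.comp_apply] at this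
    exact this
  rw [eq_top_iff]
  intro b hb0
  clear hb0
  obtain ⟨z, rfl⟩ := hsurj b
  have hz : z ∈ Subring.closure (Set.range (pullback.snd G.toQuot G.toQuot).appTop ∪
      Set.range (pullback.fst G.toQuot G.toQuot).appTop) := by rw [hcl]; trivial
  induction hz using Subring.closure_induction with
  | mem x hx =>
    rcases hx with ⟨a, rfl⟩ | ⟨a, rfl⟩
    · exact Subring.subset_closure (Or.inl ⟨a, (e2 a).symm⟩)
    · exact Subring.subset_closure (Or.inr ⟨a, (e1 a).symm⟩)
  | zero => rw [map_zero]; exact Subring.zero_mem _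
  | one => rw [map_one]; exact Subring.one_mem _
  | add x y _ _ hx hy => rw [map_add]; exact Subring.add_mem _ hx hy
  | neg x _ hx => rw [map_neg]; exact Subring.neg_mem _ hx
  | mul x y _ _ hx hy => rw [map_mul]; exact Subring.mul_mem _ hx hy

end Groth.Agent.Lib.Helper20.HA
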