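import Mathlib
import Groth.Agent.Lib.Helper20.HA11

set_option autoImplicit false
set_option linter.style.haveILetI false
set_option linter.unusedSimpArgs false
universe u
open CategoryTheory CategoryTheory.Limits Polynomial TensorProduct

namespace Groth.Agent.Lib.Helper20.HA

/-- Extending a ring map to an algebraically closed field along an integral extension, with
prescribed kernel prime. -/
theorem exists_lift_of_isIntegral {R S k : Type u} [CommRing R] [CommRing S] [Algebra R S]
    [Algebra.IsIntegral R S] [Field k] [IsAlgClosed k] (φ : R →+* k) (P : Ideal S) [hP : P.IsPrime]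
    (h : P.comap (algebraMap R S) = RingHom.ker φ) :
    ∃ ψ : S →+* k, ψ.comp (algebraMap R S) = φ ∧ ∀ x ∈ P, ψ x = 0 := by
  let φ' : R ⧸ P.under R →+* k := Ideal.Quotient.lift (P.under R) φ (by
    intro a ha
    have : a ∈ RingHom.ker φ := by rw [← h]; exact ha
    exact this)
  have hinj : Function.Injective φ' := by
    rw [injective_iff_map_eq_zero]
    intro x hx
    obtain ⟨a, rfl⟩ := Ideal.Quotient.mk_surjective x
    rw [Ideal.Quotient.eq_zero_iff_mem]
    have : a ∈ RingHom.ker φ := by
      rw [RingHom.mem_ker]
      have e : φ' (Ideal.Quotient.mk (P.under R) a) = φ a := Ideal.Quotient.lift_mk _ _ _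
      rw [← e]; exact hx
    rw [← h] at this
    exact this
  letI : Algebra (R ⧸ P.under R) k := φ'.toAlgebra
  haveI : Module.IsTorsionFree (R ⧸ P.under R) k :=
    Module.isTorsionFree_iff_algebraMap_injective.mpr hinj
  haveI : Module.IsTorsionFree (R ⧸ P.under R) (S ⧸ P) :=
    Module.isTorsionFree_iff_algebraMap_injective.mpr
      (FaithfulSMul.algebraMap_injective _ _)
  let f : (S ⧸ P) →ₐ[R ⧸ P.under R] k := IsAlgClosed.lift
  refine ⟨f.toRingHom.comp (Ideal.Quotient.mk P), ?_, ?_⟩
  · ext a
    have := f.commutes (Ideal.Quotient.mk (P.under R) a)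
    have e : algebraMap (R ⧸ P.under R) k (Ideal.Quotient.mk (P.under R) a) = φ a :=
      Ideal.Quotient.lift_mk _ _ _
    rw [e] at this
    rw [← this]
    rfl
  · intro x hx
    have : Ideal.Quotient.mk P x = 0 := Ideal.Quotient.eq_zero_iff_mem.mpr hx
    simp [this]

end Groth.Agent.Lib.Helper20.HA
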