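import Mathlib
import Groth.Agent.Lib.Helper20.HA12

set_option autoImplicit false
set_option linter.style.haveILetI false
set_option linter.unusedSimpArgs false
universe u
open CategoryTheory CategoryTheory.Limits Polynomial TensorProduct

namespace Groth.Agent.Lib.Helper20.HA

/-- evaluation of a formal `k`-linear combination of elements of `A` at a ring map `A → k`. -/
noncomputable def ev {A k : Type*} [CommRing A] [Field k] (x : A →+* k) : (A →₀ k) →ₗ[k] k :=
  Finsupp.linearCombination k (fun a => x a)

theorem ev_single {A k : Type*} [CommRing A] [Field k] (x : A →+* k) (a : A) (l : k) :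
    ev x (Finsupp.single a l) = l * x a := by
  simp [ev, Finsupp.linearCombination_single]

theorem ev_eq_sum {A k : Type*} [CommRing A] [Field k] (x : A →+* k) (F : A →₀ k) :
    ev x F = ∑ i : F.support, F i * x i := by
  simp only [ev, Finsupp.linearCombination_apply, Finsupp.sum, smul_eq_mul]
  exact (Finset.sum_coe_sort F.support (fun a => F a * x a)).symm

/-- separating a ring map to an infinite field from finitely many others by a formal linear
combination. -/
theorem exists_separating {A k : Type*} [CommRing A] [Field k] [Infinite k] (x0 : A →+* k)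
    (Y : Finset (A →+* k)) (hY : ∀ y ∈ Y, y ≠ x0) :
    ∃ F : A →₀ k, ev x0 F = 0 ∧ ∀ y ∈ Y, ev y F ≠ 0 := by
  classical
  induction Y using Finset.induction_on with
  | empty => exact ⟨0, by simp, by simp⟩
  | insert y Y' hy ih =>
    obtain ⟨F, hF0, hF⟩ := ih (fun z hz => hY z (Finset.mem_insert_of_mem hz))
    have hyx : y ≠ x0 := hY y (Finset.mem_insert_self _ _)
    obtain ⟨b, hb⟩ : ∃ b, y b ≠ x0 b := by
      by_contra h
      push Not at h
      exact hyx (RingHom.ext h)
    let G : A →₀ k := Finsupp.single b 1 - Finsupp.single 1 (x0 b)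
    have hG : ∀ z : A →+* k, ev z G = z b - x0 b := by
      intro z
      simp [G, ev_single]
    let S : Finset k := insert 0 (Y'.image (fun z => - ev z F / (z b - x0 b))) ∪
      {- ev y F / (y b - x0 b)}
    obtain ⟨μ, hμ⟩ := Infinite.exists_notMem_finset S
    refine ⟨F + μ • G, ?_, ?_⟩
    · rw [map_add, map_smul, hF0, hG, sub_self, smul_zero, add_zero]
    · intro z hz
      rw [map_add, map_smul, hG, smul_eq_mul]
      have hne : ∀ w : A →+* k, (w b - x0 b ≠ 0 → μ ≠ - ev w F / (w b - x0 b)) →
          (w b - x0 b = 0 → ev w F ≠ 0) → ev w F + μ * (w b - x0 b) ≠ 0 := by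
        intro w h1 h2 h3
        by_cases hw : w b - x0 b = 0
        · rw [hw, mul_zero, add_zero] at h3
          exact h2 hw h3
        · apply h1 hw
          field_simp
          linear_combination h3
      rcases Finset.mem_insert.mp hz with rfl | hz'
      · apply hne
        · intro _ h
          apply hμ
          rw [h]
          simp [S]
        · intro h
          exact absurd (sub_eq_zero.mp h) hb
      · apply hne
        · intro _ h
          apply hμ
          rw [h]
          simp only [S, Finset.mem_union, Finset.mem_insert, Finset.mem_image, Finset.mem_singleton]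
          exact Or.inl (Or.inr ⟨z, hz', rfl⟩)
        · intro _
          exact hF z hz'

/-- finitely many extensions of a ring map to a field along a finite ring map. -/
theorem finite_lifts {A B k : Type u} [CommRing A] [CommRing B] [Field k] (φ : A →+* B)
    (hfin : letI := φ.toAlgebra; Module.Finite A B) (x1 : A →+* k) :
    {ψ : B →+* k | ψ.comp φ = x1}.Finite := by
  classical
  letI := φ.toAlgebra
  haveI := hfin
  haveI : Algebra.IsIntegral A B := Algebra.IsIntegral.of_finite A B
  obtain ⟨M, b, hb⟩ := Module.Finite.exists_fin (R := A) (M := B)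
  choose χ hχm hχ using fun l => (Algebra.IsIntegral.isIntegral (R := A) (b l))
  let f : (B →+* k) → (Fin M → k) := fun ψ l => ψ (b l)
  have himg : (f '' {ψ : B →+* k | ψ.comp φ = x1}) ⊆
      Set.pi Set.univ (fun l => {z | ((χ l).map x1).IsRoot z}) := by
    rintro _ ⟨ψ, hψ, rfl⟩ l _
    simp only [Set.mem_ofPred_eq, Polynomial.IsRoot, Polynomial.eval_map, f]
    have h1 := congrArg ψ (hχ l)
    rw [Polynomial.hom_eval₂, map_zero] at h1
    have h2 : ψ.comp (algebraMap A B) = x1 := hψ
    rw [h2] at h1
    exact h1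
  have hfinpi : (Set.pi Set.univ (fun l : Fin M => {z | ((χ l).map x1).IsRoot z})).Finite := by
    apply Set.Finite.pi
    intro l
    exact Polynomial.finite_setOfPred_isRoot ((hχm l).map x1).ne_zero
  refine Set.Finite.of_finite_image (hfinpi.subset himg) ?_
  intro ψ hψ ψ' hψ' hff
  have hψ1 : ∀ a, ψ (φ a) = x1 a := fun a => by rw [← hψ]; rfl
  have hψ2 : ∀ a, ψ' (φ a) = x1 a := fun a => by rw [← hψ']; rfl
  let E : Submodule A B :=
    { carrier := {z | ψ z = ψ' z}
      add_mem' := fun {x y} hx hy => by
        simp only [Set.mem_ofPred_eq] at hx hy ⊢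
        rw [map_add, map_add, hx, hy]
      zero_mem' := by simp
      smul_mem' := fun a z hz => by
        simp only [Set.mem_ofPred_eq] at hz ⊢
        rw [Algebra.smul_def, map_mul, map_mul, hz]
        congr 1
        exact (hψ1 a).trans (hψ2 a).symm }
  have hE : E = ⊤ := by
    rw [eq_top_iff, ← hb, Submodule.span_le]
    rintro _ ⟨l, rfl⟩
    exact congrFun hff l
  ext z
  have : z ∈ E := by rw [hE]; trivial
  exact this

namespace Data

variable {A B P : Type u} [CommRing A] [CommRing B] [CommRing P] (D : Data A B P)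

attribute [local instance] algB algP

/-- `k`-points: two `k`-points of `A` that agree on the invariants are target and source of a
`k`-point of `B` (`k` algebraically closed). -/
theorem exists_kpoint {k : Type u} [Field k] [IsAlgClosed k] (x0 x1 : A →+* k)
    (hx : ∀ c ∈ D.inv, x0 c = x1 c) : ∃ ψ : B →+* k, ψ.comp D.t = x0 ∧ ψ.comp D.s = x1 := by
  classical
  by_contra hcon
  push Not at hcon
  have hΨfin := finite_lifts D.s D.fin x1
  let Y : Finset (A →+* k) := hΨfin.toFinset.image (fun ψ => ψ.comp D.t)
  have hY : ∀ y ∈ Y, y ≠ x0 := by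
    intro y hy
    obtain ⟨ψ, hψ, rfl⟩ := Finset.mem_image.mp hy
    rw [Set.Finite.mem_toFinset] at hψ
    intro h
    exact hcon ψ h hψ
  obtain ⟨F, hF0, hFY⟩ := exists_separating x0 Y hY
  -- the polynomial base change
  let D'' := D.baseChange (MvPolynomial F.support D.inv)
  letI algk : Algebra D.inv k := (x0.comp D.inv.subtype).toAlgebra
  let x0A : A →ₐ[D.inv] k := { x0 with commutes' := fun _ => rfl }
  let x1A : A →ₐ[D.inv] k := { x1 with commutes' := fun c => (hx c c.2).symm }
  let lam : F.support → k := fun i => F i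
  let X0 : MvPolynomial F.support D.inv ⊗[D.inv] A →ₐ[D.inv] k :=
    Algebra.TensorProduct.productMap (MvPolynomial.aeval lam) x0A
  let X1 : MvPolynomial F.support D.inv ⊗[D.inv] A →ₐ[D.inv] k :=
    Algebra.TensorProduct.productMap (MvPolynomial.aeval lam) x1A
  let Fel : MvPolynomial F.support D.inv ⊗[D.inv] A := ∑ i : F.support, (MvPolynomial.X i : MvPolynomial F.support D.inv) ⊗ₜ[D.inv] (i : A)
  have hX0F : X0 Fel = 0 := by
    rw [← hF0, ev_eq_sum]
    simp only [Fel, map_sum, X0, Algebra.TensorProduct.productMap_apply_tmul, MvPolynomial.aeval_X]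
    rfl
  obtain ⟨n, Q, _, _, ⟨e⟩⟩ := D''.exists_compl
  have hgC := D''.nm_mem_inv n e Fel
  obtain ⟨c'', hc''⟩ := (D.mem_inv_baseChange_iff (MvPolynomial F.support D.inv) _).mp hgC
  have hX01 : X0 (nm D''.s n e (D''.t Fel)) = X1 (nm D''.s n e (D''.t Fel)) := by
    rw [← hc'']
    simp [X0, X1]
  -- X0 of the norm vanishes
  have h0 : X0 (nm D''.s n e (D''.t Fel)) = 0 := by
    have hmem : nm D''.s n e (D''.t Fel) ∈ RingHom.ker X0.toRingHom := by
      haveI : (RingHom.ker X0.toRingHom).IsPrime := RingHom.ker_isPrime _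
      rw [nm_mem_iff D''.s n e (D''.t Fel) (RingHom.ker X0.toRingHom)]
      refine ⟨(RingHom.ker X0.toRingHom).comap D''.e, Ideal.comap_isPrime _ _, ?_, ?_⟩
      · ext a
        simp only [Ideal.mem_comap, D''.es]
      · simp only [Ideal.mem_comap, D''.et]
        exact hX0F
    exact hmem
  have h1 : X1 (nm D''.s n e (D''.t Fel)) = 0 := hX01 ▸ h0
  haveI hprime : (RingHom.ker X1.toRingHom).IsPrime := RingHom.ker_isPrime _
  have hmem1 : nm D''.s n e (D''.t Fel) ∈ RingHom.ker X1.toRingHom := h1
  rw [nm_mem_iff D''.s n e (D''.t Fel) (RingHom.ker X1.toRingHom)] at hmem1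
  obtain ⟨q, hq, hqs, hqF⟩ := hmem1
  letI algAB : Algebra (MvPolynomial F.support D.inv ⊗[D.inv] A) (MvPolynomial F.support D.inv ⊗[D.inv] B) := D''.s.toAlgebra
  haveI : Module.Finite (MvPolynomial F.support D.inv ⊗[D.inv] A) (MvPolynomial F.support D.inv ⊗[D.inv] B) := D''.fin
  haveI : Algebra.IsIntegral (MvPolynomial F.support D.inv ⊗[D.inv] A) (MvPolynomial F.support D.inv ⊗[D.inv] B) := Algebra.IsIntegral.of_finite _ _
  obtain ⟨ψ'', hψs, hψq⟩ := exists_lift_of_isIntegral (R := MvPolynomial F.support D.inv ⊗[D.inv] A)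
    (S := MvPolynomial F.support D.inv ⊗[D.inv] B) X1.toRingHom q hqs
  let ψ : B →+* k := ψ''.comp (D.inc (MvPolynomial F.support D.inv) B)
  have hψs' : ∀ z, ψ'' (D''.s z) = X1 z := fun z => congrArg (fun f => f z) hψs
  have hψ1 : ψ.comp D.s = x1 := by
    ext a
    have := hψs' ((1 : MvPolynomial F.support D.inv) ⊗ₜ[D.inv] a)
    simp only [D'', baseChange_s_tmul] at this
    simp only [ψ, RingHom.comp_apply]
    rw [show (D.inc (MvPolynomial F.support D.inv) B) (D.s a) = (1 : MvPolynomial F.support D.inv) ⊗ₜ[D.inv] D.s a from rfl, this]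
    simp only [X1, Algebra.TensorProduct.productMap_apply_tmul, map_one, one_mul]
    rfl
  have hymem : ψ.comp D.t ∈ Y := by
    refine Finset.mem_image.mpr ⟨ψ, ?_, rfl⟩
    rw [Set.Finite.mem_toFinset]
    exact hψ1
  have hne := hFY _ hymem
  apply hne
  have hz := hψq _ hqF
  rw [ev_eq_sum]
  rw [← hz]
  simp only [Fel, map_sum, D'', baseChange_t_tmul]
  refine Finset.sum_congr rfl fun i _ => ?_
  have e1 : (MvPolynomial.X i : MvPolynomial F.support D.inv) ⊗ₜ[D.inv] D.t (i : A) =
      D''.s ((MvPolynomial.X i : MvPolynomial F.support D.inv) ⊗ₜ[D.inv] (1 : A)) * (D.inc (MvPolynomial F.support D.inv) B) (D.t (i : A)) := by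
    simp only [D'', baseChange_s_tmul, map_one]
    show _ = (MvPolynomial.X i : MvPolynomial F.support D.inv) ⊗ₜ[D.inv] (1 : B) * ((1 : MvPolynomial F.support D.inv) ⊗ₜ[D.inv] D.t (i : A))
    rw [Algebra.TensorProduct.tmul_mul_tmul, mul_one, one_mul]
  rw [e1, map_mul, hψs']
  simp [X1, ψ, lam]

end Data

end Groth.Agent.Lib.Helper20.HA
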