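import Mathlib
import Groth.Agent.Lib.Helper20.HA13

/-!
# Scheme-level consequences for `G.toQuot : U → M = Spec C` (affine `U, R`; `s` finite locally
free; `j` mono): finite locally free, surjective, `R = U ×_M U`.
-/

set_option autoImplicit false
set_option linter.style.haveILetI false
set_option linter.unusedSimpArgs false
universe u
open CategoryTheory CategoryTheory.Limits AlgebraicGeometry TensorProduct

namespace Groth.Agent.Lib.Helper20.HA

open Grpd

variable {S : Scheme.{u}} (G : Grpd.GroupoidScheme S) [IsAffine G.U] [IsAffine G.R]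
  [IsFinite G.s] [Flat G.s] [LocallyOfFinitePresentation G.s]

theorem surjective_toQuot : Surjective G.toQuot := by
  haveI hint : Algebra.IsIntegral G.invariants Γ(G.U, ⊤) := (ofGrpd G).isIntegral
  haveI : FaithfulSMul G.invariants Γ(G.U, ⊤) :=
    (faithfulSMul_iff_algebraMap_injective G.invariants Γ(G.U, ⊤)).mpr Subtype.val_injective
  constructor
  intro m
  obtain ⟨P, hP⟩ := Algebra.IsIntegral.comap_surjective G.invariants Γ(G.U, ⊤) m
  refine ⟨G.U.toSpecΓ.homeomorph.symm P, ?_⟩
  have : G.U.toSpecΓ (G.U.toSpecΓ.homeomorph.symm P) = P :=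
    G.U.toSpecΓ.homeomorph.apply_symm_apply P
  show PrimeSpectrum.comap G.invariants.subtype (G.U.toSpecΓ _) = m
  rw [this]
  exact hP

variable [Mono G.j]

theorem isFinite_toQuot : IsFinite G.toQuot := by
  have hfin : Module.Finite G.invariants Γ(G.U, ⊤) := (ofGrpd G).finite_inv (gen_ofGrpd G)
  have hsub : G.invariants.subtype = algebraMap G.invariants Γ(G.U, ⊤) := rfl
  unfold Grpd.GroupoidScheme.toQuot
  have : IsFinite (Spec.map (CommRingCat.ofHom G.invariants.subtype)) := by
    rw [IsFinite.SpecMap_iff, CommRingCat.hom_ofHom, hsub, RingHom.finite_algebraMap]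
    exact hfin
  infer_instance

theorem flat_toQuot : Flat G.toQuot := by
  have hflat : Module.Flat G.invariants Γ(G.U, ⊤) := (ofGrpd G).flat_inv (gen_ofGrpd G)
  have hsub : G.invariants.subtype = algebraMap G.invariants Γ(G.U, ⊤) := rfl
  unfold Grpd.GroupoidScheme.toQuot
  have : Flat (Spec.map (CommRingCat.ofHom G.invariants.subtype)) := by
    rw [Flat.SpecMap_iff, CommRingCat.hom_ofHom, hsub, RingHom.flat_algebraMap_iff]
    exact hflat
  infer_instance

theorem lfp_toQuot : LocallyOfFinitePresentation G.toQuot := by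
  have hfp : Algebra.FinitePresentation G.invariants Γ(G.U, ⊤) :=
    (ofGrpd G).finitePresentation_inv (gen_ofGrpd G)
  have hsub : G.invariants.subtype = algebraMap G.invariants Γ(G.U, ⊤) := rfl
  unfold Grpd.GroupoidScheme.toQuot
  have : LocallyOfFinitePresentation (Spec.map (CommRingCat.ofHom G.invariants.subtype)) := by
    rw [LocallyOfFinitePresentation.SpecMap_iff, CommRingCat.hom_ofHom, hsub,
      RingHom.finitePresentation_algebraMap]
    exact hfp
  infer_instance

theorem isPullback_toQuot : IsPullback G.t G.s G.toQuot G.toQuot := by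
  have hmu := (ofGrpd G).mu_bijective (gen_ofGrpd G)
  letI : Algebra G.invariants Γ(G.R, ⊤) := (ofGrpd G).algB
  let e : (TensorProduct G.invariants Γ(G.U, ⊤) Γ(G.U, ⊤)) ≃+* Γ(G.R, ⊤) :=
    RingEquiv.ofBijective (ofGrpd G).mu hmu
  have po0 := CommRingCat.isPushout_tensorProduct G.invariants Γ(G.U, ⊤) Γ(G.U, ⊤)
  have po : IsPushout (CommRingCat.ofHom (algebraMap G.invariants Γ(G.U, ⊤)))
      (CommRingCat.ofHom (algebraMap G.invariants Γ(G.U, ⊤))) G.s.appTop G.t.appTop := by
    refine po0.of_iso (Iso.refl _) (Iso.refl _) (Iso.refl _) e.toCommRingCatIso ?_ ?_ ?_ ?_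
    · simp
    · simp
    · ext a
      show (ofGrpd G).mu (a ⊗ₜ 1) = G.s.appTop.hom a
      rw [Data.mu_tmul]
      show G.s.appTop.hom a * G.t.appTop.hom 1 = _
      rw [map_one, mul_one]
    · ext a
      show (ofGrpd G).mu (1 ⊗ₜ a) = G.t.appTop.hom a
      rw [Data.mu_tmul]
      show G.s.appTop.hom 1 * G.t.appTop.hom a = _
      rw [map_one, one_mul]
  have pb1 := po.op.map Scheme.Spec
  have pb2 : IsPullback (Spec.map G.t.appTop) (Spec.map G.s.appTop)
      (Spec.map (CommRingCat.ofHom G.invariants.subtype))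
      (Spec.map (CommRingCat.ofHom G.invariants.subtype)) := pb1
  refine IsPullback.of_iso pb2 G.R.isoSpec.symm G.U.isoSpec.symm G.U.isoSpec.symm (Iso.refl _)
    ?_ ?_ ?_ ?_
  · exact Scheme.isoSpec_inv_naturality G.t
  · exact Scheme.isoSpec_inv_naturality G.s
  · unfold Grpd.GroupoidScheme.toQuot
    simp [← Scheme.isoSpec_hom]
  · unfold Grpd.GroupoidScheme.toQuot
    simp [← Scheme.isoSpec_hom]

theorem isIso_kk : IsIso (kk G) := by
  have hpb := isPullback_toQuot G
  have : kk G = hpb.isoPullback.hom := by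
    apply pullback.hom_ext
    · rw [hpb.isoPullback_hom_fst]; exact pullback.lift_fst _ _ _
    · rw [hpb.isoPullback_hom_snd]; exact pullback.lift_snd _ _ _
  rw [this]
  infer_instance

end Groth.Agent.Lib.Helper20.HA
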