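import Mathlib
import Groth.Agent.Lib.Helper20.HA14

/-!
# Norm locus for a finite locally free morphism of affine schemes, prime avoidance on an affine
open, and invariant affine opens of groupoid schemes.
-/

set_option autoImplicit false
set_option linter.style.haveILetI false
set_option linter.unusedSimpArgs false
universe u
open CategoryTheory CategoryTheory.Limits AlgebraicGeometry TensorProduct

namespace Groth.Agent.Lib.Helper20.HA

/-- For a finite locally free morphism `π : X ⟶ Y` of affine schemes and `h ∈ Γ(X)` there is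
`g ∈ Γ(Y)` (a norm of `h`) whose nonvanishing locus is the set of points all of whose preimages
lie in `D(h)`. -/
theorem exists_norm_locus {X Y : Scheme.{u}} (π : X ⟶ Y) [IsAffine X] [IsAffine Y] [IsFinite π]
    [Flat π] [LocallyOfFinitePresentation π] (h : Γ(X, ⊤)) :
    ∃ g : Γ(Y, ⊤), ∀ y : Y, y ∈ Y.basicOpen g ↔ ∀ x : X, π x = y → x ∈ X.basicOpen h := by
  letI algAB : Algebra Γ(Y, ⊤) Γ(X, ⊤) := π.appTop.hom.toAlgebra
  haveI hfin : Module.Finite Γ(Y, ⊤) Γ(X, ⊤) := π.finite_appTop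
  haveI hflat : Module.Flat Γ(Y, ⊤) Γ(X, ⊤) :=
    (HasRingHomProperty.iff_of_isAffine (P := @Flat)).mp inferInstance
  haveI hfp : Algebra.FinitePresentation Γ(Y, ⊤) Γ(X, ⊤) :=
    (HasRingHomProperty.iff_of_isAffine (P := @LocallyOfFinitePresentation)).mp inferInstance
  haveI : Module.FinitePresentation Γ(Y, ⊤) Γ(X, ⊤) :=
    Module.FinitePresentation.of_finite_of_finitePresentation _ _
  haveI hproj : Module.Projective Γ(Y, ⊤) Γ(X, ⊤) := Module.Flat.projective_of_finitePresentation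
  obtain ⟨n, Q, _, _, ⟨e⟩⟩ := Groth.Agent.S1879.exists_compl Γ(Y, ⊤) Γ(X, ⊤)
  refine ⟨nm π.appTop.hom n e h, fun y => ?_⟩
  let pY : Y → PrimeSpectrum Γ(Y, ⊤) := fun y => Y.toSpecΓ y
  let pX : X → PrimeSpectrum Γ(X, ⊤) := fun x => X.toSpecΓ x
  have hmemY : ∀ (g : Γ(Y, ⊤)) (y : Y), y ∈ Y.basicOpen g ↔ g ∉ (pY y).asIdeal := by
    intro g y
    rw [← Scheme.toSpecΓ_preimage_basicOpen]
    rfl
  have hmemX : ∀ (g : Γ(X, ⊤)) (x : X), x ∈ X.basicOpen g ↔ g ∉ (pX x).asIdeal := by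
    intro g x
    rw [← Scheme.toSpecΓ_preimage_basicOpen]
    rfl
  have hnat : ∀ x : X, (pY (π x)).asIdeal = (pX x).asIdeal.comap π.appTop.hom := by
    intro x
    have h1 : (π ≫ Y.toSpecΓ) x = (X.toSpecΓ ≫ Spec.map π.appTop) x := by
      rw [Scheme.toSpecΓ_naturality]
    exact congrArg PrimeSpectrum.asIdeal h1
  rw [hmemY, nm_mem_iff]
  constructor
  · intro H x hx
    rw [hmemX]
    intro hh
    apply H
    refine ⟨(pX x).asIdeal, inferInstance, ?_, hh⟩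
    rw [← hnat, hx]
  · intro H ⟨q, hq, hqp, hhq⟩
    let x : X := X.toSpecΓ.homeomorph.symm ⟨q, hq⟩
    have hx : pX x = ⟨q, hq⟩ := X.toSpecΓ.homeomorph.apply_symm_apply _
    have hπ : π x = y := by
      apply Y.toSpecΓ.homeomorph.injective
      apply PrimeSpectrum.ext
      show (pY (π x)).asIdeal = (pY y).asIdeal
      rw [hnat, hx, ← hqp]
    have := H x hπ
    rw [hmemX, hx] at this
    exact this hhq

/-- prime avoidance on a prime spectrum: a finite set of points inside an open set lies in a basic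
open contained in that open set. -/
theorem exists_basicOpen_of_finite {A : Type u} [CommRing A] (T : Set (PrimeSpectrum A))
    (hT : T.Finite) (O : TopologicalSpace.Opens (PrimeSpectrum A)) (hTO : T ⊆ O) :
    ∃ f : A, T ⊆ PrimeSpectrum.basicOpen f ∧ PrimeSpectrum.basicOpen f ≤ O := by
  classical
  by_cases hne : T = ∅
  · refine ⟨0, by rw [hne]; exact Set.empty_subset _, ?_⟩
    rw [PrimeSpectrum.basicOpen_zero]
    exact bot_le
  obtain ⟨a, ha⟩ := Set.nonempty_iff_ne_empty.mpr hne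
  let I : Ideal A := PrimeSpectrum.vanishingIdeal ((O : Set (PrimeSpectrum A))ᶜ)
  have hex : ∃ f ∈ I, ∀ p ∈ T, f ∉ p.asIdeal := by
    by_contra hcon
    push Not at hcon
    have hsub : (I : Set A) ⊆ ⋃ p ∈ (↑hT.toFinset : Set (PrimeSpectrum A)), p.asIdeal := by
      intro f hf
      obtain ⟨p, hp, hfp⟩ := hcon f hf
      simp only [Set.mem_iUnion]
      exact ⟨p, by simpa using hp, hfp⟩
    rw [Ideal.subset_union_prime a a (fun p _ _ _ => p.isPrime)] at hsub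
    obtain ⟨p, hp, hIp⟩ := hsub
    have hpT : p ∈ T := by simpa using hp
    have hpz : p ∈ PrimeSpectrum.zeroLocus (I : Set A) := hIp
    rw [PrimeSpectrum.zeroLocus_vanishingIdeal_eq_closure,
      (O.isOpen.isClosed_compl).closure_eq] at hpz
    exact hpz (hTO hpT)
  obtain ⟨f, hfI, hf⟩ := hex
  refine ⟨f, fun p hp => hf p hp, ?_⟩
  intro q hq
  by_contra hqO
  have : f ∈ q.asIdeal := (PrimeSpectrum.mem_vanishingIdeal _ _).mp hfI q hqO
  exact hq this

/-- prime avoidance on an affine open of a scheme. -/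
theorem exists_basicOpen_of_finite_affine {X : Scheme.{u}} {V : X.Opens} (hV : IsAffineOpen V)
    (T : Set X) (hT : T.Finite) (hTV : T ⊆ V) (O : X.Opens) (hTO : T ⊆ O) :
    ∃ f : Γ(X, V), T ⊆ X.basicOpen f ∧ X.basicOpen f ≤ O := by
  have hinj : Function.Injective hV.fromSpec := hV.fromSpec.isOpenEmbedding.injective
  obtain ⟨f, hf1, hf2⟩ := exists_basicOpen_of_finite (hV.fromSpec ⁻¹' T)
    (hT.preimage hinj.injOn) (hV.fromSpec ⁻¹ᵁ O) (fun p hp => hTO hp)
  have hrange : ∀ x : X, x ∈ V → ∃ p, hV.fromSpec p = x := by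
    intro x hx
    have : x ∈ Set.range hV.fromSpec := by rw [hV.range_fromSpec]; exact hx
    exact this
  have hb := hV.fromSpec_preimage_basicOpen f
  refine ⟨f, ?_, ?_⟩
  · intro x hx
    obtain ⟨p, rfl⟩ := hrange x (hTV hx)
    have h1 : p ∈ PrimeSpectrum.basicOpen f := hf1 hx
    rw [← hb] at h1
    exact h1
  · intro x hx
    obtain ⟨p, rfl⟩ := hrange x (X.basicOpen_le f hx)
    have h1 : p ∈ hV.fromSpec ⁻¹ᵁ X.basicOpen f := hx
    rw [hb] at h1
    exact hf2 h1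

/-- norm locus over an affine open `D` of the target of a finite locally free morphism `π`:
for a function `f` on an open `V` of a scheme `Z` and `τ : X ⟶ Z` mapping `π⁻¹ D` into `V`, the set of
`y ∈ D` all of whose `π`-preimages are sent by `τ` into `D(f)` is an affine open. -/
theorem exists_affine_norm_locus {X Y Z : Scheme.{u}} (π : X ⟶ Y) [IsFinite π] [Flat π]
    [LocallyOfFinitePresentation π] (D : Y.Opens) (hD : IsAffineOpen D) (τ : X ⟶ Z) (V : Z.Opens)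
    (f : Γ(Z, V)) (hle : π ⁻¹ᵁ D ≤ τ ⁻¹ᵁ V) :
    ∃ W : Y.Opens, IsAffineOpen W ∧
      ∀ y : Y, y ∈ W ↔ y ∈ D ∧ ∀ x : X, π x = y → τ x ∈ Z.basicOpen f := by
  haveI hY' : IsAffine D.toScheme := hD
  haveI hX' : IsAffine (π ⁻¹ᵁ D).toScheme := hD.preimage π
  haveI : Flat (π ∣_ D) := inferInstance
  haveI : LocallyOfFinitePresentation (π ∣_ D) :=
    MorphismProperty.of_isPullback (P := @LocallyOfFinitePresentation)
      (isPullback_morphismRestrict π D).flip inferInstance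
  let τ' : (π ⁻¹ᵁ D).toScheme ⟶ Z := (π ⁻¹ᵁ D).ι ≫ τ
  have htop : τ' ⁻¹ᵁ V = ⊤ := by
    rw [eq_top_iff]
    intro x _
    exact hle x.2
  let h : Γ((π ⁻¹ᵁ D).toScheme, ⊤) :=
    (π ⁻¹ᵁ D).toScheme.presheaf.map (eqToHom htop.symm).op (τ'.app V f)
  have hbo : (π ⁻¹ᵁ D).toScheme.basicOpen h = τ' ⁻¹ᵁ Z.basicOpen f := by
    rw [Scheme.preimage_basicOpen]
    exact Scheme.basicOpen_res_eq _ _ _
  obtain ⟨g, hg⟩ := exists_norm_locus (π ∣_ D) h
  refine ⟨D.ι ''ᵁ (D.toScheme.basicOpen g),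
    ((isAffineOpen_top D.toScheme).basicOpen g).image_of_isOpenImmersion D.ι, ?_⟩
  have hπι : ∀ x' : (π ⁻¹ᵁ D).toScheme, D.ι ((π ∣_ D) x') = π ((π ⁻¹ᵁ D).ι x') := by
    intro x'
    have h1 : ((π ∣_ D) ≫ D.ι) x' = ((π ⁻¹ᵁ D).ι ≫ π) x' := by rw [morphismRestrict_ι]
    exact h1
  have hιinj : Function.Injective D.ι := D.ι.isOpenEmbedding.injective
  intro y
  constructor
  · rintro ⟨y', hy', rfl⟩
    refine ⟨y'.2, ?_⟩
    intro x hx
    have hxD : x ∈ π ⁻¹ᵁ D := by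
      show π x ∈ D
      rw [hx]; exact y'.2
    let x' : (π ⁻¹ᵁ D).toScheme := ⟨x, hxD⟩
    have hx' : (π ∣_ D) x' = y' := by
      apply hιinj
      rw [hπι]
      exact hx
    have h2 := (hg y').mp hy' x' hx'
    rw [hbo] at h2
    exact h2
  · rintro ⟨hyD, hy⟩
    refine ⟨⟨y, hyD⟩, ?_, rfl⟩
    refine (hg ⟨y, hyD⟩).mpr ?_
    intro x' hx'
    rw [hbo]
    show τ ((π ⁻¹ᵁ D).ι x') ∈ Z.basicOpen f
    apply hy
    rw [← hπι, hx']
    rfl

section points

open Grpd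

variable {S : Scheme.{u}} (G : Grpd.GroupoidScheme S)

theorem e_s_pt (x : G.U) : G.s (G.e x) = x := by
  have h : (G.e ≫ G.s) x = (𝟙 G.U : G.U ⟶ G.U) x := by rw [G.e_s]
  exact h

theorem e_t_pt (x : G.U) : G.t (G.e x) = x := by
  have h : (G.e ≫ G.t) x = (𝟙 G.U : G.U ⟶ G.U) x := by rw [G.e_t]
  exact h

theorem i_s_pt (r : G.R) : G.s (G.i r) = G.t r := by
  have h : (G.i ≫ G.s) r = G.t r := by rw [G.i_s]
  exact h

theorem i_t_pt (r : G.R) : G.t (G.i r) = G.s r := by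
  have h : (G.i ≫ G.t) r = G.s r := by rw [G.i_t]
  exact h

theorem exists_comp_pt (r r' : G.R) (h : G.s r = G.t r') :
    ∃ r'' : G.R, G.t r'' = G.t r ∧ G.s r'' = G.s r' := by
  obtain ⟨z, hz1, hz2⟩ := Scheme.Pullback.exists_preimage_pullback (f := G.s) (g := G.t) r r' h
  refine ⟨G.c z, ?_, ?_⟩
  · have h1 : (G.c ≫ G.t) z = (pullback.fst G.s G.t ≫ G.t) z := by
      rw [Groth.Agent.Lib.Helper25.GrpdTrans.c_t]
    have h2 : G.t (G.c z) = G.t (pullback.fst G.s G.t z) := h1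
    rw [h2, hz1]
  · have h1 : (G.c ≫ G.s) z = (pullback.snd G.s G.t ≫ G.s) z := by
      rw [Groth.Agent.Lib.Helper25.GrpdTrans.c_s]
    have h2 : G.s (G.c z) = G.s (pullback.snd G.s G.t z) := h1
    rw [h2, hz2]

/-- **Invariant affine opens.** If `s` is finite locally free and the orbit `t(s⁻¹{u})` of `u` lies in
an affine open `V`, then `u` has an `R`-invariant affine open neighbourhood. -/
theorem exists_invariant_affine_open [IsFinite G.s] [Flat G.s] [LocallyOfFinitePresentation G.s]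
    (u : G.U) (V : G.U.Opens) (hV : IsAffineOpen V) (huV : ∀ r : G.R, G.s r = u → G.t r ∈ V) :
    ∃ W : G.U.Opens, IsAffineOpen W ∧ u ∈ W ∧ G.s ⁻¹ᵁ W = G.t ⁻¹ᵁ W := by
  -- the orbit of `u`
  let T : Set G.U := G.t '' (G.s ⁻¹' {u})
  have hT : T.Finite := (Scheme.Hom.finite_preimage_singleton G.s u).image _
  have hTV : T ⊆ V := by
    rintro _ ⟨r, hr, rfl⟩
    exact huV r hr
  -- the open set of points whose orbit lies in `V`
  let O : G.U.Opens := ⟨(G.s '' ((G.t ⁻¹ᵁ V : Set G.R)ᶜ))ᶜ,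
    (G.s.isClosedMap _ (G.t ⁻¹ᵁ V).isOpen.isClosed_compl).isOpen_compl⟩
  have hO : ∀ x : G.U, x ∈ O ↔ ∀ r : G.R, G.s r = x → G.t r ∈ V := by
    intro x
    show x ∉ (G.s '' ((G.t ⁻¹ᵁ V : Set G.R)ᶜ)) ↔ _
    constructor
    · intro hx r hr
      by_contra hrV
      exact hx ⟨r, hrV, hr⟩
    · rintro hx ⟨r, hrV, hr⟩
      exact hrV (hx r hr)
  have hTO : T ⊆ O := by
    rintro _ ⟨r₀, hr₀, rfl⟩
    rw [SetLike.mem_coe, hO]
    intro r hr
    obtain ⟨r'', h1, h2⟩ := exists_comp_pt G r r₀ hr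
    rw [← h1]
    exact huV r'' (h2.trans hr₀)
  obtain ⟨f, hf1, hf2⟩ := exists_basicOpen_of_finite_affine hV T hT hTV O hTO
  have hle : G.s ⁻¹ᵁ (G.U.basicOpen f) ≤ G.t ⁻¹ᵁ V := by
    intro r hr
    exact (hO _).mp (hf2 hr) r rfl
  obtain ⟨W, hW, hWiff⟩ := exists_affine_norm_locus G.s (G.U.basicOpen f) (hV.basicOpen f) G.t V f hle
  have huT : u ∈ T := ⟨G.e u, e_s_pt G u, e_t_pt G u⟩
  -- forward invariance
  have hfw : ∀ r₀ : G.R, G.s r₀ ∈ W → G.t r₀ ∈ W := by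
    intro r₀ hr₀
    rw [hWiff] at hr₀ ⊢
    refine ⟨hr₀.2 r₀ rfl, ?_⟩
    intro r hr
    obtain ⟨r'', h1, h2⟩ := exists_comp_pt G r r₀ hr
    rw [← h1]
    exact hr₀.2 r'' h2
  refine ⟨W, hW, ?_, ?_⟩
  · rw [hWiff]
    refine ⟨hf1 huT, ?_⟩
    intro r hr
    exact hf1 ⟨r, hr, rfl⟩
  · ext r₀
    show G.s r₀ ∈ W ↔ G.t r₀ ∈ W
    constructor
    · exact hfw r₀
    · intro h
      have := hfw (G.i r₀) (by rw [i_s_pt]; exact h)
      rwa [i_t_pt] at this

end points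

end Groth.Agent.Lib.Helper20.HA
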