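import Mathlib
import Groth.Agent.Lib.Helper20.HA15

/-!
# Restriction of a groupoid scheme along compatible monomorphisms, and to an invariant open
-/

set_option autoImplicit false
set_option linter.style.haveILetI false
set_option linter.unusedSimpArgs false
set_option linter.unusedSectionVars false
universe u
open CategoryTheory CategoryTheory.Limits AlgebraicGeometry

namespace Groth.Agent.Lib.Helper20.HB

open Grpd Groth.Agent.Lib.Helper25.GrpdAlg

variable {S : Scheme.{u}} (G : GroupoidScheme S)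

/-- Data of lifts of the structure maps through monomorphisms `ιU : U' → U`, `ιR : R' → R`. -/
structure Lifts2 {U' R' : Scheme.{u}} (ιU : U' ⟶ G.U) (ιR : R' ⟶ G.R) where
  s' : R' ⟶ U'
  t' : R' ⟶ U'
  e' : U' ⟶ R'
  i' : R' ⟶ R'
  c' : pullback s' t' ⟶ R'
  hs : s' ≫ ιU = ιR ≫ G.s
  ht : t' ≫ ιU = ιR ≫ G.t
  he : e' ≫ ιR = ιU ≫ G.e
  hi : i' ≫ ιR = ιR ≫ G.i
  hc : c' ≫ ιR = pullback.map s' t' G.s G.t ιR ιR ιU hs ht ≫ G.c

namespace Lifts2

variable {G} {U' R' : Scheme.{u}} {ιU : U' ⟶ G.U} {ιR : R' ⟶ G.R} (L : Lifts2 G ιU ιR)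
  [Mono ιU] [Mono ιR] {T : Scheme.{u}}

theorem aux (α β : T ⟶ R') (h : α ≫ L.s' = β ≫ L.t') :
    (α ≫ ιR) ≫ G.s = (β ≫ ιR) ≫ G.t := by
  rw [Category.assoc, ← L.hs, ← Category.assoc, h, Category.assoc, L.ht, Category.assoc]

theorem key (α β : T ⟶ R') (h : α ≫ L.s' = β ≫ L.t') :
    (pullback.lift α β h ≫ L.c') ≫ ιR = comp G (α ≫ ιR) (β ≫ ιR) (L.aux α β h) := by
  rw [Category.assoc, L.hc, ← Category.assoc, comp]
  congr 1
  apply pullback.hom_ext
  · simp only [pullback.map, Category.assoc, pullback.lift_fst, pullback.lift_fst_assoc]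
  · simp only [pullback.map, Category.assoc, pullback.lift_snd, pullback.lift_snd_assoc]

theorem ax_comp_s (α β : T ⟶ R') (h : α ≫ L.s' = β ≫ L.t') :
    (pullback.lift α β h ≫ L.c') ≫ L.s' = β ≫ L.s' := by
  rw [← cancel_mono ιU, Category.assoc, L.hs, ← Category.assoc, L.key, comp_s, Category.assoc,
    Category.assoc, L.hs]

theorem ax_comp_t (α β : T ⟶ R') (h : α ≫ L.s' = β ≫ L.t') :
    (pullback.lift α β h ≫ L.c') ≫ L.t' = α ≫ L.t' := by
  rw [← cancel_mono ιU, Category.assoc, L.ht, ← Category.assoc, L.key, comp_t, Category.assoc,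
    Category.assoc, L.ht]

theorem ax_assoc (α β γ : T ⟶ R') (h₁ : α ≫ L.s' = β ≫ L.t') (h₂ : β ≫ L.s' = γ ≫ L.t') :
    pullback.lift (pullback.lift α β h₁ ≫ L.c') γ ((L.ax_comp_s α β h₁).trans h₂) ≫ L.c' =
      pullback.lift α (pullback.lift β γ h₂ ≫ L.c')
        (h₁.trans (L.ax_comp_t β γ h₂).symm) ≫ L.c' := by
  rw [← cancel_mono ιR]
  have e1 := assoc G (α ≫ ιR) (β ≫ ιR) (γ ≫ ιR) (L.aux α β h₁) (L.aux β γ h₂)
  refine (L.key _ γ _).trans ?_
  refine Eq.trans ?_ (L.key α _ _).symm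
  exact (comp_congr G (L.key α β h₁) rfl _ _).trans
    (e1.trans (comp_congr G rfl (L.key β γ h₂) _ _).symm)

theorem ax_e_s : L.e' ≫ L.s' = 𝟙 U' := by
  rw [← cancel_mono ιU, Category.assoc, L.hs, ← Category.assoc, L.he, Category.assoc, G.e_s,
    Category.comp_id, Category.id_comp]

theorem ax_e_t : L.e' ≫ L.t' = 𝟙 U' := by
  rw [← cancel_mono ιU, Category.assoc, L.ht, ← Category.assoc, L.he, Category.assoc, G.e_t,
    Category.comp_id, Category.id_comp]

theorem ax_comp_e (α : T ⟶ R') :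
    pullback.lift α (α ≫ L.s' ≫ L.e')
      (by rw [Category.assoc, Category.assoc, L.ax_e_t, Category.comp_id]) ≫ L.c' = α := by
  rw [← cancel_mono ιR, L.key]
  refine (comp_congr G rfl ?_ _ _).trans (comp_e G (α ≫ ιR))
  simp only [Category.assoc, L.he]
  rw [← Category.assoc L.s', L.hs, Category.assoc]

theorem ax_e_comp (α : T ⟶ R') :
    pullback.lift (α ≫ L.t' ≫ L.e') α
      (by rw [Category.assoc, Category.assoc, L.ax_e_s, Category.comp_id]) ≫ L.c' = α := by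
  rw [← cancel_mono ιR, L.key]
  refine (comp_congr G ?_ rfl _ _).trans (e_comp G (α ≫ ιR))
  simp only [Category.assoc, L.he]
  rw [← Category.assoc L.t', L.ht, Category.assoc]

theorem ax_i_s : L.i' ≫ L.s' = L.t' := by
  rw [← cancel_mono ιU, Category.assoc, L.hs, ← Category.assoc, L.hi, Category.assoc, G.i_s, L.ht]

theorem ax_i_t : L.i' ≫ L.t' = L.s' := by
  rw [← cancel_mono ιU, Category.assoc, L.ht, ← Category.assoc, L.hi, Category.assoc, G.i_t, L.hs]

theorem ax_comp_i (α : T ⟶ R') :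
    pullback.lift α (α ≫ L.i') (by rw [Category.assoc, L.ax_i_t]) ≫ L.c' =
      α ≫ L.t' ≫ L.e' := by
  rw [← cancel_mono ιR, L.key]
  refine (comp_congr G rfl ?_ _ _).trans ((comp_i G (α ≫ ιR)).trans ?_)
  · simp only [Category.assoc, L.hi]
  · simp only [Category.assoc, L.he]
    rw [← Category.assoc L.t', L.ht, Category.assoc]

theorem ax_i_comp (α : T ⟶ R') :
    pullback.lift (α ≫ L.i') α (by rw [Category.assoc, L.ax_i_s]) ≫ L.c' =
      α ≫ L.s' ≫ L.e' := by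
  rw [← cancel_mono ιR, L.key]
  refine (comp_congr G ?_ rfl _ _).trans ((i_comp G (α ≫ ιR)).trans ?_)
  · simp only [Category.assoc, L.hi]
  · simp only [Category.assoc, L.he]
    rw [← Category.assoc L.s', L.hs, Category.assoc]

/-- The restricted groupoid. -/
noncomputable def grpd : GroupoidScheme S where
  U := U'
  R := R'
  pU := ιU ≫ G.pU
  pR := ιR ≫ G.pR
  s := L.s'
  t := L.t'
  e := L.e'
  i := L.i'
  c := L.c'
  s_over := by rw [← Category.assoc, L.hs, Category.assoc, G.s_over]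
  t_over := by rw [← Category.assoc, L.ht, Category.assoc, G.t_over]
  comp_s := L.ax_comp_s
  comp_t := L.ax_comp_t
  assoc := L.ax_assoc
  e_s := L.ax_e_s
  e_t := L.ax_e_t
  comp_e := L.ax_comp_e
  e_comp := L.ax_e_comp
  i_s := L.ax_i_s
  i_t := L.ax_i_t
  comp_i := L.ax_comp_i
  i_comp := L.ax_i_comp

end Lifts2

section restr

variable (W : G.U.Opens) (hW : G.s ⁻¹ᵁ W = G.t ⁻¹ᵁ W)

/-- restricted source map. -/
noncomputable def rs : (G.s ⁻¹ᵁ W).toScheme ⟶ W.toScheme := G.s ∣_ W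

theorem rs_ι : rs G W ≫ W.ι = (G.s ⁻¹ᵁ W).ι ≫ G.s := morphismRestrict_ι G.s W

include hW in
theorem range_t_le : Set.range ((G.s ⁻¹ᵁ W).ι ≫ G.t) ⊆ Set.range W.ι := by
  rintro _ ⟨x, rfl⟩
  rw [Scheme.Opens.range_ι]
  have hx : x.1 ∈ G.t ⁻¹ᵁ W := by rw [← hW]; exact x.2
  exact hx

/-- restricted target map. -/
noncomputable def rt : (G.s ⁻¹ᵁ W).toScheme ⟶ W.toScheme :=
  IsOpenImmersion.lift W.ι ((G.s ⁻¹ᵁ W).ι ≫ G.t) (range_t_le G W hW)

theorem rt_ι : rt G W hW ≫ W.ι = (G.s ⁻¹ᵁ W).ι ≫ G.t := IsOpenImmersion.lift_fac _ _ _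

theorem range_e_le : Set.range (W.ι ≫ G.e) ⊆ Set.range (G.s ⁻¹ᵁ W).ι := by
  rintro _ ⟨x, rfl⟩
  rw [Scheme.Opens.range_ι]
  show G.s (G.e x.1) ∈ W
  rw [Groth.Agent.Lib.Helper20.HA.e_s_pt]
  exact x.2

/-- restricted identity. -/
noncomputable def re : W.toScheme ⟶ (G.s ⁻¹ᵁ W).toScheme :=
  IsOpenImmersion.lift (G.s ⁻¹ᵁ W).ι (W.ι ≫ G.e) (range_e_le G W)

theorem re_ι : re G W ≫ (G.s ⁻¹ᵁ W).ι = W.ι ≫ G.e := IsOpenImmersion.lift_fac _ _ _

include hW in
theorem range_i_le : Set.range ((G.s ⁻¹ᵁ W).ι ≫ G.i) ⊆ Set.range (G.s ⁻¹ᵁ W).ι := by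
  rintro _ ⟨x, rfl⟩
  rw [Scheme.Opens.range_ι]
  show G.s (G.i x.1) ∈ W
  rw [Groth.Agent.Lib.Helper20.HA.i_s_pt]
  have hx : x.1 ∈ G.t ⁻¹ᵁ W := by rw [← hW]; exact x.2
  exact hx

/-- restricted inverse. -/
noncomputable def ri : (G.s ⁻¹ᵁ W).toScheme ⟶ (G.s ⁻¹ᵁ W).toScheme :=
  IsOpenImmersion.lift (G.s ⁻¹ᵁ W).ι ((G.s ⁻¹ᵁ W).ι ≫ G.i) (range_i_le G W hW)

theorem ri_ι : ri G W hW ≫ (G.s ⁻¹ᵁ W).ι = (G.s ⁻¹ᵁ W).ι ≫ G.i := IsOpenImmersion.lift_fac _ _ _

/-- the map `R_W ×_W R_W → R ×_U R`. -/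
noncomputable def rπ : pullback (rs G W) (rt G W hW) ⟶ pullback G.s G.t :=
  pullback.map (rs G W) (rt G W hW) G.s G.t (G.s ⁻¹ᵁ W).ι (G.s ⁻¹ᵁ W).ι W.ι (rs_ι G W)
    (rt_ι G W hW)

theorem range_c_le : Set.range (rπ G W hW ≫ G.c) ⊆ Set.range (G.s ⁻¹ᵁ W).ι := by
  rintro _ ⟨z, rfl⟩
  rw [Scheme.Opens.range_ι]
  show G.s (G.c (rπ G W hW z)) ∈ W
  have h1 : (G.c ≫ G.s) (rπ G W hW z) = (pullback.snd G.s G.t ≫ G.s) (rπ G W hW z) := by
    rw [Groth.Agent.Lib.Helper25.GrpdTrans.c_s]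
  have h2 : G.s (G.c (rπ G W hW z)) = G.s (pullback.snd G.s G.t (rπ G W hW z)) := h1
  rw [h2]
  have h3 : (rπ G W hW ≫ pullback.snd G.s G.t) z =
      (pullback.snd (rs G W) (rt G W hW) ≫ (G.s ⁻¹ᵁ W).ι) z := by
    rw [rπ, pullback.lift_snd]
  have h4 : pullback.snd G.s G.t (rπ G W hW z) =
      (G.s ⁻¹ᵁ W).ι (pullback.snd (rs G W) (rt G W hW) z) := h3
  rw [h4]
  exact (pullback.snd (rs G W) (rt G W hW) z).2

/-- restricted composition. -/
noncomputable def rc : pullback (rs G W) (rt G W hW) ⟶ (G.s ⁻¹ᵁ W).toScheme :=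
  IsOpenImmersion.lift (G.s ⁻¹ᵁ W).ι (rπ G W hW ≫ G.c) (range_c_le G W hW)

theorem rc_ι : rc G W hW ≫ (G.s ⁻¹ᵁ W).ι = rπ G W hW ≫ G.c := IsOpenImmersion.lift_fac _ _ _

/-- the lifts for the restriction to an invariant open. -/
noncomputable def restrLifts : Lifts2 G W.ι (G.s ⁻¹ᵁ W).ι where
  s' := rs G W
  t' := rt G W hW
  e' := re G W
  i' := ri G W hW
  c' := rc G W hW
  hs := rs_ι G W
  ht := rt_ι G W hW
  he := re_ι G W
  hi := ri_ι G W hW
  hc := rc_ι G W hW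

/-- The restriction of a groupoid scheme to an invariant open. -/
noncomputable def restr : GroupoidScheme S := (restrLifts G W hW).grpd

theorem restr_U : (restr G W hW).U = W.toScheme := rfl
theorem restr_R : (restr G W hW).R = (G.s ⁻¹ᵁ W).toScheme := rfl
theorem restr_s : (restr G W hW).s = G.s ∣_ W := rfl
theorem restr_s_ι : (restr G W hW).s ≫ W.ι = (G.s ⁻¹ᵁ W).ι ≫ G.s := rs_ι G W
theorem restr_t_ι : (restr G W hW).t ≫ W.ι = (G.s ⁻¹ᵁ W).ι ≫ G.t := rt_ι G W hW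

instance [IsFinite G.s] : IsFinite (restr G W hW).s := by
  show IsFinite (G.s ∣_ W); infer_instance

instance [Flat G.s] : Flat (restr G W hW).s := by
  show Flat (G.s ∣_ W); infer_instance

instance [LocallyOfFinitePresentation G.s] : LocallyOfFinitePresentation (restr G W hW).s := by
  show LocallyOfFinitePresentation (G.s ∣_ W)
  exact MorphismProperty.of_isPullback (P := @LocallyOfFinitePresentation)
    (isPullback_morphismRestrict G.s W).flip inferInstance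

theorem isAffine_restr_U (hWa : IsAffineOpen W) : IsAffine (restr G W hW).U := hWa

theorem isAffine_restr_R [IsAffineHom G.s] (hWa : IsAffineOpen W) : IsAffine (restr G W hW).R :=
  hWa.preimage G.s

theorem mono_j_restr [Mono G.j] : Mono (restr G W hW).j := by
  constructor
  intro T a b hab
  have e1 : (restr G W hW).j ≫ pullback.fst _ _ = (restr G W hW).t := pullback.lift_fst _ _ _
  have e2 : (restr G W hW).j ≫ pullback.snd _ _ = (restr G W hW).s := pullback.lift_snd _ _ _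
  have h1 : a ≫ (restr G W hW).t = b ≫ (restr G W hW).t := by
    rw [← e1, ← Category.assoc, hab, Category.assoc]
  have h2 : a ≫ (restr G W hW).s = b ≫ (restr G W hW).s := by
    rw [← e2, ← Category.assoc, hab, Category.assoc]
  change T ⟶ (G.s ⁻¹ᵁ W).toScheme at a b
  have h1' : a ≫ rt G W hW = b ≫ rt G W hW := h1
  have h2' : a ≫ rs G W = b ≫ rs G W := h2
  show a = b
  rw [← cancel_mono (G.s ⁻¹ᵁ W).ι, ← cancel_mono G.j]
  have f1 : G.j ≫ pullback.fst G.pU G.pU = G.t := pullback.lift_fst _ _ _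
  have f2 : G.j ≫ pullback.snd G.pU G.pU = G.s := pullback.lift_snd _ _ _
  apply pullback.hom_ext
  · rw [Category.assoc, Category.assoc, f1, Category.assoc, Category.assoc, f1,
      ← rt_ι G W hW, ← Category.assoc, h1', Category.assoc]
  · rw [Category.assoc, Category.assoc, f2, Category.assoc, Category.assoc, f2,
      ← rs_ι G W, ← Category.assoc, h2', Category.assoc]

end restr

end Groth.Agent.Lib.Helper20.HB
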