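import Mathlib
import Groth.Agent.Lib.Helper20.HB1

/-!
# Maps between rings of invariants, and restriction maps of quotients
-/

set_option autoImplicit false
set_option linter.style.haveILetI false
set_option linter.unusedSimpArgs false
set_option linter.unusedSectionVars false
universe u
open CategoryTheory CategoryTheory.Limits AlgebraicGeometry

namespace Groth.Agent.Lib.Helper20.HB

open Grpd

variable {S : Scheme.{u}}

section invMap

variable {G' G : GroupoidScheme S} (fU : G'.U ⟶ G.U) (fR : G'.R ⟶ G.R)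
  (hs : fR ≫ G.s = G'.s ≫ fU) (ht : fR ≫ G.t = G'.t ≫ fU)

include hs ht in
theorem invMap_aux (a : G.invariants) : fU.appTop.hom a.1 ∈ G'.invariants := by
  show G'.s.appTop.hom (fU.appTop.hom a.1) = G'.t.appTop.hom (fU.appTop.hom a.1)
  have h1 : G'.s.appTop.hom (fU.appTop.hom a.1) = fR.appTop.hom (G.s.appTop.hom a.1) := by
    have := congrArg (fun φ => φ.appTop.hom a.1) hs
    simp only [Scheme.Hom.comp_appTop, CommRingCat.hom_comp, RingHom.comp_apply] at this
    exact this.symm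
  have h2 : G'.t.appTop.hom (fU.appTop.hom a.1) = fR.appTop.hom (G.t.appTop.hom a.1) := by
    have := congrArg (fun φ => φ.appTop.hom a.1) ht
    simp only [Scheme.Hom.comp_appTop, CommRingCat.hom_comp, RingHom.comp_apply] at this
    exact this.symm
  rw [h1, h2]
  exact congrArg _ a.2

/-- the induced map on rings of invariants. -/
noncomputable def invMap : G.invariants →+* G'.invariants :=
  (fU.appTop.hom.comp G.invariants.subtype).codRestrict G'.invariants
    (fun a => invMap_aux fU fR hs ht a)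

theorem invMap_coe (a : G.invariants) : (invMap fU fR hs ht a : Γ(G'.U, ⊤)) = fU.appTop.hom a.1 :=
  rfl

/-- the induced map on quotients. -/
noncomputable def specInv :
    Spec (CommRingCat.of G'.invariants) ⟶ Spec (CommRingCat.of G.invariants) :=
  Spec.map (CommRingCat.ofHom (invMap fU fR hs ht))

theorem toQuot_specInv : G'.toQuot ≫ specInv fU fR hs ht = fU ≫ G.toQuot := by
  unfold GroupoidScheme.toQuot specInv
  rw [← Category.assoc fU, Scheme.toSpecΓ_naturality, Category.assoc, Category.assoc,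
    ← Spec.map_comp, ← Spec.map_comp]
  congr 2

end invMap

theorem specInv_id (G : GroupoidScheme S) :
    specInv (G' := G) (G := G) (𝟙 G.U) (𝟙 G.R) (by simp) (by simp) = 𝟙 _ := by
  unfold specInv
  have : invMap (G' := G) (G := G) (𝟙 G.U) (𝟙 G.R) (by simp) (by simp) = RingHom.id _ := by
    ext a
    rw [invMap_coe]
    simp
  rw [this]
  exact Spec.map_id _

theorem specInv_comp {G'' G' G : GroupoidScheme S} (fU' : G''.U ⟶ G'.U) (fR' : G''.R ⟶ G'.R)
    (hs' : fR' ≫ G'.s = G''.s ≫ fU') (ht' : fR' ≫ G'.t = G''.t ≫ fU')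
    (fU : G'.U ⟶ G.U) (fR : G'.R ⟶ G.R)
    (hs : fR ≫ G.s = G'.s ≫ fU) (ht : fR ≫ G.t = G'.t ≫ fU)
    (hs'' : (fR' ≫ fR) ≫ G.s = G''.s ≫ fU' ≫ fU) (ht'' : (fR' ≫ fR) ≫ G.t = G''.t ≫ fU' ≫ fU) :
    specInv (fU' ≫ fU) (fR' ≫ fR) hs'' ht'' = specInv fU' fR' hs' ht' ≫ specInv fU fR hs ht := by
  unfold specInv
  rw [← Spec.map_comp]
  congr 1

section opens

theorem specInv_congr {G' G : GroupoidScheme S} {fU fU' : G'.U ⟶ G.U} {fR fR' : G'.R ⟶ G.R}
    (hU : fU = fU') (hR : fR = fR')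
    (hs : fR ≫ G.s = G'.s ≫ fU) (ht : fR ≫ G.t = G'.t ≫ fU)
    (hs' : fR' ≫ G.s = G'.s ≫ fU') (ht' : fR' ≫ G.t = G'.t ≫ fU') :
    specInv fU fR hs ht = specInv fU' fR' hs' ht' := by
  subst hU; subst hR; rfl

variable (G : GroupoidScheme S)

/-- An invariant open of a groupoid scheme. -/
structure InvOpen where
  W : G.U.Opens
  inv : G.s ⁻¹ᵁ W = G.t ⁻¹ᵁ W

variable {G}

namespace InvOpen

/-- the restricted groupoid. -/
noncomputable def Gr (W : InvOpen G) : GroupoidScheme S := restr G W.W W.inv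

/-- the quotient of the restricted groupoid (meaningful for affine `W`). -/
noncomputable def Q (W : InvOpen G) : Scheme.{u} := Spec (CommRingCat.of W.Gr.invariants)

/-- the quotient map. -/
noncomputable def q (W : InvOpen G) : W.W.toScheme ⟶ W.Q := W.Gr.toQuot

variable {W' W : InvOpen G} (h : W'.W ≤ W.W)

include h in
theorem preimage_le : G.s ⁻¹ᵁ W'.W ≤ G.s ⁻¹ᵁ W.W := fun _ hx => h hx

/-- inclusion on objects. -/
noncomputable def fU : W'.W.toScheme ⟶ W.W.toScheme := G.U.homOfLE h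

/-- inclusion on arrows. -/
noncomputable def fR : (G.s ⁻¹ᵁ W'.W).toScheme ⟶ (G.s ⁻¹ᵁ W.W).toScheme :=
  G.R.homOfLE (preimage_le h)

theorem fU_ι : fU h ≫ W.W.ι = W'.W.ι := Scheme.homOfLE_ι _ _

theorem fR_ι : fR h ≫ (G.s ⁻¹ᵁ W.W).ι = (G.s ⁻¹ᵁ W'.W).ι := Scheme.homOfLE_ι _ _

theorem fR_s : fR h ≫ rs G W.W = rs G W'.W ≫ fU h := by
  have : (fR h ≫ rs G W.W) ≫ W.W.ι = (rs G W'.W ≫ fU h) ≫ W.W.ι := by
    rw [Category.assoc, rs_ι, ← Category.assoc, fR_ι, Category.assoc, fU_ι, rs_ι]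
  exact (cancel_mono W.W.ι).mp this

theorem fR_t : fR h ≫ rt G W.W W.inv = rt G W'.W W'.inv ≫ fU h := by
  have : (fR h ≫ rt G W.W W.inv) ≫ W.W.ι = (rt G W'.W W'.inv ≫ fU h) ≫ W.W.ι := by
    rw [Category.assoc, rt_ι, ← Category.assoc, fR_ι, Category.assoc, fU_ι, rt_ι]
  exact (cancel_mono W.W.ι).mp this

/-- the restriction map of quotients. -/
noncomputable def res : W'.Q ⟶ W.Q :=
  specInv (G' := W'.Gr) (G := W.Gr) (fU h) (fR h) (fR_s h) (fR_t h)

theorem q_res : W'.q ≫ res h = G.U.homOfLE h ≫ W.q :=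
  toQuot_specInv (G' := W'.Gr) (G := W.Gr) (fU h) (fR h) (fR_s h) (fR_t h)

theorem res_refl (W : InvOpen G) : res (le_refl W.W) = 𝟙 W.Q := by
  have h1 : fU (le_refl W.W) = 𝟙 W.W.toScheme := Scheme.homOfLE_rfl _ _
  have h2 : fR (le_refl W.W) = 𝟙 (G.s ⁻¹ᵁ W.W).toScheme := Scheme.homOfLE_rfl _ _
  exact (specInv_congr (G' := W.Gr) (G := W.Gr) (fU' := 𝟙 W.Gr.U) (fR' := 𝟙 W.Gr.R) h1 h2 _ _
    ((Category.id_comp _).trans (Category.comp_id _).symm)
    ((Category.id_comp _).trans (Category.comp_id _).symm)).trans (specInv_id W.Gr)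

theorem res_trans {W'' W' W : InvOpen G} (h' : W''.W ≤ W'.W) (h : W'.W ≤ W.W) :
    res (h'.trans h) = res h' ≫ res h := by
  have h1 : fU (h'.trans h) = fU h' ≫ fU h := (Scheme.homOfLE_homOfLE _ _ _).symm
  have h2 : fR (h'.trans h) = fR h' ≫ fR h := (Scheme.homOfLE_homOfLE _ _ _).symm
  have hs'' : (fR h' ≫ fR h) ≫ rs G W.W = rs G W''.W ≫ fU h' ≫ fU h := by
    rw [← h2, ← h1]; exact fR_s _
  have ht'' : (fR h' ≫ fR h) ≫ rt G W.W W.inv = rt G W''.W W''.inv ≫ fU h' ≫ fU h := by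
    rw [← h2, ← h1]; exact fR_t _
  exact (specInv_congr (G' := W''.Gr) (G := W.Gr) h1 h2 _ _ hs'' ht'').trans
    (specInv_comp (G'' := W''.Gr) (G' := W'.Gr) (G := W.Gr) (fU h') (fR h') (fR_s h') (fR_t h')
      (fU h) (fR h) (fR_s h) (fR_t h) hs'' ht'')

end InvOpen

end opens

end Groth.Agent.Lib.Helper20.HB
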