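import Mathlib
import Groth.Agent.Lib.Helper20.HB2

/-!
# Localization of invariants, basic invariant opens
-/

set_option autoImplicit false
set_option linter.style.haveILetI false
set_option linter.unusedSimpArgs false
set_option linter.unusedSectionVars false
universe u
open CategoryTheory CategoryTheory.Limits AlgebraicGeometry

namespace Groth.Agent.Lib.Helper20.HB

open Grpd

/-- ring-level: the equalizer of a localized pair is the localization of the equalizer. -/
theorem isLocalization_eqLocus {A B A' B' : Type u} [CommRing A] [CommRing B] [CommRing A']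
    [CommRing B'] (s t : A →+* B) (s' t' : A' →+* B') (ρA : A →+* A') (ρB : B →+* B')
    (hs : ∀ a, ρB (s a) = s' (ρA a)) (ht : ∀ a, ρB (t a) = t' (ρA a)) (c : A) (hc : s c = t c)
    (hA : @IsLocalization.Away A _ c A' _ ρA.toAlgebra)
    (hB : @IsLocalization.Away B _ (s c) B' _ ρB.toAlgebra)
    (ρC : RingHom.eqLocus s t →+* RingHom.eqLocus s' t') (hρC : ∀ a, (ρC a : A') = ρA a.1) :
    @IsLocalization.Away (RingHom.eqLocus s t) _ ⟨c, hc⟩ (RingHom.eqLocus s' t') _
      ρC.toAlgebra := by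
  letI algA : Algebra A A' := ρA.toAlgebra
  letI algB : Algebra B B' := ρB.toAlgebra
  letI algC : Algebra (RingHom.eqLocus s t) (RingHom.eqLocus s' t') := ρC.toAlgebra
  have hAm : ∀ a : A, algebraMap A A' a = ρA a := fun _ => rfl
  have hBm : ∀ b : B, algebraMap B B' b = ρB b := fun _ => rfl
  have hCm : ∀ a, algebraMap (RingHom.eqLocus s t) (RingHom.eqLocus s' t') a = ρC a :=
    fun _ => rfl
  refine IsLocalization.Away.mk _ ?_ ?_ ?_
  · -- unit
    have hu : IsUnit (ρA c) := IsLocalization.Away.algebraMap_isUnit (S := A') c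
    obtain ⟨u, hu1⟩ := hu.exists_right_inv
    have hus : s' (ρA c) * s' u = 1 := by rw [← map_mul, hu1, map_one]
    have hut : s' (ρA c) * t' u = 1 := by
      have : t' (ρA c) * t' u = 1 := by rw [← map_mul, hu1, map_one]
      rwa [← ht, ← hc, hs] at this
    have hu2 : s' u = t' u := by
      calc s' u = s' u * (s' (ρA c) * t' u) := by rw [hut, mul_one]
        _ = (s' (ρA c) * s' u) * t' u := by ring
        _ = t' u := by rw [hus, one_mul]
    rw [hCm]
    refine IsUnit.of_mul_eq_one (⟨u, hu2⟩ : RingHom.eqLocus s' t') ?_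
    apply Subtype.ext
    show (ρC ⟨c, hc⟩ : A') * u = 1
    rw [hρC]
    exact hu1
  · -- surj
    intro z
    obtain ⟨n, a, hna⟩ := IsLocalization.Away.surj (S := A') c z.1
    rw [hAm, hAm] at hna
    have hz : s' z.1 = t' z.1 := z.2
    have h1 : ρB (s a) = ρB (t a) := by
      rw [hs, ht, ← hna, map_mul, map_mul, map_pow, map_pow, hz, ← hs, ← ht, hc]
    obtain ⟨m, hm⟩ := IsLocalization.Away.exists_of_eq (S := B') (s c) h1
    have hmem : s (c ^ m * a) = t (c ^ m * a) := by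
      rw [map_mul, map_mul, map_pow, map_pow, ← hc]
      exact hm
    refine ⟨n + m, ⟨c ^ m * a, hmem⟩, ?_⟩
    apply Subtype.ext
    rw [hCm, hCm]
    show z.1 * ((ρC ⟨c, hc⟩) ^ (n + m) : RingHom.eqLocus s' t').1 = (ρC ⟨c ^ m * a, hmem⟩ : A')
    rw [hρC, SubmonoidClass.coe_pow, hρC]
    show z.1 * ρA c ^ (n + m) = ρA (c ^ m * a)
    rw [map_mul, map_pow, ← hna, pow_add]
    ring
  · -- exists_of_eq
    intro a b hab
    rw [hCm, hCm] at hab
    have h1 : ρA a.1 = ρA b.1 := by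
      rw [← hρC, ← hρC, hab]
    obtain ⟨m, hm⟩ := IsLocalization.Away.exists_of_eq (S := A') c h1
    refine ⟨m, ?_⟩
    apply Subtype.ext
    show ((⟨c, hc⟩ : RingHom.eqLocus s t) ^ m).1 * a.1 = ((⟨c, hc⟩ : RingHom.eqLocus s t) ^ m).1 * b.1
    rw [SubmonoidClass.coe_pow]
    exact hm

variable {S : Scheme.{u}} {G : GroupoidScheme S}

namespace InvOpen

/-- `s⁻¹` and `t⁻¹` of the basic open of an invariant function agree. -/
theorem basic_iff (W : InvOpen G) (c : W.Gr.invariants) (r' : (G.s ⁻¹ᵁ W.W).toScheme) :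
    rs G W.W r' ∈ W.W.toScheme.basicOpen c.1 ↔ rt G W.W W.inv r' ∈ W.W.toScheme.basicOpen c.1 := by
  have h1 : rs G W.W ⁻¹ᵁ W.W.toScheme.basicOpen c.1 =
      (G.s ⁻¹ᵁ W.W).toScheme.basicOpen ((rs G W.W).appTop.hom c.1) :=
    Scheme.preimage_basicOpen_top _ _
  have h2 : rt G W.W W.inv ⁻¹ᵁ W.W.toScheme.basicOpen c.1 =
      (G.s ⁻¹ᵁ W.W).toScheme.basicOpen ((rt G W.W W.inv).appTop.hom c.1) :=
    Scheme.preimage_basicOpen_top _ _
  have h3 : (rs G W.W).appTop.hom c.1 = (rt G W.W W.inv).appTop.hom c.1 := c.2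
  show r' ∈ rs G W.W ⁻¹ᵁ W.W.toScheme.basicOpen c.1 ↔
    r' ∈ rt G W.W W.inv ⁻¹ᵁ W.W.toScheme.basicOpen c.1
  rw [h1, h2, h3]

theorem basic_inv (W : InvOpen G) (c : W.Gr.invariants) :
    G.s ⁻¹ᵁ (W.W.ι ''ᵁ (W.W.toScheme.basicOpen c.1)) =
      G.t ⁻¹ᵁ (W.W.ι ''ᵁ (W.W.toScheme.basicOpen c.1)) := by
  have hinj : Function.Injective W.W.ι := W.W.ι.isOpenEmbedding.injective
  ext r
  constructor
  · rintro ⟨y, hy, hyr⟩
    have hr : r ∈ G.s ⁻¹ᵁ W.W := by
      show G.s r ∈ W.W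
      rw [← hyr]; exact y.2
    let r' : (G.s ⁻¹ᵁ W.W).toScheme := ⟨r, hr⟩
    have e1 : W.W.ι (rs G W.W r') = G.s r := by
      have : (rs G W.W ≫ W.W.ι) r' = ((G.s ⁻¹ᵁ W.W).ι ≫ G.s) r' := by rw [rs_ι]
      exact this
    have e2 : rs G W.W r' = y := hinj (e1.trans hyr.symm)
    have e3 : rt G W.W W.inv r' ∈ W.W.toScheme.basicOpen c.1 := by
      rw [← basic_iff, e2]; exact hy
    refine ⟨rt G W.W W.inv r', e3, ?_⟩
    have : (rt G W.W W.inv ≫ W.W.ι) r' = ((G.s ⁻¹ᵁ W.W).ι ≫ G.t) r' := by rw [rt_ι]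
    exact this
  · rintro ⟨y, hy, hyr⟩
    have hr : r ∈ G.s ⁻¹ᵁ W.W := by
      rw [W.inv]
      show G.t r ∈ W.W
      rw [← hyr]; exact y.2
    let r' : (G.s ⁻¹ᵁ W.W).toScheme := ⟨r, hr⟩
    have e1 : W.W.ι (rt G W.W W.inv r') = G.t r := by
      have : (rt G W.W W.inv ≫ W.W.ι) r' = ((G.s ⁻¹ᵁ W.W).ι ≫ G.t) r' := by rw [rt_ι]
      exact this
    have e2 : rt G W.W W.inv r' = y := hinj (e1.trans hyr.symm)
    have e3 : rs G W.W r' ∈ W.W.toScheme.basicOpen c.1 := by
      rw [basic_iff, e2]; exact hy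
    refine ⟨rs G W.W r', e3, ?_⟩
    have : (rs G W.W ≫ W.W.ι) r' = ((G.s ⁻¹ᵁ W.W).ι ≫ G.s) r' := by rw [rs_ι]
    exact this

/-- the basic invariant open attached to an invariant function. -/
noncomputable def basic (W : InvOpen G) (c : W.Gr.invariants) : InvOpen G where
  W := W.W.ι ''ᵁ (W.W.toScheme.basicOpen c.1)
  inv := basic_inv W c

theorem basic_le (W : InvOpen G) (c : W.Gr.invariants) : (W.basic c).W ≤ W.W :=
  W.W.ι_image_le _

theorem basic_eq (W : InvOpen G) (c : W.Gr.invariants) :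
    (W.basic c).W = G.U.basicOpen (c.1 : Γ(G.U, W.W.ι ''ᵁ ⊤)) :=
  Scheme.Opens.ι_image_basicOpen W.W c.1

theorem isAffineOpen_basic (W : InvOpen G) (hWa : IsAffineOpen W.W) (c : W.Gr.invariants) :
    IsAffineOpen (W.basic c).W := by
  haveI : IsAffine W.W.toScheme := hWa
  exact ((isAffineOpen_top W.W.toScheme).basicOpen c.1).image_of_isOpenImmersion W.W.ι

/-- localization of sections along a basic open, in `toScheme` form. -/
theorem isLocalization_appTop_homOfLE {X : Scheme.{u}} {V V' : X.Opens} (hV : IsAffineOpen V)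
    (f : Γ(V.toScheme, ⊤)) (h : V' ≤ V) (e : V' = X.basicOpen (f : Γ(X, V.ι ''ᵁ ⊤))) :
    @IsLocalization.Away Γ(V.toScheme, ⊤) _ f Γ(V'.toScheme, ⊤) _
      (X.homOfLE h).appTop.hom.toAlgebra := by
  have hU' : IsAffineOpen (V.ι ''ᵁ ⊤) := by rw [Scheme.Opens.ι_image_top]; exact hV
  have e' : V'.ι ''ᵁ ⊤ = X.basicOpen (f : Γ(X, V.ι ''ᵁ ⊤)) := by
    rw [Scheme.Opens.ι_image_top]; exact e
  have hle : V'.ι ''ᵁ ⊤ ≤ V.ι ''ᵁ ⊤ := by
    rw [Scheme.Opens.ι_image_top, Scheme.Opens.ι_image_top]; exact h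
  have key := hU'.isLocalization_of_eq_basicOpen (f : Γ(X, V.ι ''ᵁ ⊤)) (homOfLE hle) e'
  have hmap : (X.homOfLE h).appTop = X.presheaf.map (homOfLE hle).op := Scheme.homOfLE_appTop _
  rw [hmap]
  exact key

theorem preimage_image_basicOpen (W : G.U.Opens) (f : Γ(W.toScheme, ⊤)) :
    G.s ⁻¹ᵁ (W.ι ''ᵁ W.toScheme.basicOpen f) =
      G.R.basicOpen (((rs G W).appTop.hom f : Γ((G.s ⁻¹ᵁ W).toScheme, ⊤)) :
        Γ(G.R, (G.s ⁻¹ᵁ W).ι ''ᵁ ⊤)) := by
  rw [← Scheme.Opens.ι_image_basicOpen, ← Scheme.preimage_basicOpen_top]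
  exact (IsOpenImmersion.image_preimage_eq_preimage_image_of_isPullback
    (isPullback_morphismRestrict G.s W) _).symm

theorem isLocalization_basic [IsAffineHom G.s] (W : InvOpen G) (hWa : IsAffineOpen W.W)
    (c : W.Gr.invariants) :
    @IsLocalization.Away W.Gr.invariants _ c (W.basic c).Gr.invariants _
      (invMap (G' := (W.basic c).Gr) (G := W.Gr) (fU (basic_le W c)) (fR (basic_le W c))
        (fR_s _) (fR_t _)).toAlgebra := by
  have h := basic_le W c
  have hRa : IsAffineOpen (G.s ⁻¹ᵁ W.W) := hWa.preimage G.s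
  -- localization on objects
  have hA := isLocalization_appTop_homOfLE hWa c.1 h (basic_eq W c)
  -- localization on arrows
  have eR : G.s ⁻¹ᵁ (W.basic c).W =
      G.R.basicOpen (((rs G W.W).appTop.hom c.1 : Γ((G.s ⁻¹ᵁ W.W).toScheme, ⊤)) :
        Γ(G.R, (G.s ⁻¹ᵁ W.W).ι ''ᵁ ⊤)) := preimage_image_basicOpen W.W c.1
  have hB := isLocalization_appTop_homOfLE hRa ((rs G W.W).appTop.hom c.1) (preimage_le h) eR
  refine isLocalization_eqLocus (rs G W.W).appTop.hom (rt G W.W W.inv).appTop.hom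
    (rs G (W.basic c).W).appTop.hom (rt G (W.basic c).W (W.basic c).inv).appTop.hom
    (fU h).appTop.hom (fR h).appTop.hom ?_ ?_ c.1 c.2 hA hB _ (fun a => rfl)
  · intro a
    have := congrArg (fun φ => φ.appTop.hom a) (fR_s h)
    simp only [Scheme.Hom.comp_appTop, CommRingCat.hom_comp, RingHom.comp_apply] at this
    exact this
  · intro a
    have := congrArg (fun φ => φ.appTop.hom a) (fR_t h)
    simp only [Scheme.Hom.comp_appTop, CommRingCat.hom_comp, RingHom.comp_apply] at this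
    exact this

theorem isOpenImmersion_res_basic [IsAffineHom G.s] (W : InvOpen G) (hWa : IsAffineOpen W.W)
    (c : W.Gr.invariants) : IsOpenImmersion (res (basic_le W c)) := by
  letI alg : Algebra W.Gr.invariants (W.basic c).Gr.invariants :=
    (invMap (G' := (W.basic c).Gr) (G := W.Gr) (fU (basic_le W c)) (fR (basic_le W c))
        (fR_s _) (fR_t _)).toAlgebra
  haveI := isLocalization_basic W hWa c
  exact IsOpenImmersion.of_isLocalization (R := W.Gr.invariants) (S := (W.basic c).Gr.invariants) c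

theorem range_res_basic [IsAffineHom G.s] (W : InvOpen G) (hWa : IsAffineOpen W.W)
    (c : W.Gr.invariants) :
    Set.range (res (basic_le W c)) =
      (PrimeSpectrum.basicOpen c : Set (PrimeSpectrum W.Gr.invariants)) := by
  letI alg : Algebra W.Gr.invariants (W.basic c).Gr.invariants :=
    (invMap (G' := (W.basic c).Gr) (G := W.Gr) (fU (basic_le W c)) (fR (basic_le W c))
        (fR_s _) (fR_t _)).toAlgebra
  haveI := isLocalization_basic W hWa c
  exact PrimeSpectrum.localization_away_comap_range (W.basic c).Gr.invariants c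

end InvOpen

end Groth.Agent.Lib.Helper20.HB
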