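import Mathlib
import Groth.Agent.Lib.Helper20.HB3
import Groth.Agent.S1878
import Groth.Agent.Lib.Helper10.GrpdPts

/-!
# The quotient of a groupoid scheme with finite locally free source map and enough invariant
affine opens: construction by gluing
-/

set_option autoImplicit false
set_option linter.style.haveILetI false
set_option linter.unusedSimpArgs false
set_option linter.unusedSectionVars false
universe u
open CategoryTheory CategoryTheory.Limits AlgebraicGeometry

namespace Groth.Agent.Lib.Helper20.HB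

open Grpd

variable {S : Scheme.{u}}

section affine

variable (G : GroupoidScheme S)

theorem t_inst [IsFinite G.s] [Flat G.s] [LocallyOfFinitePresentation G.s] :
    IsFinite G.t ∧ Flat G.t ∧ LocallyOfFinitePresentation G.t := by
  have h : G.t = G.i ≫ G.s := G.i_s.symm
  haveI : IsIso G.i := Groth.Agent.Lib.Helper10.GrpdPts.isIso_i
  rw [h]
  exact ⟨inferInstance, inferInstance, inferInstance⟩

variable [IsAffine G.U] [IsAffine G.R] [IsFinite G.s] [Flat G.s] [LocallyOfFinitePresentation G.s]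

theorem toQuot_surjective : Function.Surjective G.toQuot := by
  obtain ⟨h1, h2, h3⟩ := t_inst G
  exact (Groth.Agent.S1878.result S G).1.1

theorem toQuot_eq_iff (u₀ u₁ : G.U) :
    G.toQuot u₀ = G.toQuot u₁ ↔ ∃ r : G.R, G.t r = u₀ ∧ G.s r = u₁ := by
  obtain ⟨h1, h2, h3⟩ := t_inst G
  exact (Groth.Agent.S1878.result S G).1.2 u₀ u₁

theorem toQuot_isClosedMap : IsClosedMap G.toQuot := by
  haveI hint : Algebra.IsIntegral G.invariants Γ(G.U, ⊤) :=
    (Groth.Agent.Lib.Helper20.HA.ofGrpd G).isIntegral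
  have h1 : IsClosedMap (PrimeSpectrum.comap G.invariants.subtype) :=
    PrimeSpectrum.isClosedMap_comap_of_isIntegral _ (algebraMap_isIntegral_iff.mpr hint)
  have h2 : IsClosedMap G.U.toSpecΓ := G.U.toSpecΓ.homeomorph.isClosedMap
  exact h1.comp h2

omit [IsAffine G.U] [IsAffine G.R] [IsFinite G.s] [Flat G.s] [LocallyOfFinitePresentation G.s] in
theorem toQuot_preimage_basicOpen (c : G.invariants) :
    G.toQuot ⁻¹ᵁ (PrimeSpectrum.basicOpen c) = G.U.basicOpen c.1 := by
  rw [← Scheme.toSpecΓ_preimage_basicOpen]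
  rfl

end affine

section pts

variable (G : GroupoidScheme S) (W : G.U.Opens) (hW : G.s ⁻¹ᵁ W = G.t ⁻¹ᵁ W)

theorem rs_apply (r' : (G.s ⁻¹ᵁ W).toScheme) : (rs G W r').1 = G.s r'.1 := by
  have : (rs G W ≫ W.ι) r' = ((G.s ⁻¹ᵁ W).ι ≫ G.s) r' := by rw [rs_ι]
  exact this

theorem rt_apply (r' : (G.s ⁻¹ᵁ W).toScheme) : (rt G W hW r').1 = G.t r'.1 := by
  have : (rt G W hW ≫ W.ι) r' = ((G.s ⁻¹ᵁ W).ι ≫ G.t) r' := by rw [rt_ι]
  exact this

end pts

instance {G : GroupoidScheme S} (W : InvOpen G) [IsFinite G.s] : IsFinite W.Gr.s :=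
  inferInstanceAs (IsFinite (restr G W.W W.inv).s)

instance {G : GroupoidScheme S} (W : InvOpen G) [Flat G.s] : Flat W.Gr.s :=
  inferInstanceAs (Flat (restr G W.W W.inv).s)

instance {G : GroupoidScheme S} (W : InvOpen G) [LocallyOfFinitePresentation G.s] :
    LocallyOfFinitePresentation W.Gr.s :=
  inferInstanceAs (LocallyOfFinitePresentation (restr G W.W W.inv).s)

variable (G : GroupoidScheme S) in
/-- An invariant affine open. -/
structure AffInv extends InvOpen G where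
  aff : IsAffineOpen W

variable {G : GroupoidScheme S}

namespace AffInv

theorem ext' {W W' : AffInv G} (h : W.W = W'.W) : W = W' := by
  cases W with | mk W1 a1 =>
  cases W' with | mk W2 a2 =>
  cases W1; cases W2
  simp only at h
  subst h
  rfl

variable [IsFinite G.s] [Flat G.s] [LocallyOfFinitePresentation G.s] (W : AffInv G)

theorem isAffine_U : IsAffine W.toInvOpen.Gr.U := W.aff

theorem isAffine_R : IsAffine W.toInvOpen.Gr.R := W.aff.preimage G.s

theorem q_surjective : Function.Surjective W.toInvOpen.q := by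
  haveI := W.isAffine_U
  haveI := W.isAffine_R
  exact toQuot_surjective W.toInvOpen.Gr

theorem q_eq_iff (x x' : W.W.toScheme) :
    W.toInvOpen.q x = W.toInvOpen.q x' ↔ ∃ r : G.R, G.t r = x.1 ∧ G.s r = x'.1 := by
  haveI := W.isAffine_U
  haveI := W.isAffine_R
  have h := toQuot_eq_iff W.toInvOpen.Gr x x'
  refine h.trans ?_
  constructor
  · rintro ⟨r', h1, h2⟩
    change (G.s ⁻¹ᵁ W.W).toScheme at r'
    refine ⟨r'.1, ?_, ?_⟩
    · rw [← rt_apply G W.W W.inv r']
      exact congrArg Subtype.val h1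
    · rw [← rs_apply G W.W r']
      exact congrArg Subtype.val h2
  · rintro ⟨r, h1, h2⟩
    have hr : r ∈ G.s ⁻¹ᵁ W.W := by
      show G.s r ∈ W.W
      rw [h2]; exact x'.2
    let r' : (G.s ⁻¹ᵁ W.W).toScheme := ⟨r, hr⟩
    refine ⟨r', ?_, ?_⟩
    · apply Subtype.ext
      exact (rt_apply G W.W W.inv r').trans h1
    · apply Subtype.ext
      exact (rs_apply G W.W r').trans h2

theorem q_isClosedMap : IsClosedMap W.toInvOpen.q := by
  haveI := W.isAffine_U
  haveI := W.isAffine_R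
  exact toQuot_isClosedMap W.toInvOpen.Gr

omit [IsFinite G.s] [Flat G.s] [LocallyOfFinitePresentation G.s] in
theorem mem_basic_iff (c : W.toInvOpen.Gr.invariants) (x : W.W.toScheme) :
    x.1 ∈ (W.toInvOpen.basic c).W ↔ W.toInvOpen.q x ∈ PrimeSpectrum.basicOpen c := by
  have h1 : x.1 ∈ (W.toInvOpen.basic c).W ↔ x ∈ W.W.toScheme.basicOpen c.1 := by
    constructor
    · rintro ⟨y, hy, hyx⟩
      have : y = x := Subtype.ext hyx
      rw [← this]; exact hy
    · intro hx
      exact ⟨x, hx, rfl⟩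
  rw [h1]
  have h2 := toQuot_preimage_basicOpen W.toInvOpen.Gr c
  have h3 : x ∈ W.toInvOpen.Gr.toQuot ⁻¹ᵁ (PrimeSpectrum.basicOpen c) ↔
      x ∈ W.toInvOpen.Gr.U.basicOpen c.1 := by rw [h2]
  exact h3.symm

/-- the basic invariant affine open of an invariant function. -/
noncomputable def basic (c : W.toInvOpen.Gr.invariants) : AffInv G where
  toInvOpen := W.toInvOpen.basic c
  aff := W.toInvOpen.isAffineOpen_basic W.aff c

/-- a point of `W` inside an invariant open `O` has a basic invariant neighbourhood inside `O`. -/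
theorem exists_basic_le (O : G.U.Opens) (hO : ∀ r : G.R, G.t r ∈ O → G.s r ∈ O) (u : G.U)
    (huW : u ∈ W.W) (huO : u ∈ O) :
    ∃ c : W.toInvOpen.Gr.invariants, u ∈ (W.basic c).W ∧ (W.basic c).W ≤ O := by
  let Z : Set W.W.toScheme := {x | x.1 ∉ O}
  have hZ : IsClosed Z := by
    have : Z = (W.W.ι ⁻¹ᵁ O : Set W.W.toScheme)ᶜ := by
      ext x; rfl
    rw [this]
    exact (W.W.ι ⁻¹ᵁ O).isOpen.isClosed_compl
  have hqZ : IsClosed (W.toInvOpen.q '' Z) := W.q_isClosedMap Z hZ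
  let x₀ : W.W.toScheme := ⟨u, huW⟩
  have hu : W.toInvOpen.q x₀ ∈ (W.toInvOpen.q '' Z)ᶜ := by
    rintro ⟨x, hx, hxu⟩
    obtain ⟨r, hr1, hr2⟩ := (W.q_eq_iff x₀ x).mp hxu.symm
    apply hx
    rw [← hr2]
    apply hO
    rw [hr1]
    exact huO
  obtain ⟨v, ⟨c, rfl⟩, hcv, hvsub⟩ :=
    PrimeSpectrum.isTopologicalBasis_basic_opens.exists_subset_of_mem_open hu hqZ.isOpen_compl
  refine ⟨c, ?_, ?_⟩
  · exact (W.mem_basic_iff c x₀).mpr hcv
  · intro x hx
    have hxW : x ∈ W.W := W.toInvOpen.basic_le c hx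
    have h1 := (W.mem_basic_iff c ⟨x, hxW⟩).mp hx
    have h2 := hvsub h1
    by_contra hxO
    exact h2 ⟨⟨x, hxW⟩, hxO, rfl⟩

omit [IsFinite G.s] [Flat G.s] [LocallyOfFinitePresentation G.s] in
theorem inv_imp (W : InvOpen G) (r : G.R) (h : G.t r ∈ W.W) : G.s r ∈ W.W := by
  have : r ∈ G.t ⁻¹ᵁ W.W := h
  rw [← W.inv] at this
  exact this

omit [IsFinite G.s] [Flat G.s] [LocallyOfFinitePresentation G.s] in
theorem inv_imp' (W : InvOpen G) (r : G.R) (h : G.s r ∈ W.W) : G.t r ∈ W.W := by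
  have : r ∈ G.s ⁻¹ᵁ W.W := h
  rw [W.inv] at this
  exact this

/-- the order on invariant affine opens: inclusions inducing open immersions of quotients. -/
instance : Preorder (AffInv G) where
  le W' W := ∃ h : W'.W ≤ W.W,
    IsOpenImmersion (InvOpen.res (W' := W'.toInvOpen) (W := W.toInvOpen) h)
  le_refl W := ⟨le_refl _, by rw [InvOpen.res_refl]; infer_instance⟩
  le_trans W'' W' W := by
    rintro ⟨h', i'⟩ ⟨h, i⟩
    refine ⟨h'.trans h, ?_⟩
    rw [InvOpen.res_trans h' h]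
    infer_instance

omit [IsFinite G.s] [Flat G.s] [LocallyOfFinitePresentation G.s] in
theorem le_def {W' W : AffInv G} : W' ≤ W ↔ ∃ h : W'.W ≤ W.W,
    IsOpenImmersion (InvOpen.res (W' := W'.toInvOpen) (W := W.toInvOpen) h) := Iff.rfl

theorem basic_le' (c : W.toInvOpen.Gr.invariants) : W.basic c ≤ W :=
  ⟨W.toInvOpen.basic_le c, W.toInvOpen.isOpenImmersion_res_basic W.aff c⟩

/-- the restriction map on quotients as a map of prime spectra. -/
theorem res_mem_basicOpen {W' W : AffInv G} (h : W'.W ≤ W.W) (d : W.toInvOpen.Gr.invariants)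
    (y : W'.toInvOpen.Q) :
    InvOpen.res (W' := W'.toInvOpen) (W := W.toInvOpen) h y ∈ PrimeSpectrum.basicOpen d ↔
      y ∈ PrimeSpectrum.basicOpen
        (invMap (G' := W'.toInvOpen.Gr) (G := W.toInvOpen.Gr) (InvOpen.fU h) (InvOpen.fR h)
          (InvOpen.fR_s h) (InvOpen.fR_t h) d) := Iff.rfl

omit [IsFinite G.s] [Flat G.s] [LocallyOfFinitePresentation G.s] in
theorem homOfLE_apply {V V' : G.U.Opens} (h : V' ≤ V) (y : V'.toScheme) :
    (G.U.homOfLE h y).1 = y.1 := by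
  have : (G.U.homOfLE h ≫ V.ι) y = V'.ι y := by rw [Scheme.homOfLE_ι]
  exact this

omit [IsFinite G.s] [Flat G.s] [LocallyOfFinitePresentation G.s] in
theorem q_res_apply {W' W : AffInv G} (h : W'.W ≤ W.W) (x : G.U) (hxW' : x ∈ W'.W) :
    InvOpen.res (W' := W'.toInvOpen) (W := W.toInvOpen) h (W'.toInvOpen.q ⟨x, hxW'⟩) =
      W.toInvOpen.q ⟨x, h hxW'⟩ := by
  have h0 := congrArg (fun f : W'.W.toScheme ⟶ W.toInvOpen.Q => f ⟨x, hxW'⟩)
    (InvOpen.q_res (W' := W'.toInvOpen) (W := W.toInvOpen) h)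
  have h1 : InvOpen.res (W' := W'.toInvOpen) (W := W.toInvOpen) h (W'.toInvOpen.q ⟨x, hxW'⟩) =
      W.toInvOpen.q (G.U.homOfLE h ⟨x, hxW'⟩) := h0
  rw [h1]
  congr 1
  exact Subtype.ext (homOfLE_apply h ⟨x, hxW'⟩)

/-- a basic open of `W` contained in `W'` is a basic open of `W'`. -/
theorem basic_eq_basic {W' W : AffInv G} (h : W'.W ≤ W.W) (d : W.toInvOpen.Gr.invariants)
    (hd : (W.basic d).W ≤ W'.W) :
    W.basic d = W'.basic (invMap (G' := W'.toInvOpen.Gr) (G := W.toInvOpen.Gr) (InvOpen.fU h)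
      (InvOpen.fR h) (InvOpen.fR_s h) (InvOpen.fR_t h) d) := by
  apply ext'
  ext x
  constructor
  · intro hx
    have hxW' : x ∈ W'.W := hd hx
    have hxW : x ∈ W.W := h hxW'
    refine (W'.mem_basic_iff _ ⟨x, hxW'⟩).mpr ?_
    rw [← res_mem_basicOpen h d]
    have h1 : InvOpen.res (W' := W'.toInvOpen) (W := W.toInvOpen) h (W'.toInvOpen.q ⟨x, hxW'⟩) =
        W.toInvOpen.q ⟨x, hxW⟩ := q_res_apply h x hxW'
    rw [h1]
    exact (W.mem_basic_iff d ⟨x, hxW⟩).mp hx
  · intro hx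
    have hxW' : x ∈ W'.W := W'.toInvOpen.basic_le _ hx
    have hxW : x ∈ W.W := h hxW'
    have h2 := (W'.mem_basic_iff _ ⟨x, hxW'⟩).mp hx
    rw [← res_mem_basicOpen h d] at h2
    have h1 : InvOpen.res (W' := W'.toInvOpen) (W := W.toInvOpen) h (W'.toInvOpen.q ⟨x, hxW'⟩) =
        W.toInvOpen.q ⟨x, hxW⟩ := q_res_apply h x hxW'
    rw [h1] at h2
    exact (W.mem_basic_iff d ⟨x, hxW⟩).mpr h2

/-- common refinement: two invariant affine opens through a point have a common lower bound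
through that point. -/
theorem exists_le_le (Wi Wj : AffInv G) (u : G.U) (hi : u ∈ Wi.W) (hj : u ∈ Wj.W) :
    ∃ Wm : AffInv G, Wm ≤ Wi ∧ Wm ≤ Wj ∧ u ∈ Wm.W := by
  obtain ⟨c, hc1, hc2⟩ := Wi.exists_basic_le Wj.W (fun r hr => inv_imp Wj.toInvOpen r hr) u hi hj
  obtain ⟨d, hd1, hd2⟩ := Wj.exists_basic_le (Wi.basic c).W
    (fun r hr => inv_imp (Wi.basic c).toInvOpen r hr) u hj hc1
  refine ⟨Wj.basic d, ?_, Wj.basic_le' d, hd1⟩
  have e := basic_eq_basic (W' := Wi.basic c) (W := Wj) hc2 d hd2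
  rw [e]
  exact le_trans ((Wi.basic c).basic_le' _) (Wi.basic_le' c)

end AffInv

end Groth.Agent.Lib.Helper20.HB
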