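import Mathlib
import Groth.Agent.Lib.Helper20.HB4

/-!
# The glued quotient `Y` and the quotient map `p : U ⟶ Y`
-/

set_option autoImplicit false
set_option linter.style.haveILetI false
set_option linter.unusedSimpArgs false
set_option linter.unusedSectionVars false
universe u
open CategoryTheory CategoryTheory.Limits AlgebraicGeometry

namespace Groth.Agent.Lib.Helper20.HB

open Grpd

variable {S : Scheme.{u}} {G : GroupoidScheme S}

namespace AffInv

variable [IsFinite G.s] [Flat G.s] [LocallyOfFinitePresentation G.s]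

variable (G) in
/-- the diagram of affine quotients. -/
noncomputable def F : AffInv G ⥤ Scheme.{u} where
  obj W := W.toInvOpen.Q
  map {W' W} f := InvOpen.res (W' := W'.toInvOpen) (W := W.toInvOpen) (leOfHom f).fst
  map_id W := InvOpen.res_refl _
  map_comp f g := InvOpen.res_trans _ _

omit [IsFinite G.s] [Flat G.s] [LocallyOfFinitePresentation G.s] in
theorem F_map {W' W : AffInv G} (f : W' ⟶ W) :
    (F G).map f = InvOpen.res (W' := W'.toInvOpen) (W := W.toInvOpen) (leOfHom f).fst := rfl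

instance {W' W : AffInv G} (f : W' ⟶ W) : IsOpenImmersion ((F G).map f) := (leOfHom f).snd

instance : (F G ⋙ Scheme.forget).IsLocallyDirected := by
  constructor
  intro Wi Wj Wk fi fj xi xj hx
  change Wi.toInvOpen.Q at xi
  change Wj.toInvOpen.Q at xj
  have hx' : (F G).map fi xi = (F G).map fj xj := hx
  obtain ⟨ui, rfl⟩ := Wi.q_surjective xi
  obtain ⟨uj, rfl⟩ := Wj.q_surjective xj
  have hik : Wi.W ≤ Wk.W := (leOfHom fi).fst
  have hjk : Wj.W ≤ Wk.W := (leOfHom fj).fst
  have e1 : (F G).map fi (Wi.toInvOpen.q ui) = Wk.toInvOpen.q ⟨ui.1, hik ui.2⟩ :=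
    q_res_apply hik ui.1 ui.2
  have e2 : (F G).map fj (Wj.toInvOpen.q uj) = Wk.toInvOpen.q ⟨uj.1, hjk uj.2⟩ :=
    q_res_apply hjk uj.1 uj.2
  rw [e1, e2] at hx'
  obtain ⟨r, hr1, hr2⟩ := (Wk.q_eq_iff _ _).mp hx'
  have hr1' : G.t r = ui.1 := hr1
  have hr2' : G.s r = uj.1 := hr2
  have hujWi : uj.1 ∈ Wi.W := by
    rw [← hr2']
    apply inv_imp Wi.toInvOpen
    rw [hr1']
    exact ui.2
  obtain ⟨Wm, hmi, hmj, hum⟩ := exists_le_le Wi Wj uj.1 hujWi uj.2
  refine ⟨Wm, homOfLE hmi, homOfLE hmj, Wm.toInvOpen.q ⟨uj.1, hum⟩, ?_, ?_⟩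
  · show (F G).map (homOfLE hmi) (Wm.toInvOpen.q ⟨uj.1, hum⟩) = Wi.toInvOpen.q ui
    have e3 : (F G).map (homOfLE hmi) (Wm.toInvOpen.q ⟨uj.1, hum⟩) =
        Wi.toInvOpen.q ⟨uj.1, hujWi⟩ := q_res_apply hmi.fst uj.1 hum
    rw [e3]
    exact ((Wi.q_eq_iff ui ⟨uj.1, hujWi⟩).mpr ⟨r, hr1', hr2'⟩).symm
  · show (F G).map (homOfLE hmj) (Wm.toInvOpen.q ⟨uj.1, hum⟩) = Wj.toInvOpen.q uj
    exact q_res_apply hmj.fst uj.1 hum

section cover

variable (hcov : ∀ x : G.U, ∃ W : AffInv G, x ∈ W.W)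

/-- the cover of `U` by invariant affine opens. -/
noncomputable def cov : G.U.OpenCover where
  I₀ := AffInv G
  X W := W.W.toScheme
  f W := W.W.ι
  mem₀ := by
    rw [Scheme.presieve₀_mem_precoverage_iff]
    refine ⟨fun x => ?_, inferInstance⟩
    obtain ⟨W, hW⟩ := hcov x
    exact ⟨W, ⟨x, hW⟩, rfl⟩

instance : Preorder (cov hcov).I₀ := inferInstanceAs (Preorder (AffInv G))

/-- transition maps of the cover. -/
noncomputable def covTrans {i j : AffInv G} (h : i ≤ j) : i.W.toScheme ⟶ j.W.toScheme :=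
  G.U.homOfLE h.fst

omit [IsFinite G.s] [Flat G.s] [LocallyOfFinitePresentation G.s] in
theorem covTrans_ι {i j : AffInv G} (h : i ≤ j) : covTrans h ≫ j.W.ι = i.W.ι :=
  Scheme.homOfLE_ι _ _

instance {i j : AffInv G} (h : i ≤ j) : IsOpenImmersion (covTrans h) :=
  inferInstanceAs (IsOpenImmersion (G.U.homOfLE h.fst))

noncomputable instance : Scheme.Cover.LocallyDirected (cov hcov) where
  trans {i j} hij := covTrans (i := i) (j := j) (leOfHom hij)
  trans_id i := Scheme.homOfLE_rfl _ _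
  trans_comp hij hjk := (Scheme.homOfLE_homOfLE _ _ _).symm
  w hij := Scheme.homOfLE_ι _ _
  directed {i j} x := by
    change AffInv G at i j
    let u : G.U := i.W.ι (pullback.fst i.W.ι j.W.ι x)
    have hui : u ∈ i.W := (pullback.fst i.W.ι j.W.ι x).2
    have huj : u ∈ j.W := by
      have h1 : (pullback.fst i.W.ι j.W.ι ≫ i.W.ι) x = (pullback.snd i.W.ι j.W.ι ≫ j.W.ι) x := by
        rw [pullback.condition]
      have h2 : u = j.W.ι (pullback.snd i.W.ι j.W.ι x) := h1
      rw [h2]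
      exact (pullback.snd i.W.ι j.W.ι x).2
    obtain ⟨Wm, hmi, hmj, hum⟩ := exists_le_le i j u hui huj
    refine ⟨Wm, homOfLE hmi, homOfLE hmj, ⟨u, hum⟩, ?_⟩
    apply (pullback.fst i.W.ι j.W.ι ≫ i.W.ι).isOpenEmbedding.injective
    have hw : covTrans hmi ≫ i.W.ι = covTrans hmj ≫ j.W.ι := by
      rw [covTrans_ι, covTrans_ι]
    have e : pullback.lift (covTrans hmi) (covTrans hmj) hw ≫ pullback.fst i.W.ι j.W.ι ≫ i.W.ι =
        Wm.W.ι := by
      rw [pullback.lift_fst_assoc, covTrans_ι]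
    have e2 := congrArg (fun f : Wm.W.toScheme ⟶ G.U => f ⟨u, hum⟩) e
    exact e2
  property_trans {i j} hij := by
    change AffInv G at i j
    have : IsOpenImmersion (covTrans (i := i) (j := j) (leOfHom hij)) := inferInstance
    exact this

variable (G) in
/-- the glued quotient. -/
noncomputable def Y : Scheme.{u} := colimit (F G)

/-- the open immersion of an affine quotient into the glued quotient. -/
noncomputable def ιY (W : AffInv G) : W.toInvOpen.Q ⟶ Y G := colimit.ι (F G) W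

instance (W : AffInv G) : IsOpenImmersion (ιY W) :=
  inferInstanceAs (IsOpenImmersion (colimit.ι (F G) W))

theorem res_ιY {W' W : AffInv G} (h : W' ≤ W) :
    InvOpen.res (W' := W'.toInvOpen) (W := W.toInvOpen) h.fst ≫ ιY W = ιY W' :=
  colimit.w (F G) (homOfLE h)

/-- the local pieces of the quotient map. -/
noncomputable def pLoc (W : (cov hcov).I₀) : (cov hcov).X W ⟶ Y G :=
  InvOpen.q (AffInv.toInvOpen W) ≫ ιY W

theorem pLoc_compat {i j : (cov hcov).I₀} (hij : i ⟶ j) :
    (cov hcov).trans hij ≫ pLoc hcov j = pLoc hcov i := by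
  change AffInv G at i j
  show G.U.homOfLE (leOfHom hij).fst ≫ j.toInvOpen.q ≫ ιY j = i.toInvOpen.q ≫ ιY i
  rw [← Category.assoc, ← InvOpen.q_res, Category.assoc, res_ιY (leOfHom hij)]

/-- the quotient map. -/
noncomputable def p : G.U ⟶ Y G :=
  (cov hcov).glueMorphismsOfLocallyDirected (pLoc hcov) (pLoc_compat hcov)

theorem ι_p (W : AffInv G) : W.W.ι ≫ p hcov = W.toInvOpen.q ≫ ιY W :=
  (cov hcov).map_glueMorphismsOfLocallyDirected (pLoc hcov) (pLoc_compat hcov) W

end cover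

end AffInv

end Groth.Agent.Lib.Helper20.HB
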