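import Mathlib
import Groth.Agent.Lib.Helper20.HB5

/-!
# Properties of the glued quotient map `p : U ⟶ Y`
-/

set_option autoImplicit false
set_option linter.style.haveILetI false
set_option linter.unusedSimpArgs false
set_option linter.unusedSectionVars false
universe u
open CategoryTheory CategoryTheory.Limits AlgebraicGeometry

namespace Groth.Agent.Lib.Helper20.HB

open Grpd

variable {S : Scheme.{u}} {G : GroupoidScheme S}

namespace AffInv

variable [IsFinite G.s] [Flat G.s] [LocallyOfFinitePresentation G.s]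
variable (hcov : ∀ x : G.U, ∃ W : AffInv G, x ∈ W.W)

theorem p_apply (W : AffInv G) (x : W.W.toScheme) :
    p hcov x.1 = ιY W (W.toInvOpen.q x) := by
  have := congrArg (fun f : W.W.toScheme ⟶ Y G => f x) (ι_p hcov W)
  exact this

theorem ιY_eq_iff {Wi Wj : AffInv G} (yi : Wi.toInvOpen.Q) (yj : Wj.toInvOpen.Q) :
    ιY Wi yi = ιY Wj yj ↔ ∃ (Wk : AffInv G) (hi : Wk ≤ Wi) (hj : Wk ≤ Wj) (z : Wk.toInvOpen.Q),
      InvOpen.res (W' := Wk.toInvOpen) (W := Wi.toInvOpen) hi.fst z = yi ∧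
      InvOpen.res (W' := Wk.toInvOpen) (W := Wj.toInvOpen) hj.fst z = yj := by
  constructor
  · intro h
    obtain ⟨k, fi, fj, z, h1, h2⟩ := (Scheme.IsLocallyDirected.ι_eq_ι_iff (F G)).mp h
    exact ⟨k, leOfHom fi, leOfHom fj, z, h1, h2⟩
  · rintro ⟨Wk, hi, hj, z, rfl, rfl⟩
    have e1 := congrArg (fun f : Wk.toInvOpen.Q ⟶ Y G => f z) (res_ιY hi)
    have e2 := congrArg (fun f : Wk.toInvOpen.Q ⟶ Y G => f z) (res_ιY hj)
    exact e1.trans e2.symm

/-- a point of `U` mapping into the piece `Y_W` lies in `W`. -/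
theorem mem_of_p_mem (W : AffInv G) (x : G.U) (y : W.toInvOpen.Q) (h : p hcov x = ιY W y) :
    x ∈ W.W := by
  obtain ⟨W', hxW'⟩ := hcov x
  have h1 : p hcov x = ιY W' (W'.toInvOpen.q ⟨x, hxW'⟩) := p_apply hcov W' ⟨x, hxW'⟩
  rw [h1] at h
  obtain ⟨Wk, hi, hj, z, hz1, hz2⟩ := (ιY_eq_iff _ _).mp h
  obtain ⟨xk, rfl⟩ := Wk.q_surjective z
  have h2 : InvOpen.res (W' := Wk.toInvOpen) (W := W'.toInvOpen) hi.fst (Wk.toInvOpen.q xk) =
      W'.toInvOpen.q ⟨xk.1, hi.fst xk.2⟩ := q_res_apply hi.fst xk.1 xk.2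
  rw [h2] at hz1
  obtain ⟨r, hr1, hr2⟩ := (W'.q_eq_iff _ _).mp hz1
  have hr1' : G.t r = xk.1 := hr1
  have hr2' : G.s r = x := hr2
  have : x ∈ Wk.W := by
    rw [← hr2']
    apply inv_imp Wk.toInvOpen
    rw [hr1']
    exact xk.2
  exact hj.fst this

theorem preimage_opensRange (W : AffInv G) : p hcov ⁻¹ᵁ (ιY W).opensRange = W.W := by
  ext x
  constructor
  · rintro ⟨y, hy⟩
    exact mem_of_p_mem hcov W x y hy.symm
  · intro hx
    exact ⟨W.toInvOpen.q ⟨x, hx⟩, (p_apply hcov W ⟨x, hx⟩).symm⟩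

theorem isPullback_p (W : AffInv G) : IsPullback W.toInvOpen.q W.W.ι (ιY W) (p hcov) :=
  IsOpenImmersion.isPullback _ _ _ _ (ι_p hcov W)
    ((preimage_opensRange hcov W).trans W.W.opensRange_ι.symm)

theorem p_surjective : Function.Surjective (p hcov) := by
  intro y
  obtain ⟨W, z, rfl⟩ := Scheme.IsLocallyDirected.ι_jointly_surjective (F G) y
  obtain ⟨x, rfl⟩ := W.q_surjective z
  exact ⟨x.1, p_apply hcov W x⟩

theorem p_eq_iff (x x' : G.U) :
    p hcov x = p hcov x' ↔ ∃ r : G.R, G.t r = x ∧ G.s r = x' := by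
  obtain ⟨W, hxW⟩ := hcov x
  constructor
  · intro h
    have h1 : p hcov x = ιY W (W.toInvOpen.q ⟨x, hxW⟩) := p_apply hcov W ⟨x, hxW⟩
    have hx'W : x' ∈ W.W := mem_of_p_mem hcov W x' _ (h.symm.trans h1)
    have h2 : p hcov x' = ιY W (W.toInvOpen.q ⟨x', hx'W⟩) := p_apply hcov W ⟨x', hx'W⟩
    rw [h1, h2] at h
    have h3 := (ιY W).isOpenEmbedding.injective h
    exact (W.q_eq_iff _ _).mp h3
  · rintro ⟨r, hr1, hr2⟩
    have hx'W : x' ∈ W.W := by
      rw [← hr2]
      apply inv_imp W.toInvOpen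
      rw [hr1]; exact hxW
    have h1 : p hcov x = ιY W (W.toInvOpen.q ⟨x, hxW⟩) := p_apply hcov W ⟨x, hxW⟩
    have h2 : p hcov x' = ιY W (W.toInvOpen.q ⟨x', hx'W⟩) := p_apply hcov W ⟨x', hx'W⟩
    rw [h1, h2]
    congr 1
    exact (W.q_eq_iff _ _).mpr ⟨r, hr1, hr2⟩

/-- the cover of `R` by the `s⁻¹ W`. -/
noncomputable def covR : G.R.OpenCover where
  I₀ := AffInv G
  X W := (G.s ⁻¹ᵁ W.W).toScheme
  f W := (G.s ⁻¹ᵁ W.W).ι
  mem₀ := by
    rw [Scheme.presieve₀_mem_precoverage_iff]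
    refine ⟨fun r => ?_, inferInstance⟩
    obtain ⟨W, hW⟩ := hcov (G.s r)
    exact ⟨W, ⟨r, hW⟩, rfl⟩

theorem rt_q_eq (W : AffInv G) :
    rt G W.W W.inv ≫ W.toInvOpen.q = rs G W.W ≫ W.toInvOpen.q :=
  Groth.Agent.Lib.Helper20.HA.t_toQuot W.toInvOpen.Gr

theorem t_p : G.t ≫ p hcov = G.s ≫ p hcov := by
  apply (covR hcov).hom_ext
  intro W
  change AffInv G at W
  show (G.s ⁻¹ᵁ W.W).ι ≫ G.t ≫ p hcov = (G.s ⁻¹ᵁ W.W).ι ≫ G.s ≫ p hcov
  rw [← Category.assoc, ← rt_ι G W.W W.inv, Category.assoc, ι_p, ← Category.assoc, rt_q_eq,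
    Category.assoc, ← ι_p hcov, ← Category.assoc, rs_ι, Category.assoc]

/-- transfer of target-local properties from the affine quotient maps to `p`. -/
theorem p_of_local (P : MorphismProperty Scheme.{u}) [IsZariskiLocalAtTarget P]
    (h : ∀ W : AffInv G, P W.toInvOpen.q) : P (p hcov) := by
  apply IsZariskiLocalAtTarget.of_openCover (P := P) (Scheme.IsLocallyDirected.openCover (F G))
  intro W
  change AffInv G at W
  have hpb : IsPullback W.W.ι W.toInvOpen.q (p hcov) (ιY W) := (isPullback_p hcov W).flip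
  have e : hpb.isoPullback.hom ≫ pullback.snd (p hcov) (ιY W) = W.toInvOpen.q :=
    hpb.isoPullback_hom_snd
  show P (pullback.snd (p hcov) (ιY W))
  rw [← P.cancel_left_of_respectsIso hpb.isoPullback.hom, e]
  exact h W

end AffInv

section affine2

variable (G : GroupoidScheme S) [IsAffine G.U] [IsAffine G.R] [IsFinite G.s] [Flat G.s]
  [LocallyOfFinitePresentation G.s]

theorem isIntegralHom_toQuot : IsIntegralHom G.toQuot := by
  haveI hint : Algebra.IsIntegral G.invariants Γ(G.U, ⊤) :=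
    (Groth.Agent.Lib.Helper20.HA.ofGrpd G).isIntegral
  unfold Grpd.GroupoidScheme.toQuot
  have : IsIntegralHom (Spec.map (CommRingCat.ofHom G.invariants.subtype)) := by
    rw [IsIntegralHom.SpecMap_iff, CommRingCat.hom_ofHom]
    exact algebraMap_isIntegral_iff.mpr hint
  infer_instance

end affine2

namespace AffInv

variable [IsFinite G.s] [Flat G.s] [LocallyOfFinitePresentation G.s]
variable (hcov : ∀ x : G.U, ∃ W : AffInv G, x ∈ W.W)

theorem isIntegralHom_q (W : AffInv G) : IsIntegralHom W.toInvOpen.q := by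
  haveI := W.isAffine_U
  haveI := W.isAffine_R
  exact isIntegralHom_toQuot W.toInvOpen.Gr

set_option backward.isDefEq.respectTransparency.types false in
theorem isIntegralHom_p : IsIntegralHom (p hcov) :=
  p_of_local hcov @IsIntegralHom (fun W => W.isIntegralHom_q)

theorem surjective_p : Surjective (p hcov) := ⟨p_surjective hcov⟩

section mono

variable [Mono G.j]

theorem mono_j (W : AffInv G) : Mono W.toInvOpen.Gr.j := mono_j_restr G W.W W.inv

theorem isFinite_q (W : AffInv G) : IsFinite W.toInvOpen.q := by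
  haveI := W.isAffine_U
  haveI := W.isAffine_R
  haveI := W.mono_j
  exact Groth.Agent.Lib.Helper20.HA.isFinite_toQuot W.toInvOpen.Gr

theorem flat_q (W : AffInv G) : Flat W.toInvOpen.q := by
  haveI := W.isAffine_U
  haveI := W.isAffine_R
  haveI := W.mono_j
  exact Groth.Agent.Lib.Helper20.HA.flat_toQuot W.toInvOpen.Gr

theorem lfp_q (W : AffInv G) : LocallyOfFinitePresentation W.toInvOpen.q := by
  haveI := W.isAffine_U
  haveI := W.isAffine_R
  haveI := W.mono_j
  exact Groth.Agent.Lib.Helper20.HA.lfp_toQuot W.toInvOpen.Gr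

theorem isPullback_q (W : AffInv G) :
    IsPullback (rt G W.W W.inv) (rs G W.W) W.toInvOpen.q W.toInvOpen.q := by
  haveI := W.isAffine_U
  haveI := W.isAffine_R
  haveI := W.mono_j
  exact Groth.Agent.Lib.Helper20.HA.isPullback_toQuot W.toInvOpen.Gr

set_option backward.isDefEq.respectTransparency.types false in
theorem isFinite_p : IsFinite (p hcov) := p_of_local hcov @IsFinite (fun W => W.isFinite_q)

set_option backward.isDefEq.respectTransparency.types false in
theorem flat_p : Flat (p hcov) := p_of_local hcov @Flat (fun W => W.flat_q)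

set_option backward.isDefEq.respectTransparency.types false in
theorem lfp_p : LocallyOfFinitePresentation (p hcov) :=
  p_of_local hcov @LocallyOfFinitePresentation (fun W => W.lfp_q)

end mono

end AffInv

end Groth.Agent.Lib.Helper20.HB
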