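import Mathlib
import Groth.Agent.Lib.Helper20.HB6

/-!
# The glued quotient in the case of an equivalence relation: `R = U ×_Y U`, and the universal
property
-/

set_option autoImplicit false
set_option linter.style.haveILetI false
set_option linter.unusedSimpArgs false
set_option linter.unusedSectionVars false
universe u
open CategoryTheory CategoryTheory.Limits AlgebraicGeometry

namespace Groth.Agent.Lib.Helper20.HB

open Grpd

variable {S : Scheme.{u}} {G : GroupoidScheme S}

namespace AffInv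

variable [IsFinite G.s] [Flat G.s] [LocallyOfFinitePresentation G.s]
variable (hcov : ∀ x : G.U, ∃ W : AffInv G, x ∈ W.W)

omit [IsFinite G.s] [Flat G.s] [LocallyOfFinitePresentation G.s] in
/-- `R_W` is the pullback of `t` along `W ⟶ U`. -/
theorem isPullback_rt (W : AffInv G) :
    IsPullback (G.s ⁻¹ᵁ W.W).ι (rt G W.W W.inv) G.t W.W.ι := by
  refine (IsOpenImmersion.isPullback (rt G W.W W.inv) (G.s ⁻¹ᵁ W.W).ι W.W.ι G.t
    (rt_ι G W.W W.inv).symm ?_).flip
  rw [Scheme.Opens.opensRange_ι, Scheme.Opens.opensRange_ι]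
  exact W.inv.symm

variable [Mono G.j]

theorem isPullback_local (W : AffInv G) :
    IsPullback (rt G W.W W.inv) ((G.s ⁻¹ᵁ W.W).ι ≫ G.s) (W.W.ι ≫ p hcov) (p hcov) := by
  have h := (W.isPullback_q).paste_vert (isPullback_p hcov W)
  rw [rs_ι, ← ι_p hcov W] at h
  exact h

theorem isPullback_t_s : IsPullback G.t G.s (p hcov) (p hcov) := by
  apply Scheme.isPullback_of_openCover G.t G.s (p hcov) (p hcov) (cov hcov)
  intro W
  change AffInv G at W
  have hRW := isPullback_rt W
  have h := isPullback_local hcov W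
  show IsPullback (pullback.snd G.t W.W.ι) (pullback.fst G.t W.W.ι ≫ G.s) (W.W.ι ≫ p hcov) (p hcov)
  refine h.of_iso hRW.isoPullback (Iso.refl _) (Iso.refl _) (Iso.refl _) ?_ ?_ ?_ ?_
  · rw [Iso.refl_hom, Category.comp_id, hRW.isoPullback_hom_snd]
  · rw [Iso.refl_hom, Category.comp_id, ← Category.assoc, hRW.isoPullback_hom_fst]
  · rw [Iso.refl_hom, Iso.refl_hom, Category.comp_id, Category.id_comp]
  · rw [Iso.refl_hom, Iso.refl_hom, Category.comp_id, Category.id_comp]

/-- the universal property: `p` is a coequalizer of `(t, s)` in schemes. -/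
theorem exists_desc {Z : Scheme.{u}} (g : G.U ⟶ Z) (hg : G.t ≫ g = G.s ≫ g) :
    ∃ h : Y G ⟶ Z, p hcov ≫ h = g := by
  haveI := flat_p hcov
  haveI := surjective_p hcov
  haveI := lfp_p hcov
  have hpb := isPullback_t_s hcov
  have key : ∀ {Z' : Scheme.{u}} (g₁ g₂ : Z' ⟶ G.U), g₁ ≫ p hcov = g₂ ≫ p hcov →
      g₁ ≫ g = g₂ ≫ g := by
    intro Z' g₁ g₂ h12
    have e1 : hpb.lift g₁ g₂ h12 ≫ G.t = g₁ := hpb.lift_fst _ _ _
    have e2 : hpb.lift g₁ g₂ h12 ≫ G.s = g₂ := hpb.lift_snd _ _ _
    calc g₁ ≫ g = hpb.lift g₁ g₂ h12 ≫ G.t ≫ g := by rw [← Category.assoc, e1]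
      _ = hpb.lift g₁ g₂ h12 ≫ G.s ≫ g := by rw [hg]
      _ = g₂ ≫ g := by rw [← Category.assoc, e2]
  exact ⟨EffectiveEpi.desc (p hcov) g key, EffectiveEpi.fac _ _ key⟩

theorem epi_p : Epi (p hcov) := by
  haveI := flat_p hcov
  haveI := surjective_p hcov
  haveI := lfp_p hcov
  haveI : EffectiveEpi (p hcov) := inferInstance
  infer_instance

/-- `p` is a coequalizer of `(t, s)`. -/
noncomputable def isColimit : IsColimit (Cofork.ofπ (p hcov) (t_p hcov)) :=
  Cofork.IsColimit.mk' _ (fun c => by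
    have hc : G.t ≫ c.π = G.s ≫ c.π := c.condition
    refine ⟨(exists_desc hcov c.π hc).choose, (exists_desc hcov c.π hc).choose_spec, ?_⟩
    intro m hm
    haveI := epi_p hcov
    rw [← cancel_epi (p hcov)]
    exact hm.trans (exists_desc hcov c.π hc).choose_spec.symm)

end AffInv

end Groth.Agent.Lib.Helper20.HB
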