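import Mathlib
import Groth.Agent.Lib.Helper20.HB7

/-!
# The universal property of the glued quotient in general (no monomorphism assumption)
-/

set_option autoImplicit false
set_option linter.style.haveILetI false
set_option linter.unusedSimpArgs false
set_option linter.unusedSectionVars false
universe u
open CategoryTheory CategoryTheory.Limits AlgebraicGeometry

namespace Groth.Agent.Lib.Helper20.HB

open Grpd

/-- a surjective morphism which is injective on sections over all opens is an epimorphism. -/
theorem epi_of_surjective_of_app_injective {X Y : Scheme.{u}} (f : X ⟶ Y)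
    (hsurj : Function.Surjective f) (hinj : ∀ V : Y.Opens, Function.Injective (f.app V)) :
    Epi f := by
  constructor
  intro Z a b hab
  have hpt : ∀ y : Y, a y = b y := by
    intro y
    obtain ⟨x, rfl⟩ := hsurj y
    have := congrArg (fun φ : X ⟶ Z => φ x) hab
    exact this
  apply (Z.affineCover.pullback₁ a).hom_ext
  intro k
  change Z.affineCover.I₀ at k
  -- the affine open `Z_k` of `Z` and its preimage `V`
  let Zk : Z.Opens := (Z.affineCover.f k).opensRange
  have hZk : IsAffineOpen Zk := isAffineOpen_opensRange (Z.affineCover.f k)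
  haveI : IsAffine Zk.toScheme := hZk
  let V : Y.Opens := a ⁻¹ᵁ Zk
  -- it suffices to compare after restricting to `V`
  have key : V.ι ≫ a = V.ι ≫ b := by
    have ha : Set.range (V.ι ≫ a) ⊆ Set.range Zk.ι := by
      rintro _ ⟨y, rfl⟩
      rw [Scheme.Opens.range_ι]
      exact y.2
    have hb : Set.range (V.ι ≫ b) ⊆ Set.range Zk.ι := by
      rintro _ ⟨y, rfl⟩
      rw [Scheme.Opens.range_ι]
      show b y.1 ∈ Zk
      rw [← hpt]
      exact y.2
    let ak : V.toScheme ⟶ Zk.toScheme := IsOpenImmersion.lift Zk.ι (V.ι ≫ a) ha
    let bk : V.toScheme ⟶ Zk.toScheme := IsOpenImmersion.lift Zk.ι (V.ι ≫ b) hb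
    have hak : ak ≫ Zk.ι = V.ι ≫ a := IsOpenImmersion.lift_fac _ _ _
    have hbk : bk ≫ Zk.ι = V.ι ≫ b := IsOpenImmersion.lift_fac _ _ _
    have h1 : (f ∣_ V) ≫ ak = (f ∣_ V) ≫ bk := by
      rw [← cancel_mono Zk.ι, Category.assoc, Category.assoc, hak, hbk, ← Category.assoc,
        ← Category.assoc, morphismRestrict_ι, Category.assoc, Category.assoc, hab]
    have h2 : ak.appTop ≫ (f ∣_ V).appTop = bk.appTop ≫ (f ∣_ V).appTop := by
      rw [← Scheme.Hom.comp_appTop, ← Scheme.Hom.comp_appTop, h1]
    have h3 : Function.Injective (f ∣_ V).appTop := by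
      rw [morphismRestrict_appTop]
      intro x y hxy
      apply hinj (V.ι ''ᵁ ⊤)
      have hiso : Function.Injective
          (X.presheaf.map (eqToHom (image_morphismRestrict_preimage f V ⊤)).op) := by
        have : IsIso (X.presheaf.map (eqToHom (image_morphismRestrict_preimage f V ⊤)).op) :=
          inferInstance
        exact ((ConcreteCategory.isIso_iff_bijective _).mp this).1
      exact hiso hxy
    have h4 : ak.appTop = bk.appTop := by
      ext x
      apply h3
      have := congrArg (fun φ => φ.hom x) h2
      exact this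
    have h5 : ak = bk := ext_of_isAffine h4
    rw [← hak, ← hbk, h5]
  -- conclude on the member of the cover
  show pullback.fst a (Z.affineCover.f k) ≫ a = pullback.fst a (Z.affineCover.f k) ≫ b
  have hr : Set.range (pullback.fst a (Z.affineCover.f k)) ⊆ Set.range V.ι := by
    rintro _ ⟨w, rfl⟩
    rw [Scheme.Opens.range_ι]
    show a (pullback.fst a (Z.affineCover.f k) w) ∈ Zk
    have := congrArg (fun φ : pullback a (Z.affineCover.f k) ⟶ Z => φ w)
      (pullback.condition (f := a) (g := Z.affineCover.f k))
    have h' : a (pullback.fst a (Z.affineCover.f k) w) =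
        Z.affineCover.f k (pullback.snd a (Z.affineCover.f k) w) := this
    rw [h']
    exact Set.mem_range_self _
  rw [← IsOpenImmersion.lift_fac V.ι (pullback.fst a (Z.affineCover.f k)) hr, Category.assoc,
    Category.assoc, key]

variable {S : Scheme.{u}}

section affine3

variable (G : GroupoidScheme S)

theorem toQuot_appTop_injective : Function.Injective G.toQuot.appTop.hom := by
  have h1 : G.toQuot.appTop =
      (Scheme.ΓSpecIso (CommRingCat.of G.invariants)).hom ≫
        CommRingCat.ofHom G.invariants.subtype := by
    unfold GroupoidScheme.toQuot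
    rw [Scheme.Hom.comp_appTop, Scheme.toSpecΓ_appTop, Scheme.ΓSpecIso_naturality]
  rw [h1]
  intro x y hxy
  have h2 : Function.Injective (Scheme.ΓSpecIso (CommRingCat.of G.invariants)).hom.hom :=
    ((ConcreteCategory.isIso_iff_bijective
      (Scheme.ΓSpecIso (CommRingCat.of G.invariants)).hom).mp inferInstance).1
  apply h2
  apply Subtype.val_injective
  exact hxy

variable [IsAffine G.U] [IsAffine G.R] [IsFinite G.s] [Flat G.s] [LocallyOfFinitePresentation G.s]

theorem toQuot_app_injective (V : (Spec (CommRingCat.of G.invariants)).Opens) :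
    Function.Injective (G.toQuot.app V) := by
  haveI := isIntegralHom_toQuot G
  haveI : IsSchemeTheoreticallyDominant G.toQuot := by
    constructor
    rw [Scheme.ker_of_isAffine]
    have : RingHom.ker G.toQuot.appTop.hom = ⊥ :=
      (RingHom.injective_iff_ker_eq_bot _).mp (toQuot_appTop_injective G)
    rw [this, ← Scheme.IdealSheafData.equivOfIsAffine_symm_apply]
    exact map_bot _
  exact G.toQuot.app_injective V

theorem epi_toQuot : Epi G.toQuot :=
  epi_of_surjective_of_app_injective G.toQuot (toQuot_surjective G) (toQuot_app_injective G)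

omit [IsAffine G.U] [IsAffine G.R] [IsFinite G.s] [Flat G.s] [LocallyOfFinitePresentation G.s] in
/-- descent of invariant morphisms to affine targets. -/
theorem exists_desc_toQuot_affine {Z : Scheme.{u}} [IsAffine Z] (g : G.U ⟶ Z)
    (hg : G.t ≫ g = G.s ≫ g) :
    ∃ h : Spec (CommRingCat.of G.invariants) ⟶ Z, G.toQuot ≫ h = g := by
  have hmem : ∀ a : Γ(Z, ⊤), g.appTop.hom a ∈ G.invariants := by
    intro a
    show G.s.appTop.hom (g.appTop.hom a) = G.t.appTop.hom (g.appTop.hom a)
    have := congrArg (fun φ => φ.appTop.hom a) hg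
    simp only [Scheme.Hom.comp_appTop, CommRingCat.hom_comp, RingHom.comp_apply] at this
    exact this.symm
  let φ' : Γ(Z, ⊤) →+* G.invariants := g.appTop.hom.codRestrict G.invariants hmem
  have hφ : CommRingCat.ofHom φ' ≫ CommRingCat.ofHom G.invariants.subtype = g.appTop := by
    ext a
    rfl
  refine ⟨Spec.map (CommRingCat.ofHom φ') ≫ Z.isoSpec.inv, ?_⟩
  unfold GroupoidScheme.toQuot
  rw [Category.assoc, ← Category.assoc (Spec.map _), ← Spec.map_comp, hφ, ← Category.assoc,
    ← Scheme.toSpecΓ_naturality, Category.assoc, ← Scheme.isoSpec_hom, Iso.hom_inv_id,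
    Category.comp_id]

end affine3

end Groth.Agent.Lib.Helper20.HB
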