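import Mathlib
import Groth.Agent.Lib.Helper20.HB8

/-!
# The universal property of the glued quotient: gluing the local descents
-/

set_option autoImplicit false
set_option linter.style.haveILetI false
set_option linter.unusedSimpArgs false
set_option linter.unusedSectionVars false
universe u
open CategoryTheory CategoryTheory.Limits AlgebraicGeometry

namespace Groth.Agent.Lib.Helper20.HB

open Grpd

variable {S : Scheme.{u}} {G : GroupoidScheme S}

namespace AffInv

variable [IsFinite G.s] [Flat G.s] [LocallyOfFinitePresentation G.s]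
variable (hcov : ∀ x : G.U, ∃ W : AffInv G, x ∈ W.W)

theorem epi_q (W : AffInv G) : Epi W.toInvOpen.q := by
  haveI := W.isAffine_U
  haveI := W.isAffine_R
  exact epi_toQuot W.toInvOpen.Gr

theorem epi_p_general : Epi (p hcov) := by
  constructor
  intro Z a b hab
  apply colimit.hom_ext
  intro W
  show ιY W ≫ a = ιY W ≫ b
  haveI := W.epi_q
  rw [← cancel_epi W.toInvOpen.q, ← Category.assoc, ← ι_p hcov W, Category.assoc, hab,
    ← Category.assoc, ι_p hcov W, Category.assoc]

section desc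

variable {Z : Scheme.{u}} (g : G.U ⟶ Z) (hg : G.t ≫ g = G.s ≫ g)

include hg in
omit [IsFinite G.s] [Flat G.s] [LocallyOfFinitePresentation G.s] in
theorem g_inv (r : G.R) : g (G.t r) = g (G.s r) := by
  have := congrArg (fun φ : G.R ⟶ Z => φ r) hg
  exact this

/-- invariant affine opens mapping into an affine open of the target. -/
def Small (W : AffInv G) : Prop := ∃ Z' : Z.Opens, IsAffineOpen Z' ∧ W.W ≤ g ⁻¹ᵁ Z'

omit [IsFinite G.s] [Flat G.s] [LocallyOfFinitePresentation G.s] in
theorem small_of_le {W' W : AffInv G} (h : W'.W ≤ W.W) (hW : Small g W) : Small g W' := by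
  obtain ⟨Z', hZ', hle⟩ := hW
  exact ⟨Z', hZ', h.trans hle⟩

include hcov hg in
theorem exists_small (x : G.U) : ∃ W : AffInv G, Small g W ∧ x ∈ W.W := by
  obtain ⟨W₀, hx⟩ := hcov x
  obtain ⟨_, ⟨Z', hZ', rfl⟩, hgx, -⟩ :=
    Z.isBasis_affineOpens.exists_subset_of_mem_open (Set.mem_univ (g x)) isOpen_univ
  have hO : ∀ r : G.R, G.t r ∈ g ⁻¹ᵁ Z' → G.s r ∈ g ⁻¹ᵁ Z' := by
    intro r hr
    show g (G.s r) ∈ Z'
    rw [← g_inv g hg r]
    exact hr
  obtain ⟨c, hc1, hc2⟩ := W₀.exists_basic_le (g ⁻¹ᵁ Z') hO x hx hgx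
  exact ⟨W₀.basic c, ⟨Z', hZ', hc2⟩, hc1⟩

include hg in
/-- local descent on a small invariant affine open. -/
theorem exists_local_desc (W : AffInv G) (hW : Small g W) :
    ∃ h : W.toInvOpen.Q ⟶ Z, W.toInvOpen.q ≫ h = W.W.ι ≫ g := by
  obtain ⟨Z', hZ', hle⟩ := hW
  haveI : IsAffine Z'.toScheme := hZ'
  have hr : Set.range (W.W.ι ≫ g) ⊆ Set.range Z'.ι := by
    rintro _ ⟨x, rfl⟩
    rw [Scheme.Opens.range_ι]
    exact hle x.2
  let g' : W.W.toScheme ⟶ Z'.toScheme := IsOpenImmersion.lift Z'.ι (W.W.ι ≫ g) hr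
  have hg' : g' ≫ Z'.ι = W.W.ι ≫ g := IsOpenImmersion.lift_fac _ _ _
  have hinv : rt G W.W W.inv ≫ g' = rs G W.W ≫ g' := by
    rw [← cancel_mono Z'.ι, Category.assoc, Category.assoc, hg', ← Category.assoc,
      ← Category.assoc, rt_ι, rs_ι, Category.assoc, Category.assoc, hg]
  obtain ⟨h', hh'⟩ := exists_desc_toQuot_affine W.toInvOpen.Gr (Z := Z'.toScheme) g' hinv
  let h'' : W.toInvOpen.Q ⟶ Z'.toScheme := h'
  have hh'' : W.toInvOpen.q ≫ h'' = g' := hh'
  refine ⟨h'' ≫ Z'.ι, ?_⟩
  rw [← Category.assoc, hh'', hg']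

/-- the index type of small invariant affine opens. -/
abbrev SmallInv : Type u := {W : AffInv G // Small g W}

instance : Preorder (SmallInv g) := inferInstanceAs (Preorder {W : AffInv G // Small g W})

/-- the cover of `Y` by the quotients of the small invariant affine opens. -/
noncomputable def covY : (Y G).OpenCover where
  I₀ := SmallInv g
  X W := W.1.toInvOpen.Q
  f W := ιY W.1
  mem₀ := by
    rw [Scheme.presieve₀_mem_precoverage_iff]
    refine ⟨fun y => ?_, fun W => inferInstanceAs (IsOpenImmersion (ιY W.1))⟩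
    obtain ⟨x, rfl⟩ := p_surjective hcov y
    obtain ⟨W, hW, hx⟩ := exists_small hcov g hg x
    exact ⟨⟨W, hW⟩, W.toInvOpen.q ⟨x, hx⟩, (p_apply hcov W ⟨x, hx⟩).symm⟩

instance : Preorder (covY hcov g hg).I₀ := inferInstanceAs (Preorder (SmallInv g))

/-- transition maps. -/
noncomputable def covYTrans {i j : SmallInv g} (h : i ≤ j) :
    i.1.toInvOpen.Q ⟶ j.1.toInvOpen.Q :=
  InvOpen.res (W' := i.1.toInvOpen) (W := j.1.toInvOpen) (Subtype.coe_le_coe.mpr h).fst

omit [IsFinite G.s] [Flat G.s] [LocallyOfFinitePresentation G.s] in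
theorem covYTrans_isOpenImmersion {i j : SmallInv g} (h : i ≤ j) :
    IsOpenImmersion (covYTrans g h) := (Subtype.coe_le_coe.mpr h).snd

theorem covYTrans_ι {i j : SmallInv g} (h : i ≤ j) : covYTrans g h ≫ ιY j.1 = ιY i.1 :=
  res_ιY (Subtype.coe_le_coe.mpr h)

noncomputable instance : Scheme.Cover.LocallyDirected (covY hcov g hg) where
  trans {i j} hij := covYTrans g (i := i) (j := j) (leOfHom hij)
  trans_id i := InvOpen.res_refl _
  trans_comp hij hjk := InvOpen.res_trans _ _
  w hij := covYTrans_ι g _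
  directed {i j} x := by
    change SmallInv g at i j
    let yi : i.1.toInvOpen.Q := pullback.fst (ιY i.1) (ιY j.1) x
    let yj : j.1.toInvOpen.Q := pullback.snd (ιY i.1) (ιY j.1) x
    have hy : ιY i.1 yi = ιY j.1 yj := by
      have h1 : (pullback.fst (ιY i.1) (ιY j.1) ≫ ιY i.1) x =
          (pullback.snd (ιY i.1) (ιY j.1) ≫ ιY j.1) x := by rw [pullback.condition]
      exact h1
    obtain ⟨Wk, hki, hkj, z, hz1, hz2⟩ := (ιY_eq_iff yi yj).mp hy
    let k : SmallInv g := ⟨Wk, small_of_le g hki.fst i.2⟩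
    have hki' : k ≤ i := Subtype.coe_le_coe.mp hki
    have hkj' : k ≤ j := Subtype.coe_le_coe.mp hkj
    refine ⟨k, homOfLE hki', homOfLE hkj', z, ?_⟩
    apply (pullback.fst (ιY i.1) (ιY j.1) ≫ ιY i.1).isOpenEmbedding.injective
    have hw : covYTrans g hki' ≫ ιY i.1 = covYTrans g hkj' ≫ ιY j.1 := by
      rw [covYTrans_ι, covYTrans_ι]
    have e : pullback.lift (covYTrans g hki') (covYTrans g hkj') hw ≫
        pullback.fst (ιY i.1) (ιY j.1) ≫ ιY i.1 = covYTrans g hki' ≫ ιY i.1 := by
      rw [pullback.lift_fst_assoc]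
    have e2 := congrArg (fun f : Wk.toInvOpen.Q ⟶ Y G => f z) e
    have e3 : (covYTrans g hki' ≫ ιY i.1) z = (pullback.fst (ιY i.1) (ιY j.1) ≫ ιY i.1) x := by
      show ιY i.1 (InvOpen.res (W' := Wk.toInvOpen) (W := i.1.toInvOpen) hki.fst z) = ιY i.1 yi
      rw [hz1]
    exact e2.trans e3
  property_trans {i j} hij := by
    change SmallInv g at i j
    exact covYTrans_isOpenImmersion g (leOfHom hij)

/-- chosen local descents. -/
noncomputable def hLoc' (W : SmallInv g) : W.1.toInvOpen.Q ⟶ Z :=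
  (exists_local_desc g hg W.1 W.2).choose

theorem hLoc'_spec (W : SmallInv g) :
    W.1.toInvOpen.q ≫ hLoc' g hg W = W.1.W.ι ≫ g :=
  (exists_local_desc g hg W.1 W.2).choose_spec

theorem hLoc'_compat {i j : SmallInv g} (h : i ≤ j) :
    covYTrans g h ≫ hLoc' g hg j = hLoc' g hg i := by
  haveI := i.1.epi_q
  have hle : i.1.W ≤ j.1.W := (Subtype.coe_le_coe.mpr h).fst
  show InvOpen.res (W' := i.1.toInvOpen) (W := j.1.toInvOpen) hle ≫ hLoc' g hg j = hLoc' g hg i
  rw [← cancel_epi i.1.toInvOpen.q, ← Category.assoc, InvOpen.q_res, Category.assoc,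
    hLoc'_spec g hg j, hLoc'_spec g hg i, ← Category.assoc, Scheme.homOfLE_ι]

/-- chosen local descents, indexed by the cover. -/
noncomputable def hLoc (W : (covY hcov g hg).I₀) : (covY hcov g hg).X W ⟶ Z :=
  hLoc' g hg W

theorem hLoc_spec (W : SmallInv g) :
    W.1.toInvOpen.q ≫ hLoc hcov g hg W = W.1.W.ι ≫ g := hLoc'_spec g hg W

theorem hLoc_compat {i j : (covY hcov g hg).I₀} (hij : i ⟶ j) :
    (covY hcov g hg).trans hij ≫ hLoc hcov g hg j = hLoc hcov g hg i :=
  hLoc'_compat g hg (i := i) (j := j) (leOfHom hij)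

/-- the cover of `U` by small invariant affine opens. -/
noncomputable def covUg : G.U.OpenCover where
  I₀ := SmallInv g
  X W := W.1.W.toScheme
  f W := W.1.W.ι
  mem₀ := by
    rw [Scheme.presieve₀_mem_precoverage_iff]
    refine ⟨fun x => ?_, fun W => inferInstanceAs (IsOpenImmersion W.1.W.ι)⟩
    obtain ⟨W, hW, hx⟩ := exists_small hcov g hg x
    exact ⟨⟨W, hW⟩, ⟨x, hx⟩, rfl⟩

include hg in
/-- **Universal property** of the glued quotient. -/
theorem exists_desc_general : ∃ h : Y G ⟶ Z, p hcov ≫ h = g := by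
  refine ⟨(covY hcov g hg).glueMorphismsOfLocallyDirected (hLoc hcov g hg)
    (hLoc_compat hcov g hg), ?_⟩
  apply (covUg hcov g hg).hom_ext
  intro W
  change SmallInv g at W
  show W.1.W.ι ≫ p hcov ≫ _ = W.1.W.ι ≫ g
  rw [← Category.assoc, ι_p hcov W.1, Category.assoc]
  have := (covY hcov g hg).map_glueMorphismsOfLocallyDirected (hLoc hcov g hg)
    (hLoc_compat hcov g hg) W
  have h2 : ιY W.1 ≫ (covY hcov g hg).glueMorphismsOfLocallyDirected (hLoc hcov g hg)
    (hLoc_compat hcov g hg) = hLoc hcov g hg W := this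
  rw [h2, hLoc_spec]

end desc

/-- `p` is a coequalizer of `(t, s)` in schemes. -/
noncomputable def isColimit_general : IsColimit (Cofork.ofπ (p hcov) (t_p hcov)) :=
  Cofork.IsColimit.mk' _ (fun c => by
    have hc : G.t ≫ c.π = G.s ≫ c.π := c.condition
    refine ⟨(exists_desc_general hcov c.π hc).choose,
      (exists_desc_general hcov c.π hc).choose_spec, ?_⟩
    intro m hm
    haveI := epi_p_general hcov
    rw [← cancel_epi (p hcov)]
    exact hm.trans (exists_desc_general hcov c.π hc).choose_spec.symm)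

/-- `p` is a coequalizer of `(s, t)` in schemes. -/
noncomputable def isColimit_general' : IsColimit (Cofork.ofπ (p hcov) (t_p hcov).symm) :=
  Cofork.IsColimit.mk' _ (fun c => by
    have hc : G.t ≫ c.π = G.s ≫ c.π := c.condition.symm
    refine ⟨(exists_desc_general hcov c.π hc).choose,
      (exists_desc_general hcov c.π hc).choose_spec, ?_⟩
    intro m hm
    haveI := epi_p_general hcov
    rw [← cancel_epi (p hcov)]
    exact hm.trans (exists_desc_general hcov c.π hc).choose_spec.symm)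

end AffInv

end Groth.Agent.Lib.Helper20.HB
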