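import Mathlib
import Groth.Agent.Lib.Helper20.HB9

/-!
# Further properties of the glued quotient: openness, surjectivity of `R → U ×_Y U`, affineness
-/

set_option autoImplicit false
set_option linter.style.haveILetI false
set_option linter.unusedSimpArgs false
set_option linter.unusedSectionVars false
universe u
open CategoryTheory CategoryTheory.Limits AlgebraicGeometry

namespace Groth.Agent.Lib.Helper20.HB

open Grpd

/-- every point of a scheme is the image of a geometric point. -/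
theorem exists_geom_point {X : Scheme.{u}} (x : X) :
    ∃ (k : Type u) (_ : Field k) (_ : IsAlgClosed k) (f : Spec (CommRingCat.of k) ⟶ X),
      ∀ s, f s = x := by
  refine ⟨AlgebraicClosure (X.residueField x), inferInstance, inferInstance,
    Spec.map (CommRingCat.ofHom (algebraMap (X.residueField x)
      (AlgebraicClosure (X.residueField x)))) ≫ X.fromSpecResidueField x, ?_⟩
  intro s
  exact Scheme.fromSpecResidueField_apply x _

variable {S : Scheme.{u}} {G : GroupoidScheme S}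

namespace AffInv

variable [IsFinite G.s] [Flat G.s] [LocallyOfFinitePresentation G.s]
variable (hcov : ∀ x : G.U, ∃ W : AffInv G, x ∈ W.W)

theorem p_eq_iff' (x x' : G.U) :
    p hcov x = p hcov x' ↔ ∃ r : G.R, G.s r = x ∧ G.t r = x' := by
  rw [eq_comm, p_eq_iff]
  constructor
  · rintro ⟨r, h1, h2⟩; exact ⟨r, h2, h1⟩
  · rintro ⟨r, h1, h2⟩; exact ⟨r, h2, h1⟩

theorem isOpenMap_p : IsOpenMap (p hcov) := by
  obtain ⟨h1, h2, h3⟩ := t_inst G
  haveI := isIntegralHom_p hcov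
  have hq : Topology.IsQuotientMap (p hcov) :=
    (p hcov).isClosedMap.isQuotientMap (p hcov).continuous (p_surjective hcov)
  intro O hO
  rw [← hq.isOpen_preimage]
  have : p hcov ⁻¹' (p hcov '' O) = G.t '' (G.s ⁻¹' O) := by
    ext x
    constructor
    · rintro ⟨x', hx', hxx'⟩
      obtain ⟨r, hr1, hr2⟩ := (p_eq_iff hcov x x').mp hxx'.symm
      exact ⟨r, by show G.s r ∈ O; rw [hr2]; exact hx', hr1⟩
    · rintro ⟨r, hr, rfl⟩
      exact ⟨G.s r, hr, ((p_eq_iff hcov _ _).mpr ⟨r, rfl, rfl⟩).symm⟩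
  rw [this]
  exact G.t.isOpenMap _ (hO.preimage G.s.continuous)

include hcov in
theorem isAffine_Y (hU : IsAffine G.U) : IsAffine (Y G) := by
  let W : AffInv G := ⟨⟨⊤, rfl⟩, isAffineOpen_top G.U⟩
  have hr : (ιY W).opensRange = ⊤ := by
    rw [eq_top_iff]
    intro y _
    obtain ⟨x, rfl⟩ := p_surjective hcov y
    exact ⟨W.toInvOpen.q ⟨x, trivial⟩, (p_apply hcov W ⟨x, trivial⟩).symm⟩
  haveI : IsIso (ιY W) := isIso_of_isOpenImmersion_of_opensRange_eq_top _ hr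
  haveI : IsAffine W.toInvOpen.Q := by
    unfold InvOpen.Q
    infer_instance
  exact IsAffine.of_isIso (inv (ιY W))

theorem surjective_lift (w : G.t ≫ p hcov = G.s ≫ p hcov) :
    Function.Surjective (pullback.lift G.t G.s w) := by
  intro z
  obtain ⟨k, _, _, f, hf⟩ := exists_geom_point z
  let x₀ : Spec (CommRingCat.of k) ⟶ G.U := f ≫ pullback.fst (p hcov) (p hcov)
  let x₁ : Spec (CommRingCat.of k) ⟶ G.U := f ≫ pullback.snd (p hcov) (p hcov)
  have h01 : x₀ ≫ p hcov = x₁ ≫ p hcov := by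
    rw [Category.assoc, Category.assoc, pullback.condition]
  let s₀ : Spec (CommRingCat.of k) := (⟨⊥, Ideal.isPrime_bot⟩ : PrimeSpectrum k)
  obtain ⟨W, hu₀⟩ := hcov (x₀ s₀)
  have hx₀ : ∀ s, x₀ s = x₀ s₀ := by
    intro s
    show pullback.fst (p hcov) (p hcov) (f s) = pullback.fst (p hcov) (p hcov) (f s₀)
    rw [hf s, hf s₀]
  have hx₁ : ∀ s, x₁ s ∈ W.W := by
    intro s
    have h1 := congrArg (fun φ : Spec (CommRingCat.of k) ⟶ Y G => φ s) h01
    have h2 : p hcov (x₁ s) = p hcov (x₀ s) := h1.symm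
    rw [hx₀ s] at h2
    exact mem_of_p_mem hcov W (x₁ s) _ (h2.trans (p_apply hcov W ⟨x₀ s₀, hu₀⟩))
  have hr₀ : Set.range x₀ ⊆ Set.range W.W.ι := by
    rintro _ ⟨s, rfl⟩
    rw [Scheme.Opens.range_ι, hx₀ s]
    exact hu₀
  have hr₁ : Set.range x₁ ⊆ Set.range W.W.ι := by
    rintro _ ⟨s, rfl⟩
    rw [Scheme.Opens.range_ι]
    exact hx₁ s
  let x₀' : Spec (CommRingCat.of k) ⟶ W.W.toScheme := IsOpenImmersion.lift W.W.ι x₀ hr₀
  let x₁' : Spec (CommRingCat.of k) ⟶ W.W.toScheme := IsOpenImmersion.lift W.W.ι x₁ hr₁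
  have hx₀' : x₀' ≫ W.W.ι = x₀ := IsOpenImmersion.lift_fac _ _ _
  have hx₁' : x₁' ≫ W.W.ι = x₁ := IsOpenImmersion.lift_fac _ _ _
  have e : x₀' ≫ W.toInvOpen.q = x₁' ≫ W.toInvOpen.q := by
    rw [← cancel_mono (ιY W), Category.assoc, Category.assoc, ← ι_p hcov W, ← Category.assoc,
      ← Category.assoc, hx₀', hx₁', h01]
  haveI := W.isAffine_U
  haveI := W.isAffine_R
  obtain ⟨i1, i2, i3⟩ := t_inst W.toInvOpen.Gr
  obtain ⟨r', hr'1, hr'2⟩ :=
    (((Groth.Agent.S1878.result S W.toInvOpen.Gr).2 k).2 x₀' x₁').mp e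
  obtain ⟨r'', hr''⟩ : ∃ r'' : Spec (CommRingCat.of k) ⟶ (G.s ⁻¹ᵁ W.W).toScheme, r'' = r' :=
    ⟨r', rfl⟩
  have hr'1' : r'' ≫ rt G W.W W.inv = x₀' := by rw [hr'']; exact hr'1
  have hr'2' : r'' ≫ rs G W.W = x₁' := by rw [hr'']; exact hr'2
  clear hr'1 hr'2 hr''
  clear r'
  have hrt : (r'' ≫ (G.s ⁻¹ᵁ W.W).ι) ≫ G.t = x₀ := by
    rw [Category.assoc, ← rt_ι G W.W W.inv, ← Category.assoc, hr'1', hx₀']
  have hrs : (r'' ≫ (G.s ⁻¹ᵁ W.W).ι) ≫ G.s = x₁ := by
    rw [Category.assoc, ← rs_ι G W.W, ← Category.assoc, hr'2', hx₁']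
  have hfac : (r'' ≫ (G.s ⁻¹ᵁ W.W).ι) ≫ pullback.lift G.t G.s w = f := by
    apply pullback.hom_ext
    · rw [Category.assoc, pullback.lift_fst, hrt]
    · rw [Category.assoc, pullback.lift_snd, hrs]
  refine ⟨(r'' ≫ (G.s ⁻¹ᵁ W.W).ι) s₀, ?_⟩
  have := congrArg (fun φ : Spec (CommRingCat.of k) ⟶ pullback (p hcov) (p hcov) => φ s₀) hfac
  exact this.trans (hf s₀)

end AffInv

end Groth.Agent.Lib.Helper20.HB
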