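import Mathlib
import Groth.Agent.Lib.Helper20.HB10

/-!
# The groupoid induced on a monomorphism `u : U' ⟶ U` (SGA3 V §6, quasi-sections)
-/

set_option autoImplicit false
set_option linter.style.haveILetI false
set_option linter.unusedSimpArgs false
set_option linter.unusedSectionVars false
universe u
open CategoryTheory CategoryTheory.Limits AlgebraicGeometry

namespace Groth.Agent.Lib.Helper20.HC

open Grpd Groth.Agent.Lib.Helper25.GrpdAlg Groth.Agent.Lib.Helper20.HB

variable {S : Scheme.{u}} (G : GroupoidScheme S) {U' : Scheme.{u}} (u : U' ⟶ G.U)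

/-- arrows with target in `U'`. -/
noncomputable abbrev V : Scheme.{u} := pullback G.t u

/-- underlying arrow. -/
noncomputable def vR : V G u ⟶ G.R := pullback.fst G.t u

/-- target in `U'`. -/
noncomputable def vT : V G u ⟶ U' := pullback.snd G.t u

/-- source. -/
noncomputable def v : V G u ⟶ G.U := vR G u ≫ G.s

theorem vR_t : vR G u ≫ G.t = vT G u ≫ u := pullback.condition

theorem vR_s : vR G u ≫ G.s = v G u := rfl

variable {G u} in
/-- constructor of `T`-points of `V`. -/
noncomputable def vLift {T : Scheme.{u}} (ρ : T ⟶ G.R) (a : T ⟶ U') (h : ρ ≫ G.t = a ≫ u) :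
    T ⟶ V G u := pullback.lift ρ a h

variable {G u} in
@[reassoc (attr := simp)]
theorem vLift_vR {T : Scheme.{u}} (ρ : T ⟶ G.R) (a : T ⟶ U') (h : ρ ≫ G.t = a ≫ u) :
    vLift ρ a h ≫ vR G u = ρ := pullback.lift_fst _ _ _

variable {G u} in
@[reassoc (attr := simp)]
theorem vLift_vT {T : Scheme.{u}} (ρ : T ⟶ G.R) (a : T ⟶ U') (h : ρ ≫ G.t = a ≫ u) :
    vLift ρ a h ≫ vT G u = a := pullback.lift_snd _ _ _

variable {G u} in
@[reassoc (attr := simp)]
theorem vLift_v {T : Scheme.{u}} (ρ : T ⟶ G.R) (a : T ⟶ U') (h : ρ ≫ G.t = a ≫ u) :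
    vLift ρ a h ≫ v G u = ρ ≫ G.s := by
  rw [v, ← Category.assoc, vLift_vR]

variable {G u} in
theorem v_hom_ext {T : Scheme.{u}} {a b : T ⟶ V G u} (h1 : a ≫ vR G u = b ≫ vR G u)
    (h2 : a ≫ vT G u = b ≫ vT G u) : a = b := pullback.hom_ext h1 h2

/-- induced arrows. -/
noncomputable abbrev R' : Scheme.{u} := pullback (v G u) u

/-- the map `R' ⟶ R`. -/
noncomputable def ιR : R' G u ⟶ G.R := pullback.fst (v G u) u ≫ vR G u

/-- source of the induced groupoid. -/
noncomputable def s' : R' G u ⟶ U' := pullback.snd (v G u) u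

/-- target of the induced groupoid. -/
noncomputable def t' : R' G u ⟶ U' := pullback.fst (v G u) u ≫ vT G u

theorem ιR_s : ιR G u ≫ G.s = s' G u ≫ u := by
  rw [ιR, Category.assoc, vR_s]
  exact pullback.condition

theorem ιR_t : ιR G u ≫ G.t = t' G u ≫ u := by
  rw [ιR, Category.assoc, vR_t, t', Category.assoc]

variable {G u} in
/-- constructor of `T`-points of `R'`. -/
noncomputable def rLift {T : Scheme.{u}} (ρ : T ⟶ G.R) (a b : T ⟶ U') (ha : ρ ≫ G.t = a ≫ u)
    (hb : ρ ≫ G.s = b ≫ u) : T ⟶ R' G u :=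
  pullback.lift (vLift ρ a ha) b (by rw [vLift_v, hb])

variable {G u} in
@[reassoc (attr := simp)]
theorem rLift_ιR {T : Scheme.{u}} (ρ : T ⟶ G.R) (a b : T ⟶ U') (ha : ρ ≫ G.t = a ≫ u)
    (hb : ρ ≫ G.s = b ≫ u) : rLift ρ a b ha hb ≫ ιR G u = ρ := by
  rw [ιR, rLift, ← Category.assoc, pullback.lift_fst, vLift_vR]

variable {G u} in
@[reassoc (attr := simp)]
theorem rLift_t' {T : Scheme.{u}} (ρ : T ⟶ G.R) (a b : T ⟶ U') (ha : ρ ≫ G.t = a ≫ u)
    (hb : ρ ≫ G.s = b ≫ u) : rLift ρ a b ha hb ≫ t' G u = a := by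
  rw [t', rLift, ← Category.assoc, pullback.lift_fst, vLift_vT]

variable {G u} in
@[reassoc (attr := simp)]
theorem rLift_s' {T : Scheme.{u}} (ρ : T ⟶ G.R) (a b : T ⟶ U') (ha : ρ ≫ G.t = a ≫ u)
    (hb : ρ ≫ G.s = b ≫ u) : rLift ρ a b ha hb ≫ s' G u = b := by
  rw [s', rLift, pullback.lift_snd]

instance mono_vR [Mono u] : Mono (vR G u) := by
  unfold vR; infer_instance

instance mono_ιR [Mono u] : Mono (ιR G u) := by
  unfold ιR
  haveI : Mono (pullback.fst (v G u) u) := inferInstance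
  exact mono_comp _ _

variable [Mono u]

/-- the induced structure maps. -/
noncomputable def lifts : Lifts2 G u (ιR G u) where
  s' := s' G u
  t' := t' G u
  e' := rLift (u ≫ G.e) (𝟙 U') (𝟙 U')
    (by rw [Category.assoc, G.e_t, Category.comp_id, Category.id_comp])
    (by rw [Category.assoc, G.e_s, Category.comp_id, Category.id_comp])
  i' := rLift (ιR G u ≫ G.i) (s' G u) (t' G u)
    (by rw [Category.assoc, G.i_t, ιR_s]) (by rw [Category.assoc, G.i_s, ιR_t])
  c' := rLift (comp G (pullback.fst (s' G u) (t' G u) ≫ ιR G u)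
      (pullback.snd (s' G u) (t' G u) ≫ ιR G u)
      (by rw [Category.assoc, Category.assoc, ιR_s, ιR_t, ← Category.assoc, ← Category.assoc,
        pullback.condition]))
    (pullback.fst (s' G u) (t' G u) ≫ t' G u) (pullback.snd (s' G u) (t' G u) ≫ s' G u)
    (by rw [comp_t, Category.assoc, Category.assoc, ιR_t])
    (by rw [comp_s, Category.assoc, Category.assoc, ιR_s])
  hs := (ιR_s G u).symm
  ht := (ιR_t G u).symm
  he := rLift_ιR _ _ _ _ _
  hi := rLift_ιR _ _ _ _ _
  hc := by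
    rw [rLift_ιR]
    unfold comp
    congr 1

/-- the induced groupoid on `U'`. -/
noncomputable def ind : GroupoidScheme S := (lifts G u).grpd

theorem ind_U : (ind G u).U = U' := rfl
theorem ind_R : (ind G u).R = R' G u := rfl
theorem ind_s : (ind G u).s = s' G u := rfl
theorem ind_t : (ind G u).t = t' G u := rfl
theorem ind_pU : (ind G u).pU = u ≫ G.pU := rfl

end Groth.Agent.Lib.Helper20.HC
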