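import Mathlib
import Groth.Agent.Lib.Helper20.HC1

/-!
# Quasi-sections: the quotient of the induced groupoid
-/

set_option autoImplicit false
set_option linter.style.haveILetI false
set_option linter.unusedSimpArgs false
set_option linter.unusedSectionVars false
universe u
open CategoryTheory CategoryTheory.Limits AlgebraicGeometry

namespace Groth.Agent.Lib.Helper20.HC

open Grpd Groth.Agent.Lib.Helper25.GrpdAlg Groth.Agent.Lib.Helper20.HB

variable {S : Scheme.{u}} (G : GroupoidScheme S) {U' : Scheme.{u}} (u : U' ⟶ G.U) [Mono u]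

section inst

variable [IsFinite (v G u)] [Flat (v G u)] [LocallyOfFinitePresentation (v G u)]

instance isFinite_ind_s : IsFinite (ind G u).s := by
  show IsFinite (pullback.snd (v G u) u)
  infer_instance

instance flat_ind_s : Flat (ind G u).s := by
  show Flat (pullback.snd (v G u) u)
  infer_instance

instance lfp_ind_s : LocallyOfFinitePresentation (ind G u).s := by
  show LocallyOfFinitePresentation (pullback.snd (v G u) u)
  infer_instance

end inst

theorem ιR_t_pt (r : R' G u) : G.t (ιR G u r) = u (t' G u r) := by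
  have := congrArg (fun f : R' G u ⟶ G.U => f r) (ιR_t G u)
  exact this

theorem ιR_s_pt (r : R' G u) : G.s (ιR G u r) = u (s' G u r) := by
  have := congrArg (fun f : R' G u ⟶ G.U => f r) (ιR_s G u)
  exact this

variable [IsFinite (v G u)] [Flat (v G u)] [LocallyOfFinitePresentation (v G u)]

theorem hcov_ind
    (h2 : ∀ E : Set U', (∀ x ∈ E, ∀ y ∈ E, ∃ r : G.R, G.t.base r = u.base x ∧
      G.s.base r = u.base y) → ∃ W : U'.Opens, IsAffineOpen W ∧ E ⊆ (W : Set U')) :
    ∀ x : (ind G u).U, ∃ W : AffInv (ind G u), x ∈ W.W := by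
  intro x
  obtain ⟨W, hW, hsub⟩ := h2 (t' G u '' (s' G u ⁻¹' {x})) (by
    rintro _ ⟨r1, hr1, rfl⟩ _ ⟨r2, hr2, rfl⟩
    have hr1' : s' G u r1 = x := hr1
    have hr2' : s' G u r2 = x := hr2
    have e1 : G.s (ιR G u r1) = G.t (G.i (ιR G u r2)) := by
      rw [Groth.Agent.Lib.Helper20.HA.i_t_pt, ιR_s_pt, ιR_s_pt, hr1', hr2']
    obtain ⟨r'', h1, h2⟩ := Groth.Agent.Lib.Helper20.HA.exists_comp_pt G _ _ e1
    refine ⟨r'', ?_, ?_⟩
    · exact h1.trans (ιR_t_pt G u r1)
    · refine h2.trans ?_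
      rw [Groth.Agent.Lib.Helper20.HA.i_s_pt, ιR_t_pt])
  obtain ⟨W', hW', hxW', hinv⟩ :=
    Groth.Agent.Lib.Helper20.HA.exists_invariant_affine_open (ind G u) x W hW
      (fun r hr => hsub ⟨r, hr, rfl⟩)
  exact ⟨⟨⟨W', hinv⟩, hW'⟩, hxW'⟩

end Groth.Agent.Lib.Helper20.HC
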