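import Mathlib
import Groth.Agent.Lib.Helper20.HC2

/-!
# Quasi-sections: descending the quotient map to `U`
-/

set_option autoImplicit false
set_option linter.style.haveILetI false
set_option linter.unusedSimpArgs false
set_option linter.unusedSectionVars false
universe u
open CategoryTheory CategoryTheory.Limits AlgebraicGeometry

namespace Groth.Agent.Lib.Helper20.HC

open Grpd Groth.Agent.Lib.Helper25.GrpdAlg Groth.Agent.Lib.Helper20.HB

variable {S : Scheme.{u}} (G : GroupoidScheme S) {U' : Scheme.{u}} (u : U' ⟶ G.U) [Mono u]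
variable [IsFinite (v G u)] [Flat (v G u)] [LocallyOfFinitePresentation (v G u)]
  [Surjective (v G u)]
variable (hcov : ∀ x : (ind G u).U, ∃ W : AffInv (ind G u), x ∈ W.W)

/-- the quotient of the induced groupoid. -/
noncomputable abbrev Y : Scheme.{u} := AffInv.Y (ind G u)

/-- the quotient map of the induced groupoid. -/
noncomputable def p' : U' ⟶ Y G u := AffInv.p hcov

theorem t'_p' : t' G u ≫ p' G u hcov = s' G u ≫ p' G u hcov := AffInv.t_p hcov

theorem compat {Z : Scheme.{u}} (g₁ g₂ : Z ⟶ V G u) (hg : g₁ ≫ v G u = g₂ ≫ v G u) :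
    g₁ ≫ vT G u ≫ p' G u hcov = g₂ ≫ vT G u ≫ p' G u hcov := by
  have h12 : (g₁ ≫ vR G u) ≫ G.s = ((g₂ ≫ vR G u) ≫ G.i) ≫ G.t := by
    rw [Category.assoc (g₂ ≫ vR G u) G.i, G.i_t, Category.assoc, Category.assoc, vR_s, hg]
  have hρt : comp G (g₁ ≫ vR G u) ((g₂ ≫ vR G u) ≫ G.i) h12 ≫ G.t = (g₁ ≫ vT G u) ≫ u := by
    rw [comp_t, Category.assoc, vR_t, Category.assoc]
  have hρs : comp G (g₁ ≫ vR G u) ((g₂ ≫ vR G u) ≫ G.i) h12 ≫ G.s = (g₂ ≫ vT G u) ≫ u := by
    rw [comp_s, Category.assoc, G.i_s, Category.assoc, vR_t, Category.assoc]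
  have e1 := rLift_t' _ (g₁ ≫ vT G u) (g₂ ≫ vT G u) hρt hρs
  have e2 := rLift_s' _ (g₁ ≫ vT G u) (g₂ ≫ vT G u) hρt hρs
  generalize rLift _ (g₁ ≫ vT G u) (g₂ ≫ vT G u) hρt hρs = ρ' at e1 e2
  calc g₁ ≫ vT G u ≫ p' G u hcov
      = (ρ' ≫ t' G u) ≫ p' G u hcov := by rw [e1, Category.assoc]
    _ = (ρ' ≫ s' G u) ≫ p' G u hcov := by rw [Category.assoc, t'_p', Category.assoc]
    _ = g₂ ≫ vT G u ≫ p' G u hcov := by rw [e2, Category.assoc]

/-- the quotient map on `U`. -/
noncomputable def p : G.U ⟶ Y G u :=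
  EffectiveEpi.desc (v G u) (vT G u ≫ p' G u hcov) (fun g₁ g₂ hg => compat G u hcov g₁ g₂ hg)

theorem v_p : v G u ≫ p G u hcov = vT G u ≫ p' G u hcov := EffectiveEpi.fac _ _ _

/-- the identity section `U' ⟶ V`. -/
noncomputable def σ : U' ⟶ V G u :=
  vLift (u ≫ G.e) (𝟙 U') (by rw [Category.assoc, G.e_t, Category.comp_id, Category.id_comp])

theorem σ_v : σ G u ≫ v G u = u := by
  rw [σ, vLift_v, Category.assoc, G.e_s, Category.comp_id]

theorem σ_vT : σ G u ≫ vT G u = 𝟙 U' := vLift_vT _ _ _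

theorem u_p : u ≫ p G u hcov = p' G u hcov := by
  calc u ≫ p G u hcov = (σ G u ≫ v G u) ≫ p G u hcov := by rw [σ_v]
    _ = σ G u ≫ vT G u ≫ p' G u hcov := by rw [Category.assoc, v_p]
    _ = p' G u hcov := by rw [← Category.assoc, σ_vT, Category.id_comp]

theorem t_p : G.t ≫ p G u hcov = G.s ≫ p G u hcov := by
  haveI : Epi (pullback.snd (v G u) G.t) := Flat.epi_of_flat_of_surjective _
  rw [← cancel_epi (pullback.snd (v G u) G.t)]
  have hc : (pullback.fst (v G u) G.t ≫ vR G u) ≫ G.s = pullback.snd (v G u) G.t ≫ G.t := by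
    rw [Category.assoc, vR_s, pullback.condition]
  have hκ : comp G (pullback.fst (v G u) G.t ≫ vR G u) (pullback.snd (v G u) G.t) hc ≫ G.t =
      (pullback.fst (v G u) G.t ≫ vT G u) ≫ u := by
    rw [comp_t, Category.assoc, vR_t, Category.assoc]
  have e1 : pullback.snd (v G u) G.t ≫ G.s ≫ p G u hcov =
      pullback.fst (v G u) G.t ≫ vT G u ≫ p' G u hcov := by
    have k1 := vLift_v _ (pullback.fst (v G u) G.t ≫ vT G u) hκ
    have k2 := vLift_vT _ (pullback.fst (v G u) G.t ≫ vT G u) hκ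
    generalize vLift _ (pullback.fst (v G u) G.t ≫ vT G u) hκ = κ at k1 k2
    rw [comp_s] at k1
    calc pullback.snd (v G u) G.t ≫ G.s ≫ p G u hcov
        = (κ ≫ v G u) ≫ p G u hcov := by rw [k1, Category.assoc]
      _ = pullback.fst (v G u) G.t ≫ vT G u ≫ p' G u hcov := by
          rw [Category.assoc, v_p, ← Category.assoc, k2, Category.assoc]
  have e2 : pullback.snd (v G u) G.t ≫ G.t ≫ p G u hcov =
      pullback.fst (v G u) G.t ≫ vT G u ≫ p' G u hcov := by
    rw [← Category.assoc, ← pullback.condition, Category.assoc, v_p]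
  rw [e1, e2]

theorem epi_p : Epi (p G u hcov) := by
  haveI : Epi (u ≫ p G u hcov) := by
    rw [u_p]
    exact AffInv.epi_p_general hcov
  exact epi_of_epi u (p G u hcov)

theorem exists_desc {Z : Scheme.{u}} (g : G.U ⟶ Z) (hg : G.t ≫ g = G.s ≫ g) :
    ∃ h : Y G u ⟶ Z, p G u hcov ≫ h = g := by
  have hg' : (ind G u).t ≫ (u ≫ g) = (ind G u).s ≫ (u ≫ g) := by
    show t' G u ≫ (u ≫ g) = s' G u ≫ (u ≫ g)
    rw [← Category.assoc, ← ιR_t, ← Category.assoc, ← ιR_s, Category.assoc, Category.assoc, hg]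
  obtain ⟨h, hh⟩ := AffInv.exists_desc_general hcov (u ≫ g) hg'
  refine ⟨h, ?_⟩
  haveI : Epi (v G u) := Flat.epi_of_flat_of_surjective _
  rw [← cancel_epi (v G u), ← Category.assoc, v_p, Category.assoc]
  have hh' : p' G u hcov ≫ h = u ≫ g := hh
  rw [hh', ← Category.assoc, ← vR_t, Category.assoc, hg, ← Category.assoc, vR_s]

/-- `p` is a coequalizer of `(t, s)`. -/
noncomputable def isColimit : IsColimit (Cofork.ofπ (p G u hcov) (t_p G u hcov)) :=
  Cofork.IsColimit.mk' _ (fun c => by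
    have hc : G.t ≫ c.π = G.s ≫ c.π := c.condition
    refine ⟨(exists_desc G u hcov c.π hc).choose,
      (exists_desc G u hcov c.π hc).choose_spec, ?_⟩
    intro m hm
    haveI := epi_p G u hcov
    rw [← cancel_epi (p G u hcov)]
    exact hm.trans (exists_desc G u hcov c.π hc).choose_spec.symm)

theorem surjective_p : Surjective (p G u hcov) := by
  constructor
  intro y
  obtain ⟨x, hx⟩ := AffInv.p_surjective hcov y
  refine ⟨u x, ?_⟩
  have := congrArg (fun f : U' ⟶ Y G u => f x) (u_p G u hcov)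
  exact this.trans hx

end Groth.Agent.Lib.Helper20.HC
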