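import Mathlib
import Groth.Agent.Lib.Helper20.HC3

/-!
# Quasi-sections: topological properties of the quotient map and `R → U ×_Y U`
-/

set_option autoImplicit false
set_option linter.style.haveILetI false
set_option linter.unusedSimpArgs false
set_option linter.unusedSectionVars false
universe u
open CategoryTheory CategoryTheory.Limits AlgebraicGeometry TensorProduct

namespace Groth.Agent.Lib.Helper20.HC

theorem _root_.Module.Flat.of_faithfullyFlat_comp' (A B C : Type u) [CommRing A] [CommRing B]
    [CommRing C] [Algebra A B] [Algebra B C] [Algebra A C] [IsScalarTower A B C] [Module.Flat A C]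
    [Module.FaithfullyFlat B C] : Module.Flat A B := by
  rw [Module.Flat.iff_lTensor_preserves_injective_linearMap]
  intro N N' _ _ _ _ f hf
  have h1 : Function.Injective (f.lTensor C) :=
    Module.Flat.lTensor_preserves_injective_linearMap f hf
  have key : ∀ x : C ⊗[B] (B ⊗[A] N),
      AlgebraTensorModule.cancelBaseChange A B B C N' ((f.baseChange B).lTensor C x) =
        (f.lTensor C) (AlgebraTensorModule.cancelBaseChange A B B C N x) := by
    intro x
    induction x using TensorProduct.induction_on with
    | zero => simp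
    | tmul c y =>
      induction y using TensorProduct.induction_on with
      | zero => simp
      | tmul b n => simp
      | add y1 y2 h1 h2 => simp only [tmul_add, map_add, h1, h2]
    | add x1 x2 h1 h2 => simp only [map_add, h1, h2]
  have h2 : Function.Injective ((f.baseChange B).lTensor C) := by
    intro x y hxy
    have := congrArg (AlgebraTensorModule.cancelBaseChange A B B C N') hxy
    rw [key, key] at this
    exact (AlgebraTensorModule.cancelBaseChange A B B C N).injective (h1 this)
  have h3 := (Module.FaithfullyFlat.lTensor_injective_iff_injective B C (f.baseChange B)).mp h2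
  exact h3

/-- flatness descends along a flat surjective morphism on the source. -/
theorem flat_of_flat_comp {X Y Z : Scheme.{u}} (f : X ⟶ Y) (g : Y ⟶ Z) [Flat f] [Surjective f]
    [Flat (f ≫ g)] : Flat g := by
  rw [Flat.iff_flat_stalkMap]
  intro y
  obtain ⟨x, rfl⟩ := f.surjective y
  have h1 : ((f ≫ g).stalkMap x).hom.Flat := Flat.stalkMap (f ≫ g) x
  have h2 : (f.stalkMap x).hom.Flat := Flat.stalkMap f x
  rw [Scheme.Hom.stalkMap_comp] at h1
  let φ := (g.stalkMap (f x)).hom
  let ψ := (f.stalkMap x).hom
  have h1' : (ψ.comp φ).Flat := h1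
  letI := φ.toAlgebra
  letI := ψ.toAlgebra
  letI := (ψ.comp φ).toAlgebra
  haveI : IsScalarTower (Z.presheaf.stalk (g (f x))) (Y.presheaf.stalk (f x))
      (X.presheaf.stalk x) := IsScalarTower.of_algebraMap_eq' rfl
  haveI : Module.Flat (Z.presheaf.stalk (g (f x))) (X.presheaf.stalk x) := h1'
  haveI : Module.Flat (Y.presheaf.stalk (f x)) (X.presheaf.stalk x) := h2
  haveI : IsLocalHom (algebraMap (Y.presheaf.stalk (f x)) (X.presheaf.stalk x)) :=
    inferInstanceAs (IsLocalHom (f.stalkMap x).hom)
  haveI : Module.FaithfullyFlat (Y.presheaf.stalk (f x)) (X.presheaf.stalk x) :=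
    Module.FaithfullyFlat.of_flat_of_isLocalHom
  exact Module.Flat.of_faithfullyFlat_comp' (Z.presheaf.stalk (g (f x)))
    (Y.presheaf.stalk (f x)) (X.presheaf.stalk x)

open Grpd Groth.Agent.Lib.Helper25.GrpdAlg Groth.Agent.Lib.Helper20.HB

variable {S : Scheme.{u}} (G : GroupoidScheme S) {U' : Scheme.{u}} (u : U' ⟶ G.U)

theorem isOpenMap_vT [IsImmersion u] (ht : IsOpenMap G.t) : IsOpenMap (vT G u) := by
  intro O hO
  haveI : IsImmersion (vR G u) := by unfold vR; infer_instance
  obtain ⟨O', hO', rfl⟩ := (vR G u).isEmbedding.isInducing.isOpen_iff.mp hO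
  have h := Scheme.image_preimage_eq_of_isPullback (IsPullback.of_hasPullback G.t u) O'
  have h' : vT G u '' (vR G u ⁻¹' O') = u ⁻¹' (G.t '' O') := h
  rw [h']
  exact (ht O' hO').preimage u.continuous

variable [Mono u]
variable [IsFinite (v G u)] [Flat (v G u)] [LocallyOfFinitePresentation (v G u)]
  [Surjective (v G u)]
variable (hcov : ∀ x : (ind G u).U, ∃ W : AffInv (ind G u), x ∈ W.W)

theorem v_p_pt (a : V G u) : p G u hcov (v G u a) = p' G u hcov (vT G u a) := by
  have := congrArg (fun f : V G u ⟶ Y G u => f a) (v_p G u hcov)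
  exact this

theorem isOpenMap_p [IsImmersion u] (ht : IsOpenMap G.t) : IsOpenMap (p G u hcov) := by
  intro O hO
  have h1 : p G u hcov '' O = p' G u hcov '' (vT G u '' (v G u ⁻¹' O)) := by
    ext y
    constructor
    · rintro ⟨x, hx, rfl⟩
      obtain ⟨a, rfl⟩ := (v G u).surjective x
      exact ⟨vT G u a, ⟨a, hx, rfl⟩, (v_p_pt G u hcov a).symm⟩
    · rintro ⟨_, ⟨a, ha, rfl⟩, rfl⟩
      exact ⟨v G u a, ha, v_p_pt G u hcov a⟩
  rw [h1]
  exact AffInv.isOpenMap_p hcov _ (isOpenMap_vT G u ht _ (hO.preimage (v G u).continuous))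

theorem universallyClosed_p [UniversallyClosed G.t] : UniversallyClosed (p G u hcov) := by
  haveI : UniversallyClosed (vT G u) := by unfold vT; infer_instance
  haveI : IsIntegralHom (p' G u hcov) := AffInv.isIntegralHom_p hcov
  haveI : UniversallyClosed (v G u ≫ p G u hcov) := by
    rw [v_p]; infer_instance
  exact UniversallyClosed.of_comp_surjective (v G u) (p G u hcov)

end Groth.Agent.Lib.Helper20.HC
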