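import Mathlib
import Groth.Agent.Lib.Helper20.HC4

/-!
# Quasi-sections: `R → U ×_Y U`
-/

set_option autoImplicit false
set_option linter.style.haveILetI false
set_option linter.unusedSimpArgs false
set_option linter.unusedSectionVars false
universe u
open CategoryTheory CategoryTheory.Limits AlgebraicGeometry MorphismProperty

namespace Groth.Agent.Lib.Helper20.HC

open Grpd Groth.Agent.Lib.Helper25.GrpdAlg Groth.Agent.Lib.Helper20.HB

variable {S : Scheme.{u}} (G : GroupoidScheme S) {U' : Scheme.{u}} (u : U' ⟶ G.U) [Mono u]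
variable [IsFinite (v G u)] [Flat (v G u)] [LocallyOfFinitePresentation (v G u)]
  [Surjective (v G u)]
variable (hcov : ∀ x : (ind G u).U, ∃ W : AffInv (ind G u), x ∈ W.W)

/-- `(t, s) : R ⟶ U ×_Y U`. -/
noncomputable def L : G.R ⟶ pullback (p G u hcov) (p G u hcov) :=
  pullback.lift G.t G.s (t_p G u hcov)

/-- `(t', s') : R' ⟶ U' ×_Y U'`. -/
noncomputable def L' : R' G u ⟶ pullback (p' G u hcov) (p' G u hcov) :=
  pullback.lift (t' G u) (s' G u) (t'_p' G u hcov)

theorem surjective_L' : Surjective (L' G u hcov) :=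
  ⟨AffInv.surjective_lift hcov (AffInv.t_p hcov)⟩

/-- `V ×_Y V`. -/
noncomputable abbrev VV : Scheme.{u} := pullback (v G u ≫ p G u hcov) (v G u ≫ p G u hcov)

/-- `V ×_Y V ⟶ U ×_Y U`. -/
noncomputable def q1 : VV G u hcov ⟶ pullback (p G u hcov) (p G u hcov) :=
  pullback.map (v G u ≫ p G u hcov) (v G u ≫ p G u hcov) (p G u hcov) (p G u hcov)
    (v G u) (v G u) (𝟙 _) (Category.comp_id _) (Category.comp_id _)

/-- `V ×_Y V ⟶ U' ×_Y U'`. -/
noncomputable def q0 : VV G u hcov ⟶ pullback (p' G u hcov) (p' G u hcov) :=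
  pullback.map (v G u ≫ p G u hcov) (v G u ≫ p G u hcov) (p' G u hcov) (p' G u hcov)
    (vT G u) (vT G u) (𝟙 _) (by rw [Category.comp_id, v_p]) (by rw [Category.comp_id, v_p])

set_option backward.isDefEq.respectTransparency.types false in
theorem cover_q1 : (@Surjective ⊓ @Flat ⊓ @QuasiCompact : MorphismProperty Scheme.{u})
    (q1 G u hcov) := by
  have := MorphismProperty.pullbackMap (P := (@Surjective ⊓ @Flat ⊓ @QuasiCompact :
    MorphismProperty Scheme.{u})) (f := v G u ≫ p G u hcov) (g := v G u ≫ p G u hcov)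
    (f' := p G u hcov) (g' := p G u hcov) (i₁ := v G u) (i₂ := v G u)
    ⟨⟨inferInstance, inferInstance⟩, inferInstance⟩ ⟨⟨inferInstance, inferInstance⟩, inferInstance⟩
    rfl rfl
  exact this

theorem surjective_q1 : Surjective (q1 G u hcov) := (cover_q1 G u hcov).1.1

/-- `W = R' ×_{U' ×_Y U'} (V ×_Y V)`. -/
noncomputable abbrev W : Scheme.{u} := pullback (L' G u hcov) (q0 G u hcov)

/-- first `V`-component. -/
noncomputable def wa0 : W G u hcov ⟶ V G u :=
  pullback.snd (L' G u hcov) (q0 G u hcov) ≫ pullback.fst _ _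

/-- second `V`-component. -/
noncomputable def wa1 : W G u hcov ⟶ V G u :=
  pullback.snd (L' G u hcov) (q0 G u hcov) ≫ pullback.snd _ _

/-- `R'`-component. -/
noncomputable def wr : W G u hcov ⟶ R' G u := pullback.fst (L' G u hcov) (q0 G u hcov)

theorem wr_t' : wr G u hcov ≫ t' G u = wa0 G u hcov ≫ vT G u := by
  have h := congrArg (fun f => f ≫ pullback.fst (p' G u hcov) (p' G u hcov))
    (pullback.condition (f := L' G u hcov) (g := q0 G u hcov))
  simp only [Category.assoc] at h
  rw [L', q0, pullback.lift_fst, pullback.lift_fst] at h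
  rw [wr, wa0, Category.assoc]
  exact h

theorem wr_s' : wr G u hcov ≫ s' G u = wa1 G u hcov ≫ vT G u := by
  have h := congrArg (fun f => f ≫ pullback.snd (p' G u hcov) (p' G u hcov))
    (pullback.condition (f := L' G u hcov) (g := q0 G u hcov))
  simp only [Category.assoc] at h
  rw [L', q0, pullback.lift_snd, pullback.lift_snd] at h
  rw [wr, wa1, Category.assoc]
  exact h

theorem wφ_aux1 : ((wa0 G u hcov ≫ vR G u) ≫ G.i) ≫ G.s = (wr G u hcov ≫ ιR G u) ≫ G.t := by
  rw [Category.assoc, G.i_s, Category.assoc, vR_t, Category.assoc, ιR_t, ← Category.assoc,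
    ← Category.assoc, wr_t']

theorem wφ_aux2 :
    comp G ((wa0 G u hcov ≫ vR G u) ≫ G.i) (wr G u hcov ≫ ιR G u) (wφ_aux1 G u hcov) ≫ G.s =
      (wa1 G u hcov ≫ vR G u) ≫ G.t := by
  rw [comp_s, Category.assoc, ιR_s, Category.assoc, vR_t, ← Category.assoc, ← Category.assoc,
    wr_s']

/-- `(a₀, r', a₁) ↦ a₀⁻¹ r' a₁`. -/
noncomputable def wφ : W G u hcov ⟶ G.R :=
  comp G (comp G ((wa0 G u hcov ≫ vR G u) ≫ G.i) (wr G u hcov ≫ ιR G u) (wφ_aux1 G u hcov))
    (wa1 G u hcov ≫ vR G u) (wφ_aux2 G u hcov)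

theorem wφ_t : wφ G u hcov ≫ G.t = wa0 G u hcov ≫ v G u := by
  rw [wφ, comp_t, comp_t, Category.assoc, G.i_t, Category.assoc, vR_s]

theorem wφ_s : wφ G u hcov ≫ G.s = wa1 G u hcov ≫ v G u := by
  rw [wφ, comp_s, Category.assoc, vR_s]

theorem wφ_L : wφ G u hcov ≫ L G u hcov =
    pullback.snd (L' G u hcov) (q0 G u hcov) ≫ q1 G u hcov := by
  apply pullback.hom_ext
  · rw [Category.assoc, L, pullback.lift_fst, wφ_t, Category.assoc, q1, pullback.lift_fst,
      ← Category.assoc, wa0]
  · rw [Category.assoc, L, pullback.lift_snd, wφ_s, Category.assoc, q1, pullback.lift_snd,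
      ← Category.assoc, wa1]

theorem surjective_L : Surjective (L G u hcov) := by
  haveI := surjective_L' G u hcov
  haveI := surjective_q1 G u hcov
  haveI : Surjective (wφ G u hcov ≫ L G u hcov) := by
    rw [wφ_L]
    infer_instance
  exact Surjective.of_comp (wφ G u hcov) (L G u hcov)

section mono

variable [Mono G.j]

omit [Mono G.j] [Mono u] [IsFinite (v G u)] [Flat (v G u)] [LocallyOfFinitePresentation (v G u)]
  [Surjective (v G u)] in
theorem mono_j_iff (H : GroupoidScheme S) : Mono H.j ↔ ∀ {T : Scheme.{u}} (a b : T ⟶ H.R),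
    a ≫ H.t = b ≫ H.t → a ≫ H.s = b ≫ H.s → a = b := by
  have e1 : H.j ≫ pullback.fst _ _ = H.t := pullback.lift_fst _ _ _
  have e2 : H.j ≫ pullback.snd _ _ = H.s := pullback.lift_snd _ _ _
  constructor
  · intro hm T a b h1 h2
    have k : a ≫ H.j = b ≫ H.j := by
      apply pullback.hom_ext
      · rw [Category.assoc, Category.assoc, e1, h1]
      · rw [Category.assoc, Category.assoc, e2, h2]
    exact (cancel_mono H.j).mp k
  · intro h
    constructor
    intro T a b hab
    apply h
    · rw [← e1, ← Category.assoc, hab, Category.assoc]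
    · rw [← e2, ← Category.assoc, hab, Category.assoc]

theorem mono_ind_j : Mono (ind G u).j := by
  rw [mono_j_iff]
  intro T a b h1 h2
  obtain ⟨a', rfl⟩ : ∃ a' : T ⟶ R' G u, a' = a := ⟨a, rfl⟩
  obtain ⟨b', rfl⟩ : ∃ b' : T ⟶ R' G u, b' = b := ⟨b, rfl⟩
  have h1' : a' ≫ t' G u = b' ≫ t' G u := h1
  have h2' : a' ≫ s' G u = b' ≫ s' G u := h2
  have k : a' ≫ ιR G u = b' ≫ ιR G u := by
    apply (mono_j_iff G).mp inferInstance
    · rw [Category.assoc, Category.assoc, ιR_t, ← Category.assoc, ← Category.assoc, h1']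
    · rw [Category.assoc, Category.assoc, ιR_s, ← Category.assoc, ← Category.assoc, h2']
  exact (cancel_mono (ιR G u)).mp k

theorem mono_L : Mono (L G u hcov) := by
  constructor
  intro T a b hab
  have e1 : L G u hcov ≫ pullback.fst _ _ = G.t := pullback.lift_fst _ _ _
  have e2 : L G u hcov ≫ pullback.snd _ _ = G.s := pullback.lift_snd _ _ _
  have h1 : a ≫ G.t = b ≫ G.t := by rw [← e1, ← Category.assoc, hab, Category.assoc]
  have h2 : a ≫ G.s = b ≫ G.s := by rw [← e2, ← Category.assoc, hab, Category.assoc]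
  exact (mono_j_iff G).mp inferInstance a b h1 h2

theorem isIso_L' : IsIso (L' G u hcov) := by
  haveI := mono_ind_j G u
  have hpb : IsPullback (t' G u) (s' G u) (p' G u hcov) (p' G u hcov) :=
    AffInv.isPullback_t_s hcov
  have : L' G u hcov = hpb.isoPullback.hom := by
    apply pullback.hom_ext
    · rw [L', pullback.lift_fst, hpb.isoPullback_hom_fst]
    · rw [L', pullback.lift_snd, hpb.isoPullback_hom_snd]
  rw [this]
  infer_instance

set_option backward.isDefEq.respectTransparency.types false in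
theorem isIso_L : IsIso (L G u hcov) := by
  haveI := isIso_L' G u hcov
  haveI := mono_L G u hcov
  -- the base change of `L` along `q1` is a monomorphism with a section
  have hw : pullback.snd (L' G u hcov) (q0 G u hcov) ≫ q1 G u hcov =
      wφ G u hcov ≫ L G u hcov := (wφ_L G u hcov).symm
  let ψ : W G u hcov ⟶ pullback (q1 G u hcov) (L G u hcov) :=
    pullback.lift (pullback.snd (L' G u hcov) (q0 G u hcov)) (wφ G u hcov) hw
  have hψ : ψ ≫ pullback.fst (q1 G u hcov) (L G u hcov) =
      pullback.snd (L' G u hcov) (q0 G u hcov) := pullback.lift_fst _ _ _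
  haveI : IsIso (pullback.snd (L' G u hcov) (q0 G u hcov)) := inferInstance
  haveI : Mono (pullback.fst (q1 G u hcov) (L G u hcov)) := inferInstance
  haveI : IsSplitEpi (pullback.fst (q1 G u hcov) (L G u hcov)) :=
    ⟨⟨⟨inv (pullback.snd (L' G u hcov) (q0 G u hcov)) ≫ ψ, by
      rw [Category.assoc, hψ, IsIso.inv_hom_id]⟩⟩⟩
  have hiso : IsIso (pullback.fst (q1 G u hcov) (L G u hcov)) := isIso_of_mono_of_isSplitEpi _
  have := of_pullback_fst_of_descendsAlong (P := isomorphisms Scheme.{u})
    (Q := (@Surjective ⊓ @Flat ⊓ @QuasiCompact : MorphismProperty Scheme.{u}))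
    (f := q1 G u hcov) (g := L G u hcov) (cover_q1 G u hcov) hiso
  exact this

theorem isPullback_t_s : IsPullback G.t G.s (p G u hcov) (p G u hcov) := by
  haveI := isIso_L G u hcov
  exact IsPullback.of_iso_pullback ⟨t_p G u hcov⟩ (asIso (L G u hcov))
    (pullback.lift_fst _ _ _) (pullback.lift_snd _ _ _)

theorem flat_p [Flat G.t] : Flat (p G u hcov) := by
  haveI := mono_ind_j G u
  haveI : Flat (vT G u) := by unfold vT; infer_instance
  haveI : Flat (p' G u hcov) := AffInv.flat_p hcov
  haveI : Flat (v G u ≫ p G u hcov) := by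
    rw [v_p]; infer_instance
  exact flat_of_flat_comp (v G u) (p G u hcov)

end mono

end Groth.Agent.Lib.Helper20.HC
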