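import Mathlib
import Groth.Agent.Lib.Helper20.HA15

/-!
# Finite sets of points in a scheme separated and locally quasi-finite over an affine scheme
lie in an affine open (via Zariski's main theorem)
-/

set_option autoImplicit false
set_option linter.style.haveILetI false
set_option linter.unusedSimpArgs false
set_option linter.unusedSectionVars false
universe u
open CategoryTheory CategoryTheory.Limits AlgebraicGeometry

namespace Groth.Agent.Lib.Helper20.HE

/-- quasi-compact case: `X` is an open subscheme of an affine scheme. -/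
theorem exists_affine_open_of_finite_qc {X Y : Scheme.{u}} (f : X ⟶ Y) [IsSeparated f]
    [LocallyQuasiFinite f] [LocallyOfFiniteType f] [QuasiCompact f] [IsAffine Y]
    (F : Set X) (hF : F.Finite) : ∃ W : X.Opens, IsAffineOpen W ∧ F ⊆ (W : Set X) := by
  haveI : IsAffine f.normalization := isAffine_of_isAffineHom f.fromNormalization
  obtain ⟨b, hb1, hb2⟩ := Groth.Agent.Lib.Helper20.HA.exists_basicOpen_of_finite_affine
    (isAffineOpen_top f.normalization) (f.toNormalization '' F) (hF.image _)
    (fun _ _ => trivial) f.toNormalization.opensRange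
    (by rintro _ ⟨x, _, rfl⟩; exact ⟨x, rfl⟩)
  refine ⟨f.toNormalization ⁻¹ᵁ (f.normalization.basicOpen b),
    ((isAffineOpen_top _).basicOpen b).preimage_of_isOpenImmersion f.toNormalization hb2, ?_⟩
  intro x hx
  exact hb1 ⟨x, hx, rfl⟩

/-- A finite set of points of a scheme which is separated, locally quasi-finite and locally of
finite type over an affine scheme is contained in an affine open. -/
theorem exists_affine_open_of_finite {X Y : Scheme.{u}} (f : X ⟶ Y) [IsSeparated f]
    [LocallyQuasiFinite f] [LocallyOfFiniteType f] [IsAffine Y]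
    (F : Set X) (hF : F.Finite) : ∃ W : X.Opens, IsAffineOpen W ∧ F ⊆ (W : Set X) := by
  have hex : ∀ x : X, ∃ V : X.Opens, IsAffineOpen V ∧ x ∈ V := by
    intro x
    obtain ⟨_, ⟨V, hV, rfl⟩, hxV, -⟩ := X.isBasis_affineOpens.exists_subset_of_mem_open
      (Set.mem_univ x) isOpen_univ
    exact ⟨V, hV, hxV⟩
  choose V hV hxV using hex
  let X₀ : X.Opens := ⨆ x : F, V x.1
  have hFX : F ⊆ (X₀ : Set X) := by
    intro x hx
    exact TopologicalSpace.Opens.mem_iSup.mpr ⟨⟨x, hx⟩, hxV x⟩
  have hc : IsCompact (X₀ : Set X) := by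
    have : (X₀ : Set X) = ⋃ x : F, (V x.1 : Set X) := by
      simp [X₀]
    rw [this]
    haveI := hF.to_subtype
    exact isCompact_iUnion (fun x => (hV x.1).isCompact)
  haveI : CompactSpace X₀ := isCompact_iff_compactSpace.mp hc
  haveI : CompactSpace X₀.toScheme := ‹CompactSpace X₀›
  haveI : QuasiCompact (X₀.ι ≫ f) := quasiCompact_of_compactSpace _
  obtain ⟨W, hW, hFW⟩ := exists_affine_open_of_finite_qc (X₀.ι ≫ f) (X₀.ι ⁻¹' F)
    (hF.preimage X₀.ι.isOpenEmbedding.injective.injOn)
  refine ⟨X₀.ι ''ᵁ W, hW.image_of_isOpenImmersion X₀.ι, ?_⟩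
  intro x hx
  exact ⟨⟨x, hFX hx⟩, hFW (by exact hx), rfl⟩

end Groth.Agent.Lib.Helper20.HE
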