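import Mathlib
import Groth.Agent.Lib.Helper25.GrpdPair
import Groth.Agent.Lib.Helper25.GrpdSub

/-!
# Algebra of threefold composites of `T`-points of a groupoid scheme
-/

set_option autoImplicit false
set_option linter.style.haveILetI false
set_option linter.unusedSimpArgs false
set_option linter.unusedSectionVars false
universe u
open CategoryTheory CategoryTheory.Limits AlgebraicGeometry

namespace Groth.Agent.Lib.Helper20.HE

open Grpd Groth.Agent.Lib.Helper25.GrpdAlg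

variable {S : Scheme.{u}} (G : GroupoidScheme S) {T : Scheme.{u}}

/-- `a ∘ r ∘ b`. -/
noncomputable def comp3 (a r b : T ⟶ G.R) (h1 : a ≫ G.s = r ≫ G.t) (h2 : r ≫ G.s = b ≫ G.t) :
    T ⟶ G.R :=
  comp G (comp G a r h1) b ((comp_s G a r h1).trans h2)

theorem comp3_s (a r b : T ⟶ G.R) (h1 : a ≫ G.s = r ≫ G.t) (h2 : r ≫ G.s = b ≫ G.t) :
    comp3 G a r b h1 h2 ≫ G.s = b ≫ G.s := comp_s G _ _ _

theorem comp3_t (a r b : T ⟶ G.R) (h1 : a ≫ G.s = r ≫ G.t) (h2 : r ≫ G.s = b ≫ G.t) :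
    comp3 G a r b h1 h2 ≫ G.t = a ≫ G.t := (comp_t G _ _ _).trans (comp_t G _ _ _)

theorem comp3_congr {a a' r r' b b' : T ⟶ G.R} (ha : a = a') (hr : r = r') (hb : b = b')
    (h1 : a ≫ G.s = r ≫ G.t) (h2 : r ≫ G.s = b ≫ G.t)
    (h1' : a' ≫ G.s = r' ≫ G.t) (h2' : r' ≫ G.s = b' ≫ G.t) :
    comp3 G a r b h1 h2 = comp3 G a' r' b' h1' h2' := by
  subst ha; subst hr; subst hb; rfl

theorem precomp3 {T' : Scheme.{u}} (u : T' ⟶ T) (a r b : T ⟶ G.R) (h1 : a ≫ G.s = r ≫ G.t)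
    (h2 : r ≫ G.s = b ≫ G.t) :
    u ≫ comp3 G a r b h1 h2 = comp3 G (u ≫ a) (u ≫ r) (u ≫ b)
      (by rw [Category.assoc, Category.assoc, h1]) (by rw [Category.assoc, Category.assoc, h2]) := by
  unfold comp3
  rw [precomp]
  exact comp_congr G (precomp G u a r h1) rfl _ _

theorem comp3_eq (a r b : T ⟶ G.R) (h1 : a ≫ G.s = r ≫ G.t) (h2 : r ≫ G.s = b ≫ G.t) :
    comp3 G a r b h1 h2 = comp G a (comp G r b h2) (h1.trans (comp_t G r b h2).symm) :=
  assoc G a r b h1 h2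

/-- `a ∘ (a' ∘ r ∘ b') ∘ b = (a ∘ a') ∘ r ∘ (b' ∘ b)`. -/
theorem comp3_comp3 (a a' r b' b : T ⟶ G.R) (h1' : a' ≫ G.s = r ≫ G.t) (h2' : r ≫ G.s = b' ≫ G.t)
    (h1 : a ≫ G.s = a' ≫ G.t) (h2 : b' ≫ G.s = b ≫ G.t) :
    comp3 G a (comp3 G a' r b' h1' h2') b (h1.trans (comp3_t G a' r b' h1' h2').symm)
        ((comp3_s G a' r b' h1' h2').trans h2) =
      comp3 G (comp G a a' h1) r (comp G b' b h2) ((comp_s G a a' h1).trans h1')
        (h2'.trans (comp_t G b' b h2).symm) := by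
  -- LHS = (a ∘ ((a' ∘ r) ∘ b')) ∘ b ; RHS = ((a∘a') ∘ r) ∘ (b' ∘ b)
  unfold comp3
  -- step 1: a ∘ ((a'∘r)∘b') = (a ∘ (a'∘r)) ∘ b'
  have e1 : comp G a (comp G (comp G a' r h1') b' ((comp_s G a' r h1').trans h2'))
      (h1.trans (comp3_t G a' r b' h1' h2').symm) =
      comp G (comp G a (comp G a' r h1') (h1.trans (comp_t G a' r h1').symm)) b'
        ((comp_s G _ _ _).trans ((comp_s G a' r h1').trans h2')) :=
    (assoc G a (comp G a' r h1') b' (h1.trans (comp_t G a' r h1').symm)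
      ((comp_s G a' r h1').trans h2')).symm
  -- step 2: a ∘ (a'∘r) = (a∘a')∘r
  have e2 : comp G a (comp G a' r h1') (h1.trans (comp_t G a' r h1').symm) =
      comp G (comp G a a' h1) r ((comp_s G a a' h1).trans h1') :=
    (assoc G a a' r h1 h1').symm
  -- combine
  have e3 : comp G (comp G a (comp G (comp G a' r h1') b' ((comp_s G a' r h1').trans h2'))
      (h1.trans (comp3_t G a' r b' h1' h2').symm)) b
      ((comp_s G _ _ _).trans ((comp3_s G a' r b' h1' h2').trans h2)) =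
      comp G (comp G (comp G (comp G a a' h1) r ((comp_s G a a' h1).trans h1')) b'
        ((comp_s G _ _ _).trans h2')) b ((comp_s G _ _ _).trans h2) := by
    apply comp_congr G _ rfl
    rw [e1]
    exact comp_congr G e2 rfl _ _
  refine e3.trans ?_
  exact assoc G _ b' b _ h2

theorem comp3_e_e (r : T ⟶ G.R) :
    comp3 G (r ≫ G.t ≫ G.e) r (r ≫ G.s ≫ G.e)
      (by rw [Category.assoc, Category.assoc, G.e_s, Category.comp_id])
      (by rw [Category.assoc, Category.assoc, G.e_t, Category.comp_id]) = r := by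
  unfold comp3
  refine (comp_congr G (e_comp G r) rfl _ ?_).trans (comp_e G r)
  rw [Category.assoc, Category.assoc, G.e_t, Category.comp_id]

/-- `a ∘ e ∘ b = a ∘ b`. -/
theorem comp3_e_mid (a b : T ⟶ G.R) (h : a ≫ G.s = b ≫ G.t) :
    comp3 G a (a ≫ G.s ≫ G.e) b
      (by rw [Category.assoc, Category.assoc, G.e_t, Category.comp_id])
      (by rw [Category.assoc, Category.assoc, G.e_s, Category.comp_id, h]) = comp G a b h := by
  unfold comp3
  exact comp_congr G (comp_e G a) rfl _ _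

/-- `(a ∘ b)⁻¹ = b⁻¹ ∘ a⁻¹`. -/
theorem comp_inv (a b : T ⟶ G.R) (h : a ≫ G.s = b ≫ G.t) :
    comp G a b h ≫ G.i = comp G (b ≫ G.i) (a ≫ G.i)
      (by rw [Category.assoc, Category.assoc, G.i_s, G.i_t, h]) := by
  have hba : (b ≫ G.i) ≫ G.s = (a ≫ G.i) ≫ G.t := by
    rw [Category.assoc, Category.assoc, G.i_s, G.i_t, h]
  have hc : (comp G a b h) ≫ G.s = (comp G (b ≫ G.i) (a ≫ G.i) hba) ≫ G.t := by
    rw [comp_s, comp_t, Category.assoc, G.i_t]
  symm
  apply eq_inv_of_comp_eq G (comp G a b h) (comp G (b ≫ G.i) (a ≫ G.i) hba) hc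
  -- (a∘b)∘(b⁻¹∘a⁻¹) = a ∘ (b ∘ b⁻¹) ∘ a⁻¹ = a ∘ a⁻¹ = e
  have hb1 : b ≫ G.s = (b ≫ G.i) ≫ G.t := by rw [Category.assoc, G.i_t]
  have e1 : comp G (comp G a b h) (comp G (b ≫ G.i) (a ≫ G.i) hba) hc =
      comp G (comp G (comp G a b h) (b ≫ G.i) ((comp_s G a b h).trans hb1)) (a ≫ G.i)
        ((comp_s G _ _ _).trans hba) :=
    (assoc G (comp G a b h) (b ≫ G.i) (a ≫ G.i) ((comp_s G a b h).trans hb1) hba).symm
  have e2 : comp G (comp G a b h) (b ≫ G.i) ((comp_s G a b h).trans hb1) =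
      comp G a (comp G b (b ≫ G.i) hb1) (h.trans (comp_t G b _ hb1).symm) :=
    assoc G a b (b ≫ G.i) h hb1
  have e3 : comp G a (comp G b (b ≫ G.i) hb1) (h.trans (comp_t G b _ hb1).symm) = a := by
    refine (comp_congr G rfl ?_ _ ?_).trans (comp_e G a)
    · rw [comp_i G b, ← Category.assoc, ← h, Category.assoc]
    · rw [Category.assoc, Category.assoc, G.e_t, Category.comp_id]
  rw [e1]
  refine (comp_congr G (e2.trans e3) rfl _ ?_).trans ?_
  · rw [Category.assoc, G.i_t]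
  · rw [comp_i G a]
    have := comp_t G a b h
    rw [← Category.assoc, ← Category.assoc, this]

theorem comp3_inv (a r b : T ⟶ G.R) (h1 : a ≫ G.s = r ≫ G.t) (h2 : r ≫ G.s = b ≫ G.t) :
    comp3 G a r b h1 h2 ≫ G.i = comp3 G (b ≫ G.i) (r ≫ G.i) (a ≫ G.i)
      (by rw [Category.assoc, Category.assoc, G.i_s, G.i_t, h2])
      (by rw [Category.assoc, Category.assoc, G.i_s, G.i_t, h1]) := by
  unfold comp3
  rw [comp_inv]
  have := comp_inv G a r h1
  rw [comp_congr G rfl this _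
    (by rw [comp_t, Category.assoc, Category.assoc, G.i_s, G.i_t, h2])]
  exact (assoc G _ _ _ _ _).symm

/-- `a⁻¹ ∘ (a ∘ r ∘ b) ∘ b⁻¹ = r`. -/
theorem comp3_inv_cancel (a r b : T ⟶ G.R) (h1 : a ≫ G.s = r ≫ G.t) (h2 : r ≫ G.s = b ≫ G.t) :
    comp3 G (a ≫ G.i) (comp3 G a r b h1 h2) (b ≫ G.i)
      (by rw [Category.assoc, G.i_s, comp3_t])
      (by rw [Category.assoc, G.i_t, comp3_s]) = r := by
  have h3 : (a ≫ G.i) ≫ G.s = a ≫ G.t := by rw [Category.assoc, G.i_s]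
  have h4 : b ≫ G.s = (b ≫ G.i) ≫ G.t := by rw [Category.assoc, G.i_t]
  refine (comp3_comp3 G (a ≫ G.i) a r b (b ≫ G.i) h1 h2 h3 h4).trans ?_
  refine (comp3_congr G (i_comp G a) rfl (comp_i G b) _ _ ?_ ?_).trans ?_
  · rw [Category.assoc, Category.assoc, G.e_s, Category.comp_id, h1]
  · rw [Category.assoc, Category.assoc, G.e_t, Category.comp_id, h2]
  · refine (comp3_congr G ?_ rfl ?_ _ _ ?_ ?_).trans (comp3_e_e G r)
    · rw [← Category.assoc, h1, Category.assoc]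
    · rw [← Category.assoc, ← h2, Category.assoc]
    · rw [Category.assoc, Category.assoc, G.e_s, Category.comp_id]
    · rw [Category.assoc, Category.assoc, G.e_t, Category.comp_id]

end Groth.Agent.Lib.Helper20.HE
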