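import Mathlib
import Groth.Agent.Lib.Helper20.HE2
import Groth.Agent.Lib.Helper20.HB1

/-!
# The double coset groupoid `P ×_U R ×_U P ⇉ R` of a subgroupoid `P ⊆ R`
-/

set_option autoImplicit false
set_option linter.style.haveILetI false
set_option linter.unusedSimpArgs false
set_option linter.unusedSectionVars false
universe u
open CategoryTheory CategoryTheory.Limits AlgebraicGeometry

namespace Groth.Agent.Lib.Helper20.HE

open Grpd Groth.Agent.Lib.Helper25.GrpdAlg Groth.Agent.Lib.Helper25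

variable {S : Scheme.{u}} (G : GroupoidScheme S) {P : Scheme.{u}} (ιP : P ⟶ G.R)

/-- triples `(a, r, b)` with `a, b` in `P`, `r` in `R`, `s a = t r`, `s r = t b`. -/
noncomputable abbrev R' : Scheme.{u} :=
  pullback (pullback.snd (ιP ≫ G.s) G.t ≫ G.s) (ιP ≫ G.t)

noncomputable def pa : R' G ιP ⟶ P := pullback.fst _ _ ≫ pullback.fst _ _
noncomputable def pr : R' G ιP ⟶ G.R := pullback.fst _ _ ≫ pullback.snd _ _
noncomputable def pb : R' G ιP ⟶ P := pullback.snd _ _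

theorem pa_pr : pa G ιP ≫ ιP ≫ G.s = pr G ιP ≫ G.t := by
  unfold pa pr; rw [Category.assoc, Category.assoc, pullback.condition]

theorem pr_pb : pr G ιP ≫ G.s = pb G ιP ≫ ιP ≫ G.t := by
  unfold pr pb; rw [Category.assoc]; exact pullback.condition

variable {G ιP} {T : Scheme.{u}}

noncomputable def mk (a : T ⟶ P) (r : T ⟶ G.R) (b : T ⟶ P) (h1 : a ≫ ιP ≫ G.s = r ≫ G.t)
    (h2 : r ≫ G.s = b ≫ ιP ≫ G.t) : T ⟶ R' G ιP :=
  pullback.lift (pullback.lift a r h1) b (by rw [pullback.lift_snd_assoc]; exact h2)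

@[simp] theorem mk_pa (a : T ⟶ P) (r : T ⟶ G.R) (b : T ⟶ P) (h1 : a ≫ ιP ≫ G.s = r ≫ G.t)
    (h2 : r ≫ G.s = b ≫ ιP ≫ G.t) : mk a r b h1 h2 ≫ pa G ιP = a := by
  unfold mk pa; rw [pullback.lift_fst_assoc, pullback.lift_fst]

@[simp] theorem mk_pr (a : T ⟶ P) (r : T ⟶ G.R) (b : T ⟶ P) (h1 : a ≫ ιP ≫ G.s = r ≫ G.t)
    (h2 : r ≫ G.s = b ≫ ιP ≫ G.t) : mk a r b h1 h2 ≫ pr G ιP = r := by
  unfold mk pr; rw [pullback.lift_fst_assoc, pullback.lift_snd]

@[simp] theorem mk_pb (a : T ⟶ P) (r : T ⟶ G.R) (b : T ⟶ P) (h1 : a ≫ ιP ≫ G.s = r ≫ G.t)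
    (h2 : r ≫ G.s = b ≫ ιP ≫ G.t) : mk a r b h1 h2 ≫ pb G ιP = b := by
  unfold mk pb; rw [pullback.lift_snd]

theorem hom_ext' {x y : T ⟶ R' G ιP} (ha : x ≫ pa G ιP = y ≫ pa G ιP)
    (hr : x ≫ pr G ιP = y ≫ pr G ιP) (hb : x ≫ pb G ιP = y ≫ pb G ιP) : x = y := by
  apply pullback.hom_ext
  · apply pullback.hom_ext
    · simpa only [pa, Category.assoc] using ha
    · simpa only [pr, Category.assoc] using hr
  · exact hb

theorem pt_pa_pr (x : T ⟶ R' G ιP) : ((x ≫ pa G ιP) ≫ ιP) ≫ G.s = (x ≫ pr G ιP) ≫ G.t := by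
  simp only [Category.assoc, pa_pr]

theorem pt_pr_pb (x : T ⟶ R' G ιP) : (x ≫ pr G ιP) ≫ G.s = ((x ≫ pb G ιP) ≫ ιP) ≫ G.t := by
  simp only [Category.assoc, pr_pb]

variable (G ιP) in
/-- the target map `(a, r, b) ↦ a ∘ r ∘ b`. -/
noncomputable def t' : R' G ιP ⟶ G.R :=
  comp3 G (pa G ιP ≫ ιP) (pr G ιP) (pb G ιP ≫ ιP)
    (by rw [Category.assoc]; exact pa_pr G ιP) (by rw [Category.assoc]; exact pr_pb G ιP)

theorem pt_t' (x : T ⟶ R' G ιP) :
    x ≫ t' G ιP = comp3 G ((x ≫ pa G ιP) ≫ ιP) (x ≫ pr G ιP) ((x ≫ pb G ιP) ≫ ιP)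
      (pt_pa_pr x) (pt_pr_pb x) := by
  unfold t'
  rw [precomp3]
  exact comp3_congr G (Category.assoc _ _ _).symm rfl (Category.assoc _ _ _).symm _ _ _ _

theorem mk_t' (a : T ⟶ P) (r : T ⟶ G.R) (b : T ⟶ P) (h1 : a ≫ ιP ≫ G.s = r ≫ G.t)
    (h2 : r ≫ G.s = b ≫ ιP ≫ G.t) :
    mk a r b h1 h2 ≫ t' G ιP = comp3 G (a ≫ ιP) r (b ≫ ιP)
      (by rw [Category.assoc]; exact h1) (by rw [Category.assoc]; exact h2) := by
  rw [pt_t']
  exact comp3_congr G (by rw [mk_pa]) (mk_pr _ _ _ _ _) (by rw [mk_pb]) _ _ _ _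

variable (G ιP) in
theorem t'_s : t' G ιP ≫ G.s = pb G ιP ≫ ιP ≫ G.s := by
  unfold t'; rw [comp3_s, Category.assoc]

variable (G ιP) in
theorem t'_t : t' G ιP ≫ G.t = pa G ιP ≫ ιP ≫ G.t := by
  unfold t'; rw [comp3_t, Category.assoc]

variable (L : GrpdSub.Lifts G ιP)

/-- composition of `T`-points of `P`. -/
noncomputable def cP (a a' : T ⟶ P) (h : a ≫ ιP ≫ G.s = a' ≫ ιP ≫ G.t) : T ⟶ P :=
  pullback.lift a a' h ≫ L.c'

variable [Mono ιP]

theorem cP_ι (a a' : T ⟶ P) (h : a ≫ ιP ≫ G.s = a' ≫ ιP ≫ G.t) :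
    cP L a a' h ≫ ιP = comp G (a ≫ ιP) (a' ≫ ιP) (by simpa only [Category.assoc] using h) :=
  GrpdSub.key L a a' h

/-- the identity section `r ↦ (e, r, e)`. -/
noncomputable def e' : G.R ⟶ R' G ιP :=
  mk (G.t ≫ L.e') (𝟙 G.R) (G.s ≫ L.e')
    (by rw [Category.assoc, ← Category.assoc L.e', L.he, G.e_s, Category.comp_id,
      Category.id_comp])
    (by rw [Category.assoc, ← Category.assoc L.e', L.he, G.e_t, Category.comp_id,
      Category.id_comp])

/-- the inverse `(a, r, b) ↦ (a⁻¹, a r b, b⁻¹)`. -/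
noncomputable def i' : R' G ιP ⟶ R' G ιP :=
  mk (pa G ιP ≫ L.i') (t' G ιP) (pb G ιP ≫ L.i')
    (by rw [Category.assoc, ← Category.assoc L.i', L.hi, Category.assoc, G.i_s, t'_t])
    (by rw [Category.assoc, ← Category.assoc L.i', L.hi, Category.assoc, G.i_t, t'_s])

theorem c'_aux1 :
    (pullback.fst (pr G ιP) (t' G ιP) ≫ pa G ιP) ≫ ιP ≫ G.s =
      (pullback.snd (pr G ιP) (t' G ιP) ≫ pa G ιP) ≫ ιP ≫ G.t := by
  rw [Category.assoc, pa_pr, ← Category.assoc, pullback.condition, Category.assoc, t'_t,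
    Category.assoc]

theorem c'_aux2 :
    (pullback.snd (pr G ιP) (t' G ιP) ≫ pb G ιP) ≫ ιP ≫ G.s =
      (pullback.fst (pr G ιP) (t' G ιP) ≫ pb G ιP) ≫ ιP ≫ G.t := by
  rw [Category.assoc, ← t'_s, ← Category.assoc, ← pullback.condition, Category.assoc, pr_pb,
    Category.assoc]

/-- the composition `((a, r, b), (a', r', b')) ↦ (a a', r', b' b)` (where `r = a' r' b'`). -/
noncomputable def c' : pullback (pr G ιP) (t' G ιP) ⟶ R' G ιP :=
  mk (cP L (pullback.fst _ _ ≫ pa G ιP) (pullback.snd _ _ ≫ pa G ιP) c'_aux1)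
    (pullback.snd _ _ ≫ pr G ιP)
    (cP L (pullback.snd _ _ ≫ pb G ιP) (pullback.fst _ _ ≫ pb G ιP) c'_aux2)
    (by
      rw [← Category.assoc, cP_ι, comp_s, Category.assoc, Category.assoc, pa_pr,
        Category.assoc])
    (by
      rw [← Category.assoc (cP L _ _ _), cP_ι, comp_t, Category.assoc, Category.assoc, pr_pb,
        Category.assoc])

variable (G ιP) in
theorem t'_over : t' G ιP ≫ G.pR = pr G ιP ≫ G.pR := by
  rw [← G.t_over, ← Category.assoc, t'_t, Category.assoc, Category.assoc, G.t_over, ← G.s_over,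
    ← Category.assoc ιP, ← Category.assoc (pa G ιP), pa_pr, Category.assoc, G.t_over, G.s_over]

variable (G ιP) in
/-- `(t', s') : R' → R ×_S R`. -/
noncomputable def j' : R' G ιP ⟶ pullback G.pR G.pR :=
  pullback.lift (t' G ιP) (pr G ιP) (t'_over G ιP)

theorem e'_t' : e' L ≫ t' G ιP = 𝟙 G.R := by
  unfold e'
  rw [mk_t']
  refine (comp3_congr G ?_ rfl ?_ _ _ ?_ ?_).trans (comp3_e_e G (𝟙 G.R))
  · rw [Category.assoc, L.he, Category.id_comp]
  · rw [Category.assoc, L.he, Category.id_comp]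
  · rw [Category.assoc, Category.assoc, G.e_s, Category.comp_id]
  · rw [Category.assoc, Category.assoc, G.e_t, Category.comp_id]

theorem i'_t' : i' L ≫ t' G ιP = pr G ιP := by
  unfold i'
  rw [mk_t']
  have h := comp3_inv_cancel G (pa G ιP ≫ ιP) (pr G ιP) (pb G ιP ≫ ιP)
    (by rw [Category.assoc]; exact pa_pr G ιP) (by rw [Category.assoc]; exact pr_pb G ιP)
  refine (comp3_congr G ?_ rfl ?_ _ _ ?_ ?_).trans h
  · rw [Category.assoc, L.hi, Category.assoc]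
  · rw [Category.assoc, L.hi, Category.assoc]
  · rw [Category.assoc, G.i_s]; exact (comp3_t G _ _ _ _ _).symm
  · rw [Category.assoc, G.i_t]; exact comp3_s G _ _ _ _ _

theorem c'_t' : c' L ≫ t' G ιP = pullback.fst (pr G ιP) (t' G ιP) ≫ t' G ιP := by
  unfold c'
  rw [mk_t', pt_t']
  -- a (a' r' b') b with r = a' r' b'
  have hcond : pullback.fst (pr G ιP) (t' G ιP) ≫ pr G ιP =
      pullback.snd (pr G ιP) (t' G ιP) ≫ t' G ιP := pullback.condition
  have h1 : ((pullback.fst (pr G ιP) (t' G ιP) ≫ pa G ιP) ≫ ιP) ≫ G.s =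
      ((pullback.snd (pr G ιP) (t' G ιP) ≫ pa G ιP) ≫ ιP) ≫ G.t := by
    simpa only [Category.assoc] using c'_aux1 (G := G) (ιP := ιP)
  have h2 : ((pullback.snd (pr G ιP) (t' G ιP) ≫ pb G ιP) ≫ ιP) ≫ G.s =
      ((pullback.fst (pr G ιP) (t' G ιP) ≫ pb G ιP) ≫ ιP) ≫ G.t := by
    simpa only [Category.assoc] using c'_aux2 (G := G) (ιP := ιP)
  have key := comp3_comp3 G ((pullback.fst (pr G ιP) (t' G ιP) ≫ pa G ιP) ≫ ιP)
    ((pullback.snd (pr G ιP) (t' G ιP) ≫ pa G ιP) ≫ ιP)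
    (pullback.snd (pr G ιP) (t' G ιP) ≫ pr G ιP)
    ((pullback.snd (pr G ιP) (t' G ιP) ≫ pb G ιP) ≫ ιP)
    ((pullback.fst (pr G ιP) (t' G ιP) ≫ pb G ιP) ≫ ιP)
    (pt_pa_pr _) (pt_pr_pb _) h1 h2
  refine Eq.trans ?_ (key.symm.trans ?_)
  · exact comp3_congr G (cP_ι L _ _ _) rfl (cP_ι L _ _ _) _ _ _ _
  · refine comp3_congr G rfl ?_ rfl _ _ _ _
    rw [← pt_t', ← hcond]

variable (G ιP) in
@[simp] theorem j'_fst : j' G ιP ≫ pullback.fst G.pR G.pR = t' G ιP := pullback.lift_fst _ _ _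

variable (G ιP) in
@[simp] theorem j'_snd : j' G ιP ≫ pullback.snd G.pR G.pR = pr G ιP := pullback.lift_snd _ _ _

theorem lifts_hs : pr G ιP ≫ 𝟙 G.R = j' G ιP ≫ pullback.snd G.pR G.pR := by
  rw [Category.comp_id, j'_snd]

theorem lifts_ht : t' G ιP ≫ 𝟙 G.R = j' G ιP ≫ pullback.fst G.pR G.pR := by
  rw [Category.comp_id, j'_fst]

theorem lifts_he : e' L ≫ j' G ιP = 𝟙 G.R ≫ pullback.lift (𝟙 G.R) (𝟙 G.R) rfl := by
  rw [Category.id_comp]
  apply pullback.hom_ext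
  · rw [Category.assoc, j'_fst, e'_t', pullback.lift_fst]
  · rw [Category.assoc, j'_snd, pullback.lift_snd]
    exact mk_pr _ _ _ _ _

theorem lifts_hi : i' L ≫ j' G ιP = j' G ιP ≫
    pullback.lift (pullback.snd G.pR G.pR) (pullback.fst G.pR G.pR) pullback.condition.symm := by
  apply pullback.hom_ext
  · rw [Category.assoc, Category.assoc, j'_fst, i'_t', pullback.lift_fst, j'_snd]
  · rw [Category.assoc, Category.assoc, j'_snd, pullback.lift_snd, j'_fst]
    exact mk_pr _ _ _ _ _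

theorem lifts_hc : c' L ≫ j' G ιP =
    pullback.map (pr G ιP) (t' G ιP) (pullback.snd G.pR G.pR) (pullback.fst G.pR G.pR)
      (j' G ιP) (j' G ιP) (𝟙 G.R) lifts_hs lifts_ht ≫ GrpdPair.pairC G.R G.pR := by
  apply pullback.hom_ext
  · rw [Category.assoc, Category.assoc, j'_fst, c'_t']
    unfold GrpdPair.pairC
    rw [pullback.lift_fst, ← Category.assoc, pullback.lift_fst, Category.assoc, j'_fst]
  · rw [Category.assoc, Category.assoc, j'_snd]
    unfold GrpdPair.pairC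
    rw [pullback.lift_snd, ← Category.assoc, pullback.lift_snd, Category.assoc, j'_snd]
    exact mk_pr _ _ _ _ _

/-- the lifting data into the pair groupoid of `R` over `S`. -/
noncomputable def lifts : Groth.Agent.Lib.Helper20.HB.Lifts2 (GrpdPair.pairGroupoid G.R G.pR)
    (𝟙 G.R) (j' G ιP) where
  s' := pr G ιP
  t' := t' G ιP
  e' := e' L
  i' := i' L
  c' := c' L
  hs := lifts_hs
  ht := lifts_ht
  he := lifts_he L
  hi := lifts_hi L
  hc := lifts_hc L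

theorem mono_j' [Mono (ιP ≫ G.j)] : Mono (j' G ιP) := by
  refine ⟨fun {Z} x y h => ?_⟩
  have ht : x ≫ t' G ιP = y ≫ t' G ιP := by
    have := congrArg (· ≫ pullback.fst G.pR G.pR) h
    simpa only [Category.assoc, j', pullback.lift_fst] using this
  have hr : x ≫ pr G ιP = y ≫ pr G ιP := by
    have := congrArg (· ≫ pullback.snd G.pR G.pR) h
    simpa only [Category.assoc, j', pullback.lift_snd] using this
  refine hom_ext' ?_ hr ?_
  · rw [← cancel_mono (ιP ≫ G.j)]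
    apply pullback.hom_ext
    · simp only [Category.assoc, GroupoidScheme.j, pullback.lift_fst]
      rw [← t'_t, ← Category.assoc, ht, Category.assoc]
    · simp only [Category.assoc, GroupoidScheme.j, pullback.lift_snd]
      rw [pa_pr, ← Category.assoc, hr, Category.assoc]
  · rw [← cancel_mono (ιP ≫ G.j)]
    apply pullback.hom_ext
    · simp only [Category.assoc, GroupoidScheme.j, pullback.lift_fst]
      rw [← pr_pb, ← Category.assoc, hr, Category.assoc]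
    · simp only [Category.assoc, GroupoidScheme.j, pullback.lift_snd]
      rw [← t'_s, ← Category.assoc, ht, Category.assoc]

/-- The double coset groupoid on `R`. -/
noncomputable def Gd [Mono (ιP ≫ G.j)] : GroupoidScheme S :=
  @Groth.Agent.Lib.Helper20.HB.Lifts2.grpd S (GrpdPair.pairGroupoid G.R G.pR) G.R (R' G ιP)
    (𝟙 G.R) (j' G ιP) (lifts L) (inferInstanceAs (Mono (𝟙 G.R))) (mono_j' (G := G) (ιP := ιP))

end Groth.Agent.Lib.Helper20.HE
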