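import Mathlib
import Groth.Agent.Lib.Helper20.HE1
import Groth.Agent.Lib.Helper20.HE3
import Groth.Agent.Lib.Helper20.HB10
import Groth.Agent.Lib.Helper20.HC5

/-!
# The quotients `Ū = U/P` and `R̄ = P\R/P`
-/

set_option autoImplicit false
set_option linter.style.haveILetI false
set_option linter.unusedSimpArgs false
set_option linter.unusedSectionVars false
universe u
open CategoryTheory CategoryTheory.Limits AlgebraicGeometry

namespace Groth.Agent.Lib.Helper20.HE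

open Grpd Groth.Agent.Lib.Helper25.GrpdAlg Groth.Agent.Lib.Helper25 Groth.Agent.Lib.Helper20.HB

theorem hcov_of_hb {S : Scheme.{u}} (G : Grpd.GroupoidScheme S) [IsFinite G.s] [Flat G.s]
    [LocallyOfFinitePresentation G.s]
    (hb : ∀ x : G.U, ∃ V : G.U.Opens, IsAffineOpen V ∧
      G.t.base '' (G.s.base ⁻¹' {x}) ⊆ (V : Set G.U)) :
    ∀ x : G.U, ∃ W : AffInv G, x ∈ W.W := by
  intro x
  obtain ⟨V, hV, hsub⟩ := hb x
  obtain ⟨W, hW, hxW, hinv⟩ :=
    Groth.Agent.Lib.Helper20.HA.exists_invariant_affine_open G x V hV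
      (fun r hr => hsub ⟨r, hr, rfl⟩)
  exact ⟨⟨⟨W, hinv⟩, hW⟩, hxW⟩

variable {S : Scheme.{u}} {G : GroupoidScheme S} {P : Scheme.{u}} {ιP : P ⟶ G.R} [Mono ιP]
  (L : GrpdSub.Lifts G ιP)

section GPsec

/-- the subgroupoid `P ⇉ U`. -/
noncomputable abbrev GP : GroupoidScheme S := GrpdSub.subGroupoid L

instance [h : IsFinite (ιP ≫ G.s)] : IsFinite (GP L).s := h
instance [h : Flat (ιP ≫ G.s)] : Flat (GP L).s := h
instance [h : LocallyOfFinitePresentation (ιP ≫ G.s)] : LocallyOfFinitePresentation (GP L).s := h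

omit [Mono ιP] in
theorem P_jointly_monic [Mono (ιP ≫ G.j)] {T : Scheme.{u}} (a b : T ⟶ P)
    (h1 : a ≫ ιP ≫ G.t = b ≫ ιP ≫ G.t) (h2 : a ≫ ιP ≫ G.s = b ≫ ιP ≫ G.s) : a = b := by
  rw [← cancel_mono (ιP ≫ G.j)]
  apply pullback.hom_ext
  · simp only [Category.assoc, GroupoidScheme.j, pullback.lift_fst]
    exact h1
  · simp only [Category.assoc, GroupoidScheme.j, pullback.lift_snd]
    exact h2

instance mono_GP_j [Mono (ιP ≫ G.j)] : Mono (GP L).j := by
  rw [Groth.Agent.Lib.Helper20.HC.mono_j_iff]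
  intro T a b h1 h2
  exact P_jointly_monic (G := G) (ιP := ιP) a b h1 h2

theorem hcovP [IsAffine G.U] : ∀ x : (GP L).U, ∃ W : AffInv (GP L), x ∈ W.W := by
  intro x
  exact ⟨⟨⟨⊤, by simp⟩, (isAffineOpen_top G.U : IsAffineOpen (⊤ : G.U.Opens))⟩, trivial⟩

end GPsec

section Gdsec

variable [Mono (ιP ≫ G.j)]

theorem Gd_s : (Gd L).s = pr G ιP := rfl
theorem Gd_t : (Gd L).t = t' G ιP := rfl

instance [IsFinite (ιP ≫ G.s)] [IsFinite (ιP ≫ G.t)] : IsFinite (Gd L).s := by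
  show IsFinite (pr G ιP)
  unfold pr
  infer_instance

instance [Flat (ιP ≫ G.s)] [Flat (ιP ≫ G.t)] : Flat (Gd L).s := by
  show Flat (pr G ιP)
  unfold pr
  infer_instance

instance [LocallyOfFinitePresentation (ιP ≫ G.s)] [LocallyOfFinitePresentation (ιP ≫ G.t)] :
    LocallyOfFinitePresentation (Gd L).s := by
  show LocallyOfFinitePresentation (pr G ιP)
  unfold pr
  infer_instance

theorem R'_jointly_monic {T : Scheme.{u}} (a b : T ⟶ R' G ιP)
    (h1 : a ≫ t' G ιP = b ≫ t' G ιP) (h2 : a ≫ pr G ιP = b ≫ pr G ιP) : a = b := by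
  haveI := mono_j' (G := G) (ιP := ιP)
  rw [← cancel_mono (j' G ιP)]
  apply pullback.hom_ext
  · rw [Category.assoc, Category.assoc, j'_fst, h1]
  · rw [Category.assoc, Category.assoc, j'_snd, h2]

instance mono_Gd_j : Mono (Gd L).j := by
  rw [Groth.Agent.Lib.Helper20.HC.mono_j_iff]
  intro T a b h1 h2
  exact R'_jointly_monic (G := G) (ιP := ιP) a b h1 h2

variable (G) in
/-- `R → U × U` (absolute product). -/
noncomputable def jAbs : G.R ⟶ pullback (G.pU ≫ terminal.from S) (G.pU ≫ terminal.from S) :=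
  G.j ≫ pullback.mapDesc G.pU G.pU (terminal.from S)

instance [IsSeparated G.j] : IsSeparated (jAbs G) := by unfold jAbs; infer_instance
instance [LocallyQuasiFinite G.j] : LocallyQuasiFinite (jAbs G) := by unfold jAbs; infer_instance
instance [LocallyOfFiniteType G.j] : LocallyOfFiniteType (jAbs G) := by
  unfold jAbs; infer_instance

theorem hbd [IsAffine G.U] [IsSeparated G.j] [LocallyQuasiFinite G.j] [LocallyOfFiniteType G.j]
    [IsFinite (ιP ≫ G.s)] [IsFinite (ιP ≫ G.t)] (x : (Gd L).U) :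
    ∃ V : (Gd L).U.Opens, IsAffineOpen V ∧
      (Gd L).t.base '' ((Gd L).s.base ⁻¹' {x}) ⊆ (V : Set (Gd L).U) := by
  have hfin : ((Gd L).s.base ⁻¹' {x}).Finite := Scheme.Hom.finite_preimage_singleton (Gd L).s x
  exact exists_affine_open_of_finite (jAbs G) _ (hfin.image _)

theorem hcovd [IsAffine G.U] [IsSeparated G.j] [LocallyQuasiFinite G.j] [LocallyOfFiniteType G.j]
    [IsFinite (ιP ≫ G.s)] [IsFinite (ιP ≫ G.t)] [Flat (ιP ≫ G.s)] [Flat (ιP ≫ G.t)]
    [LocallyOfFinitePresentation (ιP ≫ G.s)] [LocallyOfFinitePresentation (ιP ≫ G.t)] :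
    ∀ x : (Gd L).U, ∃ W : AffInv (Gd L), x ∈ W.W :=
  hcov_of_hb (Gd L) (hbd L)

end Gdsec

end Groth.Agent.Lib.Helper20.HE
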