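import Mathlib
import Groth.Agent.Lib.Helper20.HE2

/-!
# The groupoid of `T`-points of a groupoid scheme as a category; higher associativity
-/

set_option autoImplicit false
set_option linter.style.haveILetI false
set_option linter.unusedSimpArgs false
set_option linter.unusedSectionVars false
universe u
open CategoryTheory CategoryTheory.Limits AlgebraicGeometry

namespace Groth.Agent.Lib.Helper20.HE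

open Grpd Groth.Agent.Lib.Helper25.GrpdAlg

variable {S : Scheme.{u}} (G : GroupoidScheme S) (T : Scheme.{u})

/-- `T`-points of `U`, as objects of a category whose morphisms are `T`-points of `R`. -/
structure Pt where
  x : T ⟶ G.U

variable {G T}

noncomputable instance : Category (Pt G T) where
  Hom x y := {α : T ⟶ G.R // α ≫ G.s = x.x ∧ α ≫ G.t = y.x}
  id x := ⟨x.x ≫ G.e, by rw [Category.assoc, G.e_s, Category.comp_id],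
    by rw [Category.assoc, G.e_t, Category.comp_id]⟩
  comp f g := ⟨comp G g.1 f.1 (g.2.1.trans f.2.2.symm), (comp_s G _ _ _).trans f.2.1,
    (comp_t G _ _ _).trans g.2.2⟩
  id_comp := by
    rintro x y ⟨f, hs, ht⟩
    apply Subtype.ext
    show comp G f (x.x ≫ G.e) _ = f
    refine (comp_congr G rfl ?_ _ ?_).trans (comp_e G f)
    · rw [← Category.assoc, hs]
    · rw [Category.assoc, Category.assoc, G.e_t, Category.comp_id]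
  comp_id := by
    rintro x y ⟨f, hs, ht⟩
    apply Subtype.ext
    show comp G (y.x ≫ G.e) f _ = f
    refine (comp_congr G ?_ rfl _ ?_).trans (e_comp G f)
    · rw [← Category.assoc, ht]
    · rw [Category.assoc, Category.assoc, G.e_s, Category.comp_id]
  assoc := by
    rintro w x y z ⟨f, hfs, hft⟩ ⟨g, hgs, hgt⟩ ⟨h, hhs, hht⟩
    apply Subtype.ext
    show comp G h (comp G g f _) _ = comp G (comp G h g _) f _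
    exact (assoc G h g f (hhs.trans hgt.symm) (hgs.trans hft.symm)).symm

/-- `(a s₁ b) s₂ c = a s₁ (b s₂ c)`. -/
theorem assoc5 (a s1 b s2 c : T ⟶ G.R) (h1 : a ≫ G.s = s1 ≫ G.t) (h2 : s1 ≫ G.s = b ≫ G.t)
    (h3 : b ≫ G.s = s2 ≫ G.t) (h4 : s2 ≫ G.s = c ≫ G.t) :
    comp3 G (comp3 G a s1 b h1 h2) s2 c ((comp3_s G a s1 b h1 h2).trans h3) h4 =
      comp3 G a s1 (comp3 G b s2 c h3 h4) h1 (h2.trans (comp3_t G b s2 c h3 h4).symm) := by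
  let A : (⟨a ≫ G.s⟩ : Pt G T) ⟶ ⟨a ≫ G.t⟩ := ⟨a, rfl, rfl⟩
  let S1 : (⟨s1 ≫ G.s⟩ : Pt G T) ⟶ ⟨a ≫ G.s⟩ := ⟨s1, rfl, h1.symm⟩
  let B : (⟨b ≫ G.s⟩ : Pt G T) ⟶ ⟨s1 ≫ G.s⟩ := ⟨b, rfl, h2.symm⟩
  let S2 : (⟨s2 ≫ G.s⟩ : Pt G T) ⟶ ⟨b ≫ G.s⟩ := ⟨s2, rfl, h3.symm⟩
  let C : (⟨c ≫ G.s⟩ : Pt G T) ⟶ ⟨s2 ≫ G.s⟩ := ⟨c, rfl, h4.symm⟩
  have : C ≫ (S2 ≫ (B ≫ (S1 ≫ A))) = (C ≫ (S2 ≫ B)) ≫ (S1 ≫ A) := by
    simp only [Category.assoc]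
  exact congrArg Subtype.val this

/-- `(a₁ r₁ b₁) σ (a₂ r₂ b₂) = a₁ (r₁ (b₁ σ a₂) r₂) b₂`. -/
theorem assoc7 (a1 r1 b1 σ a2 r2 b2 : T ⟶ G.R)
    (h1 : a1 ≫ G.s = r1 ≫ G.t) (h2 : r1 ≫ G.s = b1 ≫ G.t) (h3 : b1 ≫ G.s = σ ≫ G.t)
    (h4 : σ ≫ G.s = a2 ≫ G.t) (h5 : a2 ≫ G.s = r2 ≫ G.t) (h6 : r2 ≫ G.s = b2 ≫ G.t) :
    comp3 G (comp3 G a1 r1 b1 h1 h2) σ (comp3 G a2 r2 b2 h5 h6)
        ((comp3_s G a1 r1 b1 h1 h2).trans h3) (h4.trans (comp3_t G a2 r2 b2 h5 h6).symm) =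
      comp3 G a1 (comp3 G r1 (comp3 G b1 σ a2 h3 h4) r2
          (h2.trans (comp3_t G b1 σ a2 h3 h4).symm) ((comp3_s G b1 σ a2 h3 h4).trans h5)) b2
        (h1.trans (comp3_t G _ _ _ _ _).symm) ((comp3_s G _ _ _ _ _).trans h6) := by
  let A1 : (⟨a1 ≫ G.s⟩ : Pt G T) ⟶ ⟨a1 ≫ G.t⟩ := ⟨a1, rfl, rfl⟩
  let R1 : (⟨r1 ≫ G.s⟩ : Pt G T) ⟶ ⟨a1 ≫ G.s⟩ := ⟨r1, rfl, h1.symm⟩
  let B1 : (⟨b1 ≫ G.s⟩ : Pt G T) ⟶ ⟨r1 ≫ G.s⟩ := ⟨b1, rfl, h2.symm⟩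
  let Sg : (⟨σ ≫ G.s⟩ : Pt G T) ⟶ ⟨b1 ≫ G.s⟩ := ⟨σ, rfl, h3.symm⟩
  let A2 : (⟨a2 ≫ G.s⟩ : Pt G T) ⟶ ⟨σ ≫ G.s⟩ := ⟨a2, rfl, h4.symm⟩
  let R2 : (⟨r2 ≫ G.s⟩ : Pt G T) ⟶ ⟨a2 ≫ G.s⟩ := ⟨r2, rfl, h5.symm⟩
  let B2 : (⟨b2 ≫ G.s⟩ : Pt G T) ⟶ ⟨r2 ≫ G.s⟩ := ⟨b2, rfl, h6.symm⟩
  have : (B2 ≫ (R2 ≫ A2)) ≫ (Sg ≫ (B1 ≫ (R1 ≫ A1))) =
      B2 ≫ ((R2 ≫ ((A2 ≫ (Sg ≫ B1)) ≫ R1)) ≫ A1) := by
    simp only [Category.assoc]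
  exact congrArg Subtype.val this

end Groth.Agent.Lib.Helper20.HE
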