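import Mathlib
import Groth.Agent.Lib.Helper20.HE4
import Groth.Agent.Lib.Helper20.HE5

/-!
# Descending the groupoid structure to `(Ū, R̄)`: structure maps
-/

set_option autoImplicit false
set_option linter.style.haveILetI false
set_option linter.unusedSimpArgs false
set_option linter.unusedSectionVars false
universe u
open CategoryTheory CategoryTheory.Limits AlgebraicGeometry

namespace Groth.Agent.Lib.Helper20.HE

open Grpd Groth.Agent.Lib.Helper25.GrpdAlg Groth.Agent.Lib.Helper25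

/-- descent of morphisms along an fppf morphism with given kernel pair. -/
theorem exists_desc_of_isPullback {K X Y Z : Scheme.{u}} {a b : K ⟶ X} {f : X ⟶ Y} [Flat f]
    [Surjective f] [LocallyOfFinitePresentation f] (hpb : IsPullback a b f f) (g : X ⟶ Z)
    (hg : a ≫ g = b ≫ g) : ∃ h : Y ⟶ Z, f ≫ h = g := by
  have key : ∀ {Z' : Scheme.{u}} (g₁ g₂ : Z' ⟶ X), g₁ ≫ f = g₂ ≫ f → g₁ ≫ g = g₂ ≫ g := by
    intro Z' g₁ g₂ h12
    have e1 : hpb.lift g₁ g₂ h12 ≫ a = g₁ := hpb.lift_fst _ _ _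
    have e2 : hpb.lift g₁ g₂ h12 ≫ b = g₂ := hpb.lift_snd _ _ _
    calc g₁ ≫ g = hpb.lift g₁ g₂ h12 ≫ a ≫ g := by rw [← Category.assoc, e1]
      _ = hpb.lift g₁ g₂ h12 ≫ b ≫ g := by rw [hg]
      _ = g₂ ≫ g := by rw [← Category.assoc, e2]
  exact ⟨EffectiveEpi.desc f g key, EffectiveEpi.fac _ _ key⟩

variable {S : Scheme.{u}} (G : GroupoidScheme S) {P : Scheme.{u}} (ιP : P ⟶ G.R)

/-- quotient data: fppf quotient maps `p : U → Ū` and `q : R → R̄` with the expected kernel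
pairs. -/
structure QData where
  Ubar : Scheme.{u}
  p : G.U ⟶ Ubar
  Rbar : Scheme.{u}
  q : G.R ⟶ Rbar
  flat_p : Flat p
  surj_p : Surjective p
  lfp_p : LocallyOfFinitePresentation p
  flat_q : Flat q
  surj_q : Surjective q
  lfp_q : LocallyOfFinitePresentation q
  qc_q : QuasiCompact q
  hp : IsPullback (ιP ≫ G.t) (ιP ≫ G.s) p p
  hq : IsPullback (t' G ιP) (pr G ιP) q q

attribute [instance] QData.flat_p QData.surj_p QData.lfp_p QData.flat_q QData.surj_q QData.lfp_q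
  QData.qc_q

variable {G ιP} (D : QData G ιP) {T : Scheme.{u}}

instance epi_p : Epi D.p := Flat.epi_of_flat_of_surjective _
instance epi_q : Epi D.q := Flat.epi_of_flat_of_surjective _

theorem hp_w : ιP ≫ G.t ≫ D.p = ιP ≫ G.s ≫ D.p := by
  have := D.hp.w
  simpa only [Category.assoc] using this

theorem sbar_aux : t' G ιP ≫ (G.s ≫ D.p) = pr G ιP ≫ (G.s ≫ D.p) := by
  rw [← Category.assoc, t'_s, ← Category.assoc (pr G ιP), pr_pb]
  simp only [Category.assoc]
  rw [hp_w D]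

theorem tbar_aux : t' G ιP ≫ (G.t ≫ D.p) = pr G ιP ≫ (G.t ≫ D.p) := by
  rw [← Category.assoc, t'_t, ← Category.assoc (pr G ιP), ← pa_pr]
  simp only [Category.assoc]
  rw [hp_w D]

/-- the source map of the quotient groupoid. -/
noncomputable def sbar : D.Rbar ⟶ D.Ubar := (exists_desc_of_isPullback D.hq _ (sbar_aux D)).choose

theorem q_sbar : D.q ≫ sbar D = G.s ≫ D.p :=
  (exists_desc_of_isPullback D.hq _ (sbar_aux D)).choose_spec

/-- the target map of the quotient groupoid. -/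
noncomputable def tbar : D.Rbar ⟶ D.Ubar := (exists_desc_of_isPullback D.hq _ (tbar_aux D)).choose

theorem q_tbar : D.q ≫ tbar D = G.t ≫ D.p :=
  (exists_desc_of_isPullback D.hq _ (tbar_aux D)).choose_spec

theorem pUbar_aux : (ιP ≫ G.t) ≫ G.pU = (ιP ≫ G.s) ≫ G.pU := by
  rw [Category.assoc, Category.assoc, G.t_over, G.s_over]

/-- the structure map of `Ū`. -/
noncomputable def pUbar : D.Ubar ⟶ S := (exists_desc_of_isPullback D.hp _ pUbar_aux).choose

theorem p_pUbar : D.p ≫ pUbar D = G.pU :=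
  (exists_desc_of_isPullback D.hp _ pUbar_aux).choose_spec

theorem tbar_over : tbar D ≫ pUbar D = sbar D ≫ pUbar D := by
  rw [← cancel_epi D.q, ← Category.assoc, q_tbar, ← Category.assoc, q_sbar, Category.assoc,
    Category.assoc, p_pUbar, G.t_over, G.s_over]

variable [Mono ιP] (L : GrpdSub.Lifts G ιP)

/-- `π ↦ (π, e_{s π}, π⁻¹)`. -/
noncomputable def xe : P ⟶ R' G ιP :=
  mk (𝟙 P) (ιP ≫ G.s ≫ G.e) L.i'
    (by rw [Category.id_comp, Category.assoc, Category.assoc, G.e_t, Category.comp_id])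
    (by rw [Category.assoc, Category.assoc, G.e_s, Category.comp_id, ← Category.assoc, L.hi,
      Category.assoc, G.i_t])

theorem xe_pr : xe L ≫ pr G ιP = ιP ≫ G.s ≫ G.e := mk_pr _ _ _ _ _

theorem xe_t' : xe L ≫ t' G ιP = ιP ≫ G.t ≫ G.e := by
  unfold xe
  rw [mk_t']
  have h0 : ιP ≫ G.s = (ιP ≫ G.i) ≫ G.t := by rw [Category.assoc, G.i_t]
  refine (comp3_congr G (Category.id_comp ιP) rfl L.hi _ _ ?_ ?_).trans
    ((comp3_e_mid G ιP (ιP ≫ G.i) h0).trans (comp_i G ιP))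
  · rw [Category.assoc, Category.assoc, G.e_t, Category.comp_id]
  · rw [Category.assoc, Category.assoc, G.e_s, Category.comp_id, h0]

include L in
theorem ebar_aux : (ιP ≫ G.t) ≫ (G.e ≫ D.q) = (ιP ≫ G.s) ≫ (G.e ≫ D.q) := by
  calc (ιP ≫ G.t) ≫ (G.e ≫ D.q) = (xe L ≫ t' G ιP) ≫ D.q := by
        rw [xe_t']; simp only [Category.assoc]
    _ = (xe L ≫ pr G ιP) ≫ D.q := by rw [Category.assoc, D.hq.w, ← Category.assoc]
    _ = (ιP ≫ G.s) ≫ (G.e ≫ D.q) := by rw [xe_pr]; simp only [Category.assoc]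

/-- the identity of the quotient groupoid. -/
noncomputable def ebar : D.Ubar ⟶ D.Rbar :=
  (exists_desc_of_isPullback D.hp _ (ebar_aux D L)).choose

theorem p_ebar : D.p ≫ ebar D L = G.e ≫ D.q :=
  (exists_desc_of_isPullback D.hp _ (ebar_aux D L)).choose_spec

/-- `(a, r, b) ↦ (b⁻¹, r⁻¹, a⁻¹)`. -/
noncomputable def xi : R' G ιP ⟶ R' G ιP :=
  mk (pb G ιP ≫ L.i') (pr G ιP ≫ G.i) (pa G ιP ≫ L.i')
    (by rw [Category.assoc, ← Category.assoc L.i', L.hi, Category.assoc, G.i_s, Category.assoc,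
      G.i_t, pr_pb])
    (by rw [Category.assoc, G.i_s, Category.assoc, ← Category.assoc L.i', L.hi, Category.assoc,
      G.i_t, pa_pr])

theorem xi_pr : xi L ≫ pr G ιP = pr G ιP ≫ G.i := mk_pr _ _ _ _ _

theorem xi_t' : xi L ≫ t' G ιP = t' G ιP ≫ G.i := by
  unfold xi
  rw [mk_t']
  unfold t'
  rw [comp3_inv]
  exact comp3_congr G (by rw [Category.assoc, L.hi, Category.assoc]) rfl
    (by rw [Category.assoc, L.hi, Category.assoc]) _ _ _ _

include L in
theorem ibar_aux : t' G ιP ≫ (G.i ≫ D.q) = pr G ιP ≫ (G.i ≫ D.q) := by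
  calc t' G ιP ≫ (G.i ≫ D.q) = (xi L ≫ t' G ιP) ≫ D.q := by
        rw [xi_t']; simp only [Category.assoc]
    _ = (xi L ≫ pr G ιP) ≫ D.q := by rw [Category.assoc, D.hq.w, ← Category.assoc]
    _ = pr G ιP ≫ (G.i ≫ D.q) := by rw [xi_pr]; simp only [Category.assoc]

/-- the inverse of the quotient groupoid. -/
noncomputable def ibar : D.Rbar ⟶ D.Rbar :=
  (exists_desc_of_isPullback D.hq _ (ibar_aux D L)).choose

theorem q_ibar : D.q ≫ ibar D L = G.i ≫ D.q :=
  (exists_desc_of_isPullback D.hq _ (ibar_aux D L)).choose_spec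

end Groth.Agent.Lib.Helper20.HE
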