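import Mathlib
import Groth.Agent.Lib.Helper20.HE6

/-!
# Descending the groupoid structure to `(Ū, R̄)`: the composition
-/

set_option autoImplicit false
set_option linter.style.haveILetI false
set_option linter.unusedSimpArgs false
set_option linter.unusedSectionVars false
universe u
open CategoryTheory CategoryTheory.Limits AlgebraicGeometry

namespace Groth.Agent.Lib.Helper20.HE

open Grpd Groth.Agent.Lib.Helper25.GrpdAlg Groth.Agent.Lib.Helper25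

variable {S : Scheme.{u}} {G : GroupoidScheme S} {P : Scheme.{u}} {ιP : P ⟶ G.R}
  (D : QData G ιP) {T : Scheme.{u}}

/-- pairs of arrows composable modulo `P`. -/
noncomputable abbrev RR : Scheme.{u} := pullback (G.s ≫ D.p) (G.t ≫ D.p)

/-- `R ×_Ū R → R̄ ×_Ū R̄`. -/
noncomputable def m : RR D ⟶ pullback (sbar D) (tbar D) :=
  pullback.map (G.s ≫ D.p) (G.t ≫ D.p) (sbar D) (tbar D) D.q D.q (𝟙 _)
    ((Category.comp_id _).trans (q_sbar D).symm) ((Category.comp_id _).trans (q_tbar D).symm)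

set_option backward.isDefEq.respectTransparency.types false in
instance flat_m : Flat (m D) :=
  MorphismProperty.pullbackMap (P := @Flat) D.flat_q D.flat_q (q_sbar D).symm (q_tbar D).symm

set_option backward.isDefEq.respectTransparency.types false in
instance surj_m : Surjective (m D) :=
  MorphismProperty.pullbackMap (P := @Surjective) D.surj_q D.surj_q (q_sbar D).symm
    (q_tbar D).symm

set_option backward.isDefEq.respectTransparency.types false in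
instance lfp_m : LocallyOfFinitePresentation (m D) :=
  MorphismProperty.pullbackMap (P := @LocallyOfFinitePresentation) D.lfp_q D.lfp_q
    (q_sbar D).symm (q_tbar D).symm

theorem m_fst : m D ≫ pullback.fst (sbar D) (tbar D) =
    pullback.fst (G.s ≫ D.p) (G.t ≫ D.p) ≫ D.q := by
  unfold m; rw [pullback.lift_fst]

theorem m_snd : m D ≫ pullback.snd (sbar D) (tbar D) =
    pullback.snd (G.s ≫ D.p) (G.t ≫ D.p) ≫ D.q := by
  unfold m; rw [pullback.lift_snd]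

/-- the connecting element of `P` from the target of the second arrow to the source of the
first. -/
noncomputable def σu : RR D ⟶ P :=
  D.hp.lift (pullback.fst (G.s ≫ D.p) (G.t ≫ D.p) ≫ G.s)
    (pullback.snd (G.s ≫ D.p) (G.t ≫ D.p) ≫ G.t)
    (by simpa only [Category.assoc] using pullback.condition)

theorem σu_t : σu D ≫ ιP ≫ G.t = pullback.fst (G.s ≫ D.p) (G.t ≫ D.p) ≫ G.s :=
  D.hp.lift_fst _ _ _

theorem σu_s : σu D ≫ ιP ≫ G.s = pullback.snd (G.s ≫ D.p) (G.t ≫ D.p) ≫ G.t :=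
  D.hp.lift_snd _ _ _

/-- `(r₁, r₂) ↦ q (r₁ σ r₂)`. -/
noncomputable def fc : RR D ⟶ D.Rbar :=
  comp3 G (pullback.fst (G.s ≫ D.p) (G.t ≫ D.p)) (σu D ≫ ιP)
    (pullback.snd (G.s ≫ D.p) (G.t ≫ D.p))
    (by rw [Category.assoc, σu_t]) (by rw [Category.assoc, σu_s]) ≫ D.q

variable [Mono (ιP ≫ G.j)]

theorem pt_fc (α β : T ⟶ G.R) (σ : T ⟶ P) (h1 : α ≫ G.s = σ ≫ ιP ≫ G.t)
    (h2 : σ ≫ ιP ≫ G.s = β ≫ G.t) (h : α ≫ G.s ≫ D.p = β ≫ G.t ≫ D.p) :
    pullback.lift α β h ≫ fc D =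
      comp3 G α (σ ≫ ιP) β (by rw [Category.assoc]; exact h1)
        (by rw [Category.assoc]; exact h2) ≫ D.q := by
  unfold fc
  rw [← Category.assoc, precomp3]
  congr 1
  refine comp3_congr G (pullback.lift_fst _ _ _) ?_ (pullback.lift_snd _ _ _) _ _ _ _
  rw [← Category.assoc]
  congr 1
  apply P_jointly_monic (G := G) (ιP := ιP)
  · rw [Category.assoc, σu_t, pullback.lift_fst_assoc, h1]
  · rw [Category.assoc, σu_s, pullback.lift_snd_assoc, h2]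

variable [Mono ιP] (L : GrpdSub.Lifts G ιP)

include L in
theorem fc_compat {Z : Scheme.{u}} (g1 g2 : Z ⟶ RR D) (h : g1 ≫ m D = g2 ≫ m D) :
    g1 ≫ fc D = g2 ≫ fc D := by
  -- components
  obtain ⟨r1, hr1⟩ : ∃ r1 : Z ⟶ G.R, r1 = g1 ≫ pullback.fst _ _ := ⟨_, rfl⟩
  obtain ⟨r2, hr2⟩ : ∃ r2 : Z ⟶ G.R, r2 = g1 ≫ pullback.snd _ _ := ⟨_, rfl⟩
  obtain ⟨r1', hr1'⟩ : ∃ r1' : Z ⟶ G.R, r1' = g2 ≫ pullback.fst _ _ := ⟨_, rfl⟩
  obtain ⟨r2', hr2'⟩ : ∃ r2' : Z ⟶ G.R, r2' = g2 ≫ pullback.snd _ _ := ⟨_, rfl⟩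
  have hc1 : r1 ≫ G.s ≫ D.p = r2 ≫ G.t ≫ D.p := by
    rw [hr1, hr2, Category.assoc, Category.assoc, pullback.condition]
  have hc2 : r1' ≫ G.s ≫ D.p = r2' ≫ G.t ≫ D.p := by
    rw [hr1', hr2', Category.assoc, Category.assoc, pullback.condition]
  have hg1 : g1 = pullback.lift r1 r2 hc1 := by
    apply pullback.hom_ext
    · rw [pullback.lift_fst, hr1]
    · rw [pullback.lift_snd, hr2]
  have hg2 : g2 = pullback.lift r1' r2' hc2 := by
    apply pullback.hom_ext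
    · rw [pullback.lift_fst, hr1']
    · rw [pullback.lift_snd, hr2']
  have hq1 : r1' ≫ D.q = r1 ≫ D.q := by
    have := congrArg (· ≫ pullback.fst (sbar D) (tbar D)) h
    simp only [Category.assoc, m_fst] at this
    rw [hr1, hr1', Category.assoc, Category.assoc, this]
  have hq2 : r2' ≫ D.q = r2 ≫ D.q := by
    have := congrArg (· ≫ pullback.snd (sbar D) (tbar D)) h
    simp only [Category.assoc, m_snd] at this
    rw [hr2, hr2', Category.assoc, Category.assoc, this]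
  -- the elements of R' relating them
  obtain ⟨x1, hx1⟩ : ∃ x1 : Z ⟶ R' G ιP, x1 = D.hq.lift r1' r1 hq1 := ⟨_, rfl⟩
  obtain ⟨x2, hx2⟩ : ∃ x2 : Z ⟶ R' G ιP, x2 = D.hq.lift r2' r2 hq2 := ⟨_, rfl⟩
  have hx1t : x1 ≫ t' G ιP = r1' := by rw [hx1]; exact D.hq.lift_fst _ _ _
  have hx1r : x1 ≫ pr G ιP = r1 := by rw [hx1]; exact D.hq.lift_snd _ _ _
  have hx2t : x2 ≫ t' G ιP = r2' := by rw [hx2]; exact D.hq.lift_fst _ _ _
  have hx2r : x2 ≫ pr G ιP = r2 := by rw [hx2]; exact D.hq.lift_snd _ _ _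
  -- connecting elements
  obtain ⟨σ1, hσ1⟩ : ∃ σ1 : Z ⟶ P, σ1 = g1 ≫ σu D := ⟨_, rfl⟩
  obtain ⟨σ2, hσ2⟩ : ∃ σ2 : Z ⟶ P, σ2 = g2 ≫ σu D := ⟨_, rfl⟩
  have hσ1t : σ1 ≫ ιP ≫ G.t = r1 ≫ G.s := by rw [hσ1, Category.assoc, σu_t, hr1, Category.assoc]
  have hσ1s : σ1 ≫ ιP ≫ G.s = r2 ≫ G.t := by rw [hσ1, Category.assoc, σu_s, hr2, Category.assoc]
  have hσ2t : σ2 ≫ ιP ≫ G.t = r1' ≫ G.s := by
    rw [hσ2, Category.assoc, σu_t, hr1', Category.assoc]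
  have hσ2s : σ2 ≫ ιP ≫ G.s = r2' ≫ G.t := by
    rw [hσ2, Category.assoc, σu_s, hr2', Category.assoc]
  rw [hg1, hg2, pt_fc D r1 r2 σ1 hσ1t.symm hσ1s hc1, pt_fc D r1' r2' σ2 hσ2t.symm hσ2s hc2]
  -- σ1 = b1 σ2 a2
  have hA : (x1 ≫ pb G ιP) ≫ ιP ≫ G.s = σ2 ≫ ιP ≫ G.t := by
    rw [hσ2t, ← hx1t, Category.assoc, Category.assoc, t'_s]
  have hB : cP L (x1 ≫ pb G ιP) σ2 hA ≫ ιP ≫ G.s = (x2 ≫ pa G ιP) ≫ ιP ≫ G.t := by
    rw [← Category.assoc, cP_ι, comp_s, Category.assoc, hσ2s, ← hx2t, Category.assoc,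
      Category.assoc, t'_t]
  have hσ3 : cP L (cP L (x1 ≫ pb G ιP) σ2 hA) (x2 ≫ pa G ιP) hB = σ1 := by
    apply P_jointly_monic (G := G) (ιP := ιP)
    · rw [← Category.assoc, cP_ι, comp_t, cP_ι, comp_t, hσ1t, ← hx1r]
      exact (pt_pr_pb x1).symm
    · rw [← Category.assoc, cP_ι, comp_s, hσ1s, ← hx2r]
      exact pt_pa_pr x2
  have h3 : (x1 ≫ pb G ιP) ≫ ιP ≫ G.s = (σ2 ≫ ιP) ≫ G.t := by
    rw [Category.assoc]; exact hA
  have h4 : (σ2 ≫ ιP) ≫ G.s = ((x2 ≫ pa G ιP) ≫ ιP) ≫ G.t := by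
    rw [Category.assoc, hσ2s, ← hx2t, Category.assoc, Category.assoc, Category.assoc, t'_t]
  have hσ3' : σ1 ≫ ιP = comp3 G ((x1 ≫ pb G ιP) ≫ ιP) (σ2 ≫ ιP) ((x2 ≫ pa G ιP) ≫ ιP)
      (by rw [Category.assoc]; exact h3) h4 := by
    rw [← hσ3, cP_ι]
    unfold comp3
    exact comp_congr G (cP_ι L _ _ _) rfl _ _
  -- the element of R' relating the two composites
  have hy1 : (x1 ≫ pa G ιP) ≫ ιP ≫ G.s =
      comp3 G r1 (σ1 ≫ ιP) r2 (by rw [Category.assoc]; exact hσ1t.symm)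
        (by rw [Category.assoc]; exact hσ1s) ≫ G.t := by
    rw [comp3_t, ← hx1r]
    simpa only [Category.assoc] using pt_pa_pr x1
  have hy2 : comp3 G r1 (σ1 ≫ ιP) r2 (by rw [Category.assoc]; exact hσ1t.symm)
        (by rw [Category.assoc]; exact hσ1s) ≫ G.s = (x2 ≫ pb G ιP) ≫ ιP ≫ G.t := by
    rw [comp3_s, ← hx2r]
    simpa only [Category.assoc] using pt_pr_pb x2
  obtain ⟨y, hy⟩ : ∃ y : Z ⟶ R' G ιP, y = mk (x1 ≫ pa G ιP) _ (x2 ≫ pb G ιP) hy1 hy2 := ⟨_, rfl⟩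
  have hypr : y ≫ pr G ιP = comp3 G r1 (σ1 ≫ ιP) r2 (by rw [Category.assoc]; exact hσ1t.symm)
        (by rw [Category.assoc]; exact hσ1s) := by rw [hy]; exact mk_pr _ _ _ _ _
  have hyt : y ≫ t' G ιP =
      comp3 G r1' (σ2 ≫ ιP) r2' (by rw [Category.assoc]; exact hσ2t.symm)
        (by rw [Category.assoc]; exact hσ2s) := by
    rw [hy, mk_t']
    have e7 := assoc7 (G := G) ((x1 ≫ pa G ιP) ≫ ιP) (x1 ≫ pr G ιP) ((x1 ≫ pb G ιP) ≫ ιP)
      (σ2 ≫ ιP) ((x2 ≫ pa G ιP) ≫ ιP) (x2 ≫ pr G ιP) ((x2 ≫ pb G ιP) ≫ ιP)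
      (pt_pa_pr x1) (pt_pr_pb x1) (by rw [Category.assoc]; exact h3) h4 (pt_pa_pr x2)
      (pt_pr_pb x2)
    refine Eq.trans ?_ (e7.symm.trans ?_)
    · refine comp3_congr G rfl ?_ rfl _ _ _ _
      exact comp3_congr G hx1r.symm hσ3' hx2r.symm _ _ _ _
    · refine comp3_congr G ?_ rfl ?_ _ _ _ _
      · rw [← pt_t', hx1t]
      · rw [← pt_t', hx2t]
  rw [← hyt, ← hypr, Category.assoc, Category.assoc, D.hq.w]

/-- the composition of the quotient groupoid. -/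
noncomputable def cbar : pullback (sbar D) (tbar D) ⟶ D.Rbar :=
  EffectiveEpi.desc (m D) (fc D) (fun g1 g2 h => fc_compat D L g1 g2 h)

theorem m_cbar : m D ≫ cbar D L = fc D := EffectiveEpi.fac _ _ _

theorem cbar_spec (α β : T ⟶ G.R) (σ : T ⟶ P) (h1 : α ≫ G.s = σ ≫ ιP ≫ G.t)
    (h2 : σ ≫ ιP ≫ G.s = β ≫ G.t) (h : (α ≫ D.q) ≫ sbar D = (β ≫ D.q) ≫ tbar D) :
    pullback.lift (α ≫ D.q) (β ≫ D.q) h ≫ cbar D L =
      comp3 G α (σ ≫ ιP) β (by rw [Category.assoc]; exact h1)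
        (by rw [Category.assoc]; exact h2) ≫ D.q := by
  have h' : α ≫ G.s ≫ D.p = β ≫ G.t ≫ D.p := by
    rw [← q_sbar, ← q_tbar]
    simpa only [Category.assoc] using h
  have e : pullback.lift (α ≫ D.q) (β ≫ D.q) h = pullback.lift α β h' ≫ m D := by
    apply pullback.hom_ext
    · rw [pullback.lift_fst, Category.assoc, m_fst, pullback.lift_fst_assoc]
    · rw [pullback.lift_snd, Category.assoc, m_snd, pullback.lift_snd_assoc]
  rw [e, Category.assoc, m_cbar, pt_fc D α β σ h1 h2 h']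

end Groth.Agent.Lib.Helper20.HE
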