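import Mathlib
import Groth.Agent.Lib.Helper20.HE7

/-!
# The quotient groupoid `(Ū, R̄)` and the morphism `G → H`
-/

set_option autoImplicit false
set_option linter.style.haveILetI false
set_option linter.unusedSimpArgs false
set_option linter.unusedSectionVars false
universe u
open CategoryTheory CategoryTheory.Limits AlgebraicGeometry

namespace Groth.Agent.Lib.Helper20.HE

open Grpd Groth.Agent.Lib.Helper25.GrpdAlg Groth.Agent.Lib.Helper25

variable {S : Scheme.{u}} {G : GroupoidScheme S} {P : Scheme.{u}} {ιP : P ⟶ G.R}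
  (D : QData G ιP) {T : Scheme.{u}}

theorem exists_sigma (α β : T ⟶ G.R) (h : (α ≫ D.q) ≫ sbar D = (β ≫ D.q) ≫ tbar D) :
    ∃ σ : T ⟶ P, α ≫ G.s = σ ≫ ιP ≫ G.t ∧ σ ≫ ιP ≫ G.s = β ≫ G.t := by
  have h' : (α ≫ G.s) ≫ D.p = (β ≫ G.t) ≫ D.p := by
    simpa only [Category.assoc, q_sbar, q_tbar] using h
  exact ⟨D.hp.lift _ _ h', (D.hp.lift_fst _ _ _).symm, D.hp.lift_snd _ _ _⟩

theorem exists_lift1 (a : T ⟶ D.Rbar) : ∃ (T' : Scheme.{u}) (e : T' ⟶ T) (α : T' ⟶ G.R),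
    Epi e ∧ α ≫ D.q = e ≫ a :=
  ⟨pullback a D.q, pullback.fst _ _, pullback.snd _ _, Flat.epi_of_flat_of_surjective _,
    pullback.condition.symm⟩

theorem exists_lift2 (a b : T ⟶ D.Rbar) : ∃ (T' : Scheme.{u}) (e : T' ⟶ T) (α β : T' ⟶ G.R),
    Epi e ∧ α ≫ D.q = e ≫ a ∧ β ≫ D.q = e ≫ b := by
  obtain ⟨T1, e1, α, he1, hα⟩ := exists_lift1 D a
  obtain ⟨T2, e2, β, he2, hβ⟩ := exists_lift1 D (e1 ≫ b)
  refine ⟨T2, e2 ≫ e1, e2 ≫ α, β, epi_comp _ _, ?_, ?_⟩
  · rw [Category.assoc, hα, Category.assoc]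
  · rw [hβ, Category.assoc]

theorem exists_lift3 (a b c : T ⟶ D.Rbar) :
    ∃ (T' : Scheme.{u}) (e : T' ⟶ T) (α β γ : T' ⟶ G.R),
    Epi e ∧ α ≫ D.q = e ≫ a ∧ β ≫ D.q = e ≫ b ∧ γ ≫ D.q = e ≫ c := by
  obtain ⟨T1, e1, α, β, he1, hα, hβ⟩ := exists_lift2 D a b
  obtain ⟨T2, e2, γ, he2, hγ⟩ := exists_lift1 D (e1 ≫ c)
  refine ⟨T2, e2 ≫ e1, e2 ≫ α, e2 ≫ β, γ, epi_comp _ _, ?_, ?_, ?_⟩
  · rw [Category.assoc, hα, Category.assoc]
  · rw [Category.assoc, hβ, Category.assoc]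
  · rw [hγ, Category.assoc]

variable [Mono (ιP ≫ G.j)] [Mono ιP] (L : GrpdSub.Lifts G ιP)

theorem compH_eq (a b : T ⟶ D.Rbar) (h : a ≫ sbar D = b ≫ tbar D) {T' : Scheme.{u}}
    (e : T' ⟶ T) (α β : T' ⟶ G.R) (hα : α ≫ D.q = e ≫ a) (hβ : β ≫ D.q = e ≫ b) (σ : T' ⟶ P)
    (h1 : α ≫ G.s = σ ≫ ιP ≫ G.t) (h2 : σ ≫ ιP ≫ G.s = β ≫ G.t) :
    e ≫ pullback.lift a b h ≫ cbar D L =
      comp3 G α (σ ≫ ιP) β (by rw [Category.assoc]; exact h1)
        (by rw [Category.assoc]; exact h2) ≫ D.q := by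
  have h' : (α ≫ D.q) ≫ sbar D = (β ≫ D.q) ≫ tbar D := by
    rw [hα, hβ, Category.assoc, Category.assoc, h]
  rw [← cbar_spec D L α β σ h1 h2 h', ← Category.assoc]
  congr 1
  apply pullback.hom_ext
  · rw [Category.assoc, pullback.lift_fst, pullback.lift_fst, hα]
  · rw [Category.assoc, pullback.lift_snd, pullback.lift_snd, hβ]

theorem ax_comp_s (a b : T ⟶ D.Rbar) (h : a ≫ sbar D = b ≫ tbar D) :
    (pullback.lift a b h ≫ cbar D L) ≫ sbar D = b ≫ sbar D := by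
  obtain ⟨T', e, α, β, he, hα, hβ⟩ := exists_lift2 D a b
  have h' : (α ≫ D.q) ≫ sbar D = (β ≫ D.q) ≫ tbar D := by
    rw [hα, hβ, Category.assoc, Category.assoc, h]
  obtain ⟨σ, h1, h2⟩ := exists_sigma D α β h'
  rw [← cancel_epi e, ← Category.assoc, compH_eq D L a b h e α β hα hβ σ h1 h2, Category.assoc,
    q_sbar, ← Category.assoc, comp3_s, ← Category.assoc e, ← hβ]
  simp only [Category.assoc, q_sbar]

theorem ax_comp_t (a b : T ⟶ D.Rbar) (h : a ≫ sbar D = b ≫ tbar D) :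
    (pullback.lift a b h ≫ cbar D L) ≫ tbar D = a ≫ tbar D := by
  obtain ⟨T', e, α, β, he, hα, hβ⟩ := exists_lift2 D a b
  have h' : (α ≫ D.q) ≫ sbar D = (β ≫ D.q) ≫ tbar D := by
    rw [hα, hβ, Category.assoc, Category.assoc, h]
  obtain ⟨σ, h1, h2⟩ := exists_sigma D α β h'
  rw [← cancel_epi e, ← Category.assoc, compH_eq D L a b h e α β hα hβ σ h1 h2, Category.assoc,
    q_tbar, ← Category.assoc, comp3_t, ← Category.assoc e, ← hα]
  simp only [Category.assoc, q_tbar]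

theorem ax_assoc (a b c : T ⟶ D.Rbar) (h₁ : a ≫ sbar D = b ≫ tbar D)
    (h₂ : b ≫ sbar D = c ≫ tbar D) :
    pullback.lift (pullback.lift a b h₁ ≫ cbar D L) c ((ax_comp_s D L a b h₁).trans h₂) ≫
        cbar D L =
      pullback.lift a (pullback.lift b c h₂ ≫ cbar D L)
        (h₁.trans (ax_comp_t D L b c h₂).symm) ≫ cbar D L := by
  obtain ⟨T', e, α, β, γ, he, hα, hβ, hγ⟩ := exists_lift3 D a b c
  have h₁' : (α ≫ D.q) ≫ sbar D = (β ≫ D.q) ≫ tbar D := by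
    rw [hα, hβ, Category.assoc, Category.assoc, h₁]
  have h₂' : (β ≫ D.q) ≫ sbar D = (γ ≫ D.q) ≫ tbar D := by
    rw [hβ, hγ, Category.assoc, Category.assoc, h₂]
  obtain ⟨σ1, h11, h12⟩ := exists_sigma D α β h₁'
  obtain ⟨σ2, h21, h22⟩ := exists_sigma D β γ h₂'
  have hab := compH_eq D L a b h₁ e α β hα hβ σ1 h11 h12
  have hbc := compH_eq D L b c h₂ e β γ hβ hγ σ2 h21 h22
  have e1 := compH_eq D L (pullback.lift a b h₁ ≫ cbar D L) c ((ax_comp_s D L a b h₁).trans h₂) e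
    _ γ hab.symm hγ σ2 ((comp3_s G _ _ _ _ _).trans h21) h22
  have e2 := compH_eq D L a (pullback.lift b c h₂ ≫ cbar D L)
    (h₁.trans (ax_comp_t D L b c h₂).symm) e
    α _ hα hbc.symm σ1 h11 (h12.trans (comp3_t G _ _ _ _ _).symm)
  rw [← cancel_epi e, e1, e2]
  congr 1
  exact assoc5 α (σ1 ≫ ιP) β (σ2 ≫ ιP) γ _ _ _ _

theorem ax_e_s : ebar D L ≫ sbar D = 𝟙 D.Ubar := by
  rw [← cancel_epi D.p, ← Category.assoc, p_ebar, Category.assoc, q_sbar, ← Category.assoc,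
    G.e_s, Category.id_comp, Category.comp_id]

theorem ax_e_t : ebar D L ≫ tbar D = 𝟙 D.Ubar := by
  rw [← cancel_epi D.p, ← Category.assoc, p_ebar, Category.assoc, q_tbar, ← Category.assoc,
    G.e_t, Category.id_comp, Category.comp_id]

theorem ax_i_s : ibar D L ≫ sbar D = tbar D := by
  rw [← cancel_epi D.q, ← Category.assoc, q_ibar, Category.assoc, q_sbar, ← Category.assoc,
    G.i_s, q_tbar]

theorem ax_i_t : ibar D L ≫ tbar D = sbar D := by
  rw [← cancel_epi D.q, ← Category.assoc, q_ibar, Category.assoc, q_tbar, ← Category.assoc,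
    G.i_t, q_sbar]

theorem ax_comp_e (a : T ⟶ D.Rbar) :
    pullback.lift a (a ≫ sbar D ≫ ebar D L)
      (by rw [Category.assoc, Category.assoc, ax_e_t, Category.comp_id]) ≫ cbar D L = a := by
  obtain ⟨T', e, α, he, hα⟩ := exists_lift1 D a
  have hβ : (α ≫ G.s ≫ G.e) ≫ D.q = e ≫ a ≫ sbar D ≫ ebar D L := by
    rw [← Category.assoc e, ← hα]
    simp only [Category.assoc]
    rw [← p_ebar D L, ← Category.assoc G.s, ← q_sbar]
    simp only [Category.assoc]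
  have h1 : α ≫ G.s = (α ≫ G.s ≫ L.e') ≫ ιP ≫ G.t := by
    simp only [Category.assoc]
    rw [← Category.assoc L.e', L.he, G.e_t, Category.comp_id]
  have h2 : (α ≫ G.s ≫ L.e') ≫ ιP ≫ G.s = (α ≫ G.s ≫ G.e) ≫ G.t := by
    simp only [Category.assoc]
    rw [← Category.assoc L.e', L.he, G.e_s, G.e_t]
  rw [← cancel_epi e, compH_eq D L a _ _ e α _ hα hβ (α ≫ G.s ≫ L.e') h1 h2, ← hα]
  congr 1
  unfold comp3
  have e1 : comp G α ((α ≫ G.s ≫ L.e') ≫ ιP) (by rw [Category.assoc]; exact h1) = α := by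
    refine (comp_congr G rfl ?_ _ ?_).trans (comp_e G α)
    · simp only [Category.assoc, L.he]
    · rw [Category.assoc, Category.assoc, G.e_t, Category.comp_id]
  refine (comp_congr G e1 rfl _ ?_).trans (comp_e G α)
  rw [Category.assoc, Category.assoc, G.e_t, Category.comp_id]

theorem ax_e_comp (a : T ⟶ D.Rbar) :
    pullback.lift (a ≫ tbar D ≫ ebar D L) a
      (by rw [Category.assoc, Category.assoc, ax_e_s, Category.comp_id]) ≫ cbar D L = a := by
  obtain ⟨T', e, α, he, hα⟩ := exists_lift1 D a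
  have hβ : (α ≫ G.t ≫ G.e) ≫ D.q = e ≫ a ≫ tbar D ≫ ebar D L := by
    rw [← Category.assoc e, ← hα]
    simp only [Category.assoc]
    rw [← p_ebar D L, ← Category.assoc G.t, ← q_tbar]
    simp only [Category.assoc]
  have h1 : (α ≫ G.t ≫ G.e) ≫ G.s = (α ≫ G.t ≫ L.e') ≫ ιP ≫ G.t := by
    simp only [Category.assoc]
    rw [← Category.assoc L.e', L.he, G.e_t, G.e_s]
  have h2 : (α ≫ G.t ≫ L.e') ≫ ιP ≫ G.s = α ≫ G.t := by
    simp only [Category.assoc]
    rw [← Category.assoc L.e', L.he, G.e_s, Category.comp_id]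
  rw [← cancel_epi e, compH_eq D L _ a _ e _ α hβ hα (α ≫ G.t ≫ L.e') h1 h2, ← hα]
  congr 1
  unfold comp3
  have e1 : comp G (α ≫ G.t ≫ G.e) ((α ≫ G.t ≫ L.e') ≫ ιP) (by rw [Category.assoc]; exact h1) =
      α ≫ G.t ≫ G.e := by
    refine (comp_congr G rfl ?_ _ ?_).trans (comp_e G (α ≫ G.t ≫ G.e))
    · simp only [Category.assoc, L.he]
      rw [← Category.assoc G.e G.s, G.e_s, Category.id_comp]
    · simp only [Category.assoc, G.e_t, Category.comp_id]
  refine (comp_congr G e1 rfl _ ?_).trans (e_comp G α)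
  rw [Category.assoc, Category.assoc, G.e_s, Category.comp_id]

theorem ax_comp_i (a : T ⟶ D.Rbar) :
    pullback.lift a (a ≫ ibar D L) (by rw [Category.assoc, ax_i_t]) ≫ cbar D L =
      a ≫ tbar D ≫ ebar D L := by
  obtain ⟨T', e, α, he, hα⟩ := exists_lift1 D a
  have hβ : (α ≫ G.i) ≫ D.q = e ≫ a ≫ ibar D L := by
    rw [← Category.assoc e, ← hα, Category.assoc, Category.assoc, q_ibar]
  have h1 : α ≫ G.s = (α ≫ G.s ≫ L.e') ≫ ιP ≫ G.t := by
    simp only [Category.assoc]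
    rw [← Category.assoc L.e', L.he, G.e_t, Category.comp_id]
  have h2 : (α ≫ G.s ≫ L.e') ≫ ιP ≫ G.s = (α ≫ G.i) ≫ G.t := by
    simp only [Category.assoc]
    rw [← Category.assoc L.e', L.he, G.e_s, G.i_t, Category.comp_id]
  rw [← cancel_epi e, compH_eq D L a _ _ e α _ hα hβ (α ≫ G.s ≫ L.e') h1 h2]
  have e0 : e ≫ a ≫ tbar D ≫ ebar D L = (α ≫ G.t ≫ G.e) ≫ D.q := by
    rw [← Category.assoc e, ← hα]
    simp only [Category.assoc]
    rw [← p_ebar D L, ← Category.assoc G.t, ← q_tbar]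
    simp only [Category.assoc]
  rw [e0]
  congr 1
  unfold comp3
  have e1 : comp G α ((α ≫ G.s ≫ L.e') ≫ ιP) (by rw [Category.assoc]; exact h1) = α := by
    refine (comp_congr G rfl ?_ _ ?_).trans (comp_e G α)
    · simp only [Category.assoc, L.he]
    · rw [Category.assoc, Category.assoc, G.e_t, Category.comp_id]
  refine (comp_congr G e1 rfl _ ?_).trans (comp_i G α)
  rw [Category.assoc, G.i_t]

theorem ax_i_comp (a : T ⟶ D.Rbar) :
    pullback.lift (a ≫ ibar D L) a (by rw [Category.assoc, ax_i_s]) ≫ cbar D L =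
      a ≫ sbar D ≫ ebar D L := by
  obtain ⟨T', e, α, he, hα⟩ := exists_lift1 D a
  have hβ : (α ≫ G.i) ≫ D.q = e ≫ a ≫ ibar D L := by
    rw [← Category.assoc e, ← hα, Category.assoc, Category.assoc, q_ibar]
  have h1 : (α ≫ G.i) ≫ G.s = (α ≫ G.t ≫ L.e') ≫ ιP ≫ G.t := by
    simp only [Category.assoc]
    rw [← Category.assoc L.e', L.he, G.e_t, G.i_s, Category.comp_id]
  have h2 : (α ≫ G.t ≫ L.e') ≫ ιP ≫ G.s = α ≫ G.t := by
    simp only [Category.assoc]
    rw [← Category.assoc L.e', L.he, G.e_s, Category.comp_id]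
  rw [← cancel_epi e, compH_eq D L _ a _ e _ α hβ hα (α ≫ G.t ≫ L.e') h1 h2]
  have e0 : e ≫ a ≫ sbar D ≫ ebar D L = (α ≫ G.s ≫ G.e) ≫ D.q := by
    rw [← Category.assoc e, ← hα]
    simp only [Category.assoc]
    rw [← p_ebar D L, ← Category.assoc G.s, ← q_sbar]
    simp only [Category.assoc]
  rw [e0]
  congr 1
  unfold comp3
  have e1 : comp G (α ≫ G.i) ((α ≫ G.t ≫ L.e') ≫ ιP) (by rw [Category.assoc]; exact h1) =
      α ≫ G.i := by
    refine (comp_congr G rfl ?_ _ ?_).trans (comp_e G (α ≫ G.i))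
    · simp only [Category.assoc, L.he]
      rw [← Category.assoc G.i, G.i_s]
    · simp only [Category.assoc, G.e_t, Category.comp_id]
  refine (comp_congr G e1 rfl _ ?_).trans (i_comp G α)
  rw [Category.assoc, G.i_s]

/-- The quotient groupoid `(Ū, R̄, s̄, t̄, c̄)`. -/
noncomputable def Hbar : GroupoidScheme S where
  U := D.Ubar
  R := D.Rbar
  pU := pUbar D
  pR := sbar D ≫ pUbar D
  s := sbar D
  t := tbar D
  e := ebar D L
  i := ibar D L
  c := cbar D L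
  s_over := rfl
  t_over := tbar_over D
  comp_s := ax_comp_s D L
  comp_t := ax_comp_t D L
  assoc := ax_assoc D L
  e_s := ax_e_s D L
  e_t := ax_e_t D L
  comp_e := ax_comp_e D L
  e_comp := ax_e_comp D L
  i_s := ax_i_s D L
  i_t := ax_i_t D L
  comp_i := ax_comp_i D L
  i_comp := ax_i_comp D L

theorem φ_comm_c (α β : T ⟶ G.R) (h : α ≫ G.s = β ≫ G.t) :
    (pullback.lift α β h ≫ G.c) ≫ D.q =
      pullback.lift (α ≫ D.q) (β ≫ D.q)
        (by rw [Category.assoc, Category.assoc, q_sbar, q_tbar, ← Category.assoc,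
          ← Category.assoc, h]) ≫ cbar D L := by
  have h1 : α ≫ G.s = (α ≫ G.s ≫ L.e') ≫ ιP ≫ G.t := by
    simp only [Category.assoc]
    rw [← Category.assoc L.e', L.he, G.e_t, Category.comp_id]
  have h2 : (α ≫ G.s ≫ L.e') ≫ ιP ≫ G.s = β ≫ G.t := by
    simp only [Category.assoc]
    rw [← Category.assoc L.e', L.he, G.e_s, Category.comp_id, h]
  rw [cbar_spec D L α β (α ≫ G.s ≫ L.e') h1 h2]
  congr 1
  have e3 := comp3_e_mid G α β h
  refine e3.symm.trans (comp3_congr G rfl ?_ rfl _ _ _ _)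
  simp only [Category.assoc, L.he]

/-- The morphism of groupoids `G → H`. -/
noncomputable def φ : GroupoidScheme.Hom G (Hbar D L) where
  fU := D.p
  fR := D.q
  fU_over := p_pUbar D
  comm_s := q_sbar D
  comm_t := q_tbar D
  comm_c := fun α β h => φ_comm_c D L α β h

end Groth.Agent.Lib.Helper20.HE
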