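import Mathlib
import Groth.Agent.Lib.Helper20.HE8

/-!
# `R` is the restriction of `R̄` along `U → Ū`
-/

set_option autoImplicit false
set_option linter.style.haveILetI false
set_option linter.unusedSimpArgs false
set_option linter.unusedSectionVars false
universe u
open CategoryTheory CategoryTheory.Limits AlgebraicGeometry

namespace Groth.Agent.Lib.Helper20.HE

open Grpd Groth.Agent.Lib.Helper25.GrpdAlg Groth.Agent.Lib.Helper25

variable {S : Scheme.{u}} {G : GroupoidScheme S} {P : Scheme.{u}} {ιP : P ⟶ G.R}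
  (D : QData G ιP) {T : Scheme.{u}}

/-- `p × p : U ×_S U → Ū ×_S Ū`. -/
noncomputable def pp : pullback G.pU G.pU ⟶ pullback (pUbar D) (pUbar D) :=
  pullback.map G.pU G.pU (pUbar D) (pUbar D) D.p D.p (𝟙 S)
    ((Category.comp_id _).trans (p_pUbar D).symm) ((Category.comp_id _).trans (p_pUbar D).symm)

theorem pp_fst : pp D ≫ pullback.fst (pUbar D) (pUbar D) = pullback.fst G.pU G.pU ≫ D.p := by
  unfold pp; rw [pullback.lift_fst]

theorem pp_snd : pp D ≫ pullback.snd (pUbar D) (pUbar D) = pullback.snd G.pU G.pU ≫ D.p := by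
  unfold pp; rw [pullback.lift_snd]

/-- `j̄ = (t̄, s̄)`. -/
noncomputable def jb : D.Rbar ⟶ pullback (pUbar D) (pUbar D) :=
  pullback.lift (tbar D) (sbar D) (tbar_over D)

theorem jb_fst : jb D ≫ pullback.fst (pUbar D) (pUbar D) = tbar D := pullback.lift_fst _ _ _
theorem jb_snd : jb D ≫ pullback.snd (pUbar D) (pUbar D) = sbar D := pullback.lift_snd _ _ _

theorem j_fst : G.j ≫ pullback.fst G.pU G.pU = G.t := pullback.lift_fst _ _ _
theorem j_snd : G.j ≫ pullback.snd G.pU G.pU = G.s := pullback.lift_snd _ _ _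

theorem q_jb : D.q ≫ jb D = G.j ≫ pp D := by
  apply pullback.hom_ext
  · rw [Category.assoc, jb_fst, q_tbar, Category.assoc, pp_fst, ← Category.assoc, j_fst]
  · rw [Category.assoc, jb_snd, q_sbar, Category.assoc, pp_snd, ← Category.assoc, j_snd]

/-- the comparison map `R → R̄ ×_{Ū × Ū} (U × U)`. -/
noncomputable def k : G.R ⟶ pullback (jb D) (pp D) := pullback.lift D.q G.j (q_jb D)

theorem k_fst : k D ≫ pullback.fst (jb D) (pp D) = D.q := pullback.lift_fst _ _ _
theorem k_snd : k D ≫ pullback.snd (jb D) (pp D) = G.j := pullback.lift_snd _ _ _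

/-- the base change of the target of `k` along `q`. -/
noncomputable abbrev Tq : Scheme.{u} := pullback (pullback.fst (jb D) (pp D)) D.q

/-- `R' → (R̄ ×_{Ū × Ū} (U × U)) ×_R̄ R`. -/
noncomputable def w : R' G ιP ⟶ Tq D :=
  pullback.lift (t' G ιP ≫ k D) (pr G ιP) (by rw [Category.assoc, k_fst, D.hq.w])

theorem w_fst : w D ≫ pullback.fst (pullback.fst (jb D) (pp D)) D.q = t' G ιP ≫ k D :=
  pullback.lift_fst _ _ _

theorem w_snd : w D ≫ pullback.snd (pullback.fst (jb D) (pp D)) D.q = pr G ιP :=
  pullback.lift_snd _ _ _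

theorem isPullback_w :
    IsPullback (w D) (t' G ιP) (pullback.fst (pullback.fst (jb D) (pp D)) D.q) (k D) := by
  have hright : IsPullback (pullback.snd (pullback.fst (jb D) (pp D)) D.q)
      (pullback.fst (pullback.fst (jb D) (pp D)) D.q) D.q (pullback.fst (jb D) (pp D)) :=
    (IsPullback.of_hasPullback _ _).flip
  have hbig : IsPullback (w D ≫ pullback.snd (pullback.fst (jb D) (pp D)) D.q) (t' G ιP) D.q
      (k D ≫ pullback.fst (jb D) (pp D)) := by
    rw [w_snd, k_fst]
    exact D.hq.flip
  exact IsPullback.of_right hbig (w_fst D) hright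

/-- first coordinate of a point of `Tq`. -/
noncomputable def u1 : Tq D ⟶ G.U :=
  pullback.fst (pullback.fst (jb D) (pp D)) D.q ≫ pullback.snd (jb D) (pp D) ≫
    pullback.fst G.pU G.pU

/-- second coordinate of a point of `Tq`. -/
noncomputable def u2 : Tq D ⟶ G.U :=
  pullback.fst (pullback.fst (jb D) (pp D)) D.q ≫ pullback.snd (jb D) (pp D) ≫
    pullback.snd G.pU G.pU

theorem u1_p : u1 D ≫ D.p =
    (pullback.snd (pullback.fst (jb D) (pp D)) D.q ≫ G.t) ≫ D.p := by
  unfold u1
  simp only [Category.assoc]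
  rw [← pp_fst, ← Category.assoc (pullback.snd (jb D) (pp D)), ← pullback.condition,
    Category.assoc, jb_fst, ← Category.assoc, pullback.condition, Category.assoc, q_tbar]

theorem u2_p : (pullback.snd (pullback.fst (jb D) (pp D)) D.q ≫ G.s) ≫ D.p = u2 D ≫ D.p := by
  symm
  unfold u2
  simp only [Category.assoc]
  rw [← pp_snd, ← Category.assoc (pullback.snd (jb D) (pp D)), ← pullback.condition,
    Category.assoc, jb_snd, ← Category.assoc, pullback.condition, Category.assoc, q_sbar]

/-- the inverse of `w`. -/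
noncomputable def v : Tq D ⟶ R' G ιP :=
  mk (D.hp.lift (u1 D) (pullback.snd _ _ ≫ G.t) (u1_p D)) (pullback.snd _ _)
    (D.hp.lift (pullback.snd _ _ ≫ G.s) (u2 D) (u2_p D))
    (D.hp.lift_snd _ _ _) (D.hp.lift_fst _ _ _).symm

variable [Mono (ιP ≫ G.j)]

theorem w_v : w D ≫ v D = 𝟙 (R' G ιP) := by
  apply hom_ext'
  · rw [Category.assoc, Category.id_comp]
    unfold v
    rw [mk_pa]
    apply P_jointly_monic (G := G) (ιP := ιP)
    · rw [Category.assoc, D.hp.lift_fst]
      unfold u1
      rw [← Category.assoc (w D), w_fst, Category.assoc, ← Category.assoc (k D), k_snd, j_fst, t'_t]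
    · rw [Category.assoc, D.hp.lift_snd, ← Category.assoc, w_snd, pa_pr]
  · rw [Category.assoc, Category.id_comp]
    unfold v
    rw [mk_pr, w_snd]
  · rw [Category.assoc, Category.id_comp]
    unfold v
    rw [mk_pb]
    apply P_jointly_monic (G := G) (ιP := ιP)
    · rw [Category.assoc, D.hp.lift_fst, ← Category.assoc, w_snd, pr_pb]
    · rw [Category.assoc, D.hp.lift_snd]
      unfold u2
      rw [← Category.assoc (w D), w_fst, Category.assoc, ← Category.assoc (k D), k_snd, j_snd, t'_s]

theorem v_w : v D ≫ w D = 𝟙 (Tq D) := by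
  have hvpr : v D ≫ pr G ιP = pullback.snd _ _ := by unfold v; rw [mk_pr]
  apply pullback.hom_ext
  · rw [Category.assoc, w_fst, Category.id_comp]
    apply pullback.hom_ext
    · rw [Category.assoc, Category.assoc, k_fst, D.hq.w, ← Category.assoc, hvpr,
        pullback.condition]
    · rw [Category.assoc, Category.assoc, k_snd]
      apply pullback.hom_ext
      · rw [Category.assoc, Category.assoc, j_fst, t'_t, Category.assoc]
        unfold v
        rw [← Category.assoc, mk_pa, D.hp.lift_fst]
        rfl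
      · rw [Category.assoc, Category.assoc, j_snd, t'_s, Category.assoc]
        unfold v
        rw [← Category.assoc, mk_pb, D.hp.lift_snd]
        rfl
  · rw [Category.assoc, w_snd, Category.id_comp, hvpr]

theorem isIso_w : IsIso (w D) := ⟨v D, w_v D, v_w D⟩

set_option backward.isDefEq.respectTransparency.types false in
theorem isIso_k : IsIso (k D) := by
  have h := isPullback_w D
  have hQ : (@Surjective ⊓ @Flat ⊓ @QuasiCompact : MorphismProperty Scheme.{u})
      (pullback.fst (pullback.fst (jb D) (pp D)) D.q) :=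
    ⟨⟨inferInstance, inferInstance⟩, inferInstance⟩
  have hw : MorphismProperty.isomorphisms Scheme.{u} (w D) := isIso_w D
  exact MorphismProperty.of_isPullback_of_descendsAlong
    (P := MorphismProperty.isomorphisms Scheme.{u})
    (Q := @Surjective ⊓ @Flat ⊓ @QuasiCompact) h hQ hw

theorem isPullback_q_j : IsPullback D.q G.j (jb D) (pp D) := by
  haveI := isIso_k D
  refine IsPullback.of_iso_pullback ⟨q_jb D⟩ (asIso (k D)) ?_ ?_
  · exact k_fst D
  · exact k_snd D

variable [Mono ιP] (L : GrpdSub.Lifts G ιP)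

theorem isPullback_φ :
    IsPullback (φ D L).fR G.j (Hbar D L).j
      (pullback.map G.pU G.pU (Hbar D L).pU (Hbar D L).pU (φ D L).fU (φ D L).fU (𝟙 S)
        ((Category.comp_id _).trans (φ D L).fU_over.symm)
        ((Category.comp_id _).trans (φ D L).fU_over.symm)) :=
  isPullback_q_j D

end Groth.Agent.Lib.Helper20.HE
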