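import Mathlib
import Groth.Agent.Lib.Helper20.HE9

/-!
# The quotient data obtained from the finite locally free quotient construction
-/

set_option autoImplicit false
set_option linter.style.haveILetI false
set_option linter.unusedSimpArgs false
set_option linter.unusedSectionVars false
universe u
open CategoryTheory CategoryTheory.Limits AlgebraicGeometry

namespace Groth.Agent.Lib.Helper20.HE

open Grpd Groth.Agent.Lib.Helper25.GrpdAlg Groth.Agent.Lib.Helper25 Groth.Agent.Lib.Helper20.HB

variable {S : Scheme.{u}} {G : GroupoidScheme S} {P : Scheme.{u}} {ιP : P ⟶ G.R} [Mono ιP]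
  (L : GrpdSub.Lifts G ιP) [Mono (ιP ≫ G.j)]
  [IsAffine G.U] [IsSeparated G.j] [LocallyQuasiFinite G.j] [LocallyOfFiniteType G.j]
  [IsFinite (ιP ≫ G.s)] [IsFinite (ιP ≫ G.t)] [Flat (ιP ≫ G.s)] [Flat (ιP ≫ G.t)]
  [LocallyOfFinitePresentation (ιP ≫ G.s)] [LocallyOfFinitePresentation (ιP ≫ G.t)]

/-- the quotient data. -/
noncomputable def qdata : QData G ιP where
  Ubar := AffInv.Y (GP L)
  p := AffInv.p (hcovP L)
  Rbar := AffInv.Y (Gd L)
  q := AffInv.p (hcovd L)
  flat_p := AffInv.flat_p (hcovP L)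
  surj_p := AffInv.surjective_p (hcovP L)
  lfp_p := AffInv.lfp_p (hcovP L)
  flat_q := AffInv.flat_p (hcovd L)
  surj_q := AffInv.surjective_p (hcovd L)
  lfp_q := AffInv.lfp_p (hcovd L)
  qc_q := by
    haveI : IsFinite (AffInv.p (hcovd L)) := AffInv.isFinite_p (hcovd L)
    exact (inferInstance : QuasiCompact (AffInv.p (hcovd L)))
  hp := AffInv.isPullback_t_s (hcovP L)
  hq := AffInv.isPullback_t_s (hcovd L)

theorem isAffine_Ubar : IsAffine (qdata L).Ubar :=
  AffInv.isAffine_Y (hcovP L) (‹IsAffine G.U› : IsAffine (GP L).U)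

theorem isFinite_p : IsFinite (qdata L).p := AffInv.isFinite_p (hcovP L)

end Groth.Agent.Lib.Helper20.HE
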