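import Mathlib

/-!
# HR12: a norm for finite projective algebras: an element of the base whose non-vanishing locus is
the set of primes over which a given element is invertible
-/

set_option autoImplicit false
set_option linter.style.haveILetI false
set_option linter.unusedSectionVars false
set_option maxHeartbeats 4000000

namespace Groth.Agent.Lib.Helper20.HR

open Polynomial

section PNorm

variable {A B : Type*} [CommRing A] [CommRing B] [Algebra A B]
variable {n : ℕ} (i : B →ₗ[A] (Fin n → A)) (r : (Fin n → A) →ₗ[A] B)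

/-- the endomorphism of `Aⁿ` extending multiplication by `b` on the direct summand `B`. -/
noncomputable def pU (b : B) : Module.End A (Fin n → A) :=
  i ∘ₗ (LinearMap.mulLeft A b) ∘ₗ r + (LinearMap.id - i ∘ₗ r)

theorem pU_apply (b : B) (x : Fin n → A) : pU i r b x = i (b * r x) + (x - i (r x)) := by
  simp [pU]

variable (hri : ∀ y, r (i y) = y)
include hri

theorem pU_i (b y : B) : pU i r b (i y) = i (b * y) := by
  rw [pU_apply, hri, sub_self, add_zero]

theorem pU_mul (b c : B) : pU i r (b * c) = pU i r b * pU i r c := by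
  apply LinearMap.ext
  intro x
  rw [Module.End.mul_apply]
  have h1 : pU i r c x = i (c * r x) + (x - i (r x)) := pU_apply i r c x
  have h2 : r (pU i r c x) = c * r x := by
    rw [h1, map_add, map_sub, hri, hri, sub_self, add_zero]
  rw [pU_apply i r b (pU i r c x), h2, h1, pU_apply, mul_assoc]
  abel

theorem pU_algebraMap_mul (s : A) :
    pU i r (algebraMap A B s) * (s • (LinearMap.id - i ∘ₗ r) + i ∘ₗ r) =
      s • (1 : Module.End A (Fin n → A)) := by
  apply LinearMap.ext
  intro x
  rw [Module.End.mul_apply, pU_apply]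
  simp only [LinearMap.add_apply, LinearMap.smul_apply, LinearMap.sub_apply, LinearMap.id_apply,
    LinearMap.comp_apply, map_add, map_smul, map_sub, hri, sub_self, smul_zero, zero_add,
    Module.End.one_apply]
  rw [Algebra.algebraMap_eq_smul_one, smul_mul_assoc, one_mul, map_smul]
  abel_nf
  simp

theorem pU_pow_i (b : B) (k : ℕ) (y : B) : ((pU i r b) ^ k) (i y) = i (b ^ k * y) := by
  induction k generalizing y with
  | zero => simp
  | succ k ih =>
    rw [pow_succ, Module.End.mul_apply, pU_i i r hri, ih, pow_succ, mul_assoc]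

theorem aeval_pU_i (b : B) (p : A[X]) (y : B) :
    (aeval (pU i r b) p) (i y) = i (aeval b p * y) := by
  rw [aeval_eq_sum_range, aeval_eq_sum_range, LinearMap.sum_apply, Finset.sum_mul, map_sum]
  apply Finset.sum_congr rfl
  intro k _
  rw [LinearMap.smul_apply, pU_pow_i i r hri, smul_mul_assoc, map_smul]

theorem algebraMap_det_pU_mem (b : B) :
    algebraMap A B (LinearMap.det (pU i r b)) ∈ Ideal.span ({b} : Set B) := by
  set χ := (pU i r b).charpoly with hχ
  have h0 : aeval b χ = 0 := by
    have h1 := aeval_pU_i i r hri b χ 1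
    rw [LinearMap.aeval_self_charpoly, LinearMap.zero_apply, mul_one] at h1
    have h2 := congrArg r h1
    rw [hri, map_zero] at h2
    exact h2.symm
  have h3 : aeval b χ = aeval b (divX χ) * b + algebraMap A B (χ.coeff 0) := by
    conv_lhs => rw [← divX_mul_X_add χ]
    simp
  have h4 : algebraMap A B (χ.coeff 0) = -(aeval b (divX χ)) * b := by
    rw [h0] at h3
    linear_combination -h3
  rw [LinearMap.det_eq_sign_charpoly_coeff, map_mul, ← hχ, h4, ← mul_assoc]
  exact Ideal.mul_mem_left _ _ (Ideal.subset_span rfl)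

end PNorm

/-- **the norm of an element of a finite projective algebra**: its non-vanishing locus is the set
of primes of the base all of whose primes above do not contain the element. -/
theorem exists_pnorm {A B : Type*} [CommRing A] [CommRing B] [Algebra A B] [Module.Finite A B]
    [Module.Projective A B] (b : B) :
    ∃ F : A, ∀ (𝔭 : Ideal A), 𝔭.IsPrime →
      (F ∉ 𝔭 ↔ ∀ (𝔮 : Ideal B), 𝔮.IsPrime → 𝔮.comap (algebraMap A B) = 𝔭 → b ∉ 𝔮) := by
  obtain ⟨n, f, hf⟩ := Module.Finite.exists_fin' A B
  obtain ⟨i, hi⟩ := Module.projective_lifting_property f LinearMap.id hf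
  have hri : ∀ y, f (i y) = y := fun y => LinearMap.congr_fun hi y
  refine ⟨LinearMap.det (pU i f b), ?_⟩
  intro 𝔭 h𝔭
  constructor
  · intro hF 𝔮 h𝔮 hcomap hb
    apply hF
    rw [← hcomap, Ideal.mem_comap]
    have := algebraMap_det_pU_mem i f hri b
    exact (Ideal.span_le.mpr (Set.singleton_subset_iff.mpr hb)) this
  · intro h hF
    have hnot : ¬ (Ideal.span ({b} : Set B)).comap (algebraMap A B) ≤ 𝔭 := by
      intro hle
      obtain ⟨Q, hQ, hQp, hQc⟩ := Ideal.exists_ideal_over_prime_of_isIntegral 𝔭 _ hle
      exact h Q hQp hQc (hQ (Ideal.subset_span rfl))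
    obtain ⟨s, hs, hs𝔭⟩ := Set.not_subset.mp hnot
    rw [SetLike.mem_coe, Ideal.mem_comap, Ideal.mem_span_singleton'] at hs
    obtain ⟨c, hc⟩ := hs
    have e1 : pU i f b * pU i f c * (s • (LinearMap.id - i ∘ₗ f) + i ∘ₗ f) =
        s • (1 : Module.End A (Fin n → A)) := by
      rw [← pU_mul i f hri, mul_comm b c, hc, pU_algebraMap_mul i f hri]
    have e2 := congrArg LinearMap.det e1
    rw [map_mul, map_mul, LinearMap.det_smul, map_one, mul_one] at e2
    have : s ^ Module.finrank A (Fin n → A) ∈ 𝔭 := by
      rw [← e2, mul_assoc]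
      exact Ideal.mul_mem_right _ _ hF
    exact hs𝔭 (h𝔭.mem_of_pow_mem _ this)

end Groth.Agent.Lib.Helper20.HR
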