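import Mathlib
import Groth.Agent.Lib.Helper20.HC1

/-!
# HN1: the restriction of a groupoid scheme along an arbitrary morphism `u : U' ⟶ U`
-/

set_option autoImplicit false
set_option linter.style.haveILetI false
set_option linter.unusedSimpArgs false
set_option linter.unusedSectionVars false
universe u
open CategoryTheory CategoryTheory.Limits AlgebraicGeometry

namespace Groth.Agent.Lib.Helper20.HN

open Grpd Groth.Agent.Lib.Helper25.GrpdAlg Groth.Agent.Lib.Helper20.HC

variable {S : Scheme.{u}} (G : GroupoidScheme S) {U' : Scheme.{u}} (u : U' ⟶ G.U)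

variable {G u} in
theorem r_hom_ext {T : Scheme.{u}} {a b : T ⟶ R' G u} (h1 : a ≫ ιR G u = b ≫ ιR G u)
    (h2 : a ≫ t' G u = b ≫ t' G u) (h3 : a ≫ s' G u = b ≫ s' G u) : a = b := by
  apply pullback.hom_ext
  · apply v_hom_ext
    · simpa only [ιR, Category.assoc] using h1
    · simpa only [t', Category.assoc] using h2
  · exact h3

variable {G u} in
theorem comp_rLift {T T' : Scheme.{u}} (f : T' ⟶ T) (ρ : T ⟶ G.R) (a b : T ⟶ U')
    (ha : ρ ≫ G.t = a ≫ u) (hb : ρ ≫ G.s = b ≫ u) :
    f ≫ rLift ρ a b ha hb = rLift (f ≫ ρ) (f ≫ a) (f ≫ b)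
      (by rw [Category.assoc, ha, Category.assoc]) (by rw [Category.assoc, hb, Category.assoc]) := by
  apply r_hom_ext
  · rw [Category.assoc, rLift_ιR, rLift_ιR]
  · rw [Category.assoc, rLift_t', rLift_t']
  · rw [Category.assoc, rLift_s', rLift_s']

variable {G u} in
theorem rLift_congr {T : Scheme.{u}} {ρ ρ' : T ⟶ G.R} {a a' b b' : T ⟶ U'}
    (ha : ρ ≫ G.t = a ≫ u) (hb : ρ ≫ G.s = b ≫ u) (hρ : ρ = ρ') (haa : a = a') (hbb : b = b') :
    rLift ρ a b ha hb = rLift ρ' a' b' (by rw [← hρ, ← haa, ha]) (by rw [← hρ, ← hbb, hb]) := by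
  subst hρ haa hbb; rfl

variable {G u} in
theorem rLift_self {T : Scheme.{u}} (a : T ⟶ R' G u) :
    rLift (a ≫ ιR G u) (a ≫ t' G u) (a ≫ s' G u)
      (by rw [Category.assoc, ιR_t, Category.assoc])
      (by rw [Category.assoc, ιR_s, Category.assoc]) = a := by
  apply r_hom_ext
  · rw [rLift_ιR]
  · rw [rLift_t']
  · rw [rLift_s']

/-- the unit of the restriction -/
noncomputable def eR : U' ⟶ R' G u :=
  rLift (u ≫ G.e) (𝟙 U') (𝟙 U')
    (by rw [Category.assoc, G.e_t, Category.comp_id, Category.id_comp])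
    (by rw [Category.assoc, G.e_s, Category.comp_id, Category.id_comp])

/-- the inverse of the restriction -/
noncomputable def iR : R' G u ⟶ R' G u :=
  rLift (ιR G u ≫ G.i) (s' G u) (t' G u)
    (by rw [Category.assoc, G.i_t, ιR_s]) (by rw [Category.assoc, G.i_s, ιR_t])

theorem cR_cond : (pullback.fst (s' G u) (t' G u) ≫ ιR G u) ≫ G.s =
    (pullback.snd (s' G u) (t' G u) ≫ ιR G u) ≫ G.t := by
  rw [Category.assoc, Category.assoc, ιR_s, ιR_t, ← Category.assoc, ← Category.assoc,
    pullback.condition]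

/-- the composition of the restriction -/
noncomputable def cR : pullback (s' G u) (t' G u) ⟶ R' G u :=
  rLift (comp G (pullback.fst (s' G u) (t' G u) ≫ ιR G u)
      (pullback.snd (s' G u) (t' G u) ≫ ιR G u) (cR_cond G u))
    (pullback.fst (s' G u) (t' G u) ≫ t' G u) (pullback.snd (s' G u) (t' G u) ≫ s' G u)
    (by rw [comp_t, Category.assoc, Category.assoc, ιR_t])
    (by rw [comp_s, Category.assoc, Category.assoc, ιR_s])

variable {G u} in
theorem ιR_cond {T : Scheme.{u}} (α β : T ⟶ R' G u) (h : α ≫ s' G u = β ≫ t' G u) :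
    (α ≫ ιR G u) ≫ G.s = (β ≫ ιR G u) ≫ G.t := by
  rw [Category.assoc, Category.assoc, ιR_s, ιR_t, ← Category.assoc, ← Category.assoc, h]

variable {G u} in
/-- the composition of `T`-points of the restriction -/
theorem lift_cR {T : Scheme.{u}} (α β : T ⟶ R' G u) (h : α ≫ s' G u = β ≫ t' G u) :
    pullback.lift α β h ≫ cR G u =
      rLift (comp G (α ≫ ιR G u) (β ≫ ιR G u) (ιR_cond α β h)) (α ≫ t' G u) (β ≫ s' G u)
        (by rw [comp_t, Category.assoc, ιR_t, Category.assoc])
        (by rw [comp_s, Category.assoc, ιR_s, Category.assoc]) := by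
  rw [cR, comp_rLift]
  apply rLift_congr
  · rw [precomp]
    apply comp_congr
    · rw [← Category.assoc, pullback.lift_fst]
    · rw [← Category.assoc, pullback.lift_snd]
  · rw [← Category.assoc, pullback.lift_fst]
  · rw [← Category.assoc, pullback.lift_snd]

variable {G u} in
theorem lift_cR_ιR {T : Scheme.{u}} (α β : T ⟶ R' G u) (h : α ≫ s' G u = β ≫ t' G u) :
    (pullback.lift α β h ≫ cR G u) ≫ ιR G u =
      comp G (α ≫ ιR G u) (β ≫ ιR G u) (ιR_cond α β h) := by
  rw [lift_cR, rLift_ιR]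

variable {G u} in
theorem lift_cR_s {T : Scheme.{u}} (α β : T ⟶ R' G u) (h : α ≫ s' G u = β ≫ t' G u) :
    (pullback.lift α β h ≫ cR G u) ≫ s' G u = β ≫ s' G u := by
  rw [lift_cR, rLift_s']

variable {G u} in
theorem lift_cR_t {T : Scheme.{u}} (α β : T ⟶ R' G u) (h : α ≫ s' G u = β ≫ t' G u) :
    (pullback.lift α β h ≫ cR G u) ≫ t' G u = α ≫ t' G u := by
  rw [lift_cR, rLift_t']

theorem ιR_s_assoc' {Z : Scheme.{u}} (h : G.U ⟶ Z) : ιR G u ≫ G.s ≫ h = s' G u ≫ u ≫ h := by
  rw [← Category.assoc, ιR_s, Category.assoc]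
theorem ιR_t_assoc' {Z : Scheme.{u}} (h : G.U ⟶ Z) : ιR G u ≫ G.t ≫ h = t' G u ≫ u ≫ h := by
  rw [← Category.assoc, ιR_t, Category.assoc]
theorem eR_ιR : eR G u ≫ ιR G u = u ≫ G.e := rLift_ιR _ _ _ _ _
theorem eR_s : eR G u ≫ s' G u = 𝟙 U' := rLift_s' _ _ _ _ _
theorem eR_t : eR G u ≫ t' G u = 𝟙 U' := rLift_t' _ _ _ _ _
theorem iR_ιR : iR G u ≫ ιR G u = ιR G u ≫ G.i := rLift_ιR _ _ _ _ _
theorem iR_s : iR G u ≫ s' G u = t' G u := rLift_s' _ _ _ _ _
theorem iR_t : iR G u ≫ t' G u = s' G u := rLift_t' _ _ _ _ _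

/-- **The restriction of a groupoid scheme along an arbitrary morphism.** -/
noncomputable def restr : GroupoidScheme S where
  U := U'
  R := R' G u
  pU := u ≫ G.pU
  pR := ιR G u ≫ G.pR
  s := s' G u
  t := t' G u
  e := eR G u
  i := iR G u
  c := cR G u
  s_over := by rw [← Category.assoc, ← ιR_s, Category.assoc, G.s_over]
  t_over := by rw [← Category.assoc, ← ιR_t, Category.assoc, G.t_over]
  comp_s := fun α β h => lift_cR_s α β h
  comp_t := fun α β h => lift_cR_t α β h
  assoc := fun α β γ h₁ h₂ => by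
    apply r_hom_ext
    · refine (lift_cR_ιR _ _ _).trans ?_
      refine Eq.trans ?_ (lift_cR_ιR _ _ _).symm
      have e1 := assoc G (α ≫ ιR G u) (β ≫ ιR G u) (γ ≫ ιR G u) (ιR_cond α β h₁) (ιR_cond β γ h₂)
      refine (comp_congr G (lift_cR_ιR α β h₁) rfl _ _).trans (e1.trans ?_)
      exact (comp_congr G rfl (lift_cR_ιR β γ h₂) _ _).symm
    · rw [lift_cR_t, lift_cR_t, lift_cR_t]
    · rw [lift_cR_s, lift_cR_s, lift_cR_s]
  e_s := eR_s G u
  e_t := eR_t G u
  comp_e := fun α => by
    apply r_hom_ext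
    · rw [lift_cR_ιR]
      refine (comp_congr G rfl ?_ _ _).trans (comp_e G (α ≫ ιR G u))
      simp only [Category.assoc, eR_ιR, ιR_s_assoc']
    · rw [lift_cR_t]
    · rw [lift_cR_s, Category.assoc, Category.assoc, eR_s, Category.comp_id]
  e_comp := fun α => by
    apply r_hom_ext
    · rw [lift_cR_ιR]
      refine (comp_congr G ?_ rfl _ _).trans (e_comp G (α ≫ ιR G u))
      simp only [Category.assoc, eR_ιR, ιR_t_assoc']
    · rw [lift_cR_t, Category.assoc, Category.assoc, eR_t, Category.comp_id]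
    · rw [lift_cR_s]
  i_s := iR_s G u
  i_t := iR_t G u
  comp_i := fun α => by
    apply r_hom_ext
    · rw [lift_cR_ιR]
      refine (comp_congr G rfl ?_ _ _).trans ((comp_i G (α ≫ ιR G u)).trans ?_)
      · rw [Category.assoc, iR_ιR, Category.assoc]
      · simp only [Category.assoc, eR_ιR, ιR_t_assoc']
    · rw [lift_cR_t, Category.assoc, Category.assoc, eR_t, Category.comp_id]
    · rw [lift_cR_s, Category.assoc, iR_s, Category.assoc, Category.assoc, eR_s,
        Category.comp_id]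
  i_comp := fun α => by
    apply r_hom_ext
    · rw [lift_cR_ιR]
      refine (comp_congr G ?_ rfl _ _).trans ((i_comp G (α ≫ ιR G u)).trans ?_)
      · rw [Category.assoc, iR_ιR, Category.assoc]
      · simp only [Category.assoc, eR_ιR, ιR_s_assoc']
    · rw [lift_cR_t, Category.assoc, iR_t, Category.assoc, Category.assoc, eR_t,
        Category.comp_id]
    · rw [lift_cR_s, Category.assoc, Category.assoc, eR_s, Category.comp_id]

/-- the canonical morphism from the restriction -/
noncomputable def restrHom : GroupoidScheme.Hom (restr G u) G where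
  fU := u
  fR := ιR G u
  fU_over := rfl
  comm_s := ιR_s G u
  comm_t := ιR_t G u
  comm_c := fun α β h => lift_cR_ιR α β h

end Groth.Agent.Lib.Helper20.HN
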