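import Mathlib
import Groth.Prelude.Def_Grpd

/-!
# HM7: a point of `R` generalising `e(u)`, lying over `u` and on which `s` and `t` agree
scheme-theoretically, equals `e(u)` when the stabilizer is locally quasi-finite
-/

set_option autoImplicit false
set_option linter.style.haveILetI false
universe u
open CategoryTheory CategoryTheory.Limits AlgebraicGeometry

namespace Groth.Agent.Lib.Helper20.HM

open Grpd

variable {S : Scheme.{u}} (G : GroupoidScheme S)

instance mono_diag : Mono G.diag := by
  have h : G.diag ≫ pullback.fst G.pU G.pU = 𝟙 _ := by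
    rw [GroupoidScheme.diag, pullback.lift_fst]
  exact mono_of_mono_fac h

/-- the monomorphism from the stabilizer to `R` -/
noncomputable def stabToR : G.stabilizer ⟶ G.R := pullback.fst G.j G.diag

instance : Mono (stabToR G) := by
  unfold stabToR
  haveI := mono_diag G
  exact pullback.fst_of_mono

theorem eStab_fst : G.eStab ≫ stabToR G = G.e := pullback.lift_fst _ _ _

theorem eStab_toU : G.eStab ≫ G.stabilizerToU = 𝟙 _ := pullback.lift_snd _ _ _

theorem eq_e_of_specializes [LocallyQuasiFinite G.stabilizerToU] {Z : Scheme.{u}} (ι : Z ⟶ G.R)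
    (hι : ι ≫ G.s = ι ≫ G.t) (η ζ : Z) (hηζ : η ⤳ ζ) (u : G.U) (hζ : ι ζ = G.e u)
    (hη : G.s (ι η) = u) : ι η = G.e u := by
  let x : Z ⟶ G.stabilizer := pullback.lift ι (ι ≫ G.s) (by
    apply pullback.hom_ext
    · rw [Category.assoc, Category.assoc, GroupoidScheme.j, pullback.lift_fst,
        GroupoidScheme.diag, pullback.lift_fst, Category.comp_id, hι]
    · rw [Category.assoc, Category.assoc, GroupoidScheme.j, pullback.lift_snd,
        GroupoidScheme.diag, pullback.lift_snd, Category.comp_id])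
  have hx1 : x ≫ stabToR G = ι := pullback.lift_fst _ _ _
  have hx2 : x ≫ G.stabilizerToU = ι ≫ G.s := pullback.lift_snd _ _ _
  have hsp : x η ⤳ x ζ := hηζ.map x.continuous
  have hfst : Function.Injective (stabToR G) := Scheme.Hom.injective _
  have hxζ : x ζ = G.eStab u := by
    apply hfst
    rw [← Scheme.Hom.comp_apply, hx1, hζ, ← Scheme.Hom.comp_apply, eStab_fst]
  have hmemη : x η ∈ G.stabilizerToU ⁻¹' {u} := by
    rw [Set.mem_preimage, Set.mem_singleton_iff, ← Scheme.Hom.comp_apply, hx2,
      Scheme.Hom.comp_apply]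
    exact hη
  have hmemζ : G.eStab u ∈ G.stabilizerToU ⁻¹' {u} := by
    rw [Set.mem_preimage, Set.mem_singleton_iff, ← Scheme.Hom.comp_apply, eStab_toU]
    rfl
  have hdisc := Scheme.Hom.isDiscrete_preimage_singleton G.stabilizerToU u
  haveI : DiscreteTopology (G.stabilizerToU ⁻¹' {u}) := hdisc.to_subtype
  have h1 : (⟨x η, hmemη⟩ : G.stabilizerToU ⁻¹' {u}) ⤳ ⟨G.eStab u, hmemζ⟩ := by
    rw [hxζ] at hsp
    exact (Topology.IsInducing.subtypeVal.specializes_iff
      (x := (⟨x η, hmemη⟩ : G.stabilizerToU ⁻¹' {u})) (y := ⟨G.eStab u, hmemζ⟩)).mp hsp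
  have h3 : x η = G.eStab u := congrArg Subtype.val h1.eq
  rw [← hx1, Scheme.Hom.comp_apply, h3, ← Scheme.Hom.comp_apply, eStab_fst]

end Groth.Agent.Lib.Helper20.HM
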