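import Mathlib
import Groth.Prelude.Def_Grpd
import Groth.Agent.Lib.Helper6.FTPoints

/-!
# HM8: an affine chart of a groupoid scheme around a finite type point

Affine opens `U₀ ∋ u` (with `u` closed in `U₀`) and `R₀` with `e(U₀) ⊆ R₀ ⊆ s⁻¹U₀ ∩ t⁻¹U₀`.
-/

set_option autoImplicit false
set_option linter.style.haveILetI false
universe u
open CategoryTheory CategoryTheory.Limits AlgebraicGeometry

namespace Groth.Agent.Lib.Helper20.HM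

open Grpd

variable {S : Scheme.{u}} (G : GroupoidScheme S)

theorem e_s_apply (x : G.U) : G.s (G.e x) = x := by
  rw [← Scheme.Hom.comp_apply, G.e_s]; rfl

theorem e_t_apply (x : G.U) : G.t (G.e x) = x := by
  rw [← Scheme.Hom.comp_apply, G.e_t]; rfl

theorem exists_chart (u : G.U) (hu : LocallyOfFiniteType (G.U.fromSpecResidueField u)) :
    ∃ (U₀ : G.U.Opens) (R₀ : G.R.Opens), IsAffineOpen U₀ ∧ IsAffineOpen R₀ ∧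
      ∃ hu₀ : u ∈ U₀, IsClosed ({⟨u, hu₀⟩} : Set ↥U₀) ∧ R₀ ≤ G.s ⁻¹ᵁ U₀ ∧ R₀ ≤ G.t ⁻¹ᵁ U₀ ∧
        U₀ ≤ G.e ⁻¹ᵁ R₀ := by
  obtain ⟨V, hV, huV, hcl⟩ := Groth.Agent.Lib.Helper6.exists_affine_isClosed_of_ftPoint u hu
  have heu : G.e u ∈ ((G.s ⁻¹ᵁ V ⊓ G.t ⁻¹ᵁ V : G.R.Opens) : Set G.R) := by
    refine ⟨?_, ?_⟩
    · change G.s (G.e u) ∈ V
      rw [e_s_apply]; exact huV
    · change G.t (G.e u) ∈ V
      rw [e_t_apply]; exact huV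
  obtain ⟨_, ⟨R₁, hR₁ : IsAffineOpen R₁, rfl⟩, heuR₁, hR₁le⟩ :=
    G.R.isBasis_affineOpens.exists_subset_of_mem_open heu (G.s ⁻¹ᵁ V ⊓ G.t ⁻¹ᵁ V).isOpen
  have hR₁s : R₁ ≤ G.s ⁻¹ᵁ V := fun x hx => (hR₁le hx).1
  have hR₁t : R₁ ≤ G.t ⁻¹ᵁ V := fun x hx => (hR₁le hx).2
  obtain ⟨a, hale, hua⟩ := hV.exists_basicOpen_le (V := G.e ⁻¹ᵁ R₁) ⟨u, heuR₁⟩ huV
  set U₀ : G.U.Opens := G.U.basicOpen a with hU₀def
  have hU₀V : U₀ ≤ V := G.U.basicOpen_le a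
  set b : Γ(G.R, R₁) := G.s.appLE V R₁ hR₁s a * G.t.appLE V R₁ hR₁t a with hb
  set R₀ : G.R.Opens := G.R.basicOpen b with hR₀def
  have hR₀eq : R₀ = (R₁ ⊓ G.s ⁻¹ᵁ U₀) ⊓ (R₁ ⊓ G.t ⁻¹ᵁ U₀) := by
    rw [hR₀def, hb, Scheme.basicOpen_mul, Scheme.basicOpen_appLE, Scheme.basicOpen_appLE]
  refine ⟨U₀, R₀, hV.basicOpen a, hR₁.basicOpen b, hua, ?_, ?_, ?_, ?_⟩
  · rw [Groth.Agent.Lib.Helper6.isClosed_singleton_subtype_iff] at hcl ⊢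
    intro y hy hsy
    exact hcl y (hU₀V hy) hsy
  · rw [hR₀eq]
    exact fun x hx => hx.1.2
  · rw [hR₀eq]
    exact fun x hx => hx.2.2
  · intro x hx
    have hxR₁ : G.e x ∈ R₁ := hale hx
    change G.e x ∈ R₀
    rw [hR₀eq]
    refine ⟨⟨hxR₁, ?_⟩, ⟨hxR₁, ?_⟩⟩
    · change G.s (G.e x) ∈ U₀
      rw [e_s_apply]; exact hx
    · change G.t (G.e x) ∈ U₀
      rw [e_t_apply]; exact hx

end Groth.Agent.Lib.Helper20.HM
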