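import Mathlib

/-!
# HM1: a ring map from a field `K` to a finite-type `K`-domain that agrees with the structure map
modulo a proper ideal is the structure map
-/

set_option autoImplicit false
set_option linter.style.haveILetI false
universe u
open Polynomial

namespace Groth.Agent.Lib.Helper20.HM

/-- a dominant finitely presented map from a domain: the image of `Spec` contains a nonempty
basic open -/
theorem exists_ne_zero_forall_mem_range_comap {R S : Type u} [CommRing R] [IsDomain R]
    [CommRing S] (φ : R →+* S) (hφ : φ.FinitePresentation) (hinj : Function.Injective φ)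
    [IsDomain S] :
    ∃ f : R, f ≠ 0 ∧ ∀ P : PrimeSpectrum R, f ∉ P.asIdeal →
      P ∈ Set.range (PrimeSpectrum.comap φ) := by
  have hc := PrimeSpectrum.isConstructible_range_comap hφ
  obtain ⟨Sd, hSd⟩ := PrimeSpectrum.exists_constructibleSetData_iff.mpr hc
  have hη : (⟨⊥, Ideal.isPrime_bot⟩ : PrimeSpectrum R) ∈ Set.range (PrimeSpectrum.comap φ) := by
    refine ⟨⟨⊥, Ideal.isPrime_bot⟩, ?_⟩
    ext1
    change Ideal.comap φ ⊥ = ⊥
    rw [← RingHom.ker_eq_comap_bot]
    exact (RingHom.injective_iff_ker_eq_bot φ).mp hinj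
  rw [← hSd, PrimeSpectrum.ConstructibleSetData.toSet] at hη
  simp only [Set.mem_iUnion] at hη
  obtain ⟨C, hC, hηC⟩ := hη
  rw [PrimeSpectrum.BasicConstructibleSetData.toSet] at hηC
  obtain ⟨h1, h2⟩ := hηC
  have hg : ∀ i, C.g i = 0 := by
    intro i
    have := h1 ⟨i, rfl⟩
    exact this
  have hf : C.f ≠ 0 := by
    intro h0
    apply h2
    rw [PrimeSpectrum.mem_zeroLocus]
    intro x hx
    rw [Set.mem_singleton_iff] at hx
    rw [hx, h0]
    exact Ideal.zero_mem _
  refine ⟨C.f, hf, fun P hP => ?_⟩
  rw [← hSd, PrimeSpectrum.ConstructibleSetData.toSet]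
  simp only [Set.mem_iUnion]
  refine ⟨C, hC, ?_, ?_⟩
  · rw [PrimeSpectrum.mem_zeroLocus]
    rintro _ ⟨i, rfl⟩
    rw [hg i]; exact Ideal.zero_mem _
  · rw [PrimeSpectrum.mem_zeroLocus]
    intro h
    exact hP (h (Set.mem_singleton _))

/-- **Lemma A**: a ring map `τ : K → D` into a finite-type `K`-domain which is congruent to the
structure map modulo a proper ideal equals the structure map. -/
theorem eq_algebraMap_of_sub_mem {K D : Type u} [Field K] [CommRing D] [IsDomain D] [Algebra K D]
    [Algebra.FiniteType K D] (τ : K →+* D) (m : Ideal D) (hm : m ≠ ⊤)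
    (hτ : ∀ k : K, τ k - algebraMap K D k ∈ m) : τ = algebraMap K D := by
  ext c
  by_cases halg : IsAlgebraic K (τ c)
  · have hint : IsIntegral K (τ c - algebraMap K D c) :=
      (isAlgebraic_iff_isIntegral.mp halg).sub isIntegral_algebraMap
    by_contra hne
    have hx : τ c - algebraMap K D c ≠ 0 := sub_ne_zero.mpr hne
    have hu := hint.isUnit hx
    exact hm (Ideal.eq_top_of_isUnit_mem _ (hτ c) hu)
  · exfalso
    set a := τ c with ha
    have htr : Transcendental K a := halg
    let φ : K[X] →ₐ[K] D := Polynomial.aeval a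
    have hinj : Function.Injective φ := transcendental_iff_injective.mp htr
    letI : Algebra K[X] D := φ.toRingHom.toAlgebra
    haveI : IsScalarTower K K[X] D :=
      IsScalarTower.of_algebraMap_eq (fun k => (φ.commutes k).symm)
    haveI : Algebra.FinitePresentation K D :=
      Algebra.FinitePresentation.of_finiteType.mp inferInstance
    haveI hfp' : Algebra.FinitePresentation K[X] D :=
      Algebra.FinitePresentation.of_restrict_scalars_finitePresentation K K[X] D
    have hfp : φ.toRingHom.FinitePresentation := hfp'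
    obtain ⟨g, hg0, hg⟩ := exists_ne_zero_forall_mem_range_comap φ.toRingHom hfp hinj
    obtain ⟨n, hn0, hnK, hng⟩ : ∃ n : ℕ, n ≠ 0 ∧ (n : K) ≠ 0 ∧ g.natDegree < n := by
      by_cases hp : ringChar K = 0
      · haveI : CharZero K := (CharP.ringChar_zero_iff_CharZero K).mp hp
        exact ⟨g.natDegree + 1, by omega, Nat.cast_ne_zero.mpr (by omega), by omega⟩
      · refine ⟨ringChar K * (g.natDegree + 1) + 1, by omega, ?_, ?_⟩
        · push_cast
          rw [ringChar.Nat.cast_ringChar, zero_mul, zero_add]
          exact one_ne_zero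
        · have : g.natDegree + 1 ≤ ringChar K * (g.natDegree + 1) :=
            Nat.le_mul_of_pos_left _ (Nat.pos_of_ne_zero hp)
          omega
    have hXn : (X ^ n - 1 : K[X]) = X ^ n - C 1 := by rw [map_one]
    have hunit : IsUnit (a ^ n - 1) := by
      have h1 : a ^ n - 1 = τ (c ^ n - 1) := by rw [map_sub, map_pow, map_one]
      by_cases hc : c ^ n - 1 = 0
      · exfalso
        apply halg
        refine ⟨X ^ n - 1, ?_, ?_⟩
        · rw [hXn]; exact (monic_X_pow_sub_C (1 : K) hn0).ne_zero
        · rw [map_sub, map_pow, aeval_X, map_one, h1, hc, map_zero]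
      · rw [h1]
        exact (IsUnit.mk0 _ hc).map τ
    have hsq : Squarefree (X ^ n - 1 : K[X]) := by
      rw [hXn]
      exact (separable_X_pow_sub_C (1 : K) hnK one_ne_zero).squarefree
    have hdeg : (X ^ n - 1 : K[X]).natDegree = n := by
      rw [hXn]; exact natDegree_X_pow_sub_C
    have hex : ∃ P : PrimeSpectrum K[X], (X ^ n - 1 : K[X]) ∈ P.asIdeal ∧ g ∉ P.asIdeal := by
      by_contra hcon
      push Not at hcon
      have hrad : g ∈ (Ideal.span {(X ^ n - 1 : K[X])}).radical := by
        rw [Ideal.radical_eq_sInf, Ideal.mem_sInf]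
        rintro J ⟨hJ, hJp⟩
        exact hcon ⟨J, hJp⟩ (hJ (Ideal.subset_span (Set.mem_singleton _)))
      obtain ⟨N, hN⟩ := hrad
      rw [Ideal.mem_span_singleton] at hN
      have hN0 : N ≠ 0 := by
        rintro rfl
        rw [pow_zero] at hN
        have := Polynomial.natDegree_eq_zero_of_isUnit (isUnit_of_dvd_one hN)
        rw [hdeg] at this
        exact hn0 this
      have hdvd : (X ^ n - 1 : K[X]) ∣ g := (hsq.dvd_pow_iff_dvd hN0).mp hN
      have := Polynomial.natDegree_le_of_dvd hdvd hg0
      rw [hdeg] at this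
      omega
    obtain ⟨P, hP1, hP2⟩ := hex
    obtain ⟨P', hP'⟩ := hg P hP2
    have hmem : a ^ n - 1 ∈ P'.asIdeal := by
      have h2 : (X ^ n - 1 : K[X]) ∈ (PrimeSpectrum.comap φ.toRingHom P').asIdeal := by
        rw [hP']; exact hP1
      have h3 : φ (X ^ n - 1) ∈ P'.asIdeal := h2
      have h4 : φ (X ^ n - 1) = a ^ n - 1 := by
        change Polynomial.aeval a (X ^ n - 1) = _
        rw [map_sub, map_pow, aeval_X, map_one]
      rw [← h4]; exact h3
    exact P'.2.ne_top (Ideal.eq_top_of_isUnit_mem _ hmem hunit)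

end Groth.Agent.Lib.Helper20.HM
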