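import Mathlib
import Groth.Agent.Lib.Helper16.CICot

/-!
# HM2: systems of parameters taken from the image of an ideal, and their regularity in the
Cohen–Macaulay case
-/

set_option autoImplicit false
set_option linter.style.haveILetI false
universe u
open IsLocalRing Pointwise

namespace Groth.Agent.Lib.Helper20.HM

/-- quotient of a local ring by a principal ideal generated by a non-unit is local -/
theorem isLocalRing_quot {F : Type u} [CommRing F] [IsLocalRing F] (I : Ideal F) (hI : I ≠ ⊤) :
    IsLocalRing (F ⧸ I) := by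
  haveI : Nontrivial (F ⧸ I) := Ideal.Quotient.nontrivial_iff.mpr hI
  exact IsLocalRing.of_surjective' (Ideal.Quotient.mk I) Ideal.Quotient.mk_surjective

theorem comap_mk_maximalIdeal {F : Type u} [CommRing F] [IsLocalRing F] (I : Ideal F)
    [IsLocalRing (F ⧸ I)] :
    (maximalIdeal (F ⧸ I)).comap (Ideal.Quotient.mk I) = maximalIdeal F := by
  haveI : ((maximalIdeal (F ⧸ I)).comap (Ideal.Quotient.mk I)).IsMaximal :=
    Ideal.comap_isMaximal_of_surjective _ Ideal.Quotient.mk_surjective
  exact IsLocalRing.eq_maximalIdeal inferInstance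

/-- dimension drops when dividing by an element outside all minimal primes -/
theorem ringKrullDim_quot_span_succ_le {F : Type u} [CommRing F] [IsNoetherianRing F] (x : F)
    (hx : ∀ P ∈ minimalPrimes F, x ∉ P) :
    ringKrullDim (F ⧸ Ideal.span {x}) + 1 ≤ ringKrullDim F := by
  have h := Module.supportDim_quotSMulTop_succ_le_of_notMem_minimalPrimes (R := F) (M := F)
    (x := x) (by
      intro p hp
      rw [Module.annihilator_eq_bot.mpr inferInstance] at hp
      exact hx p hp)
  have h2 : Ideal.span {x} = x • (⊤ : Ideal F) := by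
    simp [← Submodule.ideal_span_singleton_smul]
  rw [ringKrullDim_eq_of_ringEquiv (Ideal.quotientEquivAlgOfEq F h2).toRingEquiv,
    ← Module.supportDim_self_eq_ringKrullDim (R := F),
    ← Module.supportDim_quotient_eq_ringKrullDim (x • (⊤ : Ideal F))]
  exact h

theorem exists_params (A : Type u) [CommRing A] (𝔭 : Ideal A) :
    ∀ (n : ℕ) (F : Type u) [CommRing F] [IsLocalRing F] [IsNoetherianRing F] (ψ : A →+* F),
      ringKrullDim F ≤ n → 𝔭.map ψ ≤ maximalIdeal F →
      (∀ P : Ideal F, P.IsPrime → 𝔭.map ψ ≤ P → P = maximalIdeal F) →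
      ∃ fs : List A, (∀ f ∈ fs, f ∈ 𝔭) ∧ fs.length ≤ n ∧
        ∀ P : Ideal F, P.IsPrime → Ideal.ofList (fs.map ψ) ≤ P → P = maximalIdeal F := by
  intro n
  induction n with
  | zero =>
    intro F _ _ _ ψ hdim hle hprim
    refine ⟨[], by simp, le_rfl, ?_⟩
    intro P hP _
    haveI : Ring.KrullDimLE 0 F := Ring.krullDimLE_iff.mpr (by simpa using hdim)
    exact IsLocalRing.eq_maximalIdeal hP.isMaximal'
  | succ n ih =>
    intro F _ _ _ ψ hdim hle hprim
    by_cases hmin : maximalIdeal F ∈ minimalPrimes F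
    · refine ⟨[], by simp, Nat.zero_le _, ?_⟩
      intro P hP _
      have hle' : P ≤ maximalIdeal F := IsLocalRing.le_maximalIdeal hP.ne_top
      exact le_antisymm hle' (hmin.2 ⟨hP, bot_le⟩ hle')
    · have hfin : (minimalPrimes F).Finite := minimalPrimes.finite_of_isNoetherianRing F
      have havoid : ¬ ((𝔭 : Set A) ⊆ ⋃ P ∈ (hfin.toFinset : Set (Ideal F)),
          ((P.comap ψ : Ideal A) : Set A)) := by
        rw [Ideal.subset_union_prime (⊥ : Ideal F) ⊥ (fun P hP _ _ => by
          have : P ∈ minimalPrimes F := hfin.mem_toFinset.mp hP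
          haveI := this.1.1
          exact Ideal.comap_isPrime ψ P)]
        rintro ⟨P, hP, hPle⟩
        have hPmin : P ∈ minimalPrimes F := hfin.mem_toFinset.mp hP
        have := hprim P hPmin.1.1 (Ideal.map_le_iff_le_comap.mpr hPle)
        exact hmin (this ▸ hPmin)
      rw [Set.not_subset] at havoid
      obtain ⟨f, hf𝔭, hfnot⟩ := havoid
      have hfP : ∀ P ∈ minimalPrimes F, ψ f ∉ P := by
        intro P hP hmem
        apply hfnot
        simp only [Set.mem_iUnion]
        exact ⟨P, hfin.mem_toFinset.mpr hP, hmem⟩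
      have hψf : ψ f ∈ maximalIdeal F := hle (Ideal.mem_map_of_mem ψ hf𝔭)
      set I : Ideal F := Ideal.span {ψ f} with hI
      have hItop : I ≠ ⊤ := by
        intro h
        have : I ≤ maximalIdeal F := by
          rw [hI, Ideal.span_le]
          intro y hy
          rw [Set.mem_singleton_iff] at hy
          rw [hy]; exact hψf
        exact (maximalIdeal.isMaximal F).ne_top (top_le_iff.mp (h ▸ this))
      haveI hloc : IsLocalRing (F ⧸ I) := isLocalRing_quot I hItop
      have hcm := comap_mk_maximalIdeal I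
      have hdrop := ringKrullDim_quot_span_succ_le (ψ f) hfP
      have hdim' : ringKrullDim (F ⧸ I) ≤ n := by
        have h1 : ringKrullDim (F ⧸ I) + 1 ≤ ((n : ℕ) : WithBot ℕ∞) + 1 := by
          refine hdrop.trans (hdim.trans ?_)
          push_cast
          exact le_rfl
        have hnb : ringKrullDim (F ⧸ I) ≠ ⊥ := ringKrullDim_ne_bot
        obtain ⟨d, hd⟩ := WithBot.ne_bot_iff_exists.mp hnb
        rw [← hd] at h1 ⊢
        have h2 : ((d + 1 : ℕ∞) : WithBot ℕ∞) ≤ (((n : ℕ∞) + 1 : ℕ∞) : WithBot ℕ∞) := by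
          simpa using h1
        have h3 : d + 1 ≤ (n : ℕ∞) + 1 := WithBot.coe_le_coe.mp h2
        have h4 : d ≤ (n : ℕ∞) := (ENat.add_le_add_iff_right ENat.one_ne_top).mp h3
        exact_mod_cast WithBot.coe_le_coe.mpr h4
      set ψ' : A →+* F ⧸ I := (Ideal.Quotient.mk I).comp ψ with hψ'
      have hmap : 𝔭.map ψ' = (𝔭.map ψ).map (Ideal.Quotient.mk I) := by
        rw [hψ', Ideal.map_map]
      have hle' : 𝔭.map ψ' ≤ maximalIdeal (F ⧸ I) := by
        rw [hmap, Ideal.map_le_iff_le_comap, hcm]
        exact hle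
      have hprim' : ∀ P : Ideal (F ⧸ I), P.IsPrime → 𝔭.map ψ' ≤ P →
          P = maximalIdeal (F ⧸ I) := by
        intro P hP hPle
        haveI := hP
        have h1 : P.comap (Ideal.Quotient.mk I) = maximalIdeal F := by
          apply hprim _ (Ideal.comap_isPrime _ P)
          rw [← Ideal.map_le_iff_le_comap, ← hmap]
          exact hPle
        apply Ideal.comap_injective_of_surjective _ Ideal.Quotient.mk_surjective
        rw [h1, hcm]
      obtain ⟨fs, hfs𝔭, hlen, hfs⟩ := ih (F ⧸ I) ψ' hdim' hle' hprim'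
      refine ⟨f :: fs, ?_, ?_, ?_⟩
      · intro g hg
        rcases List.mem_cons.mp hg with rfl | hg
        · exact hf𝔭
        · exact hfs𝔭 g hg
      · simp only [List.length_cons]; omega
      · intro P hP hPle
        haveI := hP
        rw [List.map_cons, Ideal.ofList_cons] at hPle
        have hIP : I ≤ P := le_sup_left.trans hPle
        have hker : RingHom.ker (Ideal.Quotient.mk I) ≤ P := by rw [Ideal.mk_ker]; exact hIP
        have hP' : (P.map (Ideal.Quotient.mk I)).IsPrime :=
          Ideal.map_isPrime_of_surjective Ideal.Quotient.mk_surjective hker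
        have h1 : P.map (Ideal.Quotient.mk I) = maximalIdeal (F ⧸ I) := by
          apply hfs _ hP'
          rw [Ideal.ofList, Ideal.span_le]
          intro y hy
          obtain ⟨g, hg, rfl⟩ := List.mem_map.mp hy
          rw [hψ', RingHom.comp_apply]
          apply Ideal.mem_map_of_mem
          apply hPle
          apply Ideal.mem_sup_right
          exact Ideal.subset_span (List.mem_map_of_mem hg)
        have h2 : (P.map (Ideal.Quotient.mk I)).comap (Ideal.Quotient.mk I) = P := by
          rw [Ideal.comap_map_of_surjective _ Ideal.Quotient.mk_surjective,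
            ← RingHom.ker_eq_comap_bot]
          exact sup_eq_left.mpr hker
        rw [← h2, h1, hcm]

/-- **Parameters from the image of an ideal** in a Cohen–Macaulay local ring form a regular
sequence. -/
theorem exists_regular_params {A F : Type u} [CommRing A] [CommRing F] [IsLocalRing F]
    [IsNoetherianRing F] (hCM : LocCoh.IsCohenMacaulayModule F F) (ψ : A →+* F) (𝔭 : Ideal A)
    (hle : 𝔭.map ψ ≤ maximalIdeal F)
    (hprim : ∀ P : Ideal F, P.IsPrime → 𝔭.map ψ ≤ P → P = maximalIdeal F) :
    ∃ fs : List A, (∀ f ∈ fs, f ∈ 𝔭) ∧ RingTheory.Sequence.IsWeaklyRegular F (fs.map ψ) ∧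
      ringKrullDim (F ⧸ Ideal.ofList (fs.map ψ)) = 0 := by
  have hnb : ringKrullDim F ≠ ⊥ := ringKrullDim_ne_bot
  have hnt : ringKrullDim F ≠ ⊤ := ringKrullDim_ne_top
  obtain ⟨d, hd⟩ := WithBot.ne_bot_iff_exists.mp hnb
  have hdt : d ≠ ⊤ := by
    intro h
    apply hnt
    rw [← hd, h]
    rfl
  obtain ⟨n, hn⟩ := ENat.ne_top_iff_exists.mp hdt
  have hdimF : ringKrullDim F = ((n : ℕ) : WithBot ℕ∞) := by
    rw [← hd, ← hn]
    rfl
  obtain ⟨fs, hfs𝔭, hlen, hfs⟩ := exists_params A 𝔭 n F ψ (le_of_eq hdimF) hle hprim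
  have hxs : ∀ x ∈ fs.map ψ, x ∈ maximalIdeal F := by
    intro x hx
    obtain ⟨g, hg, rfl⟩ := List.mem_map.mp hx
    exact hle (Ideal.mem_map_of_mem ψ (hfs𝔭 g hg))
  set I := Ideal.ofList (fs.map ψ) with hI
  have hIle : I ≤ maximalIdeal F := by
    rw [hI, Ideal.ofList, Ideal.span_le]
    exact fun x hx => hxs x hx
  have hItop : I ≠ ⊤ := fun h =>
    (maximalIdeal.isMaximal F).ne_top (top_le_iff.mp (h ▸ hIle))
  haveI hloc : IsLocalRing (F ⧸ I) := isLocalRing_quot I hItop
  have hcm := comap_mk_maximalIdeal I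
  have hdim0 : ringKrullDim (F ⧸ I) = 0 := by
    apply le_antisymm
    · haveI : Ring.KrullDimLE 0 (F ⧸ I) := by
        apply Ring.KrullDimLE.mk₀
        intro P hP
        haveI := hP
        have h1 : P.comap (Ideal.Quotient.mk I) = maximalIdeal F := by
          apply hfs _ (Ideal.comap_isPrime _ P)
          rw [← Ideal.map_le_iff_le_comap, Ideal.map_quotient_self]
          exact bot_le
        have : P = maximalIdeal (F ⧸ I) := by
          apply Ideal.comap_injective_of_surjective _ Ideal.Quotient.mk_surjective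
          rw [h1, hcm]
        rw [this]
        exact maximalIdeal.isMaximal _
      exact Ring.krullDimLE_iff.mp inferInstance
    · exact ringKrullDim_nonneg_of_nontrivial
  have hge := Groth.Agent.Lib.Helper16.CICot.dim_le (R := F) (fs.map ψ) hxs
  rw [← hI, hdim0, hdimF, zero_add, List.length_map] at hge
  have hge' : n ≤ fs.length := by exact_mod_cast hge
  have hlen' : fs.length = n := le_antisymm hlen hge'
  refine ⟨fs, hfs𝔭, ?_, hdim0⟩
  rw [Groth.Agent.Lib.Helper16.CICot.isWeaklyRegular_iff_dim hCM (fs.map ψ) hxs, ← hI, hdim0,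
    hdimF, zero_add, List.length_map, hlen']

end Groth.Agent.Lib.Helper20.HM
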