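import Mathlib
import Groth.Agent.Lib.Helper23.SliceCMRing

/-!
# HM3: slicing by a prescribed sequence (variant of helper23's `exists_slice_cm`)
-/

set_option autoImplicit false
set_option linter.style.haveILetI false
set_option linter.unusedSectionVars false
universe u
open TensorProduct Function Pointwise

namespace Groth.Agent.Lib.Helper20.HM

open Groth.Agent.Lib27.LocalCore Groth.Agent.Lib.Helper18 Groth.Agent.Lib.Helper23.QFFlat
  Groth.Agent.Lib.Helper23.SliceCM

set_option maxHeartbeats 1600000 in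
/-- `B` f.p. over `A`, `q` a prime of `B` maximal in its fibre with `B_q` flat over `A`, and `bs ⊂ q`
a sequence whose image in the fibre local ring `B_q/pB_q` is regular with zero-dimensional quotient.
Then on a basic open neighbourhood `D(g)` of `q` the quotient `B_g/(bs)` is flat and quasi-finite
over `A`. -/
theorem exists_slice_of_list {A B : Type u} [CommRing A] [CommRing B] [Algebra A B]
    [Algebra.FinitePresentation A B] (q : Ideal B) [q.IsPrime]
    (L : Type u) [CommRing L] [Algebra B L] [Algebra A L] [IsScalarTower A B L]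
    [IsLocalization.AtPrime L q] [Module.Flat A L]
    (hmax : ∀ q' : Ideal B, q'.IsPrime → q ≤ q' →
      q'.comap (algebraMap A B) = q.comap (algebraMap A B) → q' = q)
    (bs : List B) (hbsq : ∀ b ∈ bs, b ∈ q)
    (hreg : RingTheory.Sequence.IsWeaklyRegular
      (L ⧸ (fibIdeal (A := A) q L) • (⊤ : Submodule L L)) (bs.map (algebraMap B L)))
    (hdim : ringKrullDim
      (L ⧸ (fibIdeal (A := A) q L ⊔ Ideal.ofList (bs.map (algebraMap B L)))) = 0) :
    ∃ g : B, g ∉ q ∧
      ∀ (Bg : Type u) [CommRing Bg] [Algebra B Bg] [Algebra A Bg] [IsScalarTower A B Bg]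
        [IsLocalization.Away g Bg],
        Module.Flat A (Bg ⧸ Ideal.ofList (bs.map (algebraMap B Bg))) ∧
        Algebra.QuasiFinite A (Bg ⧸ Ideal.ofList (bs.map (algebraMap B Bg))) := by
  classical
  haveI : IsLocalRing L := IsLocalization.AtPrime.isLocalRing L q
  obtain ⟨hs, hhs⟩ : ∃ hs : List L, hs = bs.map (algebraMap B L) := ⟨_, rfl⟩
  rw [← hhs] at hreg hdim
  obtain ⟨J, hJdef⟩ : ∃ J : Ideal B, J = Ideal.ofList bs := ⟨_, rfl⟩
  have hJfg : J.FG := hJdef ▸ fg_ofList bs
  have hJleq : J ≤ q := by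
    rw [hJdef, Ideal.ofList, Ideal.span_le]
    exact fun x hx => hbsq x hx
  have hJL : J.map (algebraMap B L) = Ideal.ofList hs := by rw [hJdef, Ideal.map_ofList, hhs]
  haveI hflatJ : Module.Flat A (L ⧸ J.map (algebraMap B L)) := by
    have h1 := flat_quot_ofList (A := A) q L hs L hreg
    have hsm : (Ideal.ofList hs • (⊤ : Submodule L L)) = J.map (algebraMap B L) := by
      rw [smul_eq_mul, Ideal.mul_top, hJL]
    exact Module.Flat.of_linearEquiv ((Submodule.quotEquivOfEq _ _ hsm).restrictScalars A).symm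
  have hFB := flat_localizedModule_quotient (A := A) q.primeCompl L J hflatJ
  haveI : Module.FinitePresentation B (B ⧸ J) := by
    refine Module.finitePresentation_of_surjective (Submodule.mkQ _)
      (Submodule.mkQ_surjective _) ?_
    rw [Submodule.ker_mkQ]
    exact hJfg
  obtain ⟨gfl, hgfl, hfl⟩ := Groth.Agent.Lib27.Slice.exists_basicOpen_flat q (B ⧸ J) hFB
  rw [← hJL] at hdim
  obtain ⟨hqbprime, hqblies, hqf⟩ := quasiFiniteAt_quot' (q.comap (algebraMap A B)) q rfl hmax L J
    hJleq hdim
  haveI : Algebra.FinitePresentation A (B ⧸ J) := Algebra.FinitePresentation.quotient hJfg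
  obtain ⟨r, hr, hrqf⟩ := Groth.Agent.Lib.Helper21.FibDim.exists_quasiFinite_away A (B ⧸ J)
    (q.map (Ideal.Quotient.mk J))
  obtain ⟨ρ, rfl⟩ := Ideal.Quotient.mk_surjective r
  have hρ : ρ ∉ q := fun h => hr (Ideal.mem_map_of_mem _ h)
  obtain ⟨g, hgdef⟩ : ∃ g : B, g = gfl * ρ := ⟨_, rfl⟩
  have hgq : g ∉ q := by
    rw [hgdef]
    intro h
    rcases Ideal.IsPrime.mem_or_mem inferInstance h with h | h
    · exact hgfl h
    · exact hρ h
  have hdvdfl : gfl ∣ g := ⟨ρ, by rw [hgdef]⟩
  have hdvdρ : ρ ∣ g := ⟨gfl, by rw [hgdef]; ring⟩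
  refine ⟨g, hgq, ?_⟩
  intro Bg _ _ _ _ _
  have hgunit : IsUnit (algebraMap B Bg g) := IsLocalization.Away.algebraMap_isUnit g
  have hofList : Ideal.ofList (bs.map (algebraMap B Bg)) = J.map (algebraMap B Bg) := by
    rw [hJdef, Ideal.map_ofList]
  refine ⟨?_, ?_⟩
  · -- flatness
    rw [hofList]
    apply flat_quotient_map_of_localizedModule (A := A) (Submonoid.powers g) Bg J
    rw [Fl.flat_localizedModule_iff_forall_prime]
    intro Q hQ hdis
    haveI := hQ
    refine hfl Q (fun h => ?_)
    have : g ∈ Q := by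
      obtain ⟨w, hw⟩ := hdvdfl
      rw [hw]
      exact Ideal.mul_mem_right _ _ h
    exact Set.disjoint_left.mp hdis this (Submonoid.mem_powers g)
  · -- quasi-finiteness
    rw [hofList]
    haveI : IsScalarTower A (B ⧸ J) (Bg ⧸ J.map (algebraMap B Bg)) :=
      IsScalarTower.of_algebraMap_eq (fun a => by
        change Ideal.Quotient.mk _ (algebraMap A Bg a) =
          Ideal.Quotient.mk _ (algebraMap B Bg (algebraMap A B a))
        rw [← IsScalarTower.algebraMap_apply])
    have halg : ∀ x : B, algebraMap (B ⧸ J) (Bg ⧸ J.map (algebraMap B Bg))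
        (Ideal.Quotient.mk J x) = Ideal.Quotient.mk _ (algebraMap B Bg x) := fun x => rfl
    have hunit : IsUnit (algebraMap (B ⧸ J) (Bg ⧸ J.map (algebraMap B Bg))
        (Ideal.Quotient.mk J ρ)) := by
      rw [halg]
      apply IsUnit.map
      obtain ⟨w, hw⟩ := hdvdρ
      rw [hw, map_mul] at hgunit
      exact isUnit_of_mul_isUnit_left hgunit
    let f : Localization.Away (Ideal.Quotient.mk J ρ) →ₐ[B ⧸ J]
        (Bg ⧸ J.map (algebraMap B Bg)) :=
      IsLocalization.Away.liftAlgHom (Ideal.Quotient.mk J ρ) (f := Algebra.ofId _ _) hunit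
    refine Algebra.QuasiFinite.of_forall_exists_mul_mem_range (f.restrictScalars A) fun x => ?_
    obtain ⟨y, rfl⟩ := Ideal.Quotient.mk_surjective x
    obtain ⟨c, t, rfl⟩ := IsLocalization.exists_mk'_eq (Submonoid.powers g) y
    have h1 : (f.restrictScalars A) (algebraMap (B ⧸ J) _ (Ideal.Quotient.mk J (t : B))) =
        Ideal.Quotient.mk _ (algebraMap B Bg (t : B)) := f.commutes _
    have h2 : (f.restrictScalars A) (algebraMap (B ⧸ J) _ (Ideal.Quotient.mk J c)) =
        Ideal.Quotient.mk _ (algebraMap B Bg c) := f.commutes _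
    refine ⟨algebraMap _ _ (Ideal.Quotient.mk J (t : B)), ?_, algebraMap _ _ (Ideal.Quotient.mk J c),
      ?_⟩
    · rw [h1]
      exact (IsLocalization.map_units Bg t).map _
    · simp only [AlgHom.toRingHom_eq_coe, RingHom.coe_coe]
      rw [h1, h2, ← map_mul, IsLocalization.mk'_spec]

end Groth.Agent.Lib.Helper20.HM
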