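import Mathlib
import Groth.Agent.Lib.Helper20.HM1
import Groth.Agent.Lib.Helper20.HM2
import Groth.Agent.Lib.Helper20.HM3

/-!
# HM4: the ring-level slicing theorem for groupoids

`σ = algebraMap, τ : A → B` with a common retraction `ē : B → A`, `𝔭 ⊂ A` maximal, `q = ē⁻¹ 𝔭`.
If `B_q/𝔭B_q` is Cohen–Macaulay and `q` is the only prime `r ⊆ q` containing `σ𝔭` on which
`σ ≡ τ`, then there are `fs ⊂ 𝔭` and `g ∉ q` with `B_g/(τ fs)` flat and quasi-finite over `A`
(via `σ`).
-/

set_option autoImplicit false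
set_option linter.style.haveILetI false
set_option linter.unusedSectionVars false
universe u
open IsLocalRing

namespace Groth.Agent.Lib.Helper20.HM

open Groth.Agent.Lib27.LocalCore

section lemmaA

variable {A B : Type u} [CommRing A] [CommRing B] [Algebra A B] [Algebra.FiniteType A B]
  (τ : A →+* B) (𝔭 : Ideal A) [𝔭.IsMaximal] (q : Ideal B)

/-- Lemma A in relative form: if `r ⊆ q` is a prime containing `σ𝔭` and `τ𝔭`, and `σ ≡ τ` modulo
`q`, then `σ ≡ τ` modulo `r`. -/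
theorem sub_mem_of_prime_le (hq : q ≠ ⊤) (hστ : ∀ a, τ a - algebraMap A B a ∈ q)
    (r : Ideal B) [r.IsPrime] (hrq : r ≤ q) (hσr : 𝔭.map (algebraMap A B) ≤ r)
    (hτr : 𝔭.map τ ≤ r) : ∀ a, τ a - algebraMap A B a ∈ r := by
  letI : Field (A ⧸ 𝔭) := Ideal.Quotient.field 𝔭
  let σ' : A ⧸ 𝔭 →+* B ⧸ r := Ideal.Quotient.lift 𝔭 ((Ideal.Quotient.mk r).comp (algebraMap A B))
    (fun a ha => by
      rw [RingHom.comp_apply]
      exact Ideal.Quotient.eq_zero_iff_mem.mpr (hσr (Ideal.mem_map_of_mem _ ha)))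
  let τ' : A ⧸ 𝔭 →+* B ⧸ r := Ideal.Quotient.lift 𝔭 ((Ideal.Quotient.mk r).comp τ)
    (fun a ha => by
      rw [RingHom.comp_apply]
      exact Ideal.Quotient.eq_zero_iff_mem.mpr (hτr (Ideal.mem_map_of_mem _ ha)))
  letI : Algebra (A ⧸ 𝔭) (B ⧸ r) := σ'.toAlgebra
  haveI : IsScalarTower A (A ⧸ 𝔭) (B ⧸ r) := IsScalarTower.of_algebraMap_eq (fun a => rfl)
  haveI : Algebra.FiniteType A (B ⧸ r) :=
    Algebra.FiniteType.of_surjective (Ideal.Quotient.mkₐ A r) (Ideal.Quotient.mkₐ_surjective A r)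
  haveI : Algebra.FiniteType (A ⧸ 𝔭) (B ⧸ r) :=
    Algebra.FiniteType.of_restrictScalars_finiteType A (A ⧸ 𝔭) (B ⧸ r)
  have hm : q.map (Ideal.Quotient.mk r) ≠ ⊤ := by
    intro h
    apply hq
    have h2 : (q.map (Ideal.Quotient.mk r)).comap (Ideal.Quotient.mk r) = q := by
      rw [Ideal.comap_map_of_surjective _ Ideal.Quotient.mk_surjective,
        ← RingHom.ker_eq_comap_bot, Ideal.mk_ker]
      exact sup_eq_left.mpr hrq
    rw [← h2, h, Ideal.comap_top]
  have key := eq_algebraMap_of_sub_mem (K := A ⧸ 𝔭) (D := B ⧸ r) τ' (q.map (Ideal.Quotient.mk r)) hm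
    (by
      intro k
      obtain ⟨a, rfl⟩ := Ideal.Quotient.mk_surjective k
      change (Ideal.Quotient.mk r) (τ a) - (Ideal.Quotient.mk r) (algebraMap A B a) ∈ _
      rw [← map_sub]
      exact Ideal.mem_map_of_mem _ (hστ a))
  intro a
  have h1 := congrArg (fun φ : A ⧸ 𝔭 →+* B ⧸ r => φ (Ideal.Quotient.mk 𝔭 a)) key
  have h2 : (Ideal.Quotient.mk r) (τ a) = (Ideal.Quotient.mk r) (algebraMap A B a) := h1
  rw [← Ideal.Quotient.eq_zero_iff_mem, map_sub, h2, sub_self]

end lemmaA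

set_option maxHeartbeats 1600000 in
/-- **Ring-level slicing theorem.** -/
theorem exists_slice_groupoid {A B : Type u} [CommRing A] [CommRing B] [Algebra A B]
    [Algebra.FinitePresentation A B] [Module.Flat A B]
    (τ : A →+* B) (ē : B →+* A) (hσ : ∀ a, ē (algebraMap A B a) = a) (hτ : ∀ a, ē (τ a) = a)
    (𝔭 : Ideal A) [𝔭.IsMaximal] (q : Ideal B) [q.IsPrime] (hq : q = 𝔭.comap ē)
    (L : Type u) [CommRing L] [Algebra B L] [Algebra A L] [IsScalarTower A B L]
    [IsLocalization.AtPrime L q]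
    (hCM : LocCoh.IsCohenMacaulayLocalRing (L ⧸ fibIdeal (A := A) q L))
    (hprim : ∀ r : Ideal B, r.IsPrime → r ≤ q → 𝔭.map (algebraMap A B) ≤ r →
      (∀ a, τ a - algebraMap A B a ∈ r) → r = q) :
    ∃ fs : List A, (∀ f ∈ fs, f ∈ 𝔭) ∧ ∃ g : B, g ∉ q ∧
      ∀ (Bg : Type u) [CommRing Bg] [Algebra B Bg] [Algebra A Bg] [IsScalarTower A B Bg]
        [IsLocalization.Away g Bg],
        Module.Flat A (Bg ⧸ Ideal.ofList ((fs.map τ).map (algebraMap B Bg))) ∧
        Algebra.QuasiFinite A (Bg ⧸ Ideal.ofList ((fs.map τ).map (algebraMap B Bg))) := by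
  classical
  haveI : IsLocalRing L := IsLocalization.AtPrime.isLocalRing L q
  haveI : Module.Flat B L := IsLocalization.flat L q.primeCompl
  haveI : Module.Flat A L := Module.Flat.trans A B L
  have hēsurj : Function.Surjective ē := fun a => ⟨algebraMap A B a, hσ a⟩
  have hqmax : q.IsMaximal := hq ▸ Ideal.comap_isMaximal_of_surjective ē hēsurj
  have hqσ : q.comap (algebraMap A B) = 𝔭 := by
    ext a
    rw [Ideal.mem_comap, hq, Ideal.mem_comap, hσ]
  have hqτ : ∀ a, a ∈ 𝔭 → τ a ∈ q := by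
    intro a ha
    rw [hq, Ideal.mem_comap, hτ]
    exact ha
  have hστ : ∀ a, τ a - algebraMap A B a ∈ q := by
    intro a
    rw [hq, Ideal.mem_comap, map_sub, hτ, hσ, sub_self]
    exact Ideal.zero_mem _
  set I' : Ideal L := fibIdeal (A := A) q L with hI'
  have hI'eq : I' = 𝔭.map (algebraMap A L) := by rw [hI', fibIdeal, hqσ]
  haveI hCMi : LocCoh.IsCohenMacaulayLocalRing (L ⧸ I') := hCM
  haveI : IsLocalRing (L ⧸ I') := inferInstance
  haveI : IsNoetherianRing (L ⧸ I') := inferInstance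
  have hcm := comap_mk_maximalIdeal I'
  set ψ : A →+* L ⧸ I' := (Ideal.Quotient.mk I').comp ((algebraMap B L).comp τ) with hψ
  have hle : 𝔭.map ψ ≤ maximalIdeal (L ⧸ I') := by
    rw [Ideal.map_le_iff_le_comap]
    intro a ha
    rw [Ideal.mem_comap, hψ, RingHom.comp_apply, ← Ideal.mem_comap, hcm, RingHom.comp_apply]
    exact (IsLocalization.AtPrime.to_map_mem_maximal_iff L q (τ a)).mpr (hqτ a ha)
  have hprimF : ∀ P : Ideal (L ⧸ I'), P.IsPrime → 𝔭.map ψ ≤ P → P = maximalIdeal (L ⧸ I') := by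
    intro P hP hPle
    haveI := hP
    set PL : Ideal L := P.comap (Ideal.Quotient.mk I') with hPL
    haveI : PL.IsPrime := Ideal.comap_isPrime _ P
    set r : Ideal B := PL.comap (algebraMap B L) with hr
    haveI : r.IsPrime := Ideal.comap_isPrime _ PL
    have hI'PL : I' ≤ PL := by
      rw [hPL, ← Ideal.map_le_iff_le_comap, Ideal.map_quotient_self]
      exact bot_le
    have hrq : r ≤ q := by
      intro x hx
      by_contra hxq
      have hu : IsUnit (algebraMap B L x) :=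
        IsLocalization.map_units L (⟨x, hxq⟩ : q.primeCompl)
      exact (Ideal.IsPrime.ne_top inferInstance) (Ideal.eq_top_of_isUnit_mem PL hx hu)
    have hσr : 𝔭.map (algebraMap A B) ≤ r := by
      rw [Ideal.map_le_iff_le_comap]
      intro a ha
      rw [Ideal.mem_comap, hr, Ideal.mem_comap, ← IsScalarTower.algebraMap_apply]
      apply hI'PL
      rw [hI'eq]
      exact Ideal.mem_map_of_mem _ ha
    have hτr : 𝔭.map τ ≤ r := by
      rw [Ideal.map_le_iff_le_comap]
      intro a ha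
      rw [Ideal.mem_comap, hr, Ideal.mem_comap, hPL, Ideal.mem_comap]
      exact hPle (Ideal.mem_map_of_mem ψ ha)
    have hsub := sub_mem_of_prime_le τ 𝔭 q hqmax.ne_top hστ r hrq hσr hτr
    have hrq' : r = q := hprim r inferInstance hrq hσr hsub
    have hPLmax : PL = maximalIdeal L := by
      have h1 : PL = r.map (algebraMap B L) := by
        rw [hr]
        exact (IsLocalization.map_under q.primeCompl L PL).symm
      rw [h1, hrq']
      exact IsLocalization.AtPrime.map_eq_maximalIdeal q L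
    apply Ideal.comap_injective_of_surjective _ Ideal.Quotient.mk_surjective
    rw [hcm]
    exact hPLmax
  obtain ⟨fs, hfs𝔭, hregF, hdimF⟩ := exists_regular_params hCMi.supportDim_eq_depth ψ 𝔭 hle hprimF
  refine ⟨fs, hfs𝔭, ?_⟩
  obtain ⟨bs, hbs⟩ : ∃ bs : List B, bs = fs.map τ := ⟨_, rfl⟩
  obtain ⟨hs, hhs⟩ : ∃ hs : List L, hs = bs.map (algebraMap B L) := ⟨_, rfl⟩
  have hmapψ : fs.map ψ = hs.map (algebraMap L (L ⧸ I')) := by
    rw [hhs, hbs, List.map_map, List.map_map]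
    rfl
  rw [hmapψ] at hregF hdimF
  have hreg : RingTheory.Sequence.IsWeaklyRegular (L ⧸ I' • (⊤ : Submodule L L)) hs := by
    have h1 : RingTheory.Sequence.IsWeaklyRegular (L ⧸ I') hs :=
      (RingTheory.Sequence.isWeaklyRegular_map_algebraMap_iff (L ⧸ I') (L ⧸ I') hs).mp hregF
    have hsm : (I' • (⊤ : Submodule L L)) = I' := by rw [smul_eq_mul, Ideal.mul_top]
    exact ((Submodule.quotEquivOfEq _ _ hsm).isWeaklyRegular_congr hs).mpr h1
  have hdim : ringKrullDim (L ⧸ (I' ⊔ Ideal.ofList hs)) = 0 := by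
    rw [← ringKrullDim_eq_of_ringEquiv (DoubleQuot.quotQuotEquivQuotSup I' (Ideal.ofList hs)),
      Ideal.map_ofList]
    exact hdimF
  have hbsq : ∀ b ∈ bs, b ∈ q := by
    intro b hb
    rw [hbs] at hb
    obtain ⟨f, hf, rfl⟩ := List.mem_map.mp hb
    exact hqτ f (hfs𝔭 f hf)
  rw [hhs] at hreg hdim
  obtain ⟨g, hgq, hmain⟩ := exists_slice_of_list (A := A) q L
    (fun q' hq' hle _ => (hqmax.eq_of_le hq'.ne_top hle).symm) bs hbsq hreg hdim
  refine ⟨g, hgq, ?_⟩
  intro Bg _ _ _ _ _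
  rw [← hbs]
  exact hmain Bg

end Groth.Agent.Lib.Helper20.HM
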