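import Mathlib
import Groth.Agent.Lib.Helper20.HM4
import Groth.Agent.Lib.Helper20.HM7
import Groth.Agent.Lib.Helper20.HM8
import Groth.Agent.Lib.Helper23.CMMor1

/-!
# HM9: the ring-level slicing theorem applied in an affine chart of a groupoid scheme
-/

set_option autoImplicit false
set_option linter.style.haveILetI false
set_option linter.unusedSectionVars false
universe u
open CategoryTheory CategoryTheory.Limits AlgebraicGeometry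

namespace Groth.Agent.Lib.Helper20.HM

open Grpd Groth.Agent.Lib27.LocalCore

theorem appLE_comp_appLE_eq_id {R U : Scheme.{u}} (s : R ⟶ U) (e : U ⟶ R) (hes : e ≫ s = 𝟙 U)
    {U₀ : U.Opens} {R₀ : R.Opens} (hU₀ : IsAffineOpen U₀) (hR₀ : IsAffineOpen R₀)
    (hs₀ : R₀ ≤ s ⁻¹ᵁ U₀) (he₀ : U₀ ≤ e ⁻¹ᵁ R₀) :
    s.appLE U₀ R₀ hs₀ ≫ e.appLE R₀ U₀ he₀ = 𝟙 _ := by
  apply Spec.map_injective
  apply (cancel_mono hU₀.fromSpec).mp
  rw [Spec.map_comp, Category.assoc, IsAffineOpen.SpecMap_appLE_fromSpec s hU₀ hR₀ hs₀,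
    ← Category.assoc, IsAffineOpen.SpecMap_appLE_fromSpec e hR₀ hU₀ he₀, Category.assoc, hes,
    Category.comp_id, Spec.map_id, Category.id_comp]

variable {S : Scheme.{u}} (G : GroupoidScheme S)

set_option maxHeartbeats 1600000 in
theorem exists_ring_slice [LocallyOfFinitePresentation G.s] (hs : ∀ r : G.R, Grpd.IsCMAt G.s r)
    [LocallyQuasiFinite G.stabilizerToU]
    {U₀ : G.U.Opens} {R₀ : G.R.Opens} (hU₀ : IsAffineOpen U₀) (hR₀ : IsAffineOpen R₀) (u : G.U)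
    (hu₀ : u ∈ U₀) (hcl : IsClosed ({⟨u, hu₀⟩} : Set ↥U₀)) (hs₀ : R₀ ≤ G.s ⁻¹ᵁ U₀)
    (ht₀ : R₀ ≤ G.t ⁻¹ᵁ U₀) (he₀ : U₀ ≤ G.e ⁻¹ᵁ R₀) :
    ∃ (fs : List Γ(G.U, U₀)) (g : Γ(G.R, R₀)),
      (∀ f ∈ fs, f ∈ (hU₀.primeIdealOf ⟨u, hu₀⟩).asIdeal) ∧ G.e u ∈ G.R.basicOpen g ∧
      ((Ideal.Quotient.mk (Ideal.ofList (fs.map
          (G.t.appLE U₀ (G.R.basicOpen g) ((G.R.basicOpen_le g).trans ht₀)).hom))).comp
        (G.s.appLE U₀ (G.R.basicOpen g) ((G.R.basicOpen_le g).trans hs₀)).hom).Flat ∧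
      ((Ideal.Quotient.mk (Ideal.ofList (fs.map
          (G.t.appLE U₀ (G.R.basicOpen g) ((G.R.basicOpen_le g).trans ht₀)).hom))).comp
        (G.s.appLE U₀ (G.R.basicOpen g) ((G.R.basicOpen_le g).trans hs₀)).hom).QuasiFinite := by
  classical
  have heuR₀ : G.e u ∈ R₀ := he₀ hu₀
  have hseu : G.s (G.e u) = u := e_s_apply G u
  have hfp : RingHom.FinitePresentation (G.s.appLE U₀ R₀ hs₀).hom :=
    HasRingHomProperty.appLE (P := @LocallyOfFinitePresentation) G.s inferInstance ⟨U₀, hU₀⟩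
      ⟨R₀, hR₀⟩ hs₀
  haveI hflat_s : Flat G.s := by
    rw [Flat.iff_flat_stalkMap]
    exact fun r => (hs r).1
  have hfl : RingHom.Flat (G.s.appLE U₀ R₀ hs₀).hom :=
    HasRingHomProperty.appLE (P := @Flat) G.s inferInstance ⟨U₀, hU₀⟩ ⟨R₀, hR₀⟩ hs₀
  algebraize [(G.s.appLE U₀ R₀ hs₀).hom]
  obtain ⟨x, hx⟩ : ∃ x : G.R, x = G.e u := ⟨_, rfl⟩
  have hxR₀ : x ∈ R₀ := hx ▸ heuR₀
  have hsx : G.s x = u := hx ▸ hseu
  have hfxW : G.s x ∈ U₀ := hs₀ hxR₀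
  letI algBL : Algebra Γ(G.R, R₀) (G.R.presheaf.stalk x) :=
    G.R.presheaf.algebra_section_stalk ⟨x, hxR₀⟩
  haveI locL : IsLocalization.AtPrime (G.R.presheaf.stalk x)
      (hR₀.primeIdealOf ⟨x, hxR₀⟩).asIdeal := hR₀.isLocalization_stalk ⟨x, hxR₀⟩
  letI algAL : Algebra Γ(G.U, U₀) (G.R.presheaf.stalk x) :=
    ((algebraMap Γ(G.R, R₀) (G.R.presheaf.stalk x)).comp
      (algebraMap Γ(G.U, U₀) Γ(G.R, R₀))).toAlgebra
  haveI towerL : IsScalarTower Γ(G.U, U₀) Γ(G.R, R₀) (G.R.presheaf.stalk x) :=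
    IsScalarTower.of_algebraMap_eq (fun _ => rfl)
  have hcomp : (G.s.stalkMap x).hom.comp (G.U.presheaf.germ U₀ (G.s x) hfxW).hom =
      algebraMap Γ(G.U, U₀) (G.R.presheaf.stalk x) := by
    ext a
    change G.s.stalkMap x (G.U.presheaf.germ U₀ (G.s x) hfxW a) =
      G.R.presheaf.germ R₀ x hxR₀ (G.s.appLE U₀ R₀ hs₀ a)
    rw [Scheme.Hom.germ_stalkMap_apply, Scheme.Hom.appLE, CommRingCat.comp_apply,
      G.R.presheaf.germ_res_apply]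
  have hp : (hU₀.primeIdealOf ⟨G.s x, hfxW⟩).asIdeal =
      (hR₀.primeIdealOf ⟨x, hxR₀⟩).asIdeal.comap (algebraMap Γ(G.U, U₀) Γ(G.R, R₀)) :=
    congr($(IsAffineOpen.comap_primeIdealOf_appLE U₀ hU₀ R₀ hR₀ hs₀ hxR₀).1).symm
  have hJ : Ideal.map (G.s.stalkMap x).hom
      (IsLocalRing.maximalIdeal (G.U.presheaf.stalk (G.s x))) =
      fibIdeal (A := Γ(G.U, U₀)) (hR₀.primeIdealOf ⟨x, hxR₀⟩).asIdeal (G.R.presheaf.stalk x) := by
    letI := G.U.presheaf.algebra_section_stalk ⟨G.s x, hfxW⟩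
    haveI := hU₀.isLocalization_stalk ⟨G.s x, hfxW⟩
    have hmax := IsLocalization.AtPrime.map_eq_maximalIdeal
      (hU₀.primeIdealOf ⟨G.s x, hfxW⟩).asIdeal (G.U.presheaf.stalk (G.s x))
    rw [← hmax, Ideal.map_map, fibIdeal, ← hp]
    exact congrArg (fun φ => Ideal.map φ (hU₀.primeIdealOf ⟨G.s x, hfxW⟩).asIdeal) hcomp
  have hCM' : LocCoh.IsCohenMacaulayLocalRing (G.R.presheaf.stalk x ⧸
      fibIdeal (A := Γ(G.U, U₀)) (hR₀.primeIdealOf ⟨x, hxR₀⟩).asIdeal (G.R.presheaf.stalk x)) :=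
    (Groth.Agent.Lib.Helper23.CMMor.cm_congr_ideal hJ).mp (hs x).2
  -- the retraction
  obtain ⟨τ, hτdef⟩ : ∃ τ : Γ(G.U, U₀) →+* Γ(G.R, R₀), τ = (G.t.appLE U₀ R₀ ht₀).hom := ⟨_, rfl⟩
  obtain ⟨ē, hēdef⟩ : ∃ ē : Γ(G.R, R₀) →+* Γ(G.U, U₀), ē = (G.e.appLE R₀ U₀ he₀).hom := ⟨_, rfl⟩
  have hσ : ∀ a, ē (algebraMap Γ(G.U, U₀) Γ(G.R, R₀) a) = a := by
    intro a
    have h1 := appLE_comp_appLE_eq_id G.s G.e G.e_s hU₀ hR₀ hs₀ he₀
    have h2 := congrArg (fun φ => φ.hom a) h1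
    rw [hēdef]
    exact h2
  have hτ : ∀ a, ē (τ a) = a := by
    intro a
    have h1 := appLE_comp_appLE_eq_id G.t G.e G.e_t hU₀ hR₀ ht₀ he₀
    have h2 := congrArg (fun φ => φ.hom a) h1
    rw [hēdef, hτdef]
    exact h2
  haveI h𝔭max : (hU₀.primeIdealOf ⟨u, hu₀⟩).asIdeal.IsMaximal :=
    (Groth.Agent.Lib.Helper6.isClosed_singleton_iff_isMaximal hU₀ u hu₀).mp hcl
  have hq : (hR₀.primeIdealOf ⟨x, hxR₀⟩).asIdeal =
      (hU₀.primeIdealOf ⟨u, hu₀⟩).asIdeal.comap ē := by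
    have h1 := congr($(IsAffineOpen.comap_primeIdealOf_appLE (f := G.e) R₀ hR₀ U₀ hU₀ he₀ hu₀).1)
    rw [hēdef]
    subst hx
    exact h1.symm
  -- the primality hypothesis from the stabilizer
  have hprim : ∀ r : Ideal Γ(G.R, R₀), r.IsPrime → r ≤ (hR₀.primeIdealOf ⟨x, hxR₀⟩).asIdeal →
      (hU₀.primeIdealOf ⟨u, hu₀⟩).asIdeal.map (algebraMap Γ(G.U, U₀) Γ(G.R, R₀)) ≤ r →
      (∀ a, τ a - algebraMap Γ(G.U, U₀) Γ(G.R, R₀) a ∈ r) →
      r = (hR₀.primeIdealOf ⟨x, hxR₀⟩).asIdeal := by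
    intro r hr hrq hσr hsub
    haveI := hr
    let φ : Γ(G.R, R₀) ⟶ CommRingCat.of (Γ(G.R, R₀) ⧸ r) :=
      CommRingCat.ofHom (Ideal.Quotient.mk r)
    let ι : Spec (CommRingCat.of (Γ(G.R, R₀) ⧸ r)) ⟶ G.R := Spec.map φ ≫ hR₀.fromSpec
    have hι : ι ≫ G.s = ι ≫ G.t := by
      change (Spec.map φ ≫ hR₀.fromSpec) ≫ G.s = (Spec.map φ ≫ hR₀.fromSpec) ≫ G.t
      rw [Category.assoc, Category.assoc, ← IsAffineOpen.SpecMap_appLE_fromSpec G.s hU₀ hR₀ hs₀,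
        ← IsAffineOpen.SpecMap_appLE_fromSpec G.t hU₀ hR₀ ht₀, ← Category.assoc, ← Category.assoc,
        ← Spec.map_comp, ← Spec.map_comp]
      congr 2
      ext a
      change Ideal.Quotient.mk r (algebraMap Γ(G.U, U₀) Γ(G.R, R₀) a) =
        Ideal.Quotient.mk r ((G.t.appLE U₀ R₀ ht₀).hom a)
      symm
      rw [← sub_eq_zero, ← map_sub, Ideal.Quotient.eq_zero_iff_mem, ← hτdef]
      exact hsub a
    haveI : IsDomain (Γ(G.R, R₀) ⧸ r) := Ideal.Quotient.isDomain r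
    let η : Spec (CommRingCat.of (Γ(G.R, R₀) ⧸ r)) := ⟨⊥, Ideal.isPrime_bot⟩
    have hkerle : RingHom.ker (Ideal.Quotient.mk r) ≤ (hR₀.primeIdealOf ⟨x, hxR₀⟩).asIdeal := by
      rw [Ideal.mk_ker]; exact hrq
    let ζ : Spec (CommRingCat.of (Γ(G.R, R₀) ⧸ r)) :=
      ⟨(hR₀.primeIdealOf ⟨x, hxR₀⟩).asIdeal.map (Ideal.Quotient.mk r),
        Ideal.map_isPrime_of_surjective Ideal.Quotient.mk_surjective hkerle⟩
    have hηζ : η ⤳ ζ := (PrimeSpectrum.le_iff_specializes η ζ).mp bot_le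
    let y : Spec Γ(G.R, R₀) := ⟨r, hr⟩
    have hη' : Spec.map φ η = y := by
      apply PrimeSpectrum.ext
      change (⊥ : Ideal (Γ(G.R, R₀) ⧸ r)).comap (Ideal.Quotient.mk r) = r
      rw [← RingHom.ker_eq_comap_bot, Ideal.mk_ker]
    have hζ' : Spec.map φ ζ = hR₀.primeIdealOf ⟨x, hxR₀⟩ := by
      apply PrimeSpectrum.ext
      change ((hR₀.primeIdealOf ⟨x, hxR₀⟩).asIdeal.map (Ideal.Quotient.mk r)).comap
        (Ideal.Quotient.mk r) = _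
      rw [Ideal.comap_map_of_surjective _ Ideal.Quotient.mk_surjective,
        ← RingHom.ker_eq_comap_bot]
      exact sup_eq_left.mpr hkerle
    have hζ : ι ζ = G.e u := by
      change (Spec.map φ ≫ hR₀.fromSpec) ζ = G.e u
      rw [Scheme.Hom.comp_apply, hζ', hR₀.fromSpec_primeIdealOf ⟨x, hxR₀⟩]
      exact hx
    have hrσ : Spec.map (G.s.appLE U₀ R₀ hs₀) y = hU₀.primeIdealOf ⟨u, hu₀⟩ := by
      apply PrimeSpectrum.ext
      change r.comap (algebraMap Γ(G.U, U₀) Γ(G.R, R₀)) = _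
      exact (h𝔭max.eq_of_le (Ideal.comap_ne_top _ hr.ne_top)
        (Ideal.map_le_iff_le_comap.mp hσr)).symm
    have hηs : G.s (ι η) = u := by
      change G.s ((Spec.map φ ≫ hR₀.fromSpec) η) = u
      rw [Scheme.Hom.comp_apply, hη', ← Scheme.Hom.comp_apply,
        ← IsAffineOpen.SpecMap_appLE_fromSpec G.s hU₀ hR₀ hs₀, Scheme.Hom.comp_apply, hrσ]
      exact hU₀.fromSpec_primeIdealOf ⟨u, hu₀⟩
    have key := eq_e_of_specializes G ι hι η ζ hηζ u hζ hηs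
    have h1 : hR₀.fromSpec y = hR₀.fromSpec (hR₀.primeIdealOf ⟨x, hxR₀⟩) := by
      rw [hR₀.fromSpec_primeIdealOf ⟨x, hxR₀⟩, ← hη', ← Scheme.Hom.comp_apply]
      change ι η = x
      rw [hx]
      exact key
    exact congrArg PrimeSpectrum.asIdeal (hR₀.fromSpec.isOpenEmbedding.injective h1)
  obtain ⟨fs, hfs, g, hgq, hmain⟩ := exists_slice_groupoid τ ē hσ hτ
    (hU₀.primeIdealOf ⟨u, hu₀⟩).asIdeal (hR₀.primeIdealOf ⟨x, hxR₀⟩).asIdeal hq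
    (G.R.presheaf.stalk x) hCM' hprim
  have hxD : x ∈ G.R.basicOpen g := by
    rw [Scheme.mem_basicOpen G.R g x hxR₀]
    exact IsLocalization.map_units (G.R.presheaf.stalk x)
      (⟨g, hgq⟩ : (hR₀.primeIdealOf ⟨x, hxR₀⟩).asIdeal.primeCompl)
  haveI locU : IsLocalization.Away g Γ(G.R, G.R.basicOpen g) := hR₀.isLocalization_basicOpen g
  letI algAU : Algebra Γ(G.U, U₀) Γ(G.R, G.R.basicOpen g) :=
    ((algebraMap Γ(G.R, R₀) Γ(G.R, G.R.basicOpen g)).comp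
      (algebraMap Γ(G.U, U₀) Γ(G.R, R₀))).toAlgebra
  haveI towerU : IsScalarTower Γ(G.U, U₀) Γ(G.R, R₀) Γ(G.R, G.R.basicOpen g) :=
    IsScalarTower.of_algebraMap_eq (fun _ => rfl)
  obtain ⟨hflC, hqfC⟩ := hmain Γ(G.R, G.R.basicOpen g)
  have halgU : algebraMap Γ(G.U, U₀) Γ(G.R, G.R.basicOpen g) =
      (G.s.appLE U₀ (G.R.basicOpen g) ((G.R.basicOpen_le g).trans hs₀)).hom := by
    rw [← Scheme.Hom.appLE_map G.s hs₀ (homOfLE (G.R.basicOpen_le g)).op]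
    rfl
  have hτU : ∀ a, algebraMap Γ(G.R, R₀) Γ(G.R, G.R.basicOpen g) (τ a) =
      (G.t.appLE U₀ (G.R.basicOpen g) ((G.R.basicOpen_le g).trans ht₀)).hom a := by
    intro a
    rw [← Scheme.Hom.appLE_map G.t ht₀ (homOfLE (G.R.basicOpen_le g)).op, hτdef]
    rfl
  have hlist : (fs.map τ).map (algebraMap Γ(G.R, R₀) Γ(G.R, G.R.basicOpen g)) =
      fs.map (G.t.appLE U₀ (G.R.basicOpen g) ((G.R.basicOpen_le g).trans ht₀)).hom := by
    rw [List.map_map]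
    exact List.map_congr_left (fun a _ => hτU a)
  rw [hlist] at hflC hqfC
  refine ⟨fs, g, hfs, hx ▸ hxD, ?_, ?_⟩
  · rw [← halgU]
    exact RingHom.flat_algebraMap_iff.mpr hflC
  · rw [← halgU]
    exact RingHom.quasiFinite_algebraMap.mpr hqfC

end Groth.Agent.Lib.Helper20.HM
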