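import Mathlib
import Groth.Agent.Lib.Helper20.HM7
import Groth.Agent.Lib.Helper20.HM8
import Groth.Agent.Lib.Helper20.HM9
import Groth.Agent.Lib.Helper21.FibDim1

/-!
# HM15: residue fields at points of sections; the dimension of the stabilizer fibre bounds the
dimension of the locus `s = t = u` near `e(u)`
-/

set_option autoImplicit false
set_option linter.style.haveILetI false
set_option linter.unusedSectionVars false
universe u
open CategoryTheory CategoryTheory.Limits AlgebraicGeometry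

namespace Groth.Agent.Lib.Helper20.HM

open Grpd

/-- at a point in the image of a morphism `j` with `j ≫ f` surjective on stalks (e.g. an
immersion), the residue field extension of `f` is trivial -/
theorem trdeg_eq_zero_of_section {X Y Z : Scheme.{u}} (f : X ⟶ Y) (j : Z ⟶ X)
    [SurjectiveOnStalks (j ≫ f)] (z : Z) :
    @Algebra.trdeg (Y.residueField (f (j z))) (X.residueField (j z)) _ _
      (f.residueFieldMap (j z)).hom.toAlgebra = 0 := by
  letI := (f.residueFieldMap (j z)).hom.toAlgebra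
  have hsurj : Function.Surjective (f.residueFieldMap (j z)).hom := by
    intro y
    obtain ⟨w, hw⟩ := Groth.Agent.Lib.Helper21.FibDim.residueFieldMap_surjective (j ≫ f) z
      ((j.residueFieldMap z).hom y)
    rw [Scheme.residueFieldMap_comp] at hw
    exact ⟨w, (j.residueFieldMap z).hom.injective hw⟩
  haveI := Groth.Agent.Lib.Helper21.FibDim.isAlgebraic_of_surjective _ hsurj
  exact trdeg_eq_zero

theorem topologicalKrullDim_le_of_range_subset {X Y Z : Type*} [TopologicalSpace X]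
    [TopologicalSpace Y] [TopologicalSpace Z] (Θ : X → Y) (hΘ : Topology.IsInducing Θ)
    (ζ : Z → Y) (hζ : Topology.IsInducing ζ) (hr : Set.range ζ ⊆ Set.range Θ) :
    topologicalKrullDim Z ≤ topologicalKrullDim X := by
  choose z hz using (fun a => hr ⟨a, rfl⟩)
  have h1 : Θ ∘ z = ζ := funext hz
  have hzI : Topology.IsInducing z := (hΘ.of_comp_iff).mp (h1 ▸ hζ)
  exact hzI.topologicalKrullDim_le

variable {S : Scheme.{u}} (G : GroupoidScheme S)

instance : IsImmersion (stabToR G) := by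
  unfold stabToR
  have h1 : IsImmersion G.diag := inferInstanceAs (IsImmersion (pullback.diagonal G.pU))
  exact MorphismProperty.of_isPullback (P := @IsImmersion)
    (IsPullback.of_hasPullback G.j G.diag).flip h1

/-- a point of `R` on which `s` and `t` agree scheme-theoretically and lying over `u` comes from
the fibre of the stabilizer over `u` -/
theorem mem_range_fiber_stab {Z : Scheme.{u}} (ι : Z ⟶ G.R) (hι : ι ≫ G.s = ι ≫ G.t) (η : Z)
    (u : G.U) (hη : G.s (ι η) = u) :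
    ι η ∈ Set.range (G.stabilizerToU.fiberι u ≫ stabToR G) := by
  let x : Z ⟶ G.stabilizer := pullback.lift ι (ι ≫ G.s) (by
    apply pullback.hom_ext
    · rw [Category.assoc, Category.assoc, GroupoidScheme.j, pullback.lift_fst,
        GroupoidScheme.diag, pullback.lift_fst, Category.comp_id, hι]
    · rw [Category.assoc, Category.assoc, GroupoidScheme.j, pullback.lift_snd,
        GroupoidScheme.diag, pullback.lift_snd, Category.comp_id])
  have hx1 : x ≫ stabToR G = ι := pullback.lift_fst _ _ _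
  have hx2 : x ≫ G.stabilizerToU = ι ≫ G.s := pullback.lift_snd _ _ _
  have hmem : x η ∈ G.stabilizerToU ⁻¹' {u} := by
    rw [Set.mem_preimage, Set.mem_singleton_iff, ← Scheme.Hom.comp_apply, hx2,
      Scheme.Hom.comp_apply]
    exact hη
  rw [← Scheme.Hom.range_fiberι] at hmem
  obtain ⟨z, hz⟩ := hmem
  refine ⟨z, ?_⟩
  rw [Scheme.Hom.comp_apply, hz, ← Scheme.Hom.comp_apply, hx1]

set_option maxHeartbeats 1600000 in
/-- the dimension of a ring `Q` under `Γ(R, R₀)` whose spectrum sits (topologically embedded) in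
the generisations of `e(u)` on which `s^*𝔭 = t^*𝔭 = 0` is at most the dimension of the fibre of
the stabilizer at `u` -/
theorem ringKrullDim_le_stab_fiber [LocallyOfFiniteType G.s]
    {U₀ : G.U.Opens} {R₀ : G.R.Opens} (hU₀ : IsAffineOpen U₀) (hR₀ : IsAffineOpen R₀) (u : G.U)
    (hu₀ : u ∈ U₀) (hcl : IsClosed ({⟨u, hu₀⟩} : Set ↥U₀)) (hs₀ : R₀ ≤ G.s ⁻¹ᵁ U₀)
    (ht₀ : R₀ ≤ G.t ⁻¹ᵁ U₀) (he₀ : U₀ ≤ G.e ⁻¹ᵁ R₀)
    (Q : Type u) [CommRing Q] (π : Γ(G.R, R₀) →+* Q)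
    (hπ : Topology.IsInducing (PrimeSpectrum.comap π))
    (hle : ∀ P : PrimeSpectrum Q,
      P.asIdeal.comap π ≤ (hR₀.primeIdealOf ⟨G.e u, he₀ hu₀⟩).asIdeal)
    (hσ0 : ∀ a ∈ (hU₀.primeIdealOf ⟨u, hu₀⟩).asIdeal, π ((G.s.appLE U₀ R₀ hs₀).hom a) = 0)
    (hτ0 : ∀ a ∈ (hU₀.primeIdealOf ⟨u, hu₀⟩).asIdeal, π ((G.t.appLE U₀ R₀ ht₀).hom a) = 0) :
    ringKrullDim Q ≤ topologicalKrullDim ↥(G.stabilizerToU.fiber u) := by
  classical
  have hft : RingHom.FiniteType (G.s.appLE U₀ R₀ hs₀).hom :=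
    HasRingHomProperty.appLE (P := @LocallyOfFiniteType) G.s inferInstance ⟨U₀, hU₀⟩
      ⟨R₀, hR₀⟩ hs₀
  algebraize [(G.s.appLE U₀ R₀ hs₀).hom]
  obtain ⟨τ, hτdef⟩ : ∃ τ : Γ(G.U, U₀) →+* Γ(G.R, R₀), τ = (G.t.appLE U₀ R₀ ht₀).hom := ⟨_, rfl⟩
  obtain ⟨ē, hēdef⟩ : ∃ ē : Γ(G.R, R₀) →+* Γ(G.U, U₀), ē = (G.e.appLE R₀ U₀ he₀).hom := ⟨_, rfl⟩
  have hσ : ∀ a, ē (algebraMap Γ(G.U, U₀) Γ(G.R, R₀) a) = a := by
    intro a
    have h1 := appLE_comp_appLE_eq_id G.s G.e G.e_s hU₀ hR₀ hs₀ he₀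
    have h2 := congrArg (fun φ => φ.hom a) h1
    rw [hēdef]
    exact h2
  have hτ : ∀ a, ē (τ a) = a := by
    intro a
    have h1 := appLE_comp_appLE_eq_id G.t G.e G.e_t hU₀ hR₀ ht₀ he₀
    have h2 := congrArg (fun φ => φ.hom a) h1
    rw [hēdef, hτdef]
    exact h2
  haveI h𝔭max : (hU₀.primeIdealOf ⟨u, hu₀⟩).asIdeal.IsMaximal :=
    (Groth.Agent.Lib.Helper6.isClosed_singleton_iff_isMaximal hU₀ u hu₀).mp hcl
  have hq : (hR₀.primeIdealOf ⟨G.e u, he₀ hu₀⟩).asIdeal =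
      (hU₀.primeIdealOf ⟨u, hu₀⟩).asIdeal.comap ē := by
    have h1 := congr($(IsAffineOpen.comap_primeIdealOf_appLE (f := G.e) R₀ hR₀ U₀ hU₀ he₀ hu₀).1)
    rw [hēdef]
    exact h1.symm
  have hστ : ∀ a, τ a - algebraMap Γ(G.U, U₀) Γ(G.R, R₀) a ∈
      (hR₀.primeIdealOf ⟨G.e u, he₀ hu₀⟩).asIdeal := by
    intro a
    rw [hq, Ideal.mem_comap, map_sub, hτ, hσ, sub_self]
    exact Ideal.zero_mem _
  rw [← PrimeSpectrum.topologicalKrullDim_eq_ringKrullDim]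
  refine topologicalKrullDim_le_of_range_subset
    (⇑(G.stabilizerToU.fiberι u ≫ stabToR G))
    (G.stabilizerToU.fiberι u ≫ stabToR G).isEmbedding.isInducing
    (fun P => hR₀.fromSpec (show ↥(Spec Γ(G.R, R₀)) from PrimeSpectrum.comap π P))
    (hR₀.fromSpec.isOpenEmbedding.isInducing.comp hπ) ?_
  rintro _ ⟨P, rfl⟩
  obtain ⟨r, hrdef⟩ : ∃ r : Ideal Γ(G.R, R₀), r = P.asIdeal.comap π := ⟨_, rfl⟩
  haveI hr : r.IsPrime := hrdef ▸ Ideal.comap_isPrime π P.asIdeal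
  have hrq : r ≤ (hR₀.primeIdealOf ⟨G.e u, he₀ hu₀⟩).asIdeal := hrdef ▸ hle P
  have hσr : (hU₀.primeIdealOf ⟨u, hu₀⟩).asIdeal.map (algebraMap Γ(G.U, U₀) Γ(G.R, R₀)) ≤ r := by
    rw [Ideal.map_le_iff_le_comap]
    intro a ha
    rw [Ideal.mem_comap, hrdef, Ideal.mem_comap]
    have := hσ0 a ha
    change π (algebraMap Γ(G.U, U₀) Γ(G.R, R₀) a) = 0 at this
    rw [this]
    exact Ideal.zero_mem _
  have hτr : (hU₀.primeIdealOf ⟨u, hu₀⟩).asIdeal.map τ ≤ r := by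
    rw [Ideal.map_le_iff_le_comap]
    intro a ha
    rw [Ideal.mem_comap, hrdef, Ideal.mem_comap, hτdef, hτ0 a ha]
    exact Ideal.zero_mem _
  have hsub := sub_mem_of_prime_le τ (hU₀.primeIdealOf ⟨u, hu₀⟩).asIdeal
    (hR₀.primeIdealOf ⟨G.e u, he₀ hu₀⟩).asIdeal
    (Ideal.IsPrime.ne_top inferInstance) hστ r hrq hσr hτr
  let φ : Γ(G.R, R₀) ⟶ CommRingCat.of (Γ(G.R, R₀) ⧸ r) :=
    CommRingCat.ofHom (Ideal.Quotient.mk r)
  let ι : Spec (CommRingCat.of (Γ(G.R, R₀) ⧸ r)) ⟶ G.R := Spec.map φ ≫ hR₀.fromSpec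
  have hι : ι ≫ G.s = ι ≫ G.t := by
    change (Spec.map φ ≫ hR₀.fromSpec) ≫ G.s = (Spec.map φ ≫ hR₀.fromSpec) ≫ G.t
    rw [Category.assoc, Category.assoc, ← IsAffineOpen.SpecMap_appLE_fromSpec G.s hU₀ hR₀ hs₀,
      ← IsAffineOpen.SpecMap_appLE_fromSpec G.t hU₀ hR₀ ht₀, ← Category.assoc, ← Category.assoc,
      ← Spec.map_comp, ← Spec.map_comp]
    congr 2
    ext a
    change Ideal.Quotient.mk r (algebraMap Γ(G.U, U₀) Γ(G.R, R₀) a) =
      Ideal.Quotient.mk r ((G.t.appLE U₀ R₀ ht₀).hom a)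
    symm
    rw [← sub_eq_zero, ← map_sub, Ideal.Quotient.eq_zero_iff_mem, ← hτdef]
    exact hsub a
  haveI : IsDomain (Γ(G.R, R₀) ⧸ r) := Ideal.Quotient.isDomain r
  let η : Spec (CommRingCat.of (Γ(G.R, R₀) ⧸ r)) := ⟨⊥, Ideal.isPrime_bot⟩
  let y : Spec Γ(G.R, R₀) := ⟨r, hr⟩
  have hη' : Spec.map φ η = y := by
    apply PrimeSpectrum.ext
    change (⊥ : Ideal (Γ(G.R, R₀) ⧸ r)).comap (Ideal.Quotient.mk r) = r
    rw [← RingHom.ker_eq_comap_bot, Ideal.mk_ker]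
  have hrσ : Spec.map (G.s.appLE U₀ R₀ hs₀) y = hU₀.primeIdealOf ⟨u, hu₀⟩ := by
    apply PrimeSpectrum.ext
    change r.comap (algebraMap Γ(G.U, U₀) Γ(G.R, R₀)) = _
    exact (h𝔭max.eq_of_le (Ideal.comap_ne_top _ hr.ne_top)
      (Ideal.map_le_iff_le_comap.mp hσr)).symm
  have hηs : G.s (ι η) = u := by
    change G.s ((Spec.map φ ≫ hR₀.fromSpec) η) = u
    rw [Scheme.Hom.comp_apply, hη', ← Scheme.Hom.comp_apply,
      ← IsAffineOpen.SpecMap_appLE_fromSpec G.s hU₀ hR₀ hs₀, Scheme.Hom.comp_apply, hrσ]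
    exact hU₀.fromSpec_primeIdealOf ⟨u, hu₀⟩
  have key := mem_range_fiber_stab G ι hι η u hηs
  have hιη : ι η = hR₀.fromSpec (show ↥(Spec Γ(G.R, R₀)) from PrimeSpectrum.comap π P) := by
    change (Spec.map φ ≫ hR₀.fromSpec) η = _
    rw [Scheme.Hom.comp_apply, hη']
    congr 1
    apply PrimeSpectrum.ext
    exact hrdef
  rw [hιη] at key
  exact key

end Groth.Agent.Lib.Helper20.HM
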