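import Mathlib
import Groth.Agent.Lib.Helper25.GrpdAlg

/-!
# HM5: calculus for the slice `T = U' ×_{g,U,t} R` of a groupoid scheme

For `g : U' ⟶ U`: `T = pullback g t`, `h = pr₂ ≫ s`, the unit section `ε : U' ⟶ T`, the action
`m : T ×_{h,U,t} R ⟶ T`, the cartesian square `(m, pr₂, h, s)`, and the involution of
`R' = T ×_{h,U,g} U'` exchanging source and target.
-/

set_option autoImplicit false
set_option linter.style.haveILetI false
universe u
open CategoryTheory CategoryTheory.Limits AlgebraicGeometry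

namespace Groth.Agent.Lib.Helper20.HM

open Grpd Groth.Agent.Lib.Helper25.GrpdAlg

variable {S : Scheme.{u}} (G : GroupoidScheme S)

section calcs

variable {X : Scheme.{u}}

/-- `(x ∘ y⁻¹) ∘ y = x`. -/
theorem comp_inv_comp (x y : X ⟶ G.R) (hxy : x ≫ G.s = y ≫ G.s) :
    comp G (comp G x (y ≫ G.i) (by rw [Category.assoc, G.i_t, hxy])) y
      (by rw [comp_s, Category.assoc, G.i_s]) = x := by
  have h1 : x ≫ G.s = (y ≫ G.i) ≫ G.t := by rw [Category.assoc, G.i_t, hxy]
  have h2 : (y ≫ G.i) ≫ G.s = y ≫ G.t := by rw [Category.assoc, G.i_s]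
  refine (assoc G x (y ≫ G.i) y h1 h2).trans ?_
  refine (comp_congr G rfl ((i_comp G y).trans ?_) _ ?_).trans (comp_e G x)
  · rw [← Category.assoc, ← hxy, Category.assoc]
  · rw [Category.assoc, Category.assoc, G.e_t, Category.comp_id]

/-- `(x ∘ y) ∘ y⁻¹ = x`. -/
theorem comp_comp_inv (x y : X ⟶ G.R) (hxy : x ≫ G.s = y ≫ G.t) :
    comp G (comp G x y hxy) (y ≫ G.i) (by rw [comp_s, Category.assoc, G.i_t]) = x := by
  have h2 : y ≫ G.s = (y ≫ G.i) ≫ G.t := by rw [Category.assoc, G.i_t]
  refine (assoc G x y (y ≫ G.i) hxy h2).trans ?_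
  refine (comp_congr G rfl ((comp_i G y).trans ?_) _ ?_).trans (comp_e G x)
  · rw [← Category.assoc, ← hxy, Category.assoc]
  · rw [Category.assoc, Category.assoc, G.e_t, Category.comp_id]

/-- `i` is an involution -/
theorem i_i : G.i ≫ G.i = 𝟙 G.R := by
  have h : G.i ≫ G.s = 𝟙 G.R ≫ G.t := by rw [G.i_s, Category.id_comp]
  have hc : comp G G.i (𝟙 G.R) h = G.i ≫ G.t ≫ G.e := by
    have h1 := i_comp G (𝟙 G.R)
    refine (comp_congr G (Category.id_comp _).symm rfl _ _).trans (h1.trans ?_)
    rw [Category.id_comp, ← Category.assoc, G.i_t]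
  exact (eq_inv_of_comp_eq G G.i (𝟙 G.R) h hc).symm

end calcs

variable {U' : Scheme.{u}} (g : U' ⟶ G.U)

/-- the slice `T = U' ×_{g,U,t} R` -/
noncomputable abbrev T : Scheme.{u} := pullback g G.t

/-- `h = s ∘ pr₂ : T ⟶ U` -/
noncomputable abbrev hT : T G g ⟶ G.U := pullback.snd g G.t ≫ G.s

/-- the unit section `u' ↦ (u', e (g u'))` -/
noncomputable def ε : U' ⟶ T G g :=
  pullback.lift (𝟙 U') (g ≫ G.e) (by rw [Category.id_comp, Category.assoc, G.e_t, Category.comp_id])

@[reassoc (attr := simp)]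
theorem ε_fst : ε G g ≫ pullback.fst g G.t = 𝟙 U' := pullback.lift_fst _ _ _

@[reassoc (attr := simp)]
theorem ε_snd : ε G g ≫ pullback.snd g G.t = g ≫ G.e := pullback.lift_snd _ _ _

@[reassoc]
theorem ε_hT : ε G g ≫ hT G g = g := by
  rw [ε_snd_assoc, G.e_s, Category.comp_id]

/-- `Q = T ×_{h,U,t} R` -/
noncomputable abbrev Q : Scheme.{u} := pullback (hT G g) G.t

theorem q_cond : (pullback.fst (hT G g) G.t ≫ pullback.snd g G.t) ≫ G.s =
    pullback.snd (hT G g) G.t ≫ G.t := by
  rw [Category.assoc]; exact pullback.condition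

/-- the action `(z, r) ↦ z · r` -/
noncomputable def m : Q G g ⟶ T G g :=
  pullback.lift (pullback.fst (hT G g) G.t ≫ pullback.fst g G.t)
    (comp G (pullback.fst (hT G g) G.t ≫ pullback.snd g G.t) (pullback.snd (hT G g) G.t)
      (q_cond G g))
    (by rw [comp_t, Category.assoc, Category.assoc, pullback.condition])

@[reassoc]
theorem m_fst : m G g ≫ pullback.fst g G.t =
    pullback.fst (hT G g) G.t ≫ pullback.fst g G.t := pullback.lift_fst _ _ _

@[reassoc]
theorem m_snd : m G g ≫ pullback.snd g G.t =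
    comp G (pullback.fst (hT G g) G.t ≫ pullback.snd g G.t) (pullback.snd (hT G g) G.t)
      (q_cond G g) := pullback.lift_snd _ _ _

theorem m_hT : m G g ≫ hT G g = pullback.snd (hT G g) G.t ≫ G.s := by
  rw [m_snd_assoc, comp_s]

/-- the square `(m, pr₂, h, s)` is cartesian -/
theorem isPullback_m : IsPullback (m G g) (pullback.snd (hT G g) G.t) (hT G g) G.s := by
  refine ⟨⟨m_hT G g⟩, ⟨PullbackCone.IsLimit.mk _ (fun c => ?_) ?_ ?_ ?_⟩⟩
  · -- the lift
    have hc : c.fst ≫ hT G g = c.snd ≫ G.s := c.condition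
    have h1 : (c.fst ≫ pullback.snd g G.t) ≫ G.s = (c.snd ≫ G.i) ≫ G.t := by
      rw [Category.assoc, hc, Category.assoc, G.i_t]
    refine pullback.lift (pullback.lift (c.fst ≫ pullback.fst g G.t)
      (comp G (c.fst ≫ pullback.snd g G.t) (c.snd ≫ G.i) h1) ?_) c.snd ?_
    · rw [comp_t, Category.assoc, Category.assoc, pullback.condition]
    · rw [pullback.lift_snd_assoc, comp_s, Category.assoc, G.i_s]
  · -- fac fst
    intro c
    have hc : c.fst ≫ hT G g = c.snd ≫ G.s := c.condition
    apply pullback.hom_ext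
    · rw [Category.assoc, m_fst, pullback.lift_fst_assoc, pullback.lift_fst]
    · rw [Category.assoc, m_snd, precomp]
      refine (comp_congr G (by rw [pullback.lift_fst_assoc, pullback.lift_snd])
        (pullback.lift_snd _ _ _) _ ?_).trans (comp_inv_comp G _ _ ?_)
      · rw [comp_s, Category.assoc, G.i_s]
      · rw [Category.assoc]; exact hc
  · -- fac snd
    intro c
    exact pullback.lift_snd _ _ _
  · -- uniqueness
    intro c l hl1 hl2
    have hc : c.fst ≫ hT G g = c.snd ≫ G.s := c.condition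
    apply pullback.hom_ext
    · rw [pullback.lift_fst]
      apply pullback.hom_ext
      · rw [pullback.lift_fst, Category.assoc, ← m_fst, ← Category.assoc, hl1]
      · rw [pullback.lift_snd]
        have h3 : l ≫ m G g ≫ pullback.snd g G.t = c.fst ≫ pullback.snd g G.t := by
          rw [← Category.assoc, hl1]
        rw [m_snd, precomp] at h3
        have hxy : (l ≫ pullback.fst (hT G g) G.t ≫ pullback.snd g G.t) ≫ G.s =
            (l ≫ pullback.snd (hT G g) G.t) ≫ G.t := by
          rw [Category.assoc, Category.assoc, Category.assoc, ← pullback.condition]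
        have h4 := comp_comp_inv G (l ≫ pullback.fst (hT G g) G.t ≫ pullback.snd g G.t)
          (l ≫ pullback.snd (hT G g) G.t) hxy
        rw [Category.assoc]
        refine h4.symm.trans ?_
        exact comp_congr G h3 (by rw [hl2]) _ _
    · rw [pullback.lift_snd]; exact hl2

/-- the section `z ↦ (ε (π z), ρ z)` of `m` -/
noncomputable def γ₀ : T G g ⟶ Q G g :=
  pullback.lift (pullback.fst g G.t ≫ ε G g) (pullback.snd g G.t)
    (by rw [Category.assoc, ε_hT, pullback.condition])

@[reassoc]
theorem γ₀_fst : γ₀ G g ≫ pullback.fst (hT G g) G.t = pullback.fst g G.t ≫ ε G g :=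
  pullback.lift_fst _ _ _

@[reassoc]
theorem γ₀_snd : γ₀ G g ≫ pullback.snd (hT G g) G.t = pullback.snd g G.t :=
  pullback.lift_snd _ _ _

theorem γ₀_m : γ₀ G g ≫ m G g = 𝟙 _ := by
  apply pullback.hom_ext
  · rw [Category.assoc, m_fst, γ₀_fst_assoc, ε_fst, Category.comp_id, Category.id_comp]
  · rw [Category.assoc, m_snd, precomp, Category.id_comp]
    refine (comp_congr G ?_ (γ₀_snd G g) _ ?_).trans (e_comp G (pullback.snd g G.t))
    · rw [γ₀_fst_assoc, ε_snd, ← Category.assoc, pullback.condition, Category.assoc]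
    · rw [Category.assoc, Category.assoc, G.e_s, Category.comp_id]

section involution

/-- `R' = T ×_{h,U,g} U'` -/
noncomputable abbrev R' : Scheme.{u} := pullback (hT G g) g

/-- inverse on `R'` -/
noncomputable def ι' : R' G g ⟶ R' G g :=
  pullback.lift
    (pullback.lift (pullback.snd (hT G g) g)
      (pullback.fst (hT G g) g ≫ pullback.snd g G.t ≫ G.i)
      (by rw [Category.assoc, Category.assoc, G.i_t, ← pullback.condition]))
    (pullback.fst (hT G g) g ≫ pullback.fst g G.t)
    (by rw [pullback.lift_snd_assoc, Category.assoc, Category.assoc, G.i_s, Category.assoc,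
      pullback.condition])

theorem ι'_snd : ι' G g ≫ pullback.snd (hT G g) g =
    pullback.fst (hT G g) g ≫ pullback.fst g G.t := pullback.lift_snd _ _ _

theorem ι'_fst_fst : ι' G g ≫ pullback.fst (hT G g) g ≫ pullback.fst g G.t =
    pullback.snd (hT G g) g := by
  rw [ι', pullback.lift_fst_assoc, pullback.lift_fst]

theorem ι'_fst_snd : ι' G g ≫ pullback.fst (hT G g) g ≫ pullback.snd g G.t =
    pullback.fst (hT G g) g ≫ pullback.snd g G.t ≫ G.i := by
  rw [ι', pullback.lift_fst_assoc, pullback.lift_snd]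

theorem ι'_ι' : ι' G g ≫ ι' G g = 𝟙 _ := by
  apply pullback.hom_ext
  · apply pullback.hom_ext
    · rw [Category.assoc, Category.assoc, ι'_fst_fst, ι'_snd, Category.id_comp]
    · rw [Category.assoc, Category.assoc, ι'_fst_snd, ← Category.assoc, ← Category.assoc,
        Category.assoc (ι' G g), ι'_fst_snd, Category.assoc, Category.assoc, i_i,
        Category.comp_id, Category.id_comp]
  · rw [Category.assoc, ι'_snd, ι'_fst_fst, Category.id_comp]

instance : IsIso (ι' G g) := ⟨ι' G g, ι'_ι' G g, ι'_ι' G g⟩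

end involution

end Groth.Agent.Lib.Helper20.HM
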