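import Mathlib
import Groth.Agent.Lib.Helper20.HM5
import Groth.Agent.Lib.Helper20.HM7
import Groth.Agent.Lib.Helper21.BaseChg4
import Groth.Agent.Lib.Helper6.EtaleSq
import Groth.Agent.Lib.Helper18.TopDim

/-!
# HM19: the fibres of the stabilizer group scheme are equidimensional: `dim G_u = dim_{e(u)} G_u`
-/

set_option autoImplicit false
set_option linter.style.haveILetI false
set_option linter.unusedSectionVars false
universe u
open CategoryTheory CategoryTheory.Limits AlgebraicGeometry

namespace Groth.Agent.Lib.Helper20.HM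

open Grpd Groth.Agent.Lib.Helper25.GrpdAlg

variable {S : Scheme.{u}} (G : GroupoidScheme S)

section calcs

variable {X : Scheme.{u}}

/-- `α⁻¹ ∘ (α ∘ β) = β` -/
theorem inv_comp_comp (α β : X ⟶ G.R) (h : α ≫ G.s = β ≫ G.t) :
    comp G (α ≫ G.i) (comp G α β h) (by rw [comp_t, Category.assoc, G.i_s]) = β := by
  have h0 : (α ≫ G.i) ≫ G.s = α ≫ G.t := by rw [Category.assoc, G.i_s]
  refine (assoc G (α ≫ G.i) α β h0 h).symm.trans ?_
  refine (comp_congr G ((i_comp G α).trans ?_) rfl _ ?_).trans (e_comp G β)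
  · rw [← Category.assoc, h, Category.assoc]
  · rw [Category.assoc, Category.assoc, G.e_s, Category.comp_id]

/-- `α ∘ (α⁻¹ ∘ β) = β` -/
theorem comp_inv_comp_left (α β : X ⟶ G.R) (h : (α ≫ G.i) ≫ G.s = β ≫ G.t) :
    comp G α (comp G (α ≫ G.i) β h) (by rw [comp_t, Category.assoc, G.i_t]) = β := by
  have h0 : α ≫ G.s = (α ≫ G.i) ≫ G.t := by rw [Category.assoc, G.i_t]
  refine (assoc G α (α ≫ G.i) β h0 h).symm.trans ?_
  refine (comp_congr G ((comp_i G α).trans ?_) rfl _ ?_).trans (e_comp G β)
  · rw [← Category.assoc β, ← h, Category.assoc, Category.assoc, ← Category.assoc G.i, G.i_s]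
  · rw [Category.assoc, Category.assoc, G.e_s, Category.comp_id]

end calcs

theorem stabToR_s : stabToR G ≫ G.s = G.stabilizerToU := by
  have h : stabToR G ≫ G.j = G.stabilizerToU ≫ G.diag := pullback.condition
  have h2 := congrArg (· ≫ pullback.snd G.pU G.pU) h
  simp only [Category.assoc] at h2
  rw [GroupoidScheme.j, pullback.lift_snd, GroupoidScheme.diag, pullback.lift_snd,
    Category.comp_id] at h2
  exact h2

theorem stabToR_t : stabToR G ≫ G.t = G.stabilizerToU := by
  have h : stabToR G ≫ G.j = G.stabilizerToU ≫ G.diag := pullback.condition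
  have h2 := congrArg (· ≫ pullback.fst G.pU G.pU) h
  simp only [Category.assoc] at h2
  rw [GroupoidScheme.j, pullback.lift_fst, GroupoidScheme.diag, pullback.lift_fst,
    Category.comp_id] at h2
  exact h2

/-- a point of `R` with equal source and target as a point of the stabilizer -/
noncomputable def stabLift {T : Scheme.{u}} (r : T ⟶ G.R) (h : r ≫ G.s = r ≫ G.t) :
    T ⟶ G.stabilizer :=
  pullback.lift r (r ≫ G.s) (by
    apply pullback.hom_ext
    · rw [Category.assoc, Category.assoc, GroupoidScheme.j, pullback.lift_fst,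
        GroupoidScheme.diag, pullback.lift_fst, Category.comp_id, h]
    · rw [Category.assoc, Category.assoc, GroupoidScheme.j, pullback.lift_snd,
        GroupoidScheme.diag, pullback.lift_snd, Category.comp_id])

@[reassoc]
theorem stabLift_toR {T : Scheme.{u}} (r : T ⟶ G.R) (h : r ≫ G.s = r ≫ G.t) :
    stabLift G r h ≫ stabToR G = r := pullback.lift_fst _ _ _

@[reassoc]
theorem stabLift_toU {T : Scheme.{u}} (r : T ⟶ G.R) (h : r ≫ G.s = r ≫ G.t) :
    stabLift G r h ≫ G.stabilizerToU = r ≫ G.s := pullback.lift_snd _ _ _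

theorem stab_hom_ext {T : Scheme.{u}} (a b : T ⟶ G.stabilizer)
    (h : a ≫ stabToR G = b ≫ stabToR G) : a = b := (cancel_mono (stabToR G)).mp h

/-- `G ×_U G` -/
noncomputable abbrev PS : Scheme.{u} := pullback G.stabilizerToU G.stabilizerToU

theorem ps_cond : (pullback.fst G.stabilizerToU G.stabilizerToU ≫ stabToR G) ≫ G.s =
    (pullback.snd G.stabilizerToU G.stabilizerToU ≫ stabToR G) ≫ G.t := by
  rw [Category.assoc, Category.assoc, stabToR_s, stabToR_t, pullback.condition]

/-- multiplication of the stabilizer -/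
noncomputable def mulS : PS G ⟶ G.stabilizer :=
  stabLift G (comp G (pullback.fst G.stabilizerToU G.stabilizerToU ≫ stabToR G)
    (pullback.snd G.stabilizerToU G.stabilizerToU ≫ stabToR G) (ps_cond G)) (by
    rw [comp_s, comp_t, Category.assoc, Category.assoc, stabToR_s, stabToR_t,
      pullback.condition])

@[reassoc]
theorem mulS_toR : mulS G ≫ stabToR G =
    comp G (pullback.fst G.stabilizerToU G.stabilizerToU ≫ stabToR G)
      (pullback.snd G.stabilizerToU G.stabilizerToU ≫ stabToR G) (ps_cond G) :=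
  stabLift_toR G _ _

theorem mulS_toU : mulS G ≫ G.stabilizerToU =
    pullback.fst G.stabilizerToU G.stabilizerToU ≫ G.stabilizerToU := by
  rw [mulS, stabLift_toU, comp_s, Category.assoc, stabToR_s, pullback.condition]

/-- `(a, b) ↦ (a, a·b)` is an isomorphism: the square `(mul, pr₁, f, f)` is cartesian -/
theorem isPullback_mulS : IsPullback (mulS G) (pullback.fst G.stabilizerToU G.stabilizerToU)
    G.stabilizerToU G.stabilizerToU := by
  refine ⟨⟨mulS_toU G⟩, ⟨PullbackCone.IsLimit.mk _ (fun c => ?_) ?_ ?_ ?_⟩⟩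
  · -- the lift
    have hc : c.fst ≫ G.stabilizerToU = c.snd ≫ G.stabilizerToU := c.condition
    have h1 : ((c.snd ≫ stabToR G) ≫ G.i) ≫ G.s = (c.fst ≫ stabToR G) ≫ G.t := by
      rw [Category.assoc, G.i_s, Category.assoc, Category.assoc, stabToR_t, hc]
    refine pullback.lift c.snd (stabLift G
      (comp G ((c.snd ≫ stabToR G) ≫ G.i) (c.fst ≫ stabToR G) h1) ?_) ?_
    · rw [comp_s, comp_t, Category.assoc (c.snd ≫ stabToR G), G.i_t, Category.assoc,
        Category.assoc, stabToR_s, hc]
    · rw [stabLift_toU, comp_s, Category.assoc, stabToR_s, hc]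
  · -- fac fst
    intro c
    have hc : c.fst ≫ G.stabilizerToU = c.snd ≫ G.stabilizerToU := c.condition
    apply stab_hom_ext
    rw [Category.assoc, mulS_toR, precomp]
    refine (comp_congr G (by rw [pullback.lift_fst_assoc])
      (by rw [pullback.lift_snd_assoc, stabLift_toR]) _ ?_).trans
      (comp_inv_comp_left G (c.snd ≫ stabToR G) (c.fst ≫ stabToR G) ?_)
    · rw [comp_t, Category.assoc (c.snd ≫ stabToR G), G.i_t]
  · -- fac snd
    intro c
    exact pullback.lift_fst _ _ _
  · -- uniqueness
    intro c l hl1 hl2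
    have hc : c.fst ≫ G.stabilizerToU = c.snd ≫ G.stabilizerToU := c.condition
    apply pullback.hom_ext
    · rw [pullback.lift_fst]; exact hl2
    · rw [pullback.lift_snd]
      apply stab_hom_ext
      rw [stabLift_toR]
      have h3 : l ≫ mulS G ≫ stabToR G = c.fst ≫ stabToR G := by
        rw [← Category.assoc, hl1]
      rw [mulS_toR, precomp] at h3
      have hxy : (l ≫ pullback.fst G.stabilizerToU G.stabilizerToU ≫ stabToR G) ≫ G.s =
          (l ≫ pullback.snd G.stabilizerToU G.stabilizerToU ≫ stabToR G) ≫ G.t := by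
        rw [Category.assoc, Category.assoc, Category.assoc, Category.assoc, stabToR_s, stabToR_t,
          pullback.condition]
      have h4 := inv_comp_comp G (l ≫ pullback.fst G.stabilizerToU G.stabilizerToU ≫ stabToR G)
        (l ≫ pullback.snd G.stabilizerToU G.stabilizerToU ≫ stabToR G) hxy
      rw [Category.assoc]
      refine h4.symm.trans ?_
      refine comp_congr G ?_ h3 _ _
      rw [← Category.assoc l, hl2]

/-- the section `a ↦ (a, e)` -/
noncomputable def ε₂ : G.stabilizer ⟶ PS G :=
  pullback.lift (𝟙 _) (G.stabilizerToU ≫ G.eStab)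
    (by rw [Category.id_comp, Category.assoc, eStab_toU, Category.comp_id])

theorem ε₂_mulS : ε₂ G ≫ mulS G = 𝟙 _ := by
  apply stab_hom_ext
  rw [Category.assoc, mulS_toR, precomp, Category.id_comp]
  refine (comp_congr G (by rw [ε₂, pullback.lift_fst_assoc, Category.id_comp])
    (by rw [ε₂, pullback.lift_snd_assoc, Category.assoc, eStab_fst, ← stabToR_s,
      Category.assoc]) _ ?_).trans (comp_e G (stabToR G))
  rw [Category.assoc, Category.assoc, G.e_t, Category.comp_id]

/-- **Homogeneity of the stabilizer**: the local dimension of the fibre of `G → U` at a point equals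
that at the unit point of the fibre. -/
theorem fibreDimAt_stab_eq [LocallyOfFiniteType G.stabilizerToU] (x : G.stabilizer) :
    FlatMor.fibreDimAt G.stabilizerToU x =
      FlatMor.fibreDimAt G.stabilizerToU (G.eStab (G.stabilizerToU x)) := by
  have hA := Groth.Agent.Lib.Helper21.BaseChg.fibreDimAt_eq_of_isPullback
    (IsPullback.of_hasPullback G.stabilizerToU G.stabilizerToU).flip (ε₂ G x)
  have hB := Groth.Agent.Lib.Helper21.BaseChg.fibreDimAt_eq_of_isPullback
    (isPullback_mulS G) (ε₂ G x)
  have h1 : pullback.snd G.stabilizerToU G.stabilizerToU (ε₂ G x) =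
      G.eStab (G.stabilizerToU x) := by
    rw [← Scheme.Hom.comp_apply, ε₂, pullback.lift_snd, Scheme.Hom.comp_apply]
  have h2 : mulS G (ε₂ G x) = x := by
    rw [← Scheme.Hom.comp_apply, ε₂_mulS]
    rfl
  rw [h1] at hA
  rw [h2] at hB
  rw [← hB, hA]

/-- **The fibres of the stabilizer are equidimensional**: `dim G_u = dim_{e(u)} G_u`. -/
theorem topologicalKrullDim_fiber_stab [LocallyOfFiniteType G.stabilizerToU] (u : G.U) :
    topologicalKrullDim ↥(G.stabilizerToU.fiber u) =
      FlatMor.fibreDimAt G.stabilizerToU (G.eStab u) := by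
  rw [Groth.Agent.Lib.Helper18.TopDim.topologicalKrullDim_eq_iSup_localDim]
  have hfib : ∀ z : ↥(G.stabilizerToU.fiber u),
      G.stabilizerToU (G.stabilizerToU.fiberι u z) = u := fun z =>
    (G.stabilizerToU.fiberHomeo u z).2
  have hloc : ∀ z : ↥(G.stabilizerToU.fiber u),
      FlatMor.localDim ↥(G.stabilizerToU.fiber u) z =
        FlatMor.fibreDimAt G.stabilizerToU (G.eStab u) := by
    intro z
    rw [Groth.Agent.Lib.Helper6.EtaleSq.localDim_fiber_eq_fibreDimAt G.stabilizerToU
      (G.stabilizerToU.fiberι u z) u (hfib z) z rfl, fibreDimAt_stab_eq, hfib]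
  apply le_antisymm
  · exact iSup_le fun z => (hloc z).le
  · have hmem : G.eStab u ∈ G.stabilizerToU ⁻¹' {u} := by
      rw [Set.mem_preimage, Set.mem_singleton_iff, ← Scheme.Hom.comp_apply, eStab_toU]
      rfl
    rw [← Scheme.Hom.range_fiberι] at hmem
    obtain ⟨z₀, -⟩ := hmem
    rw [← hloc z₀]
    exact le_iSup (fun z => FlatMor.localDim ↥(G.stabilizerToU.fiber u) z) z₀

end Groth.Agent.Lib.Helper20.HM
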