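import Mathlib
import Groth.Agent.Lib.Helper20.HM15
import Groth.Agent.Lib.Helper20.HM19
import Groth.Agent.Lib.Helper14.FibDimComp
import Groth.Agent.Lib.Helper21.FibDim12

/-!
# HM20: the local ring of the stabilizer fibre at the unit point is a quotient of
`O_{R,e(u)}/(s^*𝔪_u + t^*𝔪_u)`
-/

set_option autoImplicit false
set_option linter.style.haveILetI false
set_option linter.unusedSectionVars false
universe u
open CategoryTheory CategoryTheory.Limits AlgebraicGeometry

namespace Groth.Agent.Lib.Helper20.HM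

open Grpd

/-- the ideal of the fibre through `x` in the local ring at `x` -/
noncomputable abbrev fibId {X Y : Scheme.{u}} (φ : X ⟶ Y) (x : X) : Ideal (X.presheaf.stalk x) :=
  (IsLocalRing.maximalIdeal (Y.presheaf.stalk (φ x))).map (φ.stalkMap x).hom

theorem fibId_comp {X Y Z : Scheme.{u}} (ι : X ⟶ Y) (φ : Y ⟶ Z) (x : X) :
    fibId (ι ≫ φ) x = (fibId φ (ι x)).map (ι.stalkMap x).hom := by
  change Ideal.map ((ι ≫ φ).stalkMap x).hom _ = _
  rw [Scheme.Hom.stalkMap_comp, Ideal.map_map]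
  rfl

theorem fibId_congr {X Y : Scheme.{u}} (φ₁ φ₂ : X ⟶ Y) (h : φ₁ = φ₂) (x : X) :
    fibId φ₁ x = fibId φ₂ x := by
  subst h; rfl

theorem ringKrullDim_CF_le_of_surjectiveOnStalks {Z R U : Scheme.{u}} (ι : Z ⟶ R)
    [SurjectiveOnStalks ι] (s t : R ⟶ U) (hst : ι ≫ s = ι ≫ t) (z : Z) :
    ringKrullDim (Z.presheaf.stalk z ⧸ fibId (ι ≫ s) z) ≤
      ringKrullDim (R.presheaf.stalk (ι z) ⧸ (fibId s (ι z) ⊔ fibId t (ι z))) := by
  have hK : ∀ a ∈ fibId s (ι z) ⊔ fibId t (ι z),
      ((Ideal.Quotient.mk (fibId (ι ≫ s) z)).comp (ι.stalkMap z).hom) a = 0 := by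
    intro a ha
    rw [RingHom.comp_apply, Ideal.Quotient.eq_zero_iff_mem]
    have h1 : (ι.stalkMap z).hom a ∈
        (fibId s (ι z) ⊔ fibId t (ι z)).map (ι.stalkMap z).hom := Ideal.mem_map_of_mem _ ha
    rw [Ideal.map_sup, ← fibId_comp, ← fibId_comp, ← fibId_congr _ _ hst, sup_idem] at h1
    exact h1
  refine ringKrullDim_le_of_surjective (Ideal.Quotient.lift _ _ hK) ?_
  apply Ideal.Quotient.lift_surjective_of_surjective
  exact Ideal.Quotient.mk_surjective.comp (ι.stalkMap_surjective z)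

variable {S : Scheme.{u}} (G : GroupoidScheme S)

theorem fibreDimAt_stab_le [LocallyOfFiniteType G.stabilizerToU] (u : G.U) :
    FlatMor.fibreDimAt G.stabilizerToU (G.eStab u) ≤
      ringKrullDim (G.R.presheaf.stalk (G.e u) ⧸ (fibId G.s (G.e u) ⊔ fibId G.t (G.e u))) := by
  obtain ⟨a, b, ha, hb, hab⟩ :=
    Groth.Agent.Lib.Helper21.FibDim.exists_fibreDimAt_eq_add G.stabilizerToU (G.eStab u)
  have hbCF := Groth.Agent.Lib.Helper14.AS.ringKrullDim_fiber_stalk G.stabilizerToU (G.eStab u)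
  have ha0 : a = 0 := by
    haveI : SurjectiveOnStalks (G.eStab ≫ G.stabilizerToU) := by
      rw [eStab_toU]; infer_instance
    have h0 := trdeg_eq_zero_of_section G.stabilizerToU G.eStab u
    rw [h0] at ha
    exact_mod_cast ha.symm
  rw [hab, ha0, zero_add, ← hb, hbCF]
  have key : ∀ x : G.R, x = stabToR G (G.eStab u) →
      ringKrullDim (G.stabilizer.presheaf.stalk (G.eStab u) ⧸
        fibId (stabToR G ≫ G.s) (G.eStab u)) ≤
      ringKrullDim (G.R.presheaf.stalk x ⧸ (fibId G.s x ⊔ fibId G.t x)) := by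
    intro x hx
    subst hx
    exact ringKrullDim_CF_le_of_surjectiveOnStalks (stabToR G) G.s G.t
      ((stabToR_s G).trans (stabToR_t G).symm) (G.eStab u)
  have hpt : G.e u = stabToR G (G.eStab u) := by
    rw [← Scheme.Hom.comp_apply, eStab_fst]
  have h1 := key (G.e u) hpt
  have h2 : fibId (stabToR G ≫ G.s) (G.eStab u) = fibId G.stabilizerToU (G.eStab u) :=
    fibId_congr _ _ (stabToR_s G) _
  rw [h2] at h1
  exact h1

end Groth.Agent.Lib.Helper20.HM
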