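import Mathlib
import Groth.Agent.Lib.Helper20.HM20
import Groth.Agent.Lib.Helper25.GrpdTrans

/-!
# HM24: `dim O_{R,e(u)}/(s^*𝔪_u + t^*𝔪_u) = dim G_u` at finite type points, and homogeneity of the
local dimension of the fibres of `s`
-/

set_option autoImplicit false
set_option linter.style.haveILetI false
set_option linter.unusedSectionVars false
universe u
open CategoryTheory CategoryTheory.Limits AlgebraicGeometry

namespace Groth.Agent.Lib.Helper20.HM

open Grpd

variable {S : Scheme.{u}} (G : GroupoidScheme S)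

set_option maxHeartbeats 1600000 in
theorem ringKrullDim_stalk_quot_eq_stab [LocallyOfFiniteType G.s] [LocallyOfFiniteType G.t]
    (u : G.U) (hu : LocallyOfFiniteType (G.U.fromSpecResidueField u)) :
    ringKrullDim (G.R.presheaf.stalk (G.e u) ⧸ (fibId G.s (G.e u) ⊔ fibId G.t (G.e u))) =
      topologicalKrullDim ↥(G.stabilizerToU.fiber u) := by
  obtain ⟨U₀, R₀, hU₀, hR₀, hu₀, hcl, hs₀, ht₀, he₀⟩ := exists_chart G u hu
  haveI : LocallyOfFiniteType G.stabilizerToU := by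
    rw [← stabToR_s]; infer_instance
  apply le_antisymm
  · have hxR₀ : G.e u ∈ R₀ := he₀ hu₀
    letI algBL : Algebra Γ(G.R, R₀) (G.R.presheaf.stalk (G.e u)) :=
      G.R.presheaf.algebra_section_stalk ⟨G.e u, hxR₀⟩
    haveI locL : IsLocalization.AtPrime (G.R.presheaf.stalk (G.e u))
        (hR₀.primeIdealOf ⟨G.e u, hxR₀⟩).asIdeal := hR₀.isLocalization_stalk ⟨G.e u, hxR₀⟩
    obtain ⟨K, hKdef⟩ : ∃ K : Ideal (G.R.presheaf.stalk (G.e u)),
      K = fibId G.s (G.e u) ⊔ fibId G.t (G.e u) := ⟨_, rfl⟩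
    rw [← hKdef]
    -- germs of functions vanishing at `u`
    have hgerm : ∀ (φ : G.R ⟶ G.U) (hφ₀ : R₀ ≤ φ ⁻¹ᵁ U₀) (hφu : φ (G.e u) = u)
        (a : Γ(G.U, U₀)), a ∈ (hU₀.primeIdealOf ⟨u, hu₀⟩).asIdeal →
        algebraMap Γ(G.R, R₀) (G.R.presheaf.stalk (G.e u)) ((φ.appLE U₀ R₀ hφ₀).hom a) ∈
          fibId φ (G.e u) := by
      intro φ hφ₀ hφu a ha
      have hfxW : φ (G.e u) ∈ U₀ := hφ₀ hxR₀
      have h1 : algebraMap Γ(G.R, R₀) (G.R.presheaf.stalk (G.e u)) ((φ.appLE U₀ R₀ hφ₀).hom a) =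
          (φ.stalkMap (G.e u)).hom (G.U.presheaf.germ U₀ (φ (G.e u)) hfxW a) := by
        change G.R.presheaf.germ R₀ (G.e u) hxR₀ (φ.appLE U₀ R₀ hφ₀ a) =
          φ.stalkMap (G.e u) (G.U.presheaf.germ U₀ (φ (G.e u)) hfxW a)
        rw [Scheme.Hom.germ_stalkMap_apply, Scheme.Hom.appLE, CommRingCat.comp_apply,
          G.R.presheaf.germ_res_apply]
      rw [h1]
      apply Ideal.mem_map_of_mem
      letI := G.U.presheaf.algebra_section_stalk ⟨φ (G.e u), hfxW⟩
      haveI := hU₀.isLocalization_stalk ⟨φ (G.e u), hfxW⟩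
      have hpt : (hU₀.primeIdealOf ⟨φ (G.e u), hfxW⟩).asIdeal =
          (hU₀.primeIdealOf ⟨u, hu₀⟩).asIdeal := by
        congr 2
        exact Subtype.ext hφu
      have h2 := (IsLocalization.AtPrime.to_map_mem_maximal_iff
        (G.U.presheaf.stalk (φ (G.e u))) (hU₀.primeIdealOf ⟨φ (G.e u), hfxW⟩).asIdeal a).mpr
        (hpt ▸ ha)
      exact h2
    refine ringKrullDim_le_stab_fiber G hU₀ hR₀ u hu₀ hcl hs₀ ht₀ he₀ _
      ((Ideal.Quotient.mk K).comp (algebraMap Γ(G.R, R₀) (G.R.presheaf.stalk (G.e u))))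
      ?_ ?_ ?_ ?_
    · rw [PrimeSpectrum.comap_comp]
      exact (PrimeSpectrum.localization_comap_isInducing (G.R.presheaf.stalk (G.e u))
        (hR₀.primeIdealOf ⟨G.e u, hxR₀⟩).asIdeal.primeCompl).comp
        (PrimeSpectrum.comap_isInducing_of_surjective _ _ Ideal.Quotient.mk_surjective)
    · intro P b hb
      by_contra hbq
      have hu' : IsUnit (algebraMap Γ(G.R, R₀) (G.R.presheaf.stalk (G.e u)) b) :=
        IsLocalization.map_units (G.R.presheaf.stalk (G.e u))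
          (⟨b, hbq⟩ : (hR₀.primeIdealOf ⟨G.e u, hxR₀⟩).asIdeal.primeCompl)
      rw [Ideal.mem_comap] at hb
      exact P.isPrime.ne_top (Ideal.eq_top_of_isUnit_mem _ hb (hu'.map (Ideal.Quotient.mk K)))
    · intro a ha
      rw [RingHom.comp_apply, Ideal.Quotient.eq_zero_iff_mem, hKdef]
      exact Ideal.mem_sup_left (hgerm G.s hs₀ (e_s_apply G u) a ha)
    · intro a ha
      rw [RingHom.comp_apply, Ideal.Quotient.eq_zero_iff_mem, hKdef]
      exact Ideal.mem_sup_right (hgerm G.t ht₀ (e_t_apply G u) a ha)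
  · rw [topologicalKrullDim_fiber_stab]
    exact fibreDimAt_stab_le G u

/-- **Homogeneity of the fibres of `s`**: the local fibre dimension of `s` at `r` is that at the
unit `e(t r)`. -/
theorem fibreDimAt_s_eq [LocallyOfFiniteType G.s] (r : G.R) :
    FlatMor.fibreDimAt G.s r = FlatMor.fibreDimAt G.s (G.e (G.t r)) := by
  let y₀ : G.R ⟶ pullback G.s G.t :=
    pullback.lift (G.t ≫ G.e) (𝟙 _) (by rw [Category.assoc, G.e_s, Category.comp_id,
      Category.id_comp])
  have h1 := Groth.Agent.Lib.Helper21.BaseChg.fibreDimAt_eq_of_isPullback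
    (Groth.Agent.Lib.Helper25.GrpdTrans.isPullback_c_snd G) (y₀ r)
  have h2 := Groth.Agent.Lib.Helper21.BaseChg.fibreDimAt_eq_of_isPullback
    (IsPullback.of_hasPullback G.s G.t) (y₀ r)
  have e1 : G.c (y₀ r) = r := by
    rw [← Scheme.Hom.comp_apply]
    have : y₀ ≫ G.c = 𝟙 _ := by
      have := G.e_comp (𝟙 G.R)
      simp only [Category.id_comp] at this
      exact this
    rw [this]
    rfl
  have e2 : pullback.fst G.s G.t (y₀ r) = G.e (G.t r) := by
    rw [← Scheme.Hom.comp_apply, pullback.lift_fst, Scheme.Hom.comp_apply]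
  rw [e1] at h1
  rw [e2] at h2
  rw [← h1, h2]

end Groth.Agent.Lib.Helper20.HM
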