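import Mathlib
import Groth.Agent.Lib.Helper20.HM24
import Groth.Agent.Lib.Helper6.FTPoints
import Groth.Agent.Lib.Helper21.EquiSub1
import Groth.Agent.Lib.Helper18.TopDim

/-!
# HM25: groupoids over the spectrum of a field: `dim R = dim G`
-/

set_option autoImplicit false
set_option linter.style.haveILetI false
set_option linter.unusedSectionVars false
universe u
open CategoryTheory CategoryTheory.Limits AlgebraicGeometry

namespace Groth.Agent.Lib.Helper20.HM

open Grpd

/-- the local dimension of a space at a point, when the fibre is everything -/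
theorem localDim_subtype_univ {A : Type*} [TopologicalSpace A] (s : Set A) (hs : s = Set.univ)
    (a : A) (ha : a ∈ s) : FlatMor.localDim ↥s ⟨a, ha⟩ = FlatMor.localDim A a := by
  subst hs
  exact Groth.Agent.Lib.Helper21.EquiSub.localDim_homeomorph (Homeomorph.Set.univ A) ⟨a, ha⟩

theorem topologicalKrullDim_subtype_univ {A : Type*} [TopologicalSpace A] (s : Set A)
    (hs : s = Set.univ) : topologicalKrullDim ↥s = topologicalKrullDim A := by
  subst hs
  exact (Homeomorph.Set.univ A).isHomeomorph.topologicalKrullDim_eq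

variable {S : Scheme.{u}} (G : GroupoidScheme S)

set_option maxHeartbeats 1600000 in
/-- **Groupoids over the spectrum of a field**: `dim R = dim G`, `G` the stabilizer. -/
theorem dim_eq_dim_stabilizer_of_field (k : Type u) [Field k]
    (eU : G.U ≅ Spec (CommRingCat.of k)) [LocallyOfFiniteType G.s] [LocallyOfFiniteType G.t] :
    topologicalKrullDim G.R = topologicalKrullDim G.stabilizer := by
  -- the topology of `U`
  haveI hsubSpec : Subsingleton ↥(Spec (CommRingCat.of k)) := by
    change Subsingleton (PrimeSpectrum k); infer_instance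
  haveI hsub : Subsingleton ↥G.U := (Scheme.homeoOfIso eU).injective.subsingleton
  haveI : IsAffine G.U := IsAffine.of_isIso eU.hom
  haveI : IsIntegral G.U := IsIntegral.of_isIso eU.inv
  let u : G.U := genericPoint G.U
  have hcl : IsClosed ({⟨u, trivial⟩} : Set ↥(⊤ : G.U.Opens)) := by
    haveI : Subsingleton ↥(⊤ : G.U.Opens) := ⟨fun a b => Subtype.ext (Subsingleton.elim _ _)⟩
    have : ({⟨u, trivial⟩} : Set ↥(⊤ : G.U.Opens)) = Set.univ :=
      Set.eq_univ_of_forall fun a => Subsingleton.elim _ _
    rw [this]; exact isClosed_univ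
  have hu : LocallyOfFiniteType (G.U.fromSpecResidueField u) :=
    Groth.Agent.Lib.Helper6.ftPoint_of_isClosed (isAffineOpen_top G.U) u trivial hcl
  -- the local rings of `U` are fields
  have hmax : ∀ y : G.U, IsLocalRing.maximalIdeal (G.U.presheaf.stalk y) = ⊥ := by
    intro y
    apply IsLocalRing.isField_iff_maximalIdeal_eq.mp
    apply isField_stalk_of_closure_mem_irreducibleComponents G.U y
    have : closure ({y} : Set G.U) = Set.univ := by
      apply Set.eq_univ_of_forall
      intro a
      rw [Subsingleton.elim a y]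
      exact subset_closure rfl
    rw [this, irreducibleComponents_eq_singleton]
    rfl
  have hfib : ∀ (φ : G.R ⟶ G.U) (x : G.R), fibId φ x = ⊥ := by
    intro φ x
    change Ideal.map _ (IsLocalRing.maximalIdeal (G.U.presheaf.stalk (φ x))) = ⊥
    rw [hmax, Ideal.map_bot]
  -- `dim O_{R,e(u)} = dim G_u`
  have hDS := ringKrullDim_stalk_quot_eq_stab G u hu
  rw [hfib, hfib, sup_idem] at hDS
  -- the fibre dimension of `s` at `e(u)`
  have hfd : FlatMor.fibreDimAt G.s (G.e u) = topologicalKrullDim ↥(G.stabilizerToU.fiber u) := by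
    obtain ⟨a, b, ha, hb, hab⟩ :=
      Groth.Agent.Lib.Helper21.FibDim.exists_fibreDimAt_eq_add G.s (G.e u)
    have hbCF := Groth.Agent.Lib.Helper14.AS.ringKrullDim_fiber_stalk G.s (G.e u)
    have ha0 : a = 0 := by
      haveI : SurjectiveOnStalks (G.e ≫ G.s) := by
        rw [G.e_s]; infer_instance
      have h0 := trdeg_eq_zero_of_section G.s G.e u
      rw [h0] at ha
      exact_mod_cast ha.symm
    rw [hab, ha0, zero_add, ← hb, hbCF, ← hDS]
    change ringKrullDim (G.R.presheaf.stalk (G.e u) ⧸ fibId G.s (G.e u)) = _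
    rw [hfib]
  -- every local dimension of `R` is that number
  have hloc : ∀ r : G.R, FlatMor.localDim ↥G.R r =
      topologicalKrullDim ↥(G.stabilizerToU.fiber u) := by
    intro r
    have h1 := Groth.Agent.Lib.Helper21.EquiSub.fibreDimAt_eq_localDim_preimage G.s r
    rw [localDim_subtype_univ (G.s ⁻¹' {G.s r})
      (Set.eq_univ_of_forall fun a => Subsingleton.elim (G.s a) _) r rfl] at h1
    rw [← h1, fibreDimAt_s_eq, Subsingleton.elim (G.t r) u, hfd]
  rw [Groth.Agent.Lib.Helper18.TopDim.topologicalKrullDim_eq_iSup_localDim]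
  haveI : Nonempty ↥G.R := ⟨G.e u⟩
  simp_rw [hloc]
  rw [ciSup_const]
  -- the stabilizer is its fibre
  have h2 := (G.stabilizerToU.fiberHomeo u).isHomeomorph.topologicalKrullDim_eq
  rw [h2]
  exact topologicalKrullDim_subtype_univ _
    (Set.eq_univ_of_forall fun a => Subsingleton.elim _ _)

end Groth.Agent.Lib.Helper20.HM
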