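import Mathlib
import Groth.Agent.Lib.Helper20.HM25
import Groth.Agent.Lib.Helper25.SmoothFibreComp
import Groth.Agent.Lib.Helper21.EquiSub9

/-!
# HM26: groupoids over the spectrum of a field: equidimensionality
-/

set_option autoImplicit false
set_option linter.style.haveILetI false
set_option linter.unusedSectionVars false
universe u
open CategoryTheory CategoryTheory.Limits AlgebraicGeometry

namespace Groth.Agent.Lib.Helper20.HM

open Grpd

variable {S : Scheme.{u}} (G : GroupoidScheme S)

theorem subsingleton_of_iso_spec_field {U : Scheme.{u}} (k : Type u) [Field k]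
    (eU : U ≅ Spec (CommRingCat.of k)) : Subsingleton ↥U := by
  haveI hsubSpec : Subsingleton ↥(Spec (CommRingCat.of k)) := by
    change Subsingleton (PrimeSpectrum k); infer_instance
  exact (Scheme.homeoOfIso eU).injective.subsingleton

theorem maximalIdeal_stalk_eq_bot_of_iso_spec_field {U : Scheme.{u}} (k : Type u) [Field k]
    (eU : U ≅ Spec (CommRingCat.of k)) (y : U) :
    IsLocalRing.maximalIdeal (U.presheaf.stalk y) = ⊥ := by
  haveI hsub : Subsingleton ↥U := subsingleton_of_iso_spec_field k eU
  haveI : IsIntegral U := IsIntegral.of_isIso eU.inv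
  apply IsLocalRing.isField_iff_maximalIdeal_eq.mp
  apply isField_stalk_of_closure_mem_irreducibleComponents U y
  have : closure ({y} : Set U) = Set.univ := by
    apply Set.eq_univ_of_forall
    intro a
    rw [Subsingleton.elim a y]
    exact subset_closure rfl
  rw [this, irreducibleComponents_eq_singleton]
  rfl

theorem fibId_eq_bot_of_iso_spec_field {X U : Scheme.{u}} (k : Type u) [Field k]
    (eU : U ≅ Spec (CommRingCat.of k)) (φ : X ⟶ U) (x : X) : fibId φ x = ⊥ := by
  change Ideal.map _ (IsLocalRing.maximalIdeal (U.presheaf.stalk (φ x))) = ⊥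
  rw [maximalIdeal_stalk_eq_bot_of_iso_spec_field k eU, Ideal.map_bot]

/-- over a one-point base the local fibre dimension is the local dimension -/
theorem fibreDimAt_eq_localDim_of_subsingleton {X U : Scheme.{u}} [Subsingleton ↥U] (φ : X ⟶ U)
    (x : X) : FlatMor.fibreDimAt φ x = FlatMor.localDim ↥X x := by
  have h1 := Groth.Agent.Lib.Helper21.EquiSub.fibreDimAt_eq_localDim_preimage φ x
  rw [localDim_subtype_univ (φ ⁻¹' {φ x})
    (Set.eq_univ_of_forall fun a => Subsingleton.elim (φ a) _) x rfl] at h1
  exact h1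

/-- over a base whose local rings are fields, the local fibre dimension is
`trdeg κ(x)/κ(φ x) + dim O_{X,x}` -/
theorem exists_fibreDimAt_eq_add_of_field {X U : Scheme.{u}} (k : Type u) [Field k]
    (eU : U ≅ Spec (CommRingCat.of k)) (φ : X ⟶ U) [LocallyOfFiniteType φ] (x : X) :
    ∃ a : ℕ, @Algebra.trdeg (U.residueField (φ x)) (X.residueField x) _ _
        (φ.residueFieldMap x).hom.toAlgebra = a ∧
      FlatMor.fibreDimAt φ x = (a : WithBot ℕ∞) + ringKrullDim (X.presheaf.stalk x) := by
  obtain ⟨a, b, ha, hb, hab⟩ := Groth.Agent.Lib.Helper21.FibDim.exists_fibreDimAt_eq_add φ x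
  have hbCF := Groth.Agent.Lib.Helper14.AS.ringKrullDim_fiber_stalk φ x
  refine ⟨a, ha, ?_⟩
  rw [hab, Nat.cast_add, ← hb, hbCF]
  change _ + ringKrullDim (X.presheaf.stalk x ⧸ fibId φ x) = _
  rw [fibId_eq_bot_of_iso_spec_field k eU]
  rw [ringKrullDim_eq_of_ringEquiv (RingEquiv.quotientBot _)]

set_option maxHeartbeats 1600000 in
/-- **Groupoids over the spectrum of a field**: `R` has the same local dimension everywhere. -/
theorem localDim_eq_of_field (k : Type u) [Field k]
    (eU : G.U ≅ Spec (CommRingCat.of k)) [LocallyOfFiniteType G.s] [LocallyOfFiniteType G.t]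
    (r : G.R) : FlatMor.localDim ↥G.R r = topologicalKrullDim ↥G.R := by
  haveI hsub : Subsingleton ↥G.U := subsingleton_of_iso_spec_field k eU
  have key : ∀ r : G.R, FlatMor.localDim ↥G.R r =
      FlatMor.fibreDimAt G.s (G.e (G.t r)) := by
    intro r
    rw [← fibreDimAt_eq_localDim_of_subsingleton G.s r, fibreDimAt_s_eq]
  have key2 : ∀ r r' : G.R, FlatMor.localDim ↥G.R r = FlatMor.localDim ↥G.R r' := by
    intro r r'
    rw [key r, key r', Subsingleton.elim (G.t r) (G.t r')]
  rw [Groth.Agent.Lib.Helper18.TopDim.topologicalKrullDim_eq_iSup_localDim]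
  haveI : Nonempty ↥G.R := ⟨r⟩
  have : (fun x : G.R => FlatMor.localDim ↥G.R x) = fun _ => FlatMor.localDim ↥G.R r := by
    funext x
    exact key2 x r
  rw [this, ciSup_const]

/-- **Groupoids over the spectrum of a field**: `R` is equidimensional. -/
theorem equidimensional_of_field (k : Type u) [Field k]
    (eU : G.U ≅ Spec (CommRingCat.of k)) [LocallyOfFiniteType G.s] [LocallyOfFiniteType G.t] :
    (∀ Z ∈ irreducibleComponents ↥G.R, topologicalKrullDim ↥Z = topologicalKrullDim ↥G.R) ∧
      ∀ r : G.R, FlatMor.localDim ↥G.R r = topologicalKrullDim ↥G.R := by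
  refine ⟨fun Z hZ => ?_, fun r => localDim_eq_of_field G k eU r⟩
  haveI : LocallyOfFiniteType (G.s ≫ eU.hom) := inferInstance
  haveI : IsLocallyNoetherian G.R := LocallyOfFiniteType.isLocallyNoetherian (G.s ≫ eU.hom)
  exact Groth.Agent.Lib.Helper25.IrrCompDim.topologicalKrullDim_irreducibleComponent_eq
    (Groth.Agent.Lib.Helper25.SmoothFibreComp.exists_noetherian_nhd G.R) _
    (fun z => localDim_eq_of_field G k eU z) Z hZ

/-- **Groupoids over the spectrum of a field**: the local rings at closed points have the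
dimension of `R`. -/
theorem ringKrullDim_stalk_closedPoint_of_field (k : Type u) [Field k]
    (eU : G.U ≅ Spec (CommRingCat.of k)) [LocallyOfFiniteType G.s] [LocallyOfFiniteType G.t]
    (r : G.R) (hr : IsClosed ({r} : Set G.R)) :
    (ringKrullDim (G.R.presheaf.stalk r) : WithBot ℕ∞) = topologicalKrullDim G.R := by
  haveI hsub : Subsingleton ↥G.U := subsingleton_of_iso_spec_field k eU
  rw [← localDim_eq_of_field G k eU r, ← fibreDimAt_eq_localDim_of_subsingleton G.s r]
  obtain ⟨a, ha, hab⟩ := exists_fibreDimAt_eq_add_of_field k eU G.s r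
  have h0 := Groth.Agent.Lib.Helper21.EquiSub.trdeg_eq_zero_of_closed_in_fibre G.s r (by
    intro x' _ hsp
    have : x' ∈ closure ({r} : Set G.R) := hsp.mem_closure
    rw [hr.closure_eq] at this
    exact this)
  rw [h0] at ha
  have ha0 : a = 0 := by exact_mod_cast ha.symm
  rw [hab, ha0]
  simp

end Groth.Agent.Lib.Helper20.HM
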