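import Mathlib
import Groth.Agent.Lib.Helper20.HN1
import Groth.Agent.Lib.Helper10.IdComp2

/-!
# HN2: the unit of a groupoid scheme over an algebraically closed field lies on a unique
irreducible component
-/

set_option autoImplicit false
set_option linter.style.haveILetI false
set_option linter.unusedSimpArgs false
set_option linter.unusedSectionVars false
universe u
open CategoryTheory CategoryTheory.Limits AlgebraicGeometry

namespace Groth.Agent.Lib.Helper20.HN

open Grpd Groth.Agent.Lib.Helper25.GrpdAlg Groth.Agent.Lib.Helper10.IdComp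

/-- reduced induced closed subscheme structure on an irreducible closed subset. -/
theorem exists_closedSubscheme {R : Scheme.{u}} (Z : Set R) (hZ : IsClosed Z)
    (hirr : IsIrreducible Z) :
    ∃ (X : Scheme.{u}) (a : X ⟶ R), IsClosedImmersion a ∧ Set.range a = Z ∧
      IrreducibleSpace X := by
  let I := Scheme.IdealSheafData.vanishingIdeal (X := R) ⟨Z, hZ⟩
  refine ⟨I.subscheme, I.subschemeι, inferInstance, ?_, ?_⟩
  · rw [Scheme.IdealSheafData.range_subschemeι]
    simp [I]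
  · apply irreducibleSpace_of_isInducing _ I.subschemeι.isEmbedding.isInducing
    rw [Scheme.IdealSheafData.range_subschemeι]
    simpa [I] using hirr

/-- a field-valued point lying on a closed subscheme lifts to it. -/
theorem exists_point_lift {K : Type u} [Field K] {X R : Scheme.{u}} (a : X ⟶ R)
    [IsClosedImmersion a] (g : Spec (CommRingCat.of K) ⟶ R)
    (hg : ∀ pt, g pt ∈ Set.range a) :
    ∃ e : Spec (CommRingCat.of K) ⟶ X, e ≫ a = g := by
  haveI : IsClosedImmersion (pullback.fst g a) := inferInstance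
  haveI : Surjective (pullback.fst g a) := by
    refine ⟨fun pt => ?_⟩
    obtain ⟨x, hx⟩ := hg pt
    obtain ⟨z, hz1, -⟩ := Scheme.Pullback.exists_preimage_pullback (f := g) (g := a)
      pt x hx.symm
    exact ⟨z, hz1⟩
  haveI : IsIso (pullback.fst g a) := isIso_of_isClosedImmersion_of_surjective _
  refine ⟨inv (pullback.fst g a) ≫ pullback.snd g a, ?_⟩
  rw [Category.assoc, ← pullback.condition, IsIso.inv_hom_id_assoc]

variable {S : Scheme.{u}} (H : GroupoidScheme S)

theorem isIrreducible_range_of_irreducibleSpace {P R : Scheme.{u}} (m : P ⟶ R)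
    [IrreducibleSpace P] : IsIrreducible (Set.range m) := by
  rw [← Set.image_univ]
  exact (IrreducibleSpace.isIrreducible_univ _).image _ m.continuous.continuousOn

/-- **Over an algebraically closed field the unit of a groupoid scheme lies on a unique
irreducible component.** -/
theorem uniqueComp_e_of_isAlgClosed (K : Type u) [Field K] [IsAlgClosed K]
    (eU : H.U ≅ Spec (CommRingCat.of K)) (x : H.U) : UniqueComp (H.e x) := by
  have hpt : ∀ q : Spec (CommRingCat.of K), eU.inv q = x := by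
    intro q
    haveI : Subsingleton ↥(Spec (CommRingCat.of K)) :=
      inferInstanceAs (Subsingleton (PrimeSpectrum K))
    have h1 : eU.hom (eU.inv q) = eU.hom x := Subsingleton.elim _ _
    have h2 := congrArg (fun y => eU.inv y) h1
    have h3 : ∀ y : H.U, eU.inv (eU.hom y) = y := by
      intro y
      have h4 := congrArg (fun f : H.U ⟶ H.U => f y) eU.hom_inv_id
      exact h4
    simpa only [h3] using h2
  have key : ∀ C₁ ∈ irreducibleComponents ↥H.R, ∀ C₂ ∈ irreducibleComponents ↥H.R,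
      H.e x ∈ C₁ → H.e x ∈ C₂ → C₂ ⊆ C₁ := by
    intro C₁ h₁ C₂ h₂ hx₁ hx₂
    obtain ⟨X₁, a₁, hcl₁, hr₁, hirr₁⟩ := exists_closedSubscheme C₁
      (isClosed_of_mem_irreducibleComponents C₁ h₁) h₁.1
    obtain ⟨X₂, a₂, hcl₂, hr₂, hirr₂⟩ := exists_closedSubscheme C₂
      (isClosed_of_mem_irreducibleComponents C₂ h₂) h₂.1
    obtain ⟨e₁, he₁⟩ := exists_point_lift a₁ (eU.inv ≫ H.e) (fun q => by
      rw [hr₁]
      have : (eU.inv ≫ H.e) q = H.e (eU.inv q) := rfl
      rw [this, hpt q]; exact hx₁)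
    obtain ⟨e₂, he₂⟩ := exists_point_lift a₂ (eU.inv ≫ H.e) (fun q => by
      rw [hr₂]
      have : (eU.inv ≫ H.e) q = H.e (eU.inv q) := rfl
      rw [this, hpt q]; exact hx₂)
    haveI : IrreducibleSpace ↥(pullback (a₁ ≫ H.s ≫ eU.hom) (a₂ ≫ H.t ≫ eU.hom)) :=
      Groth.Agent.Lib.Helper5.irreducibleSpace_pullback_of_isAlgClosed K _ _
    have hcond : (pullback.fst (a₁ ≫ H.s ≫ eU.hom) (a₂ ≫ H.t ≫ eU.hom) ≫ a₁) ≫ H.s =
        (pullback.snd (a₁ ≫ H.s ≫ eU.hom) (a₂ ≫ H.t ≫ eU.hom) ≫ a₂) ≫ H.t := by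
      rw [← cancel_mono eU.hom]
      simpa only [Category.assoc] using
        pullback.condition (f := a₁ ≫ H.s ≫ eU.hom) (g := a₂ ≫ H.t ≫ eU.hom)
    let m := comp H _ _ hcond
    -- range a₁ ⊆ range m
    have hl₁ : a₁ ≫ H.s ≫ eU.hom = (a₁ ≫ H.s ≫ eU.hom ≫ e₂) ≫ a₂ ≫ H.t ≫ eU.hom := by
      simp only [Category.assoc]
      rw [reassoc_of% he₂]
      rw [reassoc_of% H.e_t, Iso.inv_hom_id, Category.comp_id]
    have hm₁ : pullback.lift (𝟙 X₁) (a₁ ≫ H.s ≫ eU.hom ≫ e₂) (by rw [Category.id_comp]; exact hl₁)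
        ≫ m = a₁ := by
      rw [precomp]
      refine (comp_congr H ?_ ?_ _ _).trans (comp_e H a₁)
      · rw [← Category.assoc, pullback.lift_fst, Category.id_comp]
      · rw [← Category.assoc, pullback.lift_snd]
        simp only [Category.assoc, he₂, Iso.hom_inv_id_assoc]
    have hl₂ : (a₂ ≫ H.t ≫ eU.hom ≫ e₁) ≫ a₁ ≫ H.s ≫ eU.hom = a₂ ≫ H.t ≫ eU.hom := by
      simp only [Category.assoc]
      rw [reassoc_of% he₁]
      rw [reassoc_of% H.e_s, Iso.inv_hom_id, Category.comp_id]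
    have hm₂ : pullback.lift (a₂ ≫ H.t ≫ eU.hom ≫ e₁) (𝟙 X₂) (by rw [Category.id_comp]; exact hl₂)
        ≫ m = a₂ := by
      rw [precomp]
      refine (comp_congr H ?_ ?_ _ _).trans (e_comp H a₂)
      · rw [← Category.assoc, pullback.lift_fst]
        simp only [Category.assoc, he₁, Iso.hom_inv_id_assoc]
      · rw [← Category.assoc, pullback.lift_snd, Category.id_comp]
    have hsub₁ : Set.range a₁ ⊆ Set.range m := by
      rintro _ ⟨y, rfl⟩
      refine ⟨(pullback.lift (𝟙 X₁) (a₁ ≫ H.s ≫ eU.hom ≫ e₂)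
        (by rw [Category.id_comp]; exact hl₁)) y, ?_⟩
      rw [← Scheme.Hom.comp_apply, hm₁]
    have hsub₂ : Set.range a₂ ⊆ Set.range m := by
      rintro _ ⟨y, rfl⟩
      refine ⟨(pullback.lift (a₂ ≫ H.t ≫ eU.hom ≫ e₁) (𝟙 X₂)
        (by rw [Category.id_comp]; exact hl₂)) y, ?_⟩
      rw [← Scheme.Hom.comp_apply, hm₂]
    have hirr : IsIrreducible (Set.range m) := isIrreducible_range_of_irreducibleSpace m
    rw [← hr₁, ← hr₂]
    exact hsub₂.trans ((hr₁ ▸ h₁).2 hirr hsub₁)
  intro C₁ h₁ C₂ h₂ hx₁ hx₂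
  exact le_antisymm (key C₂ h₂ C₁ h₁ hx₂ hx₁) (key C₁ h₁ C₂ h₂ hx₁ hx₂)

end Groth.Agent.Lib.Helper20.HN
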