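import Mathlib
import Groth.Agent.Lib.Helper20.HN2
import Groth.Agent.Lib.Helper20.HM26

/-!
# HN3: over a field, the unit of a groupoid scheme lies on a unique irreducible component
-/

set_option autoImplicit false
set_option linter.style.haveILetI false
set_option linter.unusedSimpArgs false
set_option linter.unusedSectionVars false
universe u
open CategoryTheory CategoryTheory.Limits AlgebraicGeometry

namespace Groth.Agent.Lib.Helper20.HN

open Grpd Groth.Agent.Lib.Helper25.GrpdAlg Groth.Agent.Lib.Helper10.IdComp
  Groth.Agent.Lib.Helper20.HC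

section Stable

variable {S : Scheme.{u}} (G : GroupoidScheme S) {U' : Scheme.{u}} (u : U' ⟶ G.U)

theorem ιR_of_stable (P : MorphismProperty Scheme.{u}) [P.IsStableUnderBaseChange]
    [P.IsStableUnderComposition] (h : P u) : P (ιR G u) := by
  unfold ιR vR
  apply P.comp_mem
  · exact P.pullback_fst _ _ h
  · exact P.pullback_fst _ _ h

/-- the canonical morphism `R' ⟶ R ×_{s,U} U'` -/
noncomputable def q : R' G u ⟶ pullback G.s u := pullback.lift (ιR G u) (s' G u) (ιR_s G u)

theorem q_fst : q G u ≫ pullback.fst G.s u = ιR G u := pullback.lift_fst _ _ _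
theorem q_snd : q G u ≫ pullback.snd G.s u = s' G u := pullback.lift_snd _ _ _

theorem isPullback_q :
    IsPullback (pullback.fst (v G u) u) (q G u) (vR G u) (pullback.fst G.s u) := by
  have hbig : IsPullback (q G u ≫ pullback.snd G.s u) (pullback.fst (v G u) u) u
      (vR G u ≫ G.s) := by
    rw [q_snd]
    exact (IsPullback.of_hasPullback (v G u) u).flip
  have h1 := IsPullback.of_right hbig (by rw [q_fst]; rfl) (IsPullback.of_hasPullback G.s u).flip
  exact h1.flip

theorem q_of_stable (P : MorphismProperty Scheme.{u}) [P.IsStableUnderBaseChange]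
    (h : P u) : P (q G u) := by
  apply P.of_isPullback (isPullback_q G u)
  unfold vR
  exact P.pullback_fst _ _ h

theorem pr_of_stable (P : MorphismProperty Scheme.{u}) [P.IsStableUnderBaseChange]
    (h : P u) : P (pullback.fst G.s u) := P.pullback_fst _ _ h

end Stable

section Top

variable {X Y : Type*} [TopologicalSpace X] [TopologicalSpace Y]

/-- the closure of the image of an irreducible component under a generalizing map is an
irreducible component. -/
theorem closure_image_mem_irreducibleComponents [QuasiSober X] [QuasiSober Y] (π : X → Y)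
    (hc : Continuous π) (hg : GeneralizingMap π) (C' : Set X)
    (hC' : C' ∈ irreducibleComponents X) :
    closure (π '' C') ∈ irreducibleComponents Y := by
  have hC'cl : IsClosed C' := isClosed_of_mem_irreducibleComponents C' hC'
  obtain ⟨ξ', hξ'⟩ := QuasiSober.sober hC'.1 hC'cl
  have hirr : IsIrreducible (closure (π '' C')) := (hC'.1.image π hc.continuousOn).closure
  obtain ⟨C, hC, hsub⟩ := exists_mem_irreducibleComponents_subset_of_isIrreducible _ hirr
  have hCcl : IsClosed C := isClosed_of_mem_irreducibleComponents C hC
  obtain ⟨η, hη⟩ := QuasiSober.sober hC.1 hCcl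
  have hξ'C' : ξ' ∈ C' := by rw [← hξ'.def]; exact subset_closure rfl
  have h1 : η ⤳ π ξ' := hη.specializes (hsub (subset_closure ⟨ξ', hξ'C', rfl⟩))
  obtain ⟨η', hη'1, hη'2⟩ := hg h1
  have h2 : C' ≤ closure {η'} := by
    rw [← hξ'.def]
    exact closure_minimal (Set.singleton_subset_iff.mpr (specializes_iff_mem_closure.mp hη'1))
      isClosed_closure
  have h3 : closure {η'} ≤ C' := hC'.2 isIrreducible_singleton.closure h2
  have hη'C' : η' ∈ C' := h3 (subset_closure rfl)
  have h4 : C ⊆ closure (π '' C') := by
    rw [← hη.def]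
    apply closure_minimal _ isClosed_closure
    rintro _ rfl
    exact subset_closure ⟨η', hη'C', hη'2⟩
  rwa [← Set.Subset.antisymm hsub h4] at hC

/-- if `π` is generalizing, `π e'` lies on a unique component `Z`, and `π ⁻¹' Z` is irreducible,
then `e'` lies on a unique component. -/
theorem uniqueComp_of_isIrreducible_preimage [QuasiSober X] [QuasiSober Y] (π : X → Y)
    (hc : Continuous π) (hg : GeneralizingMap π) (e' : X) (hu : UniqueComp (π e'))
    (hirr : IsIrreducible (π ⁻¹' irreducibleComponent (π e'))) : UniqueComp e' := by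
  have key : ∀ C' ∈ irreducibleComponents X, e' ∈ C' →
      C' = π ⁻¹' irreducibleComponent (π e') := by
    intro C' hC' he'
    have h1 := closure_image_mem_irreducibleComponents π hc hg C' hC'
    have h2 : π e' ∈ closure (π '' C') := subset_closure ⟨e', he', rfl⟩
    have h3 := hu.eq_irreducibleComponent h1 h2
    have h4 : C' ⊆ π ⁻¹' irreducibleComponent (π e') := by
      intro c hc'
      change π c ∈ irreducibleComponent (π e')
      rw [← h3]
      exact subset_closure ⟨c, hc', rfl⟩
    exact Set.Subset.antisymm h4 (hC'.2 hirr h4)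
  intro C₁ h₁ C₂ h₂ hx₁ hx₂
  rw [key C₁ h₁ hx₁, key C₂ h₂ hx₂]

end Top

section Field

variable {S : Scheme.{u}} (G : GroupoidScheme S) (k : Type u) [Field k]
  (eU : G.U ≅ Spec (CommRingCat.of k))

include eU in
theorem flat_of_iso_spec_field {U' : Scheme.{u}} (u : U' ⟶ G.U) : Flat u := by
  haveI : Subsingleton ↥G.U := HM.subsingleton_of_iso_spec_field k eU
  haveI : IsIntegral G.U := IsIntegral.of_isIso eU.inv
  infer_instance

/-- the geometric point of `G.U` with values in the algebraic closure -/
noncomputable def uK : Spec (CommRingCat.of (AlgebraicClosure k)) ⟶ G.U :=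
  Spec.map (CommRingCat.ofHom (algebraMap k (AlgebraicClosure k))) ≫ eU.inv

include eU in
/-- **Over a field the unit of a groupoid scheme lies on a unique irreducible component.** -/
theorem uniqueComp_e_of_field (x : G.U) : UniqueComp (G.e x) := by
  haveI hsub : Subsingleton ↥G.U := HM.subsingleton_of_iso_spec_field k eU
  set u := uK G k eU with hu
  obtain ⟨pt⟩ : Nonempty ↥(Spec (CommRingCat.of (AlgebraicClosure k))) :=
    inferInstanceAs (Nonempty (PrimeSpectrum (AlgebraicClosure k)))
  have h1 : UniqueComp ((restr G u).e pt) :=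
    uniqueComp_e_of_isAlgClosed (restr G u) (AlgebraicClosure k)
      (Iso.refl (Spec (CommRingCat.of (AlgebraicClosure k)))) pt
  have hflat : Flat (ιR G u) :=
    ιR_of_stable G u @Flat (flat_of_iso_spec_field G k eU u)
  have h2 := uniqueComp_descends (ιR G u) (ιR G u).continuous (Flat.generalizingMap _)
    ((restr G u).e pt) h1
  have h3 : ιR G u ((restr G u).e pt) = G.e x := by
    have h4 := congrArg (fun f : Spec (CommRingCat.of (AlgebraicClosure k)) ⟶ G.R => f pt)
      (eR_ιR G u)
    have h5 : (u ≫ G.e) pt = G.e (u pt) := rfl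
    have h6 : u pt = x := Subsingleton.elim _ _
    rw [← h6, ← h5]
    exact h4
  rwa [h3] at h2

end Field

end Groth.Agent.Lib.Helper20.HN
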