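import Mathlib

/-!
# HR3: lifting through a formally smooth algebra into an Artinian ring
-/

set_option autoImplicit false
set_option linter.style.haveILetI false
set_option maxHeartbeats 4000000
set_option synthInstance.maxHeartbeats 400000
universe u

namespace Groth.Agent.Lib.Helper20.HR

theorem exists_lift_artinian {A₀ A₁ Λ : Type u} [CommRing A₀] [CommRing A₁] [Algebra A₀ A₁]
    [Algebra.FormallySmooth A₀ A₁] [CommRing Λ] [IsArtinianRing Λ]
    (𝔮 : Ideal A₁) (θ₀ : A₀ →+* Λ)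
    (H : ∀ 𝔪 : Ideal Λ, 𝔪.IsMaximal → ∃ f : A₁ →+* Λ ⧸ 𝔪,
      f.comp (algebraMap A₀ A₁) = (Ideal.Quotient.mk 𝔪).comp θ₀ ∧ RingHom.ker f = 𝔮) :
    ∃ φ₀ : A₁ →+* Λ, φ₀.comp (algebraMap A₀ A₁) = θ₀ ∧
      ∀ 𝔪 : Ideal Λ, 𝔪.IsPrime → 𝔪.comap φ₀ = 𝔮 := by
  classical
  letI algΛ : Algebra A₀ Λ := θ₀.toAlgebra
  choose f hf1 hf2 using fun I : MaximalSpectrum Λ => H I.asIdeal I.isMaximal
  let F : A₁ →+* ∀ I : MaximalSpectrum Λ, Λ ⧸ I.asIdeal := Pi.ringHom f
  let e := IsArtinianRing.quotNilradicalEquivPi Λ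
  have he : ∀ (x : Λ) (I : MaximalSpectrum Λ),
      e (Ideal.Quotient.mk (nilradical Λ) x) I = Ideal.Quotient.mk I.asIdeal x := fun x I => rfl
  let fbar : A₁ →ₐ[A₀] Λ ⧸ nilradical Λ :=
    { (e.symm.toRingEquiv.toRingHom).comp F with
      commutes' := fun a₀ => by
        change e.symm (F (algebraMap A₀ A₁ a₀)) = algebraMap A₀ (Λ ⧸ nilradical Λ) a₀
        apply e.injective
        rw [AlgEquiv.apply_symm_apply]
        funext I
        have h1 : F (algebraMap A₀ A₁ a₀) I = f I (algebraMap A₀ A₁ a₀) := rfl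
        rw [h1]
        have h2 := RingHom.congr_fun (hf1 I) a₀
        change f I (algebraMap A₀ A₁ a₀) = Ideal.Quotient.mk I.asIdeal (θ₀ a₀) at h2
        rw [h2]
        rfl }
  have hfbar : ∀ x I, e (fbar x) I = f I x := by
    intro x I
    change e (e.symm (F x)) I = f I x
    rw [AlgEquiv.apply_symm_apply]
    rfl
  let g : Λ →ₐ[A₀] Λ ⧸ nilradical Λ := Ideal.Quotient.mkₐ A₀ (nilradical Λ)
  have hg : Function.Surjective g := Ideal.Quotient.mkₐ_surjective A₀ _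
  have hker : RingHom.ker (g : Λ →+* Λ ⧸ nilradical Λ) = nilradical Λ :=
    Ideal.Quotient.mkₐ_ker A₀ _
  have hnil : IsNilpotent (RingHom.ker (g : Λ →+* Λ ⧸ nilradical Λ)) := by
    rw [hker]
    exact IsArtinianRing.isNilpotent_nilradical
  let φ₀ : A₁ →ₐ[A₀] Λ := Algebra.FormallySmooth.liftOfSurjective fbar g hg hnil
  have hφ₀ : ∀ x, g (φ₀ x) = fbar x :=
    Algebra.FormallySmooth.liftOfSurjective_apply fbar g hg hnil
  refine ⟨φ₀.toRingHom, ?_, ?_⟩
  · apply RingHom.ext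
    intro a₀
    exact φ₀.commutes a₀
  · intro 𝔪 h𝔪
    haveI := h𝔪
    have hmax : 𝔪.IsMaximal := IsArtinianRing.isMaximal_of_isPrime 𝔪
    let I : MaximalSpectrum Λ := ⟨𝔪, hmax⟩
    have key : ∀ x, Ideal.Quotient.mk 𝔪 (φ₀ x) = f I x := by
      intro x
      have h1 := hfbar x I
      rw [← hφ₀ x] at h1
      exact h1
    ext x
    rw [Ideal.mem_comap, ← hf2 I, RingHom.mem_ker, ← key x]
    exact (Ideal.Quotient.eq_zero_iff_mem).symm

end Groth.Agent.Lib.Helper20.HR
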