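import Mathlib
import Groth.Agent.Lib.Helper13.QuasiFiniteBaseChange

/-!
# HP1: generic lemmas on quasi-finite points and points of fibre products
-/

set_option autoImplicit false
set_option linter.style.haveILetI false
set_option linter.unusedSimpArgs false
set_option linter.unusedSectionVars false
universe u
open CategoryTheory CategoryTheory.Limits AlgebraicGeometry

namespace Groth.Agent.Lib.Helper20.HP

section QF

variable {X Y S : Scheme.{u}}

/-- quasi-finiteness at a point: the point is isolated in its fibre -/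
theorem quasiFiniteAt_iff_exists_opens (f : X ⟶ Y) [LocallyOfFiniteType f] (x : X) :
    f.QuasiFiniteAt x ↔ ∃ W : X.Opens, x ∈ W ∧ ∀ y ∈ W, f y = f x → y = x := by
  rw [Scheme.Hom.quasiFiniteAt_iff_isOpen_singleton_asFiber,
    ← (f.fiberHomeo (f x)).isOpen_image]
  have h0 : (f.fiberHomeo (f x)) '' {f.asFiber x} = {(⟨x, rfl⟩ : f ⁻¹' {f x})} := by
    rw [Set.image_singleton]
    congr 1
    apply Subtype.ext
    rw [Scheme.Hom.fiberHomeo_apply, Scheme.Hom.fiberι_asFiber]
  rw [h0, isOpen_induced_iff]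
  constructor
  · rintro ⟨W, hW, hWeq⟩
    refine ⟨⟨W, hW⟩, ?_, ?_⟩
    · have : (⟨x, rfl⟩ : f ⁻¹' {f x}) ∈ Subtype.val ⁻¹' W := by rw [hWeq]; rfl
      exact this
    · intro y hy hfy
      have : (⟨y, hfy⟩ : f ⁻¹' {f x}) ∈ Subtype.val ⁻¹' W := hy
      rw [hWeq] at this
      exact congrArg Subtype.val this
  · rintro ⟨W, hxW, hW⟩
    refine ⟨W, W.2, ?_⟩
    ext ⟨y, hy⟩
    constructor
    · intro hyW
      exact Subtype.ext (hW y hyW hy)
    · intro h
      have : y = x := congrArg Subtype.val h
      subst this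
      exact hxW

theorem quasiFiniteAt_comp (f : X ⟶ Y) (a : Y ⟶ S) (x : X) (hf : f.QuasiFiniteAt x)
    (ha : a.QuasiFiniteAt (f x)) : (f ≫ a).QuasiFiniteAt x := by
  simp only [Scheme.Hom.QuasiFiniteAt, Scheme.Hom.stalkMap_comp, CommRingCat.hom_comp] at hf ha ⊢
  exact hf.comp ha

/-- an open map sends quasi-finite points of the composite to quasi-finite points -/
theorem quasiFiniteAt_of_isOpenMap (f : X ⟶ Y) (a : Y ⟶ S) [LocallyOfFiniteType a]
    [LocallyOfFiniteType (f ≫ a)] (hopen : IsOpenMap f) (x : X)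
    (h : (f ≫ a).QuasiFiniteAt x) : a.QuasiFiniteAt (f x) := by
  rw [quasiFiniteAt_iff_exists_opens] at h ⊢
  obtain ⟨W, hxW, hW⟩ := h
  refine ⟨⟨f '' (W : Set X), hopen _ W.2⟩, ⟨x, hxW, rfl⟩, ?_⟩
  rintro _ ⟨w, hwW, rfl⟩ hfw
  have : (f ≫ a) w = (f ≫ a) x := hfw
  rw [hW w hwW this]

end QF

section Pts

variable {X S S' : Scheme.{u}}

/-- uniqueness of points of a fibre product over a point with trivial residue field extension -/
theorem eq_of_fst_eq_of_snd_eq (f : X ⟶ S) (g : S' ⟶ S) (p' : S')
    (hbij : Function.Bijective (g.residueFieldMap p')) (w w' : ↑(pullback f g))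
    (h1 : pullback.snd f g w = p') (h1' : pullback.snd f g w' = p')
    (h2 : pullback.fst f g w = pullback.fst f g w') : w = w' := by
  set h := pullback.snd f g with hh
  set β := S'.fromSpecResidueField p' ≫ g with hβ
  haveI : IsIso (g.residueFieldMap p') := (ConcreteCategory.isIso_iff_bijective _).mpr hbij
  haveI : IsPreimmersion β := by
    rw [hβ, ← Scheme.Hom.SpecMap_residueFieldMap_fromSpecResidueField]
    infer_instance
  have hw : w ∈ Set.range (h.fiberι p') := by rw [h.range_fiberι]; exact h1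
  have hw' : w' ∈ Set.range (h.fiberι p') := by rw [h.range_fiberι]; exact h1'
  obtain ⟨a, rfl⟩ := hw
  obtain ⟨a', rfl⟩ := hw'
  let e : h.fiber p' ≅ pullback f β := pullbackLeftPullbackSndIso f g (S'.fromSpecResidueField p')
  have he : e.hom ≫ pullback.fst f β = h.fiberι p' ≫ pullback.fst f g :=
    pullbackLeftPullbackSndIso_hom_fst _ _ _
  have h3 : (pullback.fst f β) (e.hom a) = (pullback.fst f β) (e.hom a') := by
    have e1 := congrArg (fun q : h.fiber p' ⟶ X => q a) he
    have e2 := congrArg (fun q : h.fiber p' ⟶ X => q a') he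
    exact e1.trans (h2.trans e2.symm)
  have h4 : e.hom a = e.hom a' := (pullback.fst f β).isEmbedding.injective h3
  have h5 : a = a' := e.hom.homeomorph.injective h4
  rw [h5]

theorem exists_point_over (f : X ⟶ S) (g : S' ⟶ S) (x : X) (p' : S') (h : f x = g p') :
    ∃ w : ↑(pullback f g), pullback.fst f g w = x ∧ pullback.snd f g w = p' :=
  Scheme.Pullback.exists_preimage_pullback x p' h

end Pts

end Groth.Agent.Lib.Helper20.HP
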