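import Mathlib
import Groth.Agent.Lib.Helper10.WeilAlg

/-!
# HR1: a relative Weil-restriction algebra

`R → A` finite projective, `θ : A₀ → A` a ring map, `B` an `A₀`-algebra.  The functor on `R`-algebras
`T ↦ {ψ : B → T ⊗[R] A ring maps with ψ ∘ (A₀ → B) = (1 ⊗ θ)}` is representable.
-/

set_option autoImplicit false
set_option linter.style.haveILetI false
set_option maxHeartbeats 4000000
set_option synthInstance.maxHeartbeats 400000
universe u
open TensorProduct

namespace Groth.Agent.Lib.Helper20.HR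

open Groth.Agent.Lib.Helper10.WeilAlg

section Rel
variable {R A A₀ B : Type u} [CommRing R] [CommRing A] [Algebra R A] [CommRing A₀] [CommRing B]
  [Algebra A₀ B] (θ : A₀ →+* A)

/-- the ring maps `B → T ⊗ A` lifting `θ`. -/
def IsLift (T : Type u) [CommRing T] [Algebra R T] (ψ : B →+* T ⊗[R] A) : Prop :=
  ∀ a₀ : A₀, ψ (algebraMap A₀ B a₀) = (1 : T) ⊗ₜ[R] θ a₀

omit [CommRing A₀] [CommRing B] [Algebra A₀ B] in
theorem map_map {C₁ C₂ C₃ : Type u} [CommRing C₁] [CommRing C₂] [CommRing C₃] [Algebra R C₁]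
    [Algebra R C₂] [Algebra R C₃] (f : C₁ →ₐ[R] C₂) (g : C₂ →ₐ[R] C₃) (y : C₁ ⊗[R] A) :
    Algebra.TensorProduct.map g (AlgHom.id R A) (Algebra.TensorProduct.map f (AlgHom.id R A) y) =
      Algebra.TensorProduct.map (g.comp f) (AlgHom.id R A) y := by
  induction y using TensorProduct.induction_on with
  | zero => simp
  | tmul c a => simp
  | add x y hx hy => simp only [map_add, hx, hy]

theorem exists_relWeilAlg [Module.Finite R A] [Module.Projective R A] :
    ∃ (C : Type u) (_ : CommRing C) (_ : Algebra R C) (ev : B →+* C ⊗[R] A),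
      IsLift θ C ev ∧
      (∀ (T : Type u) [CommRing T] [Algebra R T] (ψ : B →+* T ⊗[R] A), IsLift θ T ψ →
        ∃! w : C →ₐ[R] T,
          (Algebra.TensorProduct.map w (AlgHom.id R A)).toRingHom.comp ev = ψ) ∧
      (Algebra.FinitePresentation A₀ B → Algebra.FinitePresentation R C) := by
  classical
  letI algA : Algebra A₀ A := θ.toAlgebra
  haveI scc : SMulCommClass A₀ R A := ⟨fun a r x => by
    simp only [Algebra.smul_def]; ring⟩
  obtain ⟨CE, _, _, evE, hUE, -, hfpE⟩ := exists_weilAlg (R := R) (A := A) (B := A ⊗[A₀] B)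
  obtain ⟨CA, _, _, evA, hUA, hftA, -⟩ := exists_weilAlg (R := R) (A := A) (B := A)
  let ι : A →ₐ[R] A ⊗[A₀] B := Algebra.TensorProduct.includeLeft
  obtain ⟨u, hu, -⟩ := hUA CE (evE.comp ι)
  let can : A →ₐ[R] R ⊗[R] A := Algebra.TensorProduct.includeRight
  obtain ⟨ε, hε, -⟩ := hUA R can
  have hft : Algebra.FiniteType R CA := hftA inferInstance
  obtain ⟨s, hs⟩ := hft.out
  let I : Ideal CE := Ideal.span ((fun x => u x - algebraMap R CE (ε x)) '' (s : Set CA))
  let q : CE →ₐ[R] CE ⧸ I := Ideal.Quotient.mkₐ R I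
  have key1 : q.comp u = (Algebra.ofId R (CE ⧸ I)).comp ε := by
    apply AlgHom.ext_of_adjoin_eq_top hs
    intro x hx
    change Ideal.Quotient.mk I (u x) = algebraMap R (CE ⧸ I) (ε x)
    have : algebraMap R (CE ⧸ I) (ε x) = Ideal.Quotient.mk I (algebraMap R CE (ε x)) := rfl
    rw [this, Ideal.Quotient.eq]
    exact Ideal.subset_span ⟨x, hx, rfl⟩
  have hu' : ∀ a : A, Algebra.TensorProduct.map u (AlgHom.id R A) (evA a) = evE (ι a) :=
    fun a => AlgHom.congr_fun hu a
  have hε' : ∀ a : A, Algebra.TensorProduct.map ε (AlgHom.id R A) (evA a) = (1 : R) ⊗ₜ[R] a :=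
    fun a => AlgHom.congr_fun hε a
  have hofId : ∀ (T : Type u) [CommRing T] [Algebra R T] (a : A),
      Algebra.TensorProduct.map (Algebra.ofId R T) (AlgHom.id R A) ((1 : R) ⊗ₜ[R] a) =
        (1 : T) ⊗ₜ[R] a := by
    intro T _ _ a
    simp
  let ev : B →+* (CE ⧸ I) ⊗[R] A :=
    ((Algebra.TensorProduct.map q (AlgHom.id R A)).comp evE).toRingHom.comp
      (Algebra.TensorProduct.includeRight : B →ₐ[A₀] A ⊗[A₀] B).toRingHom
  have hev : ∀ b : B, ev b = Algebra.TensorProduct.map q (AlgHom.id R A)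
      (evE ((1 : A) ⊗ₜ[A₀] b)) := fun b => rfl
  have h1tmul : ∀ a₀ : A₀, ((1 : A) ⊗ₜ[A₀] (algebraMap A₀ B a₀) : A ⊗[A₀] B) = ι (θ a₀) := by
    intro a₀
    change (1 : A) ⊗ₜ[A₀] (algebraMap A₀ B a₀) = (θ a₀) ⊗ₜ[A₀] (1 : B)
    rw [Algebra.algebraMap_eq_smul_one, ← TensorProduct.smul_tmul, Algebra.smul_def, mul_one]
    rfl
  refine ⟨CE ⧸ I, inferInstance, inferInstance, ev, ?_, ?_, ?_⟩
  · intro a₀
    rw [hev, h1tmul, ← hu', map_map, key1, ← map_map, hε', hofId]
  · intro T _ _ ψ hψ
    letI algX : Algebra A₀ (T ⊗[R] A) :=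
      ((Algebra.TensorProduct.includeRight : A →ₐ[R] T ⊗[R] A).toRingHom.comp θ).toAlgebra
    let fA : A →ₐ[A₀] T ⊗[R] A :=
      { (Algebra.TensorProduct.includeRight : A →ₐ[R] T ⊗[R] A).toRingHom with
        commutes' := fun a₀ => rfl }
    let gB : B →ₐ[A₀] T ⊗[R] A :=
      { ψ with
        commutes' := fun a₀ => hψ a₀ }
    let φ₀ : A ⊗[A₀] B →ₐ[A₀] T ⊗[R] A := Algebra.TensorProduct.productMap fA gB
    have hφ₀ : ∀ (a : A) (b : B), φ₀ (a ⊗ₜ[A₀] b) = ((1 : T) ⊗ₜ[R] a) * ψ b := fun a b => rfl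
    let φ : A ⊗[A₀] B →ₐ[R] T ⊗[R] A :=
      { φ₀.toRingHom with
        commutes' := fun r => by
          change φ₀ (algebraMap R (A ⊗[A₀] B) r) = algebraMap R (T ⊗[R] A) r
          rw [Algebra.TensorProduct.algebraMap_apply, hφ₀, map_one, mul_one,
            Algebra.TensorProduct.algebraMap_apply, Algebra.algebraMap_eq_smul_one,
            Algebra.algebraMap_eq_smul_one, TensorProduct.smul_tmul] }
    have hφ : ∀ (a : A) (b : B), φ (a ⊗ₜ[A₀] b) = ((1 : T) ⊗ₜ[R] a) * ψ b := fun a b => rfl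
    obtain ⟨wE, hwE, hwEu⟩ := hUE T φ
    have hwE' : ∀ e, Algebra.TensorProduct.map wE (AlgHom.id R A) (evE e) = φ e :=
      fun e => AlgHom.congr_fun hwE e
    have kills : wE.comp u = (Algebra.ofId R T).comp ε := by
      apply (hUA T (φ.comp ι)).unique
      · ext a
        change Algebra.TensorProduct.map (wE.comp u) (AlgHom.id R A) (evA a) = φ (ι a)
        rw [← map_map, hu', hwE']
      · ext a
        change Algebra.TensorProduct.map ((Algebra.ofId R T).comp ε) (AlgHom.id R A) (evA a) =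
          φ (ι a)
        rw [← map_map, hε', hofId]
        change _ = φ (a ⊗ₜ[A₀] (1 : B))
        rw [hφ, map_one, mul_one]
    have hI : ∀ x ∈ I, wE x = 0 := by
      intro x hx
      have hle : I ≤ RingHom.ker wE.toRingHom := by
        apply Ideal.span_le.mpr
        rintro _ ⟨y, -, rfl⟩
        change wE (u y - algebraMap R CE (ε y)) = 0
        rw [map_sub, AlgHom.commutes]
        have := AlgHom.congr_fun kills y
        change wE (u y) = algebraMap R T (ε y) at this
        rw [this, sub_self]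
      exact hle hx
    let w : CE ⧸ I →ₐ[R] T := Ideal.Quotient.liftₐ I wE hI
    have hwq : w.comp q = wE := Ideal.Quotient.liftₐ_comp I wE hI
    refine ⟨w, ?_, ?_⟩
    · apply RingHom.ext
      intro b
      change Algebra.TensorProduct.map w (AlgHom.id R A) (ev b) = ψ b
      rw [hev, map_map, hwq, hwE', hφ]
      change ((1 : T) ⊗ₜ[R] (1 : A)) * ψ b = ψ b
      rw [← Algebra.TensorProduct.one_def, one_mul]
    · intro w' hw'
      have hw'' : ∀ b : B, Algebra.TensorProduct.map w' (AlgHom.id R A) (ev b) = ψ b :=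
        fun b => RingHom.congr_fun hw' b
      have h1 : w'.comp q = wE := by
        apply hwEu
        apply AlgHom.ext
        intro e
        change Algebra.TensorProduct.map (w'.comp q) (AlgHom.id R A) (evE e) = φ e
        induction e using TensorProduct.induction_on with
        | zero => simp
        | tmul a b =>
          have hab : (a ⊗ₜ[A₀] b : A ⊗[A₀] B) = ι a * ((1 : A) ⊗ₜ[A₀] b) := by
            change a ⊗ₜ[A₀] b = (a ⊗ₜ[A₀] (1 : B)) * ((1 : A) ⊗ₜ[A₀] b)
            rw [Algebra.TensorProduct.tmul_mul_tmul, mul_one, one_mul]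
          rw [hab, map_mul, map_mul, map_mul]
          congr 1
          · rw [← hu', map_map]
            have : (w'.comp q).comp u = (Algebra.ofId R T).comp ε := by
              rw [AlgHom.comp_assoc, key1, ← AlgHom.comp_assoc]
              congr 1
              ext
            rw [this, ← map_map, hε', hofId]
            change _ = φ (a ⊗ₜ[A₀] (1 : B))
            rw [hφ, map_one, mul_one]
          · rw [← map_map, ← hev, hw'']
            rw [hφ]
            change ψ b = ((1 : T) ⊗ₜ[R] (1 : A)) * ψ b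
            rw [← Algebra.TensorProduct.one_def, one_mul]
        | add x y hx hy => simp only [map_add, hx, hy]
      apply AlgHom.ext
      intro x
      obtain ⟨y, rfl⟩ := Ideal.Quotient.mk_surjective x
      change (w'.comp q) y = (w.comp q) y
      rw [h1, hwq]
  · intro hfpB
    haveI : Module.FinitePresentation R A := Module.finitePresentation_of_projective R A
    haveI : Algebra.FinitePresentation R A :=
      Algebra.FinitePresentation.of_finitePresentation R A
    haveI : Algebra.FinitePresentation A (A ⊗[A₀] B) := inferInstance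
    haveI : Algebra.FinitePresentation R (A ⊗[A₀] B) :=
      Algebra.FinitePresentation.trans R A (A ⊗[A₀] B)
    haveI : Algebra.FinitePresentation R CE := hfpE inferInstance
    apply Algebra.FinitePresentation.quotient
    exact Submodule.fg_span (Set.Finite.image _ s.finite_toSet)

theorem formallyEtale_of_univ (C : Type u) [CommRing C] [Algebra R C] (ev : B →+* C ⊗[R] A)
    (hev : IsLift θ C ev)
    (huniv : ∀ (T : Type u) [CommRing T] [Algebra R T] (ψ : B →+* T ⊗[R] A), IsLift θ T ψ →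
        ∃! w : C →ₐ[R] T,
          (Algebra.TensorProduct.map w (AlgHom.id R A)).toRingHom.comp ev = ψ)
    [Algebra.FormallyEtale A₀ B] : Algebra.FormallyEtale R C := by
  rw [Algebra.FormallyEtale.iff_comp_bijective]
  intro T _ _ N hN
  let g : T ⊗[R] A →ₐ[R] (T ⧸ N) ⊗[R] A :=
    Algebra.TensorProduct.map (Ideal.Quotient.mkₐ R N) (AlgHom.id R A)
  have hgsurj : Function.Surjective g :=
    Algebra.TensorProduct.map_surjective (f := Ideal.Quotient.mkₐ R N) (g := AlgHom.id R A)
      (Ideal.Quotient.mkₐ_surjective R N) Function.surjective_id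
  have hker : RingHom.ker g = (RingHom.ker (Ideal.Quotient.mkₐ R N)).map
      (Algebra.TensorProduct.includeLeft : T →ₐ[R] T ⊗[R] A) :=
    Algebra.TensorProduct.rTensor_ker _ (Ideal.Quotient.mkₐ_surjective R N)
  have hkerN : RingHom.ker (Ideal.Quotient.mkₐ R N) = N := Ideal.Quotient.mkₐ_ker R N
  have hnil : IsNilpotent (RingHom.ker (g : T ⊗[R] A →+* (T ⧸ N) ⊗[R] A)) := by
    refine ⟨2, ?_⟩
    have h1 : RingHom.ker (g : T ⊗[R] A →+* (T ⧸ N) ⊗[R] A) = RingHom.ker g := rfl
    rw [h1, hker, hkerN, ← Ideal.map_pow, hN, Ideal.map_bot]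
    rfl
  letI algX : Algebra A₀ (T ⊗[R] A) :=
    ((Algebra.TensorProduct.includeRight : A →ₐ[R] T ⊗[R] A).toRingHom.comp θ).toAlgebra
  letI algX' : Algebra A₀ ((T ⧸ N) ⊗[R] A) :=
    ((Algebra.TensorProduct.includeRight : A →ₐ[R] (T ⧸ N) ⊗[R] A).toRingHom.comp θ).toAlgebra
  let gA : T ⊗[R] A →ₐ[A₀] (T ⧸ N) ⊗[R] A :=
    { g.toRingHom with
      commutes' := fun a₀ => by
        change g ((1 : T) ⊗ₜ[R] θ a₀) = (1 : T ⧸ N) ⊗ₜ[R] θ a₀
        simp [g] }
  have hgA : ∀ x, gA x = g x := fun x => rfl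
  -- the classified lift
  have hlift : ∀ (T' : Type u) [CommRing T'] [Algebra R T'] (w : C →ₐ[R] T'),
      IsLift θ T' ((Algebra.TensorProduct.map w (AlgHom.id R A)).toRingHom.comp ev) := by
    intro T' _ _ w a₀
    change Algebra.TensorProduct.map w (AlgHom.id R A) (ev (algebraMap A₀ B a₀)) = _
    rw [hev a₀]
    simp
  let cl : (C →ₐ[R] T) → (B →ₐ[A₀] T ⊗[R] A) := fun w =>
    { (Algebra.TensorProduct.map w (AlgHom.id R A)).toRingHom.comp ev with
      commutes' := fun a₀ => hlift T w a₀ }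
  have hcl : ∀ w b, cl w b = Algebra.TensorProduct.map w (AlgHom.id R A) (ev b) := fun w b => rfl
  have hnil' : IsNilpotent (RingHom.ker (gA : T ⊗[R] A →+* (T ⧸ N) ⊗[R] A)) := hnil
  constructor
  · intro w₁ w₂ h
    have h12 : cl w₁ = cl w₂ := by
      apply Algebra.FormallyUnramified.lift_unique' gA hnil'
      ext b
      change gA (cl w₁ b) = gA (cl w₂ b)
      rw [hgA, hgA, hcl, hcl]
      change Algebra.TensorProduct.map (Ideal.Quotient.mkₐ R N) (AlgHom.id R A) _ =
        Algebra.TensorProduct.map (Ideal.Quotient.mkₐ R N) (AlgHom.id R A) _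
      rw [map_map, map_map]
      change Algebra.TensorProduct.map ((Ideal.Quotient.mkₐ R N).comp w₁) _ _ =
        Algebra.TensorProduct.map ((Ideal.Quotient.mkₐ R N).comp w₂) _ _
      rw [h]
    apply (huniv T _ (hlift T w₁)).unique rfl
    apply RingHom.ext
    intro b
    exact (AlgHom.congr_fun h12 b).symm
  · intro wbar
    let ψbar : B →ₐ[A₀] (T ⧸ N) ⊗[R] A :=
      { (Algebra.TensorProduct.map wbar (AlgHom.id R A)).toRingHom.comp ev with
        commutes' := fun a₀ => hlift (T ⧸ N) wbar a₀ }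
    let ψ : B →ₐ[A₀] T ⊗[R] A :=
      Algebra.FormallySmooth.liftOfSurjective ψbar gA hgsurj hnil'
    have hψ : ∀ b, g (ψ b) = Algebra.TensorProduct.map wbar (AlgHom.id R A) (ev b) := fun b =>
      Algebra.FormallySmooth.liftOfSurjective_apply ψbar gA hgsurj hnil' b
    have hψlift : IsLift θ T ψ.toRingHom := fun a₀ => ψ.commutes a₀
    obtain ⟨w, hw, -⟩ := huniv T ψ.toRingHom hψlift
    have hw' : ∀ b, Algebra.TensorProduct.map w (AlgHom.id R A) (ev b) = ψ b :=
      fun b => RingHom.congr_fun hw b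
    refine ⟨w, ?_⟩
    apply (huniv (T ⧸ N) _ (hlift (T ⧸ N) wbar)).unique _ rfl
    apply RingHom.ext
    intro b
    change Algebra.TensorProduct.map ((Ideal.Quotient.mkₐ R N).comp w) (AlgHom.id R A) (ev b) =
      Algebra.TensorProduct.map wbar (AlgHom.id R A) (ev b)
    rw [← map_map, hw']
    exact hψ b

end Rel

end Groth.Agent.Lib.Helper20.HR
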