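import Mathlib
import Groth.Agent.Lib.Helper20.HR1

/-!
# HR2: the relative Weil-restriction algebra, in terms of pushout squares of commutative rings
-/

set_option autoImplicit false
set_option linter.style.haveILetI false
set_option backward.isDefEq.respectTransparency.types false
set_option maxHeartbeats 4000000
set_option synthInstance.maxHeartbeats 400000
universe u
open CategoryTheory CategoryTheory.Limits TensorProduct

namespace Groth.Agent.Lib.Helper20.HR

/-- the universal property of the relative Weil restriction algebra `C` (with structure map `γ`),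
with universal family `l₀ : B ⟶ D` over the pushout `D` of `A` and `C`. -/
def RUP {R A A₀ B : CommRingCat.{u}} (α : R ⟶ A) (θ : A₀ ⟶ A) (β₀ : A₀ ⟶ B)
    {C D : CommRingCat.{u}} (γ : R ⟶ C) (ψ₀ : A ⟶ D) (χ₀ : C ⟶ D) (l₀ : B ⟶ D) : Prop :=
  ∀ (R' C' : CommRingCat.{u}) (φ : R ⟶ R') (ψ : A ⟶ C') (χ : R' ⟶ C'), IsPushout α φ ψ χ →
    ∀ l : B ⟶ C', β₀ ≫ l = θ ≫ ψ →
      ∃! v : C ⟶ R', γ ≫ v = φ ∧ ∀ m : D ⟶ C', ψ₀ ≫ m = ψ → χ₀ ≫ m = v ≫ χ → l₀ ≫ m = l

theorem exists_relWeilRing_aux {R A A₀ B : CommRingCat.{u}} (α : R ⟶ A) (θ : A₀ ⟶ A)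
    (β₀ : A₀ ⟶ B)
    (hfin : letI := α.hom.toAlgebra; Module.Finite R A)
    (hproj : letI := α.hom.toAlgebra; Module.Projective R A) :
    ∃ (C : CommRingCat.{u}) (γ : R ⟶ C), (β₀.hom.Etale → γ.hom.Etale) ∧
      ∀ (D : CommRingCat.{u}) (ψ₀ : A ⟶ D) (χ₀ : C ⟶ D), IsPushout α γ ψ₀ χ₀ →
        ∃ l₀ : B ⟶ D, β₀ ≫ l₀ = θ ≫ ψ₀ ∧ RUP α θ β₀ γ ψ₀ χ₀ l₀ := by
  letI := α.hom.toAlgebra
  letI := β₀.hom.toAlgebra
  haveI : Module.Finite R A := hfin
  haveI : Module.Projective R A := hproj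
  obtain ⟨C, _, _, ev, hev, hUP, hfp⟩ := exists_relWeilAlg (R := R) (A := A) (A₀ := A₀) (B := B)
    θ.hom
  refine ⟨CommRingCat.of C, CommRingCat.ofHom (algebraMap R C), ?_, ?_⟩
  · intro h
    haveI : Algebra.Etale A₀ B := h
    haveI : Algebra.FormallyEtale R C := formallyEtale_of_univ θ.hom C ev hev hUP
    haveI : Algebra.FinitePresentation R C := hfp inferInstance
    exact RingHom.etale_algebraMap.mpr ⟨inferInstance, inferInstance⟩
  intro D ψ₀ χ₀ hpo₀
  have hT := CommRingCat.isPushout_tensorProduct R C A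
  let d : D ≅ CommRingCat.of (C ⊗[R] A) := hpo₀.flip.isoIsPushout _ _ hT
  have hd1 : χ₀ ≫ d.hom = CommRingCat.ofHom (S := C ⊗[R] A)
      Algebra.TensorProduct.includeLeftRingHom := hpo₀.flip.inl_isoIsPushout_hom _ _ hT
  have hd2 : ψ₀ ≫ d.hom = CommRingCat.ofHom (S := C ⊗[R] A)
      (Algebra.TensorProduct.includeRight).toRingHom := hpo₀.flip.inr_isoIsPushout_hom _ _ hT
  have hd1' : CommRingCat.ofHom (S := C ⊗[R] A) Algebra.TensorProduct.includeLeftRingHom ≫ d.inv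
      = χ₀ := by rw [← hd1, Category.assoc, Iso.hom_inv_id, Category.comp_id]
  have hd2' : CommRingCat.ofHom (S := C ⊗[R] A) (Algebra.TensorProduct.includeRight).toRingHom
      ≫ d.inv = ψ₀ := by rw [← hd2, Category.assoc, Iso.hom_inv_id, Category.comp_id]
  refine ⟨CommRingCat.ofHom ev ≫ d.inv, ?_, ?_⟩
  · have h0 : β₀ ≫ CommRingCat.ofHom ev = θ ≫ CommRingCat.ofHom (S := C ⊗[R] A)
        (Algebra.TensorProduct.includeRight).toRingHom := by
      ext a₀
      exact hev a₀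
    rw [← Category.assoc, h0, Category.assoc, hd2']
  intro R' C' φ ψ χ sq l hl
  letI := φ.hom.toAlgebra
  have hT' := CommRingCat.isPushout_tensorProduct R R' A
  let dT : C' ≅ CommRingCat.of (R' ⊗[R] A) := sq.flip.isoIsPushout _ _ hT'
  have hdT1 : χ ≫ dT.hom = CommRingCat.ofHom (S := R' ⊗[R] A)
      Algebra.TensorProduct.includeLeftRingHom := sq.flip.inl_isoIsPushout_hom _ _ hT'
  have hdT2 : ψ ≫ dT.hom = CommRingCat.ofHom (S := R' ⊗[R] A)
      (Algebra.TensorProduct.includeRight).toRingHom := sq.flip.inr_isoIsPushout_hom _ _ hT'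
  have hdT1' : CommRingCat.ofHom (S := R' ⊗[R] A) Algebra.TensorProduct.includeLeftRingHom ≫
      dT.inv = χ := by rw [← hdT1, Category.assoc, Iso.hom_inv_id, Category.comp_id]
  have hdT2' : CommRingCat.ofHom (S := R' ⊗[R] A) (Algebra.TensorProduct.includeRight).toRingHom
      ≫ dT.inv = ψ := by rw [← hdT2, Category.assoc, Iso.hom_inv_id, Category.comp_id]
  let ψalg : B →+* R' ⊗[R] A := (l ≫ dT.hom).hom
  have hψalg : CommRingCat.ofHom ψalg = l ≫ dT.hom := rfl
  have hlift : IsLift θ.hom R' ψalg := by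
    intro a₀
    change (l ≫ dT.hom).hom (β₀.hom a₀) = _
    have h1 : (l ≫ dT.hom).hom (β₀.hom a₀) = ((β₀ ≫ l) ≫ dT.hom).hom a₀ := rfl
    rw [h1, hl, Category.assoc, hdT2]
    rfl
  -- the comparison of maps out of the tensor product
  have hmap : ∀ w : C →ₐ[R] R',
      d.hom ≫ CommRingCat.ofHom (Algebra.TensorProduct.map w (AlgHom.id R A)).toRingHom ≫ dT.inv
        = hpo₀.desc ψ (CommRingCat.ofHom w.toRingHom ≫ χ) (by
          rw [sq.w, ← Category.assoc]
          congr 1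
          ext r
          exact (w.commutes r).symm) := by
    intro w
    have hL : CommRingCat.ofHom (S := C ⊗[R] A) Algebra.TensorProduct.includeLeftRingHom ≫
        CommRingCat.ofHom (Algebra.TensorProduct.map w (AlgHom.id R A)).toRingHom =
        CommRingCat.ofHom w.toRingHom ≫ CommRingCat.ofHom (S := R' ⊗[R] A)
          Algebra.TensorProduct.includeLeftRingHom := by
      ext c
      change Algebra.TensorProduct.map w (AlgHom.id R A) (c ⊗ₜ[R] (1 : A)) = (w c) ⊗ₜ[R] (1 : A)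
      simp
    have hR : CommRingCat.ofHom (S := C ⊗[R] A) (Algebra.TensorProduct.includeRight).toRingHom ≫
        CommRingCat.ofHom (Algebra.TensorProduct.map w (AlgHom.id R A)).toRingHom =
        CommRingCat.ofHom (S := R' ⊗[R] A) (Algebra.TensorProduct.includeRight).toRingHom := by
      ext a
      change Algebra.TensorProduct.map w (AlgHom.id R A) ((1 : C) ⊗ₜ[R] a) = (1 : R') ⊗ₜ[R] a
      simp
    apply hpo₀.hom_ext
    · rw [hpo₀.inl_desc, ← Category.assoc, hd2, ← Category.assoc, hR, hdT2']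
    · rw [hpo₀.inr_desc, ← Category.assoc, hd1, ← Category.assoc, hL, Category.assoc, hdT1']
  obtain ⟨w, hw, hwu⟩ := hUP R' ψalg hlift
  have hdesc : ∀ (v : CommRingCat.of C ⟶ R') (hv : CommRingCat.ofHom (algebraMap R C) ≫ v = φ)
      (m : D ⟶ C'), ψ₀ ≫ m = ψ → χ₀ ≫ m = v ≫ χ →
      m = hpo₀.desc ψ (v ≫ χ) (by rw [sq.w, ← hv, Category.assoc]) := by
    intro v hv m hm1 hm2
    apply hpo₀.hom_ext
    · rw [hpo₀.inl_desc, hm1]
    · rw [hpo₀.inr_desc, hm2]
  refine ⟨CommRingCat.ofHom w.toRingHom, ⟨?_, ?_⟩, ?_⟩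
  · ext r
    exact w.commutes r
  · intro m hm1 hm2
    have hm : m = d.hom ≫
        CommRingCat.ofHom (Algebra.TensorProduct.map w (AlgHom.id R A)).toRingHom ≫ dT.inv := by
      rw [hmap w]
      exact hdesc _ (by ext r; exact w.commutes r) m hm1 hm2
    rw [hm, Category.assoc, Iso.inv_hom_id_assoc, ← Category.assoc]
    have : CommRingCat.ofHom ev ≫
        CommRingCat.ofHom (Algebra.TensorProduct.map w (AlgHom.id R A)).toRingHom =
        CommRingCat.ofHom ψalg := by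
      rw [← hw]
      rfl
    rw [this, hψalg, Category.assoc, Iso.hom_inv_id, Category.comp_id]
  · rintro v' ⟨hv1, hv2⟩
    let w' : C →ₐ[R] R' :=
      { v'.hom with
        commutes' := fun r => by
          have := congrArg (fun F => F.hom r) hv1
          exact this }
    have hw'v : CommRingCat.ofHom w'.toRingHom = v' := rfl
    have hm1 : ψ₀ ≫ (d.hom ≫
        CommRingCat.ofHom (Algebra.TensorProduct.map w' (AlgHom.id R A)).toRingHom ≫ dT.inv)
        = ψ := by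
      rw [hmap w', hpo₀.inl_desc]
    have hm2 : χ₀ ≫ (d.hom ≫
        CommRingCat.ofHom (Algebra.TensorProduct.map w' (AlgHom.id R A)).toRingHom ≫ dT.inv)
        = v' ≫ χ := by
      rw [hmap w', hpo₀.inr_desc, hw'v]
    have h3 := hv2 _ hm1 hm2
    rw [Category.assoc, Iso.inv_hom_id_assoc, ← Category.assoc] at h3
    have h4 : CommRingCat.ofHom ev ≫
        CommRingCat.ofHom (Algebra.TensorProduct.map w' (AlgHom.id R A)).toRingHom =
        l ≫ dT.hom := by
      rw [← h3, Category.assoc, Iso.inv_hom_id, Category.comp_id]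
    have h5 : (Algebra.TensorProduct.map w' (AlgHom.id R A)).toRingHom.comp ev = ψalg := by
      ext b
      exact congrArg (fun F => F.hom b) h4
    have h6 := hwu w' h5
    rw [← hw'v, h6]

/-- **The relative Weil restriction algebra** (pushout form, with a flexible choice of `C`). -/
theorem exists_relWeilRing {R A A₀ B : CommRingCat.{u}} (α : R ⟶ A) (θ : A₀ ⟶ A) (β₀ : A₀ ⟶ B)
    (hfin : letI := α.hom.toAlgebra; Module.Finite R A)
    (hproj : letI := α.hom.toAlgebra; Module.Projective R A) :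
    ∃ (C : CommRingCat.{u}) (γ : R ⟶ C), (β₀.hom.Etale → γ.hom.Etale) ∧
      ∀ (C₁ : CommRingCat.{u}) (γ₁ : R ⟶ C₁) (e : C ≅ C₁), γ ≫ e.hom = γ₁ →
      ∀ (D : CommRingCat.{u}) (ψ₀ : A ⟶ D) (χ₀ : C₁ ⟶ D), IsPushout α γ₁ ψ₀ χ₀ →
        ∃ l₀ : B ⟶ D, β₀ ≫ l₀ = θ ≫ ψ₀ ∧ RUP α θ β₀ γ₁ ψ₀ χ₀ l₀ := by
  obtain ⟨C, γ, het, haux⟩ := exists_relWeilRing_aux α θ β₀ hfin hproj
  refine ⟨C, γ, het, ?_⟩
  intro C₁ γ₁ e he D ψ₀ χ₀ hpo
  have hpo' : IsPushout α γ ψ₀ (e.hom ≫ χ₀) :=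
    hpo.of_iso (Iso.refl _) (Iso.refl _) e.symm (Iso.refl _) (by simp)
      (by simp [← he]) (by simp) (by simp)
  obtain ⟨l₀, hl₀, hup⟩ := haux D ψ₀ (e.hom ≫ χ₀) hpo'
  refine ⟨l₀, hl₀, ?_⟩
  intro R' C' φ ψ χ sq l hl
  obtain ⟨v, ⟨hv1, hv2⟩, hvu⟩ := hup R' C' φ ψ χ sq l hl
  refine ⟨e.inv ≫ v, ⟨?_, ?_⟩, ?_⟩
  · rw [← he, Category.assoc, Iso.hom_inv_id_assoc, hv1]
  · intro m hm1 hm2
    refine hv2 m hm1 ?_
    rw [Category.assoc, hm2]
    simp only [Category.assoc, Iso.hom_inv_id_assoc]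
  · rintro v' ⟨hv1', hv2'⟩
    have : e.hom ≫ v' = v := by
      refine hvu _ ⟨?_, ?_⟩
      · rw [← Category.assoc, he, hv1']
      · intro m hm1 hm2
        refine hv2' m hm1 ?_
        rw [Category.assoc, Category.assoc] at hm2
        exact (cancel_epi e.hom).mp hm2
    rw [← this, Iso.inv_hom_id_assoc]

end Groth.Agent.Lib.Helper20.HR
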