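import Mathlib
import Groth.Agent.Lib.Helper20.HR2
import Groth.Agent.S1880

/-!
# HR4: the scheme of lifts (a relative Weil restriction), scheme form

`g₁ : U₁ ⟶ U` étale, `π₁ : V₁ ⟶ U₁` finite locally free, `θ : V₁ ⟶ U`, all schemes affine.
The functor on affine `U₁`-schemes `T ↦ {φ : V₁ ×_{U₁} T ⟶ U₁ lifting θ}` is representable by an
affine étale `U₁`-scheme.
-/

set_option autoImplicit false
set_option linter.style.haveILetI false
set_option maxHeartbeats 4000000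
set_option synthInstance.maxHeartbeats 400000
universe u
open CategoryTheory CategoryTheory.Limits AlgebraicGeometry

namespace Groth.Agent.Lib.Helper20.HR

/-- morphism into an affine scheme from a ring map -/
noncomputable def homOfΓ {X Y : Scheme.{u}} [IsAffine Y] (f : Γ(Y, ⊤) ⟶ Γ(X, ⊤)) : X ⟶ Y :=
  X.toSpecΓ ≫ Spec.map f ≫ Y.isoSpec.inv

theorem isoSpec_inv_appTop' (Y : Scheme.{u}) [IsAffine Y] :
    Y.isoSpec.inv.appTop = (Scheme.ΓSpecIso Γ(Y, ⊤)).inv := by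
  have h1 : Y.isoSpec.hom.appTop = (Scheme.ΓSpecIso Γ(Y, ⊤)).hom := Scheme.toSpecΓ_appTop Y
  have h2 : Y.isoSpec.inv.appTop ≫ Y.isoSpec.hom.appTop = 𝟙 _ := by
    rw [← Scheme.Hom.comp_appTop, Iso.hom_inv_id]
    rfl
  rw [h1] at h2
  rw [← cancel_mono (Scheme.ΓSpecIso Γ(Y, ⊤)).hom, h2, Iso.inv_hom_id]

theorem homOfΓ_appTop {X Y : Scheme.{u}} [IsAffine Y] (f : Γ(Y, ⊤) ⟶ Γ(X, ⊤)) :
    (homOfΓ f).appTop = f := by
  unfold homOfΓ
  rw [Scheme.Hom.comp_appTop, Scheme.Hom.comp_appTop, Scheme.toSpecΓ_appTop, isoSpec_inv_appTop',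
    Category.assoc, Scheme.ΓSpecIso_naturality, Iso.inv_hom_id_assoc]

/-- the data of a representing object for the functor of lifts -/
structure LiftRep {U U₁ V₁ : Scheme.{u}} (g₁ : U₁ ⟶ U) (π₁ : V₁ ⟶ U₁) (θ : V₁ ⟶ U) where
  W : Scheme.{u}
  h : W ⟶ U₁
  VW : Scheme.{u}
  p : VW ⟶ V₁
  π : VW ⟶ W
  φ : VW ⟶ U₁
  aff : IsAffine W
  et : Etale h
  sq : IsPullback p π π₁ h
  hφ : φ ≫ g₁ = p ≫ θ
  ex : ∀ {T VT : Scheme.{u}} [IsAffine T] (b : T ⟶ U₁) (pT : VT ⟶ V₁) (πT : VT ⟶ T)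
      (sqT : IsPullback pT πT π₁ b) (φT : VT ⟶ U₁), φT ≫ g₁ = pT ≫ θ →
      ∃ (k : T ⟶ W) (hk : k ≫ h = b),
        sq.lift pT (πT ≫ k) (by rw [sqT.w, Category.assoc, hk]) ≫ φ = φT
  uniq : ∀ {T VT : Scheme.{u}} [IsAffine T] (k k' : T ⟶ W) (hkk : k ≫ h = k' ≫ h)
      (pT : VT ⟶ V₁) (πT : VT ⟶ T) (sqT : IsPullback pT πT π₁ (k ≫ h)),
      sq.lift pT (πT ≫ k) (by rw [sqT.w, Category.assoc]) ≫ φ =
        sq.lift pT (πT ≫ k') (by rw [sqT.w, Category.assoc, hkk]) ≫ φ → k = k'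

theorem isAffine_of_isPullback {P X Y Z : Scheme.{u}} [IsAffine X] [IsAffine Y] [IsAffine Z]
    {fst : P ⟶ X} {snd : P ⟶ Y} {f : X ⟶ Z} {g : Y ⟶ Z} (h : IsPullback fst snd f g) :
    IsAffine P :=
  IsAffine.of_isIso h.isoPullback.hom

theorem nonempty_liftRep {U U₁ V₁ : Scheme.{u}} [IsAffine U] [IsAffine U₁] [IsAffine V₁]
    (g₁ : U₁ ⟶ U) [Etale g₁] (π₁ : V₁ ⟶ U₁) [IsFinite π₁] [Flat π₁]
    [LocallyOfFinitePresentation π₁] (θ : V₁ ⟶ U) : Nonempty (LiftRep g₁ π₁ θ) := by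
  classical
  have hfin : letI := π₁.appTop.hom.toAlgebra; Module.Finite Γ(U₁, ⊤) Γ(V₁, ⊤) :=
    π₁.finite_appTop
  have hproj : letI := π₁.appTop.hom.toAlgebra; Module.Projective Γ(U₁, ⊤) Γ(V₁, ⊤) := by
    letI := π₁.appTop.hom.toAlgebra
    haveI : Module.Finite Γ(U₁, ⊤) Γ(V₁, ⊤) := hfin
    haveI hflat : Module.Flat Γ(U₁, ⊤) Γ(V₁, ⊤) :=
      (HasRingHomProperty.iff_of_isAffine (P := @Flat)).mp inferInstance
    haveI hfp : Algebra.FinitePresentation Γ(U₁, ⊤) Γ(V₁, ⊤) :=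
      (HasRingHomProperty.iff_of_isAffine (P := @LocallyOfFinitePresentation)).mp inferInstance
    haveI : Module.FinitePresentation Γ(U₁, ⊤) Γ(V₁, ⊤) :=
      Module.FinitePresentation.of_finite_of_finitePresentation _ _
    exact Module.Flat.projective_of_finitePresentation
  have het : g₁.appTop.hom.Etale :=
    (HasRingHomProperty.iff_of_isAffine (P := @Etale)).mp inferInstance
  obtain ⟨C, γ, hγet, hC⟩ := exists_relWeilRing π₁.appTop θ.appTop g₁.appTop hfin hproj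
  have hγ : γ.hom.Etale := hγet het
  let W : Scheme.{u} := Spec C
  let h : W ⟶ U₁ := Spec.map γ ≫ U₁.isoSpec.inv
  haveI : Etale (Spec.map γ) := (HasRingHomProperty.Spec_iff (P := @Etale)).mpr hγ
  haveI : Etale h := inferInstance
  let e : C ≅ Γ(W, ⊤) := (Scheme.ΓSpecIso C).symm
  have he : γ ≫ e.hom = h.appTop := by
    change γ ≫ (Scheme.ΓSpecIso C).inv = (Spec.map γ ≫ U₁.isoSpec.inv).appTop
    rw [Scheme.Hom.comp_appTop, isoSpec_inv_appTop', Scheme.ΓSpecIso_inv_naturality]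
  let VW : Scheme.{u} := pullback π₁ h
  have sq : IsPullback (pullback.fst π₁ h) (pullback.snd π₁ h) π₁ h := IsPullback.of_hasPullback _ _
  have po : IsPushout π₁.appTop h.appTop (pullback.fst π₁ h).appTop (pullback.snd π₁ h).appTop :=
    (Groth.Agent.S1880.isPushout_appTop sq).flip
  obtain ⟨l₀, hl₀, hup⟩ := hC Γ(W, ⊤) h.appTop e he Γ(VW, ⊤) _ _ po
  let φ : VW ⟶ U₁ := homOfΓ l₀
  have hφa : φ.appTop = l₀ := homOfΓ_appTop l₀
  refine ⟨⟨W, h, VW, pullback.fst π₁ h, pullback.snd π₁ h, φ, inferInstance, inferInstance, sq,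
    ?_, ?_, ?_⟩⟩
  · apply ext_of_isAffine
    rw [Scheme.Hom.comp_appTop, Scheme.Hom.comp_appTop, hφa]
    exact hl₀
  · intro T VT _ b pT πT sqT φT hφT
    haveI : IsAffine VT := isAffine_of_isPullback sqT
    have poT : IsPushout π₁.appTop b.appTop pT.appTop πT.appTop :=
      (Groth.Agent.S1880.isPushout_appTop sqT).flip
    have hl : g₁.appTop ≫ φT.appTop = θ.appTop ≫ pT.appTop := by
      rw [← Scheme.Hom.comp_appTop, ← Scheme.Hom.comp_appTop, hφT]
    obtain ⟨v, ⟨hv1, hv2⟩, -⟩ := hup Γ(T, ⊤) Γ(VT, ⊤) b.appTop pT.appTop πT.appTop poT φT.appTop hl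
    let k : T ⟶ W := homOfΓ v
    have hka : k.appTop = v := homOfΓ_appTop v
    have hk : k ≫ h = b := by
      apply ext_of_isAffine
      rw [Scheme.Hom.comp_appTop, hka]
      exact hv1
    refine ⟨k, hk, ?_⟩
    apply ext_of_isAffine
    rw [Scheme.Hom.comp_appTop, hφa]
    apply hv2
    · rw [← Scheme.Hom.comp_appTop, IsPullback.lift_fst]
    · rw [← Scheme.Hom.comp_appTop, IsPullback.lift_snd, Scheme.Hom.comp_appTop, hka]
  · intro T VT _ k k' hkk pT πT sqT hkeq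
    haveI : IsAffine VT := isAffine_of_isPullback sqT
    have poT : IsPushout π₁.appTop (k ≫ h).appTop pT.appTop πT.appTop :=
      (Groth.Agent.S1880.isPushout_appTop sqT).flip
    set L := sq.lift pT (πT ≫ k) (by rw [sqT.w, Category.assoc]) with hL
    set L' := sq.lift pT (πT ≫ k') (by rw [sqT.w, Category.assoc, hkk]) with hL'
    have hLp : L ≫ pullback.fst π₁ h = pT := IsPullback.lift_fst _ _ _ _
    have hLπ : L ≫ pullback.snd π₁ h = πT ≫ k := IsPullback.lift_snd _ _ _ _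
    have hL'p : L' ≫ pullback.fst π₁ h = pT := IsPullback.lift_fst _ _ _ _
    have hL'π : L' ≫ pullback.snd π₁ h = πT ≫ k' := IsPullback.lift_snd _ _ _ _
    have hφg : φ ≫ g₁ = pullback.fst π₁ h ≫ θ := by
      apply ext_of_isAffine
      rw [Scheme.Hom.comp_appTop, Scheme.Hom.comp_appTop, hφa]
      exact hl₀
    have hl : g₁.appTop ≫ (L ≫ φ).appTop = θ.appTop ≫ pT.appTop := by
      rw [← Scheme.Hom.comp_appTop, ← Scheme.Hom.comp_appTop, Category.assoc, hφg,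
        ← Category.assoc, hLp]
    obtain ⟨v₀, -, hv₀⟩ := hup Γ(T, ⊤) Γ(VT, ⊤) (k ≫ h).appTop pT.appTop πT.appTop poT
      (L ≫ φ).appTop hl
    have hA1 : (pullback.fst π₁ h).appTop ≫ L.appTop = pT.appTop := by
      rw [← Scheme.Hom.comp_appTop, hLp]
    have hA2 : (pullback.snd π₁ h).appTop ≫ L.appTop = k.appTop ≫ πT.appTop := by
      rw [← Scheme.Hom.comp_appTop, hLπ, Scheme.Hom.comp_appTop]
    have hA1' : (pullback.fst π₁ h).appTop ≫ L'.appTop = pT.appTop := by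
      rw [← Scheme.Hom.comp_appTop, hL'p]
    have hA2' : (pullback.snd π₁ h).appTop ≫ L'.appTop = k'.appTop ≫ πT.appTop := by
      rw [← Scheme.Hom.comp_appTop, hL'π, Scheme.Hom.comp_appTop]
    have h1 : k.appTop = v₀ := by
      apply hv₀
      refine ⟨(Scheme.Hom.comp_appTop _ _).symm, ?_⟩
      intro m hm1 hm2
      have hm : m = L.appTop := by
        apply po.hom_ext
        · rw [hm1, hA1]
        · rw [hm2, hA2]
      rw [hm, Scheme.Hom.comp_appTop, hφa]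
    have h2 : k'.appTop = v₀ := by
      apply hv₀
      refine ⟨?_, ?_⟩
      · rw [hkk]
        exact (Scheme.Hom.comp_appTop _ _).symm
      intro m hm1 hm2
      have hm : m = L'.appTop := by
        apply po.hom_ext
        · rw [hm1, hA1']
        · rw [hm2, hA2']
      rw [hm, hkeq, Scheme.Hom.comp_appTop, hφa]
    apply ext_of_isAffine
    rw [h1, h2]

end Groth.Agent.Lib.Helper20.HR
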