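import Mathlib
import Groth.Agent.Lib.Helper20.HP1
import Groth.Agent.Lib.Helper20.HR4

/-!
# HR5: pointwise tools (agreement locus of two lifts through an unramified morphism, points of
fibre products, field-valued points)
-/

set_option autoImplicit false
set_option linter.style.haveILetI false
set_option maxHeartbeats 4000000
set_option synthInstance.maxHeartbeats 400000
universe u
open CategoryTheory CategoryTheory.Limits AlgebraicGeometry

namespace Groth.Agent.Lib.Helper20.HR

section Agree

variable {X Y Z : Scheme.{u}} (g : Y ⟶ Z) [FormallyUnramified g] [LocallyOfFiniteType g]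

/-- the open locus where two lifts `a b : X ⟶ Y` of the same morphism to `Z` agree. -/
noncomputable def agree (a b : X ⟶ Y) (hab : a ≫ g = b ≫ g) : X.Opens :=
  (pullback.lift a b hab) ⁻¹ᵁ (pullback.diagonal g).opensRange

theorem comp_eq_of_range_subset (a b : X ⟶ Y) (hab : a ≫ g = b ≫ g) {X' : Scheme.{u}}
    (i : X' ⟶ X) (hi : Set.range i ⊆ (agree g a b hab : Set X)) : i ≫ a = i ≫ b := by
  have h : Set.range (i ≫ pullback.lift a b hab) ⊆ Set.range (pullback.diagonal g) := by
    rintro _ ⟨x, rfl⟩
    exact hi ⟨x, rfl⟩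
  let l := IsOpenImmersion.lift (pullback.diagonal g) (i ≫ pullback.lift a b hab) h
  have hl : l ≫ pullback.diagonal g = i ≫ pullback.lift a b hab :=
    IsOpenImmersion.lift_fac _ _ _
  have h1 : l = i ≫ a := by
    have := congrArg (· ≫ pullback.fst g g) hl
    simp only [Category.assoc, pullback.diagonal_fst, Category.comp_id, pullback.lift_fst] at this
    exact this
  have h2 : l = i ≫ b := by
    have := congrArg (· ≫ pullback.snd g g) hl
    simp only [Category.assoc, pullback.diagonal_snd, Category.comp_id, pullback.lift_snd] at this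
    exact this
  rw [← h1, ← h2]

theorem mem_agree_of (a b : X ⟶ Y) (hab : a ≫ g = b ≫ g) (x : X) (hx : a x = b x)
    (hbij : Function.Bijective (g.residueFieldMap (a x))) : x ∈ agree g a b hab := by
  change pullback.lift a b hab x ∈ Set.range (pullback.diagonal g)
  refine ⟨a x, ?_⟩
  apply Groth.Agent.Lib.Helper20.HP.eq_of_fst_eq_of_snd_eq g g (a x) hbij
  · change (pullback.diagonal g ≫ pullback.snd g g) (a x) = a x
    rw [pullback.diagonal_snd]
    rfl
  · change (pullback.lift a b hab ≫ pullback.snd g g) x = a x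
    rw [pullback.lift_snd]
    exact hx.symm
  · change (pullback.diagonal g ≫ pullback.fst g g) (a x) =
      (pullback.lift a b hab ≫ pullback.fst g g) x
    rw [pullback.diagonal_fst, pullback.lift_fst]
    rfl

theorem eq_of_forall_mem_agree (a b : X ⟶ Y) (hab : a ≫ g = b ≫ g)
    (h : ∀ x : X, x ∈ agree g a b hab) : a = b := by
  have := comp_eq_of_range_subset g a b hab (𝟙 X) (by rintro _ ⟨x, rfl⟩; exact h x)
  simpa using this

end Agree

section Pts

/-- uniqueness of points of a pullback square over a point with trivial residue field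
extension -/
theorem eq_of_isPullback {P X S S' : Scheme.{u}} {fst : P ⟶ X} {snd : P ⟶ S'} {f : X ⟶ S}
    {g : S' ⟶ S} (sq : IsPullback fst snd f g) (p' : S')
    (hbij : Function.Bijective (g.residueFieldMap p')) (w w' : P)
    (h1 : snd w = p') (h1' : snd w' = p') (h2 : fst w = fst w') : w = w' := by
  have hfst : sq.isoPullback.hom ≫ pullback.fst f g = fst := sq.isoPullback_hom_fst
  have hsnd : sq.isoPullback.hom ≫ pullback.snd f g = snd := sq.isoPullback_hom_snd
  have key : sq.isoPullback.hom w = sq.isoPullback.hom w' := by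
    apply Groth.Agent.Lib.Helper20.HP.eq_of_fst_eq_of_snd_eq f g p' hbij
    · change (sq.isoPullback.hom ≫ pullback.snd f g) w = p'
      rw [hsnd]; exact h1
    · change (sq.isoPullback.hom ≫ pullback.snd f g) w' = p'
      rw [hsnd]; exact h1'
    · change (sq.isoPullback.hom ≫ pullback.fst f g) w = (sq.isoPullback.hom ≫ pullback.fst f g) w'
      rw [hfst]; exact h2
  exact sq.isoPullback.hom.homeomorph.injective key

/-- existence of points of a pullback square -/
theorem exists_point_of_isPullback {P X S S' : Scheme.{u}} {fst : P ⟶ X} {snd : P ⟶ S'}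
    {f : X ⟶ S} {g : S' ⟶ S} (sq : IsPullback fst snd f g) (x : X) (p' : S') (h : f x = g p') :
    ∃ w : P, fst w = x ∧ snd w = p' := by
  obtain ⟨z, hz1, hz2⟩ := Scheme.Pullback.exists_preimage_pullback x p' h
  refine ⟨sq.isoPullback.inv z, ?_, ?_⟩
  · change (sq.isoPullback.inv ≫ fst) z = x
    rw [sq.isoPullback_inv_fst]; exact hz1
  · change (sq.isoPullback.inv ≫ snd) z = p'
    rw [sq.isoPullback_inv_snd]; exact hz2

/-- a field-valued point factors through the residue field of its image -/
theorem exists_factor_fromSpecResidueField {K : Type u} [Field K] {X : Scheme.{u}}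
    (a : Spec (.of K) ⟶ X) (x : X) (hx : a (IsLocalRing.closedPoint K) = x) :
    ∃ c : Spec (.of K) ⟶ Spec (X.residueField x), a = c ≫ X.fromSpecResidueField x := by
  subst hx
  exact ⟨_, ((Scheme.SpecToEquivOfField K X).left_inv a).symm⟩

end Pts

section Aff

/-- the prime ideal of a point of an affine scheme -/
noncomputable def primeOf {X : Scheme.{u}} [IsAffine X] (x : X) : Ideal Γ(X, ⊤) :=
  (X.isoSpec.hom x).asIdeal

instance {X : Scheme.{u}} [IsAffine X] (x : X) : (primeOf x).IsPrime :=
  (X.isoSpec.hom x).isPrime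

theorem primeOf_injective {X : Scheme.{u}} [IsAffine X] {x y : X} (h : primeOf x = primeOf y) :
    x = y := by
  apply X.isoSpec.hom.homeomorph.injective
  exact PrimeSpectrum.ext h

theorem primeOf_map {X Y : Scheme.{u}} [IsAffine X] [IsAffine Y] (f : X ⟶ Y) (x : X) :
    primeOf (f x) = (primeOf x).comap f.appTop.hom := by
  have h := Scheme.isoSpec_hom_naturality f
  have h1 : Y.isoSpec.hom (f x) = (Spec.map f.appTop) (X.isoSpec.hom x) := by
    change (f ≫ Y.isoSpec.hom) x = (X.isoSpec.hom ≫ Spec.map f.appTop) x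
    rw [h]
  unfold primeOf
  rw [h1]
  rfl

theorem exists_point_of_prime {X : Scheme.{u}} [IsAffine X] (𝔭 : Ideal Γ(X, ⊤)) [h𝔭 : 𝔭.IsPrime] :
    ∃ x : X, primeOf x = 𝔭 := by
  refine ⟨X.isoSpec.inv ⟨𝔭, h𝔭⟩, ?_⟩
  unfold primeOf
  have : X.isoSpec.hom (X.isoSpec.inv ⟨𝔭, h𝔭⟩) = ⟨𝔭, h𝔭⟩ := by
    change (X.isoSpec.inv ≫ X.isoSpec.hom) _ = _
    rw [Iso.inv_hom_id]
    rfl
  rw [this]

/-- the kernel of the ring map of a field-valued point of an affine scheme is the prime of the
image point -/
theorem ker_eq_primeOf {K : Type u} [Field K] {X : Scheme.{u}} [IsAffine X]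
    (a : Spec (.of K) ⟶ X) :
    RingHom.ker (a.appTop ≫ (Scheme.ΓSpecIso (.of K)).hom).hom =
      primeOf (a (IsLocalRing.closedPoint K)) := by
  have h := Scheme.isoSpec_hom_naturality a
  rw [Scheme.isoSpec_Spec_hom, ← Spec.map_comp] at h
  have h1 : X.isoSpec.hom (a (IsLocalRing.closedPoint K)) =
      (Spec.map (a.appTop ≫ (Scheme.ΓSpecIso (.of K)).hom)) (IsLocalRing.closedPoint K) := by
    change (a ≫ X.isoSpec.hom) _ = _
    rw [← h]
  unfold primeOf
  rw [h1]
  change _ = Ideal.comap _ (IsLocalRing.closedPoint K).asIdeal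
  have : (IsLocalRing.closedPoint K).asIdeal = ⊥ := by
    change IsLocalRing.maximalIdeal K = ⊥
    exact IsLocalRing.maximalIdeal_eq_bot
  rw [this]
  rfl

end Aff

end Groth.Agent.Lib.Helper20.HR
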