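import Mathlib
import Groth.Agent.Lib.Helper20.HR3
import Groth.Agent.Lib.Helper20.HR5

/-!
# HR6: a rational point of the scheme of lifts over a point with trivial residue field extension
-/

set_option autoImplicit false
set_option linter.style.haveILetI false
set_option maxHeartbeats 4000000
set_option synthInstance.maxHeartbeats 400000
universe u
open CategoryTheory CategoryTheory.Limits AlgebraicGeometry

namespace Groth.Agent.Lib.Helper20.HR

/-- a field valued point of the base of an étale morphism lifts to a point with trivial residue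
field extension over its image. -/
theorem exists_field_lift {U U₁ : Scheme.{u}} (g₁ : U₁ ⟶ U) (u₁ : U₁)
    (hres : Function.Bijective (g₁.residueFieldMap u₁)) {K : Type u} [Field K]
    (a₁ : Spec (.of K) ⟶ U) (ha₁ : a₁ (IsLocalRing.closedPoint K) = g₁ u₁) :
    ∃ a : Spec (.of K) ⟶ U₁, a ≫ g₁ = a₁ ∧ a (IsLocalRing.closedPoint K) = u₁ := by
  obtain ⟨c, hc⟩ := exists_factor_fromSpecResidueField a₁ (g₁ u₁) ha₁
  haveI : IsIso (g₁.residueFieldMap u₁) := (ConcreteCategory.isIso_iff_bijective _).mpr hres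
  refine ⟨c ≫ Spec.map (inv (g₁.residueFieldMap u₁)) ≫ U₁.fromSpecResidueField u₁, ?_, ?_⟩
  · have e1 : Spec.map (g₁.residueFieldMap u₁) ≫ U.fromSpecResidueField (g₁ u₁) =
        U₁.fromSpecResidueField u₁ ≫ g₁ :=
      Scheme.Hom.SpecMap_residueFieldMap_fromSpecResidueField g₁ u₁
    have e2 : Spec.map (inv (g₁.residueFieldMap u₁)) ≫ Spec.map (g₁.residueFieldMap u₁) = 𝟙 _ := by
      rw [← Spec.map_comp, IsIso.hom_inv_id, Spec.map_id]
    have e3 : Spec.map (inv (g₁.residueFieldMap u₁)) ≫ U₁.fromSpecResidueField u₁ ≫ g₁ =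
        U.fromSpecResidueField (g₁ u₁) := by
      rw [← e1, ← Category.assoc, e2, Category.id_comp]
    rw [Category.assoc, Category.assoc, e3]
    exact hc.symm
  · rw [← Category.assoc]
    exact (Scheme.Hom.comp_apply (c ≫ Spec.map (inv (g₁.residueFieldMap u₁)))
      (U₁.fromSpecResidueField u₁) _).trans (Scheme.fromSpecResidueField_apply _ _)

theorem exists_point {U U₁ V₁ : Scheme.{u}} [IsAffine U] [IsAffine U₁] [IsAffine V₁]
    (g₁ : U₁ ⟶ U) [Etale g₁] (π₁ : V₁ ⟶ U₁) [IsFinite π₁] (θ : V₁ ⟶ U) (L : LiftRep g₁ π₁ θ)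
    (u₁ : U₁) (hres : Function.Bijective (g₁.residueFieldMap u₁))
    (hθ : ∀ v : V₁, π₁ v = u₁ → θ v = g₁ u₁) :
    ∃ w : L.W, L.h w = u₁ ∧ Function.Bijective (L.h.residueFieldMap w) ∧
      ∀ v : L.VW, L.π v = w → L.φ v = u₁ := by
  classical
  let K₀ : Type u := U₁.residueField u₁
  let T : Scheme.{u} := Spec (.of K₀)
  let b : T ⟶ U₁ := U₁.fromSpecResidueField u₁
  have hb : ∀ t : T, b t = u₁ := fun t => Scheme.fromSpecResidueField_apply _ _
  let F₀ : Scheme.{u} := pullback π₁ b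
  let pT : F₀ ⟶ V₁ := pullback.fst π₁ b
  let πT : F₀ ⟶ T := pullback.snd π₁ b
  have sqT : IsPullback pT πT π₁ b := IsPullback.of_hasPullback _ _
  haveI : IsAffine T := inferInstanceAs (IsAffine (Spec _))
  haveI : IsAffine F₀ := inferInstanceAs (IsAffine (pullback π₁ b))
  haveI : IsFinite πT := inferInstanceAs (IsFinite (pullback.snd π₁ b))
  have hpT : ∀ y : F₀, π₁ (pT y) = u₁ := by
    intro y
    have : (pT ≫ π₁) y = (πT ≫ b) y := by rw [sqT.w]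
    exact this.trans (hb _)
  have hθ' : ∀ y : F₀, (pT ≫ θ) y = g₁ u₁ := fun y => hθ _ (hpT y)
  -- the ring of the fibre is artinian
  haveI hart : IsArtinianRing Γ(F₀, ⊤) := by
    letI : Algebra Γ(T, ⊤) Γ(F₀, ⊤) := πT.appTop.hom.toAlgebra
    haveI : Module.Finite Γ(T, ⊤) Γ(F₀, ⊤) := πT.finite_appTop
    haveI : IsArtinianRing Γ(T, ⊤) :=
      (Scheme.ΓSpecIso (.of K₀)).commRingCatIsoToRingEquiv.symm.isArtinianRing
    exact IsArtinianRing.of_finite Γ(T, ⊤) Γ(F₀, ⊤)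
  letI algU : Algebra Γ(U, ⊤) Γ(U₁, ⊤) := g₁.appTop.hom.toAlgebra
  have het : g₁.appTop.hom.Etale :=
    (HasRingHomProperty.iff_of_isAffine (P := @Etale)).mp inferInstance
  haveI : Algebra.Etale Γ(U, ⊤) Γ(U₁, ⊤) := het
  let θ₀ : Γ(U, ⊤) →+* Γ(F₀, ⊤) := (pT ≫ θ).appTop.hom
  have H : ∀ 𝔪 : Ideal Γ(F₀, ⊤), 𝔪.IsMaximal → ∃ f : Γ(U₁, ⊤) →+* Γ(F₀, ⊤) ⧸ 𝔪,
      f.comp (algebraMap Γ(U, ⊤) Γ(U₁, ⊤)) = (Ideal.Quotient.mk 𝔪).comp θ₀ ∧
        RingHom.ker f = primeOf u₁ := by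
    intro 𝔪 h𝔪
    letI : Field (Γ(F₀, ⊤) ⧸ 𝔪) := Ideal.Quotient.field 𝔪
    let K : Type u := Γ(F₀, ⊤) ⧸ 𝔪
    let mk : Γ(F₀, ⊤) ⟶ CommRingCat.of K := CommRingCat.ofHom (Ideal.Quotient.mk 𝔪)
    let a₀ : Spec (.of K) ⟶ F₀ := Spec.map mk ≫ F₀.isoSpec.inv
    have ha₀ : a₀.appTop ≫ (Scheme.ΓSpecIso (.of K)).hom = mk := by
      change (Spec.map mk ≫ F₀.isoSpec.inv).appTop ≫ _ = _
      rw [Scheme.Hom.comp_appTop, isoSpec_inv_appTop', Category.assoc,
        Scheme.ΓSpecIso_naturality, Iso.inv_hom_id_assoc]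
    obtain ⟨a, ha, hapt⟩ := exists_field_lift g₁ u₁ hres (a₀ ≫ pT ≫ θ) (hθ' _)
    refine ⟨(a.appTop ≫ (Scheme.ΓSpecIso (.of K)).hom).hom, ?_, ?_⟩
    · have h1 : g₁.appTop ≫ a.appTop ≫ (Scheme.ΓSpecIso (.of K)).hom =
          (pT ≫ θ).appTop ≫ mk := by
        rw [← Category.assoc, ← Scheme.Hom.comp_appTop, ha, Scheme.Hom.comp_appTop,
          Category.assoc, ha₀]
      exact congrArg CommRingCat.Hom.hom h1
    · rw [ker_eq_primeOf, hapt]
  obtain ⟨φ₀r, hφ₀1, hφ₀2⟩ := exists_lift_artinian (A₀ := Γ(U, ⊤)) (A₁ := Γ(U₁, ⊤))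
    (Λ := Γ(F₀, ⊤)) (primeOf u₁) θ₀ H
  let φ₀ : F₀ ⟶ U₁ := homOfΓ (CommRingCat.ofHom φ₀r)
  have hφ₀a : φ₀.appTop = CommRingCat.ofHom φ₀r := homOfΓ_appTop _
  have hφ₀g : φ₀ ≫ g₁ = pT ≫ θ := by
    apply ext_of_isAffine
    rw [Scheme.Hom.comp_appTop, hφ₀a]
    apply CommRingCat.hom_ext
    exact hφ₀1
  have hφ₀pt : ∀ y : F₀, φ₀ y = u₁ := by
    intro y
    apply primeOf_injective
    rw [primeOf_map, hφ₀a]
    exact hφ₀2 _ inferInstance
  obtain ⟨k₀, hk₀, hlift⟩ := L.ex b pT πT sqT φ₀ hφ₀g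
  let pt : T := IsLocalRing.closedPoint K₀
  have hkpt : (k₀ ≫ L.h) pt = u₁ := by
    rw [hk₀]
    exact hb pt
  refine ⟨k₀ pt, hkpt, ?_, ?_⟩
  · -- residue fields
    let e := Scheme.SpecToEquivOfField K₀ U₁
    have e2 : e b = ⟨u₁, 𝟙 _⟩ := by
      have : b = e.symm ⟨u₁, 𝟙 _⟩ := by
        change b = Spec.map (𝟙 _) ≫ U₁.fromSpecResidueField u₁
        rw [Spec.map_id, Category.id_comp]
      rw [this, Equiv.apply_symm_apply]
    have e1 : e (k₀ ≫ L.h) = ⟨u₁, 𝟙 _⟩ := by rw [hk₀]; exact e2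
    rw [Scheme.SpecToEquivOfField_eq_iff] at e1
    obtain ⟨e', he'⟩ := e1
    have hcomp := Scheme.descResidueField_stalkClosedPointTo_comp (f := L.h) k₀
    obtain ⟨A, hA⟩ : ∃ A : U₁.residueField (L.h (k₀ pt)) ⟶ L.W.residueField (k₀ pt),
        A = L.h.residueFieldMap (k₀ pt) := ⟨_, rfl⟩
    obtain ⟨δ, hδ⟩ : ∃ δ : L.W.residueField (k₀ pt) ⟶ .of K₀,
        δ = L.W.descResidueField (Scheme.stalkClosedPointTo k₀) := ⟨_, rfl⟩
    have he'' : A ≫ δ = (U₁.residueFieldCongr e').hom ≫ 𝟙 _ := by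
      rw [hA, hδ]
      exact hcomp.symm.trans he'
    have hiso : Function.Bijective ((U₁.residueFieldCongr e').hom ≫ 𝟙 (CommRingCat.of K₀)).hom := by
      change Function.Bijective (U₁.residueFieldCongr e').hom.hom
      exact ConcreteCategory.bijective_of_isIso (U₁.residueFieldCongr e').hom
    have hbij : Function.Bijective (A ≫ δ).hom := by
      rw [he'']
      exact hiso
    have hinj : Function.Injective δ.hom := RingHom.injective _
    rw [← hA]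
    constructor
    · exact A.hom.injective
    · intro y
      obtain ⟨x, hx⟩ := hbij.2 (δ.hom y)
      exact ⟨x, hinj hx⟩
  · intro v hv
    let ℓ : F₀ ⟶ L.VW := L.sq.lift pT (πT ≫ k₀) (by rw [sqT.w, Category.assoc, hk₀])
    have hℓp : ℓ ≫ L.p = pT := IsPullback.lift_fst _ _ _ _
    have hℓπ : ℓ ≫ L.π = πT ≫ k₀ := IsPullback.lift_snd _ _ _ _
    have big : IsPullback (ℓ ≫ L.p) πT π₁ (k₀ ≫ L.h) := by
      rw [hℓp, hk₀]
      exact sqT
    have left : IsPullback ℓ πT L.π k₀ := IsPullback.of_right big hℓπ L.sq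
    obtain ⟨y, -, hy2⟩ := exists_point_of_isPullback left.flip pt v hv.symm
    have : L.φ v = (ℓ ≫ L.φ) y := by
      rw [Scheme.Hom.comp_apply, hy2]
    rw [this, hlift]
    exact hφ₀pt y

end Groth.Agent.Lib.Helper20.HR
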