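import Mathlib
import Groth.Agent.Lib.Helper20.HN1
import Groth.Agent.Lib.Helper20.HN3
import Groth.Agent.Lib.Helper20.HR6

/-!
# HR7: the set-up for étale-local splitting of a groupoid: a finite part `V₁` of the source fibres
over an étale neighbourhood, the scheme of lifts of the target map, composable pairs
-/

set_option autoImplicit false
set_option linter.style.haveILetI false
set_option linter.unusedSectionVars false
set_option maxHeartbeats 4000000
set_option synthInstance.maxHeartbeats 400000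
universe u
open CategoryTheory CategoryTheory.Limits AlgebraicGeometry

namespace Groth.Agent.Lib.Helper20.HR

open Grpd Groth.Agent.Lib.Helper25.GrpdAlg

/-- the basic data: an affine étale neighbourhood `(U₁, u₁)` and an open finite locally free part
`V₁` of `R ×_{s,U} U₁`. -/
structure Setup {S : Scheme.{u}} (G : GroupoidScheme S) where
  U₁ : Scheme.{u}
  g₁ : U₁ ⟶ G.U
  u₁ : U₁
  V₁ : Scheme.{u}
  j₁ : V₁ ⟶ pullback G.s g₁
  affU₁ : IsAffine U₁
  affV₁ : IsAffine V₁
  et : Etale g₁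
  oi : IsOpenImmersion j₁
  fin : IsFinite (j₁ ≫ pullback.snd G.s g₁)
  flat : Flat (j₁ ≫ pullback.snd G.s g₁)
  lfp : LocallyOfFinitePresentation (j₁ ≫ pullback.snd G.s g₁)
  hres : Function.Bijective (g₁.residueFieldMap u₁)

namespace Setup

variable {S : Scheme.{u}} {G : GroupoidScheme S} (D : Setup G)

attribute [instance] affU₁ affV₁ et oi fin flat lfp

/-- the structure map of the finite part -/
noncomputable def π₁ : D.V₁ ⟶ D.U₁ := D.j₁ ≫ pullback.snd G.s D.g₁

/-- the underlying arrow -/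
noncomputable def ρ₁ : D.V₁ ⟶ G.R := D.j₁ ≫ pullback.fst G.s D.g₁

/-- the target map -/
noncomputable def θ : D.V₁ ⟶ G.U := D.ρ₁ ≫ G.t

instance : IsFinite D.π₁ := D.fin
instance : Flat D.π₁ := D.flat
instance : LocallyOfFinitePresentation D.π₁ := D.lfp

theorem ρ₁_s : D.ρ₁ ≫ G.s = D.π₁ ≫ D.g₁ := by
  unfold ρ₁ π₁
  rw [Category.assoc, Category.assoc, pullback.condition]

theorem ρ₁_t : D.ρ₁ ≫ G.t = D.θ := rfl

theorem j₁_fst : D.j₁ ≫ pullback.fst G.s D.g₁ = D.ρ₁ := rfl
theorem j₁_snd : D.j₁ ≫ pullback.snd G.s D.g₁ = D.π₁ := rfl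

/-- morphisms into `V₁` are determined by the arrow and the base point -/
theorem v₁_hom_ext {T : Scheme.{u}} {a b : T ⟶ D.V₁} (h1 : a ≫ D.ρ₁ = b ≫ D.ρ₁)
    (h2 : a ≫ D.π₁ = b ≫ D.π₁) : a = b := by
  rw [← cancel_mono D.j₁]
  apply pullback.hom_ext
  · simpa only [Category.assoc, j₁_fst] using h1
  · simpa only [Category.assoc, j₁_snd] using h2

/-- the arrows of the fibre of the finite part over `u₁` -/
def Sig : Set G.R := {r | ∃ v : D.V₁, D.π₁ v = D.u₁ ∧ D.ρ₁ v = r}

/-- a point of `R ×_U U₁` over `u₁` whose arrow is in the fibre lies in the finite part -/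
theorem mem_range_j₁ (r₁ : ↑(pullback G.s D.g₁)) (h1 : pullback.snd G.s D.g₁ r₁ = D.u₁)
    (h2 : pullback.fst G.s D.g₁ r₁ ∈ D.Sig) : r₁ ∈ Set.range D.j₁ := by
  obtain ⟨v, hv1, hv2⟩ := h2
  refine ⟨v, ?_⟩
  apply Groth.Agent.Lib.Helper20.HP.eq_of_fst_eq_of_snd_eq G.s D.g₁ D.u₁ D.hres
  · exact hv1
  · exact h1
  · exact hv2

variable (L : LiftRep D.g₁ D.π₁ D.θ)

/-- the étale map of the scheme of lifts to `U` -/
noncomputable def g : L.W ⟶ G.U := L.h ≫ D.g₁

instance : IsAffine L.W := L.aff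
instance : Etale L.h := L.et
instance : Etale (D.g L) := by unfold g; infer_instance
instance : IsAffine L.VW := isAffine_of_isPullback L.sq

instance : IsFinite L.π := MorphismProperty.of_isPullback (P := @IsFinite) L.sq inferInstance
instance : Flat L.π := MorphismProperty.of_isPullback (P := @Flat) L.sq inferInstance
instance : LocallyOfFinitePresentation L.π :=
  MorphismProperty.of_isPullback (P := @LocallyOfFinitePresentation) L.sq inferInstance

/-- the arrow of a point of `V_W` -/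
noncomputable def ρW : L.VW ⟶ G.R := L.p ≫ D.ρ₁

theorem ρW_s : D.ρW L ≫ G.s = L.π ≫ D.g L := by
  unfold ρW g
  rw [Category.assoc, ρ₁_s, ← Category.assoc, L.sq.w, Category.assoc]

theorem ρW_t : D.ρW L ≫ G.t = L.φ ≫ D.g₁ := by
  unfold ρW
  rw [Category.assoc, ρ₁_t, L.hφ]

/-- composable pairs `(β, α)`, `β ∈ V₁` over `φ(α)`, `α ∈ V_W`. -/
noncomputable abbrev Y : Scheme.{u} := pullback D.π₁ L.φ

noncomputable def yβ : D.Y L ⟶ D.V₁ := pullback.fst D.π₁ L.φ
noncomputable def yα : D.Y L ⟶ L.VW := pullback.snd D.π₁ L.φ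

theorem y_cond : D.yβ L ≫ D.π₁ = D.yα L ≫ L.φ := pullback.condition

theorem y_comp_cond : (D.yβ L ≫ D.ρ₁) ≫ G.s = (D.yα L ≫ D.ρW L) ≫ G.t := by
  rw [Category.assoc, ρ₁_s, ← Category.assoc, y_cond, Category.assoc, Category.assoc, ρW_t]

/-- the composition `β ∘ α` -/
noncomputable def yc : D.Y L ⟶ G.R := comp G (D.yβ L ≫ D.ρ₁) (D.yα L ≫ D.ρW L) (D.y_comp_cond L)

theorem yc_s : D.yc L ≫ G.s = D.yα L ≫ L.π ≫ D.g L := by
  unfold yc
  rw [comp_s, Category.assoc, ρW_s]

theorem yc_t : D.yc L ≫ G.t = D.yβ L ≫ D.θ := by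
  unfold yc
  rw [comp_t, Category.assoc, ρ₁_t]

theorem yc_s' : D.yc L ≫ G.s = (D.yα L ≫ L.p ≫ D.π₁) ≫ D.g₁ := by
  rw [yc_s]
  unfold g
  rw [Category.assoc, Category.assoc, L.sq.w_assoc]

/-- the composition as a point of `R ×_U U₁` -/
noncomputable def M : D.Y L ⟶ pullback G.s D.g₁ :=
  pullback.lift (D.yc L) (D.yα L ≫ L.p ≫ D.π₁) (D.yc_s' L)

theorem M_fst : D.M L ≫ pullback.fst G.s D.g₁ = D.yc L := pullback.lift_fst _ _ _
theorem M_snd : D.M L ≫ pullback.snd G.s D.g₁ = D.yα L ≫ L.p ≫ D.π₁ := pullback.lift_snd _ _ _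

/-- the projection of composable pairs to `W` -/
noncomputable def πY : D.Y L ⟶ L.W := D.yα L ≫ L.π

instance : IsFinite (D.yα L) := by
  unfold yα
  infer_instance

instance : IsFinite (D.πY L) := by
  unfold πY
  infer_instance

/-- the locus of `W` over which the finite part is closed under translation -/
noncomputable def Wb : L.W.Opens :=
  ⟨(D.πY L '' ((D.M L) ⁻¹' (Set.range D.j₁)ᶜ))ᶜ, by
    rw [isOpen_compl_iff]
    apply (D.πY L).isClosedMap
    apply IsClosed.preimage (D.M L).continuous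
    rw [isClosed_compl_iff]
    exact D.j₁.isOpenEmbedding.isOpen_range⟩

theorem mem_Wb_iff (x : L.W) :
    x ∈ D.Wb L ↔ ∀ y : ↑(D.Y L), D.πY L y = x → D.M L y ∈ Set.range D.j₁ := by
  change x ∈ (D.πY L '' ((D.M L) ⁻¹' (Set.range D.j₁)ᶜ))ᶜ ↔ _
  rw [Set.mem_compl_iff, Set.mem_image]
  constructor
  · intro h y hy
    by_contra hn
    exact h ⟨y, hn, hy⟩
  · rintro h ⟨y, hn, hy⟩
    exact hn (h y hy)

end Setup

end Groth.Agent.Lib.Helper20.HR
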