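import Mathlib
import Groth.Agent.Lib.Helper20.HR7

/-!
# HR8: the partially defined lift `τ` of the target map on the scheme of lifts
-/

set_option autoImplicit false
set_option linter.style.haveILetI false
set_option linter.unusedSectionVars false
set_option maxHeartbeats 4000000
set_option synthInstance.maxHeartbeats 400000
universe u
open CategoryTheory CategoryTheory.Limits AlgebraicGeometry

namespace Groth.Agent.Lib.Helper20.HR

open Grpd Groth.Agent.Lib.Helper25.GrpdAlg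

namespace Setup

variable {S : Scheme.{u}} {G : GroupoidScheme S} [IsAffine G.U] (D : Setup G)
  (L : LiftRep D.g₁ D.π₁ D.θ)

/-- a rational point of the scheme of lifts, with a basic open neighbourhood inside `Wb`. -/
structure Pt where
  w : L.W
  hhw : L.h w = D.u₁
  hwres : Function.Bijective (L.h.residueFieldMap w)
  hΦ : ∀ v : L.VW, L.π v = w → L.φ v = L.h w
  f₀ : Γ(L.W, ⊤)
  hwf₀ : w ∈ L.W.basicOpen f₀
  hf₀ : L.W.basicOpen f₀ ≤ D.Wb L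

variable {D L} (P : D.Pt L)

/-- the basic open neighbourhood -/
noncomputable def Pt.Dop : L.W.Opens := L.W.basicOpen P.f₀

/-- the finite part over the basic open neighbourhood -/
noncomputable def Pt.VD : L.VW.Opens := L.π ⁻¹ᵁ P.Dop

instance : IsAffine P.VD.toScheme := by
  have h : P.VD = L.VW.basicOpen (L.π.appTop P.f₀) := Scheme.preimage_basicOpen_top L.π P.f₀
  have : IsAffineOpen P.VD := by
    rw [h]
    exact (isAffineOpen_top L.VW).basicOpen _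
  exact this

theorem Pt.mem_VD (v : L.VW) : v ∈ P.VD ↔ L.π v ∈ P.Dop := Iff.rfl

/-- composable pairs over the neighbourhood -/
noncomputable abbrev Pt.YD : Scheme.{u} := pullback D.π₁ (P.VD.ι ≫ L.φ)

noncomputable def Pt.toY : P.YD ⟶ D.Y L :=
  pullback.lift (pullback.fst D.π₁ (P.VD.ι ≫ L.φ)) (pullback.snd D.π₁ (P.VD.ι ≫ L.φ) ≫ P.VD.ι)
    (by rw [pullback.condition, Category.assoc])

theorem Pt.toY_yβ : P.toY ≫ D.yβ L = pullback.fst D.π₁ (P.VD.ι ≫ L.φ) := pullback.lift_fst _ _ _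
theorem Pt.toY_yα : P.toY ≫ D.yα L = pullback.snd D.π₁ (P.VD.ι ≫ L.φ) ≫ P.VD.ι :=
  pullback.lift_snd _ _ _

theorem Pt.range_toY_M : Set.range (P.toY ≫ D.M L) ⊆ Set.range D.j₁ := by
  rintro _ ⟨y', rfl⟩
  have hx : D.πY L (P.toY y') ∈ D.Wb L := by
    apply P.hf₀
    have h1 : D.πY L (P.toY y') =
        L.π (P.VD.ι (pullback.snd D.π₁ (P.VD.ι ≫ L.φ) y')) := by
      change (P.toY ≫ D.yα L ≫ L.π) y' = _
      rw [← Category.assoc, P.toY_yα]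
      rfl
    rw [h1]
    exact (pullback.snd D.π₁ (P.VD.ι ≫ L.φ) y').2
  exact (D.mem_Wb_iff L _).mp hx _ rfl

/-- the composition on composable pairs over the neighbourhood, as a point of `V₁` -/
noncomputable def Pt.m : P.YD ⟶ D.V₁ := IsOpenImmersion.lift D.j₁ (P.toY ≫ D.M L) P.range_toY_M

theorem Pt.m_j₁ : P.m ≫ D.j₁ = P.toY ≫ D.M L := IsOpenImmersion.lift_fac _ _ _

theorem Pt.m_ρ₁ : P.m ≫ D.ρ₁ = P.toY ≫ D.yc L := by
  have h : P.m ≫ D.ρ₁ = (P.m ≫ D.j₁) ≫ pullback.fst G.s D.g₁ := by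
    rw [Category.assoc]; rfl
  rw [h, P.m_j₁, Category.assoc, D.M_fst]

theorem Pt.m_π₁ : P.m ≫ D.π₁ =
    pullback.snd D.π₁ (P.VD.ι ≫ L.φ) ≫ P.VD.ι ≫ L.p ≫ D.π₁ := by
  have h : P.m ≫ D.π₁ = (P.m ≫ D.j₁) ≫ pullback.snd G.s D.g₁ := by
    rw [Category.assoc]; rfl
  rw [h, P.m_j₁, Category.assoc, D.M_snd, ← Category.assoc, P.toY_yα, Category.assoc]

/-- the composition as a point of `V_W` -/
noncomputable def Pt.mt : P.YD ⟶ L.VW :=
  L.sq.lift P.m (pullback.snd D.π₁ (P.VD.ι ≫ L.φ) ≫ P.VD.ι ≫ L.π)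
    (by rw [P.m_π₁, Category.assoc, Category.assoc, L.sq.w])

theorem Pt.mt_p : P.mt ≫ L.p = P.m := IsPullback.lift_fst _ _ _ _
theorem Pt.mt_π : P.mt ≫ L.π = pullback.snd D.π₁ (P.VD.ι ≫ L.φ) ≫ P.VD.ι ≫ L.π :=
  IsPullback.lift_snd _ _ _ _

theorem Pt.mt_φ_g₁ : (P.mt ≫ L.φ) ≫ D.g₁ = pullback.fst D.π₁ (P.VD.ι ≫ L.φ) ≫ D.θ := by
  have h : P.m ≫ D.θ = (P.m ≫ D.ρ₁) ≫ G.t := by
    rw [Category.assoc]; rfl
  rw [Category.assoc, L.hφ, ← Category.assoc, P.mt_p, h, P.m_ρ₁,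
    Category.assoc, D.yc_t, ← Category.assoc, P.toY_yβ]

theorem Pt.ex_τ : ∃ (k : P.VD.toScheme ⟶ L.W) (hk : k ≫ L.h = P.VD.ι ≫ L.φ),
    L.sq.lift (pullback.fst D.π₁ (P.VD.ι ≫ L.φ)) (pullback.snd D.π₁ (P.VD.ι ≫ L.φ) ≫ k)
      (by rw [pullback.condition, Category.assoc, hk]) ≫ L.φ = P.mt ≫ L.φ :=
  L.ex (P.VD.ι ≫ L.φ) _ _ (IsPullback.of_hasPullback _ _) (P.mt ≫ L.φ) P.mt_φ_g₁

/-- the lift of the target map -/
noncomputable def Pt.τ : P.VD.toScheme ⟶ L.W := P.ex_τ.choose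

theorem Pt.τ_h : P.τ ≫ L.h = P.VD.ι ≫ L.φ := P.ex_τ.choose_spec.choose

theorem Pt.τ_spec : L.sq.lift (pullback.fst D.π₁ (P.VD.ι ≫ L.φ))
    (pullback.snd D.π₁ (P.VD.ι ≫ L.φ) ≫ P.τ)
      (by rw [pullback.condition, Category.assoc, P.τ_h]) ≫ L.φ = P.mt ≫ L.φ :=
  P.ex_τ.choose_spec.choose_spec

theorem Pt.τ_g : P.τ ≫ D.g L = P.VD.ι ≫ D.ρW L ≫ G.t := by
  unfold Setup.g
  rw [← Category.assoc, P.τ_h, Category.assoc, D.ρW_t]

end Setup

end Groth.Agent.Lib.Helper20.HR
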