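import Mathlib
import Groth.Agent.Lib.Helper20.HR8

/-!
# HR10: calculus of `T`-points for the partially defined lift `τ`: the cocycle identity
-/

set_option autoImplicit false
set_option linter.style.haveILetI false
set_option linter.unusedSectionVars false
set_option maxHeartbeats 4000000
set_option synthInstance.maxHeartbeats 400000
universe u
open CategoryTheory CategoryTheory.Limits AlgebraicGeometry

namespace Groth.Agent.Lib.Helper20.HR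

open Grpd Groth.Agent.Lib.Helper25.GrpdAlg

namespace Setup

variable {S : Scheme.{u}} {G : GroupoidScheme S} [IsAffine G.U] {D : Setup G}
  {L : LiftRep D.g₁ D.π₁ D.θ}

section VW

variable {T T' : Scheme.{u}}

/-- `T`-points of `V_W` -/
noncomputable def vw (β : T ⟶ D.V₁) (x : T ⟶ L.W) (h : β ≫ D.π₁ = x ≫ L.h) : T ⟶ L.VW :=
  L.sq.lift β x h

theorem vw_p (β : T ⟶ D.V₁) (x : T ⟶ L.W) (h : β ≫ D.π₁ = x ≫ L.h) : vw β x h ≫ L.p = β :=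
  IsPullback.lift_fst _ _ _ _

theorem vw_π (β : T ⟶ D.V₁) (x : T ⟶ L.W) (h : β ≫ D.π₁ = x ≫ L.h) : vw β x h ≫ L.π = x :=
  IsPullback.lift_snd _ _ _ _

theorem vw_hom_ext {a b : T ⟶ L.VW} (h1 : a ≫ L.p = b ≫ L.p) (h2 : a ≫ L.π = b ≫ L.π) : a = b :=
  L.sq.hom_ext h1 h2

theorem vw_congr {β β' : T ⟶ D.V₁} {x x' : T ⟶ L.W} (h : β ≫ D.π₁ = x ≫ L.h) (hβ : β = β')
    (hx : x = x') : vw β x h = vw β' x' (by rw [← hβ, ← hx, h]) := by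
  subst hβ hx; rfl

theorem comp_vw (f : T' ⟶ T) (β : T ⟶ D.V₁) (x : T ⟶ L.W) (h : β ≫ D.π₁ = x ≫ L.h) :
    f ≫ vw β x h = vw (f ≫ β) (f ≫ x) (by rw [Category.assoc, h, Category.assoc]) := by
  apply vw_hom_ext
  · rw [Category.assoc, vw_p, vw_p]
  · rw [Category.assoc, vw_π, vw_π]

theorem vw_self (a : T ⟶ L.VW) : vw (a ≫ L.p) (a ≫ L.π)
    (by rw [Category.assoc, Category.assoc, L.sq.w]) = a := by
  apply vw_hom_ext
  · rw [vw_p]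
  · rw [vw_π]

end VW

variable (P : D.Pt L) {T T' : Scheme.{u}}

theorem Pt.ι_mem (v : P.VD.toScheme) : L.π (P.VD.ι v) ∈ P.Dop := v.2

/-- lifting `T`-points of `V_W` over the neighbourhood to `V_D`. -/
noncomputable def Pt.vdLift (a : T ⟶ L.VW) (x : T ⟶ P.VD.toScheme)
    (hx : a ≫ L.π = x ≫ P.VD.ι ≫ L.π) : T ⟶ P.VD.toScheme :=
  IsOpenImmersion.lift P.VD.ι a (by
    rintro _ ⟨t, rfl⟩
    rw [Scheme.Opens.range_ι]
    change L.π (a t) ∈ P.Dop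
    have h1 : L.π (a t) = L.π (P.VD.ι (x t)) := by
      change (a ≫ L.π) t = (x ≫ P.VD.ι ≫ L.π) t
      rw [hx]
    rw [h1]
    exact P.ι_mem _)

theorem Pt.vdLift_ι (a : T ⟶ L.VW) (x : T ⟶ P.VD.toScheme)
    (hx : a ≫ L.π = x ≫ P.VD.ι ≫ L.π) : P.vdLift a x hx ≫ P.VD.ι = a :=
  IsOpenImmersion.lift_fac _ _ _

theorem Pt.vd_hom_ext {a b : T ⟶ P.VD.toScheme} (h : a ≫ P.VD.ι = b ≫ P.VD.ι) : a = b := by
  rwa [cancel_mono] at h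

/-- the composition of `T`-points, in `V₁` -/
noncomputable def Pt.mV (β : T ⟶ D.V₁) (α : T ⟶ P.VD.toScheme)
    (h : β ≫ D.π₁ = α ≫ P.VD.ι ≫ L.φ) : T ⟶ D.V₁ :=
  pullback.lift β α h ≫ P.m

/-- the composition of `T`-points, in `V_W` -/
noncomputable def Pt.mm (β : T ⟶ D.V₁) (α : T ⟶ P.VD.toScheme)
    (h : β ≫ D.π₁ = α ≫ P.VD.ι ≫ L.φ) : T ⟶ L.VW :=
  pullback.lift β α h ≫ P.mt

theorem Pt.mm_p (β : T ⟶ D.V₁) (α : T ⟶ P.VD.toScheme)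
    (h : β ≫ D.π₁ = α ≫ P.VD.ι ≫ L.φ) : P.mm β α h ≫ L.p = P.mV β α h := by
  unfold Pt.mm Pt.mV
  rw [Category.assoc, P.mt_p]

theorem Pt.mm_π (β : T ⟶ D.V₁) (α : T ⟶ P.VD.toScheme)
    (h : β ≫ D.π₁ = α ≫ P.VD.ι ≫ L.φ) : P.mm β α h ≫ L.π = α ≫ P.VD.ι ≫ L.π := by
  unfold Pt.mm
  rw [Category.assoc, P.mt_π, ← Category.assoc, pullback.lift_snd]

theorem Pt.mV_cond (β : T ⟶ D.V₁) (α : T ⟶ P.VD.toScheme)
    (h : β ≫ D.π₁ = α ≫ P.VD.ι ≫ L.φ) :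
    (β ≫ D.ρ₁) ≫ G.s = (α ≫ P.VD.ι ≫ D.ρW L) ≫ G.t := by
  rw [Category.assoc, D.ρ₁_s, ← Category.assoc, h, Category.assoc, Category.assoc,
    Category.assoc, Category.assoc, D.ρW_t]

theorem Pt.mV_ρ₁ (β : T ⟶ D.V₁) (α : T ⟶ P.VD.toScheme)
    (h : β ≫ D.π₁ = α ≫ P.VD.ι ≫ L.φ) :
    P.mV β α h ≫ D.ρ₁ = comp G (β ≫ D.ρ₁) (α ≫ P.VD.ι ≫ D.ρW L) (P.mV_cond β α h) := by
  unfold Pt.mV
  rw [Category.assoc, P.m_ρ₁]
  unfold Setup.yc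
  rw [precomp, precomp]
  apply comp_congr
  · rw [← Category.assoc, ← Category.assoc, Category.assoc (pullback.lift β α h), P.toY_yβ,
      pullback.lift_fst]
  · rw [← Category.assoc, ← Category.assoc, Category.assoc (pullback.lift β α h), P.toY_yα,
      ← Category.assoc, pullback.lift_snd, Category.assoc]

theorem Pt.mV_π₁ (β : T ⟶ D.V₁) (α : T ⟶ P.VD.toScheme)
    (h : β ≫ D.π₁ = α ≫ P.VD.ι ≫ L.φ) :
    P.mV β α h ≫ D.π₁ = α ≫ P.VD.ι ≫ L.p ≫ D.π₁ := by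
  unfold Pt.mV
  rw [Category.assoc, P.m_π₁, ← Category.assoc, pullback.lift_snd]

theorem Pt.mV_congr {β β' : T ⟶ D.V₁} {α α' : T ⟶ P.VD.toScheme}
    (h : β ≫ D.π₁ = α ≫ P.VD.ι ≫ L.φ) (hβ : β = β') (hα : α = α') :
    P.mV β α h = P.mV β' α' (by rw [← hβ, ← hα, h]) := by
  subst hβ hα; rfl

theorem Pt.mm_congr {β β' : T ⟶ D.V₁} {α α' : T ⟶ P.VD.toScheme}
    (h : β ≫ D.π₁ = α ≫ P.VD.ι ≫ L.φ) (hβ : β = β') (hα : α = α') :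
    P.mm β α h = P.mm β' α' (by rw [← hβ, ← hα, h]) := by
  subst hβ hα; rfl

theorem Pt.comp_mm (f : T' ⟶ T) (β : T ⟶ D.V₁) (α : T ⟶ P.VD.toScheme)
    (h : β ≫ D.π₁ = α ≫ P.VD.ι ≫ L.φ) :
    f ≫ P.mm β α h = P.mm (f ≫ β) (f ≫ α) (by rw [Category.assoc, h, Category.assoc]) := by
  unfold Pt.mm
  rw [← Category.assoc]
  congr 1
  apply pullback.hom_ext
  · rw [Category.assoc, pullback.lift_fst, pullback.lift_fst]
  · rw [Category.assoc, pullback.lift_snd, pullback.lift_snd]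

theorem Pt.comp_mV (f : T' ⟶ T) (β : T ⟶ D.V₁) (α : T ⟶ P.VD.toScheme)
    (h : β ≫ D.π₁ = α ≫ P.VD.ι ≫ L.φ) :
    f ≫ P.mV β α h = P.mV (f ≫ β) (f ≫ α) (by rw [Category.assoc, h, Category.assoc]) := by
  unfold Pt.mV
  rw [← Category.assoc]
  congr 1
  apply pullback.hom_ext
  · rw [Category.assoc, pullback.lift_fst, pullback.lift_fst]
  · rw [Category.assoc, pullback.lift_snd, pullback.lift_snd]

theorem Pt.vw_τ_cond (β : T ⟶ D.V₁) (α : T ⟶ P.VD.toScheme)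
    (h : β ≫ D.π₁ = α ≫ P.VD.ι ≫ L.φ) : β ≫ D.π₁ = (α ≫ P.τ) ≫ L.h := by
  rw [Category.assoc, P.τ_h, h]

/-- the defining property of `τ` on `T`-points: `φ(β, τ α) = φ(β ∘ α)` -/
theorem Pt.mm_φ (β : T ⟶ D.V₁) (α : T ⟶ P.VD.toScheme)
    (h : β ≫ D.π₁ = α ≫ P.VD.ι ≫ L.φ) :
    vw β (α ≫ P.τ) (P.vw_τ_cond β α h) ≫ L.φ = P.mm β α h ≫ L.φ := by
  have h1 := congrArg (fun x => pullback.lift β α h ≫ x) P.τ_spec
  simp only [← Category.assoc] at h1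
  refine Eq.trans ?_ h1
  congr 1
  apply vw_hom_ext
  · rw [vw_p, Category.assoc, IsPullback.lift_fst, pullback.lift_fst]
  · rw [vw_π, Category.assoc, IsPullback.lift_snd, ← Category.assoc, pullback.lift_snd]

/-- the composite as a `T`-point of `V_D` -/
noncomputable def Pt.mmD (β : T ⟶ D.V₁) (α : T ⟶ P.VD.toScheme)
    (h : β ≫ D.π₁ = α ≫ P.VD.ι ≫ L.φ) : T ⟶ P.VD.toScheme :=
  P.vdLift (P.mm β α h) α (P.mm_π β α h)

theorem Pt.mmD_ι (β : T ⟶ D.V₁) (α : T ⟶ P.VD.toScheme)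
    (h : β ≫ D.π₁ = α ≫ P.VD.ι ≫ L.φ) : P.mmD β α h ≫ P.VD.ι = P.mm β α h :=
  P.vdLift_ι _ _ _

theorem Pt.comp_mmD (f : T' ⟶ T) (β : T ⟶ D.V₁) (α : T ⟶ P.VD.toScheme)
    (h : β ≫ D.π₁ = α ≫ P.VD.ι ≫ L.φ) :
    f ≫ P.mmD β α h = P.mmD (f ≫ β) (f ≫ α) (by rw [Category.assoc, h, Category.assoc]) := by
  apply P.vd_hom_ext
  rw [Category.assoc, P.mmD_ι, P.mmD_ι, P.comp_mm]

theorem Pt.mm_ρW (β : T ⟶ D.V₁) (α : T ⟶ P.VD.toScheme)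
    (h : β ≫ D.π₁ = α ≫ P.VD.ι ≫ L.φ) :
    P.mm β α h ≫ D.ρW L = comp G (β ≫ D.ρ₁) (α ≫ P.VD.ι ≫ D.ρW L) (P.mV_cond β α h) := by
  unfold Setup.ρW
  rw [← Category.assoc, P.mm_p, P.mV_ρ₁]
  rfl

end Setup

end Groth.Agent.Lib.Helper20.HR
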