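import Mathlib
import Groth.Agent.Lib.Helper20.HR10

/-!
# HR11: the cocycle identity `τ(β ∘ α) = τ(β at τ α)` and the value of `τ` over the rational point
-/

set_option autoImplicit false
set_option linter.style.haveILetI false
set_option linter.unusedSectionVars false
set_option maxHeartbeats 4000000
set_option synthInstance.maxHeartbeats 400000
universe u
open CategoryTheory CategoryTheory.Limits AlgebraicGeometry

namespace Groth.Agent.Lib.Helper20.HR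

open Grpd Groth.Agent.Lib.Helper25.GrpdAlg

namespace Setup

variable {S : Scheme.{u}} {G : GroupoidScheme S} [IsAffine G.U] {D : Setup G}
  {L : LiftRep D.g₁ D.π₁ D.θ} (P : D.Pt L) {T : Scheme.{u}}

theorem Pt.cocycle_aux (β : T ⟶ D.V₁) (α : T ⟶ P.VD.toScheme)
    (h : β ≫ D.π₁ = α ≫ P.VD.ι ≫ L.φ) (α' : T ⟶ P.VD.toScheme)
    (hp : α' ≫ P.VD.ι ≫ L.p = β) (hπ : α' ≫ P.VD.ι ≫ L.π = α ≫ P.τ)
    {VT : Scheme.{u}} (pT : VT ⟶ D.V₁) (πT : VT ⟶ T)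
    (hw : pT ≫ D.π₁ = (πT ≫ P.mmD β α h ≫ P.τ) ≫ L.h)
    (hw' : pT ≫ D.π₁ = (πT ≫ α' ≫ P.τ) ≫ L.h) :
    vw pT (πT ≫ P.mmD β α h ≫ P.τ) hw ≫ L.φ = vw pT (πT ≫ α' ≫ P.τ) hw' ≫ L.φ := by
  have hp2 : ∀ {Z : Scheme.{u}} (f : D.V₁ ⟶ Z), α' ≫ P.VD.ι ≫ L.p ≫ f = β ≫ f := fun f => by
    rw [← hp]; simp only [Category.assoc]
  -- left hand side
  set α₀ := πT ≫ P.mmD β α h with hα₀
  have h₀ : pT ≫ D.π₁ = α₀ ≫ P.VD.ι ≫ L.φ := by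
    rw [hw, hα₀, Category.assoc, Category.assoc, Category.assoc, P.τ_h]
  have eL : vw pT (πT ≫ P.mmD β α h ≫ P.τ) hw =
      vw pT (α₀ ≫ P.τ) (P.vw_τ_cond pT α₀ h₀) := by
    apply vw_congr _ rfl
    rw [hα₀, Category.assoc]
  -- right hand side
  set α₀' := πT ≫ α' with hα₀'
  have h₀' : pT ≫ D.π₁ = α₀' ≫ P.VD.ι ≫ L.φ := by
    rw [hw', hα₀', Category.assoc, Category.assoc, Category.assoc, P.τ_h]
  have eR : vw pT (πT ≫ α' ≫ P.τ) hw' =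
      vw pT (α₀' ≫ P.τ) (P.vw_τ_cond pT α₀' h₀') := by
    apply vw_congr _ rfl
    rw [hα₀', Category.assoc]
  rw [eL, eR, P.mm_φ pT α₀ h₀, P.mm_φ pT α₀' h₀']
  -- second use of the defining property
  set β₁ := P.mV pT α₀' h₀' with hβ₁
  set α₁ := πT ≫ α with hα₁
  have h₁ : β₁ ≫ D.π₁ = α₁ ≫ P.VD.ι ≫ L.φ := by
    rw [hβ₁, P.mV_π₁, hα₀', hα₁]
    simp only [Category.assoc]
    rw [hp2, h]
  have e2 : P.mm pT α₀' h₀' = vw β₁ (α₁ ≫ P.τ) (P.vw_τ_cond β₁ α₁ h₁) := by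
    apply vw_hom_ext
    · rw [vw_p, P.mm_p]
    · rw [vw_π, P.mm_π, hα₀', hα₁, Category.assoc, Category.assoc, hπ]
  rw [e2, P.mm_φ β₁ α₁ h₁]
  refine congrArg (fun x => x ≫ L.φ) ?_
  -- the two composites agree
  have eρ : α₀ ≫ P.VD.ι ≫ D.ρW L = comp G ((πT ≫ β) ≫ D.ρ₁) ((πT ≫ α) ≫ P.VD.ι ≫ D.ρW L)
      (P.mV_cond (πT ≫ β) (πT ≫ α) (by rw [Category.assoc, h, Category.assoc])) := by
    rw [hα₀, Category.assoc, ← Category.assoc (P.mmD β α h), P.mmD_ι, P.mm_ρW, precomp]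
    apply comp_congr
    · rw [Category.assoc]
    · rw [Category.assoc]
  have eρ' : α₀' ≫ P.VD.ι ≫ D.ρW L = (πT ≫ β) ≫ D.ρ₁ := by
    rw [hα₀']
    unfold Setup.ρW
    simp only [Category.assoc]
    rw [hp2]
  apply vw_hom_ext
  · rw [P.mm_p, P.mm_p]
    apply D.v₁_hom_ext
    · rw [P.mV_ρ₁, P.mV_ρ₁]
      have e3 : β₁ ≫ D.ρ₁ = comp G (pT ≫ D.ρ₁) ((πT ≫ β) ≫ D.ρ₁)
          (by rw [← eρ']; exact P.mV_cond pT α₀' h₀') := by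
        rw [hβ₁, P.mV_ρ₁]
        exact comp_congr G rfl eρ' _ _
      have c1 : (pT ≫ D.ρ₁) ≫ G.s = ((πT ≫ β) ≫ D.ρ₁) ≫ G.t := by
        rw [← eρ']; exact P.mV_cond pT α₀' h₀'
      have c2 : ((πT ≫ β) ≫ D.ρ₁) ≫ G.s = ((πT ≫ α) ≫ P.VD.ι ≫ D.ρW L) ≫ G.t :=
        P.mV_cond (πT ≫ β) (πT ≫ α) (by rw [Category.assoc, h, Category.assoc])
      have e4 := assoc G (pT ≫ D.ρ₁) ((πT ≫ β) ≫ D.ρ₁) ((πT ≫ α) ≫ P.VD.ι ≫ D.ρW L) c1 c2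
      refine (comp_congr G rfl eρ _ (c1.trans (comp_t G _ _ c2).symm)).trans ?_
      refine Eq.trans e4.symm ?_
      exact comp_congr G e3.symm rfl _ _
    · rw [P.mV_π₁, P.mV_π₁, hα₀, hα₁, Category.assoc, ← Category.assoc (P.mmD β α h), P.mmD_ι,
        ← Category.assoc (P.mm β α h), P.mm_p, P.mV_π₁, Category.assoc]
  · rw [P.mm_π, P.mm_π, hα₀, hα₁, Category.assoc, ← Category.assoc (P.mmD β α h), P.mmD_ι, P.mm_π,
      Category.assoc]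

/-- **the cocycle identity**: `τ(β ∘ α) = τ(α')` where `α' = (β, τ α)`. -/
theorem Pt.cocycle [IsAffine T] (β : T ⟶ D.V₁) (α : T ⟶ P.VD.toScheme)
    (h : β ≫ D.π₁ = α ≫ P.VD.ι ≫ L.φ) (α' : T ⟶ P.VD.toScheme)
    (hp : α' ≫ P.VD.ι ≫ L.p = β) (hπ : α' ≫ P.VD.ι ≫ L.π = α ≫ P.τ) :
    P.mmD β α h ≫ P.τ = α' ≫ P.τ := by
  have hα' : α' ≫ P.VD.ι = vw β (α ≫ P.τ) (P.vw_τ_cond β α h) := by
    apply vw_hom_ext
    · rw [vw_p, Category.assoc, hp]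
    · rw [vw_π, Category.assoc, hπ]
  have hkk : (P.mmD β α h ≫ P.τ) ≫ L.h = (α' ≫ P.τ) ≫ L.h := by
    rw [Category.assoc, P.τ_h, ← Category.assoc, P.mmD_ι, ← P.mm_φ, Category.assoc, P.τ_h,
      ← Category.assoc, hα']
  have sqT := IsPullback.of_hasPullback D.π₁ ((P.mmD β α h ≫ P.τ) ≫ L.h)
  apply L.uniq _ _ hkk _ _ sqT
  exact P.cocycle_aux β α h α' hp hπ _ _ _ _

theorem Pt.star_aux (z : T ⟶ P.VD.toScheme) (hz : ∀ t : T, L.π (P.VD.ι (z t)) = P.w)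
    (x' : T ⟶ L.W) (hx' : ∀ t : T, x' t = P.w) {VT : Scheme.{u}} (pT : VT ⟶ D.V₁) (πT : VT ⟶ T)
    (hw : pT ≫ D.π₁ = (πT ≫ z ≫ P.τ) ≫ L.h) (hw' : pT ≫ D.π₁ = (πT ≫ x') ≫ L.h) :
    vw pT (πT ≫ z ≫ P.τ) hw ≫ L.φ = vw pT (πT ≫ x') hw' ≫ L.φ := by
  have hu₁ : ∀ p : D.U₁, p = D.u₁ → Function.Bijective (D.g₁.residueFieldMap p) := by
    rintro _ rfl; exact D.hres
  have hφg : L.φ ≫ D.g₁ = L.p ≫ D.θ := L.hφ
  have hab : (vw pT (πT ≫ z ≫ P.τ) hw ≫ L.φ) ≫ D.g₁ = (vw pT (πT ≫ x') hw' ≫ L.φ) ≫ D.g₁ := by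
    rw [Category.assoc, Category.assoc, hφg, ← Category.assoc (vw pT (πT ≫ z ≫ P.τ) hw),
      ← Category.assoc (vw pT (πT ≫ x') hw'), vw_p, vw_p]
  apply eq_of_forall_mem_agree D.g₁ _ _ hab
  intro y
  have h₀ : pT ≫ D.π₁ = (πT ≫ z) ≫ P.VD.ι ≫ L.φ := by
    rw [hw, Category.assoc, Category.assoc, Category.assoc, P.τ_h]
  have e1 : vw pT (πT ≫ z ≫ P.τ) hw = vw pT ((πT ≫ z) ≫ P.τ) (P.vw_τ_cond pT (πT ≫ z) h₀) := by
    apply vw_congr _ rfl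
    rw [Category.assoc]
  have hy1 : (vw pT (πT ≫ z ≫ P.τ) hw ≫ L.φ) y = L.h P.w := by
    rw [e1, P.mm_φ pT (πT ≫ z) h₀]
    change L.φ (P.mm pT (πT ≫ z) h₀ y) = _
    apply P.hΦ
    change (P.mm pT (πT ≫ z) h₀ ≫ L.π) y = _
    rw [P.mm_π]
    exact hz (πT y)
  have hy2 : (vw pT (πT ≫ x') hw' ≫ L.φ) y = L.h P.w := by
    change L.φ (vw pT (πT ≫ x') hw' y) = _
    apply P.hΦ
    change (vw pT (πT ≫ x') hw' ≫ L.π) y = _
    rw [vw_π]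
    exact hx' (πT y)
  apply mem_agree_of D.g₁ _ _ hab y (hy1.trans hy2.symm)
  apply hu₁
  rw [hy1]
  exact P.hhw

/-- **the value of `τ` over the rational point**: `τ(v) = w` for `v` over `w`. -/
theorem Pt.star (v : P.VD.toScheme) (hv : L.π (P.VD.ι v) = P.w) : P.τ v = P.w := by
  let K₀ : Type u := P.VD.toScheme.residueField v
  let T : Scheme.{u} := Spec (.of K₀)
  let z : T ⟶ P.VD.toScheme := P.VD.toScheme.fromSpecResidueField v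
  have hz : ∀ t : T, z t = v := fun t => Scheme.fromSpecResidueField_apply _ _
  haveI : IsAffine T := inferInstanceAs (IsAffine (Spec _))
  let pt : T := IsLocalRing.closedPoint K₀
  have hpt : ∀ t : T, t = pt := fun t => Subsingleton.elim _ _
  have ha₁ : ((z ≫ P.τ) ≫ L.h) pt = L.h P.w := by
    rw [Category.assoc, P.τ_h]
    change L.φ (P.VD.ι (z pt)) = _
    rw [hz]
    exact P.hΦ _ hv
  obtain ⟨x', hx'1, hx'2⟩ := exists_field_lift L.h P.w P.hwres ((z ≫ P.τ) ≫ L.h) ha₁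
  have key : z ≫ P.τ = x' := by
    have sqT := IsPullback.of_hasPullback D.π₁ ((z ≫ P.τ) ≫ L.h)
    apply L.uniq _ _ hx'1.symm _ _ sqT
    refine P.star_aux z ?_ x' ?_ _ _ _ _
    · intro t
      rw [hz]; exact hv
    · intro t
      rw [hpt t]; exact hx'2
  have : P.τ v = (z ≫ P.τ) pt := by
    change _ = P.τ (z pt)
    rw [hz]
  rw [this, key]
  exact hx'2

end Setup

end Groth.Agent.Lib.Helper20.HR
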