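import Mathlib
import Groth.Agent.Lib.Helper20.HR11

/-!
# HR13: tubes for finite morphisms, the open immersion `V_W ⟶ R ×_U W`, construction of the rational
point, the pointwise cocycle identity
-/

set_option autoImplicit false
set_option linter.style.haveILetI false
set_option linter.unusedSectionVars false
set_option maxHeartbeats 4000000
set_option synthInstance.maxHeartbeats 400000
universe u
open CategoryTheory CategoryTheory.Limits AlgebraicGeometry

namespace Groth.Agent.Lib.Helper20.HR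

open Grpd Groth.Agent.Lib.Helper25.GrpdAlg

section Tube

variable {X Y : Scheme.{u}} (π : X ⟶ Y) [IsFinite π]

/-- the open set of points of the base all of whose fibre lies in the open set `O`. -/
noncomputable def tube (O : X.Opens) : Y.Opens :=
  ⟨(π '' (O : Set X)ᶜ)ᶜ, by
    rw [isOpen_compl_iff]
    apply π.isClosedMap
    rw [isClosed_compl_iff]
    exact O.2⟩

theorem mem_tube (O : X.Opens) (y : Y) : y ∈ tube π O ↔ ∀ x : X, π x = y → x ∈ O := by
  change y ∈ (π '' (O : Set X)ᶜ)ᶜ ↔ _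
  rw [Set.mem_compl_iff, Set.mem_image]
  constructor
  · intro h x hx
    by_contra hn
    exact h ⟨x, hn, hx⟩
  · rintro h ⟨x, hn, hx⟩
    exact hn (h x hx)

end Tube

namespace Setup

variable {S : Scheme.{u}} {G : GroupoidScheme S} [IsAffine G.U] (D : Setup G)
  (L : LiftRep D.g₁ D.π₁ D.θ)

/-- the canonical map `R ×_U W ⟶ R ×_U U₁` -/
noncomputable def mapW : pullback G.s (D.g L) ⟶ pullback G.s D.g₁ :=
  pullback.lift (pullback.fst _ _) (pullback.snd _ _ ≫ L.h)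
    (by rw [pullback.condition, Category.assoc]; rfl)

theorem mapW_fst : D.mapW L ≫ pullback.fst _ _ = pullback.fst _ _ := pullback.lift_fst _ _ _
theorem mapW_snd : D.mapW L ≫ pullback.snd _ _ = pullback.snd _ _ ≫ L.h := pullback.lift_snd _ _ _

theorem isPullback_mapW :
    IsPullback (D.mapW L) (pullback.snd G.s (D.g L)) (pullback.snd G.s D.g₁) L.h := by
  have hbig : IsPullback (D.mapW L ≫ pullback.fst G.s D.g₁) (pullback.snd G.s (D.g L)) G.s
      (L.h ≫ D.g₁) := by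
    rw [mapW_fst]
    exact IsPullback.of_hasPullback G.s (D.g L)
  exact IsPullback.of_right hbig (D.mapW_snd L) (IsPullback.of_hasPullback G.s D.g₁)

/-- the open immersion `V_W ⟶ R ×_U W` -/
noncomputable def jW : L.VW ⟶ pullback G.s (D.g L) :=
  pullback.lift (D.ρW L) L.π (D.ρW_s L)

theorem jW_fst : D.jW L ≫ pullback.fst _ _ = D.ρW L := pullback.lift_fst _ _ _
theorem jW_snd : D.jW L ≫ pullback.snd _ _ = L.π := pullback.lift_snd _ _ _

theorem jW_mapW : D.jW L ≫ D.mapW L = L.p ≫ D.j₁ := by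
  apply pullback.hom_ext
  · rw [Category.assoc, mapW_fst, jW_fst, Category.assoc]
    rfl
  · rw [Category.assoc, mapW_snd, ← Category.assoc, jW_snd, Category.assoc]
    exact L.sq.w.symm

theorem isPullback_jW : IsPullback L.p (D.jW L) D.j₁ (D.mapW L) := by
  have hbig : IsPullback (D.jW L ≫ pullback.snd G.s (D.g L)) L.p L.h
      (D.j₁ ≫ pullback.snd G.s D.g₁) := by
    rw [jW_snd]
    exact L.sq.flip
  exact (IsPullback.of_right hbig (D.jW_mapW L) (D.isPullback_mapW L).flip).flip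

instance : IsOpenImmersion (D.jW L) :=
  MorphismProperty.of_isPullback (P := @IsOpenImmersion) (D.isPullback_jW L) inferInstance

/-- the hypotheses on the fibre of the finite part over the base point -/
structure Fib : Prop where
  ht : ∀ r ∈ D.Sig, G.t r = D.g₁ D.u₁
  hc : ∀ z : ↑(pullback G.s G.t), pullback.fst G.s G.t z ∈ D.Sig →
    pullback.snd G.s G.t z ∈ D.Sig → G.c z ∈ D.Sig
  he : G.e (D.g₁ D.u₁) ∈ D.Sig
  hi : ∀ r ∈ D.Sig, G.i r ∈ D.Sig

variable {D} in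
theorem exists_pt (hF : D.Fib) : Nonempty (D.Pt L) := by
  have hθ : ∀ v : D.V₁, D.π₁ v = D.u₁ → D.θ v = D.g₁ D.u₁ := fun v hv => hF.ht _ ⟨v, hv, rfl⟩
  obtain ⟨w, hw1, hw2, hw3⟩ := exists_point D.g₁ D.π₁ D.θ L D.u₁ D.hres hθ
  have hp : ∀ v : L.VW, L.π v = w → D.π₁ (L.p v) = D.u₁ := by
    intro v hv
    change (L.p ≫ D.π₁) v = _
    rw [L.sq.w]
    change L.h (L.π v) = _
    rw [hv, hw1]
  have hwb : w ∈ D.Wb L := by
    rw [mem_Wb_iff]
    intro y hy
    have hyα : L.π (D.yα L y) = w := hy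
    apply D.mem_range_j₁
    · change (D.M L ≫ pullback.snd G.s D.g₁) y = _
      rw [M_snd]
      exact hp _ hyα
    · change (D.M L ≫ pullback.fst G.s D.g₁) y ∈ _
      rw [M_fst]
      change G.c (pullback.lift (D.yβ L ≫ D.ρ₁) (D.yα L ≫ D.ρW L) (D.y_comp_cond L) y) ∈ _
      apply hF.hc
      · change (pullback.lift (D.yβ L ≫ D.ρ₁) (D.yα L ≫ D.ρW L) (D.y_comp_cond L) ≫
          pullback.fst G.s G.t) y ∈ _
        rw [pullback.lift_fst]
        refine ⟨D.yβ L y, ?_, rfl⟩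
        change (D.yβ L ≫ D.π₁) y = _
        rw [y_cond]
        exact hw3 _ hyα
      · change (pullback.lift (D.yβ L ≫ D.ρ₁) (D.yα L ≫ D.ρW L) (D.y_comp_cond L) ≫
          pullback.snd G.s G.t) y ∈ _
        rw [pullback.lift_snd]
        exact ⟨L.p (D.yα L y), hp _ hyα, rfl⟩
  obtain ⟨f, hf1, hf2⟩ := (isAffineOpen_top L.W).exists_basicOpen_le ⟨w, hwb⟩ (Set.mem_univ w)
  exact ⟨⟨w, hw1, hw2, fun v hv => (hw3 v hv).trans hw1.symm, f, hf2, hf1⟩⟩

variable {D L} (P : D.Pt L)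

/-- the cocycle identity on points -/
theorem Pt.cocycle_pt (v v' : P.VD.toScheme) (h : L.π (P.VD.ι v') = P.τ v) :
    ∃ v'' : P.VD.toScheme, L.π (P.VD.ι v'') = L.π (P.VD.ι v) ∧ P.τ v'' = P.τ v' := by
  obtain ⟨y, hy1, hy2⟩ := Scheme.Pullback.exists_preimage_pullback (f := P.τ)
    (g := P.VD.ι ≫ L.π) v v' h.symm
  let K₀ : Type u := (pullback P.τ (P.VD.ι ≫ L.π)).residueField y
  let T : Scheme.{u} := Spec (.of K₀)
  let c : T ⟶ pullback P.τ (P.VD.ι ≫ L.π) := (pullback P.τ (P.VD.ι ≫ L.π)).fromSpecResidueField y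
  have hc : ∀ t : T, c t = y := fun t => Scheme.fromSpecResidueField_apply _ _
  haveI : IsAffine T := inferInstanceAs (IsAffine (Spec _))
  let pt : T := IsLocalRing.closedPoint K₀
  obtain ⟨α, hα⟩ : ∃ α : T ⟶ P.VD.toScheme, α = c ≫ pullback.fst _ _ := ⟨_, rfl⟩
  obtain ⟨α', hα'⟩ : ∃ α' : T ⟶ P.VD.toScheme, α' = c ≫ pullback.snd _ _ := ⟨_, rfl⟩
  have hαα' : α ≫ P.τ = α' ≫ P.VD.ι ≫ L.π := by
    rw [hα, hα', Category.assoc, Category.assoc, pullback.condition]
  have hαpt : α pt = v := by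
    rw [hα]
    change (pullback.fst P.τ (P.VD.ι ≫ L.π)) (c pt) = v
    rw [hc]; exact hy1
  have hα'pt : α' pt = v' := by
    rw [hα']
    change (pullback.snd P.τ (P.VD.ι ≫ L.π)) (c pt) = v'
    rw [hc]; exact hy2
  have hβ : (α' ≫ P.VD.ι ≫ L.p) ≫ D.π₁ = α ≫ P.VD.ι ≫ L.φ := by
    have e1 : (α' ≫ P.VD.ι ≫ L.p) ≫ D.π₁ = (α' ≫ P.VD.ι ≫ L.π) ≫ L.h := by
      simp only [Category.assoc]; rw [L.sq.w]
    rw [e1, ← hαα', Category.assoc, P.τ_h]
  have key := P.cocycle (α' ≫ P.VD.ι ≫ L.p) α hβ α' rfl hαα'.symm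
  refine ⟨P.mmD (α' ≫ P.VD.ι ≫ L.p) α hβ pt, ?_, ?_⟩
  · change (P.mmD (α' ≫ P.VD.ι ≫ L.p) α hβ ≫ P.VD.ι ≫ L.π) pt = _
    rw [← Category.assoc, P.mmD_ι, P.mm_π]
    change L.π (P.VD.ι (α pt)) = _
    rw [hαpt]
  · change (P.mmD (α' ≫ P.VD.ι ≫ L.p) α hβ ≫ P.τ) pt = _
    rw [key]
    change P.τ (α' pt) = _
    rw [hα'pt]

end Setup

end Groth.Agent.Lib.Helper20.HR
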