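import Mathlib
import Groth.Agent.Lib.Helper20.HR12
import Groth.Agent.Lib.Helper20.HR13

/-!
# HR14: invariant affine neighbourhoods of the rational point
-/

set_option autoImplicit false
set_option linter.style.haveILetI false
set_option linter.unusedSectionVars false
set_option maxHeartbeats 4000000
set_option synthInstance.maxHeartbeats 400000
universe u
open CategoryTheory CategoryTheory.Limits AlgebraicGeometry

namespace Groth.Agent.Lib.Helper20.HR

open Grpd Groth.Agent.Lib.Helper25.GrpdAlg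

section Aff

theorem mem_basicOpen_iff_primeOf {X : Scheme.{u}} [IsAffine X] (a : Γ(X, ⊤)) (x : X) :
    x ∈ X.basicOpen a ↔ a ∉ primeOf x := by
  rw [← Scheme.toSpecΓ_preimage_basicOpen]
  exact Iff.rfl

theorem finite_projective_appTop {X Y : Scheme.{u}} [IsAffine X] [IsAffine Y] (π : X ⟶ Y)
    [IsFinite π] [Flat π] [LocallyOfFinitePresentation π] :
    letI := π.appTop.hom.toAlgebra
    Module.Finite Γ(Y, ⊤) Γ(X, ⊤) ∧ Module.Projective Γ(Y, ⊤) Γ(X, ⊤) := by
  letI := π.appTop.hom.toAlgebra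
  haveI hfin : Module.Finite Γ(Y, ⊤) Γ(X, ⊤) := π.finite_appTop
  haveI hflat : Module.Flat Γ(Y, ⊤) Γ(X, ⊤) :=
    (HasRingHomProperty.iff_of_isAffine (P := @Flat)).mp inferInstance
  haveI hfp : Algebra.FinitePresentation Γ(Y, ⊤) Γ(X, ⊤) :=
    (HasRingHomProperty.iff_of_isAffine (P := @LocallyOfFinitePresentation)).mp inferInstance
  haveI : Module.FinitePresentation Γ(Y, ⊤) Γ(X, ⊤) :=
    Module.FinitePresentation.of_finite_of_finitePresentation _ _
  exact ⟨hfin, Module.Flat.projective_of_finitePresentation⟩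

/-- the geometric form of the norm: for a finite locally free morphism of affine schemes and a
function `b` upstairs, a function downstairs whose non-vanishing locus is the set of points all
of whose fibre lies in the non-vanishing locus of `b`. -/
theorem exists_norm_basicOpen {X Y : Scheme.{u}} [IsAffine X] [IsAffine Y] (π : X ⟶ Y)
    [IsFinite π] [Flat π] [LocallyOfFinitePresentation π] (b : Γ(X, ⊤)) :
    ∃ F : Γ(Y, ⊤), ∀ y : Y, y ∈ Y.basicOpen F ↔ ∀ x : X, π x = y → x ∈ X.basicOpen b := by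
  letI := π.appTop.hom.toAlgebra
  obtain ⟨hfin, hproj⟩ := finite_projective_appTop π
  obtain ⟨F, hF⟩ := exists_pnorm (A := Γ(Y, ⊤)) (B := Γ(X, ⊤)) b
  refine ⟨F, fun y => ?_⟩
  rw [mem_basicOpen_iff_primeOf, hF (primeOf y) inferInstance]
  have halg : algebraMap Γ(Y, ⊤) Γ(X, ⊤) = π.appTop.hom := RingHom.algebraMap_toAlgebra _
  constructor
  · intro h x hx
    rw [mem_basicOpen_iff_primeOf]
    apply h (primeOf x) inferInstance
    rw [halg, ← primeOf_map, hx]
  · intro h 𝔮 h𝔮 hcomap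
    obtain ⟨x, hx⟩ := exists_point_of_prime 𝔮
    have hxy : π x = y := by
      apply primeOf_injective
      rw [primeOf_map, hx, ← halg, hcomap]
    have := h x hxy
    rw [mem_basicOpen_iff_primeOf, hx] at this
    exact this

end Aff

namespace Setup

variable {S : Scheme.{u}} {G : GroupoidScheme S} [IsAffine G.U] {D : Setup G}
  {L : LiftRep D.g₁ D.π₁ D.θ} (P : D.Pt L)

theorem Pt.isAffineOpen_Dop : IsAffineOpen P.Dop := (isAffineOpen_top L.W).basicOpen P.f₀

instance : IsAffine P.Dop.toScheme := P.isAffineOpen_Dop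

/-- the restriction of the finite part over the neighbourhood -/
noncomputable def Pt.πD : P.VD.toScheme ⟶ P.Dop.toScheme := L.π ∣_ P.Dop

theorem Pt.πD_ι : P.πD ≫ P.Dop.ι = P.VD.ι ≫ L.π := morphismRestrict_ι _ _

theorem Pt.isPullback_πD : IsPullback P.VD.ι P.πD L.π P.Dop.ι :=
  (isPullback_morphismRestrict L.π P.Dop).flip

instance : IsFinite P.πD := MorphismProperty.of_isPullback (P := @IsFinite) P.isPullback_πD
  inferInstance
instance : Flat P.πD := MorphismProperty.of_isPullback (P := @Flat) P.isPullback_πD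
  inferInstance
instance : LocallyOfFinitePresentation P.πD :=
  MorphismProperty.of_isPullback (P := @LocallyOfFinitePresentation) P.isPullback_πD inferInstance

theorem Pt.πD_apply (v : P.VD.toScheme) : P.Dop.ι (P.πD v) = L.π (P.VD.ι v) := by
  change (P.πD ≫ P.Dop.ι) v = _
  rw [P.πD_ι]
  rfl

theorem Pt.Dop_ι_injective : Function.Injective P.Dop.ι := P.Dop.ι.isOpenEmbedding.injective

/-- **invariant affine neighbourhoods** -/
theorem Pt.exists_invariant (N : L.W.Opens) (hN : P.w ∈ N) :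
    ∃ U₂ : L.W.Opens, IsAffineOpen U₂ ∧ P.w ∈ U₂ ∧ U₂ ≤ N ∧ U₂ ≤ P.Dop ∧
      ∀ v : P.VD.toScheme, L.π (P.VD.ι v) ∈ U₂ → P.τ v ∈ U₂ := by
  obtain ⟨f, hf1, hf2⟩ := (isAffineOpen_top L.W).exists_basicOpen_le
    (V := N ⊓ P.Dop) ⟨P.w, ⟨hN, P.hwf₀⟩⟩ (Set.mem_univ _)
  have hfN : L.W.basicOpen f ≤ N := hf1.trans inf_le_left
  have hfD : L.W.basicOpen f ≤ P.Dop := hf1.trans inf_le_right
  obtain ⟨F, hF⟩ := exists_norm_basicOpen P.πD (P.τ.appTop.hom f)
  set fD := P.Dop.ι.appTop.hom f with hfD'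
  set U₂' := P.Dop.toScheme.basicOpen (F * fD) with hU₂'
  have hτf : ∀ v : P.VD.toScheme, v ∈ P.VD.toScheme.basicOpen (P.τ.appTop.hom f) ↔
      P.τ v ∈ L.W.basicOpen f := by
    intro v
    rw [← Scheme.preimage_basicOpen_top]
    rfl
  have hιf : ∀ x' : P.Dop.toScheme, x' ∈ P.Dop.toScheme.basicOpen fD ↔
      P.Dop.ι x' ∈ L.W.basicOpen f := by
    intro x'
    rw [hfD', ← Scheme.preimage_basicOpen_top]
    rfl
  have hchar : ∀ x' : P.Dop.toScheme, x' ∈ U₂' ↔ (P.Dop.ι x' ∈ L.W.basicOpen f ∧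
      ∀ v : P.VD.toScheme, P.πD v = x' → P.τ v ∈ L.W.basicOpen f) := by
    intro x'
    rw [hU₂', Scheme.basicOpen_mul]
    change (x' ∈ P.Dop.toScheme.basicOpen F ∧ x' ∈ P.Dop.toScheme.basicOpen fD) ↔ _
    rw [hF, hιf, and_comm]
    apply and_congr Iff.rfl
    constructor
    · intro h v hv
      exact (hτf v).mp (h v hv)
    · intro h v hv
      exact (hτf v).mpr (h v hv)
  refine ⟨P.Dop.ι ''ᵁ U₂', ?_, ?_, ?_, ?_, ?_⟩
  · exact ((isAffineOpen_top P.Dop.toScheme).basicOpen _).image_of_isOpenImmersion P.Dop.ι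
  · refine ⟨⟨P.w, P.hwf₀⟩, (hchar _).mpr ⟨hf2, ?_⟩, rfl⟩
    intro v hv
    have : L.π (P.VD.ι v) = P.w := by
      rw [← P.πD_apply, hv]
      rfl
    rw [P.star v this]
    exact hf2
  · rintro _ ⟨x', hx', rfl⟩
    exact hfN ((hchar x').mp hx').1
  · rintro _ ⟨x', hx', rfl⟩
    exact hfD ((hchar x').mp hx').1
  · rintro v ⟨x', hx', hx'v⟩
    have hxv : P.πD v = x' := by
      apply P.Dop_ι_injective
      rw [P.πD_apply]
      exact hx'v.symm
    have hx'c := (hchar x').mp hx'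
    have hτv : P.τ v ∈ L.W.basicOpen f := hx'c.2 v hxv
    refine ⟨⟨P.τ v, hfD hτv⟩, (hchar _).mpr ⟨hτv, ?_⟩, rfl⟩
    intro v' hv'
    have h1 : L.π (P.VD.ι v') = P.τ v := by
      rw [← P.πD_apply, hv']
      rfl
    obtain ⟨v'', hv''1, hv''2⟩ := P.cocycle_pt v v' h1
    have h2 : P.πD v'' = x' := by
      apply P.Dop_ι_injective
      rw [P.πD_apply, hv''1]
      exact hx'v.symm
    rw [← hv''2]
    exact hx'c.2 v'' h2

end Setup

end Groth.Agent.Lib.Helper20.HR
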