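import Mathlib
import Groth.Agent.Lib.Helper20.HR13

/-!
# HR15: the unit and the inverse near the rational point: uniqueness statements
-/

set_option autoImplicit false
set_option linter.style.haveILetI false
set_option linter.unusedSectionVars false
set_option maxHeartbeats 4000000
set_option synthInstance.maxHeartbeats 400000
universe u
open CategoryTheory CategoryTheory.Limits AlgebraicGeometry

namespace Groth.Agent.Lib.Helper20.HR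

open Grpd Groth.Agent.Lib.Helper25.GrpdAlg

namespace Setup

variable {S : Scheme.{u}} {G : GroupoidScheme S} [IsAffine G.U] {D : Setup G}
  {L : LiftRep D.g₁ D.π₁ D.θ} (P : D.Pt L) {T : Scheme.{u}}

theorem Pt.unit_aux (α : T ⟶ P.VD.toScheme) (x : T ⟶ L.W)
    (hρ : α ≫ P.VD.ι ≫ D.ρW L = x ≫ D.g L ≫ G.e) (hπ : α ≫ P.VD.ι ≫ L.π = x)
    {VT : Scheme.{u}} (pT : VT ⟶ D.V₁) (πT : VT ⟶ T)
    (hw : pT ≫ D.π₁ = (πT ≫ α ≫ P.τ) ≫ L.h) (hw' : pT ≫ D.π₁ = (πT ≫ x) ≫ L.h) :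
    vw pT (πT ≫ α ≫ P.τ) hw ≫ L.φ = vw pT (πT ≫ x) hw' ≫ L.φ := by
  have h₀ : pT ≫ D.π₁ = (πT ≫ α) ≫ P.VD.ι ≫ L.φ := by
    rw [hw, Category.assoc, Category.assoc, Category.assoc, P.τ_h]
  have e1 : vw pT (πT ≫ α ≫ P.τ) hw = vw pT ((πT ≫ α) ≫ P.τ) (P.vw_τ_cond pT (πT ≫ α) h₀) := by
    apply vw_congr _ rfl
    rw [Category.assoc]
  rw [e1, P.mm_φ pT (πT ≫ α) h₀]
  refine congrArg (fun y => y ≫ L.φ) ?_
  have hπ2 : ∀ {Z : Scheme.{u}} (f : L.W ⟶ Z), α ≫ P.VD.ι ≫ L.π ≫ f = x ≫ f := fun f => by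
    rw [← hπ]; simp only [Category.assoc]
  have hs : (pT ≫ D.ρ₁) ≫ G.s = (πT ≫ x) ≫ D.g L := by
    rw [Category.assoc, D.ρ₁_s, ← Category.assoc, hw', Category.assoc]
    rfl
  apply vw_hom_ext
  · rw [P.mm_p, vw_p]
    apply D.v₁_hom_ext
    · rw [P.mV_ρ₁]
      refine Eq.trans ?_ (comp_e G (pT ≫ D.ρ₁))
      apply comp_congr G rfl
      rw [Category.assoc, hρ, ← Category.assoc (pT ≫ D.ρ₁), hs]
      simp only [Category.assoc]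
    · rw [P.mV_π₁, hw']
      simp only [Category.assoc]
      rw [L.sq.w, hπ2]
  · rw [P.mm_π, vw_π, Category.assoc, hπ]

/-- uniqueness of the unit: a section through the unit arrows with the right `φ` has `τ = id`. -/
theorem Pt.unit_uniq [IsAffine T] (α : T ⟶ P.VD.toScheme) (x : T ⟶ L.W)
    (hρ : α ≫ P.VD.ι ≫ D.ρW L = x ≫ D.g L ≫ G.e) (hπ : α ≫ P.VD.ι ≫ L.π = x)
    (hφ : α ≫ P.VD.ι ≫ L.φ = x ≫ L.h) : α ≫ P.τ = x := by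
  have hkk : (α ≫ P.τ) ≫ L.h = x ≫ L.h := by rw [Category.assoc, P.τ_h, hφ]
  have sqT := IsPullback.of_hasPullback D.π₁ ((α ≫ P.τ) ≫ L.h)
  apply L.uniq _ _ hkk _ _ sqT
  exact P.unit_aux α x hρ hπ _ _ _ _

theorem Pt.inv_aux (α α' : T ⟶ P.VD.toScheme)
    (hρ : α' ≫ P.VD.ι ≫ D.ρW L = α ≫ P.VD.ι ≫ D.ρW L ≫ G.i)
    (hπ : α' ≫ P.VD.ι ≫ L.π = α ≫ P.τ)
    {VT : Scheme.{u}} (pT : VT ⟶ D.V₁) (πT : VT ⟶ T)
    (hw : pT ≫ D.π₁ = (πT ≫ α' ≫ P.τ) ≫ L.h)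
    (hw' : pT ≫ D.π₁ = (πT ≫ α ≫ P.VD.ι ≫ L.π) ≫ L.h) :
    vw pT (πT ≫ α' ≫ P.τ) hw ≫ L.φ = vw pT (πT ≫ α ≫ P.VD.ι ≫ L.π) hw' ≫ L.φ := by
  have hπ2 : ∀ {Z : Scheme.{u}} (f : L.W ⟶ Z), α' ≫ P.VD.ι ≫ L.π ≫ f = α ≫ P.τ ≫ f :=
    fun f => by
      have := congrArg (fun y => y ≫ f) hπ
      simpa only [Category.assoc] using this
  have h₀ : pT ≫ D.π₁ = (πT ≫ α') ≫ P.VD.ι ≫ L.φ := by
    rw [hw, Category.assoc, Category.assoc, Category.assoc, P.τ_h]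
  have e1 : vw pT (πT ≫ α' ≫ P.τ) hw =
      vw pT ((πT ≫ α') ≫ P.τ) (P.vw_τ_cond pT (πT ≫ α') h₀) := by
    apply vw_congr _ rfl
    rw [Category.assoc]
  rw [e1, P.mm_φ pT (πT ≫ α') h₀]
  set β₁ := P.mV pT (πT ≫ α') h₀ with hβ₁
  have h₁ : β₁ ≫ D.π₁ = (πT ≫ α) ≫ P.VD.ι ≫ L.φ := by
    rw [hβ₁, P.mV_π₁]
    simp only [Category.assoc]
    rw [L.sq.w, hπ2, P.τ_h]
  have e2 : P.mm pT (πT ≫ α') h₀ =
      vw β₁ ((πT ≫ α) ≫ P.τ) (P.vw_τ_cond β₁ (πT ≫ α) h₁) := by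
    apply vw_hom_ext
    · rw [vw_p, P.mm_p]
    · rw [vw_π, P.mm_π, Category.assoc, Category.assoc, hπ]
  rw [e2, P.mm_φ β₁ (πT ≫ α) h₁]
  refine congrArg (fun y => y ≫ L.φ) ?_
  obtain ⟨r, hr⟩ : ∃ r : VT ⟶ G.R, r = (πT ≫ α) ≫ P.VD.ι ≫ D.ρW L := ⟨_, rfl⟩
  have hri : (πT ≫ α') ≫ P.VD.ι ≫ D.ρW L = r ≫ G.i := by
    rw [Category.assoc, hρ, hr]
    simp only [Category.assoc]
  have hγs : (pT ≫ D.ρ₁) ≫ G.s = r ≫ G.s := by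
    rw [Category.assoc, D.ρ₁_s, ← Category.assoc, hw', hr]
    simp only [Category.assoc]
    rw [D.ρW_s]
    rfl
  apply vw_hom_ext
  · rw [P.mm_p, vw_p]
    apply D.v₁_hom_ext
    · rw [P.mV_ρ₁]
      have c1 : (pT ≫ D.ρ₁) ≫ G.s = (r ≫ G.i) ≫ G.t := by rw [Category.assoc r, G.i_t, hγs]
      have c2 : (r ≫ G.i) ≫ G.s = r ≫ G.t := by rw [Category.assoc, G.i_s]
      have e3 : β₁ ≫ D.ρ₁ = comp G (pT ≫ D.ρ₁) (r ≫ G.i) c1 := by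
        rw [hβ₁, P.mV_ρ₁]
        exact comp_congr G rfl hri _ _
      refine (comp_congr G e3 hr.symm _ ((comp_s G _ _ c1).trans c2)).trans ?_
      refine (assoc G (pT ≫ D.ρ₁) (r ≫ G.i) r c1 c2).trans ?_
      refine Eq.trans ?_ (comp_e G (pT ≫ D.ρ₁))
      apply comp_congr G rfl
      rw [i_comp G r, ← Category.assoc (pT ≫ D.ρ₁), hγs, Category.assoc]
    · rw [P.mV_π₁, hw']
      simp only [Category.assoc]
      rw [L.sq.w]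
  · rw [P.mm_π, vw_π]
    simp only [Category.assoc]

/-- uniqueness for the inverse -/
theorem Pt.inv_uniq [IsAffine T] (α α' : T ⟶ P.VD.toScheme)
    (hρ : α' ≫ P.VD.ι ≫ D.ρW L = α ≫ P.VD.ι ≫ D.ρW L ≫ G.i)
    (hπ : α' ≫ P.VD.ι ≫ L.π = α ≫ P.τ)
    (hφ : α' ≫ P.VD.ι ≫ L.φ = α ≫ P.VD.ι ≫ L.π ≫ L.h) :
    α' ≫ P.τ = α ≫ P.VD.ι ≫ L.π := by
  have hkk : (α' ≫ P.τ) ≫ L.h = (α ≫ P.VD.ι ≫ L.π) ≫ L.h := by
    rw [Category.assoc, P.τ_h, hφ]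
    simp only [Category.assoc]
  have sqT := IsPullback.of_hasPullback D.π₁ ((α' ≫ P.τ) ≫ L.h)
  apply L.uniq _ _ hkk _ _ sqT
  exact P.inv_aux α α' hρ hπ _ _ _ _

end Setup

end Groth.Agent.Lib.Helper20.HR
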