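import Mathlib
import Groth.Agent.Lib.Helper20.HR15

/-!
# HR16: existence of the unit section near the rational point
-/

set_option autoImplicit false
set_option linter.style.haveILetI false
set_option linter.unusedSectionVars false
set_option maxHeartbeats 4000000
set_option synthInstance.maxHeartbeats 400000
universe u
open CategoryTheory CategoryTheory.Limits AlgebraicGeometry

namespace Groth.Agent.Lib.Helper20.HR

open Grpd Groth.Agent.Lib.Helper25.GrpdAlg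

namespace Setup

variable {S : Scheme.{u}} {G : GroupoidScheme S} [IsAffine G.U] (D : Setup G)

/-- the unit section as a point of `R ×_U U₁` -/
noncomputable def σe : D.U₁ ⟶ pullback G.s D.g₁ :=
  pullback.lift (D.g₁ ≫ G.e) (𝟙 _)
    (by rw [Category.assoc, G.e_s, Category.comp_id, Category.id_comp])

theorem σe_fst : D.σe ≫ pullback.fst _ _ = D.g₁ ≫ G.e := pullback.lift_fst _ _ _
theorem σe_snd : D.σe ≫ pullback.snd _ _ = 𝟙 _ := pullback.lift_snd _ _ _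

theorem hu₁ (p : D.U₁) (hp : p = D.u₁) : Function.Bijective (D.g₁.residueFieldMap p) := by
  subst hp; exact D.hres

variable {D} in
theorem σe_u₁_mem (hF : D.Fib) : D.σe D.u₁ ∈ Set.range D.j₁ := by
  apply D.mem_range_j₁
  · change (D.σe ≫ pullback.snd G.s D.g₁) D.u₁ = _
    rw [σe_snd]
    rfl
  · change (D.σe ≫ pullback.fst G.s D.g₁) D.u₁ ∈ _
    rw [σe_fst]
    exact hF.he

variable {D} {L : LiftRep D.g₁ D.π₁ D.θ} (P : D.Pt L)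


theorem Pt.exists_unit (hF : D.Fib) : ∃ De : L.W.Opens, P.w ∈ De ∧ De ≤ P.Dop ∧
    ∀ {T : Scheme.{u}} [IsAffine T] (x : T ⟶ L.W), (∀ t, x t ∈ De) →
      ∃ α : T ⟶ P.VD.toScheme, α ≫ P.VD.ι ≫ D.ρW L = x ≫ D.g L ≫ G.e ∧
        α ≫ P.VD.ι ≫ L.π = x ∧ α ≫ P.τ = x := by
  obtain ⟨E, hE⟩ : ∃ E : D.U₁.Opens, E = D.σe ⁻¹ᵁ D.j₁.opensRange := ⟨_, rfl⟩
  obtain ⟨N₁, hN₁⟩ : ∃ N₁ : L.W.Opens, N₁ = L.h ⁻¹ᵁ E ⊓ P.Dop := ⟨_, rfl⟩
  have hmemN₁ : ∀ y : L.W, y ∈ N₁ → D.σe (L.h y) ∈ Set.range D.j₁ ∧ y ∈ P.Dop := by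
    intro y hy
    rw [hN₁, hE] at hy
    exact hy
  have hwN₁ : P.w ∈ N₁ := by
    rw [hN₁, hE]
    refine ⟨?_, P.hwf₀⟩
    change D.σe (L.h P.w) ∈ Set.range D.j₁
    rw [P.hhw]
    exact σe_u₁_mem hF
  have hrange1 : Set.range (N₁.ι ≫ L.h ≫ D.σe) ⊆ Set.range D.j₁ := by
    rintro _ ⟨t, rfl⟩
    exact (hmemN₁ _ t.2).1
  obtain ⟨e₁, he₁⟩ : ∃ e₁ : N₁.toScheme ⟶ D.V₁, e₁ ≫ D.j₁ = N₁.ι ≫ L.h ≫ D.σe :=
    ⟨IsOpenImmersion.lift D.j₁ (N₁.ι ≫ L.h ≫ D.σe) hrange1, IsOpenImmersion.lift_fac _ _ _⟩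
  have he₁ρ : e₁ ≫ D.ρ₁ = N₁.ι ≫ L.h ≫ D.g₁ ≫ G.e := by
    have : e₁ ≫ D.ρ₁ = (e₁ ≫ D.j₁) ≫ pullback.fst _ _ := by rw [Category.assoc]; rfl
    rw [this, he₁]
    simp only [Category.assoc]
    rw [σe_fst]
  have he₁π : e₁ ≫ D.π₁ = N₁.ι ≫ L.h := by
    have : e₁ ≫ D.π₁ = (e₁ ≫ D.j₁) ≫ pullback.snd _ _ := by rw [Category.assoc]; rfl
    rw [this, he₁]
    simp only [Category.assoc]
    rw [σe_snd, Category.comp_id]
  obtain ⟨ε₁, hε₁⟩ : ∃ ε₁ : N₁.toScheme ⟶ L.VW, ε₁ = vw e₁ N₁.ι he₁π := ⟨_, rfl⟩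
  have hε₁p : ε₁ ≫ L.p = e₁ := by rw [hε₁, vw_p]
  have hε₁π : ε₁ ≫ L.π = N₁.ι := by rw [hε₁, vw_π]
  have hrange2 : Set.range ε₁ ⊆ Set.range P.VD.ι := by
    rintro _ ⟨t, rfl⟩
    rw [Scheme.Opens.range_ι]
    change L.π (ε₁ t) ∈ P.Dop
    have : L.π (ε₁ t) = N₁.ι t := by
      change (ε₁ ≫ L.π) t = _
      rw [hε₁π]
    rw [this]
    exact (hmemN₁ _ t.2).2
  obtain ⟨εD, hεD⟩ : ∃ εD : N₁.toScheme ⟶ P.VD.toScheme, εD ≫ P.VD.ι = ε₁ :=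
    ⟨IsOpenImmersion.lift P.VD.ι ε₁ hrange2, IsOpenImmersion.lift_fac _ _ _⟩
  have hεDρ : εD ≫ P.VD.ι ≫ D.ρW L = N₁.ι ≫ D.g L ≫ G.e := by
    rw [← Category.assoc, hεD]
    unfold Setup.ρW Setup.g
    rw [← Category.assoc, hε₁p, he₁ρ]
    simp only [Category.assoc]
  have hεDπ : εD ≫ P.VD.ι ≫ L.π = N₁.ι := by
    rw [← Category.assoc, hεD, hε₁π]
  have hab : (εD ≫ P.VD.ι ≫ L.φ) ≫ D.g₁ = (N₁.ι ≫ L.h) ≫ D.g₁ := by
    have h1 : (εD ≫ P.VD.ι ≫ L.φ) ≫ D.g₁ = (ε₁ ≫ L.p) ≫ D.θ := by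
      rw [← Category.assoc εD, hεD, Category.assoc, L.hφ, Category.assoc]
    have h2 : e₁ ≫ D.θ = (e₁ ≫ D.ρ₁) ≫ G.t := by rw [Category.assoc]; rfl
    rw [h1, hε₁p, h2, he₁ρ]
    simp only [Category.assoc]
    rw [G.e_t, Category.comp_id]
  obtain ⟨A, hA⟩ : ∃ A : N₁.toScheme.Opens,
      A = agree D.g₁ (εD ≫ P.VD.ι ≫ L.φ) (N₁.ι ≫ L.h) hab := ⟨_, rfl⟩
  refine ⟨N₁.ι ''ᵁ A, ?_, ?_, ?_⟩
  · obtain ⟨wu, hwu⟩ : ∃ wu : N₁.toScheme, N₁.ι wu = P.w := ⟨⟨P.w, hwN₁⟩, rfl⟩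
    have hφw : (εD ≫ P.VD.ι ≫ L.φ) wu = L.h P.w := by
      change L.φ ((εD ≫ P.VD.ι) wu) = _
      apply P.hΦ
      change ((εD ≫ P.VD.ι) ≫ L.π) wu = _
      rw [Category.assoc, hεDπ]
      exact hwu
    have hφw' : (N₁.ι ≫ L.h) wu = L.h P.w := by
      change L.h (N₁.ι wu) = _
      rw [hwu]
    have hmem : wu ∈ A := by
      rw [hA]
      apply mem_agree_of D.g₁ _ _ hab _ (hφw.trans hφw'.symm)
      apply D.hu₁
      rw [hφw]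
      exact P.hhw
    exact ⟨wu, hmem, hwu⟩
  · rintro _ ⟨t, -, rfl⟩
    exact (hmemN₁ _ t.2).2
  · intro T _ x hx
    have hxN : Set.range x ⊆ Set.range N₁.ι := by
      rintro _ ⟨t, rfl⟩
      obtain ⟨a, -, ha⟩ := hx t
      exact ⟨a, ha⟩
    obtain ⟨x', hx'⟩ : ∃ x' : T ⟶ N₁.toScheme, x' ≫ N₁.ι = x :=
      ⟨IsOpenImmersion.lift N₁.ι x hxN, IsOpenImmersion.lift_fac _ _ _⟩
    have hx'A : Set.range x' ⊆ (A : Set N₁.toScheme) := by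
      rintro _ ⟨t, rfl⟩
      obtain ⟨a, ha, hat⟩ := hx t
      have hxt : x t = N₁.ι (x' t) := by
        rw [← hx']
        rfl
      have : a = x' t := by
        apply N₁.ι.isOpenEmbedding.injective
        exact hat.trans hxt
      rw [← this]
      exact ha
    rw [hA] at hx'A
    have hcomp := comp_eq_of_range_subset D.g₁ _ _ hab x' hx'A
    refine ⟨x' ≫ εD, ?_, ?_, ?_⟩
    · rw [Category.assoc, hεDρ, ← Category.assoc, hx']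
    · rw [Category.assoc, hεDπ, hx']
    · apply P.unit_uniq
      · rw [Category.assoc, hεDρ, ← Category.assoc, hx']
      · rw [Category.assoc, hεDπ, hx']
      · rw [Category.assoc, hcomp, ← Category.assoc, hx']

end Setup

end Groth.Agent.Lib.Helper20.HR
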