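import Mathlib
import Groth.Agent.Lib.Helper20.HR16

/-!
# HR17: existence of the inverse near the rational point
-/

set_option autoImplicit false
set_option linter.style.haveILetI false
set_option linter.unusedSectionVars false
set_option maxHeartbeats 4000000
set_option synthInstance.maxHeartbeats 400000
universe u
open CategoryTheory CategoryTheory.Limits AlgebraicGeometry

namespace Groth.Agent.Lib.Helper20.HR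

open Grpd Groth.Agent.Lib.Helper25.GrpdAlg

namespace Setup

variable {S : Scheme.{u}} {G : GroupoidScheme S} [IsAffine G.U] {D : Setup G}
  {L : LiftRep D.g₁ D.π₁ D.θ} (P : D.Pt L)

theorem Pt.ν_cond : (P.VD.ι ≫ D.ρW L ≫ G.i) ≫ G.s = (P.VD.ι ≫ L.φ) ≫ D.g₁ := by
  simp only [Category.assoc]
  rw [G.i_s, D.ρW_t]

/-- the inverse arrow as a point of `R ×_U U₁` -/
noncomputable def Pt.ν : P.VD.toScheme ⟶ pullback G.s D.g₁ :=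
  pullback.lift (P.VD.ι ≫ D.ρW L ≫ G.i) (P.VD.ι ≫ L.φ) P.ν_cond

theorem Pt.ν_fst : P.ν ≫ pullback.fst _ _ = P.VD.ι ≫ D.ρW L ≫ G.i := pullback.lift_fst _ _ _
theorem Pt.ν_snd : P.ν ≫ pullback.snd _ _ = P.VD.ι ≫ L.φ := pullback.lift_snd _ _ _

theorem Pt.p_mem_Sig (v : L.VW) (hv : L.π v = P.w) : D.ρW L v ∈ D.Sig := by
  refine ⟨L.p v, ?_, rfl⟩
  change (L.p ≫ D.π₁) v = _
  rw [L.sq.w]
  change L.h (L.π v) = _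
  rw [hv, P.hhw]

theorem Pt.ν_mem (hF : D.Fib) (v : P.VD.toScheme) (hv : L.π (P.VD.ι v) = P.w) :
    P.ν v ∈ Set.range D.j₁ := by
  apply D.mem_range_j₁
  · change (P.ν ≫ pullback.snd G.s D.g₁) v = _
    rw [P.ν_snd]
    change L.φ (P.VD.ι v) = _
    rw [P.hΦ _ hv, P.hhw]
  · change (P.ν ≫ pullback.fst G.s D.g₁) v ∈ _
    rw [P.ν_fst]
    change G.i (D.ρW L (P.VD.ι v)) ∈ _
    exact hF.hi _ (P.p_mem_Sig _ hv)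

theorem Pt.exists_inverse (hF : D.Fib) : ∃ Di : L.W.Opens, P.w ∈ Di ∧ Di ≤ P.Dop ∧
    ∀ {T : Scheme.{u}} [IsAffine T] (α : T ⟶ P.VD.toScheme),
      (∀ t, L.π (P.VD.ι (α t)) ∈ Di) →
      ∃ α' : T ⟶ P.VD.toScheme, α' ≫ P.VD.ι ≫ D.ρW L = α ≫ P.VD.ι ≫ D.ρW L ≫ G.i ∧
        α' ≫ P.VD.ι ≫ L.π = α ≫ P.τ ∧ α' ≫ P.τ = α ≫ P.VD.ι ≫ L.π := by
  obtain ⟨I₁, hI₁⟩ : ∃ I₁ : P.VD.toScheme.Opens,
      I₁ = P.ν ⁻¹ᵁ D.j₁.opensRange ⊓ P.τ ⁻¹ᵁ P.Dop := ⟨_, rfl⟩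
  have hmemI₁ : ∀ v : P.VD.toScheme, v ∈ I₁ ↔ (P.ν v ∈ Set.range D.j₁ ∧ P.τ v ∈ P.Dop) := by
    intro v
    rw [hI₁]
    exact Iff.rfl
  have hrange1 : Set.range (I₁.ι ≫ P.ν) ⊆ Set.range D.j₁ := by
    rintro _ ⟨q, rfl⟩
    exact ((hmemI₁ _).mp q.2).1
  obtain ⟨β', hβ'⟩ : ∃ β' : I₁.toScheme ⟶ D.V₁, β' ≫ D.j₁ = I₁.ι ≫ P.ν :=
    ⟨IsOpenImmersion.lift D.j₁ (I₁.ι ≫ P.ν) hrange1, IsOpenImmersion.lift_fac _ _ _⟩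
  have hβ'ρ : β' ≫ D.ρ₁ = I₁.ι ≫ P.VD.ι ≫ D.ρW L ≫ G.i := by
    have : β' ≫ D.ρ₁ = (β' ≫ D.j₁) ≫ pullback.fst _ _ := by rw [Category.assoc]; rfl
    rw [this, hβ', Category.assoc, P.ν_fst]
  have hβ'π : β' ≫ D.π₁ = (I₁.ι ≫ P.τ) ≫ L.h := by
    have : β' ≫ D.π₁ = (β' ≫ D.j₁) ≫ pullback.snd _ _ := by rw [Category.assoc]; rfl
    rw [this, hβ', Category.assoc, P.ν_snd, Category.assoc, P.τ_h]
  obtain ⟨inv₁, hinv₁⟩ : ∃ inv₁ : I₁.toScheme ⟶ L.VW, inv₁ = vw β' (I₁.ι ≫ P.τ) hβ'π :=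
    ⟨_, rfl⟩
  have hinv₁p : inv₁ ≫ L.p = β' := by rw [hinv₁, vw_p]
  have hinv₁π : inv₁ ≫ L.π = I₁.ι ≫ P.τ := by rw [hinv₁, vw_π]
  have hrange2 : Set.range inv₁ ⊆ Set.range P.VD.ι := by
    rintro _ ⟨q, rfl⟩
    rw [Scheme.Opens.range_ι]
    change L.π (inv₁ q) ∈ P.Dop
    have : L.π (inv₁ q) = P.τ (I₁.ι q) := by
      change (inv₁ ≫ L.π) q = _
      rw [hinv₁π]
      rfl
    rw [this]
    exact ((hmemI₁ _).mp q.2).2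
  obtain ⟨invD, hinvD⟩ : ∃ invD : I₁.toScheme ⟶ P.VD.toScheme, invD ≫ P.VD.ι = inv₁ :=
    ⟨IsOpenImmersion.lift P.VD.ι inv₁ hrange2, IsOpenImmersion.lift_fac _ _ _⟩
  have hinvDρ : invD ≫ P.VD.ι ≫ D.ρW L = I₁.ι ≫ P.VD.ι ≫ D.ρW L ≫ G.i := by
    rw [← Category.assoc, hinvD]
    unfold Setup.ρW
    rw [← Category.assoc, hinv₁p, hβ'ρ]
    rfl
  have hinvDπ : invD ≫ P.VD.ι ≫ L.π = I₁.ι ≫ P.τ := by
    rw [← Category.assoc, hinvD, hinv₁π]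
  have hab : (invD ≫ P.VD.ι ≫ L.φ) ≫ D.g₁ = (I₁.ι ≫ P.VD.ι ≫ L.π ≫ L.h) ≫ D.g₁ := by
    have h1 : (invD ≫ P.VD.ι ≫ L.φ) ≫ D.g₁ = (inv₁ ≫ L.p) ≫ D.θ := by
      rw [← Category.assoc invD, hinvD, Category.assoc, L.hφ, Category.assoc]
    have h2 : β' ≫ D.θ = (β' ≫ D.ρ₁) ≫ G.t := by rw [Category.assoc]; rfl
    rw [h1, hinv₁p, h2, hβ'ρ]
    simp only [Category.assoc]
    rw [G.i_t, D.ρW_s]
    rfl
  obtain ⟨A, hA⟩ : ∃ A : I₁.toScheme.Opens,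
      A = agree D.g₁ (invD ≫ P.VD.ι ≫ L.φ) (I₁.ι ≫ P.VD.ι ≫ L.π ≫ L.h) hab := ⟨_, rfl⟩
  obtain ⟨O, hO⟩ : ∃ O : L.VW.Opens, O = P.VD.ι ''ᵁ (I₁.ι ''ᵁ A) := ⟨_, rfl⟩
  have hmemO : ∀ v : L.VW, v ∈ O ↔ ∃ q : I₁.toScheme, q ∈ A ∧ P.VD.ι (I₁.ι q) = v := by
    intro v
    rw [hO]
    constructor
    · rintro ⟨v', ⟨q, hq, rfl⟩, rfl⟩
      exact ⟨q, hq, rfl⟩
    · rintro ⟨q, hq, rfl⟩
      exact ⟨I₁.ι q, ⟨q, hq, rfl⟩, rfl⟩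
  refine ⟨P.Dop ⊓ tube L.π O, ⟨P.hwf₀, ?_⟩, inf_le_left, ?_⟩
  · apply (mem_tube L.π O P.w).mpr
    intro v hv
    rw [hmemO]
    have hvD : v ∈ P.VD := by
      change L.π v ∈ P.Dop
      rw [hv]; exact P.hwf₀
    obtain ⟨vD, hvD'⟩ : ∃ vD : P.VD.toScheme, P.VD.ι vD = v := ⟨⟨v, hvD⟩, rfl⟩
    have hvw : L.π (P.VD.ι vD) = P.w := by rw [hvD', hv]
    have hvI : vD ∈ I₁ := by
      rw [hmemI₁]
      refine ⟨P.ν_mem hF vD hvw, ?_⟩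
      rw [P.star vD hvw]
      exact P.hwf₀
    obtain ⟨q, hq⟩ : ∃ q : I₁.toScheme, I₁.ι q = vD := ⟨⟨vD, hvI⟩, rfl⟩
    refine ⟨q, ?_, by rw [hq, hvD']⟩
    have hφ1 : (invD ≫ P.VD.ι ≫ L.φ) q = L.h P.w := by
      change L.φ ((invD ≫ P.VD.ι) q) = _
      apply P.hΦ
      change ((invD ≫ P.VD.ι) ≫ L.π) q = _
      rw [Category.assoc, hinvDπ]
      change P.τ (I₁.ι q) = _
      rw [hq]
      exact P.star vD hvw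
    have hφ2 : (I₁.ι ≫ P.VD.ι ≫ L.π ≫ L.h) q = L.h P.w := by
      change L.h (L.π (P.VD.ι (I₁.ι q))) = _
      rw [hq, hvw]
    rw [hA]
    apply mem_agree_of D.g₁ _ _ hab _ (hφ1.trans hφ2.symm)
    apply D.hu₁
    rw [hφ1]
    exact P.hhw
  · intro T _ α hα
    have hαO : ∀ t, ∃ q : I₁.toScheme, q ∈ A ∧ I₁.ι q = α t := by
      intro t
      have h1 := (mem_tube L.π O _).mp (hα t).2 (P.VD.ι (α t)) rfl
      rw [hmemO] at h1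
      obtain ⟨q, hq, hqv⟩ := h1
      exact ⟨q, hq, P.VD.ι.isOpenEmbedding.injective hqv⟩
    have hαI : Set.range α ⊆ Set.range I₁.ι := by
      rintro _ ⟨t, rfl⟩
      obtain ⟨q, -, hq⟩ := hαO t
      exact ⟨q, hq⟩
    obtain ⟨α'', hα''⟩ : ∃ α'' : T ⟶ I₁.toScheme, α'' ≫ I₁.ι = α :=
      ⟨IsOpenImmersion.lift I₁.ι α hαI, IsOpenImmersion.lift_fac _ _ _⟩
    have hα''A : Set.range α'' ⊆ (A : Set I₁.toScheme) := by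
      rintro _ ⟨t, rfl⟩
      obtain ⟨q, hq, hqt⟩ := hαO t
      have hxt : α t = I₁.ι (α'' t) := by
        rw [← hα'']
        rfl
      have : q = α'' t := by
        apply I₁.ι.isOpenEmbedding.injective
        exact hqt.trans hxt
      rw [← this]
      exact hq
    rw [hA] at hα''A
    have hcomp := comp_eq_of_range_subset D.g₁ _ _ hab α'' hα''A
    have e1 : (α'' ≫ invD) ≫ P.VD.ι ≫ D.ρW L = α ≫ P.VD.ι ≫ D.ρW L ≫ G.i := by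
      rw [Category.assoc, hinvDρ, ← Category.assoc, hα'']
    have e2 : (α'' ≫ invD) ≫ P.VD.ι ≫ L.π = α ≫ P.τ := by
      rw [Category.assoc, hinvDπ, ← Category.assoc, hα'']
    refine ⟨α'' ≫ invD, e1, e2, ?_⟩
    apply P.inv_uniq α (α'' ≫ invD) e1 e2
    rw [Category.assoc, hcomp, ← Category.assoc, hα'']

end Setup

end Groth.Agent.Lib.Helper20.HR
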