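import Mathlib
import Groth.Agent.Lib.Helper20.HN1
import Groth.Agent.Lib.Helper20.HN3
import Groth.Agent.Lib.Helper20.HP1
import Groth.Agent.Lib.Helper25.GrpdTrans

/-!
# HR9: from an open finite "subgroupoid datum" over an étale neighbourhood to the split statement
-/

set_option autoImplicit false
set_option linter.style.haveILetI false
set_option linter.unusedSectionVars false
set_option maxHeartbeats 4000000
set_option synthInstance.maxHeartbeats 400000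
universe u
open CategoryTheory CategoryTheory.Limits AlgebraicGeometry

namespace Groth.Agent.Lib.Helper20.HR

open Grpd Groth.Agent.Lib.Helper25.GrpdAlg Groth.Agent.Lib.Helper20.HC Groth.Agent.Lib.Helper20.HN

section Restr

variable {S : Scheme.{u}} (G : GroupoidScheme S) {U' : Scheme.{u}} (u : U' ⟶ G.U)

theorem restr_j_fst : (restr G u).j ≫ pullback.fst _ _ = t' G u := pullback.lift_fst _ _ _
theorem restr_j_snd : (restr G u).j ≫ pullback.snd _ _ = s' G u := pullback.lift_snd _ _ _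
theorem j_fst : G.j ≫ pullback.fst _ _ = G.t := pullback.lift_fst _ _ _
theorem j_snd : G.j ≫ pullback.snd _ _ = G.s := pullback.lift_snd _ _ _

/-- the restriction of a groupoid along `u` is cartesian over `U' ×_S U' ⟶ U ×_S U` -/
theorem isPullback_restr :
    IsPullback (restrHom G u).fR (restr G u).j G.j
      (pullback.map (restr G u).pU (restr G u).pU G.pU G.pU (restrHom G u).fU (restrHom G u).fU
        (𝟙 S) ((Category.comp_id _).trans (restrHom G u).fU_over.symm)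
        ((Category.comp_id _).trans (restrHom G u).fU_over.symm)) := by
  have hw : (restrHom G u).fR ≫ G.j = (restr G u).j ≫
      (pullback.map (restr G u).pU (restr G u).pU G.pU G.pU (restrHom G u).fU (restrHom G u).fU
        (𝟙 S) ((Category.comp_id _).trans (restrHom G u).fU_over.symm)
        ((Category.comp_id _).trans (restrHom G u).fU_over.symm)) := by
    apply pullback.hom_ext
    · rw [Category.assoc, Category.assoc, j_fst, pullback.lift_fst, ← Category.assoc, restr_j_fst]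
      exact ιR_t G u
    · rw [Category.assoc, Category.assoc, j_snd, pullback.lift_snd, ← Category.assoc, restr_j_snd]
      exact ιR_s G u
  refine ⟨⟨hw⟩, ⟨PullbackCone.IsLimit.mk _
    (fun c => rLift c.fst (c.snd ≫ pullback.fst _ _) (c.snd ≫ pullback.snd _ _) ?_ ?_) ?_ ?_ ?_⟩⟩
  · have h := congrArg (· ≫ pullback.fst G.pU G.pU) c.condition
    simp only [Category.assoc] at h
    rw [j_fst, pullback.lift_fst] at h
    exact h.trans (Category.assoc _ _ _).symm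
  · have h := congrArg (· ≫ pullback.snd G.pU G.pU) c.condition
    simp only [Category.assoc] at h
    rw [j_snd, pullback.lift_snd] at h
    exact h.trans (Category.assoc _ _ _).symm
  · intro c
    exact rLift_ιR _ _ _ _ _
  · intro c
    apply pullback.hom_ext
    · exact (Category.assoc _ _ _).trans
        ((congrArg (fun x => _ ≫ x) (restr_j_fst G u)).trans (rLift_t' _ _ _ _ _))
    · exact (Category.assoc _ _ _).trans
        ((congrArg (fun x => _ ≫ x) (restr_j_snd G u)).trans (rLift_s' _ _ _ _ _))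
  · intro c m h1 h2
    apply r_hom_ext
    · rw [rLift_ιR]
      exact h1
    · rw [rLift_t', ← h2]
      exact ((Category.assoc m _ _).trans (congrArg (fun x => m ≫ x) (restr_j_fst G u))).symm
    · rw [rLift_s', ← h2]
      exact ((Category.assoc m _ _).trans (congrArg (fun x => m ≫ x) (restr_j_snd G u))).symm

/-- a `T`-point of the restriction which is an open immersion into `R ×_{s,U} U'` is an open
immersion, for `u` étale. -/
theorem isOpenImmersion_rLift [Etale u] {P : Scheme.{u}} (ρ : P ⟶ G.R) (a b : P ⟶ U')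
    (ha : ρ ≫ G.t = a ≫ u) (hb : ρ ≫ G.s = b ≫ u)
    [hoi : IsOpenImmersion (pullback.lift ρ b hb : P ⟶ pullback G.s u)] :
    IsOpenImmersion (rLift ρ a b ha hb) := by
  have hq : rLift ρ a b ha hb ≫ q G u = pullback.lift ρ b hb := by
    apply pullback.hom_ext
    · rw [Category.assoc, q_fst, rLift_ιR, pullback.lift_fst]
    · rw [Category.assoc, q_snd, rLift_s', pullback.lift_snd]
  haveI : Etale (q G u) := q_of_stable G u @Etale inferInstance
  haveI : IsOpenImmersion (rLift ρ a b ha hb ≫ q G u) := by rw [hq]; exact hoi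
  haveI : Etale (rLift ρ a b ha hb) := Etale.of_comp (f := rLift ρ a b ha hb) (q G u)
  haveI : Mono (rLift ρ a b ha hb) := mono_of_mono _ (q G u)
  exact IsOpenImmersion.of_flat_of_mono _

/-- points of the restriction over a rational point are determined by their arrow -/
theorem r_pt_ext (u₂ : U') (hres : Function.Bijective (u.residueFieldMap u₂)) (z z' : ↑(R' G u))
    (hs : s' G u z = u₂) (hs' : s' G u z' = u₂) (ht : t' G u z = u₂) (ht' : t' G u z' = u₂)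
    (hι : ιR G u z = ιR G u z') : z = z' := by
  apply Groth.Agent.Lib.Helper20.HP.eq_of_fst_eq_of_snd_eq (v G u) u u₂ hres z z' hs hs'
  apply Groth.Agent.Lib.Helper20.HP.eq_of_fst_eq_of_snd_eq G.t u u₂ hres _ _ ht ht'
  exact hι

end Restr

/-- an open finite subgroupoid datum over an affine étale `g₂ : U₂ ⟶ U`. -/
structure Fin {S : Scheme.{u}} (G : GroupoidScheme S) where
  U₂ : Scheme.{u}
  g₂ : U₂ ⟶ G.U
  P₂ : Scheme.{u}
  ρ₂ : P₂ ⟶ G.R
  π₂ : P₂ ⟶ U₂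
  τ₂ : P₂ ⟶ U₂
  hs : ρ₂ ≫ G.s = π₂ ≫ g₂
  ht : ρ₂ ≫ G.t = τ₂ ≫ g₂
  aff : IsAffine U₂
  et : Etale g₂
  oi : IsOpenImmersion (pullback.lift ρ₂ π₂ hs : P₂ ⟶ pullback G.s g₂)
  fin : IsFinite π₂
  ε : U₂ ⟶ P₂
  ε_ρ : ε ≫ ρ₂ = g₂ ≫ G.e
  ε_π : ε ≫ π₂ = 𝟙 _
  ε_τ : ε ≫ τ₂ = 𝟙 _
  inv : P₂ ⟶ P₂
  inv_ρ : inv ≫ ρ₂ = ρ₂ ≫ G.i
  inv_π : inv ≫ π₂ = τ₂
  inv_τ : inv ≫ τ₂ = π₂
  γ_ex : ∀ {T : Scheme.{u}} [IsAffine T] (a b : T ⟶ P₂) (h : a ≫ π₂ = b ≫ τ₂),
    ∃ c : T ⟶ P₂, c ≫ ρ₂ = comp G (a ≫ ρ₂) (b ≫ ρ₂)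
      (by rw [Category.assoc, Category.assoc, hs, ht, ← Category.assoc, ← Category.assoc, h]) ∧
      c ≫ π₂ = b ≫ π₂ ∧ c ≫ τ₂ = a ≫ τ₂

namespace Fin

variable {S : Scheme.{u}} {G : GroupoidScheme S} (F : Fin G)

attribute [instance] aff et oi fin

/-- the open immersion of the datum into the arrows of the restriction -/
noncomputable def ιP : F.P₂ ⟶ R' G F.g₂ := rLift F.ρ₂ F.τ₂ F.π₂ F.ht F.hs

instance : IsOpenImmersion F.ιP := isOpenImmersion_rLift G F.g₂ F.ρ₂ F.τ₂ F.π₂ F.ht F.hs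

theorem ιP_ιR : F.ιP ≫ ιR G F.g₂ = F.ρ₂ := rLift_ιR _ _ _ _ _
theorem ιP_s : F.ιP ≫ s' G F.g₂ = F.π₂ := rLift_s' _ _ _ _ _
theorem ιP_t : F.ιP ≫ t' G F.g₂ = F.τ₂ := rLift_t' _ _ _ _ _

theorem p_hom_ext {T : Scheme.{u}} {a b : T ⟶ F.P₂} (h1 : a ≫ F.ρ₂ = b ≫ F.ρ₂)
    (h2 : a ≫ F.π₂ = b ≫ F.π₂) : a = b := by
  rw [← cancel_mono (pullback.lift F.ρ₂ F.π₂ F.hs)]
  apply pullback.hom_ext
  · rw [Category.assoc, Category.assoc, pullback.lift_fst, h1]
  · rw [Category.assoc, Category.assoc, pullback.lift_snd, h2]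

theorem inv_inv : F.inv ≫ F.inv = 𝟙 _ := by
  apply F.p_hom_ext
  · rw [Category.assoc, F.inv_ρ, ← Category.assoc, F.inv_ρ, Category.assoc,
      Groth.Agent.Lib.Helper25.GrpdTrans.i_i, Category.comp_id, Category.id_comp]
  · rw [Category.assoc, F.inv_π, F.inv_τ, Category.id_comp]

instance : IsIso F.inv := ⟨F.inv, F.inv_inv, F.inv_inv⟩

instance : IsFinite F.τ₂ := by
  rw [← F.inv_π]
  infer_instance

instance : IsAffine F.P₂ := isAffine_of_isAffineHom F.π₂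

theorem cP_aux {T : Scheme.{u}} [IsAffine T] (a b : T ⟶ F.P₂)
    (h : (a ≫ F.ιP) ≫ s' G F.g₂ = (b ≫ F.ιP) ≫ t' G F.g₂) :
    ∃ c : T ⟶ F.P₂, c ≫ F.ιP = pullback.lift (a ≫ F.ιP) (b ≫ F.ιP) h ≫ cR G F.g₂ := by
  have hcond : a ≫ F.π₂ = b ≫ F.τ₂ := by
    rw [Category.assoc, Category.assoc, F.ιP_s, F.ιP_t] at h
    exact h
  obtain ⟨c, hc1, hc2, hc3⟩ := F.γ_ex a b hcond
  refine ⟨c, ?_⟩
  apply r_hom_ext
  · rw [lift_cR_ιR, Category.assoc, F.ιP_ιR, hc1]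
    apply comp_congr
    · rw [Category.assoc, F.ιP_ιR]
    · rw [Category.assoc, F.ιP_ιR]
  · rw [lift_cR_t, Category.assoc, F.ιP_t, hc3, Category.assoc, F.ιP_t]
  · rw [lift_cR_s, Category.assoc, F.ιP_s, hc2, Category.assoc, F.ιP_s]

theorem result (u : G.U) (u₂ : F.U₂) (hu : F.g₂ u₂ = u)
    (hres : Function.Bijective (F.g₂.residueFieldMap u₂)) (Sig : Set G.R)
    (hSig : ∀ r ∈ Sig, ∃ p : F.P₂, F.ρ₂ p = r ∧ F.π₂ p = u₂ ∧ F.τ₂ p = u₂) :
    ∃ (G' : Grpd.GroupoidScheme S) (φ : Grpd.GroupoidScheme.Hom G' G) (u' : ↥G'.U),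
      IsAffine G'.U ∧ Etale φ.fU ∧ φ.fU u' = u ∧ IsIso (φ.fU.residueFieldMap u') ∧
      IsPullback φ.fR G'.j G.j
        (pullback.map G'.pU G'.pU G.pU G.pU φ.fU φ.fU (𝟙 S)
          ((Category.comp_id _).trans φ.fU_over.symm) ((Category.comp_id _).trans φ.fU_over.symm)) ∧
      ∃ (P : Scheme.{u}) (ιP : P ⟶ G'.R), IsOpenImmersion ιP ∧
        (∃ eP : G'.U ⟶ P, eP ≫ ιP = G'.e) ∧ (∃ iP : P ⟶ P, iP ≫ ιP = ιP ≫ G'.i) ∧
        (∃ cP : pullback (ιP ≫ G'.s) (ιP ≫ G'.t) ⟶ P,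
          cP ≫ ιP = pullback.map (ιP ≫ G'.s) (ιP ≫ G'.t) G'.s G'.t ιP ιP (𝟙 G'.U)
            (Category.comp_id _) (Category.comp_id _) ≫ G'.c) ∧
        IsFinite (ιP ≫ G'.s) ∧ IsFinite (ιP ≫ G'.t) ∧
        ∀ r' : ↥G'.R, G'.s r' = u' → G'.t r' = u' → φ.fR r' ∈ Sig → ∃ p : ↥P, ιP p = r' := by
  refine ⟨restr G F.g₂, restrHom G F.g₂, u₂, F.aff, F.et, hu,
    (ConcreteCategory.isIso_iff_bijective _).mpr hres, isPullback_restr G F.g₂, F.P₂, F.ιP,
    (inferInstance : IsOpenImmersion F.ιP), ⟨F.ε, ?_⟩, ⟨F.inv, ?_⟩, ?_, ?_, ?_, ?_⟩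
  · change F.ε ≫ F.ιP = eR G F.g₂
    apply r_hom_ext
    · rw [Category.assoc, F.ιP_ιR, F.ε_ρ, eR_ιR]
    · rw [Category.assoc, F.ιP_t, F.ε_τ, eR_t]
    · rw [Category.assoc, F.ιP_s, F.ε_π, eR_s]
  · change F.inv ≫ F.ιP = F.ιP ≫ iR G F.g₂
    apply r_hom_ext
    · rw [Category.assoc, F.ιP_ιR, F.inv_ρ, Category.assoc, iR_ιR, ← Category.assoc, F.ιP_ιR]
    · rw [Category.assoc, F.ιP_t, F.inv_τ, Category.assoc, iR_t, F.ιP_s]
    · rw [Category.assoc, F.ιP_s, F.inv_π, Category.assoc, iR_s, F.ιP_t]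
  · change ∃ cP : pullback (F.ιP ≫ s' G F.g₂) (F.ιP ≫ t' G F.g₂) ⟶ F.P₂,
      cP ≫ F.ιP = pullback.map (F.ιP ≫ s' G F.g₂) (F.ιP ≫ t' G F.g₂) (s' G F.g₂) (t' G F.g₂)
        F.ιP F.ιP (𝟙 F.U₂) (Category.comp_id _) (Category.comp_id _) ≫ cR G F.g₂
    obtain ⟨c, hc⟩ := F.cP_aux (pullback.fst (F.ιP ≫ s' G F.g₂) (F.ιP ≫ t' G F.g₂))
      (pullback.snd (F.ιP ≫ s' G F.g₂) (F.ιP ≫ t' G F.g₂))
      (by rw [Category.assoc, Category.assoc, pullback.condition])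
    refine ⟨c, hc.trans ?_⟩
    congr 1
  · change IsFinite (F.ιP ≫ s' G F.g₂)
    rw [F.ιP_s]
    infer_instance
  · change IsFinite (F.ιP ≫ t' G F.g₂)
    rw [F.ιP_t]
    infer_instance
  · intro r' hs ht hr
    obtain ⟨p, hp1, hp2, hp3⟩ := hSig _ hr
    refine ⟨p, ?_⟩
    apply r_pt_ext G F.g₂ u₂ hres
    · change (F.ιP ≫ s' G F.g₂) p = u₂
      rw [F.ιP_s]; exact hp2
    · exact hs
    · change (F.ιP ≫ t' G F.g₂) p = u₂
      rw [F.ιP_t]; exact hp3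
    · exact ht
    · change (F.ιP ≫ ιR G F.g₂) p = _
      rw [F.ιP_ιR]; exact hp1

end Fin

end Groth.Agent.Lib.Helper20.HR
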