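import Mathlib
import Groth.Agent.Lib.Helper20.HR9
import Groth.Agent.Lib.Helper20.HR14
import Groth.Agent.Lib.Helper20.HR17

/-!
# HR18: assembling the open finite subgroupoid datum over an invariant affine neighbourhood
-/

set_option autoImplicit false
set_option linter.style.haveILetI false
set_option linter.unusedSectionVars false
set_option maxHeartbeats 4000000
set_option synthInstance.maxHeartbeats 400000
universe u
open CategoryTheory CategoryTheory.Limits AlgebraicGeometry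

namespace Groth.Agent.Lib.Helper20.HR

open Grpd Groth.Agent.Lib.Helper25.GrpdAlg

namespace Setup

variable {S : Scheme.{u}} {G : GroupoidScheme S} [IsAffine G.U] {D : Setup G}
  {L : LiftRep D.g₁ D.π₁ D.θ}

theorem Pt.exists_fin (P : D.Pt L) (hF : D.Fib) : ∃ (F : Fin G) (u₂ : F.U₂), F.g₂ u₂ = D.g₁ D.u₁ ∧
    Function.Bijective (F.g₂.residueFieldMap u₂) ∧
    ∀ r ∈ D.Sig, ∃ p : F.P₂, F.ρ₂ p = r ∧ F.π₂ p = u₂ ∧ F.τ₂ p = u₂ := by
  obtain ⟨De, hwDe, hDeD, hunit⟩ := P.exists_unit hF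
  obtain ⟨Di, hwDi, hDiD, hinv⟩ := P.exists_inverse hF
  obtain ⟨U₂, hU₂aff, hwU₂, hU₂N, hU₂D, hinvar⟩ := P.exists_invariant (De ⊓ Di) ⟨hwDe, hwDi⟩
  haveI : IsAffine U₂.toScheme := hU₂aff
  obtain ⟨g₂, hg₂⟩ : ∃ g₂ : U₂.toScheme ⟶ G.U, g₂ = U₂.ι ≫ D.g L := ⟨_, rfl⟩
  haveI : Etale g₂ := by rw [hg₂]; infer_instance
  obtain ⟨VU, hVU⟩ : ∃ VU : L.VW.Opens, VU = L.π ⁻¹ᵁ U₂ := ⟨_, rfl⟩
  have hmemVU : ∀ v : L.VW, v ∈ VU ↔ L.π v ∈ U₂ := by
    intro v; rw [hVU]; exact Iff.rfl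
  have hVUle : VU ≤ P.VD := by
    intro v hv
    exact hU₂D ((hmemVU v).mp hv)
  haveI : IsAffine VU.toScheme := by
    have : IsAffineOpen VU := by rw [hVU]; exact hU₂aff.preimage L.π
    exact this
  obtain ⟨ι₂, hι₂⟩ : ∃ ι₂ : VU.toScheme ⟶ P.VD.toScheme, ι₂ ≫ P.VD.ι = VU.ι :=
    ⟨L.VW.homOfLE hVUle, L.VW.homOfLE_ι hVUle⟩
  obtain ⟨π₂, hπ₂, hπ₂fin⟩ : ∃ π₂ : VU.toScheme ⟶ U₂.toScheme, π₂ ≫ U₂.ι = VU.ι ≫ L.π ∧
      IsFinite π₂ := by
    subst hVU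
    exact ⟨L.π ∣_ U₂, morphismRestrict_ι _ _,
      MorphismProperty.of_isPullback (P := @IsFinite) (isPullback_morphismRestrict L.π U₂).flip
        inferInstance⟩
  have hπ₂mem : ∀ q : VU.toScheme, L.π (P.VD.ι (ι₂ q)) ∈ U₂ := by
    intro q
    have : P.VD.ι (ι₂ q) = VU.ι q := by
      change (ι₂ ≫ P.VD.ι) q = _
      rw [hι₂]
    rw [this]
    exact (hmemVU _).mp q.2
  have hτrange : Set.range (ι₂ ≫ P.τ) ⊆ Set.range U₂.ι := by
    rintro _ ⟨q, rfl⟩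
    rw [Scheme.Opens.range_ι]
    exact hinvar (ι₂ q) (hπ₂mem q)
  obtain ⟨τ₂, hτ₂⟩ : ∃ τ₂ : VU.toScheme ⟶ U₂.toScheme, τ₂ ≫ U₂.ι = ι₂ ≫ P.τ :=
    ⟨IsOpenImmersion.lift U₂.ι (ι₂ ≫ P.τ) hτrange, IsOpenImmersion.lift_fac _ _ _⟩
  obtain ⟨ρ₂, hρ₂⟩ : ∃ ρ₂ : VU.toScheme ⟶ G.R, ρ₂ = VU.ι ≫ D.ρW L := ⟨_, rfl⟩
  have hρ₂' : ρ₂ = ι₂ ≫ P.VD.ι ≫ D.ρW L := by rw [hρ₂, ← Category.assoc, hι₂]
  have hs : ρ₂ ≫ G.s = π₂ ≫ g₂ := by
    rw [hρ₂, hg₂, Category.assoc, D.ρW_s, ← Category.assoc, ← hπ₂, Category.assoc]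
  have ht : ρ₂ ≫ G.t = τ₂ ≫ g₂ := by
    rw [hρ₂', hg₂, ← Category.assoc τ₂, hτ₂, Category.assoc, Category.assoc, Category.assoc,
      P.τ_g]
  -- the open immersion
  have hoi : IsOpenImmersion (pullback.lift ρ₂ π₂ hs : VU.toScheme ⟶ pullback G.s g₂) := by
    have e1 : g₂ ≫ 𝟙 G.U = U₂.ι ≫ D.g L := by rw [Category.comp_id, hg₂]
    obtain ⟨κ, hκ⟩ : ∃ κ : pullback G.s g₂ ⟶ pullback G.s (D.g L),
        κ = pullback.map G.s g₂ G.s (D.g L) (𝟙 _) U₂.ι (𝟙 _)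
          (by rw [Category.comp_id, Category.id_comp]) e1 := ⟨_, rfl⟩
    haveI : IsOpenImmersion κ := by rw [hκ]; infer_instance
    have hcomp : pullback.lift ρ₂ π₂ hs ≫ κ = VU.ι ≫ D.jW L := by
      rw [hκ]
      apply pullback.hom_ext
      · rw [Category.assoc, pullback.lift_fst, ← Category.assoc, pullback.lift_fst,
          Category.comp_id, Category.assoc, D.jW_fst, hρ₂]
      · rw [Category.assoc, pullback.lift_snd, ← Category.assoc, pullback.lift_snd,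
          Category.assoc, D.jW_snd, hπ₂]
    haveI : IsOpenImmersion (pullback.lift ρ₂ π₂ hs ≫ κ) := by rw [hcomp]; infer_instance
    exact IsOpenImmersion.of_comp _ κ
  -- the unit
  obtain ⟨α, hα1, hα2, hα3⟩ := hunit U₂.ι (fun t => (hU₂N t.2).1)
  have hεrange : Set.range (α ≫ P.VD.ι) ⊆ Set.range VU.ι := by
    rintro _ ⟨t, rfl⟩
    rw [Scheme.Opens.range_ι]
    apply (hmemVU _).mpr
    change (α ≫ P.VD.ι ≫ L.π) t ∈ U₂
    rw [hα2]
    exact t.2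
  obtain ⟨ε, hε⟩ : ∃ ε : U₂.toScheme ⟶ VU.toScheme, ε ≫ VU.ι = α ≫ P.VD.ι :=
    ⟨IsOpenImmersion.lift VU.ι (α ≫ P.VD.ι) hεrange, IsOpenImmersion.lift_fac _ _ _⟩
  have hει₂ : ε ≫ ι₂ = α := by
    rw [← cancel_mono P.VD.ι, Category.assoc, hι₂, hε]
  -- the inverse
  obtain ⟨α', hα'1, hα'2, hα'3⟩ := hinv ι₂ (fun t => (hU₂N (hπ₂mem t)).2)
  have hinvrange : Set.range (α' ≫ P.VD.ι) ⊆ Set.range VU.ι := by
    rintro _ ⟨t, rfl⟩
    rw [Scheme.Opens.range_ι]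
    apply (hmemVU _).mpr
    change (α' ≫ P.VD.ι ≫ L.π) t ∈ U₂
    rw [hα'2]
    exact hinvar (ι₂ t) (hπ₂mem t)
  obtain ⟨inv, hinv'⟩ : ∃ inv : VU.toScheme ⟶ VU.toScheme, inv ≫ VU.ι = α' ≫ P.VD.ι :=
    ⟨IsOpenImmersion.lift VU.ι (α' ≫ P.VD.ι) hinvrange, IsOpenImmersion.lift_fac _ _ _⟩
  have hinvι₂ : inv ≫ ι₂ = α' := by
    rw [← cancel_mono P.VD.ι, Category.assoc, hι₂, hinv']
  -- the datum
  obtain ⟨u₂, hu₂⟩ : ∃ u₂ : U₂.toScheme, U₂.ι u₂ = P.w := ⟨⟨P.w, hwU₂⟩, rfl⟩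
  refine ⟨{
    U₂ := U₂.toScheme
    g₂ := g₂
    P₂ := VU.toScheme
    ρ₂ := ρ₂
    π₂ := π₂
    τ₂ := τ₂
    hs := hs
    ht := ht
    aff := inferInstance
    et := inferInstance
    oi := hoi
    fin := hπ₂fin
    ε := ε
    ε_ρ := by
      rw [hρ₂, ← Category.assoc, hε, Category.assoc, hα1, hg₂, Category.assoc]
    ε_π := by
      rw [← cancel_mono U₂.ι, Category.assoc, hπ₂, ← Category.assoc, hε, Category.assoc, hα2,
        Category.id_comp]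
    ε_τ := by
      rw [← cancel_mono U₂.ι, Category.assoc, hτ₂, ← Category.assoc, hει₂, hα3, Category.id_comp]
    inv := inv
    inv_ρ := by
      rw [hρ₂, ← Category.assoc, hinv', Category.assoc, hα'1, ← Category.assoc ι₂, hι₂,
        Category.assoc]
    inv_π := by
      rw [← cancel_mono U₂.ι, Category.assoc, hπ₂, ← Category.assoc, hinv', Category.assoc, hα'2,
        hτ₂]
    inv_τ := by
      rw [← cancel_mono U₂.ι, Category.assoc, hτ₂, ← Category.assoc, hinvι₂, hα'3, hπ₂,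
        ← Category.assoc, hι₂]
    γ_ex := ?_ }, u₂, ?_, ?_, ?_⟩
  · -- composition
    intro T _ a b hab
    have hβα : (a ≫ VU.ι ≫ L.p) ≫ D.π₁ = (b ≫ ι₂) ≫ P.VD.ι ≫ L.φ := by
      have h1 : (a ≫ VU.ι ≫ L.p) ≫ D.π₁ = (a ≫ π₂ ≫ U₂.ι) ≫ L.h := by
        rw [hπ₂]
        simp only [Category.assoc]
        rw [L.sq.w]
      rw [h1, ← Category.assoc a, hab, Category.assoc b, hτ₂, ← P.τ_h]
      simp only [Category.assoc]
    have hcrange : Set.range (P.mm (a ≫ VU.ι ≫ L.p) (b ≫ ι₂) hβα) ⊆ Set.range VU.ι := by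
      rintro _ ⟨t, rfl⟩
      rw [Scheme.Opens.range_ι]
      apply (hmemVU _).mpr
      change (P.mm (a ≫ VU.ι ≫ L.p) (b ≫ ι₂) hβα ≫ L.π) t ∈ U₂
      rw [P.mm_π]
      exact hπ₂mem (b t)
    obtain ⟨c, hc⟩ : ∃ c : T ⟶ VU.toScheme,
        c ≫ VU.ι = P.mm (a ≫ VU.ι ≫ L.p) (b ≫ ι₂) hβα :=
      ⟨IsOpenImmersion.lift VU.ι _ hcrange, IsOpenImmersion.lift_fac _ _ _⟩
    have hcι₂ : c ≫ ι₂ = P.mmD (a ≫ VU.ι ≫ L.p) (b ≫ ι₂) hβα := by
      rw [← cancel_mono P.VD.ι, Category.assoc, hι₂, hc, P.mmD_ι]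
    refine ⟨c, ?_, ?_, ?_⟩
    · subst hρ₂
      rw [← Category.assoc, hc, P.mm_ρW]
      apply comp_congr
      · simp only [Category.assoc]
        rfl
      · simp only [Category.assoc]
        rw [← Category.assoc ι₂, hι₂]
    · rw [← cancel_mono U₂.ι, Category.assoc, hπ₂, ← Category.assoc, hc, P.mm_π, Category.assoc,
        Category.assoc, ← Category.assoc ι₂, hι₂, hπ₂]
    · have hcoc := P.cocycle (a ≫ VU.ι ≫ L.p) (b ≫ ι₂) hβα (a ≫ ι₂)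
        (by rw [Category.assoc, ← Category.assoc ι₂, hι₂])
        (by rw [Category.assoc, ← Category.assoc ι₂, hι₂, ← hπ₂, ← Category.assoc, hab,
          Category.assoc, hτ₂, Category.assoc])
      rw [← cancel_mono U₂.ι, Category.assoc, hτ₂, ← Category.assoc, hcι₂, hcoc, Category.assoc,
        Category.assoc, hτ₂]
  · -- the base point
    change g₂ u₂ = _
    rw [hg₂]
    change D.g₁ (L.h (U₂.ι u₂)) = _
    rw [hu₂, P.hhw]
  · -- residue fields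
    change Function.Bijective (g₂.residueFieldMap u₂)
    subst hg₂
    unfold Setup.g
    rw [Scheme.residueFieldMap_comp, Scheme.residueFieldMap_comp]
    have h1 : Function.Bijective (U₂.ι.residueFieldMap u₂) :=
      ConcreteCategory.bijective_of_isIso _
    have h2 : Function.Bijective (L.h.residueFieldMap (U₂.ι u₂)) := by
      rw [hu₂]; exact P.hwres
    have h3 : Function.Bijective (D.g₁.residueFieldMap (L.h (U₂.ι u₂))) := by
      apply D.hu₁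
      rw [hu₂, P.hhw]
    exact h1.comp (h2.comp h3)
  · -- the fibre
    rintro r ⟨v₁, hv₁, rfl⟩
    obtain ⟨v, hv1, hv2⟩ := exists_point_of_isPullback L.sq v₁ P.w (by rw [hv₁, P.hhw])
    have hvVU : v ∈ VU := (hmemVU v).mpr (by rw [hv2]; exact hwU₂)
    obtain ⟨q, hq⟩ : ∃ q : VU.toScheme, VU.ι q = v := ⟨⟨v, hvVU⟩, rfl⟩
    have hqι₂ : P.VD.ι (ι₂ q) = v := by
      change (ι₂ ≫ P.VD.ι) q = _
      rw [hι₂, hq]
    refine ⟨q, ?_, ?_, ?_⟩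
    · change ρ₂ q = _
      rw [hρ₂]
      change D.ρ₁ (L.p (VU.ι q)) = _
      rw [hq, hv1]
    · apply U₂.ι.isOpenEmbedding.injective
      change (π₂ ≫ U₂.ι) q = _
      rw [hπ₂]
      change L.π (VU.ι q) = _
      rw [hq, hv2]
      exact hu₂.symm
    · apply U₂.ι.isOpenEmbedding.injective
      change (τ₂ ≫ U₂.ι) q = _
      rw [hτ₂]
      change P.τ (ι₂ q) = _
      rw [P.star (ι₂ q) (by rw [hqι₂, hv2])]
      exact hu₂.symm

end Setup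

end Groth.Agent.Lib.Helper20.HR
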