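import Mathlib
import Groth.Agent.Lib.Helper20.HR18
import Groth.Agent.Lib.Helper6.EtLocScheme4

/-!
# HR19: étale-local splitting of a groupoid scheme along a finite set of arrows over a point
-/

set_option autoImplicit false
set_option linter.style.haveILetI false
set_option linter.unusedSectionVars false
set_option maxHeartbeats 4000000
set_option synthInstance.maxHeartbeats 400000
universe u
open CategoryTheory CategoryTheory.Limits AlgebraicGeometry

namespace Groth.Agent.Lib.Helper20.HR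

open Grpd Groth.Agent.Lib.Helper25.GrpdAlg

/-- **the core theorem**: a finite set `Σ` of arrows from `u` to `u`, stable under composition and
inverse and containing the identity, at which `s` is quasi-finite, is contained in an open finite
subgroupoid after an étale localization at `u`. -/
theorem core {S : Scheme.{u}} (G : GroupoidScheme S) [IsAffine G.U] [IsSeparated G.s] [Flat G.s]
    [LocallyOfFinitePresentation G.s] (u : G.U) (Sig : Set G.R) (hfin : Sig.Finite)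
    (hs : ∀ r ∈ Sig, G.s r = u) (ht : ∀ r ∈ Sig, G.t r = u)
    (hqf : ∀ r ∈ Sig, G.s.QuasiFiniteAt r) (he : G.e u ∈ Sig) (hi : ∀ r ∈ Sig, G.i r ∈ Sig)
    (hc : ∀ z : ↑(pullback G.s G.t), pullback.fst G.s G.t z ∈ Sig →
      pullback.snd G.s G.t z ∈ Sig → G.c z ∈ Sig) :
    ∃ (G' : Grpd.GroupoidScheme S) (φ : Grpd.GroupoidScheme.Hom G' G) (u' : ↥G'.U),
      IsAffine G'.U ∧ Etale φ.fU ∧ φ.fU u' = u ∧ IsIso (φ.fU.residueFieldMap u') ∧
      IsPullback φ.fR G'.j G.j
        (pullback.map G'.pU G'.pU G.pU G.pU φ.fU φ.fU (𝟙 S)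
          ((Category.comp_id _).trans φ.fU_over.symm) ((Category.comp_id _).trans φ.fU_over.symm)) ∧
      ∃ (P : Scheme.{u}) (ιP : P ⟶ G'.R), IsOpenImmersion ιP ∧
        (∃ eP : G'.U ⟶ P, eP ≫ ιP = G'.e) ∧ (∃ iP : P ⟶ P, iP ≫ ιP = ιP ≫ G'.i) ∧
        (∃ cP : pullback (ιP ≫ G'.s) (ιP ≫ G'.t) ⟶ P,
          cP ≫ ιP = pullback.map (ιP ≫ G'.s) (ιP ≫ G'.t) G'.s G'.t ιP ιP (𝟙 G'.U)
            (Category.comp_id _) (Category.comp_id _) ≫ G'.c) ∧
        IsFinite (ιP ≫ G'.s) ∧ IsFinite (ιP ≫ G'.t) ∧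
        ∀ r' : ↥G'.R, G'.s r' = u' → G'.t r' = u' → φ.fR r' ∈ Sig → ∃ p : ↥P, ιP p = r' := by
  haveI : Finite Sig := hfin
  obtain ⟨U₁, g₁, u₁, hU₁aff, hEt, hgu, hbij, V, v, hdisj, hV, hclopen, hVfin⟩ :=
    Groth.Agent.Lib.Helper6.EtLoc.exists_etale_nbhd_family_separated G.s u
      (fun i : Sig => (i : G.R)) Subtype.val_injective (fun i => hs _ i.2) (fun i => hqf _ i.2)
  obtain ⟨Vt, hVt⟩ : ∃ Vt : (pullback G.s g₁).Opens, Vt = ⨆ i, V i := ⟨_, rfl⟩
  rw [← hVt] at hVfin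
  haveI := hU₁aff
  haveI := hEt
  haveI : IsFinite (Vt.ι ≫ pullback.snd G.s g₁) := hVfin
  haveI : IsAffine Vt.toScheme := isAffine_of_isAffineHom (Vt.ι ≫ pullback.snd G.s g₁)
  let D : Setup G :=
    { U₁ := U₁
      g₁ := g₁
      u₁ := u₁
      V₁ := Vt.toScheme
      j₁ := Vt.ι
      affU₁ := hU₁aff
      affV₁ := inferInstance
      et := hEt
      oi := inferInstance
      fin := hVfin
      flat := inferInstance
      lfp := inferInstance
      hres := hbij }
  have hSig : D.Sig = Sig := by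
    ext r
    constructor
    · rintro ⟨v', hv'1, rfl⟩
      have hmem : Vt.ι v' ∈ ⨆ i, V i := by rw [← hVt]; exact v'.2
      rw [TopologicalSpace.Opens.mem_iSup] at hmem
      obtain ⟨i, hi'⟩ := hmem
      have h1 : Vt.ι v' = v i := (hV i).2.2.2.2.1 _ hi' hv'1
      change pullback.fst G.s g₁ (Vt.ι v') ∈ Sig
      rw [h1, (hV i).2.2.2.2.2.1]
      exact i.2
    · intro hr
      have hmem : v ⟨r, hr⟩ ∈ Vt := by
        rw [hVt, TopologicalSpace.Opens.mem_iSup]
        exact ⟨⟨r, hr⟩, (hV ⟨r, hr⟩).2.1⟩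
      refine ⟨⟨v ⟨r, hr⟩, hmem⟩, ?_, ?_⟩
      · exact (hV ⟨r, hr⟩).2.2.2.1
      · exact (hV ⟨r, hr⟩).2.2.2.2.2.1
  have hF : D.Fib :=
    { ht := fun r hr => by
        rw [hSig] at hr
        exact (ht r hr).trans hgu.symm
      hc := fun z h1 h2 => by
        rw [hSig] at h1 h2 ⊢
        exact hc z h1 h2
      he := by
        rw [hSig]
        change G.e (g₁ u₁) ∈ Sig
        rw [hgu]
        exact he
      hi := fun r hr => by
        rw [hSig] at hr ⊢
        exact hi r hr }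
  obtain ⟨L⟩ := nonempty_liftRep D.g₁ D.π₁ D.θ
  obtain ⟨P⟩ := Setup.exists_pt L hF
  obtain ⟨F, u₂, h1, h2, h3⟩ := P.exists_fin hF
  exact F.result u u₂ (h1.trans hgu) h2 Sig (by rw [← hSig]; exact h3)

end Groth.Agent.Lib.Helper20.HR
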