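import Mathlib
import Groth.Agent.Lib.Helper20.HP1
import Groth.Agent.Lib.Helper25.GrpdAlg

/-!
# HR20: the identity arrow at a point: inverse and composition on points
-/

set_option autoImplicit false
set_option linter.style.haveILetI false
set_option linter.unusedSectionVars false
set_option maxHeartbeats 4000000
universe u
open CategoryTheory CategoryTheory.Limits AlgebraicGeometry

namespace Groth.Agent.Lib.Helper20.HR

open Grpd Groth.Agent.Lib.Helper25.GrpdAlg

variable {S : Scheme.{u}} (G : GroupoidScheme S)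

theorem e_comp_i : G.e ≫ G.i = G.e := by
  have h0 : G.e ≫ G.s = G.e ≫ G.t := by rw [G.e_s, G.e_t]
  have h1 : comp G G.e G.e h0 = G.e ≫ G.t ≫ G.e := by
    have h2 := comp_e G G.e
    have h3 : G.e ≫ G.s ≫ G.e = G.e := by rw [reassoc_of% G.e_s]
    have h4 : G.e ≫ G.t ≫ G.e = G.e := by rw [reassoc_of% G.e_t]
    rw [h4]
    exact (comp_congr G rfl h3.symm _ _).trans h2
  exact (eq_inv_of_comp_eq G G.e G.e h0 h1).symm

theorem comp_e_e : comp G G.e G.e (by rw [G.e_s, G.e_t]) = G.e := by
  have h2 := comp_e G G.e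
  have h3 : G.e ≫ G.s ≫ G.e = G.e := by rw [reassoc_of% G.e_s]
  exact (comp_congr G rfl h3.symm _ _).trans h2

/-- a section of a morphism induces trivial residue field extensions along its image -/
theorem bijective_residueFieldMap_of_section {X Y : Scheme.{u}} (f : X ⟶ Y) (σ : Y ⟶ X)
    (h : σ ≫ f = 𝟙 Y) (y : Y) : Function.Bijective (f.residueFieldMap (σ y)) := by
  have h1 := Scheme.residueFieldMap_comp σ f y
  have h2 := Scheme.Hom.residueFieldMap_congr h y
  have hbij : Function.Bijective (f.residueFieldMap (σ y) ≫ σ.residueFieldMap y) := by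
    rw [← h1, h2]
    haveI i1 : IsIso (Scheme.Hom.residueFieldMap (𝟙 Y) y) := inferInstance
    have hb1 : Function.Bijective (Scheme.Hom.residueFieldMap (𝟙 Y) y) :=
      ConcreteCategory.bijective_of_isIso _
    have hb2 : ∀ (a b : Y) (e : a = b), Function.Bijective (Y.residueFieldCongr e).hom :=
      fun a b e => ConcreteCategory.bijective_of_isIso _
    exact hb1.comp (hb2 _ _ _)
  have hB : Function.Injective (σ.residueFieldMap y) := (σ.residueFieldMap y).hom.injective
  have hBs : Function.Surjective (σ.residueFieldMap y) := by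
    intro b
    obtain ⟨a, ha⟩ := hbij.2 b
    exact ⟨f.residueFieldMap (σ y) a, ha⟩
  constructor
  · exact (f.residueFieldMap (σ y)).hom.injective
  · intro b
    obtain ⟨a, ha⟩ := hbij.2 (σ.residueFieldMap y b)
    exact ⟨a, hB ha⟩

theorem c_e_e (u : G.U) (z : ↑(pullback G.s G.t)) (h1 : pullback.fst G.s G.t z = G.e u)
    (h2 : pullback.snd G.s G.t z = G.e u) : G.c z = G.e u := by
  have hcond : G.e ≫ G.s = G.e ≫ G.t := by rw [G.e_s, G.e_t]
  have hz : z = (pullback.lift G.e G.e hcond) u := by
    apply Groth.Agent.Lib.Helper20.HP.eq_of_fst_eq_of_snd_eq G.s G.t (G.e u)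
      (bijective_residueFieldMap_of_section G.t G.e G.e_t u) z _ h2
    · change (pullback.lift G.e G.e hcond ≫ pullback.snd G.s G.t) u = _
      rw [pullback.lift_snd]
    · rw [h1]
      change _ = (pullback.lift G.e G.e hcond ≫ pullback.fst G.s G.t) u
      rw [pullback.lift_fst]
  rw [hz]
  change (pullback.lift G.e G.e hcond ≫ G.c) u = _
  have := comp_e_e G
  unfold comp at this
  rw [this]

end Groth.Agent.Lib.Helper20.HR
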