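import Mathlib
import Groth.Agent.Lib.Helper20.HM5
import Groth.Agent.Lib.Helper20.HM9

/-!
# HM10: the local slice `U'₀ = V(fs) ⊂ U₀` and an open of `T = U'₀ ×_U R` on which `h` is flat and
quasi-finite
-/

set_option autoImplicit false
set_option linter.style.haveILetI false
set_option linter.unusedSectionVars false
universe u
open CategoryTheory CategoryTheory.Limits AlgebraicGeometry

namespace Groth.Agent.Lib.Helper20.HM

open Grpd

/-- `B/IB` is the pushout of `A/I` and `B` over `A`. -/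
theorem isPushout_quotient {A B : CommRingCat.{u}} (τ : A ⟶ B) (I : Ideal A)
    (hI : ∀ a ∈ I, (Ideal.Quotient.mk (I.map τ.hom)).comp τ.hom a = 0) :
    IsPushout (CommRingCat.ofHom (Ideal.Quotient.mk I)) τ
      (CommRingCat.ofHom (Ideal.Quotient.lift I ((Ideal.Quotient.mk (I.map τ.hom)).comp τ.hom) hI))
      (CommRingCat.ofHom (Ideal.Quotient.mk (I.map τ.hom))) := by
  have w : CommRingCat.ofHom (Ideal.Quotient.mk I) ≫
      CommRingCat.ofHom (Ideal.Quotient.lift I ((Ideal.Quotient.mk (I.map τ.hom)).comp τ.hom) hI) =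
      τ ≫ CommRingCat.ofHom (Ideal.Quotient.mk (I.map τ.hom)) := by
    ext a
    rfl
  refine ⟨⟨w⟩, ⟨PushoutCocone.isColimitAux' _ (fun s => ?_)⟩⟩
  have hc : ∀ a : A, s.inr.hom (τ.hom a) = s.inl.hom (Ideal.Quotient.mk I a) := by
    intro a
    have := congrArg (fun φ => φ.hom a) s.condition
    exact this.symm
  have hkill : ∀ b ∈ I.map τ.hom, s.inr.hom b = 0 := by
    intro b hb
    have hle : I.map τ.hom ≤ RingHom.ker s.inr.hom := by
      rw [Ideal.map_le_iff_le_comap]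
      intro a ha
      rw [Ideal.mem_comap, RingHom.mem_ker, hc, Ideal.Quotient.eq_zero_iff_mem.mpr ha, map_zero]
    exact hle hb
  refine ⟨CommRingCat.ofHom (Ideal.Quotient.lift (I.map τ.hom) s.inr.hom hkill), ?_, ?_, ?_⟩
  · apply CommRingCat.hom_ext
    apply Ideal.Quotient.ringHom_ext
    ext a
    change Ideal.Quotient.lift (I.map τ.hom) s.inr.hom hkill
      (Ideal.Quotient.mk (I.map τ.hom) (τ.hom a)) = s.inl.hom (Ideal.Quotient.mk I a)
    rw [Ideal.Quotient.lift_mk, hc]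
  · ext b
    rfl
  · intro m _ hm2
    apply CommRingCat.hom_ext
    apply Ideal.Quotient.ringHom_ext
    ext b
    have := congrArg (fun φ => φ.hom b) hm2
    exact this

variable {S : Scheme.{u}} (G : GroupoidScheme S)

set_option maxHeartbeats 1600000 in
theorem exists_slice_data [LocallyOfFinitePresentation G.s]
    (hs : ∀ r : G.R, Grpd.IsCMAt G.s r) [LocallyQuasiFinite G.stabilizerToU] (u : G.U)
    (hu : LocallyOfFiniteType (G.U.fromSpecResidueField u)) :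
    ∃ (U'₀ : Scheme.{u}) (g₀ : U'₀ ⟶ G.U) (u' : U'₀) (W : (T G g₀).Opens),
      IsImmersion g₀ ∧ LocallyOfFinitePresentation g₀ ∧ g₀ u' = u ∧ Flat (W.ι ≫ hT G g₀) ∧
        LocallyQuasiFinite (W.ι ≫ hT G g₀) ∧ ε G g₀ u' ∈ W := by
  classical
  obtain ⟨U₀, R₀, hU₀, hR₀, hu₀, hcl, hs₀, ht₀, he₀⟩ := exists_chart G u hu
  obtain ⟨fs, g, hfs, heuD, hflat, hqf⟩ := exists_ring_slice G hs hU₀ hR₀ u hu₀ hcl hs₀ ht₀ he₀
  have hD : IsAffineOpen (G.R.basicOpen g) := hR₀.basicOpen g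
  have hsD : G.R.basicOpen g ≤ G.s ⁻¹ᵁ U₀ := (G.R.basicOpen_le g).trans hs₀
  have htD : G.R.basicOpen g ≤ G.t ⁻¹ᵁ U₀ := (G.R.basicOpen_le g).trans ht₀
  obtain ⟨σg, hσg⟩ : ∃ σg : Γ(G.U, U₀) ⟶ Γ(G.R, G.R.basicOpen g),
    σg = G.s.appLE U₀ (G.R.basicOpen g) hsD := ⟨_, rfl⟩
  obtain ⟨τg, hτg⟩ : ∃ τg : Γ(G.U, U₀) ⟶ Γ(G.R, G.R.basicOpen g),
    τg = G.t.appLE U₀ (G.R.basicOpen g) htD := ⟨_, rfl⟩
  rw [← hσg, ← hτg] at hflat hqf
  obtain ⟨I, hIdef⟩ : ∃ I : Ideal Γ(G.U, U₀), I = Ideal.ofList fs := ⟨_, rfl⟩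
  have hJ : Ideal.ofList (fs.map τg.hom) = I.map τg.hom := by rw [hIdef, Ideal.map_ofList]
  rw [hJ] at hflat hqf
  have hI𝔭 : I ≤ (hU₀.primeIdealOf ⟨u, hu₀⟩).asIdeal := by
    rw [hIdef, Ideal.ofList, Ideal.span_le]
    exact fun a ha => hfs a ha
  have hIkill : ∀ a ∈ I, (Ideal.Quotient.mk (I.map τg.hom)).comp τg.hom a = 0 := by
    intro a ha
    rw [RingHom.comp_apply, Ideal.Quotient.eq_zero_iff_mem]
    exact Ideal.mem_map_of_mem _ ha
  have hpo := isPushout_quotient τg I hIkill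
  have hpb := isPullback_SpecMap_of_isPushout _ _ _ _ hpo
  obtain ⟨mkI, hmkI⟩ : ∃ mkI : Γ(G.U, U₀) ⟶ CommRingCat.of (Γ(G.U, U₀) ⧸ I),
    mkI = CommRingCat.ofHom (Ideal.Quotient.mk I) := ⟨_, rfl⟩
  obtain ⟨mkJ, hmkJ⟩ : ∃ mkJ : Γ(G.R, G.R.basicOpen g) ⟶
      CommRingCat.of (Γ(G.R, G.R.basicOpen g) ⧸ I.map τg.hom),
    mkJ = CommRingCat.ofHom (Ideal.Quotient.mk (I.map τg.hom)) := ⟨_, rfl⟩
  obtain ⟨φ₁, hφ₁⟩ : ∃ φ₁ : CommRingCat.of (Γ(G.U, U₀) ⧸ I) ⟶
      CommRingCat.of (Γ(G.R, G.R.basicOpen g) ⧸ I.map τg.hom),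
    φ₁ = CommRingCat.ofHom (Ideal.Quotient.lift I
      ((Ideal.Quotient.mk (I.map τg.hom)).comp τg.hom) hIkill) := ⟨_, rfl⟩
  rw [← hmkI, ← hmkJ, ← hφ₁] at hpb
  -- the slice
  let g₀ : Spec (CommRingCat.of (Γ(G.U, U₀) ⧸ I)) ⟶ G.U := Spec.map mkI ≫ hU₀.fromSpec
  haveI : IsClosedImmersion (Spec.map mkI) := by
    rw [hmkI]
    exact IsClosedImmersion.spec_of_surjective _ Ideal.Quotient.mk_surjective
  haveI : LocallyOfFinitePresentation (Spec.map mkI) := by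
    rw [LocallyOfFinitePresentation.SpecMap_iff, hmkI]
    refine RingHom.FinitePresentation.of_surjective _ Ideal.Quotient.mk_surjective ?_
    change (RingHom.ker (Ideal.Quotient.mk I)).FG
    rw [Ideal.mk_ker, hIdef]
    exact Groth.Agent.Lib.Helper23.SliceCM.fg_ofList fs
  have hg₀imm : IsImmersion g₀ := inferInstance
  have hg₀fp : LocallyOfFinitePresentation g₀ := inferInstance
  -- the point
  have hkerle : RingHom.ker (Ideal.Quotient.mk I) ≤ (hU₀.primeIdealOf ⟨u, hu₀⟩).asIdeal := by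
    rw [Ideal.mk_ker]; exact hI𝔭
  let u' : Spec (CommRingCat.of (Γ(G.U, U₀) ⧸ I)) :=
    ⟨(hU₀.primeIdealOf ⟨u, hu₀⟩).asIdeal.map (Ideal.Quotient.mk I),
      Ideal.map_isPrime_of_surjective Ideal.Quotient.mk_surjective hkerle⟩
  have hu'1 : Spec.map mkI u' = hU₀.primeIdealOf ⟨u, hu₀⟩ := by
    apply PrimeSpectrum.ext
    rw [hmkI]
    change ((hU₀.primeIdealOf ⟨u, hu₀⟩).asIdeal.map (Ideal.Quotient.mk I)).comap
      (Ideal.Quotient.mk I) = _
    rw [Ideal.comap_map_of_surjective _ Ideal.Quotient.mk_surjective, ← RingHom.ker_eq_comap_bot]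
    exact sup_eq_left.mpr hkerle
  have hg₀u' : g₀ u' = u := by
    change (Spec.map mkI ≫ hU₀.fromSpec) u' = u
    rw [Scheme.Hom.comp_apply, hu'1]
    exact hU₀.fromSpec_primeIdealOf ⟨u, hu₀⟩
  -- the open immersion into `T`
  have e₁ : Spec.map mkI ≫ hU₀.fromSpec = 𝟙 _ ≫ g₀ := (Category.id_comp _).symm
  have e₂ : Spec.map τg ≫ hU₀.fromSpec = hD.fromSpec ≫ G.t := by
    rw [hτg]
    exact IsAffineOpen.SpecMap_appLE_fromSpec G.t hU₀ hD htD
  let k : pullback (Spec.map mkI) (Spec.map τg) ⟶ T G g₀ :=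
    pullback.map (Spec.map mkI) (Spec.map τg) g₀ G.t (𝟙 _) hD.fromSpec hU₀.fromSpec e₁ e₂
  let w : Spec (CommRingCat.of (Γ(G.R, G.R.basicOpen g) ⧸ I.map τg.hom)) ⟶ T G g₀ :=
    hpb.isoPullback.hom ≫ k
  haveI : IsOpenImmersion k := inferInstance
  haveI : IsOpenImmersion w := inferInstance
  have hwρ : w ≫ pullback.snd g₀ G.t = Spec.map mkJ ≫ hD.fromSpec := by
    change (hpb.isoPullback.hom ≫ k) ≫ pullback.snd g₀ G.t = _
    rw [Category.assoc, pullback.lift_snd, ← Category.assoc, IsPullback.isoPullback_hom_snd]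
  have hwh : w ≫ hT G g₀ = Spec.map (σg ≫ mkJ) ≫ hU₀.fromSpec := by
    rw [← Category.assoc, hwρ, Category.assoc, Spec.map_comp, Category.assoc, hσg,
      IsAffineOpen.SpecMap_appLE_fromSpec G.s hU₀ hD hsD]
  have hflatw : Flat (w ≫ hT G g₀) := by
    rw [hwh]
    haveI : Flat (Spec.map (σg ≫ mkJ)) := by
      rw [Flat.SpecMap_iff, hmkJ]
      exact hflat
    infer_instance
  have hqfw : LocallyQuasiFinite (w ≫ hT G g₀) := by
    rw [hwh]
    haveI : LocallyQuasiFinite (Spec.map (σg ≫ mkJ)) := by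
      rw [HasRingHomProperty.Spec_iff (P := @LocallyQuasiFinite), hmkJ]
      exact hqf
    infer_instance
  refine ⟨_, g₀, u', w.opensRange, hg₀imm, hg₀fp, hg₀u', ?_, ?_, ?_⟩
  · rw [← Scheme.Hom.isoOpensRange_inv_comp w, Category.assoc]
    infer_instance
  · rw [← Scheme.Hom.isoOpensRange_inv_comp w, Category.assoc]
    infer_instance
  · -- the unit section lands in the range
    have hrange := Scheme.Pullback.range_map (Spec.map mkI) (Spec.map τg) g₀ G.t (𝟙 _)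
      hD.fromSpec hU₀.fromSpec e₁ e₂
    have hmem : ε G g₀ u' ∈ Set.range k := by
      rw [hrange]
      refine ⟨⟨_, rfl⟩, ?_⟩
      rw [Set.mem_preimage, hD.range_fromSpec, ← Scheme.Hom.comp_apply, ε_snd,
        Scheme.Hom.comp_apply, hg₀u']
      exact heuD
    obtain ⟨p₀, hp₀⟩ := hmem
    refine ⟨hpb.isoPullback.inv p₀, ?_⟩
    change (hpb.isoPullback.hom ≫ k) (hpb.isoPullback.inv p₀) = _
    rw [← Scheme.Hom.comp_apply, Iso.inv_hom_id_assoc]
    exact hp₀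

end Groth.Agent.Lib.Helper20.HM
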