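import Mathlib
import Groth.Agent.Lib.Helper20.HM5
import Groth.Agent.Lib.Helper6.EtaleSq
import Groth.Agent.Lib.Helper14.LqfDim0
import Groth.Agent.Lib.Helper21.BaseChg4
import Groth.Agent.Lib.Helper3.Flat

/-!
# HM6: homogeneity — flatness and quasi-finiteness of `h : T ⟶ U` propagate from a neighbourhood
of the unit section
-/

set_option autoImplicit false
set_option linter.style.haveILetI false
universe u
open CategoryTheory CategoryTheory.Limits AlgebraicGeometry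

namespace Groth.Agent.Lib.Helper20.HM

open Grpd Groth.Agent.Lib.Helper25.GrpdAlg

variable {S : Scheme.{u}} (G : GroupoidScheme S) {U' : Scheme.{u}} (g : U' ⟶ G.U)

theorem flat_lqf_hT_of_opens [Flat G.s] [LocallyOfFiniteType (hT G g)]
    (W : (T G g).Opens) (hfl : Flat (W.ι ≫ hT G g)) (hqf : LocallyQuasiFinite (W.ι ≫ hT G g))
    (hε : ∀ x : U', ε G g x ∈ W) : Flat (hT G g) ∧ LocallyQuasiFinite (hT G g) := by
  set q₁ := pullback.fst (hT G g) G.t with hq₁
  set q₂ := pullback.snd (hT G g) G.t with hq₂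
  let QW : (Q G g).Opens := q₁ ⁻¹ᵁ W
  have hpb : IsPullback (q₁ ∣_ W) (QW.ι ≫ q₂) (W.ι ≫ hT G g) G.t :=
    (isPullback_morphismRestrict q₁ W).paste_vert (IsPullback.of_hasPullback (hT G g) G.t)
  haveI hfl2 : Flat (QW.ι ≫ q₂) := MorphismProperty.of_isPullback hpb hfl
  haveI hqf2 : LocallyQuasiFinite (QW.ι ≫ q₂) := MorphismProperty.of_isPullback hpb hqf
  haveI hft2 : LocallyOfFiniteType (QW.ι ≫ q₂) :=
    MorphismProperty.of_isPullback hpb (inferInstance : LocallyOfFiniteType (W.ι ≫ hT G g))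
  haveI hm : Flat (m G g) :=
    MorphismProperty.of_isPullback (isPullback_m G g).flip (inferInstance : Flat G.s)
  have hmem : ∀ z : T G g, γ₀ G g z ∈ QW := by
    intro z
    change q₁ (γ₀ G g z) ∈ W
    rw [← Scheme.Hom.comp_apply, γ₀_fst, Scheme.Hom.comp_apply]
    exact hε _
  have hmz : ∀ z : T G g, m G g (γ₀ G g z) = z := by
    intro z
    rw [← Scheme.Hom.comp_apply, γ₀_m]
    rfl
  haveI hsurj : Surjective (QW.ι ≫ m G g) := by
    refine ⟨fun z => ?_⟩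
    let y : ↥(QW : Scheme.{u}) := ⟨γ₀ G g z, hmem z⟩
    refine ⟨y, ?_⟩
    have h1 : (QW.ι ≫ m G g) y = m G g (QW.ι y) := Scheme.Hom.comp_apply _ _ _
    rw [h1]
    exact hmz z
  haveI : Flat ((QW.ι ≫ m G g) ≫ hT G g) := by
    have : (QW.ι ≫ m G g) ≫ hT G g = (QW.ι ≫ q₂) ≫ G.s := by
      rw [Category.assoc, m_hT, Category.assoc]
    rw [this]
    infer_instance
  have hflat : Flat (hT G g) :=
    Groth.Agent.Lib.Helper3.flat_of_flat_comp_of_surjective (QW.ι ≫ m G g) (hT G g)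
  refine ⟨hflat, ?_⟩
  rw [Groth.Agent.Lib.Helper14.AS.locallyQuasiFinite_iff_fibreDimAt_eq_zero]
  intro z
  have h1 := Groth.Agent.Lib.Helper21.BaseChg.fibreDimAt_eq_of_isPullback (isPullback_m G g)
    (γ₀ G g z)
  rw [hmz] at h1
  rw [← h1]
  have h2 := Groth.Agent.Lib.Helper6.EtaleSq.fibreDimAt_etale_square q₂ (QW.ι ≫ q₂) QW.ι (𝟙 _)
    (Category.comp_id _) ⟨γ₀ G g z, hmem z⟩
  have h3 := (Groth.Agent.Lib.Helper14.AS.locallyQuasiFinite_iff_fibreDimAt_eq_zero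
    (QW.ι ≫ q₂)).mp hqf2 ⟨γ₀ G g z, hmem z⟩
  exact h2.trans h3

end Groth.Agent.Lib.Helper20.HM
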