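import Mathlib
import Groth.Agent.Lib.Helper20.HM6
import Groth.Agent.Lib.Helper20.HM10

/-!
# HM11: shrinking the slice and the final assembly for the quasi-finite slicing theorem
-/

set_option autoImplicit false
set_option linter.style.haveILetI false
set_option linter.unusedSectionVars false
universe u
open CategoryTheory CategoryTheory.Limits AlgebraicGeometry

namespace Groth.Agent.Lib.Helper20.HM

open Grpd

variable {S : Scheme.{u}} (G : GroupoidScheme S)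

/-- shrinking the base of the slice: flatness and quasi-finiteness of `h` near the unit section of
an open part of `U'₀` give them on the whole slice over that open part. -/
theorem flat_lqf_hT_of_shrink [Flat G.s] {U'₀ : Scheme.{u}} (g₀ : U'₀ ⟶ G.U)
    (W₀ : (T G g₀).Opens) (hfl : Flat (W₀.ι ≫ hT G g₀))
    (hqf : LocallyQuasiFinite (W₀.ι ≫ hT G g₀)) (V : U'₀.Opens)
    (hV : ∀ x ∈ V, ε G g₀ x ∈ W₀) [LocallyOfFiniteType (hT G (V.ι ≫ g₀))] :
    Flat (hT G (V.ι ≫ g₀)) ∧ LocallyQuasiFinite (hT G (V.ι ≫ g₀)) := by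
  let k : T G (V.ι ≫ g₀) ⟶ T G g₀ :=
    pullback.map (V.ι ≫ g₀) G.t g₀ G.t V.ι (𝟙 _) (𝟙 _) (by rw [Category.comp_id])
      (by rw [Category.comp_id, Category.id_comp])
  haveI : IsOpenImmersion k := inferInstance
  have hk2 : k ≫ pullback.snd g₀ G.t = pullback.snd (V.ι ≫ g₀) G.t := by
    change pullback.map _ _ _ _ _ _ _ _ _ ≫ _ = _
    rw [pullback.lift_snd, Category.comp_id]
  have hk1 : k ≫ pullback.fst g₀ G.t = pullback.fst (V.ι ≫ g₀) G.t ≫ V.ι := by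
    change pullback.map _ _ _ _ _ _ _ _ _ ≫ _ = _
    rw [pullback.lift_fst]
  have hkh : k ≫ hT G g₀ = hT G (V.ι ≫ g₀) := by
    rw [← Category.assoc, hk2]
  have hεk : ε G (V.ι ≫ g₀) ≫ k = V.ι ≫ ε G g₀ := by
    apply pullback.hom_ext
    · rw [Category.assoc, hk1, ε_fst_assoc, Category.assoc, ε_fst, Category.comp_id]
    · rw [Category.assoc, hk2, ε_snd, Category.assoc, Category.assoc, ε_snd]
  let W : (T G (V.ι ≫ g₀)).Opens := k ⁻¹ᵁ W₀
  have hWι : W.ι ≫ hT G (V.ι ≫ g₀) = (k ∣_ W₀) ≫ W₀.ι ≫ hT G g₀ := by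
    have h1 : W.ι ≫ k = (k ∣_ W₀) ≫ W₀.ι := (morphismRestrict_ι k W₀).symm
    calc W.ι ≫ hT G (V.ι ≫ g₀) = W.ι ≫ k ≫ hT G g₀ := by rw [hkh]
      _ = (W.ι ≫ k) ≫ hT G g₀ := (Category.assoc _ _ _).symm
      _ = ((k ∣_ W₀) ≫ W₀.ι) ≫ hT G g₀ := by rw [h1]
      _ = _ := Category.assoc _ _ _
  have hfl' : Flat (W.ι ≫ hT G (V.ι ≫ g₀)) := by
    rw [hWι]
    infer_instance
  have hqf' : LocallyQuasiFinite (W.ι ≫ hT G (V.ι ≫ g₀)) := by
    rw [hWι]
    infer_instance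
  refine flat_lqf_hT_of_opens G (V.ι ≫ g₀) W hfl' hqf' ?_
  intro x
  change k (ε G (V.ι ≫ g₀) x) ∈ W₀
  rw [← Scheme.Hom.comp_apply, hεk, Scheme.Hom.comp_apply]
  exact hV _ x.2

/-- **The quasi-finite slicing theorem for groupoid schemes** (all conclusions). -/
theorem exists_max_slice [LocallyOfFinitePresentation G.s] [LocallyOfFinitePresentation G.t]
    (hs : ∀ r : G.R, Grpd.IsCMAt G.s r) [LocallyQuasiFinite G.stabilizerToU] (u : G.U)
    (hu : LocallyOfFiniteType (G.U.fromSpecResidueField u)) :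
    ∃ (U' : Scheme.{u}) (_ : IsAffine U') (g : U' ⟶ G.U) (u' : U'), IsImmersion g ∧
      LocallyOfFinitePresentation g ∧ g u' = u ∧
      (Flat (hT G g) ∧ LocallyOfFinitePresentation (hT G g) ∧ LocallyOfFiniteType (hT G g) ∧
        LocallyQuasiFinite (hT G g)) ∧
      (Flat (pullback.snd (hT G g) g) ∧ LocallyOfFinitePresentation (pullback.snd (hT G g) g) ∧
        LocallyQuasiFinite (pullback.snd (hT G g) g)) ∧
      (Flat (pullback.fst (hT G g) g ≫ pullback.fst g G.t) ∧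
        LocallyOfFinitePresentation (pullback.fst (hT G g) g ≫ pullback.fst g G.t) ∧
        LocallyQuasiFinite (pullback.fst (hT G g) g ≫ pullback.fst g G.t)) := by
  haveI hflat_s : Flat G.s := by
    rw [Flat.iff_flat_stalkMap]
    exact fun r => (hs r).1
  obtain ⟨U'₀, g₀, u'₀, W₀, hg₀imm, hg₀fp, hg₀u', hfl, hqf, hεW⟩ := exists_slice_data G hs u hu
  -- shrink
  let N : U'₀.Opens := ε G g₀ ⁻¹ᵁ W₀
  have hu'N : u'₀ ∈ N := hεW
  obtain ⟨V, hVaff, hu'V, hVN⟩ : ∃ V : U'₀.Opens, IsAffineOpen V ∧ u'₀ ∈ V ∧ V ≤ N := by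
    obtain ⟨_, ⟨V, hVaff : IsAffineOpen V, rfl⟩, hu'V, hVN⟩ :=
      U'₀.isBasis_affineOpens.exists_subset_of_mem_open hu'N N.isOpen
    exact ⟨V, hVaff, hu'V, hVN⟩
  haveI := hg₀imm
  haveI := hg₀fp
  haveI hgfp : LocallyOfFinitePresentation (V.ι ≫ g₀) := inferInstance
  haveI hhfp : LocallyOfFinitePresentation (hT G (V.ι ≫ g₀)) := inferInstance
  haveI hhft : LocallyOfFiniteType (hT G (V.ι ≫ g₀)) := inferInstance
  obtain ⟨hflh, hqfh⟩ := flat_lqf_hT_of_shrink G g₀ W₀ hfl hqf V (fun x hx => hVN hx)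
  haveI := hflh
  haveI := hqfh
  have ht' : pullback.fst (hT G (V.ι ≫ g₀)) (V.ι ≫ g₀) ≫ pullback.fst (V.ι ≫ g₀) G.t =
      ι' G (V.ι ≫ g₀) ≫ pullback.snd (hT G (V.ι ≫ g₀)) (V.ι ≫ g₀) := (ι'_snd G (V.ι ≫ g₀)).symm
  let v' : ↥(V : Scheme.{u}) := ⟨u'₀, hu'V⟩
  refine ⟨V, hVaff, V.ι ≫ g₀, v', inferInstance, hgfp, ?_,
    ⟨hflh, hhfp, hhft, hqfh⟩, ⟨inferInstance, inferInstance, inferInstance⟩, ?_⟩
  · have h1 : (V.ι ≫ g₀) v' = g₀ (V.ι v') := Scheme.Hom.comp_apply _ _ _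
    rw [h1]
    exact hg₀u'
  · rw [ht']
    exact ⟨inferInstance, inferInstance, inferInstance⟩

end Groth.Agent.Lib.Helper20.HM
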