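import Groth.Agent.Lib.Helper20.HoldsNear
import Groth.Agent.Lib.Helper20.UnramifiedLocusBaseChange
import Mathlib.AlgebraicGeometry.Morphisms.FormallyUnramified
import Mathlib.AlgebraicGeometry.Morphisms.FiniteType

set_option autoImplicit false
universe u
open CategoryTheory CategoryTheory.Limits AlgebraicGeometry

namespace Groth.Agent.Lib.Helper20

lemma openStable_formallyUnramified : OpenStable @FormallyUnramified.{u} where
  precomp a b ha hb := by
    have : FormallyUnramified a := inferInstance
    exact MorphismProperty.comp_mem _ _ _ this hb
  postcomp a b hb ha := by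
    have : FormallyUnramified b := inferInstance
    exact MorphismProperty.comp_mem _ _ _ ha this
  of_postcomp a b _ h := by
    have : FormallyUnramified (a ≫ b) := h
    exact FormallyUnramified.of_comp a b

lemma chartStable_locallyOfFiniteType : ChartStable @LocallyOfFiniteType.{u} where
  precomp a b ha hb := by
    have : LocallyOfFiniteType a := inferInstance
    exact MorphismProperty.comp_mem _ _ _ this hb
  baseChange f g hf := by
    have : LocallyOfFiniteType f := hf
    exact (inferInstance : LocallyOfFiniteType (pullback.snd f g))

set_option backward.isDefEq.respectTransparency false in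
lemma holdsNear_formallyUnramified_Spec_iff {R A : Type u} [CommRing R] [CommRing A]
    [Algebra R A] [Algebra.FiniteType R A] (q : PrimeSpectrum A) :
    HoldsNear @FormallyUnramified (Spec.map (CommRingCat.ofHom (algebraMap R A))) q ↔
      q ∈ Algebra.unramifiedLocus R A := by
  constructor
  · rintro ⟨W, w, hw, ⟨y, rfl⟩, hq⟩
    have hq' : FormallyUnramified (w ≫ Spec.map (CommRingCat.ofHom (algebraMap R A))) := hq
    have h1 := FormallyUnramified.stalkMap (w ≫ Spec.map (CommRingCat.ofHom (algebraMap R A))) y
    simp only [Scheme.Hom.stalkMap_comp, CommRingCat.hom_comp,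
      RingHom.FormallyUnramified.respectsIso.cancel_right_isIso] at h1
    rw [RingHom.FormallyUnramified.respectsIso.arrow_mk_iso_iff
      (Scheme.arrowStalkMapSpecIso _ _)] at h1
    set q := w y with hqdef
    change (Localization.localRingHom (q.comap (algebraMap R A)).asIdeal q.asIdeal
      (algebraMap R A) rfl).FormallyUnramified at h1
    algebraize [Localization.localRingHom (q.comap (algebraMap R A)).asIdeal q.asIdeal
      (algebraMap R A) rfl]
    have : IsScalarTower R (Localization.AtPrime (q.comap (algebraMap R A)).asIdeal)
        (Localization.AtPrime q.asIdeal) := .of_algebraMap_eq fun x => by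
      rw [RingHom.algebraMap_toAlgebra, Localization.localRingHom_to_map,
        ← IsScalarTower.algebraMap_apply]
    have : Algebra.FormallyUnramified R
        (Localization.AtPrime (q.comap (algebraMap R A)).asIdeal) :=
      .of_isLocalization (q.comap (algebraMap R A)).asIdeal.primeCompl
    exact Algebra.FormallyUnramified.comp R
      (Localization.AtPrime (q.comap (algebraMap R A)).asIdeal) _
  · intro hq
    have : Algebra.IsUnramifiedAt R q.asIdeal := hq
    obtain ⟨a, ha, hu⟩ := Algebra.exists_formallyUnramified_of_isUnramifiedAt (R := R) q.asIdeal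
    refine ⟨Spec (CommRingCat.of (Localization.Away a)),
      Spec.map (CommRingCat.ofHom (algebraMap A (Localization.Away a))),
      IsOpenImmersion.of_isLocalization a, ?_, ?_⟩
    · change q ∈ Set.range (PrimeSpectrum.comap (algebraMap A (Localization.Away a)))
      rw [PrimeSpectrum.localization_away_comap_range (Localization.Away a) a]
      exact ha
    · rw [← Spec.map_comp, ← CommRingCat.ofHom_comp, ← IsScalarTower.algebraMap_eq]
      rw [HasRingHomProperty.Spec_iff (P := @FormallyUnramified)]
      exact RingHom.formallyUnramified_algebraMap.mpr hu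

open TensorProduct in
attribute [local instance] Algebra.TensorProduct.rightAlgebra in
set_option backward.isDefEq.respectTransparency false in
lemma holdsNear_formallyUnramified_pullback_Spec_iff (R A R' : Type u) [CommRing R] [CommRing A]
    [CommRing R'] [Algebra R A] [Algebra R R'] [Algebra.FiniteType R A]
    (x₀ : ↑(pullback (Spec.map (CommRingCat.ofHom (algebraMap R A)))
      (Spec.map (CommRingCat.ofHom (algebraMap R R'))))) :
    HoldsNear @FormallyUnramified (pullback.snd (Spec.map (CommRingCat.ofHom (algebraMap R A)))
      (Spec.map (CommRingCat.ofHom (algebraMap R R')))) x₀ ↔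
    HoldsNear @FormallyUnramified (Spec.map (CommRingCat.ofHom (algebraMap R A)))
      (pullback.fst (Spec.map (CommRingCat.ofHom (algebraMap R A)))
      (Spec.map (CommRingCat.ofHom (algebraMap R R'))) x₀) := by
  have : Algebra.FiniteType R' (A ⊗[R] R') :=
    Algebra.FiniteType.equiv inferInstance (Algebra.TensorProduct.commRight R R' A)
  let e := pullbackSpecIso R A R'
  have h1 := holdsNear_square openStable_formallyUnramified
    (pullback.snd (Spec.map (CommRingCat.ofHom (algebraMap R A)))
      (Spec.map (CommRingCat.ofHom (algebraMap R R'))))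
    (Spec.map (CommRingCat.ofHom (algebraMap R' (A ⊗[R] R')))) e.hom (𝟙 _)
    (by rw [Category.comp_id]; exact (pullbackSpecIso_hom_snd R A R').symm) x₀
  rw [h1, holdsNear_formallyUnramified_Spec_iff,
    holdsNear_formallyUnramified_Spec_iff, mem_unramifiedLocus_baseChange (R := R) (A := A)]
  have h2 : PrimeSpectrum.comap (algebraMap A (A ⊗[R] R')) (e.hom x₀) =
      pullback.fst (Spec.map (CommRingCat.ofHom (algebraMap R A)))
      (Spec.map (CommRingCat.ofHom (algebraMap R R'))) x₀ := by
    rw [← pullbackSpecIso_hom_fst' R A R', Scheme.Hom.comp_apply]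
    rfl
  rw [h2]

theorem holdsNear_formallyUnramified_pullback_iff {X S S' : Scheme.{u}} (f : X ⟶ S)
    [LocallyOfFiniteType f] (g : S' ⟶ S) (x' : ↑(pullback f g)) :
    HoldsNear @FormallyUnramified (pullback.snd f g) x' ↔
      HoldsNear @FormallyUnramified f (pullback.fst f g x') := by
  refine holdsNear_pullback_iff_of_affine openStable_formallyUnramified
    chartStable_locallyOfFiniteType ?_ f g ‹_› x'
  intro R A R' φ ψ hφ x₀
  algebraize [φ.hom, ψ.hom]
  have hft : Algebra.FiniteType R A :=
    (HasRingHomProperty.Spec_iff (P := @LocallyOfFiniteType)).mp hφ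
  exact holdsNear_formallyUnramified_pullback_Spec_iff R A R' x₀

end Groth.Agent.Lib.Helper20
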