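import Mathlib.AlgebraicGeometry.PullbackCarrier
import Mathlib.AlgebraicGeometry.Pullbacks
import Mathlib.AlgebraicGeometry.Cover.Open

set_option autoImplicit false
universe u
open CategoryTheory CategoryTheory.Limits AlgebraicGeometry

namespace Groth.Agent.Lib.Helper20

/-- `Q` holds for `f` on some open neighbourhood of `x` (formulated with arbitrary open
immersions, which is more flexible than open subschemes). -/
def HoldsNear (Q : MorphismProperty Scheme.{u}) {X S : Scheme.{u}} (f : X ⟶ S) (x : X) : Prop :=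
  ∃ (W : Scheme.{u}) (w : W ⟶ X), IsOpenImmersion w ∧ x ∈ Set.range w ∧ Q (w ≫ f)

lemma holdsNear_iff_opens (Q : MorphismProperty Scheme.{u}) [Q.RespectsIso]
    {X S : Scheme.{u}} (f : X ⟶ S) (x : X) :
    HoldsNear Q f x ↔ ∃ U : X.Opens, x ∈ U ∧ Q (U.ι ≫ f) := by
  constructor
  · rintro ⟨W, w, hw, hx, hq⟩
    refine ⟨w.opensRange, hx, ?_⟩
    rw [← Scheme.Hom.isoOpensRange_inv_comp w, Category.assoc]
    exact (Q.cancel_left_of_respectsIso _ _).mpr hq
  · rintro ⟨U, hx, hq⟩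
    refine ⟨U, U.ι, inferInstance, ?_, hq⟩
    rw [Scheme.Opens.range_ι]
    exact hx

/-- Stability properties of a morphism property w.r.t. open immersions. -/
structure OpenStable (Q : MorphismProperty Scheme.{u}) : Prop where
  precomp : ∀ {A B C : Scheme.{u}} (a : A ⟶ B) (b : B ⟶ C), IsOpenImmersion a → Q b → Q (a ≫ b)
  postcomp : ∀ {A B C : Scheme.{u}} (a : A ⟶ B) (b : B ⟶ C), IsOpenImmersion b → Q a → Q (a ≫ b)
  of_postcomp : ∀ {A B C : Scheme.{u}} (a : A ⟶ B) (b : B ⟶ C),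
    IsOpenImmersion b → Q (a ≫ b) → Q a

lemma holdsNear_square {Q : MorphismProperty Scheme.{u}} (hQ : OpenStable Q)
    {X₀ X S₀ S : Scheme.{u}} (f₀ : X₀ ⟶ S₀) (f : X ⟶ S) (j : X₀ ⟶ X) (i : S₀ ⟶ S)
    [IsOpenImmersion j] [IsOpenImmersion i] (comm : f₀ ≫ i = j ≫ f) (x₀ : X₀) :
    HoldsNear Q f₀ x₀ ↔ HoldsNear Q f (j x₀) := by
  constructor
  · rintro ⟨W, w, hw, ⟨y, hy⟩, hq⟩
    refine ⟨W, w ≫ j, inferInstance, ⟨y, by simp [hy]⟩, ?_⟩
    rw [Category.assoc, ← comm, ← Category.assoc]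
    exact hQ.postcomp _ _ inferInstance hq
  · rintro ⟨W, w, hw, hx, hq⟩
    refine ⟨pullback w j, pullback.snd w j, inferInstance, ?_, ?_⟩
    · rw [Scheme.Pullback.range_snd]
      exact hx
    · apply hQ.of_postcomp _ i inferInstance
      rw [Category.assoc, comm, ← Category.assoc, ← pullback.condition, Category.assoc]
      exact hQ.precomp _ _ inferInstance hq

/-- Stability properties needed of the hypothesis class on `f`. -/
structure ChartStable (T : MorphismProperty Scheme.{u}) : Prop where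
  precomp : ∀ {A B C : Scheme.{u}} (a : A ⟶ B) (b : B ⟶ C), IsOpenImmersion a → T b → T (a ≫ b)
  baseChange : ∀ {X S S' : Scheme.{u}} (f : X ⟶ S) (g : S' ⟶ S), T f → T (pullback.snd f g)

/-- Every point `x` of `X` with `f x` in the image of an open immersion `i : S₀ ⟶ S` has an affine
chart `Spec A ⟶ X` around it lying over `i`. -/
lemma exists_affine_chart {T : MorphismProperty Scheme.{u}} (hT : ChartStable T)
    {X S₀ S : Scheme.{u}} (f : X ⟶ S) (i : S₀ ⟶ S) [IsOpenImmersion i] (hf : T f) (x : X)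
    (hx : f x ∈ Set.range i) :
    ∃ (A : CommRingCat.{u}) (j : Spec A ⟶ X) (f₀ : Spec A ⟶ S₀),
      IsOpenImmersion j ∧ f₀ ≫ i = j ≫ f ∧ x ∈ Set.range j ∧ T f₀ := by
  have hx₁ : x ∈ Set.range (pullback.fst f i) := by
    rw [Scheme.Pullback.range_fst]
    exact hx
  obtain ⟨x₁, rfl⟩ := hx₁
  obtain ⟨k, x₂, rfl⟩ := (pullback f i).affineCover.exists_eq x₁
  let 𝒱 := (pullback f i).affineCover
  let e := (𝒱.X k).isoSpec
  refine ⟨_, e.inv ≫ 𝒱.f k ≫ pullback.fst f i, e.inv ≫ 𝒱.f k ≫ pullback.snd f i,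
    inferInstance, ?_, ?_, ?_⟩
  · simp only [Category.assoc, pullback.condition]
  · refine ⟨e.hom x₂, ?_⟩
    simp only [Scheme.Hom.comp_apply]
    rw [← Scheme.Hom.comp_apply e.hom e.inv]
    simp
    rfl
  · rw [← Category.assoc]
    exact hT.precomp _ _ inferInstance (hT.baseChange f i hf)

theorem holdsNear_pullback_iff_of_affine {Q T : MorphismProperty Scheme.{u}}
    (hQ : OpenStable Q) (hT : ChartStable T)
    (H : ∀ (R A R' : CommRingCat.{u}) (φ : R ⟶ A) (ψ : R ⟶ R'), T (Spec.map φ) →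
      ∀ x₀ : ↑(pullback (Spec.map φ) (Spec.map ψ)),
        HoldsNear Q (pullback.snd (Spec.map φ) (Spec.map ψ)) x₀ ↔
          HoldsNear Q (Spec.map φ) (pullback.fst (Spec.map φ) (Spec.map ψ) x₀))
    {X S S' : Scheme.{u}} (f : X ⟶ S) (g : S' ⟶ S) (hf : T f) (x' : ↑(pullback f g)) :
    HoldsNear Q (pullback.snd f g) x' ↔ HoldsNear Q f (pullback.fst f g x') := by
  have hcond : f (pullback.fst f g x') = g (pullback.snd f g x') := by
    rw [← Scheme.Hom.comp_apply, ← Scheme.Hom.comp_apply, pullback.condition]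
  obtain ⟨i, s₀, hs₀⟩ := S.affineCover.exists_eq (f (pullback.fst f g x'))
  let e := (S.affineCover.X i).isoSpec
  let i₃ : Spec Γ(S.affineCover.X i, ⊤) ⟶ S := e.inv ≫ S.affineCover.f i
  have hs₀' : f (pullback.fst f g x') ∈ Set.range i₃ := by
    refine ⟨e.hom s₀, ?_⟩
    simp only [i₃, Scheme.Hom.comp_apply]
    rw [← Scheme.Hom.comp_apply e.hom e.inv]
    simpa using hs₀
  obtain ⟨A, j₁, f₀, hj₁, e₁, hxj₁, hTf₀⟩ := exists_affine_chart hT f i₃ hf _ hs₀'
  have hT' : ChartStable (⊤ : MorphismProperty Scheme.{u}) := ⟨fun _ _ _ _ => trivial,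
    fun _ _ _ => trivial⟩
  obtain ⟨R', j₂, g₀, hj₂, e₂, hxj₂, -⟩ := exists_affine_chart hT' g i₃ trivial
    (pullback.snd f g x') (hcond ▸ hs₀')
  obtain ⟨φ, rfl⟩ := Spec.map_surjective f₀
  obtain ⟨ψ, rfl⟩ := Spec.map_surjective g₀
  let m := pullback.map (Spec.map φ) (Spec.map ψ) f g j₁ j₂ i₃ e₁ e₂
  have hm : x' ∈ Set.range m := by
    rw [Scheme.Pullback.range_map]
    exact ⟨hxj₁, hxj₂⟩
  obtain ⟨x₀, rfl⟩ := hm
  have h1 : pullback.snd (Spec.map φ) (Spec.map ψ) ≫ j₂ = m ≫ pullback.snd f g :=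
    (pullback.lift_snd _ _ _).symm
  have h2' : m ≫ pullback.fst f g = pullback.fst (Spec.map φ) (Spec.map ψ) ≫ j₁ :=
    pullback.lift_fst _ _ _
  have h2 : pullback.fst f g (m x₀) = j₁ (pullback.fst (Spec.map φ) (Spec.map ψ) x₀) := by
    rw [← Scheme.Hom.comp_apply, ← Scheme.Hom.comp_apply, h2']
  rw [← holdsNear_square hQ (pullback.snd (Spec.map φ) (Spec.map ψ)) (pullback.snd f g) m j₂ h1 x₀,
    h2, ← holdsNear_square hQ (Spec.map φ) f j₁ i₃ e₁]
  exact H _ _ _ φ ψ hTf₀ x₀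

end Groth.Agent.Lib.Helper20
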