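import Groth.Agent.Lib.Helper20.UnramifiedField
import Mathlib.AlgebraicGeometry.Artinian

set_option autoImplicit false
universe u
open CategoryTheory CategoryTheory.Limits AlgebraicGeometry

namespace Groth.Agent.Lib.Helper20

/-- The ring map `k → Γ(X, U)` induced by `f : X ⟶ Spec k` on an affine open `U`. -/
noncomputable def sectionMap (k : Type u) [Field k] {X : Scheme.{u}} (f : X ⟶ Spec (CommRingCat.of k))
    {U : X.Opens} (hU : IsAffineOpen U) : CommRingCat.of k ⟶ Γ(X, U) :=
  Spec.preimage (hU.fromSpec ≫ f)

lemma Spec_map_sectionMap (k : Type u) [Field k] {X : Scheme.{u}}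
    (f : X ⟶ Spec (CommRingCat.of k)) {U : X.Opens} (hU : IsAffineOpen U) :
    Spec.map (sectionMap k f hU) = hU.fromSpec ≫ f :=
  Spec.map_preimage _

set_option backward.isDefEq.respectTransparency false in
lemma sectionMap_props (k : Type u) [Field k] {X : Scheme.{u}}
    (f : X ⟶ Spec (CommRingCat.of k)) [FormallyUnramified f] [LocallyOfFiniteType f]
    {U : X.Opens} (hU : IsAffineOpen U) :
    (sectionMap k f hU).hom.FormallyUnramified ∧ (sectionMap k f hU).hom.FiniteType := by
  constructor
  · rw [← HasRingHomProperty.Spec_iff (P := @FormallyUnramified), Spec_map_sectionMap]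
    exact openStable_formallyUnramified.precomp _ _ inferInstance ‹_›
  · rw [← HasRingHomProperty.Spec_iff (P := @LocallyOfFiniteType), Spec_map_sectionMap]
    infer_instance

lemma finite_of_sectionMap (k : Type u) [Field k] {X : Scheme.{u}}
    (f : X ⟶ Spec (CommRingCat.of k)) [FormallyUnramified f] [LocallyOfFiniteType f]
    {U : X.Opens} (hU : IsAffineOpen U) :
    letI := (sectionMap k f hU).hom.toAlgebra
    Module.Finite k Γ(X, U) ∧ Algebra.FormallyUnramified k Γ(X, U) := by
  obtain ⟨h1, h2⟩ := sectionMap_props k f hU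
  algebraize [(sectionMap k f hU).hom]
  have : Algebra.EssFiniteType k Γ(X, U) := inferInstance
  exact ⟨Algebra.FormallyUnramified.finite_of_free k Γ(X, U), inferInstance⟩

lemma isLocallyArtinian_of_unramified (k : Type u) [Field k] {X : Scheme.{u}}
    (f : X ⟶ Spec (CommRingCat.of k)) [FormallyUnramified f] [LocallyOfFiniteType f] :
    IsLocallyArtinian X where
  isArtinianRing_presheaf_obj U := by
    let := (sectionMap k f U.2).hom.toAlgebra
    have := (finite_of_sectionMap k f U.2).1
    exact isArtinian_of_tower k inferInstance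

lemma discreteTopology_of_unramified (k : Type u) [Field k] {X : Scheme.{u}}
    (f : X ⟶ Spec (CommRingCat.of k)) [FormallyUnramified f] [LocallyOfFiniteType f] :
    DiscreteTopology X :=
  have := isLocallyArtinian_of_unramified k f
  inferInstance

/-- The open subscheme consisting of one point of a discrete scheme. -/
def pointOpen {X : Scheme.{u}} [DiscreteTopology X] (x : X) : X.Opens := ⟨{x}, isOpen_discrete _⟩

lemma isAffineOpen_pointOpen {X : Scheme.{u}} [DiscreteTopology X] (x : X) :
    IsAffineOpen (pointOpen x) :=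
  .of_subsingleton Set.subsingleton_singleton

lemma isField_pointOpen (k : Type u) [Field k] {X : Scheme.{u}}
    (f : X ⟶ Spec (CommRingCat.of k)) [FormallyUnramified f] [LocallyOfFiniteType f]
    [DiscreteTopology X] (x : X) : IsField Γ(X, pointOpen x) := by
  have hU := isAffineOpen_pointOpen x
  let := (sectionMap k f hU).hom.toAlgebra
  obtain ⟨hfin, hunr⟩ := finite_of_sectionMap k f hU
  have : IsReduced Γ(X, pointOpen x) := Algebra.FormallyUnramified.isReduced_of_field k _
  have : IsArtinianRing Γ(X, pointOpen x) := isArtinian_of_tower k inferInstance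
  -- the spectrum is a single point
  let e : (pointOpen x) ≃ₜ PrimeSpectrum Γ(X, pointOpen x) := hU.isoSpec.hom.homeomorph
  have hsub : Subsingleton (PrimeSpectrum Γ(X, pointOpen x)) := by
    have : Subsingleton (pointOpen x) := (Set.subsingleton_singleton (a := x)).coe_sort
    exact e.symm.injective.subsingleton
  have hne : Nonempty (PrimeSpectrum Γ(X, pointOpen x)) := ⟨e ⟨x, rfl⟩⟩
  have : Nontrivial Γ(X, pointOpen x) := PrimeSpectrum.nonempty_iff_nontrivial.mp hne
  have : IsLocalRing Γ(X, pointOpen x) := by
    obtain ⟨m, hm⟩ := Ideal.exists_maximal Γ(X, pointOpen x)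
    refine IsLocalRing.of_unique_max_ideal ⟨m, hm, fun m' hm' => ?_⟩
    exact congrArg PrimeSpectrum.asIdeal
      (Subsingleton.elim (⟨m', hm'.isPrime⟩ : PrimeSpectrum _) ⟨m, hm.isPrime⟩)
  have : IsLocalRing.maximalIdeal Γ(X, pointOpen x) = ⊥ := by
    rw [← IsLocalRing.jacobson_eq_maximalIdeal _ bot_ne_top, IsArtinianRing.jacobson_eq_radical,
      ← Ideal.zero_eq_bot, ← nilradical, nilradical_eq_zero]
  rwa [← IsLocalRing.isField_iff_maximalIdeal_eq] at this

open scoped Function in
set_option backward.isDefEq.respectTransparency false in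
theorem exists_iso_coprod_of_unramified (k : Type u) [Field k] {X : Scheme.{u}}
    (f : X ⟶ Spec (CommRingCat.of k)) [FormallyUnramified f] [LocallyOfFiniteType f] :
    ∃ (ι : Type u) (K : ι → Type u) (_ : ∀ i, Field (K i)) (_ : ∀ i, Algebra k (K i)),
        (∀ i, FiniteDimensional k (K i) ∧ Algebra.IsSeparable k (K i)) ∧
        ∃ e : X ≅ ∐ (fun i => Spec (CommRingCat.of (K i))),
          e.hom ≫ Sigma.desc (fun i => Spec.map (CommRingCat.ofHom (algebraMap k (K i)))) = f := by
  have := discreteTopology_of_unramified k f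
  refine ⟨X, fun x => Γ(X, pointOpen x), fun x => (isField_pointOpen k f x).toField,
    fun x => (sectionMap k f (isAffineOpen_pointOpen x)).hom.toAlgebra, ?_, ?_⟩
  · intro x
    let := (isField_pointOpen k f x).toField
    let := (sectionMap k f (isAffineOpen_pointOpen x)).hom.toAlgebra
    obtain ⟨hfin, hunr⟩ := finite_of_sectionMap k f (isAffineOpen_pointOpen x)
    refine ⟨hfin, ?_⟩
    have : Algebra.EssFiniteType k Γ(X, pointOpen x) := inferInstance
    exact Algebra.FormallyUnramified.isSeparable k Γ(X, pointOpen x)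
  · let α : ∀ x : X, Spec Γ(X, pointOpen x) ⟶ X := fun x => (isAffineOpen_pointOpen x).fromSpec
    have hcov : ⨆ x, (α x).opensRange = ⊤ := by
      rw [eq_top_iff]
      intro x _
      refine TopologicalSpace.Opens.mem_iSup.mpr ⟨x, ?_⟩
      rw [(isAffineOpen_pointOpen x).opensRange_fromSpec]
      exact rfl
    have hdisj : Pairwise (Disjoint on (α · |>.opensRange)) := by
      intro x y hxy
      simp only [Function.onFun, α, IsAffineOpen.opensRange_fromSpec]
      rw [← TopologicalSpace.Opens.coe_disjoint]
      simpa [pointOpen] using hxy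
    obtain ⟨hc⟩ := nonempty_isColimit_cofanMk_of α hcov hdisj
    let e₀ := (coproductIsCoproduct (fun x : X => Spec Γ(X, pointOpen x))).coconePointUniqueUpToIso hc
    refine ⟨e₀.symm, ?_⟩
    rw [Iso.symm_hom, Iso.inv_comp_eq]
    refine Sigma.hom_ext _ _ fun x => ?_
    rw [Sigma.ι_desc]
    have h1 : Sigma.ι (fun x : X => Spec Γ(X, pointOpen x)) x ≫ e₀.hom = α x :=
      IsColimit.comp_coconePointUniqueUpToIso_hom _ hc ⟨x⟩
    rw [← Category.assoc]
    refine Eq.trans ?_ (congrArg (· ≫ f) h1.symm)
    exact Spec_map_sectionMap k f (isAffineOpen_pointOpen x)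

end Groth.Agent.Lib.Helper20
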