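import Groth.Agent.Lib.Helper20.GradedNN
import Groth.Agent.Lib.Helper9.DimTrdeg
import Groth.Agent.Lib.Helper9.Segre

/-!
# Krull dimension of Segre products (helper20)

* `kronecker`: if `τ i j τ i' j' = τ i j' τ i' j` and the antidiagonal sums lie in `I`, then all
  `τ i j` lie in `√I`;
* `irrT_le_radical`: products of parameters of `R` and `S` are parameters of `R # S`;
* `algebraicIndependent_tmul`: `θ i ⊗ η 0`, `θ 0 ⊗ η j` are algebraically independent;
* `ringKrullDim_segre`: `dim (R # S) = dim R + dim S - 1`.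
-/

set_option autoImplicit false
set_option linter.unusedSectionVars false

namespace Groth.Agent.Lib.Helper20.SegreDim

open TensorProduct DirectSum
open Groth.Agent.Lib.Helper20.GradedNN

universe u

/-- Kronecker-type lemma: if `τ i j τ i' j' = τ i j' τ i' j` and all the antidiagonal sums
`∑_{i+j=l} τ i j` lie in `I`, then all `τ i j` lie in the radical of `I`. -/
theorem kronecker {T : Type*} [CommRing T] {r s : ℕ} (τ : Fin r → Fin s → T)
    (hτ : ∀ i i' j j', τ i j * τ i' j' = τ i j' * τ i' j) (I : Ideal T)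
    (hI : ∀ l : ℕ, ∑ p ∈ (Finset.univ.filter fun p : Fin r × Fin s => p.1.val + p.2.val = l),
      τ p.1 p.2 ∈ I) : ∀ i j, τ i j ∈ I.radical := by
  classical
  have key : ∀ l : ℕ, ∀ (i : Fin r) (j : Fin s), (i : ℕ) + (j : ℕ) = l → τ i j ∈ I.radical := by
    intro l
    induction l using Nat.strong_induction_on with
    | _ l ih =>
      intro i j hij
      have hmem : ((i, j) : Fin r × Fin s) ∈
          Finset.univ.filter fun p : Fin r × Fin s => p.1.val + p.2.val = l := by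
        simp [hij]
      have h1 := hI l
      rw [← Finset.add_sum_erase _ _ hmem] at h1
      have h2 : ∀ p ∈ (Finset.univ.filter fun p : Fin r × Fin s =>
          p.1.val + p.2.val = l).erase (i, j), τ i j * τ p.1 p.2 ∈ I.radical := by
        rintro ⟨i', j'⟩ hp
        have hne : (i', j') ≠ (i, j) := Finset.ne_of_mem_erase hp
        have hsum : (i' : ℕ) + (j' : ℕ) = l := by
          have := Finset.mem_of_mem_erase hp
          simpa using this
        show τ i j * τ i' j' ∈ I.radical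
        rw [hτ]
        rcases lt_trichotomy (j' : ℕ) (j : ℕ) with h | h | h
        · exact Ideal.mul_mem_right _ _ (ih _ (by omega) i j' rfl)
        · exfalso
          apply hne
          have hj : j' = j := Fin.ext h
          have hi : i' = i := Fin.ext (by omega)
          rw [hi, hj]
        · exact Ideal.mul_mem_left _ _ (ih _ (by omega) i' j rfl)
      have h3 : τ i j ^ 2 ∈ I.radical := by
        have : τ i j ^ 2 = τ i j * (τ i j + ∑ p ∈ (Finset.univ.filter fun p : Fin r × Fin s =>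
            p.1.val + p.2.val = l).erase (i, j), τ p.1 p.2) -
            ∑ p ∈ (Finset.univ.filter fun p : Fin r × Fin s =>
            p.1.val + p.2.val = l).erase (i, j), τ i j * τ p.1 p.2 := by
          rw [mul_add, Finset.mul_sum]; ring
        rw [this]
        exact Ideal.sub_mem _ (Ideal.mul_mem_left _ _ (Ideal.le_radical h1))
          (Ideal.sum_mem _ h2)
      have h4 : τ i j ∈ I.radical.radical := ⟨2, h3⟩
      rwa [Ideal.radical_idem] at h4
  exact fun i j => key _ i j rfl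

section Coeffs

variable {k : Type*} [Field k] {R : Type*} [CommRing R] [Algebra k R]
  (𝒜 : ℤ → Submodule k R) [GradedAlgebra 𝒜]

/-- A homogeneous element of the ideal generated by homogeneous elements `θ i` is a combination
of the `θ i` with homogeneous coefficients. -/
theorem exists_homogeneous_coeffs {ι : Type*} [Fintype ι] (θ : ι → R) (d : ι → ℤ)
    (hθ : ∀ i, θ i ∈ 𝒜 (d i)) {m : ℤ} {x : R} (hx : x ∈ 𝒜 m)
    (hxI : x ∈ Ideal.span (Set.range θ)) :
    ∃ y : ι → R, (∀ i, y i ∈ 𝒜 (m - d i)) ∧ x = ∑ i, y i * θ i := by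
  classical
  obtain ⟨c, rfl⟩ := (Ideal.mem_span_range_iff_exists_fun).mp hxI
  refine ⟨fun i => (decompose 𝒜 (c i) (m - d i) : R), fun i => (decompose 𝒜 (c i) (m - d i)).2, ?_⟩
  have hx' : ∑ i, c i * θ i = (decompose 𝒜 (∑ i, c i * θ i) m : R) :=
    (decompose_of_mem_same 𝒜 hx).symm
  rw [hx', decompose_sum, DFinsupp.finsetSum_apply, AddSubmonoidClass.coe_finsetSum]
  refine Finset.sum_congr rfl fun i _ => ?_
  have h1 := coe_decompose_mul_add_of_right_mem 𝒜 (i := m - d i) (j := d i) (a := c i) (hθ i)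
  rw [sub_add_cancel] at h1
  exact h1

end Coeffs

section Segre

variable {k : Type*} [Field k] {R : Type*} [CommRing R] [Algebra k R]
  (𝒜 : ℤ → Submodule k R) [GradedAlgebra 𝒜]
  {S : Type*} [CommRing S] [Algebra k S] (ℬ : ℤ → Submodule k S) [GradedAlgebra ℬ]
  {T : Type*} [CommRing T] [Algebra k T] (𝒯 : ℤ → Submodule k T) [GradedAlgebra 𝒯]
  (ψ : T →ₐ[k] R ⊗[k] S) (hψ : Function.Injective ψ)
  (hdegT : ∀ n : ℤ, (𝒯 n).map ψ.toLinearMap =
    Submodule.span k {x : R ⊗[k] S | ∃ a ∈ 𝒜 n, ∃ b ∈ ℬ n, x = a ⊗ₜ[k] b})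

include hdegT in
theorem exists_seg {n : ℤ} {a : R} (ha : a ∈ 𝒜 n) {b : S} (hb : b ∈ ℬ n) :
    ∃ t ∈ 𝒯 n, ψ t = a ⊗ₜ[k] b := by
  have h1 : a ⊗ₜ[k] b ∈ (𝒯 n).map ψ.toLinearMap := by
    rw [hdegT n]
    exact Submodule.subset_span ⟨a, ha, b, hb, rfl⟩
  obtain ⟨t, ht, h⟩ := h1
  exact ⟨t, ht, h⟩

include hdegT hψ in
theorem hposT (hposR : ∀ n : ℤ, n < 0 → 𝒜 n = ⊥) : ∀ n : ℤ, n < 0 → 𝒯 n = ⊥ := by
  intro n hn
  have h1 : (𝒯 n).map ψ.toLinearMap = ⊥ := by
    rw [hdegT n, Submodule.span_eq_bot]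
    rintro _ ⟨a, ha, b, -, rfl⟩
    rw [hposR n hn] at ha
    rw [(Submodule.mem_bot k).mp ha, zero_tmul]
  rw [eq_bot_iff]
  intro t ht
  have h2 : ψ t ∈ (𝒯 n).map ψ.toLinearMap := ⟨t, ht, rfl⟩
  rw [h1] at h2
  have h3 : ψ t = 0 := (Submodule.mem_bot k).mp h2
  rw [Submodule.mem_bot]
  exact hψ (h3.trans (map_zero ψ).symm)

include hdegT hψ in
theorem h0T (h0R : 𝒜 0 = Submodule.span k {(1 : R)}) (h0S : ℬ 0 = Submodule.span k {(1 : S)}) :
    𝒯 0 = Submodule.span k {(1 : T)} := by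
  apply Submodule.map_injective_of_injective (f := ψ.toLinearMap) hψ
  rw [hdegT 0, Submodule.map_span, Set.image_singleton]
  have : ψ.toLinearMap 1 = (1 : R) ⊗ₜ[k] (1 : S) := by
    show ψ 1 = _
    rw [map_one]; rfl
  rw [this]
  apply le_antisymm
  · rw [Submodule.span_le]
    rintro _ ⟨a, ha, b, hb, rfl⟩
    obtain ⟨c, rfl⟩ := exists_smul_one_of_mem_zero 𝒜 h0R ha
    obtain ⟨c', rfl⟩ := exists_smul_one_of_mem_zero ℬ h0S hb
    rw [smul_tmul_smul]
    exact Submodule.smul_mem _ _ (Submodule.subset_span rfl)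
  · rw [Submodule.span_le, Set.singleton_subset_iff]
    exact Submodule.subset_span ⟨1, SetLike.one_mem_graded 𝒜, 1, SetLike.one_mem_graded ℬ, rfl⟩

include hdegT hψ in
/-- If `θ` and `η` are homogeneous systems of parameters of `R` and `S` of the same degree `N`,
then the elements of `T` lifting `θ i ⊗ η j` generate an ideal whose radical contains the
irrelevant ideal of `T`. -/
theorem irrT_le_radical {r s : ℕ} (N : ℤ) (θ : Fin r → R) (hθ : ∀ i, θ i ∈ 𝒜 N)
    (hθrad : irr 𝒜 ≤ (Ideal.span (Set.range θ)).radical)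
    (η : Fin s → S) (hη : ∀ j, η j ∈ ℬ N)
    (hηrad : irr ℬ ≤ (Ideal.span (Set.range η)).radical)
    (τ : Fin r → Fin s → T) (hτ : ∀ i j, ψ (τ i j) = θ i ⊗ₜ[k] η j)
    (J : Ideal T) (hJ : ∀ i j, τ i j ∈ J) : irr 𝒯 ≤ J.radical := by
  classical
  unfold irr
  rw [Ideal.span_le]
  intro t ht
  simp only [Set.mem_iUnion] at ht
  obtain ⟨n, hn, ht⟩ := ht
  have hn : 0 < n := hn
  -- reduce to pure tensors
  have hle : 𝒯 n ≤ J.radical.restrictScalars k := by
    rw [← Submodule.map_le_map_iff_of_injective (f := ψ.toLinearMap) hψ, hdegT n, Submodule.span_le]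
    rintro _ ⟨a, ha, b, hb, rfl⟩
    obtain ⟨t', -, ht'⟩ := exists_seg 𝒜 ℬ 𝒯 ψ hdegT ha hb
    refine ⟨t', ?_, ht'⟩
    show t' ∈ J.radical
    obtain ⟨e, he⟩ := hθrad (mem_irr_of_mem 𝒜 hn ha)
    obtain ⟨e', he'⟩ := hηrad (mem_irr_of_mem ℬ hn hb)
    have hE1 : a ^ (e + e') ∈ Ideal.span (Set.range θ) := by
      rw [pow_add]; exact Ideal.mul_mem_right _ _ he
    have hE2 : b ^ (e + e') ∈ Ideal.span (Set.range η) := by
      rw [pow_add]; exact Ideal.mul_mem_left _ _ he'
    have hEa : a ^ (e + e') ∈ 𝒜 ((e + e') • n) := SetLike.pow_mem_graded _ ha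
    have hEb : b ^ (e + e') ∈ ℬ ((e + e') • n) := SetLike.pow_mem_graded _ hb
    obtain ⟨y, hy, hya⟩ := exists_homogeneous_coeffs 𝒜 θ (fun _ => N) hθ hEa hE1
    obtain ⟨w, hw, hwb⟩ := exists_homogeneous_coeffs ℬ η (fun _ => N) hη hEb hE2
    choose u hu hψu using fun i j => exists_seg 𝒜 ℬ 𝒯 ψ hdegT (hy i) (hw j)
    refine ⟨e + e', ?_⟩
    have : t' ^ (e + e') = ∑ i, ∑ j, u i j * τ i j := by
      apply hψ
      rw [map_pow, ht', Algebra.TensorProduct.tmul_pow, hya, hwb, map_sum, sum_tmul]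
      refine Finset.sum_congr rfl fun i _ => ?_
      rw [map_sum, tmul_sum]
      refine Finset.sum_congr rfl fun j _ => ?_
      rw [map_mul, hψu, hτ, Algebra.TensorProduct.tmul_mul_tmul]
    rw [this]
    exact Ideal.sum_mem _ fun i _ => Ideal.sum_mem _ fun j _ => Ideal.mul_mem_left _ _ (hJ i j)
  exact hle ht

end Segre

section AlgIndep

variable {k : Type*} [Field k] {R : Type*} [CommRing R] [Algebra k R]
  {S : Type*} [CommRing S] [Algebra k S]

/-- If `θ` (in `R`) and `η` (in `S`) are algebraically independent families, then the `r + s - 1`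
elements `θ i ⊗ η 0` and `θ 0 ⊗ η j` (`j ≠ 0`) of `R ⊗ S` are algebraically independent. -/
theorem algebraicIndependent_tmul {r s : ℕ} (hr : 0 < r) (hs : 0 < s) (θ : Fin r → R)
    (η : Fin s → S) (hθ : AlgebraicIndependent k θ) (hη : AlgebraicIndependent k η) :
    AlgebraicIndependent k (fun z : Fin r ⊕ {j : Fin s // j ≠ ⟨0, hs⟩} =>
      (Sum.elim (fun i => θ i ⊗ₜ[k] η ⟨0, hs⟩) (fun j => θ ⟨0, hr⟩ ⊗ₜ[k] η j.1) z : R ⊗[k] S)) := by
  classical
  set ι := Fin r ⊕ {j : Fin s // j ≠ ⟨0, hs⟩} with hι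
  let K := FractionRing (MvPolynomial ι k)
  let Z : ι → K := fun z => algebraMap (MvPolynomial ι k) K (MvPolynomial.X z)
  have hZ0 : Z (Sum.inl ⟨0, hr⟩) ≠ 0 := by
    intro h
    have := (IsFractionRing.injective (MvPolynomial ι k) K) (h.trans (map_zero _).symm)
    exact MvPolynomial.X_ne_zero _ this
  -- the two specialisation maps
  let f₁ : MvPolynomial (Fin r) k →ₐ[k] K := MvPolynomial.aeval fun i => Z (Sum.inl i)
  let f₂ : MvPolynomial (Fin s) k →ₐ[k] K := MvPolynomial.aeval fun j =>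
    if h : j = ⟨0, hs⟩ then 1 else Z (Sum.inr ⟨j, h⟩) / Z (Sum.inl ⟨0, hr⟩)
  let ev : MvPolynomial (Fin r) k ⊗[k] MvPolynomial (Fin s) k →ₐ[k] K :=
    Algebra.TensorProduct.productMap f₁ f₂
  let Θ : MvPolynomial (Fin r) k ⊗[k] MvPolynomial (Fin s) k →ₐ[k] R ⊗[k] S :=
    Algebra.TensorProduct.map (MvPolynomial.aeval θ) (MvPolynomial.aeval η)
  have hΘ : Function.Injective Θ := by
    have h1 : Function.Injective (TensorProduct.map (MvPolynomial.aeval θ).toLinearMap
        (MvPolynomial.aeval η).toLinearMap) :=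
      TensorProduct.map_injective_of_flat_flat _ _
        (algebraicIndependent_iff_injective_aeval.mp hθ)
        (algebraicIndependent_iff_injective_aeval.mp hη)
    exact h1
  let μ : ι → MvPolynomial (Fin r) k ⊗[k] MvPolynomial (Fin s) k :=
    Sum.elim (fun i => MvPolynomial.X i ⊗ₜ[k] MvPolynomial.X ⟨0, hs⟩)
      (fun j => MvPolynomial.X ⟨0, hr⟩ ⊗ₜ[k] MvPolynomial.X j.1)
  have hΘμ : ∀ z, Θ (μ z) = (Sum.elim (fun i => θ i ⊗ₜ[k] η ⟨0, hs⟩)
      (fun j => θ ⟨0, hr⟩ ⊗ₜ[k] η j.1) z : R ⊗[k] S) := by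
    rintro (i | j)
    · simp [Θ, μ]
    · simp [Θ, μ]
  have hevμ : ∀ z, ev (μ z) = Z z := by
    rintro (i | ⟨j, hj⟩)
    · simp [ev, μ, f₁, f₂]
    · simp only [ev, μ, f₁, f₂, Sum.elim_inr, Algebra.TensorProduct.productMap_apply_tmul,
        MvPolynomial.aeval_X, dif_neg hj]
      rw [mul_div_cancel₀ _ hZ0]
  rw [algebraicIndependent_iff_injective_aeval, injective_iff_map_eq_zero]
  intro P hP
  have h1 : Θ (MvPolynomial.aeval μ P) = 0 := by
    rw [← hP, MvPolynomial.comp_aeval_apply, funext hΘμ]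
  have h2 : MvPolynomial.aeval μ P = 0 := hΘ (h1.trans (map_zero Θ).symm)
  have h3 : MvPolynomial.aeval Z P = 0 := by
    have := congrArg ev h2
    rw [map_zero, MvPolynomial.comp_aeval_apply, funext hevμ] at this
    exact this
  have h4 : MvPolynomial.aeval Z P = algebraMap (MvPolynomial ι k) K P := by
    have : (MvPolynomial.aeval Z : MvPolynomial ι k →ₐ[k] K) =
        IsScalarTower.toAlgHom k (MvPolynomial ι k) K := by
      apply MvPolynomial.algHom_ext
      intro z
      simp [Z]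
    rw [this]; rfl
  rw [h4] at h3
  exact (IsFractionRing.injective (MvPolynomial ι k) K) (h3.trans (map_zero _).symm)

end AlgIndep

/-- A `k`-algebra generated by `n` elements has dimension at most `n`. -/
theorem ringKrullDim_adjoin_le {k : Type*} [Field k] {R : Type*} [CommRing R] [Algebra k R]
    {n : ℕ} (θ : Fin n → R) : ringKrullDim (Algebra.adjoin k (Set.range θ)) ≤ (n : ℕ) := by
  have hrange : (MvPolynomial.aeval θ : MvPolynomial (Fin n) k →ₐ[k] R).range =
      Algebra.adjoin k (Set.range θ) := (Algebra.adjoin_range_eq_range_aeval k θ).symm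
  let φ : MvPolynomial (Fin n) k →ₐ[k] Algebra.adjoin k (Set.range θ) :=
    (MvPolynomial.aeval θ).codRestrict _ fun p => by
      rw [← hrange]; exact ⟨p, rfl⟩
  have hφsurj : Function.Surjective φ := by
    rintro ⟨y, hy⟩
    rw [← hrange] at hy
    obtain ⟨p, hp⟩ := hy
    exact ⟨p, Subtype.ext hp⟩
  have h1 := ringKrullDim_le_of_surjective φ.toRingHom hφsurj
  have h3 : ringKrullDim (MvPolynomial (Fin n) k) = ringKrullDim k + Nat.card (Fin n) :=
    MvPolynomial.ringKrullDim_of_isNoetherianRing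
  rw [ringKrullDim_eq_zero_of_field, zero_add, Nat.card_fin] at h3
  rw [h3] at h1
  exact h1

/-- An algebraically independent family of `n` elements forces dimension at least `n`. -/
theorem le_ringKrullDim_of_algebraicIndependent {k F : Type u} [Field k] [CommRing F]
    [Algebra k F] [Algebra.FiniteType k F] {ι : Type*} [Fintype ι] (x : ι → F)
    (hx : AlgebraicIndependent k x) :
    ((Fintype.card ι : ℕ) : WithBot ℕ∞) ≤ ringKrullDim F := by
  classical
  let e : ι ≃ Fin (Fintype.card ι) := Fintype.equivFin ι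
  let φ : MvPolynomial (Fin (Fintype.card ι)) k →ₐ[k] F :=
    (MvPolynomial.aeval x).comp (MvPolynomial.rename e.symm)
  have hφ : Function.Injective φ :=
    (algebraicIndependent_iff_injective_aeval.mp hx).comp
      (MvPolynomial.rename_injective _ e.symm.injective)
  exact Groth.Agent.Lib.Helper9.DimTrdeg.le_ringKrullDim_of_injective k F _ φ hφ

section Main

variable {k : Type u} [Field k] {R : Type u} [CommRing R] [Algebra k R]
  (𝒜 : ℤ → Submodule k R) [GradedAlgebra 𝒜]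
  {S : Type u} [CommRing S] [Algebra k S] (ℬ : ℤ → Submodule k S) [GradedAlgebra ℬ]
  {T : Type u} [CommRing T] [Algebra k T] (𝒯 : ℤ → Submodule k T) [GradedAlgebra 𝒯]
  (ψ : T →ₐ[k] R ⊗[k] S) (hψ : Function.Injective ψ)
  (hdegT : ∀ n : ℤ, (𝒯 n).map ψ.toLinearMap =
    Submodule.span k {x : R ⊗[k] S | ∃ a ∈ 𝒜 n, ∃ b ∈ ℬ n, x = a ⊗ₜ[k] b})

include hψ hdegT in
/-- The Krull dimension of the Segre product. -/
theorem ringKrullDim_segre (hposR : ∀ n : ℤ, n < 0 → 𝒜 n = ⊥)
    (h0R : 𝒜 0 = Submodule.span k {(1 : R)}) [Algebra.FiniteType k R]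
    (hposS : ∀ n : ℤ, n < 0 → ℬ n = ⊥) (h0S : ℬ 0 = Submodule.span k {(1 : S)})
    [Algebra.FiniteType k S] (r s : ℕ) (hr : ringKrullDim R = r) (hs : ringKrullDim S = s)
    (h1r : 1 ≤ r) (h1s : 1 ≤ s) : ringKrullDim T = ((r + s - 1 : ℕ) : WithBot ℕ∞) := by
  classical
  have hntR : Nontrivial R := by
    by_contra h
    rw [not_nontrivial_iff_subsingleton] at h
    rw [ringKrullDim_eq_bot_of_subsingleton] at hr
    exact absurd hr (by simp)
  have hntS : Nontrivial S := by
    by_contra h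
    rw [not_nontrivial_iff_subsingleton] at h
    rw [ringKrullDim_eq_bot_of_subsingleton] at hs
    exact absurd hs (by simp)
  have hnR : IsNoetherianRing R := Algebra.FiniteType.isNoetherianRing k R
  have hnS : IsNoetherianRing S := Algebra.FiniteType.isNoetherianRing k S
  obtain ⟨N₁, θ₁, hN₁, hθ₁, hrad₁⟩ := exists_hsop 𝒜 hposR h0R r hr.le
  obtain ⟨N₂, η₁, hN₂, hη₁, hrad₂⟩ := exists_hsop ℬ hposS h0S s hs.le
  obtain ⟨hθ, hθrad⟩ := hsop_pow 𝒜 θ₁ hθ₁ hrad₁ N₂
  obtain ⟨hη, hηrad⟩ := hsop_pow ℬ η₁ hη₁ hrad₂ N₁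
  rw [mul_comm N₂ N₁] at hη
  set θ : Fin r → R := fun j => θ₁ j ^ N₂ with hθdef
  set η : Fin s → S := fun j => η₁ j ^ N₁ with hηdef
  set N : ℤ := ((N₁ * N₂ : ℕ) : ℤ) with hNdef
  have hNpos : 0 < N := by
    rw [hNdef]; exact_mod_cast Nat.mul_pos hN₁ hN₂
  -- finiteness and algebraic independence for `R` and `S`
  have hfinR : Module.Finite (Algebra.adjoin k (Set.range θ)) R :=
    finite_of_irr_le_radical 𝒜 hposR h0R θ (fun _ => N) (fun _ => hNpos) hθ hθrad
  have haiθ : AlgebraicIndependent k θ := algebraicIndependent_of_finite r hr θ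
  have hfinS : Module.Finite (Algebra.adjoin k (Set.range η)) S :=
    finite_of_irr_le_radical ℬ hposS h0S η (fun _ => N) (fun _ => hNpos) hη hηrad
  have haiη : AlgebraicIndependent k η := algebraicIndependent_of_finite s hs η
  -- structure of `T`
  have hposT' := hposT 𝒜 ℬ 𝒯 ψ hψ hdegT hposR
  have h0T' := h0T 𝒜 ℬ 𝒯 ψ hψ hdegT h0R h0S
  have : Algebra.FiniteType k (R ⊗[k] S) := by
    have : Algebra.FiniteType R (R ⊗[k] S) := inferInstance
    exact Algebra.FiniteType.trans (R := k) (S := R) (A := R ⊗[k] S) inferInstance inferInstance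
  have : IsNoetherianRing (R ⊗[k] S) := Algebra.FiniteType.isNoetherianRing k _
  have hnT : IsNoetherianRing T :=
    Groth.Agent.Lib.Helper9.Segre.isNoetherianRing_of_injective 𝒜 ℬ 𝒯 ψ hdegT hψ
  have hftT : Algebra.FiniteType k T := finiteType_of_isNoetherianRing 𝒯 hposT' h0T'
  choose τ hτmem hτ using fun i j => exists_seg 𝒜 ℬ 𝒯 ψ hdegT (hθ i) (hη j)
  have hτrel : ∀ i i' j j', τ i j * τ i' j' = τ i j' * τ i' j := by
    intro i i' j j'
    apply hψ
    rw [map_mul, map_mul, hτ, hτ, hτ, hτ, Algebra.TensorProduct.tmul_mul_tmul,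
      Algebra.TensorProduct.tmul_mul_tmul, mul_comm (η j) (η j')]
  let σ : Fin (r + s - 1) → T := fun l =>
    ∑ p ∈ (Finset.univ.filter fun p : Fin r × Fin s => p.1.val + p.2.val = (l : ℕ)), τ p.1 p.2
  have hσmem : ∀ l, σ l ∈ 𝒯 N := fun l => Submodule.sum_mem _ fun p _ => hτmem p.1 p.2
  have hkron := kronecker τ hτrel (Ideal.span (Set.range σ)) (by
    intro l
    by_cases hl : l < r + s - 1
    · exact Ideal.subset_span ⟨⟨l, hl⟩, rfl⟩
    · rw [Finset.sum_eq_zero]
      · exact zero_mem _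
      · intro p hp
        exfalso
        have h1 := p.1.isLt
        have h2 := p.2.isLt
        have h3 : (p.1 : ℕ) + (p.2 : ℕ) = l := by simpa using hp
        omega)
  have hirrT : irr 𝒯 ≤ (Ideal.span (Set.range σ)).radical := by
    have := irrT_le_radical 𝒜 ℬ 𝒯 ψ hψ hdegT N θ hθ hθrad η hη hηrad τ hτ
      (Ideal.span (Set.range σ)).radical hkron
    rwa [Ideal.radical_idem] at this
  have hfinT : Module.Finite (Algebra.adjoin k (Set.range σ)) T :=
    finite_of_irr_le_radical 𝒯 hposT' h0T' σ (fun _ => N) (fun _ => hNpos) hσmem hirrT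
  -- upper bound
  have hdimT : ringKrullDim (Algebra.adjoin k (Set.range σ)) = ringKrullDim T :=
    Groth.Agent.Lib.Helper12.ringKrullDim_eq_of_isIntegral_of_injective _ T Subtype.val_injective
  have hub : ringKrullDim T ≤ ((r + s - 1 : ℕ) : WithBot ℕ∞) := by
    rw [← hdimT]; exact ringKrullDim_adjoin_le σ
  -- lower bound
  have hr0 : 0 < r := h1r
  have hs0 : 0 < s := h1s
  let ρ : Fin r ⊕ {j : Fin s // j ≠ ⟨0, hs0⟩} → T :=
    Sum.elim (fun i => τ i ⟨0, hs0⟩) (fun j => τ ⟨0, hr0⟩ j.1)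
  have haiρ : AlgebraicIndependent k ρ := by
    refine AlgebraicIndependent.of_comp ψ ?_
    have := algebraicIndependent_tmul hr0 hs0 θ η haiθ haiη
    convert this using 1
    funext z
    rcases z with i | j
    · exact hτ i _
    · exact hτ _ j.1
  have hlb := le_ringKrullDim_of_algebraicIndependent ρ haiρ
  have hcard : Fintype.card (Fin r ⊕ {j : Fin s // j ≠ ⟨0, hs0⟩}) = r + s - 1 := by
    rw [Fintype.card_sum, Fintype.card_fin, Fintype.card_subtype_compl, Fintype.card_fin]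
    simp
    omega
  rw [hcard] at hlb
  exact le_antisymm hub hlb

end Main

end Groth.Agent.Lib.Helper20.SegreDim
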