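import Mathlib
import Groth.Agent.Lib.Helper12.IntegralDim

/-!
# Graded Noether normalisation (helper20)

For a `ℤ`-graded algebra `R = ⨁ 𝒜 n` over a field `k`, concentrated in nonnegative degrees with
`𝒜 0 = k·1`:

* `irr 𝒜`: the irrelevant ideal, a maximal ideal containing every proper homogeneous ideal;
* `exists_homogeneous_notMem`: homogeneous prime avoidance;
* `exists_hsop`: a homogeneous system of parameters of length `dim R`, all of the same degree;
* `eq_top_of_sup_eq_top`: graded Nakayama;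
* `finite_of_irr_le_radical`: `R` is finite over the subalgebra generated by an h.s.o.p.;
* `algebraicIndependent_of_finite`: an h.s.o.p. of length `dim R` is algebraically independent.
-/

set_option autoImplicit false
set_option linter.unusedSectionVars false

namespace Groth.Agent.Lib.Helper20.GradedNN

open DirectSum

variable {k : Type*} [Field k] {R : Type*} [CommRing R] [Algebra k R]
  (𝒜 : ℤ → Submodule k R) [GradedAlgebra 𝒜]

/-- The irrelevant ideal of a `ℤ`-graded algebra: generated by the homogeneous elements of positive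
degree. -/
def irr : Ideal R := Ideal.span (⋃ n ∈ Set.Ioi (0 : ℤ), (𝒜 n : Set R))

theorem mem_irr_of_mem {n : ℤ} (hn : 0 < n) {x : R} (hx : x ∈ 𝒜 n) : x ∈ irr 𝒜 :=
  Ideal.subset_span (Set.mem_biUnion (Set.mem_Ioi.mpr hn) hx)

theorem irr_isHomogeneous : (irr 𝒜).IsHomogeneous 𝒜 := by
  apply Ideal.homogeneous_span
  intro x hx
  simp only [Set.mem_iUnion] at hx
  obtain ⟨n, -, hx⟩ := hx
  exact ⟨n, hx⟩

variable (hpos : ∀ n : ℤ, n < 0 → 𝒜 n = ⊥)

include hpos in
theorem eq_zero_of_mem_neg {n : ℤ} (hn : n < 0) {y : R} (hy : y ∈ 𝒜 n) : y = 0 := by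
  rw [hpos n hn] at hy
  exact (Submodule.mem_bot k).mp hy

include hpos in
theorem proj_eq_zero_of_neg (x : R) {n : ℤ} (hn : n < 0) : (decompose 𝒜 x n : R) = 0 :=
  eq_zero_of_mem_neg 𝒜 hpos hn (decompose 𝒜 x n).2

include hpos in
theorem proj_zero_of_mem_irr {y : R} (hy : y ∈ irr 𝒜) : (decompose 𝒜 y 0 : R) = 0 := by
  unfold irr at hy
  induction hy using Submodule.span_induction with
  | mem x hx =>
    simp only [Set.mem_iUnion] at hx
    obtain ⟨n, hn, hx⟩ := hx
    rw [decompose_of_mem_ne 𝒜 hx (ne_of_gt hn)]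
  | zero => simp
  | add x y _ _ hx hy => simp [hx, hy]
  | smul a x hx hx0 =>
    rw [smul_eq_mul]
    induction a using DirectSum.Decomposition.inductionOn 𝒜 with
    | zero => simp
    | add a a' ha ha' => rw [add_mul, decompose_add, DirectSum.add_apply, Submodule.coe_add, ha, ha', add_zero]
    | homogeneous a =>
      rename_i i
      have h := coe_decompose_mul_add_of_left_mem 𝒜 (i := i) (j := -i) (b := x) a.2
      rw [add_neg_cancel] at h
      rw [h]
      rcases lt_trichotomy i 0 with hi | hi | hi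
      · rw [eq_zero_of_mem_neg 𝒜 hpos hi a.2, zero_mul]
      · subst hi
        rw [neg_zero, hx0, mul_zero]
      · rw [proj_eq_zero_of_neg 𝒜 hpos x (by omega), mul_zero]

include hpos in
theorem irr_ne_top [Nontrivial R] : irr 𝒜 ≠ ⊤ := by
  intro h
  have h1 : (1 : R) ∈ irr 𝒜 := h ▸ Submodule.mem_top
  have h2 := proj_zero_of_mem_irr 𝒜 hpos h1
  rw [decompose_of_mem_same 𝒜 (SetLike.one_mem_graded 𝒜)] at h2
  exact one_ne_zero h2

include hpos in
/-- Every element is its degree-zero component plus an element of the irrelevant ideal. -/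
theorem sub_proj_zero_mem_irr (x : R) : x - (decompose 𝒜 x 0 : R) ∈ irr 𝒜 := by
  classical
  have hx : x = ∑ n ∈ (decompose 𝒜 x).support, (decompose 𝒜 x n : R) :=
    (sum_support_decompose 𝒜 x).symm
  by_cases h0 : (0 : ℤ) ∈ (decompose 𝒜 x).support
  · rw [← Finset.add_sum_erase _ _ h0] at hx
    have : x - (decompose 𝒜 x 0 : R) = ∑ n ∈ (decompose 𝒜 x).support.erase 0,
        (decompose 𝒜 x n : R) := by
      rw [sub_eq_iff_eq_add']; exact hx
    rw [this]
    refine Ideal.sum_mem _ fun n hn => ?_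
    rcases lt_trichotomy n 0 with hn0 | hn0 | hn0
    · rw [proj_eq_zero_of_neg 𝒜 hpos x hn0]; exact zero_mem _
    · exact absurd hn0 (Finset.ne_of_mem_erase hn)
    · exact mem_irr_of_mem 𝒜 hn0 (decompose 𝒜 x n).2
  · have h00 : (decompose 𝒜 x 0 : R) = 0 := by
      rw [DFinsupp.notMem_support_iff] at h0
      rw [h0]; rfl
    rw [h00, sub_zero]
    nth_rewrite 1 [hx]
    refine Ideal.sum_mem _ fun n hn => ?_
    rcases lt_trichotomy n 0 with hn0 | hn0 | hn0
    · rw [proj_eq_zero_of_neg 𝒜 hpos x hn0]; exact zero_mem _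
    · exact absurd (hn0 ▸ hn) h0
    · exact mem_irr_of_mem 𝒜 hn0 (decompose 𝒜 x n).2

variable (h0 : 𝒜 0 = Submodule.span k {(1 : R)})

include h0 in
theorem exists_smul_one_of_mem_zero {y : R} (hy : y ∈ 𝒜 0) : ∃ c : k, c • (1 : R) = y := by
  rw [h0, Submodule.mem_span_singleton] at hy
  exact hy

include hpos h0 in
/-- A proper homogeneous ideal is contained in the irrelevant ideal. -/
theorem le_irr_of_isHomogeneous {I : Ideal R} (hI : I.IsHomogeneous 𝒜) (hI1 : I ≠ ⊤) :
    I ≤ irr 𝒜 := by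
  intro x hx
  have h1 : (decompose 𝒜 x 0 : R) ∈ I := hI 0 hx
  obtain ⟨c, hc⟩ := exists_smul_one_of_mem_zero 𝒜 h0 (decompose 𝒜 x 0).2
  have hc0 : c = 0 := by
    by_contra hne
    apply hI1
    rw [Ideal.eq_top_iff_one]
    have : (1 : R) = c⁻¹ • (decompose 𝒜 x 0 : R) := by
      rw [← hc, smul_smul, inv_mul_cancel₀ hne, one_smul]
    rw [this, Algebra.smul_def]
    exact I.mul_mem_left _ h1
  rw [hc0, zero_smul] at hc
  have := sub_proj_zero_mem_irr 𝒜 hpos x
  rwa [← hc, sub_zero] at this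

include hpos h0 in
theorem irr_isMaximal [Nontrivial R] : (irr 𝒜).IsMaximal := by
  rw [Ideal.isMaximal_iff]
  refine ⟨fun h => irr_ne_top 𝒜 hpos ((Ideal.eq_top_iff_one _).mpr h), fun J x hJ hx hxJ => ?_⟩
  obtain ⟨c, hc⟩ := exists_smul_one_of_mem_zero 𝒜 h0 (decompose 𝒜 x 0).2
  have h3 := sub_proj_zero_mem_irr 𝒜 hpos x
  have hne : c ≠ 0 := by
    rintro rfl
    rw [zero_smul] at hc
    rw [← hc, sub_zero] at h3
    exact hx h3
  have h4 : (decompose 𝒜 x 0 : R) ∈ J := by
    have : (decompose 𝒜 x 0 : R) = x - (x - (decompose 𝒜 x 0 : R)) := by ring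
    rw [this]
    exact J.sub_mem hxJ (hJ h3)
  have : (1 : R) = c⁻¹ • (decompose 𝒜 x 0 : R) := by
    rw [← hc, smul_smul, inv_mul_cancel₀ hne, one_smul]
  rw [this, Algebra.smul_def]
  exact J.mul_mem_left _ h4

/-- Minimal primes over a homogeneous ideal are homogeneous. -/
theorem isHomogeneous_of_mem_minimalPrimes {J Q : Ideal R} (hJ : J.IsHomogeneous 𝒜)
    (hQ : Q ∈ J.minimalPrimes) : Q.IsHomogeneous 𝒜 := by
  have hQp : Q.IsPrime := hQ.1.1
  have h1 : (Q.homogeneousCore 𝒜).toIdeal.IsPrime := Ideal.IsPrime.homogeneousCore hQp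
  have h2 : J ≤ (Q.homogeneousCore 𝒜).toIdeal := by
    have := Ideal.homogeneousCore_mono 𝒜 hQ.1.2
    rw [← hJ.toIdeal_homogeneousCore_eq_self]
    exact this
  have h3 : (Q.homogeneousCore 𝒜).toIdeal ≤ Q := Ideal.toIdeal_homogeneousCore_le 𝒜 Q
  have h4 : Q ≤ (Q.homogeneousCore 𝒜).toIdeal := hQ.2 ⟨h1, h2⟩ h3
  have : Q = (Q.homogeneousCore 𝒜).toIdeal := le_antisymm h4 h3
  rw [this]
  exact (Q.homogeneousCore 𝒜).isHomogeneous

include hpos in
/-- A homogeneous ideal inside the irrelevant ideal and not contained in a prime contains a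
homogeneous element of positive degree outside the prime. -/
theorem exists_homogeneous_notMem_of_not_le {J Q : Ideal R} (hJ : J.IsHomogeneous 𝒜)
    (hJirr : J ≤ irr 𝒜) (hJQ : ¬ J ≤ Q) :
    ∃ d : ℕ, 0 < d ∧ ∃ a ∈ 𝒜 (d : ℤ), a ∈ J ∧ a ∉ Q := by
  classical
  obtain ⟨x, hxJ, hxQ⟩ := SetLike.not_le_iff_exists.mp hJQ
  have hex : ∃ n : ℤ, (decompose 𝒜 x n : R) ∉ Q := by
    by_contra hcon
    push Not at hcon
    apply hxQ
    rw [← sum_support_decompose 𝒜 x]
    exact Ideal.sum_mem _ fun n _ => hcon n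
  obtain ⟨n, hn⟩ := hex
  have hnJ : (decompose 𝒜 x n : R) ∈ J := hJ n hxJ
  have hn0 : 0 < n := by
    by_contra hle
    push Not at hle
    apply hn
    rcases lt_or_eq_of_le hle with h | h
    · rw [proj_eq_zero_of_neg 𝒜 hpos x h]; exact zero_mem _
    · subst h
      have h1 := proj_zero_of_mem_irr 𝒜 hpos (hJirr hnJ)
      rw [decompose_coe, of_eq_same] at h1
      rw [h1]; exact zero_mem _
  refine ⟨n.toNat, by omega, (decompose 𝒜 x n : R), ?_, hnJ, hn⟩
  rw [Int.toNat_of_nonneg hn0.le]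
  exact (decompose 𝒜 x n).2

include hpos in
/-- Homogeneous prime avoidance. -/
theorem exists_homogeneous_notMem (s : Finset (Ideal R)) (hprime : ∀ Q ∈ s, Q.IsPrime)
    (hhom : ∀ Q ∈ s, Q.IsHomogeneous 𝒜) (hinc : ∀ Q ∈ s, ∀ Q' ∈ s, Q ≤ Q' → Q = Q')
    (hirr : ∀ Q ∈ s, ¬ irr 𝒜 ≤ Q) :
    ∃ d : ℕ, 0 < d ∧ ∃ a ∈ 𝒜 (d : ℤ), ∀ Q ∈ s, a ∉ Q := by
  classical
  have key : ∀ Q ∈ s, ∃ d : ℕ, 0 < d ∧ ∃ a ∈ 𝒜 (d : ℤ), a ∉ Q ∧ ∀ Q' ∈ s, Q' ≠ Q → a ∈ Q' := by
    intro Q hQ
    have := hprime Q hQ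
    have hJ : (irr 𝒜 ⊓ (s.erase Q).inf id).IsHomogeneous 𝒜 := by
      refine (irr_isHomogeneous 𝒜).inf ?_
      refine Finset.inf_induction (p := Ideal.IsHomogeneous 𝒜) (Ideal.IsHomogeneous.top 𝒜)
        (fun _ h1 _ h2 => h1.inf h2) fun Q' hQ' => hhom Q' (Finset.mem_of_mem_erase hQ')
    have hnle : ¬ (irr 𝒜 ⊓ (s.erase Q).inf id) ≤ Q := by
      intro hle
      rcases (Ideal.IsPrime.inf_le (hprime Q hQ)).mp hle with h | h
      · exact hirr Q hQ h
      · obtain ⟨Q', hQ', hle'⟩ := (Ideal.IsPrime.inf_le' (hprime Q hQ)).mp h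
        have := hinc Q' (Finset.mem_of_mem_erase hQ') Q hQ hle'
        exact (Finset.ne_of_mem_erase hQ') this
    obtain ⟨d, hd, a, had, haJ, haQ⟩ :=
      exists_homogeneous_notMem_of_not_le 𝒜 hpos hJ inf_le_left hnle
    refine ⟨d, hd, a, had, haQ, fun Q' hQ' hne => ?_⟩
    have h1 : a ∈ (s.erase Q).inf id := haJ.2
    have h2 : (s.erase Q).inf id ≤ Q' := Finset.inf_le (f := id) (Finset.mem_erase.mpr ⟨hne, hQ'⟩)
    exact h2 h1
  choose! d hd a had haQ haQ' using key
  refine ⟨∏ Q ∈ s, d Q, Finset.prod_pos hd, ∑ Q ∈ s, a Q ^ (∏ Q' ∈ s.erase Q, d Q'), ?_, ?_⟩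
  · refine Submodule.sum_mem _ fun Q hQ => ?_
    have h1 := SetLike.pow_mem_graded (∏ Q' ∈ s.erase Q, d Q') (had Q hQ)
    have h2 : (∏ Q' ∈ s.erase Q, d Q') • ((d Q : ℕ) : ℤ) = ((∏ Q ∈ s, d Q : ℕ) : ℤ) := by
      rw [← Finset.mul_prod_erase s d hQ, nsmul_eq_mul]
      push_cast
      ring
    rw [h2] at h1
    exact h1
  · intro Q hQ hmem
    have := hprime Q hQ
    rw [← Finset.add_sum_erase s _ hQ] at hmem
    have h1 : ∑ Q' ∈ s.erase Q, a Q' ^ (∏ Q'' ∈ s.erase Q', d Q'') ∈ Q := by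
      refine Ideal.sum_mem _ fun Q' hQ' => ?_
      have hne : Q ≠ Q' := (Finset.ne_of_mem_erase hQ').symm
      have hQ's : Q' ∈ s := Finset.mem_of_mem_erase hQ'
      refine Ideal.pow_mem_of_mem _ (haQ' Q' hQ's Q hQ hne) _ ?_
      exact Finset.prod_pos fun Q'' hQ'' => hd Q'' (Finset.mem_of_mem_erase hQ'')
    have h2 : a Q ^ (∏ Q' ∈ s.erase Q, d Q') ∈ Q := by
      have := Q.sub_mem hmem h1
      rwa [add_sub_cancel_right] at this
    exact haQ Q hQ (Ideal.IsPrime.mem_of_pow_mem inferInstance _ h2)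

theorem span_range_isHomogeneous {ι : Type*} (θ : ι → R) (d : ι → ℤ) (hθ : ∀ j, θ j ∈ 𝒜 (d j)) :
    (Ideal.span (Set.range θ)).IsHomogeneous 𝒜 := by
  apply Ideal.homogeneous_span
  rintro _ ⟨j, rfl⟩
  exact ⟨d j, hθ j⟩

include hpos h0 in
theorem exists_hsop_aux [IsNoetherianRing R] [Nontrivial R] (i : ℕ) :
    ∃ (θ : Fin i → R) (d : Fin i → ℕ), (∀ j, 0 < d j ∧ θ j ∈ 𝒜 (d j : ℤ)) ∧
      ∀ Q ∈ (Ideal.span (Set.range θ)).minimalPrimes, ¬ irr 𝒜 ≤ Q → (i : ℕ∞) ≤ Q.height := by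
  classical
  induction i with
  | zero =>
    exact ⟨Fin.elim0, Fin.elim0, fun j => j.elim0, fun Q _ _ => by simp⟩
  | succ i ih =>
    obtain ⟨θ, d, hθ, hQ⟩ := ih
    set J := Ideal.span (Set.range θ) with hJdef
    have hJhom : J.IsHomogeneous 𝒜 :=
      span_range_isHomogeneous 𝒜 θ (fun j => (d j : ℤ)) fun j => (hθ j).2
    have hfin : J.minimalPrimes.Finite := Ideal.finite_minimalPrimes_of_isNoetherianRing R J
    let s : Finset (Ideal R) := hfin.toFinset.filter fun Q => ¬ irr 𝒜 ≤ Q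
    have hs : ∀ Q, Q ∈ s ↔ Q ∈ J.minimalPrimes ∧ ¬ irr 𝒜 ≤ Q := by
      intro Q; simp [s]
    obtain ⟨e, he, a, hae, haQ⟩ := exists_homogeneous_notMem 𝒜 hpos s
      (fun Q hQs => ((hs Q).mp hQs).1.1.1)
      (fun Q hQs => isHomogeneous_of_mem_minimalPrimes 𝒜 hJhom ((hs Q).mp hQs).1)
      (fun Q hQs Q' hQ's hle => le_antisymm hle
        (((hs Q').mp hQ's).1.2 ((hs Q).mp hQs).1.1 hle))
      (fun Q hQs => ((hs Q).mp hQs).2)
    refine ⟨Fin.snoc θ a, Fin.snoc d e, ?_, ?_⟩
    · intro j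
      refine Fin.lastCases ?_ (fun j => ?_) j
      · simp only [Fin.snoc_last]; exact ⟨he, hae⟩
      · simp only [Fin.snoc_castSucc]; exact hθ j
    · intro Q hQmin hQirr
      have hQp : Q.IsPrime := hQmin.1.1
      have hJQ : J ≤ Q := by
        refine le_trans (Ideal.span_mono ?_) hQmin.1.2
        rintro _ ⟨j, rfl⟩
        exact ⟨j.castSucc, by simp⟩
      have haQ' : a ∈ Q := hQmin.1.2 (Ideal.subset_span ⟨Fin.last i, by simp⟩)
      obtain ⟨Q', hQ'min, hQ'le⟩ := Ideal.exists_minimalPrimes_le hJQ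
      have hQ'irr : ¬ irr 𝒜 ≤ Q' := fun h => hQirr (h.trans hQ'le)
      have hQ's : Q' ∈ s := (hs Q').mpr ⟨hQ'min, hQ'irr⟩
      have hlt : Q' < Q := lt_of_le_of_ne hQ'le fun h => haQ Q' hQ's (h ▸ haQ')
      have hQ'p : Q'.IsPrime := hQ'min.1.1
      have h1 := Ideal.height_add_one_le_of_lt_of_isPrime hlt
      have h2 := hQ Q' hQ'min hQ'irr
      calc ((i + 1 : ℕ) : ℕ∞) = (i : ℕ∞) + 1 := by push_cast; rfl
        _ ≤ Q'.height + 1 := by gcongr
        _ ≤ Q.height := h1

include hpos h0 in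
/-- Existence of a homogeneous system of parameters (possibly of different degrees). -/
theorem exists_hsop' [IsNoetherianRing R] [Nontrivial R] (r : ℕ) (hr : ringKrullDim R ≤ r) :
    ∃ (θ : Fin r → R) (d : Fin r → ℕ), (∀ j, 0 < d j ∧ θ j ∈ 𝒜 (d j : ℤ)) ∧
      irr 𝒜 ≤ (Ideal.span (Set.range θ)).radical := by
  obtain ⟨θ, d, hθ, hQ⟩ := exists_hsop_aux 𝒜 hpos h0 r
  refine ⟨θ, d, hθ, ?_⟩
  rw [← Ideal.sInf_minimalPrimes]
  refine le_sInf fun Q hQmin => ?_
  by_contra hQirr
  have hQp : Q.IsPrime := hQmin.1.1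
  have hJhom : (Ideal.span (Set.range θ)).IsHomogeneous 𝒜 :=
    span_range_isHomogeneous 𝒜 θ (fun j => (d j : ℤ)) fun j => (hθ j).2
  have hQhom := isHomogeneous_of_mem_minimalPrimes 𝒜 hJhom hQmin
  have hle : Q ≤ irr 𝒜 := le_irr_of_isHomogeneous 𝒜 hpos h0 hQhom hQp.ne_top
  have hlt : Q < irr 𝒜 := lt_of_le_of_ne hle fun h => hQirr h.ge
  have hmax := irr_isMaximal 𝒜 hpos h0
  have hip : (irr 𝒜).IsPrime := hmax.isPrime
  have h1 := Ideal.height_add_one_le_of_lt_of_isPrime hlt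
  have h2 := hQ Q hQmin hQirr
  have h3 : ((irr 𝒜).height : WithBot ℕ∞) ≤ ringKrullDim R :=
    Ideal.height_le_ringKrullDim_of_ne_top hip.ne_top
  have h4 : ((r : ℕ∞) + 1 : ℕ∞) ≤ (irr 𝒜).height := le_trans (by gcongr) h1
  have h5 : (((r : ℕ∞) + 1 : ℕ∞) : WithBot ℕ∞) ≤ (r : WithBot ℕ∞) :=
    le_trans (WithBot.coe_le_coe.mpr h4) (h3.trans hr)
  have h6 : ((r : ℕ∞) + 1 : ℕ∞) ≤ (r : ℕ∞) := by
    have : ((r : ℕ) : WithBot ℕ∞) = ((r : ℕ∞) : WithBot ℕ∞) := rfl
    rw [this] at h5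
    exact WithBot.coe_le_coe.mp h5
  have h7 : ((r + 1 : ℕ) : ℕ∞) ≤ (r : ℕ∞) := by push_cast; exact h6
  have := Nat.cast_le.mp h7
  omega

/-- Replacing the elements of a family by positive powers does not change the radical of the
ideal they generate. -/
theorem le_radical_span_pow {ι : Type*} (θ : ι → R) (e : ι → ℕ) (I : Ideal R)
    (hI : I ≤ (Ideal.span (Set.range θ)).radical) :
    I ≤ (Ideal.span (Set.range fun j => θ j ^ e j)).radical := by
  refine hI.trans ?_
  rw [Ideal.radical_le_radical_iff, Ideal.span_le]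
  rintro _ ⟨j, rfl⟩
  exact ⟨e j, Ideal.subset_span ⟨j, rfl⟩⟩

include hpos h0 in
/-- Existence of a homogeneous system of parameters all of whose members have the same
positive degree. -/
theorem exists_hsop [IsNoetherianRing R] [Nontrivial R] (r : ℕ) (hr : ringKrullDim R ≤ r) :
    ∃ (N : ℕ) (θ : Fin r → R), 0 < N ∧ (∀ j, θ j ∈ 𝒜 (N : ℤ)) ∧
      irr 𝒜 ≤ (Ideal.span (Set.range θ)).radical := by
  classical
  obtain ⟨θ, d, hθ, hrad⟩ := exists_hsop' 𝒜 hpos h0 r hr
  refine ⟨∏ j, d j, fun j => θ j ^ (∏ l ∈ Finset.univ.erase j, d l),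
    Finset.prod_pos fun j _ => (hθ j).1, fun j => ?_, ?_⟩
  · have h1 := SetLike.pow_mem_graded (∏ l ∈ Finset.univ.erase j, d l) (hθ j).2
    have h2 : (∏ l ∈ Finset.univ.erase j, d l) • ((d j : ℕ) : ℤ) = ((∏ j, d j : ℕ) : ℤ) := by
      rw [← Finset.mul_prod_erase Finset.univ d (Finset.mem_univ j), nsmul_eq_mul]
      push_cast
      ring
    rw [h2] at h1
    exact h1
  · exact le_radical_span_pow θ _ _ hrad

theorem hsop_pow {r : ℕ} {N : ℕ} (θ : Fin r → R) (hθ : ∀ j, θ j ∈ 𝒜 (N : ℤ))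
    (hrad : irr 𝒜 ≤ (Ideal.span (Set.range θ)).radical) (e : ℕ) :
    (∀ j, θ j ^ e ∈ 𝒜 ((N * e : ℕ) : ℤ)) ∧
      irr 𝒜 ≤ (Ideal.span (Set.range fun j => θ j ^ e)).radical := by
  refine ⟨fun j => ?_, le_radical_span_pow θ (fun _ => e) _ hrad⟩
  have h1 := SetLike.pow_mem_graded e (hθ j)
  have h2 : e • ((N : ℕ) : ℤ) = ((N * e : ℕ) : ℤ) := by
    rw [nsmul_eq_mul]; push_cast; ring
  rw [h2] at h1
  exact h1

include hpos in
/-- Graded Nakayama: a `k`-subspace `W`, stable under homogeneous components and under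
multiplication by homogeneous elements `θ j` of positive degree, with `W + (θ) = R`, is all of
`R`. -/
theorem eq_top_of_sup_eq_top {ι : Type*} [Fintype ι] (θ : ι → R) (d : ι → ℤ) (hd : ∀ j, 0 < d j)
    (hθ : ∀ j, θ j ∈ 𝒜 (d j)) (W : Submodule k R)
    (hproj : ∀ w ∈ W, ∀ n, (decompose 𝒜 w n : R) ∈ W) (hmul : ∀ j, ∀ w ∈ W, θ j * w ∈ W)
    (hsup : W ⊔ (Ideal.span (Set.range θ)).restrictScalars k = ⊤) : W = ⊤ := by
  classical
  have key : ∀ m : ℕ, ∀ n : ℤ, n < m → 𝒜 n ≤ W := by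
    intro m
    induction m with
    | zero =>
      intro n hn
      rw [hpos n (by simpa using hn)]
      exact bot_le
    | succ m ih =>
      intro n hn x hx
      have hxtop : x ∈ W ⊔ (Ideal.span (Set.range θ)).restrictScalars k := hsup ▸ Submodule.mem_top
      obtain ⟨w, hw, y, hy, rfl⟩ := Submodule.mem_sup.mp hxtop
      have hy' : y ∈ Ideal.span (Set.range θ) := hy
      obtain ⟨c, rfl⟩ := (Ideal.mem_span_range_iff_exists_fun).mp hy'
      have hx' : w + ∑ j, c j * θ j = (decompose 𝒜 (w + ∑ j, c j * θ j) n : R) :=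
        (decompose_of_mem_same 𝒜 hx).symm
      rw [hx', decompose_add, DirectSum.add_apply, Submodule.coe_add, decompose_sum,
        DFinsupp.finsetSum_apply, AddSubmonoidClass.coe_finsetSum]
      refine W.add_mem (hproj w hw n) (W.sum_mem fun j _ => ?_)
      have h1 := coe_decompose_mul_add_of_right_mem 𝒜 (i := n - d j) (j := d j) (a := c j) (hθ j)
      rw [sub_add_cancel] at h1
      rw [h1, mul_comm]
      refine hmul j _ (ih (n - d j) ?_ (decompose 𝒜 (c j) (n - d j)).2)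
      have := hd j
      push_cast at hn
      omega
  rw [eq_top_iff]
  intro x _
  rw [← sum_support_decompose 𝒜 x]
  refine W.sum_mem fun n _ => ?_
  exact key (n.toNat + 1) n (by push_cast; omega) (decompose 𝒜 x n).2

/-- The `k`-span of the products (monomial in the `θ j`) · (element of `F`). -/
def monoSpan {ι : Type*} (θ : ι → R) (F : Set R) : Submodule k R :=
  Submodule.span k {x | ∃ c ∈ Submonoid.closure (Set.range θ), ∃ f ∈ F, x = c * f}

theorem isHomogeneousElem_of_mem_closure {ι : Type*} (θ : ι → R)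
    (hθ : ∀ j, SetLike.IsHomogeneousElem 𝒜 (θ j)) {c : R}
    (hc : c ∈ Submonoid.closure (Set.range θ)) : SetLike.IsHomogeneousElem 𝒜 c := by
  induction hc using Submonoid.closure_induction with
  | mem x hx => obtain ⟨j, rfl⟩ := hx; exact hθ j
  | one => exact ⟨0, SetLike.one_mem_graded 𝒜⟩
  | mul x y _ _ hx hy =>
    obtain ⟨i, hi⟩ := hx
    obtain ⟨j, hj⟩ := hy
    exact ⟨i + j, SetLike.mul_mem_graded hi hj⟩

theorem subset_monoSpan {ι : Type*} (θ : ι → R) (F : Set R) :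
    F ⊆ (monoSpan (k := k) θ F : Set R) := fun f hf =>
  Submodule.subset_span ⟨1, one_mem _, f, hf, (one_mul f).symm⟩

theorem mul_mem_monoSpan {ι : Type*} (θ : ι → R) (F : Set R) (j : ι) {w : R}
    (hw : w ∈ monoSpan (k := k) θ F) : θ j * w ∈ monoSpan (k := k) θ F := by
  unfold monoSpan at hw ⊢
  induction hw using Submodule.span_induction with
  | mem x hx =>
    obtain ⟨c, hc, f, hf, rfl⟩ := hx
    refine Submodule.subset_span ⟨θ j * c, ?_, f, hf, (mul_assoc _ _ _).symm⟩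
    exact mul_mem (Submonoid.subset_closure ⟨j, rfl⟩) hc
  | zero => rw [mul_zero]; exact zero_mem _
  | add x y _ _ hx hy => rw [mul_add]; exact add_mem hx hy
  | smul a x _ hx => rw [mul_smul_comm]; exact Submodule.smul_mem _ _ hx

theorem proj_mem_monoSpan {ι : Type*} (θ : ι → R)
    (hθ : ∀ j, SetLike.IsHomogeneousElem 𝒜 (θ j)) (F : Set R)
    (hF : ∀ f ∈ F, SetLike.IsHomogeneousElem 𝒜 f) {w : R}
    (hw : w ∈ monoSpan (k := k) θ F) (n : ℤ) :
    (decompose 𝒜 w n : R) ∈ monoSpan (k := k) θ F := by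
  classical
  unfold monoSpan at hw ⊢
  induction hw using Submodule.span_induction with
  | mem x hx =>
    obtain ⟨c, hc, f, hf, rfl⟩ := hx
    obtain ⟨i, hi⟩ := isHomogeneousElem_of_mem_closure 𝒜 θ hθ hc
    obtain ⟨j, hj⟩ := hF f hf
    have hcf : c * f ∈ 𝒜 (i + j) := SetLike.mul_mem_graded hi hj
    by_cases h : i + j = n
    · subst h
      rw [decompose_of_mem_same 𝒜 hcf]
      exact Submodule.subset_span ⟨c, hc, f, hf, rfl⟩
    · rw [decompose_of_mem_ne 𝒜 hcf h]
      exact zero_mem _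
  | zero => simp
  | add x y _ _ hx hy =>
    rw [decompose_add, DirectSum.add_apply, Submodule.coe_add]; exact add_mem hx hy
  | smul a x _ hx =>
    rw [decompose_smul, DirectSum.smul_apply, Submodule.coe_smul]
    exact Submodule.smul_mem _ _ hx

theorem monoSpan_le_span {ι : Type*} (θ : ι → R) (F : Set R) :
    monoSpan (k := k) θ F ≤
      (Submodule.span (Algebra.adjoin k (Set.range θ)) F).restrictScalars k := by
  unfold monoSpan
  rw [Submodule.span_le]
  rintro _ ⟨c, hc, f, hf, rfl⟩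
  have hcA : c ∈ Algebra.adjoin k (Set.range θ) := by
    induction hc using Submonoid.closure_induction with
    | mem x hx => exact Algebra.subset_adjoin hx
    | one => exact one_mem _
    | mul x y _ _ hx hy => exact mul_mem hx hy
  have : c * f = (⟨c, hcA⟩ : Algebra.adjoin k (Set.range θ)) • f := rfl
  rw [this]
  exact Submodule.smul_mem _ _ (Submodule.subset_span hf)

theorem monoSpan_le_adjoin {ι : Type*} (θ : ι → R) :
    monoSpan (k := k) θ {1} ≤ Subalgebra.toSubmodule (Algebra.adjoin k (Set.range θ)) := by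
  unfold monoSpan
  rw [Submodule.span_le]
  rintro _ ⟨c, hc, f, hf, rfl⟩
  rw [Set.mem_singleton_iff.mp hf, mul_one]
  show c ∈ Algebra.adjoin k (Set.range θ)
  induction hc using Submonoid.closure_induction with
  | mem x hx => exact Algebra.subset_adjoin hx
  | one => exact one_mem _
  | mul x y _ _ hx hy => exact mul_mem hx hy

include hpos h0 in
/-- Modulo an ideal whose radical contains the irrelevant ideal, everything is integral over
`k`. -/
theorem isIntegral_quotient (J : Ideal R) (hrad : irr 𝒜 ≤ J.radical) :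
    Algebra.IsIntegral k (R ⧸ J) := by
  classical
  refine ⟨fun y => ?_⟩
  obtain ⟨x, rfl⟩ := Ideal.Quotient.mk_surjective y
  rw [← sum_support_decompose 𝒜 x, map_sum]
  refine IsIntegral.sum _ fun n _ => ?_
  rcases lt_trichotomy n 0 with hn | hn | hn
  · rw [proj_eq_zero_of_neg 𝒜 hpos x hn, map_zero]; exact isIntegral_zero
  · subst hn
    obtain ⟨c, hc⟩ := exists_smul_one_of_mem_zero 𝒜 h0 (decompose 𝒜 x 0).2
    rw [← hc]
    have : Ideal.Quotient.mk J (c • (1 : R)) = algebraMap k (R ⧸ J) c := by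
      rw [Algebra.smul_def, mul_one]; rfl
    rw [this]
    exact isIntegral_algebraMap
  · have h1 : (decompose 𝒜 x n : R) ∈ J.radical :=
      hrad (mem_irr_of_mem 𝒜 hn (decompose 𝒜 x n).2)
    obtain ⟨e, he⟩ := h1
    have he' : Ideal.Quotient.mk J (decompose 𝒜 x n : R) ^ (e + 1) = 0 := by
      rw [← map_pow, Ideal.Quotient.eq_zero_iff_mem, pow_succ]
      exact J.mul_mem_right _ he
    refine IsIntegral.of_pow (Nat.succ_pos e) ?_
    rw [he']
    exact isIntegral_zero

include hpos h0 in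
/-- A graded algebra of finite type is finite over the subalgebra generated by a homogeneous
system of parameters. -/
theorem finite_of_irr_le_radical [Algebra.FiniteType k R] {ι : Type*} [Fintype ι] (θ : ι → R)
    (d : ι → ℤ) (hd : ∀ j, 0 < d j) (hθ : ∀ j, θ j ∈ 𝒜 (d j))
    (hrad : irr 𝒜 ≤ (Ideal.span (Set.range θ)).radical) :
    Module.Finite (Algebra.adjoin k (Set.range θ)) R := by
  classical
  set J := Ideal.span (Set.range θ) with hJ
  have hint := isIntegral_quotient 𝒜 hpos h0 J hrad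
  have hfin : Module.Finite k (R ⧸ J) := Algebra.IsIntegral.finite
  obtain ⟨G, hG⟩ := hfin.1
  choose lift hlift using fun y : R ⧸ J => Ideal.Quotient.mk_surjective y
  let F : Finset R := G.biUnion fun g =>
    (decompose 𝒜 (lift g)).support.image fun n => (decompose 𝒜 (lift g) n : R)
  have hFhom : ∀ f ∈ (F : Set R), SetLike.IsHomogeneousElem 𝒜 f := by
    intro f hf
    simp only [F, Finset.coe_biUnion, Finset.coe_image, Set.mem_iUnion, Set.mem_image] at hf
    obtain ⟨g, -, n, -, rfl⟩ := hf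
    exact ⟨n, (decompose 𝒜 (lift g) n).2⟩
  have hliftF : ∀ g ∈ G, lift g ∈ Submodule.span k (F : Set R) := by
    intro g hg
    rw [← sum_support_decompose 𝒜 (lift g)]
    refine Submodule.sum_mem _ fun n hn => Submodule.subset_span ?_
    simp only [F, Finset.coe_biUnion, Finset.coe_image, Set.mem_iUnion, Set.mem_image]
    exact ⟨g, hg, n, hn, rfl⟩
  have hθhom : ∀ j, SetLike.IsHomogeneousElem 𝒜 (θ j) := fun j => ⟨d j, hθ j⟩
  have hsup : monoSpan (k := k) θ (F : Set R) ⊔ J.restrictScalars k = ⊤ := by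
    rw [eq_top_iff]
    intro x _
    have h1 : Ideal.Quotient.mk J x ∈ Submodule.span k (G : Set (R ⧸ J)) := by
      rw [hG]; exact Submodule.mem_top
    have h2 : Submodule.span k (G : Set (R ⧸ J)) ≤
        (Submodule.span k (F : Set R)).map (Ideal.Quotient.mkₐ k J).toLinearMap := by
      rw [Submodule.span_le]
      intro g hg
      exact ⟨lift g, hliftF g hg, hlift g⟩
    obtain ⟨z, hz, hzx⟩ := h2 h1
    have h3 : x - z ∈ J := by
      rw [← Ideal.Quotient.eq_zero_iff_mem, map_sub, sub_eq_zero]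
      exact hzx.symm
    have : x = z + (x - z) := by ring
    rw [this]
    refine Submodule.add_mem_sup (Submodule.span_le.mpr (subset_monoSpan θ _) hz) h3
  have htop := eq_top_of_sup_eq_top 𝒜 hpos θ d hd hθ (monoSpan (k := k) θ (F : Set R))
    (fun w hw n => proj_mem_monoSpan 𝒜 θ hθhom _ hFhom hw n)
    (fun j w hw => mul_mem_monoSpan θ _ j hw) hsup
  have hspan : Submodule.span (Algebra.adjoin k (Set.range θ)) (F : Set R) = ⊤ := by
    rw [eq_top_iff]
    intro x _
    have h1 : x ∈ monoSpan (k := k) θ (F : Set R) := by rw [htop]; exact Submodule.mem_top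
    have h2 := monoSpan_le_span θ (F : Set R) h1
    exact (Submodule.restrictScalars_mem k _ x).mp h2
  exact Module.Finite.of_fg_top ⟨F, hspan⟩

include hpos h0 in
/-- A Noetherian graded algebra with `𝒜 0 = k` is of finite type over `k`. -/
theorem finiteType_of_isNoetherianRing [IsNoetherianRing R] : Algebra.FiniteType k R := by
  classical
  have hfg : (irr 𝒜).FG := IsNoetherian.noetherian _
  unfold irr at hfg
  obtain ⟨s', hs's, hs'⟩ := (Submodule.fg_span_iff_fg_span_finset_subset _).mp hfg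
  have hdeg : ∀ x : s', ∃ n : ℤ, 0 < n ∧ (x : R) ∈ 𝒜 n := by
    intro x
    have := hs's x.2
    simp only [Set.mem_iUnion] at this
    obtain ⟨n, hn, hx⟩ := this
    exact ⟨n, hn, hx⟩
  choose d hd hθ using hdeg
  have hrange : Set.range (fun x : s' => (x : R)) = (s' : Set R) := by
    ext x; simp
  have hsup : monoSpan (k := k) (fun x : s' => (x : R)) {1} ⊔
      (Ideal.span (Set.range fun x : s' => (x : R))).restrictScalars k = ⊤ := by
    rw [eq_top_iff]
    intro x _
    have h1 := sub_proj_zero_mem_irr 𝒜 hpos x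
    obtain ⟨c, hc⟩ := exists_smul_one_of_mem_zero 𝒜 h0 (decompose 𝒜 x 0).2
    have : x = c • (1 : R) + (x - (decompose 𝒜 x 0 : R)) := by rw [hc]; ring
    rw [this]
    refine Submodule.add_mem_sup (Submodule.smul_mem _ _ (subset_monoSpan _ _ rfl)) ?_
    show x - (decompose 𝒜 x 0 : R) ∈ Ideal.span (Set.range fun x : s' => (x : R))
    rw [hrange]
    have h2 : Ideal.span (s' : Set R) = irr 𝒜 := hs'.symm
    rw [h2]
    exact h1
  have htop := eq_top_of_sup_eq_top 𝒜 hpos (fun x : s' => (x : R)) d hd hθ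
    (monoSpan (k := k) (fun x : s' => (x : R)) {1})
    (fun w hw n => proj_mem_monoSpan 𝒜 _ (fun j => ⟨d j, hθ j⟩) _
      (fun f hf => by rw [Set.mem_singleton_iff.mp hf]; exact ⟨0, SetLike.one_mem_graded 𝒜⟩) hw n)
    (fun j w hw => mul_mem_monoSpan _ _ j hw) hsup
  refine ⟨⟨s', ?_⟩⟩
  rw [eq_top_iff]
  intro x _
  have h1 : x ∈ monoSpan (k := k) (fun x : s' => (x : R)) {1} := by
    rw [htop]; exact Submodule.mem_top
  have h2 := monoSpan_le_adjoin (k := k) (fun x : s' => (x : R)) h1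
  rw [hrange] at h2
  exact h2

/-- A family of `r = dim R` elements over which `R` is finite is algebraically independent. -/
theorem algebraicIndependent_of_finite (r : ℕ) (hr : ringKrullDim R = r) (θ : Fin r → R)
    [Module.Finite (Algebra.adjoin k (Set.range θ)) R] : AlgebraicIndependent k θ := by
  classical
  rw [algebraicIndependent_iff_injective_aeval, injective_iff_map_eq_zero]
  intro f hf
  by_contra hne
  -- the dimension of the subalgebra
  have hint : Algebra.IsIntegral (Algebra.adjoin k (Set.range θ)) R := inferInstance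
  have hdim : ringKrullDim (Algebra.adjoin k (Set.range θ)) = ringKrullDim R :=
    Groth.Agent.Lib.Helper12.ringKrullDim_eq_of_isIntegral_of_injective _ R
      Subtype.val_injective
  -- the surjection from the quotient of the polynomial ring
  have hrange : (MvPolynomial.aeval θ : MvPolynomial (Fin r) k →ₐ[k] R).range =
      Algebra.adjoin k (Set.range θ) := (Algebra.adjoin_range_eq_range_aeval k θ).symm
  let φ : MvPolynomial (Fin r) k →ₐ[k] Algebra.adjoin k (Set.range θ) :=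
    (MvPolynomial.aeval θ).codRestrict _ fun p => by
      rw [← hrange]; exact ⟨p, rfl⟩
  have hφsurj : Function.Surjective φ := by
    rintro ⟨y, hy⟩
    rw [← hrange] at hy
    obtain ⟨p, hp⟩ := hy
    exact ⟨p, Subtype.ext hp⟩
  have hφf : φ f = 0 := Subtype.ext hf
  let ψ : MvPolynomial (Fin r) k ⧸ Ideal.span {f} →+* Algebra.adjoin k (Set.range θ) :=
    Ideal.Quotient.lift _ φ.toRingHom (by
      intro a ha
      obtain ⟨b, rfl⟩ := Ideal.mem_span_singleton'.mp ha
      show φ (b * f) = 0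
      rw [map_mul, hφf, mul_zero])
  have hψsurj : Function.Surjective ψ := by
    intro y
    obtain ⟨p, rfl⟩ := hφsurj y
    exact ⟨Ideal.Quotient.mk _ p, rfl⟩
  have h1 := ringKrullDim_le_of_surjective ψ hψsurj
  have h2 := ringKrullDim_quotient_succ_le_of_nonZeroDivisor
    (mem_nonZeroDivisors_of_ne_zero hne)
  have h3 : ringKrullDim (MvPolynomial (Fin r) k) = ringKrullDim k + Nat.card (Fin r) :=
    MvPolynomial.ringKrullDim_of_isNoetherianRing
  rw [ringKrullDim_eq_zero_of_field, zero_add, Nat.card_fin] at h3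
  rw [hdim, hr] at h1
  rw [h3] at h2
  have h4 : ((r : ℕ) : WithBot ℕ∞) + 1 ≤ (r : ℕ) := le_trans (by gcongr) h2
  have h5 : (((r + 1 : ℕ) : ℕ∞) : WithBot ℕ∞) ≤ ((r : ℕ∞) : WithBot ℕ∞) := by
    have : (((r + 1 : ℕ) : ℕ∞) : WithBot ℕ∞) = ((r : ℕ) : WithBot ℕ∞) + 1 := by
      push_cast; rfl
    rw [this]; exact h4
  have h6 := Nat.cast_le.mp (WithBot.coe_le_coe.mp h5)
  omega

end Groth.Agent.Lib.Helper20.GradedNN
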