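import Mathlib
import Groth.Prelude.Def_GrSeg
import Groth.Agent.Lib.Helper9.Segre

/-!
# Segre products of graded modules
-/

set_option autoImplicit false
universe u

namespace Groth.Agent.Lib.Helper20.SegreMod

open TensorProduct DirectSum

section Act

variable (k : Type u) [CommRing k] (R S : Type u) [CommRing R] [CommRing S] [Algebra k R] [Algebra k S]
  (M N : Type u) [AddCommGroup M] [Module R M] [Module k M] [IsScalarTower k R M]
  [AddCommGroup N] [Module S N] [Module k N] [IsScalarTower k S N]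

theorem act_one (z : M ⊗[k] N) : GrSeg.act k R S M N 1 z = z := by
  induction z using TensorProduct.induction_on with
  | zero => simp
  | tmul m n => rw [Algebra.TensorProduct.one_def, GrSeg.act_tmul, one_smul, one_smul]
  | add x y hx hy => rw [map_add, hx, hy]

theorem act_mul (x y : R ⊗[k] S) (z : M ⊗[k] N) :
    GrSeg.act k R S M N (x * y) z = GrSeg.act k R S M N x (GrSeg.act k R S M N y z) := by
  induction x using TensorProduct.induction_on with
  | zero => simp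
  | add x x' hx hx' => rw [add_mul, map_add, LinearMap.add_apply, hx, hx', map_add, LinearMap.add_apply]
  | tmul a b =>
    induction y using TensorProduct.induction_on with
    | zero => simp
    | add y y' hy hy' =>
      rw [mul_add, map_add, LinearMap.add_apply, hy, hy', map_add, LinearMap.add_apply, map_add]
    | tmul a' b' =>
      induction z using TensorProduct.induction_on with
      | zero => simp
      | add z z' hz hz' => simp only [map_add, hz, hz']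
      | tmul m n =>
        rw [Algebra.TensorProduct.tmul_mul_tmul, GrSeg.act_tmul, GrSeg.act_tmul, GrSeg.act_tmul,
          mul_smul, mul_smul]

/-- The action as a ring homomorphism into endomorphisms. -/
noncomputable def actHom : (R ⊗[k] S) →+* Module.End k (M ⊗[k] N) where
  toFun := GrSeg.act k R S M N
  map_one' := LinearMap.ext fun z => act_one k R S M N z
  map_mul' := fun x y => LinearMap.ext fun z => act_mul k R S M N x y z
  map_zero' := map_zero _
  map_add' := map_add _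

/-- The module structure of `R ⊗ S` on `M ⊗ N`. -/
@[reducible] noncomputable def modRS : Module (R ⊗[k] S) (M ⊗[k] N) :=
  Module.compHom (M ⊗[k] N) (actHom k R S M N)

theorem smul_def (x : R ⊗[k] S) (z : M ⊗[k] N) :
    letI := modRS k R S M N
    x • z = GrSeg.act k R S M N x z := rfl

theorem finite_modRS [Module.Finite R M] [Module.Finite S N] :
    letI := modRS k R S M N
    Module.Finite (R ⊗[k] S) (M ⊗[k] N) := by
  classical
  letI := modRS k R S M N
  obtain ⟨sM, hsM⟩ := (Module.finite_def (R := R) (M := M)).mp inferInstance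
  obtain ⟨sN, hsN⟩ := (Module.finite_def (R := S) (M := N)).mp inferInstance
  refine ⟨⟨Finset.image₂ (fun m n => m ⊗ₜ[k] n) sM sN, ?_⟩⟩
  rw [eq_top_iff]
  set W : Submodule (R ⊗[k] S) (M ⊗[k] N) :=
    Submodule.span (R ⊗[k] S) (Finset.image₂ (fun m n => m ⊗ₜ[k] n) sM sN : Set (M ⊗[k] N)) with hW
  have key : ∀ m : M, ∀ n : N, m ⊗ₜ[k] n ∈ W := by
    intro m n
    have hm : m ∈ Submodule.span R (sM : Set M) := by rw [hsM]; trivial
    have hn : n ∈ Submodule.span S (sN : Set N) := by rw [hsN]; trivial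
    induction hm using Submodule.span_induction with
    | zero => rw [TensorProduct.zero_tmul]; exact zero_mem _
    | add x y _ _ hx hy => rw [TensorProduct.add_tmul]; exact add_mem hx hy
    | mem m hm =>
      induction hn using Submodule.span_induction with
      | zero => rw [TensorProduct.tmul_zero]; exact zero_mem _
      | add x y _ _ hx hy => rw [TensorProduct.tmul_add]; exact add_mem hx hy
      | mem n hn =>
        exact Submodule.subset_span (Finset.mem_coe.mpr (Finset.mem_image₂_of_mem hm hn))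
      | smul s n _ hn' =>
        have : m ⊗ₜ[k] (s • n) = ((1 : R) ⊗ₜ[k] s) • (m ⊗ₜ[k] n) := by
          rw [smul_def, GrSeg.act_tmul, one_smul]
        rw [this]
        exact Submodule.smul_mem _ _ hn'
    | smul r m _ hm' =>
      have : (r • m) ⊗ₜ[k] n = (r ⊗ₜ[k] (1 : S)) • (m ⊗ₜ[k] n) := by
        rw [smul_def, GrSeg.act_tmul, one_smul]
      rw [this]
      exact Submodule.smul_mem _ _ hm'
  intro z _
  induction z using TensorProduct.induction_on with
  | zero => exact zero_mem _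
  | tmul m n => exact key m n
  | add x y hx hy => exact add_mem (hx trivial) (hy trivial)

end Act

section Grading

variable {k : Type u} [CommRing k] {ι : Type} [DecidableEq ι]
  {M : Type u} [AddCommGroup M] [Module k M]
  (ℳ : ι → AddSubgroup M) [DirectSum.Decomposition ℳ]
  (hsm : ∀ (n : ι) (c : k) (x : M), x ∈ ℳ n → c • x ∈ ℳ n)

/-- The pieces as `k`-submodules. -/
def subM (n : ι) : Submodule k M :=
  { (ℳ n) with smul_mem' := fun c x hx => hsm n c x hx }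

theorem mem_subM {n : ι} {x : M} : x ∈ subM ℳ hsm n ↔ x ∈ ℳ n := Iff.rfl

/-- The comparison of direct sums. -/
def toSub : (⨁ i, ℳ i) →+ ⨁ i, subM ℳ hsm i :=
  DirectSum.map (fun i =>
    ({ toFun := fun x => ⟨x.1, x.2⟩
       map_zero' := rfl
       map_add' := fun _ _ => rfl } : ℳ i →+ subM ℳ hsm i))

theorem coe_toSub (x : ⨁ i, ℳ i) :
    DirectSum.coeAddMonoidHom (subM ℳ hsm) (toSub ℳ hsm x) = DirectSum.coeAddMonoidHom ℳ x := by
  induction x using DirectSum.induction_on with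
  | zero => simp
  | of i x =>
    rw [toSub, DirectSum.map_of, DirectSum.coeAddMonoidHom_of, DirectSum.coeAddMonoidHom_of]
    rfl
  | add x y hx hy => rw [map_add, map_add, hx, hy, map_add]

theorem toSub_decompose_coe (x : ⨁ i, subM ℳ hsm i) :
    toSub ℳ hsm (DirectSum.decompose ℳ (DirectSum.coeAddMonoidHom (subM ℳ hsm) x)) = x := by
  induction x using DirectSum.induction_on with
  | zero => simp
  | of i x =>
    rw [DirectSum.coeAddMonoidHom_of]
    have h1 : DirectSum.decompose ℳ (x : M) = DirectSum.of (fun i => ℳ i) i ⟨x.1, x.2⟩ :=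
      DirectSum.decompose_of_mem ℳ x.2
    rw [h1, toSub, DirectSum.map_of]
    rfl
  | add x y hx hy =>
    rw [map_add, DirectSum.decompose_add, map_add, hx, hy]

noncomputable instance instDecompSubM : DirectSum.Decomposition (subM ℳ hsm) where
  decompose' := fun m => toSub ℳ hsm (DirectSum.decompose ℳ m)
  left_inv := fun m => by
    show DirectSum.coeAddMonoidHom (subM ℳ hsm) (toSub ℳ hsm (DirectSum.decompose ℳ m)) = m
    rw [coe_toSub]
    exact DirectSum.Decomposition.left_inv m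
  right_inv := toSub_decompose_coe ℳ hsm

end Grading

section Diag

variable {k : Type u} [CommRing k] {ι : Type} [DecidableEq ι]
  {M N : Type u} [AddCommGroup M] [Module k M] [AddCommGroup N] [Module k N]
  (ℳ : ι → Submodule k M) [DirectSum.Decomposition ℳ]
  (𝒩 : ι → Submodule k N) [DirectSum.Decomposition 𝒩]

/-- Induction principle: every element of `M ⊗ N` is a sum of bihomogeneous pure tensors. -/
theorem bihom_inductionM {P : M ⊗[k] N → Prop} (h0 : P 0) (hadd : ∀ x y, P x → P y → P (x + y))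
    (hom : ∀ (i j : ι) (a : M) (_ : a ∈ ℳ i) (b : N) (_ : b ∈ 𝒩 j), P (a ⊗ₜ[k] b))
    (x : M ⊗[k] N) : P x := by
  induction x using TensorProduct.induction_on with
  | zero => exact h0
  | add x y hx hy => exact hadd x y hx hy
  | tmul a b =>
    induction a using DirectSum.Decomposition.inductionOn ℳ with
    | zero => rw [TensorProduct.zero_tmul]; exact h0
    | add a a' ha ha' => rw [TensorProduct.add_tmul]; exact hadd _ _ ha ha'
    | homogeneous a =>
      rename_i i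
      induction b using DirectSum.Decomposition.inductionOn 𝒩 with
      | zero => rw [TensorProduct.tmul_zero]; exact h0
      | add b b' hb hb' => rw [TensorProduct.tmul_add]; exact hadd _ _ hb hb'
      | homogeneous b =>
        rename_i j
        exact hom i j a a.2 b b.2

/-- The diagonal projection on `M ⊗ N`. -/
noncomputable def diagM : M ⊗[k] N →ₗ[k] M ⊗[k] N :=
  (DirectSum.toModule k (ι × ι) (M ⊗[k] N)
      (fun ij => if ij.1 = ij.2 then TensorProduct.map (ℳ ij.1).subtype (𝒩 ij.2).subtype else 0)) ∘ₗ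
    (TensorProduct.directSum k k (fun i => ℳ i) (fun j => 𝒩 j)).toLinearMap ∘ₗ
    (TensorProduct.congr (DirectSum.decomposeLinearEquiv ℳ)
      (DirectSum.decomposeLinearEquiv 𝒩)).toLinearMap

theorem diagM_tmul_of_mem {i j : ι} {a : M} (ha : a ∈ ℳ i) {b : N} (hb : b ∈ 𝒩 j) :
    diagM ℳ 𝒩 (a ⊗ₜ[k] b) = if i = j then a ⊗ₜ[k] b else 0 := by
  lift a to ℳ i using ha
  lift b to 𝒩 j using hb
  simp only [diagM, LinearMap.comp_apply, LinearEquiv.coe_coe, TensorProduct.congr_tmul,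
    DirectSum.decomposeLinearEquiv_apply, DirectSum.decompose_coe]
  rw [← DirectSum.lof_eq_of k, ← DirectSum.lof_eq_of k, TensorProduct.directSum_lof_tmul_lof,
    DirectSum.toModule_lof]
  split_ifs with h
  · simp
  · simp

end Diag

section Segre

variable {k : Type u} [Field k] {R : Type u} [CommRing R] [Algebra k R]
  (𝒜 : ℤ → Submodule k R) [GradedAlgebra 𝒜]
  {M : Type u} [AddCommGroup M] [Module R M] [Module k M] [IsScalarTower k R M]
  (ℳ : ℤ → AddSubgroup M) [SetLike.GradedSMul 𝒜 ℳ]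

include 𝒜 in
theorem smul_mem_piece (n : ℤ) (c : k) (x : M) (hx : x ∈ ℳ n) : c • x ∈ ℳ n := by
  have h1 : algebraMap k R c ∈ 𝒜 0 := by
    rw [Algebra.algebraMap_eq_smul_one]
    exact Submodule.smul_mem _ _ SetLike.GradedOne.one_mem
  have h2 : algebraMap k R c • x ∈ ℳ ((0 : ℤ) +ᵥ n) :=
    SetLike.GradedSMul.smul_mem (A := 𝒜) (B := ℳ) h1 hx
  rwa [vadd_eq_add, zero_add, algebraMap_smul] at h2

end Segre

section Segre2

variable {k : Type u} [Field k] {R : Type u} [CommRing R] [Algebra k R]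
  (𝒜 : ℤ → Submodule k R) [GradedAlgebra 𝒜]
  {S : Type u} [CommRing S] [Algebra k S] (ℬ : ℤ → Submodule k S) [GradedAlgebra ℬ]
  {T : Type u} [CommRing T] [Algebra k T] (𝒯 : ℤ → Submodule k T) [GradedAlgebra 𝒯]
  (ψ : T →ₐ[k] R ⊗[k] S)
  {M : Type u} [AddCommGroup M] [Module R M] [Module k M] [IsScalarTower k R M]
  (ℳ : ℤ → AddSubgroup M) [DirectSum.Decomposition ℳ] [SetLike.GradedSMul 𝒜 ℳ]
  {N : Type u} [AddCommGroup N] [Module S N] [Module k N] [IsScalarTower k S N]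
  (𝒩 : ℤ → AddSubgroup N) [DirectSum.Decomposition 𝒩] [SetLike.GradedSMul ℬ 𝒩]
  {P : Type u} [AddCommGroup P] [Module T P] [Module k P] [IsScalarTower k T P]
  (𝒬 : ℤ → AddSubgroup P) [DirectSum.Decomposition 𝒬]
  (φ : P →ₗ[k] M ⊗[k] N)

/-- The diagonal projection on `M ⊗ N` for `AddSubgroup` gradings. -/
noncomputable def piMN : M ⊗[k] N →ₗ[k] M ⊗[k] N :=
  diagM (subM ℳ (smul_mem_piece 𝒜 ℳ)) (subM 𝒩 (smul_mem_piece ℬ 𝒩))

theorem piMN_tmul {i j : ℤ} {a : M} (ha : a ∈ ℳ i) {b : N} (hb : b ∈ 𝒩 j) :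
    piMN 𝒜 ℬ ℳ 𝒩 (a ⊗ₜ[k] b) = if i = j then a ⊗ₜ[k] b else 0 :=
  diagM_tmul_of_mem _ _ (i := i) (j := j) ha hb

theorem piMN_of_mem_segrePiece {n : ℤ} {z : M ⊗[k] N} (hz : z ∈ GrSeg.segrePiece k ℳ 𝒩 n) :
    piMN 𝒜 ℬ ℳ 𝒩 z = z := by
  induction hz using Submodule.span_induction with
  | mem x hx =>
    obtain ⟨a, ha, b, hb, rfl⟩ := hx
    rw [piMN_tmul 𝒜 ℬ ℳ 𝒩 ha hb, if_pos rfl]
  | zero => simp
  | add x y _ _ hx hy => rw [map_add, hx, hy]
  | smul c x _ hx => rw [map_smul, hx]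

variable {ψ ℳ 𝒩 𝒬 φ} in
theorem phi_mem_segrePiece (hP : GrSeg.IsSegreMod ψ ℳ 𝒩 𝒬 φ) {n : ℤ} {p : P} (hp : p ∈ 𝒬 n) :
    φ p ∈ GrSeg.segrePiece k ℳ 𝒩 n := by
  have : φ p ∈ φ '' (𝒬 n : Set P) := ⟨p, hp, rfl⟩
  rw [hP.image_piece n] at this
  exact this

variable {ψ ℳ 𝒩 𝒬 φ} in
theorem piMN_phi (hP : GrSeg.IsSegreMod ψ ℳ 𝒩 𝒬 φ) (p : P) :
    piMN 𝒜 ℬ ℳ 𝒩 (φ p) = φ p := by
  induction p using DirectSum.Decomposition.inductionOn 𝒬 with
  | zero => simp
  | add p p' hp hp' => rw [map_add, map_add, hp, hp']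
  | homogeneous p => exact piMN_of_mem_segrePiece 𝒜 ℬ ℳ 𝒩 (phi_mem_segrePiece hP p.2)

theorem piMN_act_of_mem_segrePiece (x : R ⊗[k] S) {n : ℤ} {z : M ⊗[k] N}
    (hz : z ∈ GrSeg.segrePiece k ℳ 𝒩 n) :
    piMN 𝒜 ℬ ℳ 𝒩 (GrSeg.act k R S M N x z) =
      GrSeg.act k R S M N (Helper9.Segre.diagProj 𝒜 ℬ x) z := by
  induction hz using Submodule.span_induction with
  | mem z hz =>
    obtain ⟨a', ha', b', hb', rfl⟩ := hz
    induction x using Helper9.Segre.bihom_induction 𝒜 ℬ with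
    | h0 => simp
    | hadd x y hx hy =>
      rw [map_add, LinearMap.add_apply, map_add, hx, hy, map_add, map_add, LinearMap.add_apply]
    | hom i j a ha b hb =>
      rw [GrSeg.act_tmul, Helper9.Segre.diagProj_tmul_of_mem 𝒜 ℬ ha hb]
      have h1 : a • a' ∈ ℳ (i + n) := by
        have := SetLike.GradedSMul.smul_mem (A := 𝒜) (B := ℳ) ha ha'
        rwa [vadd_eq_add] at this
      have h2 : b • b' ∈ 𝒩 (j + n) := by
        have := SetLike.GradedSMul.smul_mem (A := ℬ) (B := 𝒩) hb hb'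
        rwa [vadd_eq_add] at this
      rw [piMN_tmul 𝒜 ℬ ℳ 𝒩 h1 h2]
      by_cases h : i = j
      · rw [if_pos h, if_pos (by rw [h]), GrSeg.act_tmul]
      · rw [if_neg h, if_neg (fun h' => h (add_right_cancel h')), map_zero, LinearMap.zero_apply]
  | zero => simp
  | add z z' _ _ hz hz' => rw [map_add, map_add, hz, hz', map_add]
  | smul c z _ hz => rw [map_smul, map_smul, hz, map_smul]

variable {ψ ℳ 𝒩 𝒬 φ} in
theorem piMN_act_phi (hP : GrSeg.IsSegreMod ψ ℳ 𝒩 𝒬 φ) (x : R ⊗[k] S) (p : P) :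
    piMN 𝒜 ℬ ℳ 𝒩 (GrSeg.act k R S M N x (φ p)) =
      GrSeg.act k R S M N (Helper9.Segre.diagProj 𝒜 ℬ x) (φ p) := by
  induction p using DirectSum.Decomposition.inductionOn 𝒬 with
  | zero => simp
  | add p p' hp hp' => simp only [map_add, hp, hp']
  | homogeneous p =>
    exact piMN_act_of_mem_segrePiece 𝒜 ℬ ℳ 𝒩 x (phi_mem_segrePiece hP p.2)

variable {𝒜 ℬ 𝒯 ψ} in
theorem exists_psi_eq_diagProj (hT : GrSeg.IsSegreRing 𝒜 ℬ 𝒯 ψ) (x : R ⊗[k] S) :
    ∃ t : T, ψ t = Helper9.Segre.diagProj 𝒜 ℬ x :=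
  Helper9.Segre.diagProj_mem_range 𝒜 ℬ 𝒯 ψ hT.2 x

end Segre2

section Main

variable {k : Type u} [Field k] {R : Type u} [CommRing R] [Algebra k R]
  (𝒜 : ℤ → Submodule k R) [GradedAlgebra 𝒜]
  {S : Type u} [CommRing S] [Algebra k S] (ℬ : ℤ → Submodule k S) [GradedAlgebra ℬ]
  {T : Type u} [CommRing T] [Algebra k T] (𝒯 : ℤ → Submodule k T) [GradedAlgebra 𝒯]
  (ψ : T →ₐ[k] R ⊗[k] S)
  {M : Type u} [AddCommGroup M] [Module R M] [Module k M] [IsScalarTower k R M]
  (ℳ : ℤ → AddSubgroup M) [DirectSum.Decomposition ℳ] [SetLike.GradedSMul 𝒜 ℳ]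
  {N : Type u} [AddCommGroup N] [Module S N] [Module k N] [IsScalarTower k S N]
  (𝒩 : ℤ → AddSubgroup N) [DirectSum.Decomposition 𝒩] [SetLike.GradedSMul ℬ 𝒩]
  {P : Type u} [AddCommGroup P] [Module T P] [Module k P] [IsScalarTower k T P]
  (𝒬 : ℤ → AddSubgroup P) [DirectSum.Decomposition 𝒬]
  (φ : P →ₗ[k] M ⊗[k] N)

variable {𝒜 ℬ 𝒯 ψ ℳ 𝒩 𝒬 φ} in
/-- The Segre product of finite graded modules is a noetherian module over the Segre product. -/
theorem isNoetherian_segre [Algebra.FiniteType k R] [Algebra.FiniteType k S] [Module.Finite R M]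
    [Module.Finite S N] (hT : GrSeg.IsSegreRing 𝒜 ℬ 𝒯 ψ) (hP : GrSeg.IsSegreMod ψ ℳ 𝒩 𝒬 φ) :
    IsNoetherian T P := by
  classical
  letI := modRS k R S M N
  haveI : Algebra.FiniteType k (R ⊗[k] S) := by
    haveI : Algebra.FiniteType R (R ⊗[k] S) := inferInstance
    exact Algebra.FiniteType.trans (R := k) (S := R) (A := R ⊗[k] S) inferInstance inferInstance
  haveI : IsNoetherianRing (R ⊗[k] S) := Algebra.FiniteType.isNoetherianRing k _
  haveI : Module.Finite (R ⊗[k] S) (M ⊗[k] N) := finite_modRS k R S M N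
  haveI : IsNoetherian (R ⊗[k] S) (M ⊗[k] N) := isNoetherian_of_isNoetherianRing_of_finite _ _
  let Ext : Submodule T P → Submodule (R ⊗[k] S) (M ⊗[k] N) :=
    fun Q => Submodule.span (R ⊗[k] S) (φ '' (Q : Set P))
  have key : ∀ (Q : Submodule T P) (z : M ⊗[k] N), z ∈ Ext Q → ∀ c : R ⊗[k] S,
      ∃ q ∈ Q, piMN 𝒜 ℬ ℳ 𝒩 (c • z) = φ q := by
    intro Q z hz
    induction hz using Submodule.span_induction with
    | mem z hz =>
      obtain ⟨q, hq, rfl⟩ := hz
      intro c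
      obtain ⟨t, ht⟩ := exists_psi_eq_diagProj hT c
      refine ⟨t • q, Q.smul_mem t hq, ?_⟩
      rw [smul_def, piMN_act_phi 𝒜 ℬ hP, ← ht, hP.map_smul]
    | zero => intro c; exact ⟨0, Q.zero_mem, by simp⟩
    | add z z' _ _ hz hz' =>
      intro c
      obtain ⟨q, hq, h1⟩ := hz c
      obtain ⟨q', hq', h2⟩ := hz' c
      exact ⟨q + q', Q.add_mem hq hq', by rw [smul_add, map_add, h1, h2, map_add]⟩
    | smul d z _ hz =>
      intro c
      obtain ⟨q, hq, h1⟩ := hz (c * d)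
      exact ⟨q, hq, by rw [← mul_smul, h1]⟩
  have hcontract : ∀ (Q : Submodule T P) (p : P), φ p ∈ Ext Q → p ∈ Q := by
    intro Q p hp
    obtain ⟨q, hq, h⟩ := key Q _ hp 1
    rw [one_smul, piMN_phi 𝒜 ℬ hP] at h
    rw [hP.injective h]
    exact hq
  rw [isNoetherian_iff']
  have hmono : StrictMono Ext := by
    apply Monotone.strictMono_of_injective
    · intro Q Q' h
      exact Submodule.span_mono (Set.image_mono h)
    · intro Q Q' h
      apply le_antisymm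
      · intro p hp
        apply hcontract Q' p
        have : φ p ∈ Ext Q := Submodule.subset_span ⟨p, hp, rfl⟩
        rwa [h] at this
      · intro p hp
        apply hcontract Q p
        have : φ p ∈ Ext Q' := Submodule.subset_span ⟨p, hp, rfl⟩
        rwa [← h] at this
  exact hmono.wellFoundedGT

end Main

section Common

variable {k : Type u} [Field k] {R : Type u} [CommRing R] [Algebra k R]
  (𝒜 : ℤ → Submodule k R) [GradedAlgebra 𝒜]
  {S : Type u} [CommRing S] [Algebra k S] (ℬ : ℤ → Submodule k S) [GradedAlgebra ℬ]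
  {T : Type u} [CommRing T] [Algebra k T] (𝒯 : ℤ → Submodule k T) [GradedAlgebra 𝒯]
  (ψ : T →ₐ[k] R ⊗[k] S)
  {M : Type u} [AddCommGroup M] [Module R M] [Module k M] [IsScalarTower k R M]
  {N : Type u} [AddCommGroup N] [Module S N] [Module k N] [IsScalarTower k S N]
  {τM τN : Type u} [SetLike τM M] [SetLike τN N] (ℳ : ℤ → τM) (𝒩 : ℤ → τN)
  {P : Type u} [AddCommGroup P] [Module T P] [Module k P] [IsScalarTower k T P]
  (𝒬 : ℤ → AddSubgroup P) [DirectSum.Decomposition 𝒬]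
  (φ : P →ₗ[k] M ⊗[k] N)

variable {ψ ℳ 𝒩 𝒬 φ} in
theorem exists_of_mem_segrePiece (hP : GrSeg.IsSegreMod ψ ℳ 𝒩 𝒬 φ) {n : ℤ} {z : M ⊗[k] N}
    (hz : z ∈ GrSeg.segrePiece k ℳ 𝒩 n) : ∃ q ∈ 𝒬 n, φ q = z := by
  have : z ∈ (GrSeg.segrePiece k ℳ 𝒩 n : Set (M ⊗[k] N)) := hz
  rw [← hP.image_piece n] at this
  exact this

variable {ψ ℳ 𝒩 𝒬 φ} in
theorem phi_mem_segrePiece' (hP : GrSeg.IsSegreMod ψ ℳ 𝒩 𝒬 φ) {n : ℤ} {p : P} (hp : p ∈ 𝒬 n) :
    φ p ∈ GrSeg.segrePiece k ℳ 𝒩 n := by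
  have : φ p ∈ φ '' (𝒬 n : Set P) := ⟨p, hp, rfl⟩
  rw [hP.image_piece n] at this
  exact this

variable {ψ ℳ 𝒩 𝒬 φ} in
theorem mem_piece_of_phi_mem (hP : GrSeg.IsSegreMod ψ ℳ 𝒩 𝒬 φ) {n : ℤ} {p : P}
    (hp : φ p ∈ GrSeg.segrePiece k ℳ 𝒩 n) : p ∈ 𝒬 n := by
  obtain ⟨q, hq, h⟩ := exists_of_mem_segrePiece hP hp
  rw [← hP.injective h]
  exact hq

variable {ψ ℳ 𝒩 𝒬 φ} in
/-- The pieces of `P` are `k`-subspaces. -/
theorem smul_mem_Q (hP : GrSeg.IsSegreMod ψ ℳ 𝒩 𝒬 φ) (n : ℤ) (c : k) (p : P) (hp : p ∈ 𝒬 n) :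
    c • p ∈ 𝒬 n := by
  apply mem_piece_of_phi_mem hP
  rw [map_smul]
  exact Submodule.smul_mem _ _ (phi_mem_segrePiece' hP hp)

variable {ℳ 𝒩} in
/-- `R_i ⊗ S_i` maps `M_n ⊗ N_n` into `M_{i+n} ⊗ N_{i+n}`. -/
theorem act_mem_segrePiece
    (hMs : ∀ (i n : ℤ) (a : R) (x : M), a ∈ 𝒜 i → x ∈ ℳ n → a • x ∈ ℳ (i + n))
    (hNs : ∀ (i n : ℤ) (b : S) (y : N), b ∈ ℬ i → y ∈ 𝒩 n → b • y ∈ 𝒩 (i + n))
    {i n : ℤ} {x : R ⊗[k] S} (hx : x ∈ GrSeg.segrePiece k 𝒜 ℬ i) {z : M ⊗[k] N}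
    (hz : z ∈ GrSeg.segrePiece k ℳ 𝒩 n) :
    GrSeg.act k R S M N x z ∈ GrSeg.segrePiece k ℳ 𝒩 (i + n) := by
  induction hx using Submodule.span_induction with
  | mem x hx =>
    obtain ⟨a, ha, b, hb, rfl⟩ := hx
    induction hz using Submodule.span_induction with
    | mem z hz =>
      obtain ⟨a', ha', b', hb', rfl⟩ := hz
      rw [GrSeg.act_tmul]
      exact Submodule.subset_span ⟨a • a', hMs i n a a' ha ha', b • b', hNs i n b b' hb hb', rfl⟩
    | zero => rw [map_zero]; exact zero_mem _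
    | add z z' _ _ hz hz' => rw [map_add]; exact add_mem hz hz'
    | smul c z _ hz => rw [map_smul]; exact Submodule.smul_mem _ _ hz
  | zero => rw [map_zero, LinearMap.zero_apply]; exact zero_mem _
  | add x x' _ _ hx hx' => rw [map_add, LinearMap.add_apply]; exact add_mem hx hx'
  | smul c x _ hx => rw [map_smul, LinearMap.smul_apply]; exact Submodule.smul_mem _ _ hx

variable {𝒜 ℬ 𝒯 ψ ℳ 𝒩 𝒬 φ} in
/-- The action of `T` on `P` is graded. -/
theorem smul_mem_Q_graded (hT : GrSeg.IsSegreRing 𝒜 ℬ 𝒯 ψ) (hP : GrSeg.IsSegreMod ψ ℳ 𝒩 𝒬 φ)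
    (hMs : ∀ (i n : ℤ) (a : R) (x : M), a ∈ 𝒜 i → x ∈ ℳ n → a • x ∈ ℳ (i + n))
    (hNs : ∀ (i n : ℤ) (b : S) (y : N), b ∈ ℬ i → y ∈ 𝒩 n → b • y ∈ 𝒩 (i + n))
    {i n : ℤ} {t : T} (ht : t ∈ 𝒯 i) {p : P} (hp : p ∈ 𝒬 n) : t • p ∈ 𝒬 (i + n) := by
  apply mem_piece_of_phi_mem hP
  rw [hP.map_smul]
  have h1 : ψ t ∈ GrSeg.segrePiece k 𝒜 ℬ i := by
    rw [← hT.2 i]
    exact ⟨t, ht, rfl⟩
  exact act_mem_segrePiece 𝒜 ℬ hMs hNs h1 (phi_mem_segrePiece' hP hp)

variable {𝒜 ℬ 𝒯 ψ} in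
theorem exists_psi_eq_tmul (hT : GrSeg.IsSegreRing 𝒜 ℬ 𝒯 ψ) {n : ℤ} {a : R} (ha : a ∈ 𝒜 n)
    {b : S} (hb : b ∈ ℬ n) : ∃ t ∈ 𝒯 n, ψ t = a ⊗ₜ[k] b := by
  have : a ⊗ₜ[k] b ∈ (𝒯 n).map ψ.toLinearMap := by
    rw [hT.2 n]
    exact Submodule.subset_span ⟨a, ha, b, hb, rfl⟩
  obtain ⟨t, ht, h⟩ := this
  exact ⟨t, ht, h⟩

end Common

section GradedInv

variable {k : Type u} [Field k] {R : Type u} [CommRing R] [Algebra k R]
  (𝒜 : ℤ → Submodule k R) [GradedAlgebra 𝒜]
  {M : Type u} [AddCommGroup M] [Module R M]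
  (ℳ : ℤ → AddSubgroup M) [DirectSum.Decomposition ℳ] [SetLike.GradedSMul 𝒜 ℳ]

theorem gsmul_mem {i n : ℤ} {a : R} {x : M} (ha : a ∈ 𝒜 i) (hx : x ∈ ℳ n) : a • x ∈ ℳ (i + n) := by
  have := SetLike.GradedSMul.smul_mem (A := 𝒜) (B := ℳ) ha hx
  rwa [vadd_eq_add] at this

theorem decompose_smul_of_mem {c : ℤ} {a : R} (ha : a ∈ 𝒜 c) (x : M) (j : ℤ) :
    (DirectSum.decompose ℳ (a • x) (c + j) : M) = a • (DirectSum.decompose ℳ x j : M) := by
  induction x using DirectSum.Decomposition.inductionOn ℳ with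
  | zero => simp
  | add x y hx hy =>
    rw [smul_add, DirectSum.decompose_add, DirectSum.decompose_add, DirectSum.add_apply,
      DirectSum.add_apply, AddSubgroup.coe_add, AddSubgroup.coe_add, hx, hy, smul_add]
  | homogeneous x =>
    rename_i i
    have h1 : a • (x : M) ∈ ℳ (c + i) := gsmul_mem 𝒜 ℳ ha x.2
    by_cases hij : i = j
    · subst hij
      rw [DirectSum.decompose_of_mem_same ℳ h1, DirectSum.decompose_of_mem_same ℳ x.2]
    · rw [DirectSum.decompose_of_mem_ne ℳ h1 (fun h => hij (add_left_cancel h)),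
        DirectSum.decompose_of_mem_ne ℳ x.2 hij, smul_zero]

theorem mem_of_smul_mem {c n : ℤ} {a : R} (ha : a ∈ 𝒜 c)
    (hinj : Function.Injective (fun x : M => a • x)) {x : M} (hx : a • x ∈ ℳ n) :
    x ∈ ℳ (n - c) := by
  classical
  have h0 : ∀ j : ℤ, j ≠ n - c → (DirectSum.decompose ℳ x j : M) = 0 := by
    intro j hj
    apply hinj
    show a • (DirectSum.decompose ℳ x j : M) = a • (0 : M)
    rw [← decompose_smul_of_mem 𝒜 ℳ ha, smul_zero]
    exact DirectSum.decompose_of_mem_ne ℳ hx (fun h => hj (by omega))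
  have hx' : x = (DirectSum.decompose ℳ x (n - c) : M) := by
    conv_lhs => rw [← DirectSum.sum_support_decompose ℳ x]
    rw [Finset.sum_eq_single (n - c)]
    · intro j _ hj
      exact h0 j hj
    · intro hnot
      rw [DFinsupp.notMem_support_iff] at hnot
      rw [hnot]
      rfl
  rw [hx']
  exact (DirectSum.decompose ℳ x (n - c)).2

end GradedInv

section Biject

variable {k : Type u} [Field k] {R : Type u} [CommRing R] [Algebra k R]
  (𝒜 : ℤ → Submodule k R) [GradedAlgebra 𝒜]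
  {S : Type u} [CommRing S] [Algebra k S] (ℬ : ℤ → Submodule k S) [GradedAlgebra ℬ]
  {T : Type u} [CommRing T] [Algebra k T] (𝒯 : ℤ → Submodule k T) [GradedAlgebra 𝒯]
  (ψ : T →ₐ[k] R ⊗[k] S)
  {M : Type u} [AddCommGroup M] [Module R M] [Module k M] [IsScalarTower k R M]
  (ℳ : ℤ → AddSubgroup M) [DirectSum.Decomposition ℳ] [SetLike.GradedSMul 𝒜 ℳ]
  {N : Type u} [AddCommGroup N] [Module S N] [Module k N] [IsScalarTower k S N]
  (𝒩 : ℤ → AddSubgroup N) [DirectSum.Decomposition 𝒩] [SetLike.GradedSMul ℬ 𝒩]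
  {P : Type u} [AddCommGroup P] [Module T P] [Module k P] [IsScalarTower k T P]
  (𝒬 : ℤ → AddSubgroup P) [DirectSum.Decomposition 𝒬]
  (φ : P →ₗ[k] M ⊗[k] N)

/-- Multiplication by a ring element as a `k`-linear equivalence. -/
noncomputable def smulEquiv (a : R) (h : Function.Bijective (fun x : M => a • x)) : M ≃ₗ[k] M :=
  LinearEquiv.ofBijective (Algebra.lsmul k k M a) h

omit [GradedAlgebra 𝒜] in
theorem smulEquiv_apply (a : R) (h : Function.Bijective (fun x : M => a • x)) (x : M) :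
    smulEquiv (k := k) a h x = a • x := rfl

theorem act_tmul_eq_map (a : R) (b : S) (z : M ⊗[k] N) :
    GrSeg.act k R S M N (a ⊗ₜ[k] b) z =
      TensorProduct.map (Algebra.lsmul k k M a) (Algebra.lsmul k k N b) z := by
  induction z using TensorProduct.induction_on with
  | zero => simp
  | tmul m n => rw [GrSeg.act_tmul, TensorProduct.map_tmul]; rfl
  | add x y hx hy => rw [map_add, hx, hy, map_add]

variable {𝒜 ℬ 𝒯 ψ ℳ 𝒩 𝒬 φ} in
theorem exists_bijective_segre (hT : GrSeg.IsSegreRing 𝒜 ℬ 𝒯 ψ)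
    (hP : GrSeg.IsSegreMod ψ ℳ 𝒩 𝒬 φ) (d : ℕ) (hd : 0 < d) (f : R) (hf : f ∈ 𝒜 (d : ℤ))
    (hfM : Function.Bijective (fun x : M => f • x)) (e : ℕ) (he : 0 < e) (g : S)
    (hg : g ∈ ℬ (e : ℤ)) (hgN : Function.Bijective (fun y : N => g • y)) :
    ∃ (c : ℤ) (t : T), 0 < c ∧ t ∈ 𝒯 c ∧ Function.Bijective (fun p : P => t • p) := by
  have ha : f ^ e ∈ 𝒜 ((e : ℤ) * d) := by
    have := SetLike.pow_mem_graded e hf
    rwa [nsmul_eq_mul] at this
  have hb : g ^ d ∈ ℬ ((e : ℤ) * d) := by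
    have := SetLike.pow_mem_graded d hg
    rwa [nsmul_eq_mul, mul_comm] at this
  have haM : Function.Bijective (fun x : M => f ^ e • x) := by
    have : (fun x : M => f ^ e • x) = (fun x : M => f • x)^[e] := (smul_iterate f e).symm
    rw [this]
    exact hfM.iterate e
  have hbN : Function.Bijective (fun y : N => g ^ d • y) := by
    have : (fun y : N => g ^ d • y) = (fun y : N => g • y)^[d] := (smul_iterate g d).symm
    rw [this]
    exact hgN.iterate d
  obtain ⟨t, ht, hψt⟩ := exists_psi_eq_tmul hT ha hb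
  refine ⟨(e : ℤ) * d, t, by positivity, ht, ?_⟩
  let F : M ≃ₗ[k] M := smulEquiv (f ^ e) haM
  let G : N ≃ₗ[k] N := smulEquiv (g ^ d) hbN
  have hact : ∀ p, φ (t • p) = TensorProduct.map F.toLinearMap G.toLinearMap (φ p) := by
    intro p
    rw [hP.map_smul, hψt, act_tmul_eq_map]
    rfl
  constructor
  · intro p p' hpp'
    have h1 : φ (t • p) = φ (t • p') := congrArg φ hpp'
    rw [hact, hact] at h1
    have hinj : Function.Injective (TensorProduct.map F.toLinearMap G.toLinearMap) :=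
      (TensorProduct.congr F G).injective
    exact hP.injective (hinj h1)
  · intro p
    have hz : ∀ p : P, ∃ q : P,
        φ q = TensorProduct.map F.symm.toLinearMap G.symm.toLinearMap (φ p) := by
      intro p
      induction p using DirectSum.Decomposition.inductionOn 𝒬 with
      | zero => exact ⟨0, by simp⟩
      | add p p' hp hp' =>
        obtain ⟨q, hq⟩ := hp
        obtain ⟨q', hq'⟩ := hp'
        exact ⟨q + q', by rw [map_add, hq, hq', map_add, map_add]⟩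
      | homogeneous p =>
        rename_i n
        have h1 := phi_mem_segrePiece' hP p.2
        have h2 : TensorProduct.map F.symm.toLinearMap G.symm.toLinearMap (φ p) ∈
            GrSeg.segrePiece k ℳ 𝒩 (n - (e : ℤ) * d) := by
          generalize φ (p : P) = z at h1
          induction h1 using Submodule.span_induction with
          | mem z hz =>
            obtain ⟨a', ha', b', hb', rfl⟩ := hz
            rw [TensorProduct.map_tmul]
            refine Submodule.subset_span ⟨F.symm a', ?_, G.symm b', ?_, rfl⟩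
            · apply mem_of_smul_mem 𝒜 ℳ ha haM.injective
              have : f ^ e • F.symm a' = a' := F.apply_symm_apply a'
              rw [this]
              exact ha'
            · apply mem_of_smul_mem ℬ 𝒩 hb hbN.injective
              have : g ^ d • G.symm b' = b' := G.apply_symm_apply b'
              rw [this]
              exact hb'
          | zero => rw [map_zero]; exact zero_mem _
          | add z z' _ _ hz hz' => rw [map_add]; exact add_mem hz hz'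
          | smul c z _ hz => rw [map_smul]; exact Submodule.smul_mem _ _ hz
        obtain ⟨q, -, hq⟩ := exists_of_mem_segrePiece hP h2
        exact ⟨q, hq⟩
    obtain ⟨q, hq⟩ := hz p
    refine ⟨q, hP.injective ?_⟩
    show φ (t • q) = φ p
    rw [hact, hq, ← LinearMap.comp_apply, ← TensorProduct.map_comp]
    simp

end Biject

section Generate

variable {k : Type u} [Field k] {R : Type u} [CommRing R] [Algebra k R]
  (𝒜 : ℤ → Submodule k R) [GradedAlgebra 𝒜]
  {S : Type u} [CommRing S] [Algebra k S] (ℬ : ℤ → Submodule k S) [GradedAlgebra ℬ]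
  {T : Type u} [CommRing T] [Algebra k T] (𝒯 : ℤ → Submodule k T) [GradedAlgebra 𝒯]
  (ψ : T →ₐ[k] R ⊗[k] S)
  {M : Type u} [AddCommGroup M] [Module R M] [Module k M] [IsScalarTower k R M]
  (ℳ : ℤ → AddSubgroup M) [DirectSum.Decomposition ℳ] [SetLike.GradedSMul 𝒜 ℳ]
  {N : Type u} [AddCommGroup N] [Module S N] [Module k N] [IsScalarTower k S N]
  (𝒩 : ℤ → AddSubgroup N) [DirectSum.Decomposition 𝒩] [SetLike.GradedSMul ℬ 𝒩]
  {P : Type u} [AddCommGroup P] [Module T P] [Module k P] [IsScalarTower k T P]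
  (𝒬 : ℤ → AddSubgroup P) [DirectSum.Decomposition 𝒬]
  (φ : P →ₗ[k] M ⊗[k] N)

variable {𝒜 ℬ 𝒯 ψ ℳ 𝒩 𝒬 φ} in
/-- The degree `d + n` component of `t • p` for `p` homogeneous of degree `n`. -/
theorem decompose_smul_homogeneous (hT : GrSeg.IsSegreRing 𝒜 ℬ 𝒯 ψ)
    (hP : GrSeg.IsSegreMod ψ ℳ 𝒩 𝒬 φ) {n : ℤ} {p : P} (hp : p ∈ 𝒬 n) (t : T) (d : ℤ) :
    (DirectSum.decompose 𝒬 (t • p) (d + n) : P) = (DirectSum.decompose 𝒯 t d : T) • p := by
  have hMs : ∀ (i n : ℤ) (a : R) (x : M), a ∈ 𝒜 i → x ∈ ℳ n → a • x ∈ ℳ (i + n) :=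
    fun i n a x ha hx => gsmul_mem 𝒜 ℳ ha hx
  have hNs : ∀ (i n : ℤ) (b : S) (y : N), b ∈ ℬ i → y ∈ 𝒩 n → b • y ∈ 𝒩 (i + n) :=
    fun i n b y hb hy => gsmul_mem ℬ 𝒩 hb hy
  induction t using DirectSum.Decomposition.inductionOn 𝒯 with
  | zero => simp
  | add t t' ht ht' =>
    rw [add_smul, DirectSum.decompose_add, DirectSum.decompose_add, DirectSum.add_apply,
      DirectSum.add_apply, AddSubgroup.coe_add, Submodule.coe_add, ht, ht', add_smul]
  | homogeneous t =>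
    rename_i i
    have h1 : (t : T) • p ∈ 𝒬 (i + n) := smul_mem_Q_graded hT hP hMs hNs t.2 hp
    by_cases hid : i = d
    · subst hid
      rw [DirectSum.decompose_of_mem_same 𝒬 h1, DirectSum.decompose_of_mem_same 𝒯 t.2]
    · rw [DirectSum.decompose_of_mem_ne 𝒬 h1 (fun h => hid (add_right_cancel h)),
        DirectSum.decompose_of_mem_ne 𝒯 t.2 hid, zero_smul]

variable {𝒜 ℬ 𝒯 ψ ℳ 𝒩 𝒬 φ} in
theorem piece_eq_smul_of_generates (hT : GrSeg.IsSegreRing 𝒜 ℬ 𝒯 ψ)
    (hP : GrSeg.IsSegreMod ψ ℳ 𝒩 𝒬 φ) (n : ℤ) (hNn : ∀ m : ℤ, n ≤ m → 𝒩 m ≠ ⊥)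
    (x : M) (hx : x ∈ ℳ n) (y : N) (hy : y ∈ 𝒩 n) (p : P) (hp : φ p = x ⊗ₜ[k] y)
    (hgen : Submodule.span T {p} = ⊤) (d : ℤ) (hd : 0 ≤ d) (z : M) (hz : z ∈ ℳ (n + d)) :
    ∃ r ∈ 𝒜 d, r • x = z := by
  -- a nonzero element of `N_{n+d}`
  obtain ⟨w, hw, hw0⟩ : ∃ w ∈ 𝒩 (n + d), w ≠ 0 := by
    have := hNn (n + d) (by omega)
    rw [Ne, AddSubgroup.eq_bot_iff_forall] at this
    push Not at this
    exact this
  -- a functional with `λ w = 1`
  obtain ⟨lam, hlam⟩ : ∃ lam : N →ₗ[k] k, lam w = 1 := by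
    have h1 : ¬ ∀ f : Module.Dual k N, f w = 0 := by
      rw [Module.forall_dual_apply_eq_zero_iff]
      exact hw0
    push Not at h1
    obtain ⟨f, hf⟩ := h1
    refine ⟨(f w)⁻¹ • f, ?_⟩
    rw [LinearMap.smul_apply, smul_eq_mul, inv_mul_cancel₀ hf]
  let Lam : M ⊗[k] N →ₗ[k] M :=
    (TensorProduct.rid k M).toLinearMap ∘ₗ TensorProduct.map LinearMap.id lam
  have hLam : ∀ (m : M) (n' : N), Lam (m ⊗ₜ[k] n') = lam n' • m := by
    intro m n'
    simp [Lam]
  -- `p` is homogeneous of degree `n`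
  have hpn : p ∈ 𝒬 n := by
    apply mem_piece_of_phi_mem hP
    rw [hp]
    exact Submodule.subset_span ⟨x, hx, y, hy, rfl⟩
  -- the element `z ⊗ w`
  have hzw : z ⊗ₜ[k] w ∈ GrSeg.segrePiece k ℳ 𝒩 (n + d) :=
    Submodule.subset_span ⟨z, hz, w, hw, rfl⟩
  obtain ⟨q, hq, hφq⟩ := exists_of_mem_segrePiece hP hzw
  have hqspan : q ∈ Submodule.span T {p} := by rw [hgen]; trivial
  obtain ⟨t, rfl⟩ := Submodule.mem_span_singleton.mp hqspan
  have hq' : t • p = (DirectSum.decompose 𝒯 t d : T) • p := by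
    rw [← decompose_smul_homogeneous hT hP hpn t d, add_comm d n,
      DirectSum.decompose_of_mem_same 𝒬 hq]
  have hψ : ψ (DirectSum.decompose 𝒯 t d : T) ∈ GrSeg.segrePiece k 𝒜 ℬ d := by
    rw [← hT.2 d]
    exact ⟨_, (DirectSum.decompose 𝒯 t d).2, rfl⟩
  -- the target subspace
  let W : Submodule k M :=
    (𝒜 d).map ((LinearMap.toSpanSingleton R M x).restrictScalars k)
  have hW : ∀ u ∈ GrSeg.segrePiece k 𝒜 ℬ d,
      Lam (GrSeg.act k R S M N u (x ⊗ₜ[k] y)) ∈ W := by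
    intro u hu
    induction hu using Submodule.span_induction with
    | mem u hu =>
      obtain ⟨a, ha, b, hb, rfl⟩ := hu
      rw [GrSeg.act_tmul, hLam]
      refine ⟨lam (b • y) • a, Submodule.smul_mem _ _ ha, ?_⟩
      simp [LinearMap.toSpanSingleton_apply]
    | zero => simp
    | add u u' _ _ hu hu' =>
      rw [map_add, LinearMap.add_apply, map_add]
      exact add_mem hu hu'
    | smul c u _ hu =>
      rw [map_smul, LinearMap.smul_apply, map_smul]
      exact Submodule.smul_mem _ _ hu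
  have hzW : z ∈ W := by
    have h1 : Lam (φ (t • p)) = z := by rw [hφq, hLam, hlam, one_smul]
    rw [← h1, hq', hP.map_smul, hp]
    exact hW _ hψ
  obtain ⟨r, hr, hrz⟩ := hzW
  exact ⟨r, hr, hrz⟩

end Generate

section Std

variable {k : Type u} [Field k] {R : Type u} [CommRing R] [Algebra k R]
  (𝒜 : ℤ → Submodule k R) [GradedAlgebra 𝒜]

/-- In a standard graded algebra, `R_{m+1} = R_1 R_m`. -/
theorem mem_span_mul_of_std
    (hstd : Ideal.span (⋃ n ∈ Set.Ioi (0 : ℤ), (𝒜 n : Set R)) =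
      Ideal.span ((𝒜 1 : Submodule k R) : Set R)) {m : ℤ} (hm : 0 ≤ m) {x : R}
    (hx : x ∈ 𝒜 (m + 1)) :
    x ∈ Submodule.span k {z : R | ∃ r ∈ 𝒜 1, ∃ x' ∈ 𝒜 m, z = r * x'} := by
  classical
  have h1 : x ∈ Ideal.span ((𝒜 1 : Submodule k R) : Set R) := by
    rw [← hstd]
    apply Ideal.subset_span
    exact Set.mem_iUnion₂.mpr ⟨m + 1, Set.mem_Ioi.mpr (by omega), hx⟩
  obtain ⟨f, t, hts, -, hsum⟩ := Submodule.mem_span_iff_exists_finset_subset.mp h1
  have h2 : x = ∑ a ∈ t, (DirectSum.decompose 𝒜 (f a) m : R) * a := by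
    have h3 : (DirectSum.decompose 𝒜 x (m + 1) : R) = x := DirectSum.decompose_of_mem_same 𝒜 hx
    rw [← h3, ← hsum, DirectSum.decompose_sum, DFinsupp.finsetSum_apply,
      AddSubmonoidClass.coe_finsetSum]
    refine Finset.sum_congr rfl fun a ha => ?_
    rw [smul_eq_mul]
    exact DirectSum.coe_decompose_mul_add_of_right_mem 𝒜 (hts ha)
  rw [h2]
  refine Submodule.sum_mem _ fun a ha => ?_
  exact Submodule.subset_span ⟨a, hts ha, _, (DirectSum.decompose 𝒜 (f a) m).2, mul_comm _ _⟩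

end Std

section Shift

variable {k : Type u} [Field k] {R : Type u} [CommRing R] [Algebra k R]
  (𝒜 : ℤ → Submodule k R) [GradedAlgebra 𝒜]
  {S : Type u} [CommRing S] [Algebra k S] (ℬ : ℤ → Submodule k S) [GradedAlgebra ℬ]
  {T : Type u} [CommRing T] [Algebra k T] (𝒯 : ℤ → Submodule k T) [GradedAlgebra 𝒯]
  (ψ : T →ₐ[k] R ⊗[k] S) (a b : ℤ)
  {P : Type u} [AddCommGroup P] [Module T P] [Module k P] [IsScalarTower k T P]
  (𝒬 : ℤ → AddSubgroup P) [DirectSum.Decomposition 𝒬]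
  (φ : P →ₗ[k] R ⊗[k] S)

theorem shift_smul_mem (c : ℤ) (i n : ℤ) (r : R) (x : R) (hr : r ∈ 𝒜 i) (hx : x ∈ 𝒜 (n + c)) :
    r • x ∈ 𝒜 (i + n + c) := by
  rw [smul_eq_mul, add_assoc]
  exact SetLike.mul_mem_graded hr hx

variable {𝒜 ℬ 𝒯 ψ a b 𝒬 φ}

theorem Q_eq_zero_of_lt (hposS : ∀ n : ℤ, n < 0 → ℬ n = ⊥)
    (hP : GrSeg.IsSegreMod ψ (fun n : ℤ => 𝒜 (n + a)) (fun n : ℤ => ℬ (n + b)) 𝒬 φ) {n : ℤ}
    (hn : n + b < 0) {p : P} (hp : p ∈ 𝒬 n) : p = 0 := by
  have h1 := phi_mem_segrePiece' hP hp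
  have h2 : GrSeg.segrePiece k (fun n : ℤ => 𝒜 (n + a)) (fun n : ℤ => ℬ (n + b)) n ≤ ⊥ := by
    apply Submodule.span_le.mpr
    rintro _ ⟨x, _, y, hy, rfl⟩
    have hy' : y ∈ ℬ (n + b) := hy
    rw [hposS _ hn, Submodule.mem_bot] at hy'
    rw [hy', TensorProduct.tmul_zero]
    exact Submodule.zero_mem _
  have h3 := h2 h1
  rw [Submodule.mem_bot] at h3
  exact hP.injective (by rw [h3, map_zero])

/-- The pieces of `P` as `k`-subspaces. -/
abbrev Qk (hP : GrSeg.IsSegreMod ψ (fun n : ℤ => 𝒜 (n + a)) (fun n : ℤ => ℬ (n + b)) 𝒬 φ)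
    (n : ℤ) : Submodule k P := subM 𝒬 (smul_mem_Q hP) n

/-- The part of `P` in degrees `> -b`. -/
def Vplus (hP : GrSeg.IsSegreMod ψ (fun n : ℤ => 𝒜 (n + a)) (fun n : ℤ => ℬ (n + b)) 𝒬 φ) :
    Submodule k P := ⨆ (n : ℤ) (_ : -b < n), Qk hP n

theorem smul_mem_Vplus (hposS : ∀ n : ℤ, n < 0 → ℬ n = ⊥) (hT : GrSeg.IsSegreRing 𝒜 ℬ 𝒯 ψ)
    (hP : GrSeg.IsSegreMod ψ (fun n : ℤ => 𝒜 (n + a)) (fun n : ℤ => ℬ (n + b)) 𝒬 φ)
    {t : T} (ht : t ∈ Ideal.span (⋃ n ∈ Set.Ioi (0 : ℤ), (𝒯 n : Set T))) (p : P) :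
    t • p ∈ Vplus hP := by
  induction ht using Submodule.span_induction generalizing p with
  | mem t ht =>
    obtain ⟨i, hi, hti⟩ := Set.mem_iUnion₂.mp ht
    induction p using DirectSum.Decomposition.inductionOn 𝒬 with
    | zero => rw [smul_zero]; exact zero_mem _
    | add p p' hp hp' => rw [smul_add]; exact add_mem hp hp'
    | homogeneous p =>
      rename_i n
      by_cases hn : n + b < 0
      · rw [Q_eq_zero_of_lt hposS hP hn p.2, smul_zero]
        exact zero_mem _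
      · have h1 : t • (p : P) ∈ 𝒬 (i + n) :=
          smul_mem_Q_graded hT hP (shift_smul_mem 𝒜 a) (shift_smul_mem ℬ b) hti p.2
        have hin : -b < i + n := by
          have := Set.mem_Ioi.mp hi
          omega
        exact Submodule.mem_iSup_of_mem (i + n) (Submodule.mem_iSup_of_mem hin h1)
  | zero => rw [zero_smul]; exact zero_mem _
  | add t t' _ _ ht ht' => rw [add_smul]; exact add_mem (ht p) (ht' p)
  | smul s t _ ht =>
    rw [smul_eq_mul, mul_comm, mul_smul]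
    exact ht (s • p)

theorem Q_le_smul_top (hT : GrSeg.IsSegreRing 𝒜 ℬ 𝒯 ψ)
    (hP : GrSeg.IsSegreMod ψ (fun n : ℤ => 𝒜 (n + a)) (fun n : ℤ => ℬ (n + b)) 𝒬 φ)
    (hstdR : Ideal.span (⋃ n ∈ Set.Ioi (0 : ℤ), (𝒜 n : Set R)) =
      Ideal.span ((𝒜 1 : Submodule k R) : Set R))
    (hstdS : Ideal.span (⋃ n ∈ Set.Ioi (0 : ℤ), (ℬ n : Set S)) =
      Ideal.span ((ℬ 1 : Submodule k S) : Set S))
    (hab : b ≤ a) {n : ℤ} (hn : -b < n) {p : P} (hp : p ∈ 𝒬 n) :
    p ∈ (Ideal.span (⋃ n ∈ Set.Ioi (0 : ℤ), (𝒯 n : Set T)) • (⊤ : Submodule T P)) := by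
  set I : Ideal T := Ideal.span (⋃ n ∈ Set.Ioi (0 : ℤ), (𝒯 n : Set T)) with hI
  let Z : Submodule k (R ⊗[k] S) := ((I • (⊤ : Submodule T P)).restrictScalars k).map φ
  suffices h : GrSeg.segrePiece k (fun n : ℤ => 𝒜 (n + a)) (fun n : ℤ => ℬ (n + b)) n ≤ Z by
    obtain ⟨p', hp', h'⟩ := h (phi_mem_segrePiece' hP hp)
    rw [← hP.injective h']
    exact hp'
  have key : ∀ x ∈ Submodule.span k {z : R | ∃ r ∈ 𝒜 1, ∃ x' ∈ 𝒜 (n + a - 1), z = r * x'},
      ∀ y ∈ Submodule.span k {z : S | ∃ r ∈ ℬ 1, ∃ x' ∈ ℬ (n + b - 1), z = r * x'},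
      x ⊗ₜ[k] y ∈ Z := by
    intro x hx2 y hy2
    induction hx2 using Submodule.span_induction with
    | mem x hx =>
      obtain ⟨r, hr, x', hx', rfl⟩ := hx
      induction hy2 using Submodule.span_induction with
      | mem y hy =>
        obtain ⟨s, hs, y', hy', rfl⟩ := hy
        obtain ⟨t, ht, hψt⟩ := exists_psi_eq_tmul hT hr hs
        have hxy' : x' ⊗ₜ[k] y' ∈
            GrSeg.segrePiece k (fun n : ℤ => 𝒜 (n + a)) (fun n : ℤ => ℬ (n + b)) (n - 1) := by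
          refine Submodule.subset_span ⟨x', ?_, y', ?_, rfl⟩
          · show x' ∈ 𝒜 (n - 1 + a)
            rw [show n - 1 + a = n + a - 1 by ring]
            exact hx'
          · show y' ∈ ℬ (n - 1 + b)
            rw [show n - 1 + b = n + b - 1 by ring]
            exact hy'
        obtain ⟨q, -, hq⟩ := exists_of_mem_segrePiece hP hxy'
        refine ⟨t • q, ?_, ?_⟩
        · refine Submodule.smul_mem_smul ?_ Submodule.mem_top
          exact Ideal.subset_span (Set.mem_iUnion₂.mpr ⟨1, Set.mem_Ioi.mpr one_pos, ht⟩)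
        · rw [hP.map_smul, hψt, hq, GrSeg.act_tmul, smul_eq_mul, smul_eq_mul]
      | zero => rw [TensorProduct.tmul_zero]; exact zero_mem _
      | add y y' _ _ hy hy' => rw [TensorProduct.tmul_add]; exact add_mem hy hy'
      | smul c y _ hy => rw [TensorProduct.tmul_smul]; exact Submodule.smul_mem _ _ hy
    | zero => rw [TensorProduct.zero_tmul]; exact zero_mem _
    | add x x' _ _ hx hx' => rw [TensorProduct.add_tmul]; exact add_mem hx hx'
    | smul c x _ hx => rw [← TensorProduct.smul_tmul']; exact Submodule.smul_mem _ _ hx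
  apply Submodule.span_le.mpr
  rintro _ ⟨x, hx, y, hy, rfl⟩
  have hx1 : x ∈ 𝒜 ((n + a - 1) + 1) := by rw [sub_add_cancel]; exact hx
  have hy1 : y ∈ ℬ ((n + b - 1) + 1) := by rw [sub_add_cancel]; exact hy
  exact key x (mem_span_mul_of_std 𝒜 hstdR (by omega) hx1) y
    (mem_span_mul_of_std ℬ hstdS (by omega) hy1)

end Shift

section Shift2

variable {k : Type u} [Field k] {R : Type u} [CommRing R] [Algebra k R]
  {𝒜 : ℤ → Submodule k R} [GradedAlgebra 𝒜]
  {S : Type u} [CommRing S] [Algebra k S] {ℬ : ℤ → Submodule k S} [GradedAlgebra ℬ]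
  {T : Type u} [CommRing T] [Algebra k T] {𝒯 : ℤ → Submodule k T} [GradedAlgebra 𝒯]
  {ψ : T →ₐ[k] R ⊗[k] S} {a b : ℤ}
  {P : Type u} [AddCommGroup P] [Module T P] [Module k P] [IsScalarTower k T P]
  {𝒬 : ℤ → AddSubgroup P} [DirectSum.Decomposition 𝒬]
  {φ : P →ₗ[k] R ⊗[k] S}

theorem restrictScalars_smul_top_eq (hposS : ∀ n : ℤ, n < 0 → ℬ n = ⊥)
    (hT : GrSeg.IsSegreRing 𝒜 ℬ 𝒯 ψ)
    (hP : GrSeg.IsSegreMod ψ (fun n : ℤ => 𝒜 (n + a)) (fun n : ℤ => ℬ (n + b)) 𝒬 φ)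
    (hstdR : Ideal.span (⋃ n ∈ Set.Ioi (0 : ℤ), (𝒜 n : Set R)) =
      Ideal.span ((𝒜 1 : Submodule k R) : Set R))
    (hstdS : Ideal.span (⋃ n ∈ Set.Ioi (0 : ℤ), (ℬ n : Set S)) =
      Ideal.span ((ℬ 1 : Submodule k S) : Set S))
    (hab : b ≤ a) :
    ((Ideal.span (⋃ n ∈ Set.Ioi (0 : ℤ), (𝒯 n : Set T)) • (⊤ : Submodule T P)).restrictScalars k)
      = Vplus hP := by
  apply le_antisymm
  · intro p hp
    have hp' : p ∈ (Ideal.span (⋃ n ∈ Set.Ioi (0 : ℤ), (𝒯 n : Set T)) • (⊤ : Submodule T P)) := hp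
    refine Submodule.smul_induction_on hp' ?_ ?_
    · intro t ht q _
      exact smul_mem_Vplus hposS hT hP ht q
    · intro x y hx hy
      exact add_mem hx hy
  · rw [Vplus]
    refine iSup₂_le fun n hn => ?_
    intro p hp
    exact Q_le_smul_top hT hP hstdR hstdS hab hn hp

theorem isCompl_Vplus (hposS : ∀ n : ℤ, n < 0 → ℬ n = ⊥)
    (hP : GrSeg.IsSegreMod ψ (fun n : ℤ => 𝒜 (n + a)) (fun n : ℤ => ℬ (n + b)) 𝒬 φ) :
    IsCompl (Vplus hP) (Qk hP (-b)) := by
  have hint : DirectSum.IsInternal (Qk hP) := DirectSum.Decomposition.isInternal _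
  constructor
  · have h1 := hint.submodule_iSupIndep (-b)
    refine (h1.mono_right ?_).symm
    rw [Vplus]
    exact iSup_mono fun n => iSup_mono' fun h => ⟨ne_of_gt h, le_rfl⟩
  · rw [codisjoint_iff, eq_top_iff, ← hint.submodule_iSup_eq_top]
    refine iSup_le fun n => ?_
    rcases lt_trichotomy n (-b) with h | h | h
    · have : Qk hP n = ⊥ := by
        rw [eq_bot_iff]
        intro p hp
        rw [Submodule.mem_bot]
        exact Q_eq_zero_of_lt hposS hP (by omega) hp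
      rw [this]
      exact bot_le
    · rw [h]
      exact le_sup_right
    · exact le_sup_of_le_left (le_iSup₂_of_le n h le_rfl)

theorem map_Qk_eq (hP : GrSeg.IsSegreMod ψ (fun n : ℤ => 𝒜 (n + a)) (fun n : ℤ => ℬ (n + b)) 𝒬 φ)
    (n : ℤ) : (Qk hP n).map φ =
      GrSeg.segrePiece k (fun n : ℤ => 𝒜 (n + a)) (fun n : ℤ => ℬ (n + b)) n := by
  apply SetLike.coe_injective
  rw [← hP.image_piece n]
  rfl

theorem segrePiece_neg_eq (h0S : ℬ 0 = Submodule.span k {(1 : S)}) :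
    GrSeg.segrePiece k (fun n : ℤ => 𝒜 (n + a)) (fun n : ℤ => ℬ (n + b)) (-b) =
      (𝒜 (a - b)).map (Algebra.TensorProduct.includeLeft : R →ₐ[k] R ⊗[k] S).toLinearMap := by
  have e1 : -b + a = a - b := by ring
  have e2 : -b + b = 0 := by ring
  apply le_antisymm
  · apply Submodule.span_le.mpr
    rintro _ ⟨x, hx, y, hy, rfl⟩
    have hx' : x ∈ 𝒜 (a - b) := by rw [← e1]; exact hx
    have hy' : y ∈ ℬ 0 := by rw [← e2]; exact hy
    rw [h0S, Submodule.mem_span_singleton] at hy'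
    obtain ⟨c, rfl⟩ := hy'
    refine ⟨c • x, Submodule.smul_mem _ _ hx', ?_⟩
    rw [AlgHom.toLinearMap_apply, Algebra.TensorProduct.includeLeft_apply,
      TensorProduct.tmul_smul, TensorProduct.smul_tmul']
  · rintro _ ⟨x, hx, rfl⟩
    refine Submodule.subset_span ⟨x, ?_, 1, ?_, rfl⟩
    · show x ∈ 𝒜 (-b + a)
      rw [e1]
      exact hx
    · show (1 : S) ∈ ℬ (-b + b)
      rw [e2]
      exact SetLike.GradedOne.one_mem

theorem finrank_quotient_eq (hposS : ∀ n : ℤ, n < 0 → ℬ n = ⊥)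
    (h0S : ℬ 0 = Submodule.span k {(1 : S)}) (hT : GrSeg.IsSegreRing 𝒜 ℬ 𝒯 ψ)
    (hstdR : Ideal.span (⋃ n ∈ Set.Ioi (0 : ℤ), (𝒜 n : Set R)) =
      Ideal.span ((𝒜 1 : Submodule k R) : Set R))
    (hstdS : Ideal.span (⋃ n ∈ Set.Ioi (0 : ℤ), (ℬ n : Set S)) =
      Ideal.span ((ℬ 1 : Submodule k S) : Set S))
    (hs1 : 1 ≤ ringKrullDim S)
    (mT : HomogeneousIdeal 𝒯)
    (hmT : mT.toIdeal = Ideal.span (⋃ n ∈ Set.Ioi (0 : ℤ), (𝒯 n : Set T)))
    (hab : b ≤ a)
    (hP : GrSeg.IsSegreMod ψ (fun n : ℤ => 𝒜 (n + a)) (fun n : ℤ => ℬ (n + b)) 𝒬 φ) :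
    Module.finrank k (P ⧸ (mT.toIdeal • (⊤ : Submodule T P))) = Module.finrank k (𝒜 (a - b)) := by
  haveI : Nontrivial S := by
    by_contra hn
    rw [not_nontrivial_iff_subsingleton] at hn
    rw [ringKrullDim_eq_bot_of_subsingleton] at hs1
    simp at hs1
  have hinj : Function.Injective
      (Algebra.TensorProduct.includeLeft : R →ₐ[k] R ⊗[k] S).toLinearMap :=
    Algebra.TensorProduct.includeLeft_injective (S := k) (algebraMap k S).injective
  rw [hmT]
  have e1 := (Submodule.Quotient.restrictScalarsEquiv k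
    (Ideal.span (⋃ n ∈ Set.Ioi (0 : ℤ), (𝒯 n : Set T)) • (⊤ : Submodule T P))).finrank_eq
  rw [← e1, restrictScalars_smul_top_eq hposS hT hP hstdR hstdS hab]
  rw [(Submodule.quotientEquivOfIsCompl _ _ (isCompl_Vplus hposS hP)).finrank_eq]
  have e2 := (Submodule.equivMapOfInjective φ hP.injective (Qk hP (-b))).finrank_eq
  rw [map_Qk_eq hP, segrePiece_neg_eq h0S] at e2
  rw [e2]
  exact (Submodule.equivMapOfInjective _ hinj (𝒜 (a - b))).finrank_eq.symm

end Shift2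

end Groth.Agent.Lib.Helper20.SegreMod
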