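import Mathlib

/-!
# The order valuation attached to an ideal with multiplicative order function
-/

set_option autoImplicit false
universe u

namespace Groth.Agent.Lib.Helper20.OrdVal

open WithZero

variable {A : Type u} [CommRing A]

/-- hypotheses on an ideal making its order function a valuation -/
structure Data (I : Ideal A) : Prop where
  ne_top : I ≠ ⊤
  iInf_pow : ⨅ n, I ^ n = ⊥
  mul_notMem : ∀ {i j : ℕ} {x y : A}, x ∈ I ^ i → x ∉ I ^ (i + 1) → y ∈ I ^ j →
    y ∉ I ^ (j + 1) → x * y ∉ I ^ (i + j + 1)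

variable {I : Ideal A} (hI : Data I)

include hI in
theorem exists_notMem {x : A} (hx : x ≠ 0) : ∃ n, x ∉ I ^ (n + 1) := by
  by_contra h
  push Not at h
  apply hx
  have : x ∈ ⨅ n, I ^ n := by
    rw [Ideal.mem_iInf]
    intro n
    cases n with
    | zero => simp
    | succ n => exact h n
  rwa [hI.iInf_pow, Ideal.mem_bot] at this

open Classical in
/-- the order of an element (junk value `0` at `0`) -/
noncomputable def ord (x : A) : ℕ :=
  if hx : x = 0 then 0 else Nat.find (exists_notMem hI hx)

theorem ord_spec {x : A} (hx : x ≠ 0) : x ∉ I ^ (ord hI x + 1) := by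
  classical
  rw [ord, dif_neg hx]
  exact Nat.find_spec (exists_notMem hI hx)

theorem mem_pow_ord (x : A) : x ∈ I ^ ord hI x := by
  classical
  by_cases hx : x = 0
  · rw [hx]; exact zero_mem _
  · rcases Nat.eq_zero_or_pos (ord hI x) with h | h
    · rw [h, pow_zero, Ideal.one_eq_top]; trivial
    · have h1 : ord hI x - 1 < ord hI x := by omega
      have h2 : ord hI x = Nat.find (exists_notMem hI hx) := by rw [ord, dif_neg hx]
      rw [h2] at h1
      have := Nat.find_min (exists_notMem hI hx) h1
      rw [← h2] at this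
      push Not at this
      have h3 : ord hI x - 1 + 1 = ord hI x := by omega
      rwa [h3] at this

theorem le_ord_iff {x : A} (hx : x ≠ 0) (n : ℕ) : n ≤ ord hI x ↔ x ∈ I ^ n := by
  constructor
  · intro h
    exact Ideal.pow_le_pow_right h (mem_pow_ord hI x)
  · intro h
    by_contra hlt
    push Not at hlt
    exact ord_spec hI hx (Ideal.pow_le_pow_right hlt h)

theorem ord_eq {x : A} {n : ℕ} (h1 : x ∈ I ^ n) (h2 : x ∉ I ^ (n + 1)) : ord hI x = n := by
  have hx : x ≠ 0 := by
    rintro rfl
    exact h2 (zero_mem _)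
  apply le_antisymm
  · by_contra hlt
    push Not at hlt
    exact h2 ((le_ord_iff hI hx _).mp hlt)
  · exact (le_ord_iff hI hx _).mpr h1

include hI in
theorem mul_ne_zero' {x y : A} (hx : x ≠ 0) (hy : y ≠ 0) : x * y ≠ 0 := by
  intro h
  have := hI.mul_notMem (mem_pow_ord hI x) (ord_spec hI hx) (mem_pow_ord hI y) (ord_spec hI hy)
  rw [h] at this
  exact this (zero_mem _)

theorem ord_mul {x y : A} (hx : x ≠ 0) (hy : y ≠ 0) :
    ord hI (x * y) = ord hI x + ord hI y :=
  ord_eq hI (by rw [pow_add]; exact Ideal.mul_mem_mul (mem_pow_ord hI x) (mem_pow_ord hI y))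
    (hI.mul_notMem (mem_pow_ord hI x) (ord_spec hI hx) (mem_pow_ord hI y) (ord_spec hI hy))

theorem min_le_ord_add {x y : A} (hxy : x + y ≠ 0) :
    min (ord hI x) (ord hI y) ≤ ord hI (x + y) := by
  rw [le_ord_iff hI hxy]
  exact add_mem (Ideal.pow_le_pow_right (min_le_left _ _) (mem_pow_ord hI x))
    (Ideal.pow_le_pow_right (min_le_right _ _) (mem_pow_ord hI y))

include hI in
theorem nontrivial : Nontrivial A := by
  by_contra h
  rw [not_nontrivial_iff_subsingleton] at h
  exact hI.ne_top (Subsingleton.elim _ _)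

theorem ord_one : ord hI (1 : A) = 0 := by
  apply ord_eq hI
  · simp
  · rw [zero_add, pow_one]
    exact (Ideal.ne_top_iff_one I).mp hI.ne_top

include hI in
theorem isDomain : IsDomain A := by
  have := nontrivial hI
  have : NoZeroDivisors A := ⟨fun {a b} h => by
    by_contra hne
    push Not at hne
    exact mul_ne_zero' hI hne.1 hne.2 h⟩
  exact NoZeroDivisors.to_isDomain A

open Classical in
/-- the order valuation -/
noncomputable def val : Valuation A ℤᵐ⁰ where
  toFun x := if x = 0 then 0 else exp (-(ord hI x : ℤ))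
  map_zero' := by simp
  map_one' := by
    have := nontrivial hI
    rw [if_neg one_ne_zero, ord_one]
    simp
  map_mul' x y := by
    by_cases hx : x = 0
    · simp [hx]
    by_cases hy : y = 0
    · simp [hy]
    rw [if_neg hx, if_neg hy, if_neg (mul_ne_zero' hI hx hy), ord_mul hI hx hy, ← exp_add]
    congr 1
    push_cast
    ring
  map_add_le_max' x y := by
    by_cases hxy : x + y = 0
    · simp [hxy]
    by_cases hx : x = 0
    · simp [hx]
    by_cases hy : y = 0
    · simp [hy]
    rw [if_neg hx, if_neg hy, if_neg hxy, le_max_iff, exp_le_exp, exp_le_exp]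
    have := min_le_ord_add hI hxy
    rcases min_le_iff.mp this with h | h
    · left; omega
    · right; omega

theorem val_apply {x : A} (hx : x ≠ 0) : val hI x = exp (-(ord hI x : ℤ)) := by
  classical
  show (if x = 0 then (0 : ℤᵐ⁰) else exp (-(ord hI x : ℤ))) = _
  rw [if_neg hx]

theorem val_eq_zero_iff {x : A} : val hI x = 0 ↔ x = 0 := by
  constructor
  · intro h
    by_contra hx
    rw [val_apply hI hx] at h
    exact exp_ne_zero h
  · rintro rfl; exact map_zero _

theorem val_le_exp_iff {x : A} (n : ℕ) : val hI x ≤ exp (-(n : ℤ)) ↔ x ∈ I ^ n := by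
  by_cases hx : x = 0
  · rw [hx, map_zero]
    simp
  · rw [val_apply hI hx, exp_le_exp, ← le_ord_iff hI hx]
    omega

theorem val_le_one (x : A) : val hI x ≤ 1 := by
  have := (val_le_exp_iff hI (x := x) 0).mpr (by simp)
  simpa using this

theorem val_lt_one_iff {x : A} : val hI x < 1 ↔ x ∈ I := by
  by_cases hx : x = 0
  · rw [hx, map_zero]
    simp
  · rw [val_apply hI hx, ← exp_zero, exp_lt_exp]
    have := le_ord_iff hI hx 1
    rw [pow_one] at this
    rw [← this]
    omega

theorem val_lt_exp_iff {x : A} (n : ℕ) : val hI x < exp (-(n : ℤ)) ↔ x ∈ I ^ (n + 1) := by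
  rw [← val_le_exp_iff hI (n + 1)]
  by_cases hx : x = 0
  · rw [hx, map_zero]
    simp
  · rw [val_apply hI hx, exp_lt_exp, exp_le_exp]
    push_cast
    omega

end Groth.Agent.Lib.Helper20.OrdVal
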