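import Mathlib
import Groth.Agent.Lib.Helper20.RegSeqElem

/-!
# The Rees algebra of a weakly regular sequence
-/

set_option autoImplicit false
universe u

namespace Groth.Agent.Lib.Helper20.ReesReg

open MvPolynomial RingTheory.Sequence

variable {A : Type u} [CommRing A]

/-- splitting off the first variable from a homogeneous polynomial -/
theorem exists_decomp {n d : ℕ} (G : MvPolynomial (Fin (n + 1)) A) (hG : G.IsHomogeneous (d + 1)) :
    ∃ (G₁ : MvPolynomial (Fin (n + 1)) A) (H : MvPolynomial (Fin n) A),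
      G₁.IsHomogeneous d ∧ H.IsHomogeneous (d + 1) ∧ G = X 0 * G₁ + rename Fin.succ H := by
  classical
  set s : Fin (n + 1) →₀ ℕ := Finsupp.single 0 1 with hs
  set G₁ := G.divMonomial s with hG₁
  set R := G.modMonomial s with hR
  have hdecomp : X 0 * G₁ + R = G := divMonomial_add_modMonomial_single G 0
  have hG₁h : G₁.IsHomogeneous d := by
    intro t ht
    rw [hG₁, coeff_divMonomial] at ht
    have := hG ht
    simp only [Finsupp.weight_apply, Pi.one_apply, smul_eq_mul, mul_one] at this ⊢
    rw [hs, Finsupp.sum_add_index' (fun _ => rfl) (fun _ _ _ => rfl),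
      Finsupp.sum_single_index rfl] at this
    omega
  have hRh : R.IsHomogeneous (d + 1) := by
    intro t ht
    by_cases hle : s ≤ t
    · rw [hR, coeff_modMonomial_of_le _ hle] at ht
      exact absurd rfl ht
    · rw [hR, coeff_modMonomial_of_not_le _ hle] at ht
      exact hG ht
  have hvars : (R.vars : Set (Fin (n + 1))) ⊆ Set.range Fin.succ := by
    intro i hi
    rw [Finset.mem_coe, mem_vars] at hi
    obtain ⟨t, ht, hit⟩ := hi
    rw [mem_support_iff] at ht
    have hle : ¬ s ≤ t := by
      intro hle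
      rw [hR, coeff_modMonomial_of_le _ hle] at ht
      exact ht rfl
    have hi0 : i ≠ 0 := by
      intro h0
      apply hle
      rw [hs, Finsupp.single_le_iff]
      rw [Finsupp.mem_support_iff, h0] at hit
      omega
    exact ⟨i.pred hi0, Fin.succ_pred i hi0⟩
  obtain ⟨H, hH⟩ := exists_rename_eq_of_vars_subset_range R Fin.succ (Fin.succ_injective n) hvars
  refine ⟨G₁, H, hG₁h, ?_, ?_⟩
  · rw [← IsHomogeneous.rename_isHomogeneous_iff (Fin.succ_injective n), hH]
    exact hRh
  · rw [hH, hdecomp]

/-- the ideal of Koszul relations `a_i X_j - a_j X_i` -/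
noncomputable def Jr {n : ℕ} (a : Fin n → A) : Ideal (MvPolynomial (Fin n) A) :=
  Ideal.span {q | ∃ i j : Fin n, q = C (a i) * X j - C (a j) * X i}

/-- "reversed" weak regularity: each `a 0` is a non-zero-divisor modulo the later elements -/
def RR : ∀ n : ℕ, (Fin n → A) → Prop
  | 0, _ => True
  | n + 1, a => RR n (fun i => a i.succ) ∧
      ∀ x, a 0 * x ∈ Ideal.span (Set.range fun i : Fin n => a i.succ) →
        x ∈ Ideal.span (Set.range fun i : Fin n => a i.succ)

/-- the claim: homogeneous polynomials vanishing at `a` lie in `Jr a` -/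
def Claim {n : ℕ} (a : Fin n → A) : Prop :=
  ∀ (d : ℕ) (G : MvPolynomial (Fin n) A), G.IsHomogeneous d → eval a G = 0 → G ∈ Jr a

theorem Jr_le_map_C {n : ℕ} (a : Fin n → A) :
    Jr a ≤ Ideal.map (C : A →+* MvPolynomial (Fin n) A) (Ideal.span (Set.range a)) := by
  rw [Jr, Ideal.span_le]
  rintro _ ⟨i, j, rfl⟩
  refine sub_mem (Ideal.mul_mem_right _ _ (Ideal.mem_map_of_mem _ (Ideal.subset_span ⟨i, rfl⟩)))
    (Ideal.mul_mem_right _ _ (Ideal.mem_map_of_mem _ (Ideal.subset_span ⟨j, rfl⟩)))

theorem eval_eq_zero_of_mem_Jr {n : ℕ} (a : Fin n → A) (G : MvPolynomial (Fin n) A)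
    (hG : G ∈ Jr a) : eval a G = 0 := by
  have : Jr a ≤ RingHom.ker (eval a) := by
    rw [Jr, Ideal.span_le]
    rintro _ ⟨i, j, rfl⟩
    rw [SetLike.mem_coe, RingHom.mem_ker]
    simp only [map_sub, map_mul, eval_C, eval_X]
    ring
  exact this hG

theorem rename_succ_mem_Jr {n : ℕ} (a : Fin (n + 1) → A) (H : MvPolynomial (Fin n) A)
    (hH : H ∈ Jr (fun i => a i.succ)) : rename Fin.succ H ∈ Jr a := by
  have : Jr (fun i => a i.succ) ≤ (Jr a).comap (rename Fin.succ : _ →ₐ[A] _).toRingHom := by
    rw [Jr, Ideal.span_le]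
    rintro _ ⟨i, j, rfl⟩
    rw [SetLike.mem_coe, Ideal.mem_comap]
    simp only [AlgHom.toRingHom_eq_coe, RingHom.coe_coe, map_sub, map_mul, rename_C, rename_X]
    exact Ideal.subset_span ⟨i.succ, j.succ, rfl⟩
  exact this hH

/-- the value of a homogeneous polynomial of degree `m` lies in the `m`-th power -/
theorem eval_mem_pow {n m : ℕ} (a : Fin n → A) (H : MvPolynomial (Fin n) A)
    (hH : H.IsHomogeneous m) : eval a H ∈ Ideal.span (Set.range a) ^ m :=
  (Ideal.mem_span_pow_iff_exists_isHomogeneous a _).mpr ⟨H, hH, rfl⟩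

/-- elements of `I^(m+1)` are of the form `∑ a_j Q_j(a)` with `Q_j` homogeneous of degree `m` -/
theorem exists_of_mem_pow_succ {n m : ℕ} (a : Fin n → A) (x : A)
    (hx : x ∈ Ideal.span (Set.range a) ^ (m + 1)) :
    ∃ Q : Fin n → MvPolynomial (Fin n) A, (∀ j, (Q j).IsHomogeneous m) ∧
      x = ∑ j, a j * eval a (Q j) := by
  classical
  rw [pow_succ, ← smul_eq_mul, Submodule.mem_ideal_smul_span_iff_exists_sum] at hx
  obtain ⟨c, hc, hsum⟩ := hx
  have h1 : ∀ j, ∃ Qj : MvPolynomial (Fin n) A, Qj.IsHomogeneous m ∧ eval a Qj = c j := fun j =>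
    (Ideal.mem_span_pow_iff_exists_isHomogeneous a _).mp (hc j)
  choose Q hQ1 hQ2 using h1
  refine ⟨Q, hQ1, ?_⟩
  rw [← hsum, Finsupp.sum_fintype c (fun i r => r • a i) (fun i => zero_smul A (a i))]
  refine Finset.sum_congr rfl fun j _ => ?_
  rw [hQ2, smul_eq_mul, mul_comm]

theorem mem_pow_of_mul_mem_pow {n : ℕ} (a : Fin n → A) (hC : Claim a) (a0 : A)
    (h0 : ∀ x, a0 * x ∈ Ideal.span (Set.range a) → x ∈ Ideal.span (Set.range a)) :
    ∀ (m : ℕ) (x : A), a0 * x ∈ Ideal.span (Set.range a) ^ m →
      x ∈ Ideal.span (Set.range a) ^ m := by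
  classical
  intro m
  induction m with
  | zero => intro x _; simp
  | succ m ih =>
    intro x hx
    have hxm : x ∈ Ideal.span (Set.range a) ^ m :=
      ih x (Ideal.pow_le_pow_right (Nat.le_succ m) hx)
    obtain ⟨H, hH, rfl⟩ := (Ideal.mem_span_pow_iff_exists_isHomogeneous a _).mp hxm
    obtain ⟨Q, hQ, hsum⟩ := exists_of_mem_pow_succ a _ hx
    set D : MvPolynomial (Fin n) A := C a0 * H - ∑ j, C (a j) * Q j with hD
    have hDh : D.IsHomogeneous m := by
      refine IsHomogeneous.sub (hH.C_mul a0) (IsHomogeneous.sum _ _ _ fun j _ => (hQ j).C_mul _)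
    have hD0 : eval a D = 0 := by
      rw [hD, map_sub, map_mul, eval_C, hsum, map_sum]
      simp [map_mul, eval_C]
    have hDJ := Jr_le_map_C a (hC m D hDh hD0)
    rw [MvPolynomial.mem_map_C_iff] at hDJ
    have hcoeff : ∀ t, coeff t H ∈ Ideal.span (Set.range a) := by
      intro t
      apply h0
      have h1 := hDJ t
      rw [hD, coeff_sub, coeff_C_mul, coeff_sum] at h1
      have h2 : ∑ j, coeff t (C (a j) * Q j) ∈ Ideal.span (Set.range a) := by
        refine Ideal.sum_mem _ fun j _ => ?_
        rw [coeff_C_mul]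
        exact Ideal.mul_mem_right _ _ (Ideal.subset_span ⟨j, rfl⟩)
      have := add_mem h1 h2
      simpa using this
    rw [eval_eq', pow_succ']
    refine Ideal.sum_mem _ fun t ht => ?_
    refine Ideal.mul_mem_mul (hcoeff t) ?_
    have hdeg : m = ∑ i, t i := by
      rw [hH.degree_eq_sum_deg_support ht]
      refine Finset.sum_subset (Finset.subset_univ _) fun i _ hi => ?_
      simpa using hi
    rw [hdeg, ← Finset.prod_pow_eq_pow_sum]
    refine Ideal.prod_mem_prod fun i _ => ?_
    exact Ideal.pow_mem_pow (Ideal.subset_span (Set.mem_range_self i)) _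

theorem claim_of_RR : ∀ (n : ℕ) (a : Fin n → A), RR n a → Claim a := by
  intro n
  induction n with
  | zero =>
    intro a _ d G _ hG0
    rw [eq_C_of_isEmpty G] at hG0 ⊢
    rw [eval_C] at hG0
    rw [hG0, map_zero]
    exact zero_mem _
  | succ n ihn =>
    intro a ha
    obtain ⟨ha', h0⟩ := ha
    have hC' : Claim (fun i => a i.succ) := ihn _ ha'
    intro d
    induction d with
    | zero =>
      intro G hG hG0
      have : G = C (coeff 0 G) := by
        rw [← totalDegree_eq_zero_iff_eq_C]
        exact Nat.le_zero.mp hG.totalDegree_le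
      rw [this] at hG0 ⊢
      rw [eval_C] at hG0
      rw [hG0, map_zero]
      exact zero_mem _
    | succ d ihd =>
      intro G hG hG0
      obtain ⟨G₁, H, hG₁, hH, rfl⟩ := exists_decomp G hG
      set a' : Fin n → A := fun i => a i.succ with ha'def
      have hev : ∀ P : MvPolynomial (Fin n) A, eval a (rename Fin.succ P) = eval a' P := by
        intro P
        rw [eval_rename]; rfl
      have h1 : a 0 * eval a G₁ = - eval a' H := by
        rw [map_add, map_mul, eval_X, hev] at hG0
        exact eq_neg_of_add_eq_zero_left hG0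
      have h2 : eval a G₁ ∈ Ideal.span (Set.range a') ^ (d + 1) := by
        apply mem_pow_of_mul_mem_pow a' hC' (a 0) h0
        rw [h1]
        exact neg_mem (eval_mem_pow a' H hH)
      obtain ⟨Q, hQ, hsum⟩ := exists_of_mem_pow_succ a' _ h2
      have h3 : C (a 0) * ∑ j, X j * Q j + H ∈ Jr a' := by
        apply hC' (d + 1)
        · refine IsHomogeneous.add (IsHomogeneous.C_mul
            (IsHomogeneous.sum _ _ _ fun j _ => ?_) _) hH
          have := (isHomogeneous_X A j).mul (hQ j)
          rwa [add_comm] at this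
        · rw [map_add, map_mul, eval_C, map_sum]
          simp only [map_mul, eval_X]
          rw [← hsum, h1]; ring
      have h4 := rename_succ_mem_Jr a _ h3
      have h5 : G₁ - ∑ j, C (a' j) * rename Fin.succ (Q j) ∈ Jr a := by
        apply ihd
        · exact IsHomogeneous.sub hG₁ (IsHomogeneous.sum _ _ _ fun j _ =>
            ((hQ j).rename_isHomogeneous).C_mul _)
        · rw [map_sub, map_sum, hsum]
          simp only [map_mul, eval_C, hev]
          exact sub_self _
      have h6 : ∀ j : Fin n, C (a j.succ) * X 0 - C (a 0) * X j.succ ∈ Jr a :=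
        fun j => Ideal.subset_span ⟨j.succ, 0, rfl⟩
      have : X 0 * G₁ + rename Fin.succ H
          = X 0 * (G₁ - ∑ j, C (a' j) * rename Fin.succ (Q j))
            + ∑ j, (C (a j.succ) * X 0 - C (a 0) * X j.succ) * rename Fin.succ (Q j)
            + rename Fin.succ (C (a 0) * ∑ j, X j * Q j + H) := by
        simp only [map_add, map_mul, map_sum, rename_C, rename_X, Finset.mul_sum, mul_sub,
          sub_mul, Finset.sum_sub_distrib, ha'def]
        have e1 : ∀ j : Fin n, X 0 * (C (a j.succ) * rename Fin.succ (Q j))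
            = C (a j.succ) * X 0 * rename Fin.succ (Q j) := fun j => by ring
        have e2 : ∀ j : Fin n, C (a 0) * (X j.succ * rename Fin.succ (Q j))
            = C (a 0) * X j.succ * rename Fin.succ (Q j) := fun j => by ring
        simp only [e1, e2]
        ring
      rw [this]
      exact add_mem (add_mem (Ideal.mul_mem_left _ _ h5)
        (Ideal.sum_mem _ fun j _ => Ideal.mul_mem_right _ _ (h6 j))) h4

theorem RR_of_isWeaklyRegular : ∀ (n : ℕ) (a : Fin n → A),
    IsWeaklyRegular A (List.ofFn a) → RR n (fun i => a i.rev) := by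
  intro n
  induction n with
  | zero => intro a _; trivial
  | succ n ih =>
    intro a ha
    rw [List.ofFn_succ', List.concat_eq_append, RegSeqElem.isWeaklyRegular_append_singleton_iff,
      RegSeqElem.ofList_ofFn] at ha
    have e : (fun i : Fin n => a (Fin.rev i.succ)) = fun i : Fin n => a (Fin.rev i).castSucc := by
      funext i; rw [Fin.rev_succ]
    have hr : Set.range (fun i : Fin n => a (Fin.rev i).castSucc)
        = Set.range (fun i : Fin n => a i.castSucc) := by
      ext x
      constructor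
      · rintro ⟨i, rfl⟩; exact ⟨i.rev, rfl⟩
      · rintro ⟨i, rfl⟩; exact ⟨i.rev, by simp⟩
    refine ⟨?_, ?_⟩
    · show RR n (fun i : Fin n => a (Fin.rev i.succ))
      rw [e]
      exact ih (fun i => a i.castSucc) ha.1
    · show ∀ x, a (Fin.rev 0) * x ∈ Ideal.span (Set.range fun i : Fin n => a (Fin.rev i.succ)) →
        x ∈ Ideal.span (Set.range fun i : Fin n => a (Fin.rev i.succ))
      rw [e, hr, Fin.rev_zero]
      exact ha.2

theorem rename_rev_mem_Jr {n : ℕ} (a : Fin n → A) (H : MvPolynomial (Fin n) A)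
    (hH : H ∈ Jr (fun i => a i.rev)) : rename Fin.rev H ∈ Jr a := by
  have : Jr (fun i => a i.rev) ≤ (Jr a).comap (rename Fin.rev : _ →ₐ[A] _).toRingHom := by
    rw [Jr, Ideal.span_le]
    rintro _ ⟨i, j, rfl⟩
    rw [SetLike.mem_coe, Ideal.mem_comap]
    simp only [AlgHom.toRingHom_eq_coe, RingHom.coe_coe, map_sub, map_mul, rename_C, rename_X]
    exact Ideal.subset_span ⟨i.rev, j.rev, rfl⟩
  exact this hH

theorem claim_of_rev {n : ℕ} (a : Fin n → A) (h : Claim (fun i => a i.rev)) : Claim a := by
  intro d G hG hG0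
  have h1 : rename Fin.rev G ∈ Jr (fun i => a i.rev) := by
    apply h d _ hG.rename_isHomogeneous
    rw [eval_rename]
    have : ((fun i => a i.rev) ∘ Fin.rev) = a := by
      funext i; simp
    rw [this]; exact hG0
  have h2 := rename_rev_mem_Jr a _ h1
  rw [rename_rename] at h2
  have : (Fin.rev ∘ Fin.rev : Fin n → Fin n) = id := by funext i; simp
  rwa [this, rename_id_apply] at h2

theorem claim_of_isWeaklyRegular {n : ℕ} (a : Fin n → A)
    (ha : IsWeaklyRegular A (List.ofFn a)) : Claim a :=
  claim_of_rev a (claim_of_RR n _ (RR_of_isWeaklyRegular n a ha))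

/-- the Rees map on a homogeneous polynomial -/
theorem aeval_of_isHomogeneous {n d : ℕ} (a : Fin n → A) (G : MvPolynomial (Fin n) A)
    (hG : G.IsHomogeneous d) :
    aeval (R := A) (fun i : Fin n => Polynomial.C (a i) * (Polynomial.X : Polynomial A)) G
      = Polynomial.C (eval a G) * Polynomial.X ^ d := by
  classical
  conv_lhs => rw [← G.support_sum_monomial_coeff]
  conv_rhs => rw [← G.support_sum_monomial_coeff]
  rw [map_sum, map_sum, map_sum, Finset.sum_mul]
  refine Finset.sum_congr rfl fun s hs => ?_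
  rw [aeval_monomial, eval_monomial]
  have hd : d = ∑ i ∈ s.support, s i := hG.degree_eq_sum_deg_support hs
  simp only [Finsupp.prod, mul_pow, Finset.prod_mul_distrib, Finset.prod_pow_eq_pow_sum, ← hd,
    map_mul, map_prod, map_pow]
  rw [mul_assoc]
  rfl

theorem mem_Jr_of_aeval_eq_zero {n : ℕ} (a : Fin n → A) (hC : Claim a)
    (F : MvPolynomial (Fin n) A)
    (hF : aeval (R := A) (fun i : Fin n => Polynomial.C (a i) * (Polynomial.X : Polynomial A)) F
      = 0) : F ∈ Jr a := by
  classical
  rw [← sum_homogeneousComponent F] at hF ⊢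
  rw [map_sum] at hF
  refine Ideal.sum_mem _ fun d hd => ?_
  apply hC d _ (homogeneousComponent_isHomogeneous d F)
  have h1 := congrArg (fun p : Polynomial A => p.coeff d) hF
  simp only [Polynomial.finsetSum_coeff, Polynomial.coeff_zero] at h1
  rw [Finset.sum_eq_single d] at h1
  · rw [aeval_of_isHomogeneous a _ (homogeneousComponent_isHomogeneous d F),
      Polynomial.coeff_C_mul_X_pow, if_pos rfl] at h1
    exact h1
  · intro e _ hed
    rw [aeval_of_isHomogeneous a _ (homogeneousComponent_isHomogeneous e F),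
      Polynomial.coeff_C_mul_X_pow, if_neg (Ne.symm hed)]
  · intro h; exact absurd hd h

theorem ker_rees {n : ℕ} (a : Fin n → A) (ha : IsWeaklyRegular A (List.ofFn a)) :
    RingHom.ker (aeval (R := A)
      (fun i : Fin n => Polynomial.C (a i) * (Polynomial.X : Polynomial A))) = Jr a := by
  apply le_antisymm
  · intro F hF
    exact mem_Jr_of_aeval_eq_zero a (claim_of_isWeaklyRegular a ha) F hF
  · rw [Jr, Ideal.span_le]
    rintro _ ⟨i, j, rfl⟩
    rw [SetLike.mem_coe, RingHom.mem_ker]
    simp only [map_sub, map_mul, aeval_C, aeval_X, Polynomial.algebraMap_eq]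
    ring

/-- if all coefficients of a homogeneous polynomial of degree `n` lie in `I = (a)`, its value at
`a` lies in `I^(n+1)` -/
theorem eval_mem_pow_succ_of_coeff_mem {n m : ℕ} (a : Fin n → A) (G : MvPolynomial (Fin n) A)
    (hG : G.IsHomogeneous m) (hc : ∀ s, coeff s G ∈ Ideal.span (Set.range a)) :
    eval a G ∈ Ideal.span (Set.range a) ^ (m + 1) := by
  classical
  rw [eval_eq', pow_succ']
  refine Ideal.sum_mem _ fun t ht => ?_
  refine Ideal.mul_mem_mul (hc t) ?_
  have hdeg : m = ∑ i, t i := by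
    rw [hG.degree_eq_sum_deg_support ht]
    refine Finset.sum_subset (Finset.subset_univ _) fun i _ hi => ?_
    simpa using hi
  rw [hdeg, ← Finset.prod_pow_eq_pow_sum]
  refine Ideal.prod_mem_prod fun i _ => ?_
  exact Ideal.pow_mem_pow (Ideal.subset_span (Set.mem_range_self i)) _

/-- quasi-regularity of a weakly regular sequence -/
theorem coeff_mem_of_eval_mem_pow_succ {n m : ℕ} (a : Fin n → A)
    (ha : IsWeaklyRegular A (List.ofFn a)) (G : MvPolynomial (Fin n) A)
    (hG : G.IsHomogeneous m) (hev : eval a G ∈ Ideal.span (Set.range a) ^ (m + 1)) :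
    ∀ s, coeff s G ∈ Ideal.span (Set.range a) := by
  classical
  obtain ⟨Q, hQ, hsum⟩ := exists_of_mem_pow_succ a _ hev
  set D : MvPolynomial (Fin n) A := G - ∑ j, C (a j) * Q j with hD
  have hDh : D.IsHomogeneous m :=
    IsHomogeneous.sub hG (IsHomogeneous.sum _ _ _ fun j _ => (hQ j).C_mul _)
  have hD0 : eval a D = 0 := by
    rw [hD, map_sub, hsum, map_sum]
    simp [map_mul, eval_C]
  have hDJ := Jr_le_map_C a (claim_of_isWeaklyRegular a ha m D hDh hD0)
  rw [MvPolynomial.mem_map_C_iff] at hDJ
  intro t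
  have h1 := hDJ t
  rw [hD, coeff_sub, coeff_sum] at h1
  have h2 : ∑ j, coeff t (C (a j) * Q j) ∈ Ideal.span (Set.range a) := by
    refine Ideal.sum_mem _ fun j _ => ?_
    rw [coeff_C_mul]
    exact Ideal.mul_mem_right _ _ (Ideal.subset_span ⟨j, rfl⟩)
  have := add_mem h1 h2
  simpa using this

/-- multiplicativity of the order function for a prime ideal generated by a weakly regular
sequence -/
theorem mul_notMem_pow {n : ℕ} (a : Fin n → A) (ha : IsWeaklyRegular A (List.ofFn a))
    (hprime : (Ideal.span (Set.range a)).IsPrime) {i j : ℕ} {x y : A}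
    (hx : x ∈ Ideal.span (Set.range a) ^ i) (hx' : x ∉ Ideal.span (Set.range a) ^ (i + 1))
    (hy : y ∈ Ideal.span (Set.range a) ^ j) (hy' : y ∉ Ideal.span (Set.range a) ^ (j + 1)) :
    x * y ∉ Ideal.span (Set.range a) ^ (i + j + 1) := by
  classical
  intro hxy
  set I := Ideal.span (Set.range a) with hI
  obtain ⟨G, hG, rfl⟩ := (Ideal.mem_span_pow_iff_exists_isHomogeneous a _).mp hx
  obtain ⟨H, hH, rfl⟩ := (Ideal.mem_span_pow_iff_exists_isHomogeneous a _).mp hy
  have hGH : (G * H).IsHomogeneous (i + j) := hG.mul hH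
  rw [← map_mul] at hxy
  have hc := coeff_mem_of_eval_mem_pow_succ a ha (G * H) hGH hxy
  have hdom : IsDomain (A ⧸ I) := Ideal.Quotient.isDomain I
  have hmap : map (Ideal.Quotient.mk I) (G * H) = 0 := by
    ext s
    rw [coeff_map, coeff_zero, Ideal.Quotient.eq_zero_iff_mem]
    exact hc s
  rw [map_mul, mul_eq_zero] at hmap
  rcases hmap with h | h
  · apply hx'
    apply eval_mem_pow_succ_of_coeff_mem a G hG
    intro s
    have := congrArg (coeff s) h
    rwa [coeff_map, coeff_zero, Ideal.Quotient.eq_zero_iff_mem] at this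
  · apply hy'
    apply eval_mem_pow_succ_of_coeff_mem a H hH
    intro s
    have := congrArg (coeff s) h
    rwa [coeff_map, coeff_zero, Ideal.Quotient.eq_zero_iff_mem] at this

end Groth.Agent.Lib.Helper20.ReesReg
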