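import Mathlib
import Groth.Agent.Lib.Helper20.OrdVal
import Groth.Agent.Lib.Helper20.ReesReg
import Groth.Agent.Lib.Helper21.RegularLocal

set_option autoImplicit false
universe u v

namespace Groth.Agent.Lib.Helper20.BlowupDVR

open WithZero OrdVal MvPolynomial

section General

variable {A : Type u} [CommRing A] {I : Ideal A} (hI : OrdVal.Data I)
variable (K : Type v) [Field K] [Algebra A K] [IsFractionRing A K]

theorem le_primeCompl : nonZeroDivisors A ≤ (OrdVal.val hI).supp.primeCompl := by
  intro s hs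
  show s ∉ (val hI).supp
  rw [Valuation.mem_supp_iff, val_eq_zero_iff]
  have := nontrivial hI
  exact nonZeroDivisors.ne_zero hs

/-- the extension of the order valuation to the fraction field -/
noncomputable def valK : Valuation K ℤᵐ⁰ :=
  (val hI).extendToLocalization (le_primeCompl hI) K

theorem valK_algebraMap (a : A) : valK hI K (algebraMap A K a) = val hI a :=
  Valuation.extendToLocalization_apply_map_apply _ _ _ a

theorem valK_eq_zero_iff (z : K) : valK hI K z = 0 ↔ z = 0 := by
  exact map_eq_zero _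

/-- the valuation ring as a subalgebra -/
noncomputable def V : Subalgebra A K where
  carrier := {z | valK hI K z ≤ 1}
  mul_mem' := fun {a b} ha hb => by
    rw [Set.mem_ofPred_eq] at ha hb ⊢
    rw [map_mul]
    exact mul_le_one' ha hb
  one_mem' := by
    rw [Set.mem_ofPred_eq, map_one]
  add_mem' := fun {a b} ha hb => by
    rw [Set.mem_ofPred_eq] at ha hb ⊢
    exact le_trans (Valuation.map_add _ a b) (max_le ha hb)
  zero_mem' := by
    rw [Set.mem_ofPred_eq, map_zero]
    exact zero_le
  algebraMap_mem' := fun a => by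
    show valK hI K (algebraMap A K a) ≤ 1
    rw [valK_algebraMap]
    exact val_le_one hI a

theorem mem_V_iff (z : K) : z ∈ V hI K ↔ valK hI K z ≤ 1 := Iff.rfl

/-- elements of valuation one are units of `V` -/
theorem isUnit_of_valK_eq_one (z : V hI K) (hz : valK hI K (z : K) = 1) : IsUnit z := by
  have hz0 : (z : K) ≠ 0 := by
    intro h
    rw [h, map_zero] at hz
    exact zero_ne_one hz
  have hinv : (z : K)⁻¹ ∈ V hI K := by
    rw [mem_V_iff, map_inv₀, hz, inv_one]
  refine IsUnit.of_mul_eq_one (⟨(z : K)⁻¹, hinv⟩ : V hI K) ?_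
  apply Subtype.ext
  show (z : K) * (z : K)⁻¹ = 1
  exact mul_inv_cancel₀ hz0

theorem valK_eq_one_of_isUnit (z : V hI K) (hz : IsUnit z) : valK hI K (z : K) = 1 := by
  obtain ⟨u, rfl⟩ := hz
  have h1 : valK hI K ((u : V hI K) : K) ≤ 1 := (u : V hI K).2
  have h2 : valK hI K (((u⁻¹ : (V hI K)ˣ) : V hI K) : K) ≤ 1 := ((u⁻¹ : (V hI K)ˣ) : V hI K).2
  have h3 : ((u : V hI K) : K) * (((u⁻¹ : (V hI K)ˣ) : V hI K) : K) = 1 := by
    have h5 : ((u : V hI K) * ((u⁻¹ : (V hI K)ˣ) : V hI K) : V hI K) = 1 := u.mul_inv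
    have h6 := congrArg (Subtype.val) h5
    exact h6
  have h4 := congrArg (valK hI K) h3
  rw [map_mul, map_one] at h4
  apply le_antisymm h1
  by_contra hlt
  push Not at hlt
  have : valK hI K ((u : V hI K) : K) * valK hI K (((u⁻¹ : (V hI K)ˣ) : V hI K) : K) < 1 := by
    calc _ ≤ valK hI K ((u : V hI K) : K) * 1 := by gcongr
      _ < 1 := by rwa [mul_one]
  rw [h4] at this
  exact lt_irrefl _ this

theorem val_of_mem_notMem {π : A} (hπ : π ∈ I) (hπ' : π ∉ I ^ 2) : val hI π = exp (-1) := by
  have h1 : ord hI π = 1 := ord_eq hI (by rwa [pow_one]) hπ'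
  have h0 : π ≠ 0 := by
    rintro rfl
    exact hπ' (zero_mem _)
  rw [val_apply hI h0, h1]
  rfl

theorem exists_nat_valK (z : K) (hz : z ≠ 0) (hz1 : valK hI K z ≤ 1) :
    ∃ n : ℕ, valK hI K z = exp (-(n : ℤ)) := by
  have h0 : valK hI K z ≠ 0 := by
    rw [ne_eq, valK_eq_zero_iff]; exact hz
  have h1 : exp (log (valK hI K z)) = valK hI K z := exp_log h0
  have h2 : log (valK hI K z) ≤ 0 := by
    rw [← h1, ← exp_zero, exp_le_exp] at hz1
    exact hz1
  refine ⟨(-log (valK hI K z)).toNat, ?_⟩
  rw [Int.toNat_of_nonneg (by omega), neg_neg, h1]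

variable {π : A} (hπ : π ∈ I) (hπ' : π ∉ I ^ 2)

include hπ hπ' in
theorem associated_pow (z : V hI K) (hz : z ≠ 0) :
    ∃ n : ℕ, Associated ((algebraMap A (V hI K) π) ^ n) z := by
  have hzK : (z : K) ≠ 0 := fun h => hz (Subtype.ext h)
  obtain ⟨n, hn⟩ := exists_nat_valK hI K (z : K) hzK z.2
  have hπK : valK hI K (algebraMap A K π) = exp (-1) := by
    rw [valK_algebraMap, val_of_mem_notMem hI hπ hπ']
  have hπ0 : algebraMap A K π ≠ 0 := by
    intro h
    rw [h, map_zero] at hπK
    exact exp_ne_zero hπK.symm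
  have hu : valK hI K ((z : K) / (algebraMap A K π) ^ n) = 1 := by
    rw [map_div₀, map_pow, hπK, hn, ← exp_nsmul, nsmul_eq_mul, mul_neg, mul_one]
    exact div_self exp_ne_zero
  let u : V hI K := ⟨(z : K) / (algebraMap A K π) ^ n, le_of_eq hu⟩
  have huu : IsUnit u := isUnit_of_valK_eq_one hI K u hu
  refine ⟨n, ?_⟩
  obtain ⟨u', hu'⟩ := huu
  refine ⟨u', ?_⟩
  rw [hu']
  apply Subtype.ext
  show (algebraMap A K π) ^ n * ((z : K) / (algebraMap A K π) ^ n) = (z : K)
  field_simp

include hπ hπ' in
theorem irreducible_pi : Irreducible (algebraMap A (V hI K) π) := by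
  have hπK : valK hI K (algebraMap A K π) = exp (-1) := by
    rw [valK_algebraMap, val_of_mem_notMem hI hπ hπ']
  constructor
  · intro hu
    have := valK_eq_one_of_isUnit hI K _ hu
    have h2 : valK hI K ((algebraMap A (V hI K) π : V hI K) : K) = exp (-1) := hπK
    rw [h2, ← exp_zero, exp_inj] at this
    omega
  · intro y z hyz
    have hy0 : (y : K) ≠ 0 := by
      intro h
      have h3 := congrArg (fun w : V hI K => valK hI K (w : K)) hyz
      simp only [Subalgebra.coe_mul, h, map_zero, zero_mul] at h3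
      have h2 : valK hI K ((algebraMap A (V hI K) π : V hI K) : K) = exp (-1) := hπK
      rw [h2] at h3
      exact exp_ne_zero h3
    have hz0 : (z : K) ≠ 0 := by
      intro h
      have h3 := congrArg (fun w : V hI K => valK hI K (w : K)) hyz
      simp only [Subalgebra.coe_mul, h, map_zero, mul_zero] at h3
      have h2 : valK hI K ((algebraMap A (V hI K) π : V hI K) : K) = exp (-1) := hπK
      rw [h2] at h3
      exact exp_ne_zero h3
    obtain ⟨i, hi⟩ := exists_nat_valK hI K (y : K) hy0 y.2
    obtain ⟨j, hj⟩ := exists_nat_valK hI K (z : K) hz0 z.2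
    have h3 := congrArg (fun w : V hI K => valK hI K (w : K)) hyz
    simp only [Subalgebra.coe_mul, map_mul] at h3
    have h2 : valK hI K ((algebraMap A (V hI K) π : V hI K) : K) = exp (-1) := hπK
    rw [h2, hi, hj, ← exp_add, exp_inj] at h3
    have hij : i = 0 ∨ j = 0 := by omega
    rcases hij with h | h
    · left
      apply isUnit_of_valK_eq_one hI K y
      rw [hi, h]; simp
    · right
      apply isUnit_of_valK_eq_one hI K z
      rw [hj, h]; simp

include hπ hπ' in
theorem isDiscreteValuationRing : IsDiscreteValuationRing (V hI K) :=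
  IsDiscreteValuationRing.ofHasUnitMulPowIrreducibleFactorization
    ⟨algebraMap A (V hI K) π, irreducible_pi hI K hπ hπ',
      fun {x} hx => associated_pow hI K hπ hπ' x hx⟩

theorem isUnit_iff (z : V hI K) : IsUnit z ↔ valK hI K (z : K) = 1 :=
  ⟨valK_eq_one_of_isUnit hI K z, isUnit_of_valK_eq_one hI K z⟩

theorem not_isUnit_iff (z : V hI K) : ¬ IsUnit z ↔ valK hI K (z : K) < 1 := by
  rw [isUnit_iff]
  constructor
  · intro h
    exact lt_of_le_of_ne z.2 h
  · intro h
    exact ne_of_lt h

instance isLocalRing : IsLocalRing (V hI K) := by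
  apply IsLocalRing.of_nonunits_add
  intro a b ha hb
  rw [mem_nonunits_iff, not_isUnit_iff] at ha hb ⊢
  exact lt_of_le_of_lt (Valuation.map_add _ _ _) (max_lt ha hb)

theorem mem_maximalIdeal_iff (z : V hI K) :
    z ∈ IsLocalRing.maximalIdeal (V hI K) ↔ valK hI K (z : K) < 1 := by
  rw [IsLocalRing.mem_maximalIdeal, mem_nonunits_iff, not_isUnit_iff]

theorem comap_maximalIdeal :
    (IsLocalRing.maximalIdeal (V hI K)).comap (algebraMap A (V hI K)) = I := by
  ext a
  rw [Ideal.mem_comap, mem_maximalIdeal_iff]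
  show valK hI K (algebraMap A K a) < 1 ↔ _
  rw [valK_algebraMap, val_lt_one_iff]

theorem isFractionRing : IsFractionRing (V hI K) K := by
  apply IsFractionRing.of_field
  intro z
  obtain ⟨a, s, hs⟩ := IsLocalization.exists_mk'_eq (nonZeroDivisors A) z
  refine ⟨algebraMap A (V hI K) a, algebraMap A (V hI K) s, ?_⟩
  rw [← hs, IsFractionRing.mk'_eq_div]
  rfl

end General

section Homog

variable {A : Type u} [CommRing A] {K : Type v} [CommRing K] [Algebra A K]

/-- evaluating a homogeneous polynomial at a scaled point -/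
theorem aeval_mul_of_isHomogeneous {σ : Type*} [Fintype σ] {n : ℕ} (G : MvPolynomial σ A)
    (hG : G.IsHomogeneous n) (c : K) (y : σ → K) :
    aeval (fun i => c * y i) G = c ^ n * aeval y G := by
  classical
  rw [aeval_def, aeval_def, eval₂_eq', eval₂_eq', Finset.mul_sum]
  refine Finset.sum_congr rfl fun s hs => ?_
  have hdeg : n = ∑ i, s i := by
    rw [hG.degree_eq_sum_deg_support hs]
    refine Finset.sum_subset (Finset.subset_univ _) fun i _ hi => ?_
    simpa using hi
  simp only [mul_pow, Finset.prod_mul_distrib, Finset.prod_pow_eq_pow_sum, ← hdeg]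
  ring

/-- homogenization of a polynomial in `d` variables to degree `N` in `d + 1` variables -/
noncomputable def homog {d : ℕ} (N : ℕ) (P : MvPolynomial (Fin d) A) : MvPolynomial (Fin (d + 1)) A :=
  ∑ s ∈ P.support, monomial (Finsupp.cons (N - s.degree) s) (coeff s P)

theorem homog_isHomogeneous {d : ℕ} (N : ℕ) (P : MvPolynomial (Fin d) A)
    (hN : P.totalDegree ≤ N) : (homog N P).IsHomogeneous N := by
  classical
  refine IsHomogeneous.sum _ _ _ fun s hs => ?_
  apply isHomogeneous_monomial
  have h1 : s.degree ≤ N := by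
    refine le_trans ?_ hN
    rw [Finsupp.degree_eq_sum]
    have := le_totalDegree hs
    rwa [Finsupp.sum_fintype _ _ (fun _ => rfl)] at this
  rw [Finsupp.degree_eq_sum, Fin.sum_univ_succ]
  simp only [Finsupp.cons_zero, Finsupp.cons_succ]
  rw [← Finsupp.degree_eq_sum]
  omega

theorem coeff_homog {d : ℕ} (N : ℕ) (P : MvPolynomial (Fin d) A) (s : Fin d →₀ ℕ) :
    coeff (Finsupp.cons (N - s.degree) s) (homog N P) = coeff s P := by
  classical
  rw [homog, coeff_sum]
  by_cases hs : s ∈ P.support
  · rw [Finset.sum_eq_single s]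
    · rw [coeff_monomial, if_pos rfl]
    · intro t _ hts
      rw [coeff_monomial, if_neg]
      intro h
      apply hts
      have := congrArg Finsupp.tail h
      rwa [Finsupp.tail_cons, Finsupp.tail_cons] at this
    · intro h; exact absurd hs h
  · rw [Finset.sum_eq_zero]
    · rw [notMem_support_iff] at hs
      exact hs.symm
    · intro t ht
      rw [coeff_monomial, if_neg]
      intro h
      have := congrArg Finsupp.tail h
      rw [Finsupp.tail_cons, Finsupp.tail_cons] at this
      rw [this] at ht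
      exact hs ht

theorem aeval_cons_homog {d : ℕ} (N : ℕ) (P : MvPolynomial (Fin d) A) :
    aeval (Fin.cons 1 X : Fin (d + 1) → MvPolynomial (Fin d) A) (homog N P) = P := by
  classical
  rw [homog, map_sum]
  conv_rhs => rw [← P.support_sum_monomial_coeff]
  refine Finset.sum_congr rfl fun s _ => ?_
  rw [aeval_monomial, Finsupp.prod_fintype _ _ (fun _ => pow_zero _), Fin.prod_univ_succ]
  simp only [Finsupp.cons_zero, Finsupp.cons_succ, Fin.cons_zero, Fin.cons_succ, one_pow, one_mul]
  rw [MvPolynomial.monomial_eq, Finsupp.prod_fintype _ _ (fun _ => pow_zero _)]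
  rfl

end Homog

section Main

set_option linter.unusedSectionVars false

open RingTheory.Sequence IsLocalRing

variable {A : Type u} [CommRing A] [IsLocalRing A] [IsNoetherianRing A] {d : ℕ}
  (x : Fin (d + 1) → A) (hx : Ideal.span (Set.range x) = maximalIdeal A)
  (hreg : IsWeaklyRegular A (List.ofFn x))

include hx hreg in
theorem data : OrdVal.Data (maximalIdeal A) where
  ne_top := (maximalIdeal.isMaximal A).ne_top
  iInf_pow := Ideal.iInf_pow_eq_bot_of_isLocalRing _ (maximalIdeal.isMaximal A).ne_top
  mul_notMem := by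
    intro i j a b ha ha' hb hb'
    have hprime : (Ideal.span (Set.range x)).IsPrime := by
      rw [hx]; exact (maximalIdeal.isMaximal A).isPrime
    rw [← hx] at ha ha' hb hb' ⊢
    exact ReesReg.mul_notMem_pow x hreg hprime ha ha' hb hb'

include hx hreg in
theorem x0_notMem_sq : x 0 ∉ maximalIdeal A ^ 2 := by
  classical
  intro h
  have h1 : eval x (X 0 : MvPolynomial (Fin (d + 1)) A) ∈ Ideal.span (Set.range x) ^ (1 + 1) := by
    rw [eval_X, hx]; exact h
  have h2 := ReesReg.coeff_mem_of_eval_mem_pow_succ x hreg (X 0) (isHomogeneous_X A 0) h1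
    (Finsupp.single 0 1)
  have h3 : coeff (Finsupp.single 0 1) (X 0 : MvPolynomial (Fin (d + 1)) A) = 1 := coeff_X_same 0
  rw [h3, hx] at h2
  exact (Ideal.ne_top_iff_one _).mp (maximalIdeal.isMaximal A).ne_top h2

theorem x_mem (i : Fin (d + 1)) (hx : Ideal.span (Set.range x) = maximalIdeal A) :
    x i ∈ maximalIdeal A := by
  rw [← hx]; exact Ideal.subset_span ⟨i, rfl⟩

variable (K : Type v) [Field K] [Algebra A K] [IsFractionRing A K]

/-- the point `(x_1/x_0, …, x_d/x_0)` -/
noncomputable def yK : Fin d → K := fun i => algebraMap A K (x i.succ) / algebraMap A K (x 0)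

variable (hI : OrdVal.Data (maximalIdeal A))

include hx in
theorem val_x0 (h0 : x 0 ∉ maximalIdeal A ^ 2) : val hI (x 0) = exp (-1) :=
  val_of_mem_notMem hI (x_mem x 0 hx) h0

include hx hI in
theorem algebraMap_x0_ne_zero (h0 : x 0 ∉ maximalIdeal A ^ 2) : algebraMap A K (x 0) ≠ 0 := by
  intro h
  have h1 := valK_algebraMap hI K (x 0)
  rw [h, map_zero, val_x0 x hx hI h0] at h1
  exact exp_ne_zero h1.symm

include hx in
theorem yK_mem (h0 : x 0 ∉ maximalIdeal A ^ 2) (i : Fin d) : yK x K i ∈ V hI K := by
  rw [mem_V_iff, yK, map_div₀, valK_algebraMap, valK_algebraMap, val_x0 x hx hI h0]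
  rw [div_le_iff₀ exp_pos, one_mul]
  have := (val_le_exp_iff hI (x := x i.succ) 1).mpr (by rw [pow_one]; exact x_mem x _ hx)
  exact this

include hx hI in
theorem mul_cons_yK (h0 : x 0 ∉ maximalIdeal A ^ 2) (i : Fin (d + 1)) :
    algebraMap A K (x 0) * (Fin.cons 1 (yK x K) : Fin (d + 1) → K) i = algebraMap A K (x i) := by
  have hc := algebraMap_x0_ne_zero x hx K hI h0
  refine Fin.cases ?_ (fun j => ?_) i
  · rw [Fin.cons_zero, mul_one]
  · rw [Fin.cons_succ, yK, mul_div_cancel₀ _ hc]

include hx hI in
theorem algebraMap_eval (h0 : x 0 ∉ maximalIdeal A ^ 2) {n : ℕ}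
    (G : MvPolynomial (Fin (d + 1)) A) (hG : G.IsHomogeneous n) :
    algebraMap A K (eval x G)
      = algebraMap A K (x 0) ^ n * aeval (Fin.cons 1 (yK x K) : Fin (d + 1) → K) G := by
  rw [← aeval_mul_of_isHomogeneous G hG]
  have : (fun i => algebraMap A K (x 0) * (Fin.cons 1 (yK x K) : Fin (d + 1) → K) i)
      = algebraMap A K ∘ x := by
    funext i
    exact mul_cons_yK x hx K hI h0 i
  rw [this, aeval_algebraMap_apply]
  rfl

include hx hreg in
theorem coeff_mem_of_valK_lt_one (h0 : x 0 ∉ maximalIdeal A ^ 2) {n : ℕ}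
    (G : MvPolynomial (Fin (d + 1)) A) (hG : G.IsHomogeneous n)
    (hlt : valK hI K (aeval (Fin.cons 1 (yK x K) : Fin (d + 1) → K) G) < 1) :
    ∀ s, coeff s G ∈ maximalIdeal A := by
  have h1 := congrArg (valK hI K) (algebraMap_eval x hx K hI h0 G hG)
  rw [valK_algebraMap, map_mul, map_pow, valK_algebraMap, val_x0 x hx hI h0] at h1
  have h2 : val hI (eval x G) < exp (-(n : ℤ)) := by
    rw [h1, ← exp_nsmul, nsmul_eq_mul, mul_neg, mul_one]
    calc exp (-(n : ℤ)) * valK hI K (aeval (Fin.cons 1 (yK x K) : Fin (d + 1) → K) G)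
        < exp (-(n : ℤ)) * 1 := by
          exact mul_lt_mul_of_pos_left hlt exp_pos
      _ = exp (-(n : ℤ)) := mul_one _
  rw [val_lt_exp_iff] at h2
  intro s
  have := ReesReg.coeff_mem_of_eval_mem_pow_succ x hreg G hG (by rw [hx]; exact h2) s
  rwa [hx] at this

end Main

section Main2

set_option linter.unusedSectionVars false

open RingTheory.Sequence IsLocalRing

variable {A : Type u} [CommRing A] [IsLocalRing A] [IsNoetherianRing A] {d : ℕ}
  (x : Fin (d + 1) → A) (hx : Ideal.span (Set.range x) = maximalIdeal A)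
  (hreg : IsWeaklyRegular A (List.ofFn x))
variable (K : Type v) [Field K] [Algebra A K] [IsFractionRing A K]
variable (hI : OrdVal.Data (maximalIdeal A)) (h0 : x 0 ∉ maximalIdeal A ^ 2)

/-- the points `x_{i+1}/x_0` as elements of `V` -/
noncomputable def yV : Fin d → V hI K := fun i => ⟨yK x K i, yK_mem x hx K hI h0 i⟩

/-- evaluation `A[T_1, …, T_d] → V` at the `x_{i+1}/x_0` -/
noncomputable def ev : MvPolynomial (Fin d) A →ₐ[A] V hI K := aeval (yV x hx K hI h0)

theorem coe_ev (P : MvPolynomial (Fin d) A) :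
    ((ev x hx K hI h0 P : V hI K) : K) = aeval (yK x K) P := by
  have := comp_aeval (R := A) (yV x hx K hI h0) (V hI K).val
  exact AlgHom.congr_fun this P

theorem aeval_yK_eq (N : ℕ) (P : MvPolynomial (Fin d) A) :
    aeval (yK x K) P = aeval (Fin.cons 1 (yK x K) : Fin (d + 1) → K) (homog N P) := by
  conv_lhs => rw [← aeval_cons_homog N P]
  have := comp_aeval (R := A) (Fin.cons 1 X : Fin (d + 1) → MvPolynomial (Fin d) A)
    (aeval (yK x K) : MvPolynomial (Fin d) A →ₐ[A] K)
  rw [← AlgHom.comp_apply, this]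
  congr 2
  funext i
  refine Fin.cases ?_ (fun j => ?_) i
  · simp
  · simp

include hreg in
theorem coeff_mem_of_ev (P : MvPolynomial (Fin d) A)
    (hlt : valK hI K ((ev x hx K hI h0 P : V hI K) : K) < 1) :
    ∀ s, coeff s P ∈ maximalIdeal A := by
  intro s
  rw [coe_ev, aeval_yK_eq x K P.totalDegree P] at hlt
  have := coeff_mem_of_valK_lt_one x hx hreg K hI h0 (homog P.totalDegree P)
    (homog_isHomogeneous _ _ le_rfl) hlt (Finsupp.cons (P.totalDegree - s.degree) s)
  rwa [coeff_homog] at this

end Main2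

section Main3

set_option linter.unusedSectionVars false
set_option linter.style.haveILetI false

open RingTheory.Sequence IsLocalRing

variable {A : Type u} [CommRing A] [IsLocalRing A] [IsNoetherianRing A] {d : ℕ}
  (x : Fin (d + 1) → A) (hx : Ideal.span (Set.range x) = maximalIdeal A)
  (hreg : IsWeaklyRegular A (List.ofFn x))
variable (K : Type v) [Field K] [Algebra A K] [IsFractionRing A K]
variable (hI : OrdVal.Data (maximalIdeal A)) (h0 : x 0 ∉ maximalIdeal A ^ 2)

theorem isLocalHom_algebraMap : IsLocalHom (algebraMap A (V hI K)) := by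
  constructor
  intro a ha
  rw [isUnit_iff] at ha
  have h1 : valK hI K (algebraMap A K a) = 1 := ha
  rw [valK_algebraMap] at h1
  by_contra hna
  have : a ∈ maximalIdeal A := (IsLocalRing.mem_maximalIdeal a).mpr hna
  rw [← val_lt_one_iff hI, h1] at this
  exact lt_irrefl _ this

/-- the residue classes of the `x_{i+1}/x_0` -/
noncomputable def tV : Fin d → ResidueField (V hI K) :=
  fun i => residue (V hI K) (yV x hx K hI h0 i)

theorem coe_ev_dehomog (G : MvPolynomial (Fin (d + 1)) A) :
    ((ev x hx K hI h0 (aeval (Fin.cons 1 X : Fin (d + 1) → MvPolynomial (Fin d) A) G) :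
      V hI K) : K) = aeval (Fin.cons 1 (yK x K) : Fin (d + 1) → K) G := by
  rw [coe_ev]
  have := comp_aeval (R := A) (Fin.cons 1 X : Fin (d + 1) → MvPolynomial (Fin d) A)
    (aeval (yK x K) : MvPolynomial (Fin d) A →ₐ[A] K)
  rw [← AlgHom.comp_apply, this]
  congr 2
  funext i
  refine Fin.cases ?_ (fun j => ?_) i
  · simp
  · simp

variable (φ : ResidueField A →+* ResidueField (V hI K))
  (hφ : φ.comp (residue A) = (residue (V hI K)).comp (algebraMap A (V hI K)))

include hφ in
theorem residue_ev (P : MvPolynomial (Fin d) A) :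
    letI := φ.toAlgebra
    residue (V hI K) (ev x hx K hI h0 P)
      = aeval (tV x hx K hI h0) (map (residue A) P) := by
  letI := φ.toAlgebra
  rw [ev, map_aeval, aeval_def, eval₂_map, RingHom.algebraMap_toAlgebra, hφ]
  rfl

include hφ hreg in
theorem algebraicIndependent_tV :
    letI := φ.toAlgebra
    AlgebraicIndependent (ResidueField A) (tV x hx K hI h0) := by
  letI := φ.toAlgebra
  rw [algebraicIndependent_iff_injective_aeval, injective_iff_map_eq_zero]
  intro P hP
  obtain ⟨P', rfl⟩ := map_surjective (residue A) (residue_surjective) P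
  rw [← residue_ev x hx K hI h0 φ hφ P', residue_eq_zero_iff, mem_maximalIdeal_iff] at hP
  have hc := coeff_mem_of_ev x hx hreg K hI h0 P' hP
  ext s
  rw [coeff_map, coeff_zero, residue_eq_zero_iff]
  exact hc s

end Main3

section Main4

set_option linter.unusedSectionVars false
set_option linter.style.haveILetI false

open RingTheory.Sequence IsLocalRing

variable {A : Type u} [CommRing A] [IsLocalRing A] [IsNoetherianRing A] {d : ℕ}
  (x : Fin (d + 1) → A) (hx : Ideal.span (Set.range x) = maximalIdeal A)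
  (hreg : IsWeaklyRegular A (List.ofFn x))
variable (K : Type v) [Field K] [Algebra A K] [IsFractionRing A K]
variable (hI : OrdVal.Data (maximalIdeal A)) (h0 : x 0 ∉ maximalIdeal A ^ 2)

/-- every nonzero element `a` of `A` is `x_0^n * u` with `u` in the image of `ev`, of
valuation one -/
theorem exists_ev_eq (a : A) (ha : a ≠ 0) :
    ∃ P : MvPolynomial (Fin d) A,
      algebraMap A K a = algebraMap A K (x 0) ^ (ord hI a) * ((ev x hx K hI h0 P : V hI K) : K) ∧
      valK hI K ((ev x hx K hI h0 P : V hI K) : K) = 1 := by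
  have hmem : a ∈ Ideal.span (Set.range x) ^ (ord hI a) := by
    rw [hx]; exact mem_pow_ord hI a
  obtain ⟨G, hG, hGa⟩ := (Ideal.mem_span_pow_iff_exists_isHomogeneous x _).mp hmem
  refine ⟨aeval (Fin.cons 1 X : Fin (d + 1) → MvPolynomial (Fin d) A) G, ?_, ?_⟩
  · rw [coe_ev_dehomog, ← algebraMap_eval x hx K hI h0 G hG, hGa]
  · have h1 := congrArg (valK hI K) (algebraMap_eval x hx K hI h0 G hG)
    rw [hGa, valK_algebraMap, map_mul, map_pow, valK_algebraMap, val_x0 x hx hI h0,
      val_apply hI ha, ← exp_nsmul, nsmul_eq_mul, mul_neg, mul_one] at h1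
    rw [coe_ev_dehomog]
    have h2 : exp (-(ord hI a : ℤ)) ≠ 0 := exp_ne_zero
    exact (mul_eq_left₀ h2).mp h1.symm

variable (φ : ResidueField A →+* ResidueField (V hI K))
  (hφ : φ.comp (residue A) = (residue (V hI K)).comp (algebraMap A (V hI K)))

include hφ in
theorem residue_ev_mem (P : MvPolynomial (Fin d) A) :
    letI := φ.toAlgebra
    residue (V hI K) (ev x hx K hI h0 P)
      ∈ IntermediateField.adjoin (ResidueField A) (Set.range (tV x hx K hI h0)) := by
  letI := φ.toAlgebra
  rw [residue_ev x hx K hI h0 φ hφ P]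
  apply IntermediateField.algebra_adjoin_le_adjoin
  rw [Algebra.adjoin_range_eq_range_aeval]
  exact ⟨_, rfl⟩

include hφ in
theorem adjoin_tV_eq_top :
    letI := φ.toAlgebra
    IntermediateField.adjoin (ResidueField A) (Set.range (tV x hx K hI h0)) = ⊤ := by
  letI := φ.toAlgebra
  rw [eq_top_iff]
  intro ξ _
  obtain ⟨z, rfl⟩ := residue_surjective ξ
  by_cases hzm : z ∈ maximalIdeal (V hI K)
  · rw [(residue_eq_zero_iff z).mpr hzm]
    exact zero_mem _
  · have hz1 : valK hI K (z : K) = 1 := by
      rw [mem_maximalIdeal_iff] at hzm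
      exact le_antisymm z.2 (not_lt.mp hzm)
    obtain ⟨a, s, hs, hz⟩ := IsFractionRing.div_surjective (A := A) (z : K)
    have := nontrivial hI
    have hs0 : s ≠ 0 := nonZeroDivisors.ne_zero hs
    have hsK : algebraMap A K s ≠ 0 := by
      intro h
      have h1 := valK_algebraMap hI K s
      rw [h, map_zero] at h1
      exact hs0 ((val_eq_zero_iff hI).mp h1.symm)
    have ha0 : a ≠ 0 := by
      rintro rfl
      rw [map_zero, zero_div] at hz
      rw [← hz, map_zero] at hz1
      exact zero_ne_one hz1
    have hval : val hI a = val hI s := by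
      have h1 := congrArg (valK hI K) hz
      rw [map_div₀, valK_algebraMap, valK_algebraMap, hz1] at h1
      have hvs : val hI s ≠ 0 := fun h => hs0 ((val_eq_zero_iff hI).mp h)
      exact (div_eq_one_iff_eq hvs).mp h1
    have hord : ord hI a = ord hI s := by
      rw [val_apply hI ha0, val_apply hI hs0, exp_inj] at hval
      omega
    obtain ⟨P, hP, hP1⟩ := exists_ev_eq x hx K hI h0 a ha0
    obtain ⟨Q, hQ, hQ1⟩ := exists_ev_eq x hx K hI h0 s hs0
    have hc := algebraMap_x0_ne_zero x hx K hI h0
    have hQK : ((ev x hx K hI h0 Q : V hI K) : K) ≠ 0 := by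
      intro h
      rw [h, map_zero] at hQ1
      exact zero_ne_one hQ1
    have hzQ : z * ev x hx K hI h0 Q = ev x hx K hI h0 P := by
      apply Subtype.ext
      show (z : K) * ((ev x hx K hI h0 Q : V hI K) : K) = ((ev x hx K hI h0 P : V hI K) : K)
      rw [← hz, hP, hQ, hord]
      field_simp
    have hQu : IsUnit (ev x hx K hI h0 Q) := isUnit_of_valK_eq_one hI K _ hQ1
    have hres : residue (V hI K) z
        = residue (V hI K) (ev x hx K hI h0 P) / residue (V hI K) (ev x hx K hI h0 Q) := by
      have hne : residue (V hI K) (ev x hx K hI h0 Q) ≠ 0 := by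
        intro h
        rw [residue_eq_zero_iff] at h
        exact (IsLocalRing.mem_maximalIdeal _).mp h hQu
      rw [eq_div_iff hne, ← map_mul, hzQ]
    rw [hres]
    exact div_mem (residue_ev_mem x hx K hI h0 φ hφ P) (residue_ev_mem x hx K hI h0 φ hφ Q)

end Main4

section Final

set_option linter.unusedSectionVars false
set_option linter.style.haveILetI false

open RingTheory.Sequence IsLocalRing

/-- a regular local ring has a regular system of parameters -/
theorem exists_rsop (A : Type u) [CommRing A] [IsRegularLocalRing A] :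
    ∃ (n : ℕ) (x : Fin n → A), Ideal.span (Set.range x) = maximalIdeal A ∧
      IsRegular A (List.ofFn x) := by
  classical
  have hsf : ((maximalIdeal A).spanFinrank : WithBot ℕ∞) = ringKrullDim A :=
    IsRegularLocalRing.spanFinrank_maximalIdeal
  obtain ⟨s, hscard, hsspan⟩ := Submodule.FG.exists_span_finset_card_eq_spanFinrank
    (maximalIdeal A).fg_of_isNoetherianRing
  let e : s ≃ Fin s.card := s.equivFin
  let x : Fin s.card → A := fun i => ((e.symm i : s) : A)
  have hrange : Set.range x = (s : Set A) := by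
    ext r
    constructor
    · rintro ⟨i, rfl⟩
      exact (e.symm i).2
    · intro hr
      exact ⟨e ⟨r, hr⟩, by simp [x]⟩
  have hx : Ideal.span (Set.range x) = maximalIdeal A := by
    rw [hrange]
    exact hsspan
  refine ⟨s.card, x, hx, ?_⟩
  refine Groth.Agent.Lib.Helper21.isRegular_ofFn_of_span_eq_maximalIdeal s.card A ?_ x hx
  rw [← hsf, hscard]

end Final

section Final2

set_option linter.unusedSectionVars false
set_option linter.style.haveILetI false

open RingTheory.Sequence IsLocalRing

theorem final_aux {A : Type u} [CommRing A] [IsLocalRing A] [IsNoetherianRing A] {d : ℕ}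
    (x : Fin (d + 1) → A) (hx : Ideal.span (Set.range x) = maximalIdeal A)
    (hreg : IsWeaklyRegular A (List.ofFn x))
    (K : Type u) [Field K] [Algebra A K] [IsFractionRing A K]
    (hI : OrdVal.Data (maximalIdeal A)) (h0 : x 0 ∉ maximalIdeal A ^ 2)
    (φ : ResidueField A →+* ResidueField (V hI K))
    (hφ : φ.comp (residue A) = (residue (V hI K)).comp (algebraMap A (V hI K))) :
    letI := φ.toAlgebra
    ∃ (ι : Type u) (t : ι → IsLocalRing.ResidueField (V hI K)),
      AlgebraicIndependent (IsLocalRing.ResidueField A) t ∧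
      IntermediateField.adjoin (IsLocalRing.ResidueField A) (Set.range t) = ⊤ := by
  letI := φ.toAlgebra
  refine ⟨ULift.{u} (Fin d), fun i => tV x hx K hI h0 i.down, ?_, ?_⟩
  · have := algebraicIndependent_tV x hx hreg K hI h0 φ hφ
    exact this.comp _ Equiv.ulift.injective
  · have h1 := adjoin_tV_eq_top x hx K hI h0 φ hφ
    have h2 : (fun i : ULift.{u} (Fin d) => tV x hx K hI h0 i.down)
        = tV x hx K hI h0 ∘ Equiv.ulift := rfl
    rw [h2, Equiv.ulift.surjective.range_comp]
    exact h1

theorem main (A : Type u) [CommRing A] [IsRegularLocalRing A] (hA : ¬ IsField A) :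
    ∃ (V : Subalgebra A (FractionRing A)) (_ : IsDomain V) (_ : IsDiscreteValuationRing V),
      IsFractionRing V (FractionRing A) ∧
      (IsLocalRing.maximalIdeal V).comap (algebraMap A V) = IsLocalRing.maximalIdeal A ∧
      ∃ (φ : IsLocalRing.ResidueField A →+* IsLocalRing.ResidueField V),
        φ.comp (IsLocalRing.residue A) = (IsLocalRing.residue V).comp (algebraMap A V) ∧
        letI := φ.toAlgebra
        ∃ (ι : Type u) (t : ι → IsLocalRing.ResidueField V),
          AlgebraicIndependent (IsLocalRing.ResidueField A) t ∧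
          IntermediateField.adjoin (IsLocalRing.ResidueField A) (Set.range t) = ⊤ := by
  obtain ⟨n, x, hx, hreg⟩ := exists_rsop A
  have hdom : IsDomain A := Groth.Agent.Lib.Helper21.isDomain_of_isRegularLocalRing A
  cases n with
  | zero =>
    exfalso
    apply hA
    rw [IsLocalRing.isField_iff_maximalIdeal_eq, ← hx, Set.range_eq_empty, Ideal.span_empty]
  | succ d =>
    have hwr : IsWeaklyRegular A (List.ofFn x) := hreg.toIsWeaklyRegular
    have hI : OrdVal.Data (maximalIdeal A) := data x hx hwr
    have h0 : x 0 ∉ maximalIdeal A ^ 2 := x0_notMem_sq x hx hwr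
    refine ⟨V hI (FractionRing A), inferInstance,
      isDiscreteValuationRing hI (FractionRing A) (x_mem x 0 hx) h0,
      isFractionRing hI (FractionRing A), comap_maximalIdeal hI (FractionRing A),
      @IsLocalRing.ResidueField.map _ _ _ _ _ _ (algebraMap A (V hI (FractionRing A)))
        (isLocalHom_algebraMap (FractionRing A) hI), rfl, ?_⟩
    exact final_aux x hx hwr (FractionRing A) hI h0 _ rfl

end Final2

end Groth.Agent.Lib.Helper20.BlowupDVR
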