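import Mathlib
import Groth.Agent.Lib.Helper20.BlowupDVR

/-!
# Cohen structure theorem for complete regular local rings with a coefficient field
-/

set_option autoImplicit false
universe u v

namespace Groth.Agent.Lib.Helper20.CohenReg

open MvPolynomial IsLocalRing

section Eval

variable {R : Type u} [CommRing R] {k : Type v} [Field k] [Algebra k R] {d : ℕ} (x : Fin d → R)

/-- a polynomial all of whose monomials have degree `≥ n` evaluates into `I ^ n` -/
theorem aeval_mem_pow (I : Ideal R) (hx : ∀ i, x i ∈ I) (n : ℕ) (P : MvPolynomial (Fin d) k)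
    (hP : ∀ s : Fin d →₀ ℕ, s.degree < n → coeff s P = 0) : aeval x P ∈ I ^ n := by
  classical
  rw [aeval_def, eval₂_eq']
  refine Ideal.sum_mem _ fun s hs => ?_
  have hdeg : n ≤ s.degree := by
    by_contra h
    push Not at h
    exact (mem_support_iff.mp hs) (hP s h)
  refine Ideal.mul_mem_left _ _ ?_
  have h1 : ∏ i, x i ^ s i ∈ I ^ (∑ i, s i) := by
    rw [← Finset.prod_pow_eq_pow_sum]
    exact Ideal.prod_mem_prod (fun i _ => Ideal.pow_mem_pow (hx i) _)
  rw [Finsupp.degree_eq_sum] at hdeg
  exact Ideal.pow_le_pow_right hdeg h1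

variable (I : Ideal R) (hx : ∀ i, x i ∈ I)

/-- the truncated evaluation maps -/
noncomputable def fN (n : ℕ) : MvPowerSeries (Fin d) k →ₐ[k] R ⧸ I ^ n where
  toFun F := Ideal.Quotient.mk _ (aeval x (MvPowerSeries.truncTotal n F))
  map_one' := by
    rcases Nat.eq_zero_or_pos n with h | h
    · subst h
      have : Subsingleton (R ⧸ I ^ 0) := by
        rw [pow_zero, Ideal.one_eq_top]
        exact Ideal.Quotient.subsingleton_iff.mpr rfl
      exact Subsingleton.elim _ _
    · rw [MvPowerSeries.truncTotal_one (by omega), map_one, map_one]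
  map_mul' F G := by
    rw [← map_mul, ← map_mul, Ideal.Quotient.eq, ← map_sub]
    apply aeval_mem_pow x I hx
    intro s hs
    rw [coeff_sub, MvPowerSeries.coeff_truncTotal _ hs,
      MvPowerSeries.coeff_truncTotal_mul_truncTotal_eq_coeff_mul _ _ hs, sub_self]
  map_zero' := by
    rw [map_zero, map_zero, map_zero]
  map_add' F G := by
    rw [map_add, map_add, map_add]
  commutes' c := by
    rcases Nat.eq_zero_or_pos n with h | h
    · subst h
      have : Subsingleton (R ⧸ I ^ 0) := by
        rw [pow_zero, Ideal.one_eq_top]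
        exact Ideal.Quotient.subsingleton_iff.mpr rfl
      exact Subsingleton.elim _ _
    · have h1 : MvPowerSeries.truncTotal n (algebraMap k (MvPowerSeries (Fin d) k) c)
          = MvPolynomial.C c := by
        ext s
        rw [MvPowerSeries.coeff_truncTotal_eq_ite, MvPolynomial.coeff_C]
        rw [MvPowerSeries.algebraMap_apply, Algebra.algebraMap_self, RingHom.id_apply]
        classical
        rw [MvPowerSeries.coeff_C]
        by_cases hs : s = 0
        · subst hs
          simp [h]
        · rw [if_neg hs, if_neg (Ne.symm hs)]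
          simp
      rw [h1, aeval_C]
      rfl

theorem fN_apply (n : ℕ) (F : MvPowerSeries (Fin d) k) :
    fN x I hx n F = Ideal.Quotient.mk _ (aeval x (MvPowerSeries.truncTotal n F)) := rfl

theorem fN_compat {m n : ℕ} (hle : m ≤ n) :
    (Ideal.Quotient.factorₐ k (Ideal.pow_le_pow_right hle)).comp (fN x I hx n) = fN x I hx m := by
  ext F
  rw [AlgHom.comp_apply, fN_apply, fN_apply]
  rw [Ideal.Quotient.factorₐ_apply_mk, Ideal.Quotient.eq, ← map_sub]
  apply aeval_mem_pow x I hx
  intro s hs
  rw [coeff_sub, MvPowerSeries.coeff_truncTotal _ hs,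
    MvPowerSeries.coeff_truncTotal _ (lt_of_lt_of_le hs hle), sub_self]

end Eval

section Main

set_option linter.unusedSectionVars false

variable {R : Type u} [CommRing R] [IsLocalRing R] [IsNoetherianRing R]
  [IsAdicComplete (maximalIdeal R) R]
  (k : Type v) [Field k] [Algebra k R] {d : ℕ} (x : Fin d → R)
  (hx : ∀ i, x i ∈ maximalIdeal R)

/-- the evaluation map `k[[X]] → R` -/
noncomputable def Phi : MvPowerSeries (Fin d) k →ₐ[k] R :=
  IsAdicComplete.liftAlgHom (maximalIdeal R) (fN (k := k) x (maximalIdeal R) hx)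
    (fun hle => fN_compat x (maximalIdeal R) hx hle)

theorem mk_Phi (n : ℕ) (F : MvPowerSeries (Fin d) k) :
    Ideal.Quotient.mk (maximalIdeal R ^ n) (Phi k x hx F)
      = Ideal.Quotient.mk _ (aeval x (MvPowerSeries.truncTotal n F)) := by
  unfold Phi
  rw [IsAdicComplete.mk_liftAlgHom (maximalIdeal R) (fN (k := k) x (maximalIdeal R) hx)
    (fun hle => fN_compat x (maximalIdeal R) hx hle)]
  rfl

theorem truncTotal_X (n : ℕ) (hn : 2 ≤ n) (i : Fin d) :
    MvPowerSeries.truncTotal n (MvPowerSeries.X i : MvPowerSeries (Fin d) k) = X i := by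
  classical
  ext s
  rw [MvPowerSeries.coeff_truncTotal_eq_ite, MvPowerSeries.coeff_X, MvPolynomial.coeff_X]
  by_cases hs : s = Finsupp.single i 1
  · subst hs
    have : (Finsupp.single i 1 : Fin d →₀ ℕ).degree < n := by
      rw [Finsupp.degree_single]; omega
    rw [if_pos this, if_pos rfl]
  · rw [if_neg hs, if_neg (Ne.symm hs)]
    simp

theorem Phi_X (i : Fin d) :
    Phi k x hx (MvPowerSeries.X i : MvPowerSeries (Fin d) k) = x i := by
  have hH : IsHausdorff (maximalIdeal R) R := inferInstance
  rw [← sub_eq_zero]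
  apply hH.haus'
  intro n
  rw [smul_eq_mul, Ideal.mul_top, SModEq.zero]
  have h1 : Phi k x hx (MvPowerSeries.X i) - x i ∈ maximalIdeal R ^ (max n 2) := by
    rw [← Ideal.Quotient.eq, mk_Phi, truncTotal_X _ _ (le_max_right _ _), aeval_X]
  exact Ideal.pow_le_pow_right (le_max_left _ _) h1

theorem map_span_X :
    (Ideal.span (Set.range (MvPowerSeries.X : Fin d → MvPowerSeries (Fin d) k))).map
      (Phi k x hx).toRingHom = Ideal.span (Set.range x) := by
  rw [Ideal.map_span, ← Set.range_comp]
  congr 2
  funext i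
  exact Phi_X k x hx i

end Main

section Main2

set_option linter.unusedSectionVars false

variable {R : Type u} [CommRing R] [IsLocalRing R] [IsNoetherianRing R]
  [IsAdicComplete (maximalIdeal R) R]
  (k : Type v) [Field k] [Algebra k R] {d : ℕ} (x : Fin d → R)
  (hx : ∀ i, x i ∈ maximalIdeal R)

theorem Phi_surjective (hspan : Ideal.span (Set.range x) = maximalIdeal R)
    (hk : Function.Surjective (algebraMap k (ResidueField R))) :
    Function.Surjective (Phi k x hx) := by
  have hmap := map_span_X k x hx
  rw [hspan] at hmap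
  have hH : IsHausdorff ((Ideal.span (Set.range
      (MvPowerSeries.X : Fin d → MvPowerSeries (Fin d) k))).map (Phi k x hx).toRingHom) R := by
    rw [hmap]; infer_instance
  have hsurj : Function.Surjective ((Ideal.Quotient.mk ((Ideal.span (Set.range
      (MvPowerSeries.X : Fin d → MvPowerSeries (Fin d) k))).map (Phi k x hx).toRingHom)).comp
      (Phi k x hx).toRingHom) := by
    intro y
    obtain ⟨r, rfl⟩ := Ideal.Quotient.mk_surjective y
    obtain ⟨c, hc⟩ := hk (residue R r)
    refine ⟨algebraMap k _ c, ?_⟩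
    rw [RingHom.comp_apply, Ideal.Quotient.eq, hmap]
    show Phi k x hx (algebraMap k _ c) - r ∈ maximalIdeal R
    rw [AlgHom.commutes, ← Ideal.Quotient.eq]
    exact hc
  exact surjective_of_mk_map_comp_surjective
    (I := Ideal.span (Set.range (MvPowerSeries.X : Fin d → MvPowerSeries (Fin d) k)))
    (Phi k x hx).toRingHom hsurj

theorem Phi_injective (hspan : Ideal.span (Set.range x) = maximalIdeal R)
    (hreg : RingTheory.Sequence.IsWeaklyRegular R (List.ofFn x)) :
    Function.Injective (Phi k x hx) := by
  classical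
  rw [injective_iff_map_eq_zero]
  intro F hF
  by_contra hF0
  have hex : ∃ n : ℕ, ∃ s : Fin d →₀ ℕ, s.degree = n ∧ MvPowerSeries.coeff s F ≠ 0 := by
    by_contra h
    push Not at h
    apply hF0
    ext s
    rw [map_zero]
    exact h _ s rfl
  set n := Nat.find hex with hn
  obtain ⟨s₀, hs₀, hs₀'⟩ := Nat.find_spec hex
  have hlow : ∀ s : Fin d →₀ ℕ, s.degree < n → MvPowerSeries.coeff s F = 0 := by
    intro s hs
    by_contra h
    exact Nat.find_min hex hs ⟨s, rfl, h⟩
  set P := MvPowerSeries.truncTotal (n + 1) F with hP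
  have hPh : P.IsHomogeneous n := by
    intro s hs
    rw [hP, MvPowerSeries.coeff_truncTotal_eq_ite] at hs
    have h1 : s.degree < n + 1 := by
      by_contra h
      rw [if_neg h] at hs
      exact hs rfl
    rw [if_pos h1] at hs
    have h2 : ¬ s.degree < n := fun h => hs (hlow s h)
    have h3 : (Finsupp.weight (1 : Fin d → ℕ)) s = s.degree := by
      rw [Finsupp.degree_eq_weight_one]; rfl
    rw [h3]
    omega
  set G := MvPolynomial.map (algebraMap k R) P with hG
  have hGh : G.IsHomogeneous n := hPh.map _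
  have hev : eval x G = aeval x P := by
    rw [hG, eval_map, aeval_def]
  have h0 : aeval x P ∈ maximalIdeal R ^ (n + 1) := by
    have := mk_Phi k x hx (n + 1) F
    rw [hF, map_zero] at this
    exact Ideal.Quotient.eq_zero_iff_mem.mp this.symm
  rw [← hev, ← hspan] at h0
  have hc := ReesReg.coeff_mem_of_eval_mem_pow_succ x hreg G hGh h0 s₀
  rw [hspan, hG, coeff_map, hP, MvPowerSeries.coeff_truncTotal _ (by omega)] at hc
  have hunit : IsUnit (algebraMap k R (MvPowerSeries.coeff s₀ F)) :=
    (IsUnit.mk0 _ hs₀').map _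
  exact (IsLocalRing.mem_maximalIdeal _).mp hc hunit

end Main2

end Groth.Agent.Lib.Helper20.CohenReg
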