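import Mathlib
import Groth.Agent.Lib.Helper18.SerreReg2
import Groth.Agent.Lib.Helper4.RegularGlobalDim
import Groth.Agent.Lib.Helper21.RegularLocal

/-!
# A regular local ring is a unique factorisation domain (helper20)

Auslander–Buchsbaum via Nagata's criterion (Mathlib `Ideal.isPrincipal_of_isPrincipal_localizationAway_of_prime`),
Serre's theorem (helper4/helper18), "projective with a finite free resolution is stably free"
(`isStablyFree_baseChange`) and "stably free ideal of a domain is principal"
(`isPrincipal_of_isStablyFree`, after Mathlib's `Module.free_of_isStablyFree_of_invertible`).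
-/

set_option autoImplicit false
set_option linter.overlappingInstances false

namespace Groth.Agent.Lib.Helper20.RegularUFD

universe u

open CategoryTheory TensorProduct IsLocalRing

section Cofactor

variable {R : Type*} [CommRing R] {M N : Type*} [AddCommGroup M] [Module R M]
  [AddCommGroup N] [Module R N] {n : ℕ}

/-- (Copy of a non-exported Mathlib definition.) The map linear in the first argument and
alternating in the remaining arguments underlying the cofactor expansion along the `M`-summand
of `M × N`. -/
noncomputable def cofactorLinear (bN : Module.Basis (Fin n) R N) :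
    M × N →ₗ[R] (M × N) [⋀^Fin n]→ₗ[R] M where
  toFun x := (bN.det.compLinearMap (LinearMap.snd R M N)).smulRight x.1
  map_add' x y := AlternatingMap.ext fun _ ↦ by simp
  map_smul' c x := AlternatingMap.ext fun _ ↦ by simp [smul_smul, mul_comm]

/-- The linear map from the top exterior power of `M × N` to `M` induced by the cofactor
expansion along the `M`-summand. -/
noncomputable def cofactorToLeft (bN : Module.Basis (Fin n) R N) :
    ⋀[R]^(n + 1) (M × N) →ₗ[R] M :=
  exteriorPower.alternatingMapLinearEquiv (AlternatingMap.alternatizeUncurryFin (cofactorLinear bN))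

theorem cofactorToLeft_ιMulti_cons (bN : Module.Basis (Fin n) R N) (m : M) :
    cofactorToLeft bN (exteriorPower.ιMulti R (n + 1) (Fin.cons (m, 0) fun i ↦ (0, bN i))) = m := by
  simp [cofactorToLeft, cofactorLinear, AlternatingMap.alternatizeUncurryFin_apply,
    Fin.sum_univ_succ, Module.Basis.det_self]

end Cofactor

section Principal

variable {S : Type*} [CommRing S] [IsDomain S]

theorem rank_ideal_eq_one (Q : Ideal S) (hQ : Q ≠ ⊥) : Module.rank S Q = 1 := by
  apply le_antisymm
  · have := LinearMap.rank_le_of_injective (Submodule.subtype Q) (Submodule.injective_subtype Q)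
    rwa [Module.rank_self] at this
  · obtain ⟨q, hq, hq0⟩ := Submodule.exists_mem_ne_zero_of_ne_bot hQ
    let g : S →ₗ[S] Q := LinearMap.toSpanSingleton S Q ⟨q, hq⟩
    have hg : Function.Injective g := by
      rw [injective_iff_map_eq_zero]
      intro s hs
      have : s * q = 0 := congrArg Subtype.val hs
      rcases mul_eq_zero.mp this with h | h
      · exact h
      · exact absurd h hq0
    have := LinearMap.rank_le_of_injective g hg
    rwa [Module.rank_self] at this

/-- A stably free ideal of a domain is principal. -/
theorem isPrincipal_of_isStablyFree (Q : Ideal S) [Module.IsStablyFree S Q] : Q.IsPrincipal := by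
  by_cases hQ : Q = ⊥
  · rw [hQ]; exact bot_isPrincipal
  obtain ⟨N, _, _, _, _, _⟩ := Module.IsStablyFree.exist_free_prod S Q
  let n := Module.finrank S N
  have hp : Module.finrank S (Q × N) = n + 1 := by
    have h1 : Module.rank S (Q × N) = Module.rank S N + Module.rank S Q := by
      have h := LinearMap.rank_range_add_rank_ker (LinearMap.snd S Q N)
      rw [LinearMap.range_eq_top.mpr LinearMap.snd_surjective, rank_top] at h
      rw [← h]
      congr 1
      have e : LinearMap.ker (LinearMap.snd S Q N) ≃ₗ[S] Q :=
        { toFun := fun z => z.1.1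
          map_add' := fun _ _ => rfl
          map_smul' := fun _ _ => rfl
          invFun := fun q => ⟨(q, 0), by simp⟩
          left_inv := by
            rintro ⟨⟨q, m⟩, hz⟩
            have : m = 0 := by simpa using hz
            subst this
            rfl
          right_inv := fun _ => rfl }
      exact e.rank_eq
    rw [rank_ideal_eq_one Q hQ] at h1
    have h2 : Module.rank S N = (n : Cardinal) := (Module.finrank_eq_rank S N).symm
    rw [h2] at h1
    have h3 : Module.rank S (Q × N) = ((n + 1 : ℕ) : Cardinal) := by
      rw [h1]; push_cast; rfl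
    exact Module.finrank_eq_of_rank_eq h3
  have hfin : Module.Finite S (Q × N) := Module.finite_of_finrank_pos (by rw [hp]; omega)
  let e : S ≃ₗ[S] ⋀[S]^(n + 1) (Q × N) :=
    (Module.nonempty_linearEquiv_of_finrank_eq_one <| by simp [exteriorPower.finrank_eq, hp]).some
  let bN : Module.Basis (Fin n) S N := Module.finBasis S N
  let f : S →ₗ[S] Q := cofactorToLeft bN ∘ₗ e.toLinearMap
  have hf : Function.Surjective f := fun x =>
    ⟨e.symm (exteriorPower.ιMulti S (n + 1) (Fin.cons (x, 0) fun i ↦ (0, bN i))), by
      simp [f, cofactorToLeft_ιMulti_cons]⟩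
  refine ⟨(f 1 : S), ?_⟩
  apply le_antisymm
  · intro q hq
    obtain ⟨s, hs⟩ := hf ⟨q, hq⟩
    have : q = s * (f 1 : S) := by
      have h1 : f s = s • f 1 := by rw [← map_smul, smul_eq_mul, mul_one]
      have h2 := congrArg Subtype.val (hs.symm.trans h1)
      exact h2
    rw [this]
    exact Ideal.mul_mem_left _ _ (Ideal.subset_span rfl)
  · rw [Submodule.span_singleton_le_iff_mem]
    exact (f 1).2

end Principal

section BaseChange

variable (A B : Type u) [CommRing A] [IsLocalRing A] [IsNoetherianRing A] [CommRing B]
  [Algebra A B] [Module.Flat A B]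

/-- Over a Noetherian local ring `A`, a finite module of finite projective dimension whose base
change to a flat `A`-algebra `B` is projective has stably free base change. -/
theorem isStablyFree_baseChange (n : ℕ) :
    ∀ (M : Type u) [AddCommGroup M] [Module A M] [Module.Finite A M],
      HasProjectiveDimensionLT (ModuleCat.of A M) (n + 1) →
      Module.Projective B (B ⊗[A] M) → Module.IsStablyFree B (B ⊗[A] M) := by
  induction n with
  | zero =>
    intro M _ _ _ h _
    rw [zero_add, ← projective_iff_hasProjectiveDimensionLT_one, ← IsProjective.iff_projective]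
      at h
    have : Module.Projective A M := h
    have : Module.Free A M := Module.free_of_flat_of_isLocalRing
    infer_instance
  | succ n ih =>
    intro M _ _ _ h hproj
    obtain ⟨g, π, hπ⟩ := Module.Finite.exists_fin' A M
    have hS := LinearMap.shortExact_shortComplexKer hπ
    have hprojF : Projective (π.shortComplexKer).X₂ := by
      rw [← IsProjective.iff_projective]
      change Module.Projective A (Fin g → A)
      infer_instance
    have hK : HasProjectiveDimensionLT (ModuleCat.of A (LinearMap.ker π)) (n + 1) :=
      (hS.hasProjectiveDimensionLT_X₃_iff n hprojF).mp h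
    let f' : B ⊗[A] (LinearMap.ker π) →ₗ[B] B ⊗[A] (Fin g → A) :=
      LinearMap.baseChange B (LinearMap.ker π).subtype
    let g' : B ⊗[A] (Fin g → A) →ₗ[B] B ⊗[A] M := LinearMap.baseChange B π
    have hex : Function.Exact f' g' := by
      have h0 : Function.Exact (LinearMap.ker π).subtype π := LinearMap.exact_subtype_ker_map π
      exact Module.Flat.lTensor_exact B h0
    have hinj : Function.Injective f' :=
      Module.Flat.lTensor_preserves_injective_linearMap (M := B) _
        (LinearMap.ker π).injective_subtype
    have hsurj : Function.Surjective g' := LinearMap.lTensor_surjective B hπ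
    -- split the sequence
    obtain ⟨l, hl⟩ := Module.projective_lifting_property g' LinearMap.id hsurj
    let e := (hex.splitSurjectiveEquiv hinj ⟨l, hl⟩).1
    -- `e : B ⊗ F ≃ (B ⊗ K) × (B ⊗ M)`
    have hprojK : Module.Projective B (B ⊗[A] (LinearMap.ker π)) := by
      have : Module.Projective B ((B ⊗[A] (LinearMap.ker π)) × (B ⊗[A] M)) :=
        Module.Projective.of_equiv e
      exact Module.Projective.of_split
        (LinearMap.inl B (B ⊗[A] (LinearMap.ker π)) (B ⊗[A] M))
        (LinearMap.fst B (B ⊗[A] (LinearMap.ker π)) (B ⊗[A] M)) (by ext; simp)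
    have hsfK := ih (LinearMap.ker π) hK hprojK
    obtain ⟨N', _, _, _, _, hfree⟩ := Module.IsStablyFree.exist_free_prod B (B ⊗[A] (LinearMap.ker π))
    -- `(B ⊗ M) × ((B ⊗ K) × N') ≃ (B ⊗ F) × N'`
    let e2 : ((B ⊗[A] M) × ((B ⊗[A] (LinearMap.ker π)) × N')) ≃ₗ[B]
        (B ⊗[A] (Fin g → A)) × N' :=
      (LinearEquiv.prodAssoc B _ _ _).symm ≪≫ₗ
        (LinearEquiv.prodCongr ((LinearEquiv.prodComm B _ _) ≪≫ₗ e.symm) (LinearEquiv.refl B N'))
    have : Module.Free B ((B ⊗[A] M) × ((B ⊗[A] (LinearMap.ker π)) × N')) :=
      Module.Free.of_equiv e2.symm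
    exact Module.IsStablyFree.of_free_prod (R := B) (M := B ⊗[A] M)
      (N := (B ⊗[A] (LinearMap.ker π)) × N')

end BaseChange

/-- A principal ideal of a domain is a free module. -/
theorem free_of_isPrincipal {S : Type*} [CommRing S] [IsDomain S] (I : Ideal S)
    (hI : I.IsPrincipal) : Module.Free S I := by
  obtain ⟨a, ha⟩ := hI
  have ha' : I = Ideal.span {a} := ha
  by_cases h0 : a = 0
  · have : I = ⊥ := by rw [ha', h0]; simp
    have hsub : Subsingleton I := by
      rw [this]; infer_instance
    exact Module.Free.of_subsingleton S I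
  · have e : S ≃ₗ[S] (Ideal.span {a} : Ideal S) := LinearEquiv.toSpanNonzeroSingleton S S a h0
    rw [ha']
    exact Module.Free.of_equiv e

theorem ufd_aux (d : ℕ) : ∀ (R : Type u) [CommRing R] [IsRegularLocalRing R] [IsDomain R],
    ringKrullDim R = d → UniqueFactorizationMonoid R := by
  induction d using Nat.strong_induction_on with
  | _ d ih =>
    intro R _ _ _ hd
    apply UniqueFactorizationMonoid.of_forall_isPrincipal_of_height_eq_one
    intro P hP hP1
    -- the maximal ideal is not a minimal prime
    have hmh : ((maximalIdeal R).height : WithBot ℕ∞) = d := by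
      rw [IsLocalRing.maximalIdeal_height_eq_ringKrullDim, hd]
    have hPle : P ≤ maximalIdeal R := IsLocalRing.le_maximalIdeal hP.ne_top
    have hd1 : 1 ≤ d := by
      have h1 : P.height ≤ (maximalIdeal R).height := Ideal.height_mono hPle
      rw [hP1] at h1
      have h2 : ((1 : ℕ∞) : WithBot ℕ∞) ≤ (d : ℕ) := by
        rw [← hmh]; exact WithBot.coe_le_coe.mpr h1
      have h3 : ((1 : ℕ) : WithBot ℕ∞) ≤ ((d : ℕ) : WithBot ℕ∞) := h2
      exact_mod_cast h3
    have hnot : maximalIdeal R ∉ minimalPrimes R := by
      intro hmin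
      have h0 : (maximalIdeal R).height = 0 := Ideal.height_eq_zero_iff.mpr hmin
      rw [h0] at hmh
      have : ((0 : ℕ) : WithBot ℕ∞) = ((d : ℕ) : WithBot ℕ∞) := hmh
      have h2 : (0 : ℕ) = d := by exact_mod_cast this
      omega
    obtain ⟨x, hx, hx2, hxn⟩ :=
      Groth.Agent.Lib.Helper21.exists_mem_maximalIdeal_notMem_sq_notMem_minimalPrimes hnot
    obtain ⟨hreg, -⟩ := Groth.Agent.Lib.Helper21.isRegularLocalRing_quotient_of_notMem_sq hx hx2 hxn
    have hdom : IsDomain (R ⧸ Ideal.span {x}) :=
      Groth.Agent.Lib.Helper21.isDomain_of_isRegularLocalRing _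
    have hprime : (Ideal.span {x}).IsPrime := (Ideal.Quotient.isDomain_iff_prime _).mp hdom
    have hx0 : x ≠ 0 := by
      rintro rfl
      exact hx2 (Ideal.zero_mem _)
    have hxprime : Prime x := (Ideal.span_singleton_prime hx0).mp hprime
    by_cases hxP : x ∈ P
    · exact ⟨x, P.eq_span_singleton_of_height_eq_one hP1 hxP hxprime⟩
    apply Ideal.isPrincipal_of_isPrincipal_localizationAway_of_prime hxprime hxP
    -- notation
    let S := Localization.Away x
    let Mx : Submonoid R := Submonoid.powers x
    -- `P` is free at every prime not containing `x`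
    have hfree : ∀ 𝔭 : PrimeSpectrum R, x ∉ 𝔭.asIdeal → 𝔭 ∈ Module.freeLocus R P := by
      intro 𝔭 hx𝔭
      have h𝔭prime : 𝔭.asIdeal.IsPrime := 𝔭.isPrime
      let Rₚ := Localization.AtPrime 𝔭.asIdeal
      have hregₚ : IsRegularLocalRing Rₚ :=
        Groth.Agent.Lib.Helper18.SerreReg.isRegularLocalRing_localization_atPrime R 𝔭.asIdeal
      have hdomₚ : IsDomain Rₚ := Groth.Agent.Lib.Helper21.isDomain_of_isRegularLocalRing _
      have h𝔭le : 𝔭.asIdeal ≤ maximalIdeal R := IsLocalRing.le_maximalIdeal h𝔭prime.ne_top
      have h𝔭lt : 𝔭.asIdeal < maximalIdeal R :=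
        lt_of_le_of_ne h𝔭le fun h => hx𝔭 (h ▸ hx)
      have hht : 𝔭.asIdeal.height + 1 ≤ (maximalIdeal R).height :=
        Ideal.height_add_one_le_of_lt_of_isPrime h𝔭lt
      obtain ⟨d', hd'⟩ := Groth.Agent.Lib.Helper21.exists_nat_eq_ringKrullDim (R := Rₚ)
      have hd'h : ((𝔭.asIdeal.height : ℕ∞) : WithBot ℕ∞) = (d' : ℕ) := by
        rw [← IsLocalization.AtPrime.ringKrullDim_eq_height 𝔭.asIdeal Rₚ, hd']
      have hd'lt : d' < d := by
        have h1 : ((𝔭.asIdeal.height + 1 : ℕ∞) : WithBot ℕ∞) ≤ ((maximalIdeal R).height : ℕ∞) :=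
          WithBot.coe_le_coe.mpr hht
        rw [hmh, WithBot.coe_add, hd'h] at h1
        have h2 : (((d' + 1 : ℕ) : ℕ) : WithBot ℕ∞) ≤ ((d : ℕ) : WithBot ℕ∞) := by
          push_cast; exact h1
        have h3 : d' + 1 ≤ d := by exact_mod_cast h2
        omega
      have hufdₚ : UniqueFactorizationMonoid Rₚ := ih d' hd'lt Rₚ hd'
      -- the localized ideal is principal
      have hprinc : (P.map (algebraMap R Rₚ)).IsPrincipal := by
        by_cases hP𝔭 : P ≤ 𝔭.asIdeal
        · have hdisj : Disjoint (𝔭.asIdeal.primeCompl : Set R) (P : Set R) := by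
            rw [Set.disjoint_left]
            intro y hy hyP
            exact hy (hP𝔭 hyP)
          have hprime' : (P.map (algebraMap R Rₚ)).IsPrime :=
            IsLocalization.isPrime_of_isPrime_disjoint 𝔭.asIdeal.primeCompl Rₚ P hP hdisj
          have hh : (P.map (algebraMap R Rₚ)).height = 1 := by
            rw [IsLocalization.height_map_of_disjoint 𝔭.asIdeal.primeCompl P hdisj, hP1]
          exact UniqueFactorizationMonoid.isPrincipal_of_height_eq_one hh
        · obtain ⟨y, hyP, hy𝔭⟩ := SetLike.not_le_iff_exists.mp hP𝔭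
          have : P.map (algebraMap R Rₚ) = ⊤ := by
            apply Ideal.eq_top_of_isUnit_mem _ (Ideal.mem_map_of_mem _ hyP)
            exact IsLocalization.map_units Rₚ (⟨y, hy𝔭⟩ : 𝔭.asIdeal.primeCompl)
          rw [this]
          exact ⟨1, Ideal.span_singleton_one.symm⟩
      have hfreeI : Module.Free Rₚ (P.map (algebraMap R Rₚ)) := free_of_isPrincipal _ hprinc
      have heq : P.localized' Rₚ 𝔭.asIdeal.primeCompl (Algebra.linearMap R Rₚ) =
          P.map (algebraMap R Rₚ) := Ideal.localized'_eq_map Rₚ 𝔭.asIdeal.primeCompl P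
      have hfreeI' : Module.Free Rₚ
          (P.localized' Rₚ 𝔭.asIdeal.primeCompl (Algebra.linearMap R Rₚ)) := by
        rw [heq]; exact hfreeI
      exact (Module.mem_freeLocus_of_isLocalization 𝔭 Rₚ _
        (P.toLocalized' Rₚ 𝔭.asIdeal.primeCompl (Algebra.linearMap R Rₚ))).mpr hfreeI'
    have hfpP : Module.FinitePresentation R P := Module.finitePresentation_of_finite R P
    have hdomS : IsDomain S := IsLocalization.Away.isDomain S hx0
    have hproj1 : Module.Projective S (LocalizedModule.Away x P) :=
      Module.basicOpen_subset_freeLocus_iff.mp fun 𝔭 h𝔭 => hfree 𝔭 h𝔭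
    let e1 : S ⊗[R] P ≃ₗ[S] LocalizedModule Mx P :=
      (IsLocalizedModule.isBaseChange Mx S (LocalizedModule.mkLinearMap Mx P)).equiv
    have hproj2 : Module.Projective S (S ⊗[R] P) := Module.Projective.of_equiv e1.symm
    have hpd : HasProjectiveDimensionLT (ModuleCat.of R P) (d + 1) :=
      Groth.Agent.Lib.Helper4.hasProjectiveDimensionLT_of_isRegularLocalRing_of_finite R d hd P
    have hsf : Module.IsStablyFree S (S ⊗[R] P) := isStablyFree_baseChange R S d P hpd hproj2
    let e2 : S ⊗[R] P ≃ₗ[S] P.localized' S Mx (Algebra.linearMap R S) :=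
      (IsLocalizedModule.isBaseChange Mx S (P.toLocalized' S Mx (Algebra.linearMap R S))).equiv
    have hsf' : Module.IsStablyFree S (P.localized' S Mx (Algebra.linearMap R S)) :=
      Module.IsStablyFree.equiv e2
    have heq : P.localized' S Mx (Algebra.linearMap R S) = P.map (algebraMap R S) :=
      Ideal.localized'_eq_map S Mx P
    have hpr := isPrincipal_of_isStablyFree (P.localized' S Mx (Algebra.linearMap R S))
    rw [heq] at hpr
    exact hpr

/-- Auslander–Buchsbaum: a regular local ring is a unique factorisation domain. -/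
theorem ufd_of_isRegularLocalRing (R : Type u) [CommRing R] [IsRegularLocalRing R] :
    IsDomain R ∧ UniqueFactorizationMonoid R := by
  have hdom : IsDomain R := Groth.Agent.Lib.Helper21.isDomain_of_isRegularLocalRing R
  obtain ⟨d, hd⟩ := Groth.Agent.Lib.Helper21.exists_nat_eq_ringKrullDim (R := R)
  exact ⟨hdom, ufd_aux d R hd⟩

/-- The Picard group of a localisation `R_f` of a regular local ring is trivial. -/
theorem pic_localizationAway_subsingleton (R : Type u) [CommRing R] [IsRegularLocalRing R]
    (f : R) : Subsingleton (CommRing.Pic (Localization.Away f)) := by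
  obtain ⟨hdom, hufd⟩ := ufd_of_isRegularLocalRing R
  by_cases hf : f = 0
  · have hsub : Subsingleton (Localization.Away f) := by
      rw [hf]
      exact IsLocalization.subsingleton (M := Submonoid.powers (0 : R)) ⟨1, pow_one 0⟩
    rw [CommRing.Pic.subsingleton_iff]
    intro M _ _ _
    have : Subsingleton M := Module.subsingleton (Localization.Away f) M
    exact Module.Free.of_subsingleton _ M
  · have hdomS : IsDomain (Localization.Away f) := IsLocalization.Away.isDomain _ hf
    infer_instance

end Groth.Agent.Lib.Helper20.RegularUFD
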