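import Mathlib
import Groth.Agent.Lib.Helper11.Japanese

/-!
# Nagata rings: localization and finite principal covers (quotient-N-2 parts)
-/

set_option autoImplicit false
universe u
open CAlg Groth.Agent.Lib.Helper11.Japanese

namespace Groth.Agent.Lib.Helper20.Nagata

theorem isN2_of_ringEquiv {R S : Type u} [CommRing R] [IsDomain R] [CommRing S] [IsDomain S]
    (e : R ≃+* S) (h : IsN2 R) : IsN2 S := by
  let _ : Algebra R S := (e.toRingHom.comp (algebraMap R R)).toAlgebra
  have h0 : IsLocalization (⊥ : Submonoid R) R := IsLocalization.self (by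
    intro x hx
    rw [Submonoid.mem_bot] at hx
    rw [hx]; exact isUnit_one)
  have h1 : IsLocalization (⊥ : Submonoid R) S :=
    (IsLocalization.isLocalization_iff_of_ringEquiv (⊥ : Submonoid R) e).1 h0
  exact isN2_of_isLocalization R (⊥ : Submonoid R) S h

theorem isN2_quotient_of_away {R : Type u} [CommRing R] (f : R) (S : Type u) [CommRing S]
    [Algebra R S] [IsLocalization.Away f S]
    (hR : ∀ (p : Ideal R) [p.IsPrime], IsN2 (R ⧸ p)) (q : Ideal S) [hq : q.IsPrime] :
    IsN2 (S ⧸ q) := by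
  let p : Ideal R := q.comap (algebraMap R S)
  have hp : p.IsPrime := Ideal.comap_isPrime _ _
  have hmap : p.map (algebraMap R S) = q := IsLocalization.map_under (Submonoid.powers f) S q
  have hprime : (p.map (algebraMap R S)).IsPrime := hmap ▸ hq
  have hN2 : IsN2 (S ⧸ p.map (algebraMap R S)) :=
    isN2_of_isLocalization (R ⧸ p) (Algebra.algebraMapSubmonoid (R ⧸ p) (Submonoid.powers f))
      (S ⧸ p.map (algebraMap R S)) (hR p)
  exact isN2_of_ringEquiv (Ideal.quotEquivOfEq hmap) hN2

theorem isN2_quotient_of_span {R : Type u} [CommRing R] {ι : Type u} [Finite ι] (f : ι → R)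
    (hf : Ideal.span (Set.range f) = ⊤)
    (Rf : ι → Type u) [∀ i, CommRing (Rf i)] [∀ i, Algebra R (Rf i)]
    [∀ i, IsLocalization.Away (f i) (Rf i)]
    (h : ∀ i (q : Ideal (Rf i)) [q.IsPrime], IsN2 (Rf i ⧸ q)) (p : Ideal R) [hp : p.IsPrime] :
    IsN2 (R ⧸ p) := by
  let ι' := {i : ι // f i ∉ p}
  let g : ι' → R ⧸ p := fun i => Ideal.Quotient.mk p (f i.1)
  have hg : Ideal.span (Set.range g) = ⊤ := by
    have := congrArg (Ideal.map (Ideal.Quotient.mk p)) hf
    rw [Ideal.map_span, Ideal.map_top] at this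
    rw [eq_top_iff, ← this, Ideal.span_le]
    rintro _ ⟨_, ⟨i, rfl⟩, rfl⟩
    by_cases hi : f i ∈ p
    · rw [Ideal.Quotient.eq_zero_iff_mem.2 hi]; exact Ideal.zero_mem _
    · exact Ideal.subset_span ⟨⟨i, hi⟩, rfl⟩
  have hprime : ∀ i : ι', (p.map (algebraMap R (Rf i.1))).IsPrime := by
    intro i
    refine IsLocalization.isPrime_of_isPrime_disjoint (Submonoid.powers (f i.1)) (Rf i.1) p hp ?_
    rw [Set.disjoint_left]
    rintro _ ⟨n, rfl⟩ hmem
    exact i.2 (hp.mem_of_pow_mem n hmem)
  have hloc : ∀ i : ι', IsLocalization.Away (g i) (Rf i.1 ⧸ p.map (algebraMap R (Rf i.1))) := by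
    intro i
    have h1 : IsLocalization (Algebra.algebraMapSubmonoid (R ⧸ p) (Submonoid.powers (f i.1)))
      (Rf i.1 ⧸ p.map (algebraMap R (Rf i.1))) := inferInstance
    have h2 : Algebra.algebraMapSubmonoid (R ⧸ p) (Submonoid.powers (f i.1)) =
        Submonoid.powers (g i) := by
      unfold Algebra.algebraMapSubmonoid
      rw [Submonoid.map_powers]
      rfl
    rw [h2] at h1
    exact h1
  have hdom : ∀ i : ι', IsDomain (Rf i.1 ⧸ p.map (algebraMap R (Rf i.1))) := fun i =>
    (Ideal.Quotient.isDomain_iff_prime _).2 (hprime i)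
  exact isN2_of_span (R ⧸ p) g hg (fun i : ι' => Rf i.1 ⧸ p.map (algebraMap R (Rf i.1)))
    (fun i => @h i.1 _ (hprime i))

end Groth.Agent.Lib.Helper20.Nagata
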