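import Mathlib
import Groth.Agent.Lib.Helper18.FlatLocal
import Groth.Agent.Lib.Helper18.CatHt

set_option autoImplicit false
universe u v

namespace Groth.Agent.Lib.Helper20.KummerRegular

open Polynomial IsLocalRing

section
variable {A : Type u} [CommRing A] (s : A) (e : ℕ)

/-- the Kummer polynomial -/
noncomputable abbrev kf : A[X] := X ^ e - C s

theorem kf_monic (he : 0 < e) : (kf s e).Monic := monic_X_pow_sub_C s he.ne'

theorem root_pow :
    (AdjoinRoot.root (kf s e)) ^ e = AdjoinRoot.of (kf s e) s := by
  have h := AdjoinRoot.eval₂_root (kf s e)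
  rw [eval₂_sub, eval₂_pow, eval₂_X, eval₂_C, sub_eq_zero] at h
  exact h

/-- the standard étale pair `(X^e - s, X)` when `e` is invertible -/
noncomputable def pair (he : 0 < e) (u : A) (hu : (e : A) * u = 1) : StandardEtalePair A where
  f := kf s e
  monic_f := kf_monic s e he
  g := X
  cond := by
    refine ⟨C u * X, 0, e, ?_⟩
    obtain ⟨m, rfl⟩ := Nat.exists_eq_succ_of_ne_zero he.ne'
    rw [mul_zero, add_zero, derivative_sub, derivative_C, sub_zero, derivative_X_pow]
    have : (C ((m.succ : ℕ) : A) * X ^ (m.succ - 1)) * (C u * X) =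
        C (((m.succ : ℕ) : A) * u) * X ^ m.succ := by
      rw [Nat.succ_sub_one, pow_succ, C_mul]
      ring
    rw [this, hu, C_1, one_mul]

theorem formallyUnramified_away (he : 0 < e) (u : A) (hu : (e : A) * u = 1) :
    Algebra.FormallyUnramified A (Localization.Away (AdjoinRoot.root (kf s e))) := by
  have h := (pair s e he u hu).equivAwayAdjoinRoot
  have h2 : AdjoinRoot.mk (pair s e he u hu).f (pair s e he u hu).g = AdjoinRoot.root (kf s e) :=
    AdjoinRoot.mk_X
  exact Algebra.FormallyUnramified.of_equiv h

end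

section
variable {A : Type u} [CommRing A] (s : A) (e : ℕ)

theorem isSMulRegular_root [IsDomain A] (hs : s ≠ 0) (he : 0 < e) :
    IsSMulRegular (AdjoinRoot (kf s e)) (AdjoinRoot.root (kf s e)) := by
  have hfree : Module.Free A (AdjoinRoot (kf s e)) := (kf_monic s e he).free_adjoinRoot
  have hpow : IsSMulRegular (AdjoinRoot (kf s e)) ((AdjoinRoot.root (kf s e)) ^ e) := by
    rw [root_pow]
    intro x y hxy
    simp only [smul_eq_mul] at hxy
    have h1 : s • (x - y) = 0 := by
      rw [Algebra.smul_def, mul_sub, sub_eq_zero]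
      exact hxy
    have h2 := (smul_eq_zero.mp h1).resolve_left hs
    exact sub_eq_zero.mp h2
  obtain ⟨m, rfl⟩ := Nat.exists_eq_succ_of_ne_zero he.ne'
  rw [pow_succ'] at hpow
  intro x y hxy
  apply hpow
  simp only [smul_eq_mul] at hxy ⊢
  rw [mul_comm _ (AdjoinRoot.root (kf s (m + 1)) ^ m), mul_assoc, mul_assoc, hxy]

/-- `A[X]/(X^e - s) → A/(s)`, `X ↦ 0` -/
noncomputable def toQuot (he : 0 < e) : AdjoinRoot (kf s e) →+* A ⧸ Ideal.span {s} :=
  AdjoinRoot.lift (Ideal.Quotient.mk (Ideal.span {s})) 0 (by
    rw [eval₂_sub, eval₂_pow, eval₂_X, eval₂_C, zero_pow he.ne', zero_sub, neg_eq_zero,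
      Ideal.Quotient.eq_zero_iff_mem]
    exact Ideal.subset_span rfl)

theorem toQuot_surjective (he : 0 < e) : Function.Surjective (toQuot s e he) := by
  intro y
  obtain ⟨a, rfl⟩ := Ideal.Quotient.mk_surjective y
  exact ⟨AdjoinRoot.of _ a, AdjoinRoot.lift_of _⟩

theorem ker_toQuot (he : 0 < e) :
    RingHom.ker (toQuot s e he) = Ideal.span {AdjoinRoot.root (kf s e)} := by
  apply le_antisymm
  · intro b hb
    obtain ⟨g, rfl⟩ := AdjoinRoot.mk_surjective b
    rw [RingHom.mem_ker, toQuot, AdjoinRoot.lift_mk, eval₂_at_zero, Ideal.Quotient.eq_zero_iff_mem,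
      Ideal.mem_span_singleton] at hb
    obtain ⟨c, hc⟩ := hb
    have hg : g = X * g.divX + C (g.coeff 0) := (X_mul_divX_add g).symm
    rw [Ideal.mem_span_singleton]
    have h1 : AdjoinRoot.mk (kf s e) g =
        AdjoinRoot.root (kf s e) * AdjoinRoot.mk (kf s e) g.divX +
          AdjoinRoot.of (kf s e) (g.coeff 0) := by
      conv_lhs => rw [hg]
      rw [map_add, map_mul, AdjoinRoot.mk_X, AdjoinRoot.mk_C]
    rw [h1, hc, map_mul, ← root_pow]
    obtain ⟨m, rfl⟩ := Nat.exists_eq_succ_of_ne_zero he.ne'
    refine ⟨AdjoinRoot.mk _ g.divX + AdjoinRoot.root _ ^ m * AdjoinRoot.of _ c, ?_⟩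
    rw [pow_succ']
    ring
  · rw [Ideal.span_le, Set.singleton_subset_iff]
    change toQuot s e he (AdjoinRoot.root (kf s e)) = 0
    exact AdjoinRoot.lift_root _

/-- `A[X]/(X^e - s, X) ≅ A/(s)` -/
noncomputable def quotRootEquiv (he : 0 < e) :
    (AdjoinRoot (kf s e) ⧸ Ideal.span {AdjoinRoot.root (kf s e)}) ≃+* A ⧸ Ideal.span {s} :=
  (Ideal.quotEquivOfEq (ker_toQuot s e he).symm).trans
    (RingHom.quotientKerEquivOfSurjective (toQuot_surjective s e he))

end

/-- General: a flat finite-type algebra `B` over a regular ring `A` is regular at the primes where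
it is unramified. -/
theorem isRegularLocalRing_of_isUnramifiedAt {A B : Type u} [CommRing A] [CommRing B] [Algebra A B]
    [IsRegularRing A] [IsNoetherianRing B] [Module.Flat A B] [Algebra.FiniteType A B]
    (q : Ideal B) [q.IsPrime] (hq : Algebra.IsUnramifiedAt A q) :
    IsRegularLocalRing (Localization.AtPrime q) := by
  let p : Ideal A := q.under A
  have hlo : q.LiesOver p := ⟨rfl⟩
  let _ := Localization.AtPrime.algebraOfLiesOver p q
  have hloc : IsLocalHom (algebraMap (Localization.AtPrime p) (Localization.AtPrime q)) :=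
    Localization.isLocalHom_localRingHom p q (algebraMap A B) Ideal.LiesOver.over
  have hregp : IsRegularLocalRing (Localization.AtPrime p) := inferInstance
  have hflat : Module.Flat (Localization.AtPrime p) (Localization.AtPrime q) := inferInstance
  have hmap := ((Algebra.isUnramifiedAt_iff_map_eq A p q).mp hq).2
  have hmax : (maximalIdeal (Localization.AtPrime p)).map
      (algebraMap (Localization.AtPrime p) (Localization.AtPrime q)) =
        maximalIdeal (Localization.AtPrime q) := by
    rw [← Localization.AtPrime.map_eq_maximalIdeal, Ideal.map_map,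
      ← IsScalarTower.algebraMap_eq]
    exact hmap
  have hfield : IsField (Localization.AtPrime q ⧸ (maximalIdeal (Localization.AtPrime p)).map
      (algebraMap (Localization.AtPrime p) (Localization.AtPrime q))) := by
    rw [hmax]
    exact (Ideal.Quotient.maximal_ideal_iff_isField_quotient _).mp inferInstance
  have hfib : IsRegularLocalRing (Localization.AtPrime q ⧸
      (maximalIdeal (Localization.AtPrime p)).map
      (algebraMap (Localization.AtPrime p) (Localization.AtPrime q))) := by
    let _ := hfield.toField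
    infer_instance
  exact Groth.Agent.Lib.Helper18.FlatLocal.isRegularLocalRing_of_flat_of_fibre
    (Localization.AtPrime p) (Localization.AtPrime q)

/-- General: if `t` is a regular element of a Noetherian ring `B` with `B/(t)` a regular ring,
then `B` is regular at every prime containing `t`. -/
theorem isRegularLocalRing_of_mem_of_quotient {B : Type u} [CommRing B] [IsNoetherianRing B]
    (t : B) (hreg : IsSMulRegular B t) (hR : IsRegularRing (B ⧸ Ideal.span {t}))
    (q : Ideal B) [hq : q.IsPrime] (htq : t ∈ q) :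
    IsRegularLocalRing (Localization.AtPrime q) := by
  have hp' := Groth.Agent.Lib.Helper18.SkLift.isPrime_map_mk t q htq
  have h4 : IsRegularLocalRing
      (Localization.AtPrime (q.map (Ideal.Quotient.mk (Ideal.span {t})))) := inferInstance
  obtain ⟨e⟩ := Groth.Agent.Lib.Helper18.SkLift.nonempty_ringEquiv_quotient_localization t q htq
  have h5 : IsRegularLocalRing (Localization.AtPrime q ⧸
      Ideal.span {algebraMap B (Localization.AtPrime q) t}) := IsRegularLocalRing.of_ringEquiv e
  refine Groth.Agent.Lib.Helper18.CatHt.isRegularLocalRing_of_quotient (Localization.AtPrime q)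
    ?_ ?_ h5
  · rw [← Localization.AtPrime.map_eq_maximalIdeal]
    exact Ideal.mem_map_of_mem _ htq
  · exact Groth.Agent.Lib.Helper18.Serre.isSMulRegular_algebraMap_localization t hreg q

/-- **Kummer covers of regular rings**: if `A` is a regular domain, `s ≠ 0` with `A/(s)` regular
and `e` is invertible in `A`, then `A[t]/(t^e - s)` is regular. -/
theorem isRegularRing_adjoinRoot {A : Type u} [CommRing A] [IsDomain A] [IsRegularRing A]
    (s : A) (hs : s ≠ 0) (hreg : IsRegularRing (A ⧸ Ideal.span {s}))
    (e : ℕ) (he : 0 < e) (heu : IsUnit (e : A)) :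
    IsRegularRing (AdjoinRoot (X ^ e - C s : A[X])) := by
  change IsRegularRing (AdjoinRoot (kf s e))
  have hfin : Module.Finite A (AdjoinRoot (kf s e)) := (kf_monic s e he).finite_adjoinRoot
  have hfree : Module.Free A (AdjoinRoot (kf s e)) := (kf_monic s e he).free_adjoinRoot
  have hnoeth : IsNoetherianRing (AdjoinRoot (kf s e)) :=
    Algebra.FiniteType.isNoetherianRing A _
  obtain ⟨u, hu⟩ := heu.exists_right_inv
  have hunr := formallyUnramified_away s e he u hu
  have hsub := (Algebra.basicOpen_subset_unramifiedLocus_iff (R := A)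
    (f := AdjoinRoot.root (kf s e))).mpr hunr
  have hquot : IsRegularRing (AdjoinRoot (kf s e) ⧸ Ideal.span {AdjoinRoot.root (kf s e)}) :=
    IsRegularRing.of_ringEquiv (quotRootEquiv s e he).symm
  refine ⟨fun q hq => ?_⟩
  by_cases htq : AdjoinRoot.root (kf s e) ∈ q
  · exact isRegularLocalRing_of_mem_of_quotient _ (isSMulRegular_root s e hs he) hquot q htq
  · have hmem : (⟨q, hq⟩ : PrimeSpectrum (AdjoinRoot (kf s e))) ∈
        Algebra.unramifiedLocus A (AdjoinRoot (kf s e)) := hsub htq
    exact isRegularLocalRing_of_isUnramifiedAt q hmem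

end Groth.Agent.Lib.Helper20.KummerRegular
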