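import Mathlib
import Groth.Agent.Lib.Helper20.SegreDim
import Groth.Agent.Lib.Helper7.DimFT

/-!
# The Hopf lemma on 1-generic bilinear maps (helper20)

Over an algebraically closed field, a bilinear map `U × V → W` with `φ u v ≠ 0` for `u, v ≠ 0`
satisfies `dim U + dim V ≤ dim W + 1`.  Proof via the Segre subring `T = k[xᵢ ⊗ yⱼ]`.
-/

set_option autoImplicit false

namespace Groth.Agent.Lib.Helper20.HopfLemma

universe u

open TensorProduct MvPolynomial

section Setup

variable (k : Type u) [Field k] (m n : ℕ)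

/-- ambient ring `k[x] ⊗ k[y]` -/
abbrev Amb : Type u := MvPolynomial (Fin m) k ⊗[k] MvPolynomial (Fin n) k

instance isDomain_amb : IsDomain (Amb k m n) :=
  MulEquiv.isDomain (MvPolynomial (Fin n) (MvPolynomial (Fin m) k))
    (MvPolynomial.algebraTensorAlgEquiv k (MvPolynomial (Fin m) k) (σ := Fin n)).toMulEquiv

/-- the generators `xᵢ ⊗ yⱼ` -/
noncomputable def gen (i : Fin m) (j : Fin n) : Amb k m n :=
  (X i : MvPolynomial (Fin m) k) ⊗ₜ[k] (X j : MvPolynomial (Fin n) k)

theorem gen_mul_gen (i i' : Fin m) (j j' : Fin n) :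
    gen k m n i j * gen k m n i' j' = gen k m n i j' * gen k m n i' j := by
  simp only [gen, Algebra.TensorProduct.tmul_mul_tmul]
  rw [mul_comm (X j) (X j')]

/-- the Segre subring -/
noncomputable def T : Subalgebra k (Amb k m n) :=
  Algebra.adjoin k (Set.range fun p : Fin m × Fin n => gen k m n p.1 p.2)

/-- the Segre subring as a type with `CommRing`-first instances -/
def TT : Type u := ↥(T k m n)

noncomputable instance commRing_TT : CommRing (TT k m n) := inferInstanceAs (CommRing ↥(T k m n))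

noncomputable instance algebra_TT : Algebra k (TT k m n) :=
  inferInstanceAs (Algebra k ↥(T k m n))

instance isDomain_TT : IsDomain (TT k m n) := inferInstanceAs (IsDomain ↥(T k m n))

/-- the inclusion of `TT` in the ambient ring -/
noncomputable def incl : TT k m n →ₐ[k] Amb k m n := (T k m n).val

theorem incl_injective : Function.Injective (incl k m n) := Subtype.val_injective

/-- generators as elements of `TT` -/
noncomputable def genT (i : Fin m) (j : Fin n) : TT k m n :=
  ⟨gen k m n i j, Algebra.subset_adjoin ⟨(i, j), rfl⟩⟩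

theorem incl_genT (i : Fin m) (j : Fin n) : incl k m n (genT k m n i j) = gen k m n i j := rfl

theorem genT_mul_genT (i i' : Fin m) (j j' : Fin n) :
    genT k m n i j * genT k m n i' j' = genT k m n i j' * genT k m n i' j := by
  apply incl_injective
  rw [map_mul, map_mul]
  exact gen_mul_gen k m n i i' j j'

instance finiteType_TT : Algebra.FiniteType k (TT k m n) := by
  have : Algebra.FiniteType k ↥(T k m n) := by
    rw [← Subalgebra.fg_iff_finiteType]
    exact Subalgebra.fg_def.mpr ⟨_, Set.finite_range _, rfl⟩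
  exact this

/-- evaluation at a pair of points -/
noncomputable def ev (a : Fin m → k) (b : Fin n → k) : Amb k m n →ₐ[k] k :=
  Algebra.TensorProduct.lift (aeval a) (aeval b) (fun _ _ => Commute.all _ _)

theorem ev_gen (a : Fin m → k) (b : Fin n → k) (i : Fin m) (j : Fin n) :
    ev k m n a b (gen k m n i j) = a i * b j := by
  simp [ev, gen]

/-- the augmentation of `TT` -/
noncomputable def aug : TT k m n →ₐ[k] k := (ev k m n 0 0).comp (incl k m n)

theorem aug_genT (i : Fin m) (j : Fin n) : aug k m n (genT k m n i j) = 0 := by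
  simp [aug, incl_genT, ev_gen]

/-- the irrelevant maximal ideal of `TT` -/
noncomputable def Tp : Ideal (TT k m n) := RingHom.ker (aug k m n)

instance Tp_isMaximal : (Tp k m n).IsMaximal :=
  RingHom.ker_isMaximal_of_surjective (aug k m n) (fun c => ⟨algebraMap k _ c, by simp⟩)

theorem ringKrullDim_TT_ge (hm : 0 < m) (hn : 0 < n) :
    ((m + n - 1 : ℕ) : WithBot ℕ∞) ≤ ringKrullDim (TT k m n) := by
  classical
  have hai := Groth.Agent.Lib.Helper20.SegreDim.algebraicIndependent_tmul (k := k) hm hn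
    (X : Fin m → MvPolynomial (Fin m) k) (X : Fin n → MvPolynomial (Fin n) k)
    (MvPolynomial.algebraicIndependent_X _ _) (MvPolynomial.algebraicIndependent_X _ _)
  let z : Fin m ⊕ {j : Fin n // j ≠ ⟨0, hn⟩} → TT k m n := fun z =>
    Sum.elim (fun i => genT k m n i ⟨0, hn⟩) (fun j => genT k m n ⟨0, hm⟩ j.1) z
  have hz : AlgebraicIndependent k z := by
    apply AlgebraicIndependent.of_comp (incl k m n)
    convert hai using 1
    funext x
    rcases x with i | j
    · rfl
    · rfl
  have h1 := Groth.Agent.Lib.Helper20.SegreDim.le_ringKrullDim_of_algebraicIndependent z hz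
  have hcard : Fintype.card (Fin m ⊕ {j : Fin n // j ≠ ⟨0, hn⟩}) = m + n - 1 := by
    rw [Fintype.card_sum, Fintype.card_fin, Fintype.card_subtype_compl, Fintype.card_fin,
      Fintype.card_unique]
    omega
  rw [hcard] at h1
  exact h1

theorem height_Tp_ge (hm : 0 < m) (hn : 0 < n) :
    ((m + n - 1 : ℕ) : ℕ∞) ≤ (Tp k m n).height := by
  have h1 := Groth.Agent.Lib.Helper7.DimFT.height_eq_ringKrullDim_of_isMaximal k (TT k m n)
    (Tp k m n)
  have h2 := ringKrullDim_TT_ge k m n hm hn
  rw [← h1] at h2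
  have h3 : (((m + n - 1 : ℕ) : ℕ∞) : WithBot ℕ∞) ≤ ((Tp k m n).height : WithBot ℕ∞) := h2
  exact WithBot.coe_le_coe.mp h3

end Setup

section Main

theorem exists_algHom_ker_eq (k : Type u) [Field k] [IsAlgClosed k] (B : Type u) [CommRing B]
    [Algebra k B] [Algebra.FiniteType k B] (M : Ideal B) [hM : M.IsMaximal] :
    ∃ χ : B →ₐ[k] k, RingHom.ker χ = M := by
  let _ : Field (B ⧸ M) := Ideal.Quotient.field M
  have : Algebra.FiniteType k (B ⧸ M) :=
    Algebra.FiniteType.of_surjective (Ideal.Quotient.mkₐ k M) (Ideal.Quotient.mkₐ_surjective k M)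
  have : Module.Finite k (B ⧸ M) := finite_of_finite_type_of_isJacobsonRing k _
  have : Algebra.IsIntegral k (B ⧸ M) := Algebra.IsIntegral.of_finite k _
  have hbij : Function.Bijective (algebraMap k (B ⧸ M)) :=
    IsAlgClosed.algebraMap_bijective_of_isIntegral
  let e : k ≃ₐ[k] (B ⧸ M) := AlgEquiv.ofBijective (Algebra.ofId k _) hbij
  refine ⟨(e.symm : (B ⧸ M) →ₐ[k] k).comp (Ideal.Quotient.mkₐ k M), ?_⟩
  ext t
  rw [RingHom.mem_ker]
  simp only [AlgHom.coe_comp, Function.comp_apply, Ideal.Quotient.mkₐ_eq_mk, AlgEquiv.coe_toAlgHom,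
    EmbeddingLike.map_eq_zero_iff, Ideal.Quotient.eq_zero_iff_mem]

variable (k : Type u) [Field k] (m n : ℕ)

theorem exists_maximal_ne (hm : 0 < m) (hn : 0 < n) {w : ℕ} (hw : w + 2 ≤ m + n)
    (ℓ : Fin w → TT k m n) (hℓ : ∀ l, ℓ l ∈ Tp k m n) :
    ∃ M : Ideal (TT k m n), M.IsMaximal ∧ (∀ l, ℓ l ∈ M) ∧ M ≠ Tp k m n := by
  classical
  have : IsNoetherianRing (TT k m n) := Algebra.FiniteType.isNoetherianRing k _
  set I := Ideal.span (Set.range ℓ) with hI
  have hITp : I ≤ Tp k m n := Ideal.span_le.mpr (by rintro _ ⟨l, rfl⟩; exact hℓ l)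
  obtain ⟨P, hP, hPle⟩ := Ideal.exists_minimalPrimes_le hITp
  have hPprime : P.IsPrime := hP.1.1
  have hht : P.height ≤ w := by
    have hP' : P ∈ (Ideal.span ((Finset.univ.image ℓ : Finset (TT k m n)) :
        Set (TT k m n))).minimalPrimes := by
      rw [Finset.coe_image, Finset.coe_univ, Set.image_univ]
      exact hP
    have h1 := Ideal.height_le_card_of_mem_minimalPrimes_span_finset hP'
    refine h1.trans ?_
    have h2 : (Finset.univ.image ℓ).card ≤ w := by
      refine Finset.card_image_le.trans ?_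
      simp
    exact_mod_cast h2
  have hne : P ≠ Tp k m n := by
    intro h
    have h1 := height_Tp_ge k m n hm hn
    rw [← h] at h1
    have h2 : ((m + n - 1 : ℕ) : ℕ∞) ≤ w := h1.trans hht
    have h3 : m + n - 1 ≤ w := by exact_mod_cast h2
    omega
  have : IsJacobsonRing (TT k m n) := isJacobsonRing_of_finiteType (A := k)
  have hjac : P.jacobson = P := IsJacobsonRing.out' P hPprime.isRadical
  by_contra hcon
  push Not at hcon
  apply hne
  apply le_antisymm hPle
  rw [← hjac]
  apply le_sInf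
  rintro J ⟨hPJ, hJmax⟩
  have : J = Tp k m n := hcon J hJmax (fun l => hPJ (hP.1.2 (Ideal.subset_span ⟨l, rfl⟩)))
  rw [this]

theorem algHom_eq_aug (χ : TT k m n →ₐ[k] k) (h : ∀ i j, χ (genT k m n i j) = 0) :
    χ = aug k m n := by
  have key : ∀ (φ₁ φ₂ : ↥(Algebra.adjoin k (Set.range fun p : Fin m × Fin n =>
      gen k m n p.1 p.2)) →ₐ[k] k),
      (∀ i j, φ₁ ⟨gen k m n i j, Algebra.subset_adjoin ⟨(i, j), rfl⟩⟩ =
        φ₂ ⟨gen k m n i j, Algebra.subset_adjoin ⟨(i, j), rfl⟩⟩) → φ₁ = φ₂ :=
    fun φ₁ φ₂ h => AlgHom.adjoin_ext (by rintro _ ⟨p, rfl⟩; exact h p.1 p.2)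
  exact key χ (aug k m n) (fun i j => (h i j).trans (aug_genT k m n i j).symm)

theorem exists_common_zero [IsAlgClosed k] (hm : 0 < m) (hn : 0 < n) {w : ℕ}
    (hw : w + 2 ≤ m + n) (a : Fin w → Fin m → Fin n → k) :
    ∃ (u : Fin m → k) (v : Fin n → k), u ≠ 0 ∧ v ≠ 0 ∧
      ∀ l, ∑ i, ∑ j, a l i j * (u i * v j) = 0 := by
  set ℓ : Fin w → TT k m n := fun l => ∑ i, ∑ j, a l i j • genT k m n i j with hℓdef
  have hℓ : ∀ l, ℓ l ∈ Tp k m n := by
    intro l
    show aug k m n (ℓ l) = 0
    simp [hℓdef, map_sum, aug_genT]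
  obtain ⟨M, hM, hℓM, hne⟩ := exists_maximal_ne k m n hm hn hw ℓ hℓ
  obtain ⟨χ, hχ⟩ := exists_algHom_ker_eq k _ M
  have hex : ∃ i j, χ (genT k m n i j) ≠ 0 := by
    by_contra hall
    push Not at hall
    apply hne
    rw [← hχ, algHom_eq_aug k m n χ hall]
    rfl
  obtain ⟨i₀, j₀, h₀⟩ := hex
  set c : Fin m → Fin n → k := fun i j => χ (genT k m n i j) with hcdef
  have hc : ∀ i i' j j', c i j * c i' j' = c i j' * c i' j := by
    intro i i' j j'
    simp only [hcdef]
    rw [← map_mul, ← map_mul, genT_mul_genT]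
  refine ⟨fun i => c i j₀, fun j => c i₀ j / c i₀ j₀, ?_, ?_, ?_⟩
  · intro h
    exact h₀ (congrFun h i₀)
  · intro h
    have := congrFun h j₀
    simp only [Pi.zero_apply] at this
    rw [div_self h₀] at this
    exact one_ne_zero this
  · intro l
    have h1 : χ (ℓ l) = 0 := by
      have : ℓ l ∈ RingHom.ker χ := by rw [hχ]; exact hℓM l
      exact this
    have h2 : χ (ℓ l) = ∑ i, ∑ j, a l i j * c i j := by
      simp [hℓdef, map_sum, hcdef]
    rw [← h1, h2]
    apply Finset.sum_congr rfl
    intro i _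
    apply Finset.sum_congr rfl
    intro j _
    congr 1
    rw [mul_div_assoc', hc i i₀ j₀ j, mul_div_assoc, div_self h₀, mul_one]

end Main

/-- **Hopf's lemma**: a 1-generic bilinear map over an algebraically closed field. -/
theorem finrank_add_finrank_le (k : Type u) [Field k] [IsAlgClosed k] {U : Type*} {V : Type*}
    {W : Type*} [AddCommGroup U] [Module k U] [AddCommGroup V] [Module k V] [AddCommGroup W]
    [Module k W] [Module.Finite k U] [Module.Finite k V] [Module.Finite k W] [Nontrivial U]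
    [Nontrivial V] (φ : U →ₗ[k] V →ₗ[k] W) (hφ : ∀ (a : U) (b : V), a ≠ 0 → b ≠ 0 → φ a b ≠ 0) :
    Module.finrank k U + Module.finrank k V ≤ Module.finrank k W + 1 := by
  classical
  by_contra hlt
  push Not at hlt
  have hm : 0 < Module.finrank k U := Module.finrank_pos
  have hn : 0 < Module.finrank k V := Module.finrank_pos
  let bU := Module.finBasis k U
  let bV := Module.finBasis k V
  let bW := Module.finBasis k W
  obtain ⟨u, v, hu, hv, huv⟩ := exists_common_zero k (Module.finrank k U) (Module.finrank k V)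
    hm hn (w := Module.finrank k W) (by omega) (fun l i j => bW.repr (φ (bU i) (bV j)) l)
  have ha : ∑ i, u i • bU i ≠ 0 := by
    intro h
    apply hu
    funext i
    exact Fintype.linearIndependent_iff.mp bU.linearIndependent u h i
  have hb : ∑ j, v j • bV j ≠ 0 := by
    intro h
    apply hv
    funext j
    exact Fintype.linearIndependent_iff.mp bV.linearIndependent v h j
  apply hφ _ _ ha hb
  apply bW.ext_elem
  intro l
  rw [map_zero, Finsupp.zero_apply, ← huv l]
  simp only [map_sum, map_smul, LinearMap.sum_apply, LinearMap.smul_apply, Finsupp.coe_finsetSum,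
    Finset.sum_apply, Finsupp.coe_smul, Pi.smul_apply, smul_eq_mul, Finset.mul_sum]
  rw [Finset.sum_comm]
  apply Finset.sum_congr rfl
  intro i _
  apply Finset.sum_congr rfl
  intro j _
  ring

end Groth.Agent.Lib.Helper20.HopfLemma
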