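import Mathlib

set_option autoImplicit false
universe v₁ v₂ v₃ v₄ u₁ u₂ u₃ u₄

open CategoryTheory

namespace Groth.Agent.Lib.Helper20.AdjCoh

variable {𝒜 : Type u₁} [Category.{v₁} 𝒜] {𝒵 : Type u₂} [Category.{v₂} 𝒵]
  {𝒴 : Type u₃} [Category.{v₃} 𝒴] {𝒳 : Type u₄} [Category.{v₄} 𝒳]

/-- Coherence of `leftAdjointUniq` isomorphisms under composition of adjunctions. -/
theorem leftAdjointUniq_comp_coherence
    {cZ : 𝒜 ⥤ 𝒵} {ΓZ : 𝒵 ⥤ 𝒜} (AZ : cZ ⊣ ΓZ)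
    {cY : 𝒜 ⥤ 𝒴} {ΓY : 𝒴 ⥤ 𝒜} (AY : cY ⊣ ΓY)
    {cX : 𝒜 ⥤ 𝒳} {ΓX : 𝒳 ⥤ 𝒜} (AX : cX ⊣ ΓX)
    {tu : 𝒵 ⥤ 𝒴} {tl : 𝒴 ⥤ 𝒵} (Pt : tu ⊣ tl)
    {fu : 𝒴 ⥤ 𝒳} {fl : 𝒳 ⥤ 𝒴} (Pf : fu ⊣ fl)
    {hu : 𝒵 ⥤ 𝒳} {hl : 𝒳 ⥤ 𝒵} (Ph : hu ⊣ hl)
    (gt : tl ⋙ ΓZ ≅ ΓY) (gf : fl ⋙ ΓY ≅ ΓX) (gh : hl ⋙ ΓZ ≅ ΓX) (pc : fl ⋙ tl ≅ hl)
    (compat : ∀ F : 𝒳, ΓZ.map (pc.hom.app F) ≫ gh.hom.app F = gt.hom.app (fl.obj F) ≫ gf.hom.app F)
    (A : 𝒜) :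
    (Adjunction.leftAdjointUniq Ph ((Pt.comp Pf).ofNatIsoRight pc)).hom.app (cZ.obj A) ≫
      fu.map ((Adjunction.leftAdjointUniq ((AZ.comp Pt).ofNatIsoRight gt) AY).hom.app A) ≫
      (Adjunction.leftAdjointUniq ((AY.comp Pf).ofNatIsoRight gf) AX).hom.app A =
    (Adjunction.leftAdjointUniq ((AZ.comp Ph).ofNatIsoRight gh) AX).hom.app A := by
  apply (((AZ.comp Ph).ofNatIsoRight gh).homEquiv _ _).injective
  rw [Adjunction.homEquiv_leftAdjointUniq_hom_app]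
  have e1 := Adjunction.unit_leftAdjointUniq_hom_app Ph ((Pt.comp Pf).ofNatIsoRight pc) (cZ.obj A)
  have e2 := Adjunction.unit_leftAdjointUniq_hom_app ((AZ.comp Pt).ofNatIsoRight gt) AY A
  have e3 := Adjunction.unit_leftAdjointUniq_hom_app ((AY.comp Pf).ofNatIsoRight gf) AX A
  rw [Adjunction.homEquiv_unit]
  simp only [Adjunction.ofNatIsoRight_unit, Adjunction.comp_unit_app, NatTrans.comp_app,
    Functor.whiskerLeft_app, Functor.comp_obj, Functor.map_comp, Category.assoc] at e1 e2 e3 ⊢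
  set α := (Ph.leftAdjointUniq ((Pt.comp Pf).ofNatIsoRight pc)).hom.app (cZ.obj A) with hα
  set β := (((AZ.comp Pt).ofNatIsoRight gt).leftAdjointUniq AY).hom.app A with hβ
  set γ := (((AY.comp Pf).ofNatIsoRight gf).leftAdjointUniq AX).hom.app A with hγ
  have n1 : gh.hom.app (hu.obj (cZ.obj A)) ≫ ΓX.map α =
      ΓZ.map (hl.map α) ≫ gh.hom.app (fu.obj (tu.obj (cZ.obj A))) := (gh.hom.naturality α).symm
  have n4 : ΓZ.map (tl.map (Pf.unit.app (tu.obj (cZ.obj A)))) ≫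
      gt.hom.app (fl.obj (fu.obj (tu.obj (cZ.obj A)))) =
      gt.hom.app (tu.obj (cZ.obj A)) ≫ ΓY.map (Pf.unit.app (tu.obj (cZ.obj A))) :=
    gt.hom.naturality (Pf.unit.app (tu.obj (cZ.obj A)))
  have n5 : gf.hom.app (fu.obj (tu.obj (cZ.obj A))) ≫ ΓX.map (fu.map β) =
      ΓY.map (fl.map (fu.map β)) ≫ gf.hom.app (fu.obj (cY.obj A)) :=
    (gf.hom.naturality (fu.map β)).symm
  have n6 : Pf.unit.app (tu.obj (cZ.obj A)) ≫ fl.map (fu.map β) = β ≫ Pf.unit.app (cY.obj A) :=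
    (Pf.unit.naturality β).symm
  calc AZ.unit.app A ≫ ΓZ.map (Ph.unit.app (cZ.obj A)) ≫ gh.hom.app (hu.obj (cZ.obj A)) ≫
          ΓX.map α ≫ ΓX.map (fu.map β) ≫ ΓX.map γ
      = AZ.unit.app A ≫ ΓZ.map (Ph.unit.app (cZ.obj A) ≫ hl.map α) ≫
          gh.hom.app (fu.obj (tu.obj (cZ.obj A))) ≫ ΓX.map (fu.map β) ≫ ΓX.map γ := by
        rw [reassoc_of% n1, ΓZ.map_comp, Category.assoc]
    _ = AZ.unit.app A ≫ ΓZ.map (Pt.unit.app (cZ.obj A)) ≫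
          ΓZ.map (tl.map (Pf.unit.app (tu.obj (cZ.obj A)))) ≫
          (ΓZ.map (pc.hom.app (fu.obj (tu.obj (cZ.obj A)))) ≫
          gh.hom.app (fu.obj (tu.obj (cZ.obj A)))) ≫ ΓX.map (fu.map β) ≫ ΓX.map γ := by
        rw [e1]; simp only [Functor.map_comp, Category.assoc]
    _ = AZ.unit.app A ≫ ΓZ.map (Pt.unit.app (cZ.obj A)) ≫
          (ΓZ.map (tl.map (Pf.unit.app (tu.obj (cZ.obj A)))) ≫
          gt.hom.app (fl.obj (fu.obj (tu.obj (cZ.obj A))))) ≫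
          (gf.hom.app (fu.obj (tu.obj (cZ.obj A))) ≫ ΓX.map (fu.map β)) ≫ ΓX.map γ := by
        rw [compat]; simp only [Category.assoc]
    _ = AZ.unit.app A ≫ ΓZ.map (Pt.unit.app (cZ.obj A)) ≫
          gt.hom.app (tu.obj (cZ.obj A)) ≫
          ΓY.map (Pf.unit.app (tu.obj (cZ.obj A)) ≫ fl.map (fu.map β)) ≫
          gf.hom.app (fu.obj (cY.obj A)) ≫ ΓX.map γ := by
        rw [n4, n5]; simp only [Functor.map_comp, Category.assoc]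
    _ = (AZ.unit.app A ≫ ΓZ.map (Pt.unit.app (cZ.obj A)) ≫
          gt.hom.app (tu.obj (cZ.obj A)) ≫ ΓY.map β) ≫
          ΓY.map (Pf.unit.app (cY.obj A)) ≫
          gf.hom.app (fu.obj (cY.obj A)) ≫ ΓX.map γ := by
        rw [n6]; simp only [Functor.map_comp, Category.assoc]
    _ = AX.unit.app A := by
        rw [e2, e3]

end Groth.Agent.Lib.Helper20.AdjCoh
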