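import Mathlib
import Groth.Prelude.Def_ArtFun5
import Groth.Agent.Lib.Helper1.ArtFunCotangent
import Groth.Agent.Lib.Helper1.ArtFunDerSurj

/-!
# A derivation into the residue field with prescribed value `1` at a chosen element
(variant of `Groth.Agent.Lib.Helper1.ArtFunLib.exists_derivation_of_ne` exposing `x₀`; proof adapted
from helper1's library).
-/
set_option autoImplicit false
universe u v
open CategoryTheory

namespace Groth.Agent.Lib.Helper20.ArtSq

open ArtFun ArtFun.Art Groth.Agent.Lib.Helper1.ArtFunLib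

section DerConstruct

variable {Λ : Type u} {k : Type u} [CommRing Λ] [Field k] [Algebra Λ k]
variable {R S : Type u} [CommRing R] [CommRing S] [Algebra Λ R] [Algebra Λ S] [IsLocalRing R] [IsLocalRing S]
  [IsNoetherianRing S] [Algebra S k] [IsScalarTower Λ S k]
  (resR : R →ₐ[Λ] k) (hresR : Function.Surjective resR) (hresS : Function.Surjective (algebraMap S k))
  {f : R →ₐ[Λ] S} (hf : (IsScalarTower.toAlgHom Λ S k).comp f = resR)

include hresR hresS hf in
theorem exists_derivation_eq_one (x₀ : S) (hx₀m : x₀ ∈ IsLocalRing.maximalIdeal S)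
    (hx₀ : x₀ ∉ Ideal.map f (IsLocalRing.maximalIdeal R) ⊔ IsLocalRing.maximalIdeal S ^ 2) :
    ∃ D : Derivation Λ S k, D x₀ = 1 ∧ ∀ r, D (f r) = 0 := by
  classical
  set m := IsLocalRing.maximalIdeal S with hm
  set J' := Ideal.map f (IsLocalRing.maximalIdeal R) ⊔ m ^ 2 with hJ'
  have hmem : ∀ a : S, a ∈ m ↔ algebraMap S k a = 0 :=
    fun a => mem_maximalIdeal_iff_res (IsScalarTower.toAlgHom Λ S k) hresS a
  have hresf : ∀ r, algebraMap S k (f r) = resR r := fun r => by rw [← hf]; rfl
  have hJ'le : J' ≤ m := by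
    apply sup_le
    · exact map_maximalIdeal_le resR (IsScalarTower.toAlgHom Λ S k) hresR hresS f hf
    · exact Ideal.pow_le_self two_ne_zero
  -- maximal ideal containing J' and not x₀
  obtain ⟨J, ⟨hJ'J, hx₀J⟩, hJmax⟩ := (inferInstance : WellFoundedGT (Ideal S)).wf.has_min
    {I : Ideal S | J' ≤ I ∧ x₀ ∉ I} ⟨J', le_refl _, hx₀⟩
  have hJm : J ≤ m := IsLocalRing.le_maximalIdeal (fun h => hx₀J (h ▸ Submodule.mem_top))
  have hmsq : m ^ 2 ≤ J := le_sup_right.trans hJ'J
  have hfm : ∀ r : R, resR r = 0 → f r ∈ J := by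
    intro r hr
    apply hJ'J
    apply Ideal.mem_sup_left
    apply Ideal.mem_map_of_mem
    exact (mem_maximalIdeal_iff_res resR hresR r).2 hr
  -- every element of m is in J + S x₀
  have hdecomp : ∀ v ∈ m, ∃ j ∈ J, ∃ a : S, v = j + a * x₀ := by
    intro v hv
    by_cases hvJ : v ∈ J
    · exact ⟨v, hvJ, 0, by ring⟩
    · have hlt : J < J ⊔ Ideal.span {v} := by
        apply lt_of_le_of_ne le_sup_left
        intro h
        apply hvJ
        rw [h]
        exact Ideal.mem_sup_right (Ideal.subset_span rfl)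
      have hx₀in : x₀ ∈ J ⊔ Ideal.span {v} := by
        by_contra hnot
        exact hJmax (J ⊔ Ideal.span {v}) ⟨hJ'J.trans le_sup_left, hnot⟩ hlt
      obtain ⟨j, hj, w, hw, hjw⟩ := Submodule.mem_sup.1 hx₀in
      obtain ⟨b, rfl⟩ := Ideal.mem_span_singleton'.1 hw
      have hbu : IsUnit b := by
        by_contra hb
        have hbm : b ∈ m := (IsLocalRing.mem_maximalIdeal b).2 hb
        apply hx₀J
        rw [← hjw]
        apply J.add_mem hj
        apply hmsq
        rw [pow_two]
        exact Ideal.mul_mem_mul hbm hv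
      obtain ⟨b', hb'⟩ := hbu.exists_left_inv
      refine ⟨-(b' * j), J.neg_mem (J.mul_mem_left _ hj), b', ?_⟩
      have : b' * x₀ = b' * j + v := by
        rw [← hjw, mul_add, ← mul_assoc, hb', one_mul]
      rw [this]; ring
  -- existence of the relation
  have hex : ∀ s : S, ∃ c : k, DerRel f J x₀ s c := by
    intro s
    obtain ⟨r, hr⟩ := hresR (algebraMap S k s)
    have hv : s - f r ∈ m := by
      rw [hmem, map_sub, hresf, hr, sub_self]
    obtain ⟨j, hj, a, ha⟩ := hdecomp _ hv
    exact ⟨algebraMap S k a, r, j, a, hj, by rw [add_assoc, ← ha]; ring, rfl⟩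
  -- uniqueness
  have huniq : ∀ (s : S) (c c' : k), DerRel f J x₀ s c → DerRel f J x₀ s c' → c = c' := by
    rintro s c c' ⟨r, j, a, hj, hs, rfl⟩ ⟨r', j', a', hj', hs', rfl⟩
    have hrr' : resR (r - r') = 0 := by
      have h1 : algebraMap S k (f r + j + a * x₀) = algebraMap S k (f r' + j' + a' * x₀) := by
        rw [← hs, ← hs']
      simp only [map_add, map_mul, hresf, (hmem _).1 (hJm hj), (hmem _).1 (hJm hj'),
        (hmem _).1 hx₀m, mul_zero, add_zero] at h1
      rw [map_sub, h1, sub_self]
    have h2 : (a - a') * x₀ ∈ J := by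
      have : (a - a') * x₀ = f (r' - r) + (j' - j) := by
        have := hs.symm.trans hs'
        rw [map_sub]
        linear_combination this
      rw [this]
      apply J.add_mem
      · apply hfm
        rw [← neg_sub, map_neg, hrr', neg_zero]
      · exact J.sub_mem hj' hj
    have h3 : a - a' ∈ m := by
      rw [IsLocalRing.mem_maximalIdeal]
      intro hu
      obtain ⟨b', hb'⟩ := hu.exists_left_inv
      apply hx₀J
      have : x₀ = b' * ((a - a') * x₀) := by rw [← mul_assoc, hb', one_mul]
      rw [this]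
      exact J.mul_mem_left _ h2
    rw [hmem, map_sub, sub_eq_zero] at h3
    exact h3
  choose Dfun hD using hex
  have hval : ∀ s c, DerRel f J x₀ s c → Dfun s = c := fun s c h => huniq s _ _ (hD s) h
  -- closure properties
  have hadd : ∀ s t, Dfun (s + t) = Dfun s + Dfun t := by
    intro s t
    obtain ⟨r, j, a, hj, hs, hc⟩ := hD s
    obtain ⟨r', j', a', hj', ht, hc'⟩ := hD t
    apply hval
    refine ⟨r + r', j + j', a + a', J.add_mem hj hj', ?_, by rw [map_add, hc, hc']⟩
    rw [map_add]
    linear_combination hs + ht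
  have hsmul : ∀ (l : Λ) s, Dfun (l • s) = l • Dfun s := by
    intro l s
    obtain ⟨r, j, a, hj, hs, hc⟩ := hD s
    apply hval
    refine ⟨l • r, l • j, l • a, ?_, ?_, ?_⟩
    · rw [Algebra.smul_def]
      exact J.mul_mem_left _ hj
    · rw [map_smul, smul_mul_assoc, ← smul_add, ← smul_add, ← hs]
    · rw [Algebra.smul_def, map_mul, hc, ← IsScalarTower.algebraMap_apply, Algebra.smul_def]
  have hmul : ∀ s t, Dfun (s * t) = s • Dfun t + t • Dfun s := by
    intro s t
    obtain ⟨r, j, a, hj, hs, hc⟩ := hD s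
    obtain ⟨r', j', a', hj', ht, hc'⟩ := hD t
    apply hval
    have hsq : (j + a * x₀) * (j' + a' * x₀) ∈ J := by
      apply hmsq
      rw [pow_two]
      apply Ideal.mul_mem_mul
      · exact m.add_mem (hJm hj) (m.mul_mem_left _ hx₀m)
      · exact m.add_mem (hJm hj') (m.mul_mem_left _ hx₀m)
    refine ⟨r * r', f r * j' + j * f r' + (j + a * x₀) * (j' + a' * x₀), f r * a' + a * f r', ?_, ?_, ?_⟩
    · exact J.add_mem (J.add_mem (J.mul_mem_left _ hj') (J.mul_mem_right _ hj)) hsq
    · rw [map_mul, hs, ht]; ring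
    · rw [map_add, map_mul, map_mul, hc, hc', Algebra.smul_def, Algebra.smul_def]
      have e1 : algebraMap S k (f r) = algebraMap S k s := by
        rw [hs]
        simp only [map_add, map_mul, (hmem _).1 (hJm hj), (hmem _).1 hx₀m, mul_zero, add_zero]
      have e2 : algebraMap S k (f r') = algebraMap S k t := by
        rw [ht]
        simp only [map_add, map_mul, (hmem _).1 (hJm hj'), (hmem _).1 hx₀m, mul_zero, add_zero]
      rw [e1, e2]
      ring
  let D : Derivation Λ S k :=
    { toFun := Dfun
      map_add' := hadd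
      map_smul' := hsmul
      map_one_eq_zero' := by
        apply hval
        exact ⟨1, 0, 0, J.zero_mem, by rw [map_one]; ring, map_zero _⟩
      leibniz' := hmul }
  refine ⟨D, ?_, ?_⟩
  · change Dfun x₀ = 1
    apply hval
    exact ⟨0, 0, 1, J.zero_mem, by rw [map_zero]; ring, map_one _⟩
  · intro r
    apply hval
    exact ⟨r, 0, 0, J.zero_mem, by ring, map_zero _⟩

end DerConstruct

end Groth.Agent.Lib.Helper20.ArtSq
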