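import Mathlib
import Groth.Prelude.Def_ArtFun5
import Groth.Agent.Lib.Helper1.ArtFunInduct
import Groth.Agent.Lib.Helper1.ArtFunProrep
import Groth.Agent.Lib.Helper20.ArtSq1

set_option autoImplicit false
universe u v
open CategoryTheory

namespace Groth.Agent.Lib.Helper20.ArtSq

open ArtFun ArtFun.Art Groth.Agent.Lib.Helper1.ArtFunLib

variable {Λ : Type u} {k : Type u} [CommRing Λ] [Field k] [Algebra Λ k]

/-- For a small extension `p : B ⟶ A` whose source has a section from `k` and square-zero maximal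
ideal, there is `Dh : B ⟶ k[ε]` making `B = A ×_k k[ε]`. -/
theorem exists_dual_fibreProd {A B : Art Λ k} (p : B ⟶ A) (hp : IsSmallExt p)
    (σ : base Λ k ⟶ B) (hm : IsLocalRing.maximalIdeal B ^ 2 = ⊥) :
    ∃ Dh : B ⟶ dual Λ k, IsFibreProd p Dh (toBase A) (toBase (dual Λ k)) := by
  obtain ⟨hps, hne, ⟨t, ht⟩, hmk⟩ := hp
  have ht' : RingHom.ker p.toAlgHom = Ideal.span {t} := ht
  have htm : t ∈ IsLocalRing.maximalIdeal B := by
    apply ker_le_maximalIdeal p
    rw [ht']; exact Ideal.subset_span rfl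
  have ht0 : t ≠ 0 := by
    rintro rfl
    apply hne
    rw [ht']; simp
  have hpt : p t = 0 := by
    have : t ∈ RingHom.ker p.toAlgHom := by rw [ht']; exact Ideal.subset_span rfl
    exact this
  let _ : Algebra B k := B.res.toRingHom.toAlgebra
  have : IsScalarTower Λ B k := IsScalarTower.of_algebraMap_eq (fun l => (B.res.commutes l).symm)
  have hf : (IsScalarTower.toAlgHom Λ B k).comp σ.toAlgHom = AlgHom.id Λ k := by
    apply AlgHom.ext
    intro a
    exact res_app σ a
  have hmap : Ideal.map σ.toAlgHom (IsLocalRing.maximalIdeal k) = ⊥ := by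
    rw [IsLocalRing.maximalIdeal_eq_bot]; exact Ideal.map_bot
  have hx₀ : t ∉ Ideal.map σ.toAlgHom (IsLocalRing.maximalIdeal k) ⊔
      IsLocalRing.maximalIdeal B ^ 2 := by
    rw [hmap, hm, bot_sup_eq]
    exact ht0
  obtain ⟨D, hDt, hDσ⟩ := exists_derivation_eq_one (R := k) (S := B) (AlgHom.id Λ k)
    Function.surjective_id B.res_surjective hf t htm hx₀
  have hsec : ∀ c : k, ∃ s : B, B.res s = c := fun c => ⟨σ.toAlgHom c, res_app σ c⟩
  have hres : (dual Λ k).res.comp (homOfDer D) = B.res := by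
    rw [res_comp_homOfDer]
    apply AlgHom.ext
    intro b
    rfl
  let Dh : B ⟶ dual Λ k := ⟨homOfDer D, hres⟩
  have hDh_fst : ∀ b : B, (Dh b : DualNumber k).fst = B.res b := fun b => homOfDer_fst D b
  have hDh_snd : ∀ b : B, (Dh b : DualNumber k).snd = D b := fun b => homOfDer_snd D b
  have hDmul : ∀ c : B, D (c * t) = B.res c := by
    intro c
    rw [D.leibniz, hDt, Algebra.smul_def, Algebra.smul_def, mul_one]
    have : algebraMap B k t = 0 := (mem_maximalIdeal_iff B t).1 htm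
    rw [this, zero_mul, add_zero]
    rfl
  refine ⟨Dh, ⟨?_, ?_, ?_⟩⟩
  · rw [eq_toBase (p ≫ toBase A), eq_toBase (Dh ≫ toBase (dual Λ k))]
  · intro b₁ b₂ e1 e2
    have h1 : b₁ - b₂ ∈ RingHom.ker p.toAlgHom := by
      rw [RingHom.mem_ker, map_sub]
      exact sub_eq_zero.2 e1
    rw [ht', Ideal.mem_span_singleton'] at h1
    obtain ⟨c, hc⟩ := h1
    have h2 : D b₁ = D b₂ := by rw [← hDh_snd, ← hDh_snd, e2]
    have h3 : B.res c = 0 := by
      rw [← hDmul, hc, map_sub, h2, sub_self]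
    have h4 : c ∈ IsLocalRing.maximalIdeal B := (mem_maximalIdeal_iff B c).2 h3
    have h5 : c * t = 0 := by
      have : c * t ∈ IsLocalRing.maximalIdeal B * RingHom.ker p.toAlgHom :=
        Ideal.mul_mem_mul h4 (by rw [ht']; exact Ideal.subset_span rfl)
      rw [hmk] at this
      exact this
    rw [h5] at hc
    exact (sub_eq_zero.1 hc.symm)
  · intro a d e
    obtain ⟨b₀, hb₀⟩ := hps a
    have e' : A.res a = (d : DualNumber k).fst := e
    obtain ⟨s, hs⟩ := hsec ((d : DualNumber k).snd - D b₀)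
    refine ⟨b₀ + s * t, ?_, ?_⟩
    · rw [map_add, map_mul]
      rw [hpt, mul_zero, add_zero, hb₀]
    · apply TrivSqZeroExt.ext
      · rw [hDh_fst, map_add, map_mul]
        have : B.res t = 0 := (mem_maximalIdeal_iff B t).1 htm
        rw [this, mul_zero, add_zero, ← res_app p, hb₀, e']
      · rw [hDh_snd, map_add, hDmul, hs]
        ring

variable {F : Art Λ k ⥤ Type v}

/-- the small step: `BijFor` for a small extension out of a split square-zero object. -/
theorem bijFor_small (hF : Heps F) {A B : Art Λ k} (p : B ⟶ A) (hp : IsSmallExt p)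
    (σ : base Λ k ⟶ B) (hm : IsLocalRing.maximalIdeal B ^ 2 = ⊥) : BijFor F B A p := by
  obtain ⟨Dh, hfp⟩ := exists_dual_fibreProd p hp σ hm
  intro B' A' p' p'' f' h
  have hfp' : IsFibreProd p' (p'' ≫ Dh) (toBase A') (toBase (dual Λ k)) := by
    refine ⟨?_, ?_, ?_⟩
    · rw [eq_toBase (p' ≫ toBase A'), eq_toBase ((p'' ≫ Dh) ≫ toBase (dual Λ k))]
    · intro b₁ b₂ e1 e2
      apply h.inj b₁ b₂ e1
      apply hfp.inj (p'' b₁) (p'' b₂)
      · rw [← h.w_apply, ← h.w_apply, e1]
      · exact e2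
    · intro a' d e
      have e0 : (toBase A) (f' a') = (toBase (dual Λ k)) d := by
        change A.res (f' a') = _
        rw [res_app f']
        exact e
      obtain ⟨b, hb1, hb2⟩ := hfp.surj (f' a') d e0
      obtain ⟨b', hb'1, hb'2⟩ := h.surj a' b hb1.symm
      refine ⟨b', hb'1, ?_⟩
      change Dh (p'' b') = d
      rw [hb'2, hb2]
  have h1 := hF p' (p'' ≫ Dh) hfp'
  have h2 := hF p Dh hfp
  constructor
  · rw [cmp_injective_iff]
    intro z z' e1 e2
    refine (cmp_injective_iff F hfp').1 h1.1 z z' e1 ?_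
    rw [F.map_comp_apply, F.map_comp_apply, e2]
  · rw [cmp_surjective_iff]
    intro x' x'' e
    have hcompat : F.map (toBase A') x' = F.map (toBase (dual Λ k)) (F.map Dh x'') := by
      rw [← F.map_comp_apply Dh, eq_toBase (Dh ≫ toBase (dual Λ k)),
        ← eq_toBase (p ≫ toBase A), F.map_comp_apply, ← e, ← F.map_comp_apply f',
        eq_toBase (f' ≫ toBase A)]
    obtain ⟨z, hz1, hz2⟩ := (cmp_surjective_iff F hfp').1 h1.2 x' (F.map Dh x'') hcompat
    refine ⟨z, hz1, ?_⟩
    refine (cmp_injective_iff F hfp).1 h2.1 _ _ ?_ ?_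
    · rw [← F.map_comp_apply p'', ← h.w, F.map_comp_apply, hz1, e]
    · rw [← F.map_comp_apply p'', hz2]

/-- the predicate used in the induction -/
def PP (F : Art Λ k ⥤ Type v) ⦃A B : Art Λ k⦄ (f : B ⟶ A) : Prop :=
  Function.Surjective f ∧
    (Nonempty (base Λ k ⟶ B) → IsLocalRing.maximalIdeal B ^ 2 = ⊥ → BijFor F B A f)

theorem bijFor_toBase (hF : Heps F) {E : Art Λ k} (hσ : Nonempty (base Λ k ⟶ E))
    (hE : IsLocalRing.maximalIdeal E ^ 2 = ⊥) : BijFor F E (base Λ k) (toBase E) := by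
  have key : PP F (toBase E) := by
    refine surjective_induction (PP F) ?_ ?_ ?_ (toBase E) E.res_surjective
    · intro A B e he
      have := he
      refine ⟨(bijective_of_isIso e).2, fun _ _ => ?_⟩
      intro B' A' p' p'' f' h
      exact ⟨injFor_of_isIso F e he p' p'' f' h, surjFor_of_isIso F e he p' p'' f' h⟩
    · intro A B p hp
      refine ⟨hp.1, fun ⟨σ⟩ hm => bijFor_small hF p hp σ hm⟩
    · intro A B C p q hp hq
      refine ⟨hq.1.comp hp.1, fun ⟨σ⟩ hm => ?_⟩
      have hmB : IsLocalRing.maximalIdeal B ^ 2 = ⊥ := by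
        rw [eq_bot_iff, pow_two, Ideal.mul_le]
        intro x hx y hy
        obtain ⟨c, rfl⟩ := hp.1 x
        obtain ⟨c', rfl⟩ := hp.1 y
        have hc := mem_maximalIdeal_of_map p hx
        have hc' := mem_maximalIdeal_of_map p hy
        have : c * c' ∈ IsLocalRing.maximalIdeal C ^ 2 := by
          rw [pow_two]; exact Ideal.mul_mem_mul hc hc'
        rw [hm] at this
        have h0 : c * c' = 0 := this
        rw [Ideal.mem_bot]
        rw [← map_mul, h0, map_zero]
      exact bijFor_comp F p q hp.1 (hp.2 ⟨σ⟩ hm) (hq.2 ⟨σ ≫ p⟩ hmB)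
  exact key.2 hσ hE

end Groth.Agent.Lib.Helper20.ArtSq
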