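import Groth.Agent.Lib.Helper20.BirationalSpread
import Mathlib.AlgebraicGeometry.FunctionField
import Mathlib.AlgebraicGeometry.Morphisms.FinitePresentation
import Mathlib.AlgebraicGeometry.Morphisms.Separated
import Mathlib.AlgebraicGeometry.Morphisms.QuasiFinite

set_option autoImplicit false
universe u
open CategoryTheory CategoryTheory.Limits AlgebraicGeometry

namespace Groth.Agent.Lib.Helper20

lemma isIso_residue_genericPoint (X : Scheme.{u}) [IsIntegral X] :
    IsIso (X.residue (genericPoint X)) := by
  have hf : IsField (X.presheaf.stalk (genericPoint X)) := Field.toIsField X.functionField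
  have hbij : Function.Bijective (X.residue (genericPoint X)).hom := by
    refine ⟨?_, X.residue_surjective _⟩
    rw [RingHom.injective_iff_ker_eq_bot]
    change RingHom.ker (IsLocalRing.residue _) = ⊥
    rw [IsLocalRing.ker_residue]
    exact IsLocalRing.isField_iff_maximalIdeal_eq.mp hf
  exact (ConcreteCategory.isIso_iff_bijective _).mpr hbij

lemma SpecMap_eqToHom_fromSpecResidueField (S : Scheme.{u}) {s s' : S} (h : s = s') :
    Spec.map (eqToHom (congrArg S.residueField h)) ≫ S.fromSpecResidueField s =
      S.fromSpecResidueField s' := by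
  subst h
  simp

theorem birationalOver_of_residueField_iso {S X Y : Scheme.{u}}
    [IsIntegral X] [IsIntegral Y] (sX : X ⟶ S) (sY : Y ⟶ S)
    [LocallyOfFiniteType sX] [LocallyOfFiniteType sY]
    (hs : sX.base (genericPoint ↥X) = sY.base (genericPoint ↥Y))
    (e : X.residueField (genericPoint ↥X) ≅ Y.residueField (genericPoint ↥Y))
    (he : sX.residueFieldMap (genericPoint ↥X) ≫ e.hom =
      eqToHom (congrArg S.residueField hs) ≫ sY.residueFieldMap (genericPoint ↥Y)) :
    Scheme.BirationalOver sX sY := by
  have := isIso_residue_genericPoint X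
  have := isIso_residue_genericPoint Y
  let rX := asIso (X.residue (genericPoint X))
  let rY := asIso (Y.residue (genericPoint Y))
  let φ : Y.presheaf.stalk (genericPoint Y) ≅ X.presheaf.stalk (genericPoint X) :=
    rY ≪≫ e.symm ≪≫ rX.symm
  refine birationalOver_of_iso_spec_stalk sX sY (genericPoint X) (genericPoint Y)
    (Scheme.Spec.mapIso φ.op) ?_
  change Spec.map φ.hom ≫ _ = _
  have h1 : Spec.map φ.hom = Spec.map rX.inv ≫ Spec.map e.inv ≫ Spec.map rY.hom := by
    simp only [φ, Iso.trans_hom, Iso.symm_hom, Spec.map_comp, Category.assoc]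
  have h2 : X.fromSpecStalk (genericPoint X) =
      Spec.map rX.inv ≫ X.fromSpecResidueField (genericPoint X) := by
    rw [Scheme.fromSpecResidueField, ← Category.assoc, ← Spec.map_comp]
    simp [rX]
  have h3 : sX.residueFieldMap (genericPoint ↥X) =
      eqToHom (congrArg S.residueField hs) ≫ sY.residueFieldMap (genericPoint ↥Y) ≫ e.inv := by
    rw [← Category.assoc, ← he, Category.assoc, Iso.hom_inv_id, Category.comp_id]
  rw [h1, h2, Category.assoc, Category.assoc, Category.assoc]
  congr 1
  have h4 : Spec.map rY.hom ≫ Y.fromSpecStalk (genericPoint Y) =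
      Y.fromSpecResidueField (genericPoint Y) := rfl
  rw [reassoc_of% h4, ← Scheme.Hom.SpecMap_residueFieldMap_fromSpecResidueField,
    ← Scheme.Hom.SpecMap_residueFieldMap_fromSpecResidueField, h3, Spec.map_comp, Spec.map_comp,
    Category.assoc, Category.assoc, SpecMap_eqToHom_fromSpecResidueField S hs]

lemma residueFieldMap_congr_hom {U S : Scheme.{u}} {f₁ f₂ : U ⟶ S} (h : f₁ = f₂) (u : U) :
    f₁.residueFieldMap u =
      eqToHom (by rw [h]) ≫ f₂.residueFieldMap u := by
  subst h
  simp

theorem residueField_iso_of_birationalOver {S X Y : Scheme.{u}}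
    [IsIntegral X] [IsIntegral Y] (sX : X ⟶ S) (sY : Y ⟶ S)
    (h : Scheme.BirationalOver sX sY) :
    ∃ (hs : sX.base (genericPoint ↥X) = sY.base (genericPoint ↥Y))
      (e : X.residueField (genericPoint ↥X) ≅ Y.residueField (genericPoint ↥Y)),
      sX.residueFieldMap (genericPoint ↥X) ≫ e.hom =
        eqToHom (congrArg S.residueField hs) ≫ sY.residueFieldMap (genericPoint ↥Y) := by
  obtain ⟨p, hp⟩ := h
  have hne : Nonempty p.source := by
    obtain ⟨x, hx⟩ := p.dense_source.nonempty
    exact ⟨⟨x, hx⟩⟩
  let g : p.source.toScheme ⟶ Y := p.iso.hom ≫ p.target.ι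
  have hg : g ≫ sY = p.source.ι ≫ sX := by simpa only [g, Category.assoc] using hp
  let u : p.source.toScheme := genericPoint p.source.toScheme
  have hux : p.source.ι u = genericPoint X := genericPoint_eq_of_isOpenImmersion p.source.ι
  have huy : g u = genericPoint Y := genericPoint_eq_of_isOpenImmersion g
  suffices H : ∀ (x : X) (y : Y) (_ : p.source.ι u = x) (_ : g u = y),
      ∃ (hs : sX.base x = sY.base y) (e : X.residueField x ≅ Y.residueField y),
        sX.residueFieldMap x ≫ e.hom =
          eqToHom (congrArg S.residueField hs) ≫ sY.residueFieldMap y from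
    H _ _ hux huy
  rintro _ _ rfl rfl
  have hs : sX (p.source.ι u) = sY (g u) := by
    rw [← Scheme.Hom.comp_apply, ← Scheme.Hom.comp_apply, hg]
  refine ⟨hs, asIso (p.source.ι.residueFieldMap u) ≪≫ (asIso (g.residueFieldMap u)).symm, ?_⟩
  simp only [Iso.trans_hom, asIso_hom, Iso.symm_hom, asIso_inv]
  rw [← Category.assoc, IsIso.comp_inv_eq, Category.assoc]
  have h1 := Scheme.residueFieldMap_comp p.source.ι sX u
  have h2 := Scheme.residueFieldMap_comp g sY u
  have h3 := residueFieldMap_congr_hom hg.symm u
  rw [h2] at h3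
  exact h1.symm.trans h3

end Groth.Agent.Lib.Helper20
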