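import Mathlib.AlgebraicGeometry.Birational.Birational
import Mathlib.AlgebraicGeometry.SpreadingOut
import Mathlib.AlgebraicGeometry.ResidueField
import Mathlib.AlgebraicGeometry.Morphisms.FiniteType

set_option autoImplicit false
universe u
open CategoryTheory CategoryTheory.Limits AlgebraicGeometry

namespace Groth.Agent.Lib.Helper20

/-- Two "partially inverse" morphisms give an isomorphism between the loci where the
compositions are defined. -/
noncomputable def isoOfPartialInverse {X Y A B : Scheme.{u}} (a : A ⟶ X) (b : B ⟶ Y)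
    (f : A ⟶ Y) (f' : B ⟶ X)
    (h₁ : pullback.snd f b ≫ f' = pullback.fst f b ≫ a)
    (h₂ : pullback.snd f' a ≫ f = pullback.fst f' a ≫ b) :
    pullback f b ≅ pullback f' a where
  hom := pullback.lift (pullback.snd f b) (pullback.fst f b) h₁
  inv := pullback.lift (pullback.snd f' a) (pullback.fst f' a) h₂
  hom_inv_id := by
    apply pullback.hom_ext
    · rw [Category.assoc, pullback.lift_fst, pullback.lift_snd, Category.id_comp]
    · rw [Category.assoc, pullback.lift_snd, pullback.lift_fst, Category.id_comp]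
  inv_hom_id := by
    apply pullback.hom_ext
    · rw [Category.assoc, pullback.lift_fst, pullback.lift_snd, Category.id_comp]
    · rw [Category.assoc, pullback.lift_snd, pullback.lift_fst, Category.id_comp]

/-- Uniqueness of spreading out, tested on a morphism from `Spec 𝒪_{X,x}`. -/
lemma exists_opens_eq_of_comp_eq {P X Z : Scheme.{u}} [X.IsGermInjective] {x : X}
    (t : Spec (X.presheaf.stalk x) ⟶ P) (h : P ⟶ X) [IsOpenImmersion h]
    (ht : t ≫ h = X.fromSpecStalk x) (g₁ g₂ : P ⟶ Z) (hg : t ≫ g₁ = t ≫ g₂) :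
    ∃ W : P.Opens, Set.range t ⊆ W ∧ W.ι ≫ g₁ = W.ι ≫ g₂ := by
  let c : Spec (X.presheaf.stalk x) := IsLocalRing.closedPoint (X.presheaf.stalk x)
  set p₀ := t c with hp₀
  have hp₀x : h p₀ = x := by
    have := Scheme.fromSpecStalk_closedPoint (X := X) (x := x)
    rw [← ht] at this
    exact this
  have : P.IsGermInjectiveAt p₀ :=
    (isGermInjectiveAt_iff_of_isOpenImmersion (f := h)).mp inferInstance
  -- `P.fromSpecStalk p₀` factors through `t`
  let μ : X.presheaf.stalk x ⟶ P.presheaf.stalk p₀ :=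
    X.presheaf.stalkSpecializes (Inseparable.of_eq hp₀x).specializes ≫ h.stalkMap p₀
  have hμ : Spec.map μ ≫ t = P.fromSpecStalk p₀ := by
    rw [← cancel_mono h, Category.assoc, ht, Spec.map_comp, Category.assoc,
      Scheme.SpecMap_stalkSpecializes_fromSpecStalk, Scheme.SpecMap_stalkMap_fromSpecStalk]
  obtain ⟨W, hW, e⟩ := spread_out_unique_of_isGermInjective' (x := p₀) g₁ g₂ (by
    rw [← hμ, Category.assoc, Category.assoc, hg])
  refine ⟨W, ?_, e⟩
  rintro _ ⟨q, rfl⟩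
  have hq : q ⤳ c := IsLocalRing.specializes_closedPoint (R := X.presheaf.stalk x) q
  exact (hq.map t.continuous).mem_open W.2 hW

/-- One half of the construction of a partial isomorphism from spread-out morphisms. -/
lemma exists_half_partialInverse {X Y : Scheme.{u}} [X.IsGermInjective] {x : X} {y : Y}
    (Φ : Spec (X.presheaf.stalk x) ≅ Spec (Y.presheaf.stalk y))
    (U : X.Opens) (hxU : x ∈ U) (V : Y.Opens) (hyV : y ∈ V)
    (f₀ : U.toScheme ⟶ Y) (f₀' : V.toScheme ⟶ X)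
    (hf₀ : Φ.hom ≫ Y.fromSpecStalk y = U.fromSpecStalkOfMem x hxU ≫ f₀)
    (hf₀' : Φ.inv ≫ X.fromSpecStalk x = V.fromSpecStalkOfMem y hyV ≫ f₀') :
    ∃ (A : Scheme.{u}) (l : A ⟶ U.toScheme) (k : A ⟶ V.toScheme)
      (tA : Spec (X.presheaf.stalk x) ⟶ A),
      IsOpenImmersion l ∧ l ≫ f₀ = k ≫ V.ι ∧ l ≫ U.ι = k ≫ f₀' ∧
      tA ≫ l = U.fromSpecStalkOfMem x hxU ∧ tA ≫ k = Φ.hom ≫ V.fromSpecStalkOfMem y hyV := by
  let jU := U.fromSpecStalkOfMem x hxU
  let jV := V.fromSpecStalkOfMem y hyV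
  let t : Spec (X.presheaf.stalk x) ⟶ pullback f₀ V.ι :=
    pullback.lift jU (Φ.hom ≫ jV) (by
      rw [← hf₀, Category.assoc, Scheme.Opens.fromSpecStalkOfMem_ι])
  have ht1 : t ≫ (pullback.fst f₀ V.ι ≫ U.ι) = X.fromSpecStalk x := by
    rw [← Category.assoc, pullback.lift_fst, Scheme.Opens.fromSpecStalkOfMem_ι]
  have ht2 : t ≫ (pullback.fst f₀ V.ι ≫ U.ι) = t ≫ (pullback.snd f₀ V.ι ≫ f₀') := by
    rw [ht1, ← Category.assoc, pullback.lift_snd, Category.assoc, ← hf₀', Iso.hom_inv_id_assoc]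
  obtain ⟨W, hW, eW⟩ := exists_opens_eq_of_comp_eq t (pullback.fst f₀ V.ι ≫ U.ι) ht1 _ _ ht2
  have hlift : Set.range t ⊆ Set.range W.ι := by rwa [Scheme.Opens.range_ι]
  refine ⟨W.toScheme, W.ι ≫ pullback.fst f₀ V.ι, W.ι ≫ pullback.snd f₀ V.ι,
    IsOpenImmersion.lift W.ι t hlift, inferInstance, ?_, ?_, ?_, ?_⟩
  · rw [Category.assoc, Category.assoc, pullback.condition]
  · simpa only [Category.assoc] using eW
  · rw [← Category.assoc, IsOpenImmersion.lift_fac, pullback.lift_fst]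
  · rw [← Category.assoc, IsOpenImmersion.lift_fac, pullback.lift_snd]

set_option backward.isDefEq.respectTransparency false in
/-- An `S`-isomorphism between `Spec 𝒪_{X,x}` and `Spec 𝒪_{Y,y}` for integral schemes locally of
finite type over `S` spreads out to an `S`-birational equivalence. -/
theorem birationalOver_of_iso_spec_stalk {S X Y : Scheme.{u}} [IsIntegral X] [IsIntegral Y]
    (sX : X ⟶ S) (sY : Y ⟶ S) [LocallyOfFiniteType sX] [LocallyOfFiniteType sY] (x : X) (y : Y)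
    (Φ : Spec (X.presheaf.stalk x) ≅ Spec (Y.presheaf.stalk y))
    (hΦ : Φ.hom ≫ Y.fromSpecStalk y ≫ sY = X.fromSpecStalk x ≫ sX) :
    Scheme.BirationalOver sX sY := by
  obtain ⟨U, hxU, f₀, hf₀, hf₀S⟩ := spread_out_of_isGermInjective' sX sY
    (Φ.hom ≫ Y.fromSpecStalk y) (by rw [Category.assoc]; exact hΦ)
  have hΦ' : Φ.inv ≫ X.fromSpecStalk x ≫ sX = Y.fromSpecStalk y ≫ sY := by
    rw [← hΦ, Iso.inv_hom_id_assoc]
  obtain ⟨V, hyV, f₀', hf₀', hf₀'S⟩ := spread_out_of_isGermInjective' sY sX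
    (Φ.inv ≫ X.fromSpecStalk x) (by rw [Category.assoc]; exact hΦ')
  obtain ⟨A, l, k, tA, hl, h1, h2, h3, h4⟩ :=
    exists_half_partialInverse Φ U hxU V hyV f₀ f₀' hf₀ hf₀'
  obtain ⟨B, l', k', tB, hl', h1', h2', h3', h4'⟩ :=
    exists_half_partialInverse Φ.symm V hyV U hxU f₀' f₀ hf₀' hf₀
  have hi : pullback.snd (l ≫ f₀) (l' ≫ V.ι) ≫ (l' ≫ f₀') =
      pullback.fst (l ≫ f₀) (l' ≫ V.ι) ≫ (l ≫ U.ι) := by
    have : pullback.fst (l ≫ f₀) (l' ≫ V.ι) ≫ k = pullback.snd (l ≫ f₀) (l' ≫ V.ι) ≫ l' := by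
      rw [← cancel_mono V.ι, Category.assoc, Category.assoc, ← h1]
      exact pullback.condition
    rw [h2, ← Category.assoc, ← Category.assoc, this]
  have hii : pullback.snd (l' ≫ f₀') (l ≫ U.ι) ≫ (l ≫ f₀) =
      pullback.fst (l' ≫ f₀') (l ≫ U.ι) ≫ (l' ≫ V.ι) := by
    have : pullback.fst (l' ≫ f₀') (l ≫ U.ι) ≫ k' = pullback.snd (l' ≫ f₀') (l ≫ U.ι) ≫ l := by
      rw [← cancel_mono U.ι, Category.assoc, Category.assoc, ← h1']
      exact pullback.condition
    rw [h2', ← Category.assoc, ← Category.assoc, this]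
  let E := isoOfPartialInverse (l ≫ U.ι) (l' ≫ V.ι) (l ≫ f₀) (l' ≫ f₀') hi hii
  let α := pullback.fst (l ≫ f₀) (l' ≫ V.ι) ≫ (l ≫ U.ι)
  let β := pullback.fst (l' ≫ f₀') (l ≫ U.ι) ≫ (l' ≫ V.ι)
  -- the source is nonempty
  let tQ : Spec (X.presheaf.stalk x) ⟶ pullback (l ≫ f₀) (l' ≫ V.ι) :=
    pullback.lift tA (Φ.hom ≫ tB) (by
      rw [← Category.assoc, h3, ← hf₀, Category.assoc, ← Category.assoc tB, h3',
        Scheme.Opens.fromSpecStalkOfMem_ι])
  let q : ↑(pullback (l ≫ f₀) (l' ≫ V.ι)) := tQ (IsLocalRing.closedPoint (X.presheaf.stalk x))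
  refine ⟨{ source := α.opensRange
            dense_source := α.opensRange.2.dense ⟨α q, ⟨q, rfl⟩⟩
            target := β.opensRange
            dense_target := β.opensRange.2.dense ⟨β (E.hom q), ⟨E.hom q, rfl⟩⟩
            iso := α.isoOpensRange.symm ≪≫ E ≪≫ β.isoOpensRange }, ?_⟩
  change (α.isoOpensRange.inv ≫ E.hom ≫ β.isoOpensRange.hom) ≫ β.opensRange.ι ≫ sY =
    α.opensRange.ι ≫ sX
  have hE : E.hom ≫ β = pullback.fst (l ≫ f₀) (l' ≫ V.ι) ≫ (l ≫ f₀) := by
    simp only [E, β, isoOfPartialInverse]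
    rw [← Category.assoc, pullback.lift_fst, pullback.condition]
  rw [Category.assoc, Category.assoc, Scheme.Hom.isoOpensRange_hom_ι_assoc, ← Category.assoc E.hom,
    hE, Category.assoc, Category.assoc, hf₀S, ← Scheme.Hom.isoOpensRange_inv_comp α]
  simp only [α, Category.assoc]

end Groth.Agent.Lib.Helper20
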