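import Mathlib

set_option autoImplicit false

/-!
# Birkhoff factorization over `k[T, T⁻¹]` via column reduction of polynomial matrices
-/

namespace Groth.Agent.Lib.Helper20.Birkhoff

universe u

open Polynomial Matrix

section colred

variable {k : Type u} [Field k] {n : ℕ}

/-- column degree of a polynomial matrix -/
noncomputable def colDeg (B : Matrix (Fin n) (Fin n) k[X]) (j : Fin n) : ℕ :=
  Finset.univ.sup fun i => (B i j).natDegree

theorem natDegree_le_colDeg (B : Matrix (Fin n) (Fin n) k[X]) (i j : Fin n) :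
    (B i j).natDegree ≤ colDeg B j :=
  Finset.le_sup (f := fun i => (B i j).natDegree) (Finset.mem_univ i)

theorem colDeg_le (B : Matrix (Fin n) (Fin n) k[X]) (j : Fin n) (m : ℕ)
    (h : ∀ i, (B i j).natDegree ≤ m) : colDeg B j ≤ m :=
  Finset.sup_le fun i _ => h i

/-- leading coefficient matrix -/
noncomputable def lcMat (B : Matrix (Fin n) (Fin n) k[X]) : Matrix (Fin n) (Fin n) k :=
  Matrix.of fun i j => (B i j).coeff (colDeg B j)

/-- the reduction vector -/
noncomputable def redVec (B : Matrix (Fin n) (Fin n) k[X]) (c : Fin n → k) (j₀ : Fin n) :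
    Fin n → k[X] :=
  fun j => C (c j) * X ^ (colDeg B j₀ - colDeg B j)

theorem natDegree_term_le (B : Matrix (Fin n) (Fin n) k[X]) (c : Fin n → k) (j₀ : Fin n)
    (hmax : ∀ j, c j ≠ 0 → colDeg B j ≤ colDeg B j₀) (i j : Fin n) :
    (B i j * redVec B c j₀ j).natDegree ≤ colDeg B j₀ := by
  unfold redVec
  by_cases hc : c j = 0
  · rw [hc, map_zero, zero_mul, mul_zero, natDegree_zero]
    exact Nat.zero_le _
  · have h1 := natDegree_le_colDeg B i j
    have h2 := hmax j hc
    calc (B i j * (C (c j) * X ^ (colDeg B j₀ - colDeg B j))).natDegree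
        ≤ (B i j).natDegree + (C (c j) * X ^ (colDeg B j₀ - colDeg B j)).natDegree :=
          natDegree_mul_le
      _ ≤ (B i j).natDegree + (colDeg B j₀ - colDeg B j) := by
          gcongr
          exact natDegree_C_mul_X_pow_le _ _
      _ ≤ colDeg B j₀ := by omega

theorem coeff_term (B : Matrix (Fin n) (Fin n) k[X]) (c : Fin n → k) (j₀ : Fin n)
    (hmax : ∀ j, c j ≠ 0 → colDeg B j ≤ colDeg B j₀) (i j : Fin n) :
    (B i j * redVec B c j₀ j).coeff (colDeg B j₀) = lcMat B i j * c j := by
  unfold redVec lcMat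
  by_cases hc : c j = 0
  · rw [hc, map_zero, zero_mul, mul_zero, coeff_zero, mul_zero]
  · have h2 := hmax j hc
    rw [← mul_assoc, Matrix.of_apply]
    have h3 : colDeg B j₀ = colDeg B j + (colDeg B j₀ - colDeg B j) := by omega
    obtain ⟨e, he⟩ : ∃ e, colDeg B j₀ = colDeg B j + e := ⟨_, h3⟩
    rw [he, Nat.add_sub_cancel_left, coeff_mul_X_pow, coeff_mul_C]

theorem degree_mulVec_lt (B : Matrix (Fin n) (Fin n) k[X]) (c : Fin n → k) (j₀ : Fin n)
    (hmax : ∀ j, c j ≠ 0 → colDeg B j ≤ colDeg B j₀) (hc : lcMat B *ᵥ c = 0) (i : Fin n) :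
    ((B *ᵥ redVec B c j₀) i).degree < (colDeg B j₀ : WithBot ℕ) := by
  rw [degree_lt_iff_coeff_zero]
  intro m hm
  rw [Matrix.mulVec, dotProduct, finsetSum_coeff]
  rcases Nat.lt_or_ge (colDeg B j₀) m with hlt | hge
  · apply Finset.sum_eq_zero
    intro j _
    exact coeff_eq_zero_of_natDegree_lt (lt_of_le_of_lt (natDegree_term_le B c j₀ hmax i j) hlt)
  · have hm' : m = colDeg B j₀ := le_antisymm hge hm
    subst hm'
    have h1 : ∑ j, lcMat B i j * c j = 0 := congrFun hc i
    rw [← h1]
    apply Finset.sum_congr rfl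
    intro j _
    exact coeff_term B c j₀ hmax i j

end colred

open Polynomial Matrix

section colred2

variable {k : Type u} [Field k] {n : ℕ}

theorem exists_colReduced : ∀ (N : ℕ) (B : Matrix (Fin n) (Fin n) k[X]), B.det ≠ 0 →
    ∑ j, colDeg B j = N →
      ∃ P : Matrix (Fin n) (Fin n) k[X], IsUnit P.det ∧ (lcMat (B * P)).det ≠ 0 := by
  classical
  intro N
  induction N using Nat.strong_induction_on with
  | _ N ih =>
    intro B hB hN
    by_cases hl : (lcMat B).det = 0
    swap
    · exact ⟨1, by simp, by rwa [mul_one]⟩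
    obtain ⟨c, hc0, hc⟩ := Matrix.exists_mulVec_eq_zero_iff.mpr hl
    have hne : (Finset.univ.filter fun j => c j ≠ 0).Nonempty := by
      by_contra hcon
      rw [Finset.not_nonempty_iff_eq_empty] at hcon
      apply hc0
      funext j
      by_contra hj
      have hmem : j ∈ Finset.univ.filter fun j => c j ≠ 0 :=
        Finset.mem_filter.mpr ⟨Finset.mem_univ _, hj⟩
      rw [hcon] at hmem
      exact absurd hmem (Finset.notMem_empty _)
    obtain ⟨j₀, hj₀, hmax'⟩ := Finset.exists_max_image _ (fun j => colDeg B j) hne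
    have hcj₀ : c j₀ ≠ 0 := (Finset.mem_filter.mp hj₀).2
    have hmax : ∀ j, c j ≠ 0 → colDeg B j ≤ colDeg B j₀ := fun j hj =>
      hmax' j (Finset.mem_filter.mpr ⟨Finset.mem_univ _, hj⟩)
    set v := redVec B c j₀ with hv
    set P₁ : Matrix (Fin n) (Fin n) k[X] :=
      (1 : Matrix (Fin n) (Fin n) k[X]).updateCol j₀ v with hP₁
    have hdetP₁ : P₁.det = C (c j₀) := by
      rw [hP₁, ← Matrix.cramer_apply, Matrix.cramer_one]
      show v j₀ = _
      rw [hv]
      unfold redVec
      rw [Nat.sub_self, pow_zero, mul_one]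
    have hBP : B * P₁ = B.updateCol j₀ (B *ᵥ v) := by
      rw [hP₁, Matrix.mul_updateCol, mul_one]
    have hdeg := degree_mulVec_lt B c j₀ hmax hc
    have hdetB' : (B * P₁).det ≠ 0 := by
      rw [Matrix.det_mul, hdetP₁]
      exact mul_ne_zero hB (fun h => hcj₀ (C_eq_zero.mp h))
    have he0 : 0 < colDeg B j₀ := by
      by_contra h0
      have h0' : colDeg B j₀ = 0 := by omega
      apply hdetB'
      apply Matrix.det_eq_zero_of_column_eq_zero j₀
      intro i
      rw [hBP, Matrix.updateCol_self]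
      have h1 := hdeg i
      rw [h0'] at h1
      by_contra hz
      have h2 := (natDegree_lt_iff_degree_lt hz).mpr h1
      omega
    have hcol_ne : ∀ j, j ≠ j₀ → colDeg (B * P₁) j = colDeg B j := by
      intro j hj
      unfold colDeg
      congr 1
      funext i
      rw [hBP, Matrix.updateCol_ne hj]
    have hcol_lt : colDeg (B * P₁) j₀ < colDeg B j₀ := by
      have h3 : colDeg (B * P₁) j₀ ≤ colDeg B j₀ - 1 := by
        apply colDeg_le
        intro i
        rw [hBP, Matrix.updateCol_self]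
        by_cases hz : (B *ᵥ v) i = 0
        · rw [hz, natDegree_zero]; exact Nat.zero_le _
        · have h4 := (natDegree_lt_iff_degree_lt hz).mpr (hdeg i)
          omega
      omega
    have hsum : ∑ j, colDeg (B * P₁) j < N := by
      rw [← hN]
      apply Finset.sum_lt_sum
      · intro j _
        by_cases hj : j = j₀
        · rw [hj]; exact hcol_lt.le
        · exact (hcol_ne j hj).le
      · exact ⟨j₀, Finset.mem_univ _, hcol_lt⟩
    obtain ⟨P₂, hP₂, hlc⟩ := ih _ hsum (B * P₁) hdetB' rfl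
    refine ⟨P₁ * P₂, ?_, ?_⟩
    · rw [Matrix.det_mul, hdetP₁]
      exact (isUnit_C.mpr (isUnit_iff_ne_zero.mpr hcj₀)).mul hP₂
    · rw [← Matrix.mul_assoc]; exact hlc

end colred2

open Polynomial Matrix LaurentPolynomial

section laurent

variable {k : Type u} [Field k] {n : ℕ}

theorem toLaurent_reflect (N : ℕ) (p : k[X]) (h : p.natDegree ≤ N) :
    toLaurent (reflect N p) = invert (toLaurent p) * T N := by
  have h1 : reflect N p = p.reverse * X ^ (N - p.natDegree) := by
    have h2 := reflect_mul p (1 : k[X]) (F := p.natDegree) (G := N - p.natDegree) le_rfl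
      (by rw [natDegree_one]; exact Nat.zero_le _)
    rw [mul_one, reflect_one, Nat.add_sub_cancel' h] at h2
    exact h2
  rw [h1, map_mul, toLaurent_reverse, toLaurent_X_pow, mul_assoc, ← T_add]
  congr 2
  push_cast [Nat.cast_sub h]
  ring

theorem invert_toLaurent_reflect (N : ℕ) (p : k[X]) (h : p.natDegree ≤ N) :
    invert (toLaurent (reflect N p)) * T N = toLaurent p := by
  rw [toLaurent_reflect N p h, map_mul, invert_T, mul_assoc, ← T_add]
  have h1 : invert (invert (toLaurent p)) = toLaurent p := involutive_invert _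
  rw [h1, neg_add_cancel, T_zero, mul_one]

theorem eq_C_mul_X_pow_of_isUnit_toLaurent (f : k[X]) (hf : IsUnit (toLaurent f)) :
    ∃ c : k, c ≠ 0 ∧ ∃ s : ℕ, f = Polynomial.C c * X ^ s := by
  obtain ⟨g, hg⟩ := hf.exists_right_inv
  obtain ⟨m, g', hg'⟩ := exists_T_pow g
  have h1 : toLaurent (f * g') = toLaurent (X ^ m) := by
    rw [map_mul, hg', ← mul_assoc, hg, one_mul, toLaurent_X_pow]
  have h2 : f * g' = X ^ m := toLaurent_injective h1
  have h3 : f ∣ X ^ m := ⟨g', h2.symm⟩
  obtain ⟨s, hs, hass⟩ := (dvd_prime_pow prime_X m).mp h3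
  obtain ⟨u, hu⟩ := hass.symm
  obtain ⟨c, hc, hcu⟩ := Polynomial.isUnit_iff.mp u.isUnit
  refine ⟨c, hc.ne_zero, s, ?_⟩
  rw [← hu, ← hcu, mul_comm]

end laurent

open Polynomial Matrix LaurentPolynomial

section refl

variable {k : Type u} [Field k] {n : ℕ}

/-- the reflected matrix -/
noncomputable def reflMat (B : Matrix (Fin n) (Fin n) k[X]) : Matrix (Fin n) (Fin n) k[X] :=
  Matrix.of fun i j => reflect (colDeg B j) (B i j)

theorem map_toLaurent_eq (B : Matrix (Fin n) (Fin n) k[X]) :
    B.map toLaurent = ((reflMat B).map toLaurent).map invert *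
      Matrix.diagonal (fun j => (T (colDeg B j : ℤ) : k[T;T⁻¹])) := by
  apply Matrix.ext
  intro i j
  rw [Matrix.mul_diagonal]
  simp only [Matrix.map_apply, reflMat, Matrix.of_apply]
  exact (invert_toLaurent_reflect _ _ (natDegree_le_colDeg B i j)).symm

theorem coeff_zero_det_reflMat (B : Matrix (Fin n) (Fin n) k[X]) :
    (reflMat B).det.coeff 0 = (lcMat B).det := by
  rw [coeff_zero_eq_eval_zero]
  have h1 := RingHom.map_det (evalRingHom (0 : k)) (reflMat B)
  have h1' : eval 0 (reflMat B).det = ((reflMat B).map (evalRingHom (0 : k))).det := h1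
  rw [h1']
  congr 1
  ext i j
  simp only [Matrix.map_apply, reflMat, lcMat, Matrix.of_apply, coe_evalRingHom]
  rw [← coeff_zero_eq_eval_zero, coeff_reflect, revAt_zero]

theorem isUnit_det_reflMat (B : Matrix (Fin n) (Fin n) k[X]) (hu : IsUnit (toLaurent B.det))
    (hl : (lcMat B).det ≠ 0) : IsUnit (reflMat B).det := by
  have h1 := congrArg Matrix.det (map_toLaurent_eq B)
  rw [Matrix.det_mul, Matrix.det_diagonal] at h1
  have h2 : (B.map toLaurent).det = toLaurent B.det := (RingHom.map_det (Polynomial.toLaurent (R := k)) B).symm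
  have h3 : (((reflMat B).map toLaurent).map invert).det =
      invert (toLaurent (reflMat B).det) := by
    have h3a : ((reflMat B).map toLaurent).det = toLaurent (reflMat B).det :=
      (RingHom.map_det (Polynomial.toLaurent (R := k)) (reflMat B)).symm
    have h3b := RingHom.map_det ((invert : k[T;T⁻¹] ≃ₐ[k] k[T;T⁻¹]) : k[T;T⁻¹] →+* k[T;T⁻¹])
      ((reflMat B).map toLaurent)
    rw [← h3a]
    exact h3b.symm
  have h4 : IsUnit (invert (toLaurent (reflMat B).det)) := by
    rw [h2, h3] at h1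
    rw [h1] at hu
    exact isUnit_of_mul_isUnit_left hu
  have h5 : IsUnit (toLaurent (reflMat B).det) := by
    have h5a := h4.map (invert : k[T;T⁻¹] ≃ₐ[k] k[T;T⁻¹])
    have h5b : invert (invert (toLaurent (reflMat B).det)) = toLaurent (reflMat B).det :=
      involutive_invert _
    rwa [h5b] at h5a
  obtain ⟨c, hc, s, hs⟩ := eq_C_mul_X_pow_of_isUnit_toLaurent _ h5
  have h6 := coeff_zero_det_reflMat B
  rw [hs] at h6
  rcases Nat.eq_zero_or_pos s with h0 | hpos
  · rw [hs, h0, pow_zero, mul_one]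
    exact isUnit_C.mpr (isUnit_iff_ne_zero.mpr hc)
  · exfalso
    apply hl
    rw [← h6, coeff_C_mul, coeff_X_pow, if_neg (by omega), mul_zero]

end refl

open Polynomial Matrix LaurentPolynomial

section assembly

variable {k : Type u} [Field k] {n : ℕ}

theorem exists_polyMat (A' : Matrix (Fin n) (Fin n) k[T;T⁻¹]) :
    ∃ (N : ℕ) (B : Matrix (Fin n) (Fin n) k[X]),
      B.map toLaurent = (T (N : ℤ) : k[T;T⁻¹]) • A' := by
  choose m f hf using fun ij : Fin n × Fin n => exists_T_pow (A' ij.1 ij.2)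
  refine ⟨Finset.univ.sup m, Matrix.of fun i j => f (i, j) * X ^ (Finset.univ.sup m - m (i, j)), ?_⟩
  apply Matrix.ext
  intro i j
  simp only [Matrix.map_apply, Matrix.of_apply, Matrix.smul_apply, smul_eq_mul]
  have hle : m (i, j) ≤ Finset.univ.sup m := Finset.le_sup (Finset.mem_univ _)
  rw [map_mul, hf, toLaurent_X_pow, mul_assoc, ← T_add, mul_comm]
  congr 2
  push_cast [Nat.cast_sub hle]
  ring

theorem exists_factorization (A : Matrix (Fin n) (Fin n) k[T;T⁻¹]) (hA : IsUnit A) :
    ∃ (P Q : Matrix (Fin n) (Fin n) k[X]) (d : Fin n → ℤ), IsUnit P.det ∧ IsUnit Q.det ∧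
      A = P.map toLaurent * Matrix.diagonal (fun i => (T (d i) : k[T;T⁻¹])) *
        (Q.map toLaurent).map invert := by
  have hAdet : IsUnit A.det := (Matrix.isUnit_iff_isUnit_det A).mp hA
  have hAA' : A * A⁻¹ = 1 := Matrix.mul_nonsing_inv A hAdet
  obtain ⟨N, B, hB⟩ := exists_polyMat A⁻¹
  have hBu : IsUnit (toLaurent B.det) := by
    have h1 : toLaurent B.det = (B.map toLaurent).det :=
      RingHom.map_det (Polynomial.toLaurent (R := k)) B
    rw [h1, hB, Matrix.det_smul]
    exact IsUnit.mul ((isUnit_T _).pow _) (Matrix.isUnit_nonsing_inv_det A hAdet)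
  have hB0 : B.det ≠ 0 := by
    intro h
    rw [h, map_zero] at hBu
    exact not_isUnit_zero hBu
  obtain ⟨P, hP, hlc⟩ := exists_colReduced _ B hB0 rfl
  have hB₂u : IsUnit (toLaurent (B * P).det) := by
    rw [Matrix.det_mul, map_mul]
    exact hBu.mul (hP.map _)
  have hQ := isUnit_det_reflMat (B * P) hB₂u hlc
  have hfac := map_toLaurent_eq (B * P)
  refine ⟨P, (reflMat (B * P))⁻¹, fun j => (N : ℤ) - colDeg (B * P) j, hP,
    Matrix.isUnit_nonsing_inv_det _ hQ, ?_⟩
  have hQL : ((reflMat (B * P)).map toLaurent).map invert *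
      (((reflMat (B * P))⁻¹).map toLaurent).map invert = 1 := by
    rw [← Matrix.map_mul, ← Matrix.map_mul, Matrix.mul_nonsing_inv _ hQ]
    rw [Matrix.map_one _ (map_zero _) (map_one _), Matrix.map_one _ (map_zero _) (map_one _)]
  have hDD : Matrix.diagonal (fun j => (T (colDeg (B * P) j : ℤ) : k[T;T⁻¹])) *
      Matrix.diagonal (fun j => (T ((N : ℤ) - colDeg (B * P) j) : k[T;T⁻¹])) =
        (T (N : ℤ) : k[T;T⁻¹]) • (1 : Matrix (Fin n) (Fin n) k[T;T⁻¹]) := by
    rw [Matrix.diagonal_mul_diagonal, Matrix.smul_one_eq_diagonal]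
    congr 1
    funext j
    rw [← T_add, add_sub_cancel]
  have hAP : A⁻¹ * P.map toLaurent = (T (-(N : ℤ)) : k[T;T⁻¹]) • (B * P).map toLaurent := by
    rw [Matrix.map_mul, hB, Matrix.smul_mul, smul_smul, ← T_add, neg_add_cancel, T_zero,
      one_smul]
  have key : A⁻¹ * (P.map toLaurent *
      Matrix.diagonal (fun j => (T ((N : ℤ) - colDeg (B * P) j) : k[T;T⁻¹])) *
        (((reflMat (B * P))⁻¹).map toLaurent).map invert) = 1 := by
    rw [← Matrix.mul_assoc, ← Matrix.mul_assoc, hAP, hfac, Matrix.smul_mul, Matrix.smul_mul,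
      Matrix.mul_assoc (((reflMat (B * P)).map toLaurent).map invert), hDD, Matrix.mul_smul,
      Matrix.smul_mul, mul_one, smul_smul, ← T_add, neg_add_cancel, T_zero, one_smul, hQL]
  calc A = A * (A⁻¹ * (P.map toLaurent *
      Matrix.diagonal (fun j => (T ((N : ℤ) - colDeg (B * P) j) : k[T;T⁻¹])) *
        (((reflMat (B * P))⁻¹).map toLaurent).map invert)) := by rw [key, mul_one]
    _ = _ := by rw [← Matrix.mul_assoc A, hAA', one_mul]

end assembly

open Polynomial Matrix LaurentPolynomial

section final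

variable {k : Type u} [Field k] {n : ℕ}

theorem exists_factorization_antitone (A : Matrix (Fin n) (Fin n) k[T;T⁻¹]) (hA : IsUnit A) :
    ∃ (P Q : Matrix (Fin n) (Fin n) k[X]) (d : Fin n → ℤ), IsUnit P ∧ IsUnit Q ∧ Antitone d ∧
      A = P.map toLaurent * Matrix.diagonal (fun i => (T (d i) : k[T;T⁻¹])) *
        (Q.map toLaurent).map invert := by
  obtain ⟨P, Q, d, hP, hQ, hfac⟩ := exists_factorization A hA
  have hmono : Monotone ((fun j => - d j) ∘ Tuple.sort (fun j => - d j)) := Tuple.monotone_sort _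
  have hsign : IsUnit (((Equiv.Perm.sign (Tuple.sort (fun j => - d j)) : ℤˣ) : ℤ) : k[X]) :=
    (Units.isUnit _).map (Int.castRingHom k[X])
  refine ⟨P.submatrix id (Tuple.sort (fun j => - d j)),
    Q.submatrix (Tuple.sort (fun j => - d j)) id, d ∘ Tuple.sort (fun j => - d j), ?_, ?_, ?_, ?_⟩
  · rw [Matrix.isUnit_iff_isUnit_det, Matrix.det_permute']
    exact hsign.mul hP
  · rw [Matrix.isUnit_iff_isUnit_det, Matrix.det_permute]
    exact hsign.mul hQ
  · intro a b hab
    have h1 := hmono hab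
    simp only [Function.comp_apply, neg_le_neg_iff] at h1
    exact h1
  · rw [hfac]
    have h1 : (P.submatrix id (Tuple.sort (fun j => - d j))).map toLaurent =
        (P.map toLaurent).submatrix id (Tuple.sort (fun j => - d j)) := rfl
    have h2 : Matrix.diagonal (fun i => (T ((d ∘ Tuple.sort (fun j => - d j)) i) : k[T;T⁻¹])) =
        (Matrix.diagonal (fun i => (T (d i) : k[T;T⁻¹]))).submatrix
          (Tuple.sort (fun j => - d j)) (Tuple.sort (fun j => - d j)) :=
      (Matrix.submatrix_diagonal_equiv (fun i => (T (d i) : k[T;T⁻¹]))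
        (Tuple.sort (fun j => - d j))).symm
    have h3 : ((Q.submatrix (Tuple.sort (fun j => - d j)) id).map toLaurent).map invert =
        ((Q.map toLaurent).map invert).submatrix (Tuple.sort (fun j => - d j)) id := rfl
    rw [h1, h2, h3, Matrix.submatrix_mul_equiv, Matrix.submatrix_mul_equiv, Matrix.submatrix_id_id]

end final

end Groth.Agent.Lib.Helper20.Birkhoff
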