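import Mathlib
import Groth.Prelude.Def_W4c1btstackcountsChain

/-!
# Chains of matrices: orbits and rank arrays (type `A_r` quivers, linear orientation)
-/

set_option autoImplicit false
universe u

namespace Groth.Agent.Lib.Helper20.ChainRank

open W4c1btstackcounts Module

section Basic

variable {k : Type u} [Field k] {d : ℕ → ℕ}

/-- Transport along an equality of indices. -/
def castL {a b : ℕ} (h : a = b) : (Fin (d a) → k) ≃ₗ[k] (Fin (d b) → k) := by
  subst h; exact LinearEquiv.refl k _

@[simp] theorem castL_rfl {a : ℕ} : (castL (k := k) (d := d) (rfl : a = a)) = LinearEquiv.refl k _ :=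
  rfl

/-- The linear map of the `j`-th matrix. -/
abbrev F (f : (i : ℕ) → Matrix (Fin (d (i + 1))) (Fin (d i)) k) (j : ℕ) :
    (Fin (d j) → k) →ₗ[k] (Fin (d (j + 1)) → k) := Matrix.toLin' (f j)

/-- The image of `k^{d i}` in `k^{d j}`. -/
noncomputable def Im (f : (i : ℕ) → Matrix (Fin (d (i + 1))) (Fin (d i)) k) (i j : ℕ) :
    Submodule k (Fin (d j) → k) :=
  if h : i ≤ j then (iterImage f i (j - i)).map (castL (Nat.add_sub_cancel' h)).toLinearMap else ⊥

theorem Im_aux (f : (i : ℕ) → Matrix (Fin (d (i + 1))) (Fin (d i)) k) (i j : ℕ) (m m' : ℕ)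
    (e : m = m') (h1 : i + m = j) (h2 : i + m' = j) :
    (iterImage f i m).map (castL h1).toLinearMap = (iterImage f i m').map (castL h2).toLinearMap := by
  subst e; rfl

theorem Im_eq (f : (i : ℕ) → Matrix (Fin (d (i + 1))) (Fin (d i)) k) (i n : ℕ) :
    Im f i (i + n) = iterImage f i n := by
  rw [Im, dif_pos (Nat.le_add_right i n)]
  rw [Im_aux f i (i + n) (i + n - i) n (Nat.add_sub_cancel_left i n) _ rfl]
  simp

theorem Im_self (f : (i : ℕ) → Matrix (Fin (d (i + 1))) (Fin (d i)) k) (j : ℕ) : Im f j j = ⊤ := by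
  have := Im_eq f j 0
  simpa [iterImage] using this

theorem Im_succ (f : (i : ℕ) → Matrix (Fin (d (i + 1))) (Fin (d i)) k) {i j : ℕ} (h : i ≤ j) :
    Im f i (j + 1) = (Im f i j).map (F f j) := by
  obtain ⟨n, rfl⟩ := Nat.exists_eq_add_of_le h
  have h1 : Im f i (i + n + 1) = iterImage f i (n + 1) := Im_eq f i (n + 1)
  rw [h1, Im_eq]
  rfl

theorem rankArray_eq (f : (i : ℕ) → Matrix (Fin (d (i + 1))) (Fin (d i)) k) {i j : ℕ} (h : i ≤ j) :
    rankArray f i j = finrank k (Im f i j) := by
  rw [rankArray, if_pos h, Im, dif_pos h]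
  exact (LinearEquiv.finrank_map_eq _ _).symm

theorem Im_mono (f : (i : ℕ) → Matrix (Fin (d (i + 1))) (Fin (d i)) k) {i i' j : ℕ} (h : i ≤ i')
    (h' : i' ≤ j) : Im f i j ≤ Im f i' j := by
  induction j, h' using Nat.le_induction with
  | base => rw [Im_self]; exact le_top
  | succ j hj ih =>
    rw [Im_succ f (h.trans hj), Im_succ f hj]
    exact Submodule.map_mono ih

end Basic

section Invariance

variable {k : Type u} [Field k] {d : ℕ → ℕ}

/-- The linear automorphism of an invertible matrix. -/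
noncomputable def G (g : (j : ℕ) → Matrix.GeneralLinearGroup (Fin (d j)) k) (j : ℕ) :
    (Fin (d j) → k) ≃ₗ[k] (Fin (d j) → k) :=
  LinearEquiv.ofLinearMap (Matrix.toLin' (g j : Matrix _ _ k))
    (Matrix.toLin' (((g j)⁻¹ : Matrix.GeneralLinearGroup (Fin (d j)) k) : Matrix _ _ k))
    (by rw [← Matrix.toLin'_mul, ← Matrix.GeneralLinearGroup.coe_mul, mul_inv_cancel]; simp)
    (by rw [← Matrix.toLin'_mul, ← Matrix.GeneralLinearGroup.coe_mul, inv_mul_cancel]; simp)

theorem G_apply (g : (j : ℕ) → Matrix.GeneralLinearGroup (Fin (d j)) k) (j : ℕ)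
    (x : Fin (d j) → k) : G g j x = Matrix.toLin' (g j : Matrix _ _ k) x := rfl

theorem F_conj (g : (j : ℕ) → Matrix.GeneralLinearGroup (Fin (d j)) k)
    (f : (i : ℕ) → Matrix (Fin (d (i + 1))) (Fin (d i)) k) (j : ℕ) (x : Fin (d j) → k) :
    F (conj g f) j (G g j x) = G g (j + 1) (F f j x) := by
  simp only [F, conj, G_apply, Matrix.toLin'_apply]
  rw [Matrix.mulVec_mulVec, Matrix.mul_assoc, ← Matrix.GeneralLinearGroup.coe_mul,
    inv_mul_cancel]
  simp [Matrix.mulVec_mulVec]

theorem Im_conj (g : (j : ℕ) → Matrix.GeneralLinearGroup (Fin (d j)) k)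
    (f : (i : ℕ) → Matrix (Fin (d (i + 1))) (Fin (d i)) k) {i j : ℕ} (h : i ≤ j) :
    Im (conj g f) i j = (Im f i j).map (G g j).toLinearMap := by
  induction j, h using Nat.le_induction with
  | base =>
    rw [Im_self, Im_self, Submodule.map_top, LinearMap.range_eq_top.mpr (G g i).surjective]
  | succ j hj ih =>
    rw [Im_succ _ hj, Im_succ _ hj, ih, ← Submodule.map_comp, ← Submodule.map_comp]
    congr 1
    refine LinearMap.ext fun x => ?_
    exact F_conj g f j x

theorem rankArray_conj (g : (j : ℕ) → Matrix.GeneralLinearGroup (Fin (d j)) k)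
    (f : (i : ℕ) → Matrix (Fin (d (i + 1))) (Fin (d i)) k) {i j : ℕ} (h : i ≤ j) :
    rankArray (conj g f) i j = rankArray f i j := by
  rw [rankArray_eq _ h, rankArray_eq _ h, Im_conj g f h]
  exact LinearEquiv.finrank_map_eq _ _

end Invariance

section Admissible

variable {k : Type u} [Field k] {V V' : Type u} [AddCommGroup V] [Module k V]
  [AddCommGroup V'] [Module k V'] [FiniteDimensional k V]

/-- Rank–nullity for the restriction of a linear map to a subspace. -/
theorem finrank_map_add (φ : V →ₗ[k] V') (U : Submodule k V) :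
    finrank k (U.map φ) + finrank k (U ⊓ LinearMap.ker φ : Submodule k V) = finrank k U := by
  have h := LinearMap.finrank_range_add_finrank_ker (φ.domRestrict U)
  have h1 : LinearMap.range (φ.domRestrict U) = U.map φ := by
    rw [LinearMap.domRestrict, LinearMap.range_comp, Submodule.range_subtype]
  have h2 : finrank k (LinearMap.ker (φ.domRestrict U)) = finrank k (U ⊓ LinearMap.ker φ : Submodule k V) := by
    have h3 : LinearMap.ker (φ.domRestrict U) = (LinearMap.ker φ).comap U.subtype := by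
      rw [LinearMap.domRestrict, LinearMap.ker_comp]
    rw [h3, ← Submodule.finrank_map_subtype_eq, Submodule.map_comap_subtype]
  rw [h1, h2] at h
  exact h

omit [FiniteDimensional k V] in
theorem map_inf_comap (φ : V →ₗ[k] V') (U : Submodule k V) (L : Submodule k V') :
    (U ⊓ L.comap φ).map φ = U.map φ ⊓ L := by
  ext y
  constructor
  · rintro ⟨x, ⟨hx1, hx2⟩, rfl⟩
    exact ⟨⟨x, hx1, rfl⟩, hx2⟩
  · rintro ⟨⟨x, hx, rfl⟩, hy⟩
    exact ⟨x, ⟨hx, hy⟩, rfl⟩

/-- The dimension of `U ∩ φ⁻¹ L`. -/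
theorem finrank_inf_comap (φ : V →ₗ[k] V') (U : Submodule k V) (L : Submodule k V') :
    finrank k (U ⊓ L.comap φ : Submodule k V) + finrank k (U.map φ) =
      finrank k (U.map φ ⊓ L : Submodule k V') + finrank k U := by
  have h1 := finrank_map_add φ (U ⊓ L.comap φ)
  have h2 := finrank_map_add φ U
  rw [map_inf_comap] at h1
  have h3 : (U ⊓ L.comap φ) ⊓ LinearMap.ker φ = U ⊓ LinearMap.ker φ := by
    rw [inf_assoc]
    congr 1
    exact inf_eq_right.mpr (fun x hx => by
      rw [Submodule.mem_comap, LinearMap.mem_ker.mp hx]; exact zero_mem _)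
  rw [h3] at h1
  omega

end Admissible

section Admissible2

variable {k : Type u} [Field k] {d : ℕ → ℕ}

theorem isRankArray_rankArray (f : (i : ℕ) → Matrix (Fin (d (i + 1))) (Fin (d i)) k) (r : ℕ) :
    IsRankArray d r (rankArray f) := by
  refine ⟨?_, ?_, ?_, ?_⟩
  · intro j _ _
    rw [rankArray_eq f le_rfl, Im_self, finrank_top, Module.finrank_fin_fun]
  · intro i j _ hij _
    rw [rankArray_eq f hij.le, rankArray_eq f (Nat.succ_le_of_lt hij)]
    exact Submodule.finrank_mono (Im_mono f (Nat.le_succ i) (Nat.succ_le_of_lt hij))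
  · intro i j _ hij _
    rw [rankArray_eq f (hij.trans (Nat.le_succ j)), rankArray_eq f hij, Im_succ f hij]
    exact Submodule.finrank_map_le _ _
  · intro i j hi hij _
    have hij' : i - 1 ≤ j := (Nat.sub_le i 1).trans hij
    rw [rankArray_eq f (hij.trans (Nat.le_succ j)), rankArray_eq f hij',
      rankArray_eq f hij, rankArray_eq f (hij'.trans (Nat.le_succ j)),
      Im_succ f hij, Im_succ f hij']
    have h1 : finrank k ((Im f i j).map (F f j)) +
        finrank k (Im f i j ⊓ LinearMap.ker (F f j) : Submodule k _) = finrank k (Im f i j) :=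
      finrank_map_add (F f j) (Im f i j)
    have h2 : finrank k ((Im f (i - 1) j).map (F f j)) +
        finrank k (Im f (i - 1) j ⊓ LinearMap.ker (F f j) : Submodule k _) =
        finrank k (Im f (i - 1) j) :=
      finrank_map_add (F f j) (Im f (i - 1) j)
    have h3 : finrank k (Im f (i - 1) j ⊓ LinearMap.ker (F f j) : Submodule k _) ≤
        finrank k (Im f i j ⊓ LinearMap.ker (F f j) : Submodule k _) :=
      Submodule.finrank_mono (inf_le_inf_right _ (Im_mono f (Nat.sub_le i 1) hij))
    linarith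

end Admissible2

section Extension

variable {k : Type u} [Field k] {W V : Type u} [AddCommGroup W] [Module k W]
  [AddCommGroup V] [Module k V] [FiniteDimensional k V]

omit [FiniteDimensional k V] in
/-- A complement of `K₀` inside `K`. -/
theorem exists_compl_in {K₀ K : Submodule k V} (h : K₀ ≤ K) :
    ∃ D : Submodule k V, D ≤ K ∧ D ⊓ K₀ = ⊥ ∧ D ⊔ K₀ = K := by
  obtain ⟨D₀, hD₀⟩ := Submodule.exists_isCompl K₀
  refine ⟨D₀ ⊓ K, inf_le_right, ?_, ?_⟩
  · rw [inf_right_comm, inf_comm D₀ K₀, hD₀.inf_eq_bot, bot_inf_eq]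
  · rw [sup_comm, ← sup_inf_assoc_of_le D₀ h, hD₀.sup_eq_top, top_inf_eq]

/-- One extension step. -/
theorem exists_extension_step (ι ι' : W →ₗ[k] V) (hι : Function.Injective ι)
    (hι' : Function.Injective ι') (K K' : Submodule k V) (hdim : finrank k K = finrank k K')
    (hcomap : K.comap ι = K'.comap ι') :
    ∃ (m : ℕ) (e e' : (Fin m → k) →ₗ[k] V), (∀ x, e x ∈ K) ∧ (∀ x, e' x ∈ K') ∧
      Function.Injective (ι.coprod e) ∧ Function.Injective (ι'.coprod e') ∧
      K ≤ LinearMap.range (ι.coprod e) ∧ K' ≤ LinearMap.range (ι'.coprod e') := by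
  -- the key construction for one side
  have key : ∀ (j : W →ₗ[k] V) (hj : Function.Injective j) (L : Submodule k V),
      ∃ D : Submodule k V, D ≤ L ∧ D ⊓ LinearMap.range j = ⊥ ∧ D ⊔ (L ⊓ LinearMap.range j) = L ∧
        finrank k D + finrank k (L.comap j) = finrank k L := by
    intro j hj L
    obtain ⟨D, hDL, hD0, hDsup⟩ := exists_compl_in (inf_le_left : L ⊓ LinearMap.range j ≤ L)
    refine ⟨D, hDL, ?_, hDsup, ?_⟩
    · have : D ⊓ LinearMap.range j = D ⊓ (L ⊓ LinearMap.range j) := by
        rw [← inf_assoc, inf_eq_left.mpr hDL]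
      rw [this, hD0]
    · have h1 := Submodule.finrank_sup_add_finrank_inf_eq D (L ⊓ LinearMap.range j)
      rw [hDsup, hD0, finrank_bot, add_zero] at h1
      have h2 : finrank k (L ⊓ LinearMap.range j : Submodule k V) = finrank k (L.comap j) := by
        have h3 : (L.comap j).map j = L ⊓ LinearMap.range j := by
          rw [Submodule.map_comap_eq, inf_comm]
        rw [← h3]
        exact (Submodule.equivMapOfInjective j hj (L.comap j)).finrank_eq.symm
      rw [h1, h2]
  obtain ⟨D, hDK, hD0, hDsup, hDdim⟩ := key ι hι K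
  obtain ⟨D', hDK', hD0', hDsup', hDdim'⟩ := key ι' hι' K'
  have hmm : finrank k D = finrank k D' := by
    rw [hcomap] at hDdim
    omega
  set m := finrank k D with hm
  have e₀ : (Fin m → k) ≃ₗ[k] D := LinearEquiv.ofFinrankEq _ _ (by rw [Module.finrank_fin_fun])
  have e₀' : (Fin m → k) ≃ₗ[k] D' := LinearEquiv.ofFinrankEq _ _ (by rw [Module.finrank_fin_fun, hmm])
  -- general facts about `coprod`
  have inj : ∀ (j : W →ₗ[k] V) (hj : Function.Injective j) (E : Submodule k V)
      (hE : E ⊓ LinearMap.range j = ⊥) (ε : (Fin m → k) ≃ₗ[k] E),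
      Function.Injective (j.coprod (E.subtype ∘ₗ ε.toLinearMap)) := by
    intro j hj E hE ε
    rw [← LinearMap.ker_eq_bot, LinearMap.ker_eq_bot']
    rintro ⟨w, x⟩ hwx
    rw [LinearMap.coprod_apply] at hwx
    have h1 : ((ε x : E) : V) ∈ E ⊓ LinearMap.range j := by
      refine ⟨(ε x).2, ?_⟩
      have h2 : ((ε x : E) : V) = j (-w) := by
        rw [map_neg]
        exact eq_neg_of_add_eq_zero_right hwx
      rw [h2]
      exact LinearMap.mem_range_self j _
    rw [hE, Submodule.mem_bot] at h1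
    have hx : x = 0 := by
      have : ε x = 0 := Subtype.ext h1
      exact ε.map_eq_zero_iff.mp this
    have hw : w = 0 := by
      have h3 : (E.subtype ∘ₗ ε.toLinearMap) x = 0 := h1
      rw [h3, add_zero] at hwx
      exact hj (by rw [hwx, map_zero])
    rw [hx, hw]
    rfl
  have rng : ∀ (j : W →ₗ[k] V) (L E : Submodule k V) (hE : E ⊔ (L ⊓ LinearMap.range j) = L)
      (ε : (Fin m → k) ≃ₗ[k] E), L ≤ LinearMap.range (j.coprod (E.subtype ∘ₗ ε.toLinearMap)) := by
    intro j L E hE ε
    rw [LinearMap.range_coprod, LinearMap.range_comp, LinearEquiv.range, Submodule.map_top,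
      Submodule.range_subtype]
    conv_lhs => rw [← hE]
    exact sup_le le_sup_right (inf_le_right.trans le_sup_left)
  refine ⟨m, D.subtype ∘ₗ e₀.toLinearMap, D'.subtype ∘ₗ e₀'.toLinearMap, ?_, ?_,
    inj ι hι D hD0 e₀, inj ι' hι' D' hD0' e₀', rng ι K D hDsup e₀, rng ι' K' D' hDsup' e₀'⟩
  · intro x; exact hDK (e₀ x).2
  · intro x; exact hDK' (e₀' x).2

end Extension

section Extension2

variable {k : Type u} [Field k] {W V : Type u} [AddCommGroup W] [Module k W]
  [AddCommGroup V] [Module k V] [FiniteDimensional k V]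

omit [FiniteDimensional k V] in
/-- The preimage of a subspace of `range ι` under an injective `ι.coprod e`. -/
theorem mem_comap_coprod_iff {m : ℕ} (ι : W →ₗ[k] V) (e : (Fin m → k) →ₗ[k] V)
    (hinj : Function.Injective (ι.coprod e)) {P : Submodule k V} (hP : P ≤ LinearMap.range ι)
    (w : W) (x : Fin m → k) : (w, x) ∈ P.comap (ι.coprod e) ↔ x = 0 ∧ w ∈ P.comap ι := by
  constructor
  · intro h
    obtain ⟨w', hw'⟩ := hP h
    have h1 : (ι.coprod e) (w, x) = (ι.coprod e) (w', 0) := by
      rw [LinearMap.coprod_apply, LinearMap.coprod_apply, map_zero, add_zero, hw']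
      rfl
    have h2 := hinj h1
    rw [Prod.mk.injEq] at h2
    refine ⟨h2.2, ?_⟩
    rw [h2.1, Submodule.mem_comap, hw']
    exact h
  · rintro ⟨rfl, hw⟩
    rw [Submodule.mem_comap, LinearMap.coprod_apply, map_zero, add_zero]
    exact hw

/-- Iterated extension along two flags. -/
theorem exists_extension (ι ι' : W →ₗ[k] V) (hι : Function.Injective ι)
    (hι' : Function.Injective ι') (K K' : ℕ → Submodule k V) (hK : Monotone K)
    (hK' : Monotone K') (s : ℕ) (hdim : ∀ t < s, finrank k (K t) = finrank k (K' t))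
    (hcomap : ∀ t < s, (K t).comap ι = (K' t).comap ι') :
    ∃ (W₂ : Type u) (_ : AddCommGroup W₂) (_ : Module k W₂) (ι₂ ι₂' : W₂ →ₗ[k] V)
      (j : W →ₗ[k] W₂), Function.Injective ι₂ ∧ Function.Injective ι₂' ∧
      (∀ w, ι₂ (j w) = ι w) ∧ (∀ w, ι₂' (j w) = ι' w) ∧
      (∀ t < s, K t ≤ LinearMap.range ι₂ ∧ K' t ≤ LinearMap.range ι₂' ∧
        (K t).comap ι₂ = (K' t).comap ι₂') ∧
      (∀ L L' : Submodule k V, (∀ t < s, K t ≤ L) → (∀ t < s, K' t ≤ L') →
        L.comap ι = L'.comap ι' → L.comap ι₂ = L'.comap ι₂') := by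
  induction s with
  | zero =>
    exact ⟨W, inferInstance, inferInstance, ι, ι', LinearMap.id, hι, hι', fun _ => rfl,
      fun _ => rfl, fun t ht => absurd ht (Nat.not_lt_zero t), fun L L' _ _ h => h⟩
  | succ s ih =>
    obtain ⟨W₂, _, _, ι₂, ι₂', j, hinj, hinj', hj, hj', hrec, hprop⟩ :=
      ih (fun t ht => hdim t (Nat.lt_succ_of_lt ht)) (fun t ht => hcomap t (Nat.lt_succ_of_lt ht))
    have hcs : (K s).comap ι₂ = (K' s).comap ι₂' :=
      hprop (K s) (K' s) (fun t ht => hK ht.le) (fun t ht => hK' ht.le) (hcomap s (Nat.lt_succ_self s))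
    obtain ⟨m, e, e', he, he', hcinj, hcinj', hrng, hrng'⟩ :=
      exists_extension_step ι₂ ι₂' hinj hinj' (K s) (K' s) (hdim s (Nat.lt_succ_self s)) hcs
    have hle : LinearMap.range ι₂ ≤ LinearMap.range (ι₂.coprod e) := by
      rw [LinearMap.range_coprod]; exact le_sup_left
    have hle' : LinearMap.range ι₂' ≤ LinearMap.range (ι₂'.coprod e') := by
      rw [LinearMap.range_coprod]; exact le_sup_left
    refine ⟨W₂ × (Fin m → k), inferInstance, inferInstance, ι₂.coprod e, ι₂'.coprod e',
      (LinearMap.inl k W₂ (Fin m → k)) ∘ₗ j, hcinj, hcinj', ?_, ?_, ?_, ?_⟩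
    · intro w
      rw [LinearMap.comp_apply, LinearMap.inl_apply, LinearMap.coprod_apply, map_zero, add_zero, hj]
    · intro w
      rw [LinearMap.comp_apply, LinearMap.inl_apply, LinearMap.coprod_apply, map_zero, add_zero, hj']
    · intro t ht
      rcases Nat.lt_succ_iff_lt_or_eq.mp ht with ht' | rfl
      · obtain ⟨h1, h2, h3⟩ := hrec t ht'
        refine ⟨h1.trans hle, h2.trans hle', ?_⟩
        ext ⟨w, x⟩
        rw [mem_comap_coprod_iff ι₂ e hcinj h1, mem_comap_coprod_iff ι₂' e' hcinj' h2, h3]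
      · refine ⟨hrng, hrng', ?_⟩
        ext ⟨w, x⟩
        rw [Submodule.mem_comap, Submodule.mem_comap, LinearMap.coprod_apply,
          LinearMap.coprod_apply, Submodule.add_mem_iff_left _ (he x),
          Submodule.add_mem_iff_left _ (he' x), ← Submodule.mem_comap, ← Submodule.mem_comap, hcs]
    · intro L L' hL hL' hLL
      have h1 : L.comap ι₂ = L'.comap ι₂' :=
        hprop L L' (fun t ht => hL t (Nat.lt_succ_of_lt ht)) (fun t ht => hL' t (Nat.lt_succ_of_lt ht)) hLL
      ext ⟨w, x⟩
      rw [Submodule.mem_comap, Submodule.mem_comap, LinearMap.coprod_apply,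
        LinearMap.coprod_apply, Submodule.add_mem_iff_left _ (hL s (Nat.lt_succ_self s) (he x)),
        Submodule.add_mem_iff_left _ (hL' s (Nat.lt_succ_self s) (he' x)),
        ← Submodule.mem_comap, ← Submodule.mem_comap, h1]

end Extension2

section Extension3

variable {k : Type u} [Field k] {W V : Type u} [AddCommGroup W] [Module k W]
  [AddCommGroup V] [Module k V] [FiniteDimensional k V]

/-- Extending a partial isomorphism to an automorphism matching two flags. -/
theorem exists_equiv_of_flags (ι ι' : W →ₗ[k] V) (hι : Function.Injective ι)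
    (hι' : Function.Injective ι') (K K' : ℕ → Submodule k V) (hK : Monotone K)
    (hK' : Monotone K') (s : ℕ) (hdim : ∀ t < s, finrank k (K t) = finrank k (K' t))
    (hcomap : ∀ t < s, (K t).comap ι = (K' t).comap ι') :
    ∃ g : V ≃ₗ[k] V, (∀ w, g (ι w) = ι' w) ∧ ∀ t < s, (K t).map g.toLinearMap = K' t := by
  classical
  -- extend the flags by `⊤`
  let Kh : ℕ → Submodule k V := fun t => if t < s then K t else ⊤
  let Kh' : ℕ → Submodule k V := fun t => if t < s then K' t else ⊤
  have hKh : Monotone Kh := by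
    intro t t' htt'
    simp only [Kh]
    by_cases h' : t' < s
    · rw [if_pos h', if_pos (lt_of_le_of_lt htt' h')]; exact hK htt'
    · rw [if_neg h']; exact le_top
  have hKh' : Monotone Kh' := by
    intro t t' htt'
    simp only [Kh']
    by_cases h' : t' < s
    · rw [if_pos h', if_pos (lt_of_le_of_lt htt' h')]; exact hK' htt'
    · rw [if_neg h']; exact le_top
  have hdimh : ∀ t < s + 1, finrank k (Kh t) = finrank k (Kh' t) := by
    intro t _
    by_cases h' : t < s
    · have e1 : Kh t = K t := if_pos h'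
      have e2 : Kh' t = K' t := if_pos h'
      rw [e1, e2]; exact hdim t h'
    · have e1 : Kh t = ⊤ := if_neg h'
      have e2 : Kh' t = ⊤ := if_neg h'
      rw [e1, e2]
  have hcomaph : ∀ t < s + 1, (Kh t).comap ι = (Kh' t).comap ι' := by
    intro t _
    simp only [Kh, Kh']
    by_cases h' : t < s
    · rw [if_pos h', if_pos h']; exact hcomap t h'
    · rw [if_neg h', if_neg h', Submodule.comap_top, Submodule.comap_top]
  obtain ⟨W₂, _, _, ι₂, ι₂', j, hinj, hinj', hj, hj', hrec, -⟩ :=
    exists_extension ι ι' hι hι' Kh Kh' hKh hKh' (s + 1) hdimh hcomaph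
  have htop := hrec s (Nat.lt_succ_self s)
  simp only [Kh, Kh', if_neg (lt_irrefl s)] at htop
  have hsurj : Function.Surjective ι₂ := LinearMap.range_eq_top.mp (top_le_iff.mp htop.1)
  have hsurj' : Function.Surjective ι₂' := LinearMap.range_eq_top.mp (top_le_iff.mp htop.2.1)
  let e₂ : W₂ ≃ₗ[k] V := LinearEquiv.ofBijective ι₂ ⟨hinj, hsurj⟩
  let e₂' : W₂ ≃ₗ[k] V := LinearEquiv.ofBijective ι₂' ⟨hinj', hsurj'⟩
  have hg : ∀ y : W₂, (e₂.symm.trans e₂') (ι₂ y) = ι₂' y := by
    intro y
    have : e₂.symm (ι₂ y) = y := e₂.symm_apply_apply y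
    rw [LinearEquiv.trans_apply, this]
    rfl
  refine ⟨e₂.symm.trans e₂', ?_, ?_⟩
  · intro w
    rw [← hj, hg, hj']
  · intro t ht
    obtain ⟨h1, h2, h3⟩ := hrec t (Nat.lt_succ_of_lt ht)
    simp only [Kh, Kh', if_pos ht] at h1 h2 h3
    ext x'
    constructor
    · rintro ⟨x, hx, rfl⟩
      obtain ⟨y, rfl⟩ := hsurj x
      have hy : y ∈ (K' t).comap ι₂' := h3 ▸ (Submodule.mem_comap.mpr hx)
      show (e₂.symm.trans e₂') (ι₂ y) ∈ K' t
      rw [hg]
      exact hy
    · intro hx'
      obtain ⟨y, rfl⟩ := hsurj' x'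
      have hy : y ∈ (K t).comap ι₂ := h3.symm ▸ (Submodule.mem_comap.mpr hx')
      exact ⟨ι₂ y, hy, hg y⟩

end Extension3

section Extension4

variable {k : Type u} [Field k] {W V : Type u} [AddCommGroup W] [Module k W]
  [AddCommGroup V] [Module k V] [FiniteDimensional k V]

/-- Extending a partial isomorphism (given by two maps with the same kernel) to an
automorphism matching two flags. -/
theorem exists_equiv_of_flags' (ι ι' : W →ₗ[k] V) (hker : LinearMap.ker ι = LinearMap.ker ι')
    (K K' : ℕ → Submodule k V) (hK : Monotone K)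
    (hK' : Monotone K') (s : ℕ) (hdim : ∀ t < s, finrank k (K t) = finrank k (K' t))
    (hcomap : ∀ t < s, (K t).comap ι = (K' t).comap ι') :
    ∃ g : V ≃ₗ[k] V, (∀ w, g (ι w) = ι' w) ∧ ∀ t < s, (K t).map g.toLinearMap = K' t := by
  have h' : LinearMap.ker ι ≤ LinearMap.ker ι' := hker.le
  obtain ⟨g, hg1, hg2⟩ := exists_equiv_of_flags ((LinearMap.ker ι).liftQ ι le_rfl)
    ((LinearMap.ker ι).liftQ ι' h')
    (LinearMap.ker_eq_bot.mp (Submodule.ker_liftQ_eq_bot _ _ _ le_rfl))
    (LinearMap.ker_eq_bot.mp (Submodule.ker_liftQ_eq_bot _ _ _ hker.ge)) K K' hK hK' s hdim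
    (by
      intro t ht
      ext x
      obtain ⟨x, rfl⟩ := Submodule.mkQ_surjective _ x
      have := hcomap t ht
      simp only [Submodule.mem_comap, Submodule.mkQ_apply, Submodule.liftQ_apply]
      rw [← Submodule.mem_comap, this, Submodule.mem_comap])
  refine ⟨g, ?_, hg2⟩
  intro w
  have := hg1 (Submodule.Quotient.mk w)
  simpa only [Submodule.liftQ_apply] using this

end Extension4

section Orbit

variable {k : Type u} [Field k]

/-- Pull a flag back along a linear map, putting the kernel first. -/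
def shiftFlag {V V' : Type u} [AddCommGroup V] [Module k V] [AddCommGroup V'] [Module k V']
    (φ : V →ₗ[k] V') (K : ℕ → Submodule k V') : ℕ → Submodule k V
  | 0 => LinearMap.ker φ
  | t + 1 => (K t).comap φ

theorem shiftFlag_mono {V V' : Type u} [AddCommGroup V] [Module k V] [AddCommGroup V']
    [Module k V'] (φ : V →ₗ[k] V') (K : ℕ → Submodule k V') (hK : Monotone K) :
    Monotone (shiftFlag φ K) := by
  refine monotone_nat_of_le_succ fun t => ?_
  cases t with
  | zero =>
    intro x hx
    show x ∈ (K 0).comap φ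
    rw [Submodule.mem_comap, LinearMap.mem_ker.mp hx]
    exact zero_mem _
  | succ t => exact Submodule.comap_mono (hK (Nat.le_succ t))

variable {d : ℕ → ℕ}

theorem exists_equivs (r : ℕ) (hr : 1 ≤ r) :
    ∀ (f f' : (i : ℕ) → Matrix (Fin (d (i + 1))) (Fin (d i)) k) (s : ℕ)
      (K K' : ℕ → Submodule k (Fin (d r) → k)), Monotone K → Monotone K' →
      (∀ i j, 1 ≤ i → i ≤ j → j ≤ r → finrank k (Im f i j) = finrank k (Im f' i j)) →
      (∀ t < s, ∀ i, 1 ≤ i → i ≤ r →
        finrank k (Im f i r ⊓ K t : Submodule k _) =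
          finrank k (Im f' i r ⊓ K' t : Submodule k _)) →
      ∃ g : (j : ℕ) → (Fin (d j) → k) ≃ₗ[k] (Fin (d j) → k),
        (∀ j, 1 ≤ j → j < r → ∀ x, g (j + 1) (F f j x) = F f' j (g j x)) ∧
        ∀ t < s, (K t).map (g r).toLinearMap = K' t := by
  induction r, hr using Nat.le_induction with
  | base =>
    intro f f' s K K' hK hK' _ H2
    have hdim : ∀ t < s, finrank k (K t) = finrank k (K' t) := by
      intro t ht
      have := H2 t ht 1 le_rfl le_rfl
      rwa [Im_self, Im_self, top_inf_eq, top_inf_eq] at this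
    obtain ⟨g₁, -, hg₁⟩ := exists_equiv_of_flags'
      (0 : (Fin (d 1) → k) →ₗ[k] (Fin (d 1) → k)) 0 rfl K K' hK hK' s hdim
      (fun t _ => by ext x; simp)
    refine ⟨Function.update (fun j => LinearEquiv.refl k _) 1 g₁, ?_, ?_⟩
    · intro j hj1 hj2; omega
    · intro t ht; rw [Function.update_self]; exact hg₁ t ht
  | succ r hr ih =>
    intro f f' s K K' hK hK' H1 H2
    have H1' : ∀ i j, 1 ≤ i → i ≤ j → j ≤ r → finrank k (Im f i j) = finrank k (Im f' i j) :=
      fun i j hi hij hj => H1 i j hi hij (hj.trans (Nat.le_succ r))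
    have H2' : ∀ t < s + 1, ∀ i, 1 ≤ i → i ≤ r →
        finrank k (Im f i r ⊓ shiftFlag (F f r) K t : Submodule k _) =
          finrank k (Im f' i r ⊓ shiftFlag (F f' r) K' t : Submodule k _) := by
      intro t ht i hi hir
      have e1 := H1 i r hi hir (Nat.le_succ r)
      have e2 := H1 i (r + 1) hi (hir.trans (Nat.le_succ r)) le_rfl
      rw [Im_succ f hir, Im_succ f' hir] at e2
      cases t with
      | zero =>
        have h1 := finrank_map_add (F f r) (Im f i r)
        have h2 := finrank_map_add (F f' r) (Im f' i r)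
        show finrank k (Im f i r ⊓ LinearMap.ker (F f r) : Submodule k _) =
          finrank k (Im f' i r ⊓ LinearMap.ker (F f' r) : Submodule k _)
        omega
      | succ t =>
        have h1 := finrank_inf_comap (F f r) (Im f i r) (K t)
        have h2 := finrank_inf_comap (F f' r) (Im f' i r) (K' t)
        have e3 := H2 t (Nat.lt_of_succ_lt_succ ht) i hi (hir.trans (Nat.le_succ r))
        rw [Im_succ f hir, Im_succ f' hir] at e3
        show finrank k (Im f i r ⊓ (K t).comap (F f r) : Submodule k _) =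
          finrank k (Im f' i r ⊓ (K' t).comap (F f' r) : Submodule k _)
        omega
    obtain ⟨g, hg1, hg2⟩ := ih f f' (s + 1) (shiftFlag (F f r) K) (shiftFlag (F f' r) K')
      (shiftFlag_mono _ _ hK) (shiftFlag_mono _ _ hK') H1' H2'
    have hginj : Function.Injective (g r).toLinearMap := (g r).injective
    have hk0 : (LinearMap.ker (F f r)).map (g r).toLinearMap = LinearMap.ker (F f' r) :=
      hg2 0 (Nat.succ_pos s)
    have hkt : ∀ t < s, ((K t).comap (F f r)).map (g r).toLinearMap = (K' t).comap (F f' r) :=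
      fun t ht => hg2 (t + 1) (Nat.succ_lt_succ ht)
    have hdim : ∀ t < s, finrank k (K t) = finrank k (K' t) := by
      intro t ht
      have := H2 t ht (r + 1) (Nat.le_add_left 1 r) le_rfl
      rwa [Im_self, Im_self, top_inf_eq, top_inf_eq] at this
    obtain ⟨gn, hgn1, hgn2⟩ := exists_equiv_of_flags' (F f r) (F f' r ∘ₗ (g r).toLinearMap)
      (by rw [LinearMap.ker_comp, ← hk0, Submodule.comap_map_eq_of_injective hginj])
      K K' hK hK' s hdim
      (fun t ht => by
        rw [Submodule.comap_comp, ← hkt t ht, Submodule.comap_map_eq_of_injective hginj])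
    refine ⟨Function.update g (r + 1) gn, ?_, ?_⟩
    · intro j hj1 hj2 x
      rcases Nat.lt_succ_iff_lt_or_eq.mp hj2 with hj | rfl
      · rw [Function.update_of_ne (by omega), Function.update_of_ne (by omega)]
        exact hg1 j hj1 hj x
      · rw [Function.update_self, Function.update_of_ne (by omega)]
        exact hgn1 x
    · intro t ht
      rw [Function.update_self]
      exact hgn2 t ht

/-- Two chains with the same rank array are conjugate. -/
theorem exists_conj (r : ℕ) (f f' : (i : ℕ) → Matrix (Fin (d (i + 1))) (Fin (d i)) k)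
    (H : ∀ i j : ℕ, 1 ≤ i → i ≤ j → j ≤ r → rankArray f i j = rankArray f' i j) :
    ∃ g : (j : ℕ) → Matrix.GeneralLinearGroup (Fin (d j)) k,
      ∀ i : ℕ, 1 ≤ i → i + 1 ≤ r → conj g f i = f' i := by
  rcases Nat.eq_zero_or_pos r with rfl | hr
  · exact ⟨fun _ => 1, fun i _ hi => absurd hi (by omega)⟩
  obtain ⟨g, hg, -⟩ := exists_equivs r hr f f' 0 (fun _ => ⊤) (fun _ => ⊤) monotone_const
    monotone_const
    (fun i j hi hij hj => by
      have := H i j hi hij hj
      rwa [rankArray_eq f hij, rankArray_eq f' hij] at this)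
    (fun t ht => absurd ht (Nat.not_lt_zero t))
  have h1 : ∀ j, LinearMap.toMatrix' (g j).toLinearMap * LinearMap.toMatrix' (g j).symm.toLinearMap
      = 1 := by
    intro j
    rw [← LinearMap.toMatrix'_comp]
    have : (g j).toLinearMap ∘ₗ (g j).symm.toLinearMap = LinearMap.id :=
      LinearMap.ext fun x => by simp
    rw [this, LinearMap.toMatrix'_id]
  have h2 : ∀ j, LinearMap.toMatrix' (g j).symm.toLinearMap * LinearMap.toMatrix' (g j).toLinearMap
      = 1 := by
    intro j
    rw [← LinearMap.toMatrix'_comp]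
    have : (g j).symm.toLinearMap ∘ₗ (g j).toLinearMap = LinearMap.id :=
      LinearMap.ext fun x => by simp
    rw [this, LinearMap.toMatrix'_id]
  refine ⟨fun j => ⟨LinearMap.toMatrix' (g j).toLinearMap,
    LinearMap.toMatrix' (g j).symm.toLinearMap, h1 j, h2 j⟩, ?_⟩
  intro i hi hir
  show LinearMap.toMatrix' (g (i + 1)).toLinearMap * f i *
    LinearMap.toMatrix' (g i).symm.toLinearMap = f' i
  have e1 : f i = LinearMap.toMatrix' (F f i) := (LinearMap.toMatrix'_toLin' (f i)).symm
  have e2 : f' i = LinearMap.toMatrix' (F f' i) := (LinearMap.toMatrix'_toLin' (f' i)).symm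
  rw [e1, e2, ← LinearMap.toMatrix'_comp, ← LinearMap.toMatrix'_comp]
  congr 1
  refine LinearMap.ext fun x => ?_
  simp only [LinearMap.comp_apply, LinearEquiv.coe_coe]
  rw [hg i hi (by omega), LinearEquiv.apply_symm_apply]

end Orbit

section Realize

variable {k : Type u} [Field k]

/-- The coordinate subspace spanned by the first `m` basis vectors. -/
def E (k : Type u) [Field k] (n m : ℕ) : Submodule k (Fin n → k) :=
  Submodule.span k
    (Set.range fun s : {s : Fin n // s.val < m} => (Pi.single s.val 1 : Fin n → k))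

theorem single_mem_E {n m : ℕ} (s : Fin n) (hs : s.val < m) :
    (Pi.single s 1 : Fin n → k) ∈ E k n m :=
  Submodule.subset_span ⟨⟨s, hs⟩, rfl⟩

theorem mem_E_iff {n m : ℕ} (x : Fin n → k) :
    x ∈ E k n m ↔ ∀ s : Fin n, m ≤ s.val → x s = 0 := by
  constructor
  · intro hx s hs
    induction hx using Submodule.span_induction with
    | mem y hy =>
      obtain ⟨t, rfl⟩ := hy
      have : s ≠ t.val := fun h => by have := t.2; rw [← h] at this; omega
      exact Pi.single_eq_of_ne this _
    | zero => rfl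
    | add y z _ _ hy hz => rw [Pi.add_apply, hy, hz, add_zero]
    | smul c y _ hy => rw [Pi.smul_apply, hy, smul_zero]
  · intro h
    rw [← Finset.univ_sum_single x]
    refine Submodule.sum_mem _ fun s _ => ?_
    by_cases hs : s.val < m
    · have : (Pi.single s (x s) : Fin n → k) = x s • Pi.single s 1 := by
        rw [← Pi.single_smul, smul_eq_mul, mul_one]
      rw [this]
      exact Submodule.smul_mem _ _ (single_mem_E s hs)
    · rw [h s (not_lt.mp hs), Pi.single_zero]
      exact zero_mem _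

theorem E_top (n : ℕ) : E k n n = ⊤ :=
  eq_top_iff.mpr fun x _ => (mem_E_iff x).mpr fun s hs => absurd s.2 (by omega)

theorem finrank_E {n m : ℕ} (h : m ≤ n) : finrank k (E k n m) = m := by
  rw [E, finrank_span_eq_card]
  · rw [Fintype.card_congr (Fin.castLEquiv h).symm, Fintype.card_fin]
  · have := (Pi.basisFun k (Fin n)).linearIndependent.comp
      (Subtype.val : {s : Fin n // s.val < m} → Fin n) Subtype.val_injective
    convert this using 1
    ext s t
    simp [Pi.basisFun_apply]

variable {d : ℕ → ℕ}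

/-- The array extended by `0` in row `0`. -/
def A (a : ℕ → ℕ → ℕ) (i j : ℕ) : ℕ := if i = 0 then 0 else a i j

/-- The block of column `j` containing the index `s`. -/
noncomputable def blk (a : ℕ → ℕ → ℕ) (j s : ℕ) : ℕ := sInf {i | s < A a i j}

/-- The normal form. -/
noncomputable def N (k : Type u) [Field k] (d : ℕ → ℕ) (a : ℕ → ℕ → ℕ) (j : ℕ) :
    Matrix (Fin (d (j + 1))) (Fin (d j)) k :=
  fun s' s => if s'.val = A a (blk a j s.val - 1) (j + 1) + (s.val - A a (blk a j s.val - 1) j) ∧
      s'.val < A a (blk a j s.val) (j + 1) then 1 else 0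

theorem blk_spec (a : ℕ → ℕ → ℕ) {i j s : ℕ} (hs : s < A a i j) :
    blk a j s ≤ i ∧ blk a j s ≠ 0 ∧ s < A a (blk a j s) j ∧ A a (blk a j s - 1) j ≤ s := by
  have hmem : blk a j s ∈ {i | s < A a i j} := Nat.sInf_mem ⟨i, hs⟩
  have h0 : blk a j s ≠ 0 := by
    intro h
    rw [h] at hmem
    simp [A] at hmem
  refine ⟨Nat.sInf_le hs, h0, hmem, ?_⟩
  have : blk a j s - 1 ∉ {i | s < A a i j} :=
    Nat.notMem_of_lt_sInf (Nat.sub_lt (Nat.pos_of_ne_zero h0) one_pos : blk a j s - 1 < blk a j s)
  exact not_lt.mp this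

theorem blk_eq (a : ℕ → ℕ → ℕ) {j s i₀ : ℕ} (hm : ∀ i'', i'' < i₀ → A a i'' j ≤ s)
    (hs : s < A a i₀ j) : blk a j s = i₀ := by
  apply le_antisymm
  · exact Nat.sInf_le hs
  · by_contra hlt
    push Not at hlt
    have hmem : blk a j s ∈ {i | s < A a i j} := Nat.sInf_mem ⟨i₀, hs⟩
    exact absurd hmem (not_lt.mpr (hm _ hlt))

variable {r : ℕ} {a : ℕ → ℕ → ℕ}

theorem A_mono (ha : IsRankArray d r a) {i i' j : ℕ} (h : i ≤ i') (h' : i' ≤ j) (hj : j ≤ r) :
    A a i j ≤ A a i' j := by
  induction i', h using Nat.le_induction with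
  | base => exact le_rfl
  | succ i' hii' ih =>
    refine (ih (by omega)).trans ?_
    by_cases h0 : i' = 0
    · subst h0; simp [A]
    · simp only [A, if_neg h0, if_neg (Nat.succ_ne_zero i')]
      exact ha.2.1 i' j (Nat.pos_of_ne_zero h0) (by omega) hj

theorem A_diag (ha : IsRankArray d r a) {j : ℕ} (hj1 : 1 ≤ j) (hjr : j ≤ r) : A a j j = d j := by
  rw [A, if_neg (by omega)]; exact ha.1 j hj1 hjr

theorem A_le_d (ha : IsRankArray d r a) {i j : ℕ} (hij : i ≤ j) (hj1 : 1 ≤ j) (hjr : j ≤ r) :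
    A a i j ≤ d j :=
  (A_mono ha hij le_rfl hjr).trans (A_diag ha hj1 hjr).le

theorem A_diff (ha : IsRankArray d r a) {i j : ℕ} (hi : 1 ≤ i) (hij : i ≤ j) (hjr : j < r) :
    A a i (j + 1) + A a (i - 1) j ≤ A a i j + A a (i - 1) (j + 1) := by
  by_cases h1 : i = 1
  · subst h1
    have := ha.2.2.1 1 j le_rfl hij hjr
    simpa [A] using this
  · have h2 : i - 1 ≠ 0 := by omega
    simp only [A, if_neg h2, if_neg (show i ≠ 0 by omega)]
    exact ha.2.2.2 i j (by omega) hij hjr

theorem map_E (ha : IsRankArray d r a) {i j : ℕ} (hi : 1 ≤ i) (hij : i ≤ j) (hjr : j < r) :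
    (E k (d j) (A a i j)).map (Matrix.toLin' (N k d a j)) = E k (d (j + 1)) (A a i (j + 1)) := by
  apply le_antisymm
  · rw [E, Submodule.map_span, Submodule.span_le]
    rintro _ ⟨_, ⟨⟨s, hs⟩, rfl⟩, rfl⟩
    rw [SetLike.mem_coe, mem_E_iff]
    intro s' hs'
    rw [Matrix.toLin'_apply, Matrix.mulVec_single_one, Matrix.col_apply, N]
    dsimp only
    obtain ⟨h1, h2, h3, h4⟩ := blk_spec a hs
    have := A_mono ha (j := j + 1) h1 (hij.trans (Nat.le_succ j)) hjr
    rw [if_neg]
    rintro ⟨-, h⟩
    omega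
  · rw [E, Submodule.span_le]
    rintro _ ⟨⟨s', hs'⟩, rfl⟩
    obtain ⟨h1, h2, h3, h4⟩ := blk_spec a hs'
    set i₀ := blk a (j + 1) s'.val with hi₀
    have hd := A_diff ha (i := i₀) (j := j) (by omega) (h1.trans hij) hjr
    have hsv2 : A a i₀ j ≤ A a i j := A_mono ha h1 hij hjr.le
    have hsv3 : A a i j ≤ d j := A_le_d ha hij (hi.trans hij) hjr.le
    have hsvlt : A a (i₀ - 1) j + (s'.val - A a (i₀ - 1) (j + 1)) < d j := by omega
    have hblk : blk a j (A a (i₀ - 1) j + (s'.val - A a (i₀ - 1) (j + 1))) = i₀ := by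
      apply blk_eq
      · intro i'' hi''
        have := A_mono ha (i := i'') (i' := i₀ - 1) (j := j) (by omega) (by omega) hjr.le
        omega
      · omega
    refine ⟨Pi.single ⟨A a (i₀ - 1) j + (s'.val - A a (i₀ - 1) (j + 1)), hsvlt⟩ 1,
      single_mem_E _ (by show A a (i₀ - 1) j + (s'.val - A a (i₀ - 1) (j + 1)) < A a i j; omega), ?_⟩
    rw [Matrix.toLin'_apply, Matrix.mulVec_single_one]
    ext s''
    rw [Matrix.col_apply, N]
    simp only [hblk]
    rw [Pi.single_apply]
    by_cases h : s'' = s'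
    · rw [if_pos h, if_pos]
      subst h
      constructor <;> omega
    · rw [if_neg h, if_neg]
      rintro ⟨h5, -⟩
      apply h
      ext
      omega

theorem Im_N (ha : IsRankArray d r a) {i j : ℕ} (hi : 1 ≤ i) (hij : i ≤ j) (hjr : j ≤ r) :
    Im (N k d a) i j = E k (d j) (A a i j) := by
  induction j, hij using Nat.le_induction with
  | base => rw [Im_self, A_diag ha hi hjr, E_top]
  | succ j hij ih =>
    rw [Im_succ _ hij, ih (by omega), map_E ha hi hij (by omega)]

/-- Every admissible array is realized. -/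
theorem exists_chain (k : Type u) [Field k] (ha : IsRankArray d r a) :
    ∃ f : (i : ℕ) → Matrix (Fin (d (i + 1))) (Fin (d i)) k,
      ∀ i j : ℕ, 1 ≤ i → i ≤ j → j ≤ r → rankArray f i j = a i j := by
  refine ⟨N k d a, fun i j hi hij hjr => ?_⟩
  rw [rankArray_eq _ hij, Im_N ha hi hij hjr, finrank_E (A_le_d ha hij (hi.trans hij) hjr), A,
    if_neg (by omega)]

end Realize

end Groth.Agent.Lib.Helper20.ChainRank
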