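import Mathlib

set_option autoImplicit false
universe u v

namespace Groth.Agent.Lib.Helper20.CoeffFieldP

open Polynomial IsLocalRing

theorem isField_range {F : Type*} {A : Type*} [Field F] [CommRing A] [Nontrivial A] (Φ : F →+* A) :
    IsField Φ.range := by
  have hinj : Function.Injective Φ := RingHom.injective Φ
  have hbij : Function.Bijective Φ.rangeRestrict :=
    ⟨fun u v huv => hinj (congrArg Subtype.val huv), Φ.rangeRestrict_surjective⟩
  exact MulEquiv.isField (Field.toIsField F)
    (RingEquiv.ofBijective Φ.rangeRestrict hbij).symm.toMulEquiv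

/-- directed union of subfields is a subfield -/
theorem isField_sSup {E : Type*} [CommRing E] (c : Set (Subring E)) (hne : c.Nonempty)
    (hdir : DirectedOn (· ≤ ·) c) (hc : ∀ s ∈ c, IsField s) : IsField (sSup c : Subring E) := by
  refine ⟨⟨0, 1, ?_⟩, fun x y => mul_comm x y, ?_⟩
  · intro h
    obtain ⟨s, hs⟩ := hne
    have := (hc s hs).exists_pair_ne
    obtain ⟨a, b, hab⟩ := this
    apply hab
    have h01 : (0 : E) = 1 := congrArg Subtype.val h
    have : ∀ z : E, z = 0 := fun z => by rw [← mul_one z, ← h01, mul_zero]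
    exact Subtype.ext ((this a).trans (this b).symm)
  · rintro ⟨x, hx⟩ hx0
    obtain ⟨s, hs, hxs⟩ := (Subring.mem_sSup_of_directedOn hne hdir).1 hx
    have hsF : IsField s := hc s hs
    have hx0' : (⟨x, hxs⟩ : s) ≠ 0 := fun h =>
      hx0 (Subtype.ext (congrArg (Subtype.val : s → E) h))
    obtain ⟨⟨b, hb⟩, hxb⟩ := hsF.mul_inv_cancel hx0'
    refine ⟨⟨b, (Subring.mem_sSup_of_directedOn hne hdir).2 ⟨s, hs, hb⟩⟩, ?_⟩
    exact Subtype.ext (congrArg (Subtype.val : s → E) hxb)

/-- **Coefficient field of a square-zero extension in characteristic `p`.**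
If `π : E → K` is a surjection of a ring of characteristic `p` onto a field whose kernel consists
of elements with vanishing products, then `π` has a ring-theoretic section whose image contains
all `p`-th powers. -/
theorem exists_section_of_sq_zero {E : Type u} {K : Type v} [CommRing E] [Field K] (p : ℕ)
    [hp : Fact p.Prime] [CharP E p]
    (π : E →+* K) (hπ : Function.Surjective π)
    (hsq : ∀ x ∈ RingHom.ker π, ∀ y ∈ RingHom.ker π, x * y = 0) :
    ∃ σ : K →+* E, π.comp σ = RingHom.id K ∧ ∀ e : E, e ^ p ∈ σ.range := by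
  classical
  have hntE : Nontrivial E := π.domain_nontrivial
  have hpK : CharP K p := by
    rw [CharP.charP_iff_prime_eq_zero hp.out]
    have : (p : K) = π (p : E) := (map_natCast π p).symm
    rw [this, CharP.cast_eq_zero, map_zero]
  -- Frobenius factors through `π`
  have hker : RingHom.ker π ≤ RingHom.ker (frobenius E p) := by
    intro x hx
    rw [RingHom.mem_ker, frobenius_def]
    have h2 : x ^ 2 = 0 := by rw [pow_two]; exact hsq x hx x hx
    obtain ⟨m, hm⟩ := Nat.exists_eq_add_of_le hp.out.two_le
    rw [hm, pow_add, h2, zero_mul]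
  let ψ : K →+* E := π.liftOfSurjective hπ ⟨frobenius E p, hker⟩
  have hψ : ∀ e : E, ψ (π e) = e ^ p := fun e => by
    have := π.liftOfSurjective_comp_apply hπ ⟨frobenius E p, hker⟩ e
    simpa [frobenius_def] using this
  have hπψ : ∀ a : K, π (ψ a) = a ^ p := by
    intro a
    obtain ⟨e, rfl⟩ := hπ a
    rw [hψ, map_pow]
  let 𝒮 : Set (Subring E) := {L | IsField L ∧ ψ.range ≤ L}
  have h0mem : ψ.range ∈ 𝒮 := ⟨isField_range ψ, le_rfl⟩
  obtain ⟨L, -, hLmax⟩ := zorn_le_nonempty₀ 𝒮 (by
    intro c hc hchain y hy
    have hne : c.Nonempty := ⟨y, hy⟩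
    have hdir : DirectedOn (· ≤ ·) c := hchain.directedOn
    refine ⟨sSup c, ⟨isField_sSup c hne hdir fun s hs => (hc hs).1, ?_⟩, fun z hz => le_sSup hz⟩
    exact (hc hy).2.trans (le_sSup hy)) ψ.range h0mem
  obtain ⟨⟨hLF, hL0⟩, hmax⟩ := hLmax
  let _ : Field L := hLF.toField
  have hsurj : Function.Surjective (π.comp L.subtype) := by
    intro ā
    by_contra hcon
    have hā : ∀ b : L, π b ≠ ā := fun b hb => hcon ⟨b, hb⟩
    obtain ⟨a, ha⟩ := hπ ā
    let c : L := ⟨ψ ā, hL0 ⟨ā, rfl⟩⟩
    have hc : ∀ b : L, b ^ p ≠ c := by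
      intro b hb
      apply hā b
      have h1 : π ((b : E) ^ p) = π (ψ ā) := by
        have := congrArg (Subtype.val : L → E) hb
        simp only [SubmonoidClass.coe_pow] at this
        rw [this]
      rw [map_pow, hπψ] at h1
      exact frobenius_inj K p h1
    have hirr : Irreducible (X ^ p - C c : L[X]) := X_pow_sub_C_irreducible_of_prime hp.out hc
    have : Fact (Irreducible (X ^ p - C c : L[X])) := ⟨hirr⟩
    have hroot : (X ^ p - C c : L[X]).eval₂ L.subtype a = 0 := by
      rw [eval₂_sub, eval₂_pow, eval₂_X, eval₂_C]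
      change a ^ p - ψ ā = 0
      rw [← ha, hψ, sub_self]
    let Φ : AdjoinRoot (X ^ p - C c : L[X]) →+* E := AdjoinRoot.lift L.subtype a hroot
    have hLΦ : L ≤ Φ.range := by
      intro s hs
      exact ⟨AdjoinRoot.of _ ⟨s, hs⟩, AdjoinRoot.lift_of hroot⟩
    have hΦmem : Φ.range ∈ 𝒮 := ⟨isField_range Φ, hL0.trans hLΦ⟩
    have hΦL : Φ.range ≤ L := hmax hΦmem hLΦ
    have haL : a ∈ L := hΦL ⟨AdjoinRoot.root _, AdjoinRoot.lift_root hroot⟩
    exact hā ⟨a, haL⟩ ha
  have hinj : Function.Injective (π.comp L.subtype) := RingHom.injective _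
  let e : L ≃+* K := RingEquiv.ofBijective (π.comp L.subtype) ⟨hinj, hsurj⟩
  refine ⟨L.subtype.comp e.symm.toRingHom, ?_, ?_⟩
  · ext a
    have : e (e.symm a) = a := e.apply_symm_apply a
    exact this
  · intro x
    have hx : x ^ p ∈ L := hL0 ⟨π x, hψ x⟩
    refine ⟨e ⟨x ^ p, hx⟩, ?_⟩
    change ((e.symm (e ⟨x ^ p, hx⟩) : L) : E) = x ^ p
    rw [e.symm_apply_apply]

/-- Any field extension of a perfect field of characteristic `p` is formally smooth. -/
theorem formallySmooth_of_perfectField_charP (F : Type u) (K : Type v) [Field F] [Field K]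
    [Algebra F K] (p : ℕ) [hp : Fact p.Prime] [CharP F p] [PerfectField F] :
    Algebra.FormallySmooth F K := by
  classical
  let f : MvPolynomial K F →ₐ[F] K := MvPolynomial.aeval id
  have hf : Function.Surjective f := fun x => ⟨MvPolynomial.X x, by simp [f]⟩
  let E := MvPolynomial K F ⧸ RingHom.ker f.toRingHom ^ 2
  let π : E →ₐ[F] K := f.kerSquareLift
  have hπ : Function.Surjective π := by
    intro x
    obtain ⟨y, hy⟩ := hf x
    exact ⟨Ideal.Quotient.mk _ y, hy⟩
  have hntE : Nontrivial E := π.toRingHom.domain_nontrivial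
  have hchar : CharP E p := charP_of_injective_algebraMap (algebraMap F E).injective p
  have hsq : ∀ x ∈ RingHom.ker π.toRingHom, ∀ y ∈ RingHom.ker π.toRingHom, x * y = 0 := by
    intro x hx y hy
    have h1 : RingHom.ker π.toRingHom ^ 2 = ⊥ := by
      rw [AlgHom.ker_kerSquareLift, Ideal.cotangentIdeal_square]
    have h1' : RingHom.ker π.toRingHom * RingHom.ker π.toRingHom = ⊥ :=
      (pow_two (RingHom.ker π.toRingHom)).symm.trans h1
    have h2 : x * y ∈ RingHom.ker π.toRingHom * RingHom.ker π.toRingHom :=
      Ideal.mul_mem_mul hx hy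
    rw [h1'] at h2
    exact h2
  obtain ⟨σ, hσ, hσp⟩ := exists_section_of_sq_zero p π.toRingHom hπ hsq
  have hσπ : ∀ a : K, π (σ a) = a := fun a => congrArg (fun φ : K →+* K => φ a) hσ
  have hcomm : ∀ x : F, σ (algebraMap F K x) = algebraMap F E x := by
    intro x
    have : PerfectRing F p := PerfectField.toPerfectRing p
    obtain ⟨y, hy⟩ := surjective_frobenius F p x
    rw [frobenius_def] at hy
    obtain ⟨z, hz⟩ := hσp (algebraMap F E y)
    have h1 : algebraMap F E x = σ z := by rw [hz, ← hy, map_pow]
    have h2 : z = algebraMap F K x := by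
      rw [← hσπ z, ← h1, AlgHom.commutes]
    rw [← h2, h1]
  let g : K →ₐ[F] E := { σ with commutes' := hcomm }
  refine Algebra.FormallySmooth.of_split f g ?_
  ext a
  exact hσπ a

/-- Any field extension of a field of characteristic zero is formally smooth. -/
theorem formallySmooth_of_charZero (F : Type u) (K : Type v) [Field F] [Field K]
    [Algebra F K] [CharZero F] : Algebra.FormallySmooth F K := by
  obtain ⟨s, hs⟩ := exists_isTranscendenceBasis F K
  have : Algebra.IsAlgebraic (IntermediateField.adjoin F (Set.range ((↑) : s → K))) K :=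
    hs.isAlgebraic_field
  exact Algebra.FormallySmooth.of_algebraicIndependent_of_isSeparable hs.1

/-- lifting through a complete local ring, given formal smoothness of the residue field over
some base field `F` -/
theorem exists_coeffField_of_formallySmooth (R : Type u) [CommRing R] [IsLocalRing R]
    [IsAdicComplete (maximalIdeal R) R] (F : Type v) [Field F] [Algebra F R]
    [Algebra.FormallySmooth F (ResidueField R)] :
    ∃ σ : ResidueField R →+* R, (residue R).comp σ = RingHom.id _ := by
  obtain ⟨g, hg⟩ := Algebra.FormallySmooth.exists_mkₐ_comp_eq_of_isAdicComplete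
    (R := F) (A := ResidueField R) (S := R) (I := maximalIdeal R)
    (AlgHom.id F (ResidueField R))
  refine ⟨g.toRingHom, ?_⟩
  ext a
  exact congrArg (fun φ : ResidueField R →ₐ[F] ResidueField R => φ a) hg

/-- **Cohen**: a complete local ring containing a field has a coefficient field. -/
theorem exists_coeffField (R : Type u) [CommRing R] [IsLocalRing R]
    [IsAdicComplete (maximalIdeal R) R] (k₀ : Type v) [Field k₀] [Algebra k₀ R] :
    ∃ σ : ResidueField R →+* R, (residue R).comp σ = RingHom.id _ := by
  set p := ringChar (ResidueField R) with hp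
  have hK : CharP (ResidueField R) p := ringChar.charP _
  have hk₀ : CharP k₀ p := ((algebraMap k₀ (ResidueField R)).charP_iff_charP p).mpr hK
  have hR : CharP R p := charP_of_injective_algebraMap (algebraMap k₀ R).injective p
  rcases CharP.char_is_prime_or_zero (ResidueField R) p with hpp | hp0
  · have : Fact p.Prime := ⟨hpp⟩
    let _ : Algebra (ZMod p) R := ZMod.algebra R p
    have : Algebra.FormallySmooth (ZMod p) (ResidueField R) :=
      formallySmooth_of_perfectField_charP (ZMod p) (ResidueField R) p
    exact exists_coeffField_of_formallySmooth R (ZMod p)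
  · have hcz : CharZero k₀ := by
      rw [hp0] at hk₀
      exact CharP.charP_to_charZero k₀
    let _ : Algebra ℚ R := ((algebraMap k₀ R).comp (algebraMap ℚ k₀)).toAlgebra
    have : Algebra.FormallySmooth ℚ (ResidueField R) :=
      formallySmooth_of_charZero ℚ (ResidueField R)
    exact exists_coeffField_of_formallySmooth R ℚ

/-- In a local ring of characteristic `p`, there is an absolute derivation `A → 𝔪/𝔪²` restricting
to the canonical projection on `𝔪` (coming from a coefficient field of `A/𝔪²`). -/
theorem exists_derivation_cotangent (A : Type u) [CommRing A] [IsLocalRing A] (p : ℕ)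
    [hp : Fact p.Prime] [CharP A p] :
    ∃ D' : Derivation ℤ A (CotangentSpace A), ∀ (x : A) (hx : x ∈ maximalIdeal A),
      D' x = (maximalIdeal A).toCotangent ⟨x, hx⟩ := by
  classical
  set m := maximalIdeal A with hm
  let E := A ⧸ m ^ 2
  have hle : m ^ 2 ≤ m := Ideal.pow_le_self two_ne_zero
  let π : E →+* ResidueField A := Ideal.Quotient.factor hle
  have hπ : Function.Surjective π := Ideal.Quotient.factor_surjective hle
  have hπmk : ∀ a : A, π (Ideal.Quotient.mk (m ^ 2) a) = residue A a := fun a => rfl
  have hntE : Nontrivial E := π.domain_nontrivial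
  have hchar : CharP E p := by
    rw [CharP.charP_iff_prime_eq_zero hp.out]
    have : (p : E) = Ideal.Quotient.mk (m ^ 2) (p : A) := (map_natCast (Ideal.Quotient.mk (m ^ 2)) p).symm
    rw [this, CharP.cast_eq_zero, map_zero]
  have hkermem : ∀ e : E, π e = 0 → e ∈ m.cotangentIdeal := by
    intro e he
    obtain ⟨a, rfl⟩ := Ideal.Quotient.mk_surjective e
    rw [hπmk, residue_eq_zero_iff] at he
    exact ⟨a, he, rfl⟩
  have hsq : ∀ x ∈ RingHom.ker π, ∀ y ∈ RingHom.ker π, x * y = 0 := by
    intro x hx y hy
    have h1 : x * y ∈ m.cotangentIdeal * m.cotangentIdeal :=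
      Ideal.mul_mem_mul (hkermem x hx) (hkermem y hy)
    have h2 : m.cotangentIdeal * m.cotangentIdeal = ⊥ :=
      (pow_two m.cotangentIdeal).symm.trans m.cotangentIdeal_square
    rw [h2] at h1
    exact h1
  obtain ⟨σ, hσ, -⟩ := exists_section_of_sq_zero p π hπ hsq
  have hσπ : ∀ a, π (σ a) = a := fun a => congrArg (fun φ : ResidueField A →+* ResidueField A => φ a) hσ
  let δ₀ : A → E := fun a => Ideal.Quotient.mk (m ^ 2) a - σ (residue A a)
  have hδker : ∀ a, δ₀ a ∈ RingHom.ker π := by
    intro a
    rw [RingHom.mem_ker, map_sub, hσπ, hπmk, sub_self]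
  have hδmem : ∀ a, δ₀ a ∈ m.cotangentIdeal := fun a => hkermem _ (hδker a)
  let δ : A → m.Cotangent := fun a => m.cotangentEquivIdeal.symm ⟨δ₀ a, hδmem a⟩
  have hδval : ∀ a, ((m.cotangentEquivIdeal (δ a) : m.cotangentIdeal) : E) = δ₀ a := by
    intro a
    simp only [δ, LinearEquiv.apply_symm_apply]
  have hinj : ∀ u v : m.Cotangent,
      ((m.cotangentEquivIdeal u : m.cotangentIdeal) : E) = (m.cotangentEquivIdeal v : m.cotangentIdeal) →
        u = v := by
    intro u v h
    exact m.cotangentEquivIdeal.injective (Subtype.ext h)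
  have hadd : ∀ a b, δ (a + b) = δ a + δ b := by
    intro a b
    apply hinj
    rw [map_add, Submodule.coe_add, hδval, hδval, hδval]
    simp only [δ₀, map_add]
    ring
  have hmul : ∀ a b, δ (a * b) = a • δ b + b • δ a := by
    intro a b
    apply hinj
    rw [map_add, Submodule.coe_add, map_smul, map_smul, Submodule.coe_smul_of_tower,
      Submodule.coe_smul_of_tower,
      hδval, hδval, hδval, Algebra.smul_def, Algebra.smul_def]
    have h0 := hsq _ (hδker a) _ (hδker b)
    simp only [δ₀, map_mul, Ideal.Quotient.algebraMap_eq] at h0 ⊢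
    linear_combination (-1 : E) * h0
  let δadd : A →+ m.Cotangent := AddMonoidHom.mk' δ hadd
  let D' : Derivation ℤ A (CotangentSpace A) := Derivation.mk' δadd.toIntLinearMap hmul
  refine ⟨D', ?_⟩
  intro x hx
  change δ x = _
  apply hinj
  rw [hδval, Ideal.cotangentEquivIdeal_apply, Ideal.toCotangent_to_quotient_square]
  simp only [δ₀]
  rw [(residue_eq_zero_iff x).mpr hx, map_zero, sub_zero]
  rfl

/-- In a regular local ring of dimension `N`, any `N` generators of the maximal ideal have
linearly independent classes in the cotangent space. -/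
theorem linearIndependent_toCotangent (A : Type u) [CommRing A] [IsRegularLocalRing A] {N : ℕ}
    (x : Fin N → A) (hx : Ideal.span (Set.range x) = maximalIdeal A)
    (hN : ringKrullDim A = (N : WithBot ℕ∞)) (hxm : ∀ i, x i ∈ maximalIdeal A) :
    LinearIndependent (ResidueField A)
      (fun i => ((maximalIdeal A).toCotangent ⟨x i, hxm i⟩ : CotangentSpace A)) := by
  have hfr : Module.finrank (ResidueField A) (CotangentSpace A) = N := by
    have h := (IsRegularLocalRing.iff_finrank_cotangentSpace A).mp inferInstance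
    rw [hN] at h
    exact_mod_cast h
  apply linearIndependent_of_top_le_span_of_card_eq_finrank
  · rw [top_le_iff]
    let y : Fin N → maximalIdeal A := fun i => ⟨x i, hxm i⟩
    have hrange : Set.range (fun i => ((maximalIdeal A).toCotangent ⟨x i, hxm i⟩ : CotangentSpace A)) =
        (maximalIdeal A).toCotangent '' Set.range y := by
      rw [← Set.range_comp]; rfl
    rw [hrange, CotangentSpace.span_image_eq_top_iff]
    apply Submodule.map_injective_of_injective (maximalIdeal A).injective_subtype
    rw [Submodule.map_span, Submodule.map_top, Submodule.range_subtype, ← Set.range_comp]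
    exact hx
  · rw [hfr, Fintype.card_fin]

end Groth.Agent.Lib.Helper20.CoeffFieldP
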