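import Mathlib
import Groth.Agent.Lib.Helper20.FreeSheaf

/-!
# The cohomology presheaf `U ↦ H^i(U, F)` computed by an injective resolution

For an injective resolution `I` of an abelian sheaf `F` on a small site, the `i`-th homology of the
complex of presheaves underlying `I` is isomorphic to the presheaf `F.cohomologyPresheaf i`.
-/

set_option autoImplicit false
universe w v u
open CategoryTheory Limits Opposite Abelian CochainComplex HomComplex

namespace CategoryTheory.InjectiveResolution

variable {C : Type u} [Category.{v} C] [Abelian C] [HasExt.{w} C]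
  {X Y : C} (R : InjectiveResolution Y)

lemma extMk_zero_eq_zero_iff' (f : X ⟶ R.cocomplex.X 0) (hf : f ≫ R.cocomplex.d 0 1 = 0) :
    R.extMk f 1 rfl hf = 0 ↔ f = 0 := by
  simp only [← R.extEquivCohomologyClass.apply_eq_iff_eq, extEquivCohomologyClass_extMk,
    extEquivCohomologyClass_zero, CohomologyClass.mk_eq_zero_iff]
  rw [Cocycle.fromSingleMk_mem_coboundaries_iff _ _ _ _ _ (-1) (by lia)]
  constructor
  · rintro ⟨g, hg⟩
    have hz : IsZero (R.cochainComplex.X (-1)) :=
      R.cochainComplex.isZero_of_isStrictlyGE 0 (-1) (by lia)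
    have hg0 : g = 0 := hz.eq_of_tgt _ _
    rw [hg0, zero_comp] at hg
    have := congrArg (fun t => t ≫ (R.cochainComplexXIso 0 0 rfl).hom) hg
    simpa using this.symm
  · rintro rfl
    exact ⟨0, by simp⟩

lemma extMk_eq_zero_iff'' (i p : ℕ) (hp : (ComplexShape.up ℕ).prev i = p)
    (f : X ⟶ R.cocomplex.X i) (hf : f ≫ R.cocomplex.d i (i + 1) = 0) :
    R.extMk f (i + 1) rfl hf = 0 ↔ ∃ g : X ⟶ R.cocomplex.X p, g ≫ R.cocomplex.d p i = f := by
  cases i with
  | zero =>
    have : p = 0 := by rw [← hp]; simp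
    subst this
    rw [extMk_zero_eq_zero_iff']
    have hd : R.cocomplex.d 0 0 = 0 := R.cocomplex.shape _ _ (by simp)
    constructor
    · rintro rfl; exact ⟨0, by simp⟩
    · rintro ⟨g, rfl⟩; rw [hd, comp_zero]
  | succ n =>
    have : p = n := by rw [← hp]; simp
    subst this
    exact R.extMk_eq_zero_iff f _ rfl hf p rfl

lemma extMk_congr {n : ℕ} {f f' : X ⟶ R.cocomplex.X n} (h : f = f') (m : ℕ) (hm : n + 1 = m)
    (hf : f ≫ R.cocomplex.d n m = 0) (hf' : f' ≫ R.cocomplex.d n m = 0) :
    R.extMk f m hm hf = R.extMk f' m hm hf' := by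
  subst h; rfl

end CategoryTheory.InjectiveResolution

namespace Groth.Agent.Lib.Helper20.CohPresheafInj

open FreeSheaf

variable {C : Type u} [SmallCategory C] (J : GrothendieckTopology C)
  [HasExt.{u} (Sheaf J AddCommGrpCat.{u})]
  {F : Sheaf J AddCommGrpCat.{u}} (I : InjectiveResolution F) (p i : ℕ)

/-- the short complex of presheaves `I^p → I^i → I^{i+1}` -/
noncomputable abbrev Spre : ShortComplex (Cᵒᵖ ⥤ AddCommGrpCat.{u}) :=
  (I.cocomplex.sc' p i (i + 1)).map (sheafToPresheaf J AddCommGrpCat.{u})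

/-- the underlying section of a cycle -/
noncomputable def cyc (W : Cᵒᵖ) :
    (kernel (Spre J I p i).g).obj W →+ (I.cocomplex.X i).obj.obj (op W.unop) :=
  ((kernel.ι (Spre J I p i).g).app W).hom

omit [HasExt.{u} (Sheaf J AddCommGrpCat.{u})] in
lemma d_cyc (W : Cᵒᵖ) (k : (kernel (Spre J I p i).g).obj W) :
    (I.cocomplex.d i (i + 1)).hom.app (op W.unop) (cyc J I p i W k) = 0 := by
  have := congrArg (fun t => t.app W k) (kernel.condition (Spre J I p i).g)
  exact this

omit [HasExt.{u} (Sheaf J AddCommGrpCat.{u})] in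
lemma cyc_nat {W W' : Cᵒᵖ} (r : W ⟶ W') (k : (kernel (Spre J I p i).g).obj W) :
    cyc J I p i W' ((kernel (Spre J I p i).g).map r k) =
      (I.cocomplex.X i).obj.map r (cyc J I p i W k) :=
  NatTrans.naturality_apply (kernel.ι (Spre J I p i).g) r k

omit [HasExt.{u} (Sheaf J AddCommGrpCat.{u})] in
lemma cocycle_cond (W : Cᵒᵖ) (k : (kernel (Spre J I p i).g).obj W) :
    (a J W.unop (I.cocomplex.X i)).symm (cyc J I p i W k) ≫ I.cocomplex.d i (i + 1) = 0 := by
  rw [a_symm_nat, d_cyc]
  apply (a J W.unop _).injective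
  rw [Equiv.apply_symm_apply, a_zero]

/-- the class of a cycle -/
noncomputable def cls (W : Cᵒᵖ) (k : (kernel (Spre J I p i).g).obj W) :
    Ext.{u} (ZU J W.unop) F i :=
  I.extMk ((a J W.unop (I.cocomplex.X i)).symm (cyc J I p i W k)) (i + 1) rfl
    (cocycle_cond J I p i W k)

omit [HasExt.{u} (Sheaf J AddCommGrpCat.{u})] in
lemma symm_cyc_add (W : Cᵒᵖ) (k k' : (kernel (Spre J I p i).g).obj W) :
    (a J W.unop (I.cocomplex.X i)).symm (cyc J I p i W (k + k')) =
      (a J W.unop (I.cocomplex.X i)).symm (cyc J I p i W k) +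
      (a J W.unop (I.cocomplex.X i)).symm (cyc J I p i W k') := by
  rw [map_add, a_symm_add]

lemma cls_eq (W : Cᵒᵖ) (k : (kernel (Spre J I p i).g).obj W) :
    cls J I p i W k =
    I.extMk ((a J W.unop (I.cocomplex.X i)).symm (cyc J I p i W k)) (i + 1) rfl
    (cocycle_cond J I p i W k) := rfl

lemma cls_add (W : Cᵒᵖ) (k k' : (kernel (Spre J I p i).g).obj W) :
    cls J I p i W (k + k') = cls J I p i W k + cls J I p i W k' := by
  rw [cls_eq, cls_eq, cls_eq, InjectiveResolution.add_extMk]
  simp only [symm_cyc_add]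

lemma cls_nat {W W' : Cᵒᵖ} (r : W ⟶ W') (k : (kernel (Spre J I p i).g).obj W) :
    cls J I p i W' ((kernel (Spre J I p i).g).map r k) =
      (Ext.mk₀ (Zmap J r.unop)).comp (cls J I p i W k) (zero_add _) := by
  rw [cls_eq, cls_eq, InjectiveResolution.mk₀_comp_extMk]
  apply InjectiveResolution.extMk_congr
  rw [a_symm_nat_left, cyc_nat]
  rfl

/-- the projection from cycles to the cohomology presheaf -/
noncomputable def π : kernel (Spre J I p i).g ⟶ F.cohomologyPresheaf i where
  app W := AddCommGrpCat.ofHom (AddMonoidHom.mk' (cls J I p i W) (cls_add J I p i W))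
  naturality W W' r := by
    ext k
    exact cls_nat J I p i r k

omit [HasExt.{u} (Sheaf J AddCommGrpCat.{u})] in
lemma cyc_injective (W : Cᵒᵖ) : Function.Injective (cyc J I p i W) := by
  have h1 : Mono (kernel.ι (Spre J I p i).g) := inferInstance
  have h2 : Mono ((kernel.ι (Spre J I p i).g).app W) := inferInstance
  exact (AddCommGrpCat.mono_iff_injective _).1 h2

omit [HasExt.{u} (Sheaf J AddCommGrpCat.{u})] in
lemma exists_cyc (W : Cᵒᵖ) (x : (I.cocomplex.X i).obj.obj (op W.unop))
    (hx : (I.cocomplex.d i (i + 1)).hom.app (op W.unop) x = 0) :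
    ∃ k, cyc J I p i W k = x := by
  let S' : ShortComplex (Cᵒᵖ ⥤ AddCommGrpCat.{u}) :=
    ShortComplex.mk (kernel.ι (Spre J I p i).g) (Spre J I p i).g (kernel.condition _)
  have hS' : S'.Exact := ShortComplex.exact_kernel _
  have hW : (S'.map ((evaluation _ _).obj W)).Exact := hS'.map _
  rw [ShortComplex.ab_exact_iff] at hW
  exact hW x hx

omit [HasExt.{u} (Sheaf J AddCommGrpCat.{u})] in
lemma exact_of_eval (T : ShortComplex (Cᵒᵖ ⥤ AddCommGrpCat.{u}))
    (h : ∀ W, (T.map ((evaluation _ _).obj W)).Exact) : T.Exact := by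
  rw [ShortComplex.exact_iff_isZero_homology, Functor.isZero_iff]
  intro W
  have hW := h W
  rw [ShortComplex.exact_iff_isZero_homology] at hW
  exact IsZero.of_iso hW (T.mapHomologyIso ((evaluation _ _).obj W)).symm

variable (hp : (ComplexShape.up ℕ).prev i = p)

/-- the lift of `d : I^p → I^i` to cycles -/
noncomputable abbrev f' : (Spre J I p i).X₁ ⟶ kernel (Spre J I p i).g :=
  (kernelIsKernel (Spre J I p i).g).lift (KernelFork.ofι _ (Spre J I p i).zero)

omit [HasExt.{u} (Sheaf J AddCommGrpCat.{u})] in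
lemma cyc_f' (W : Cᵒᵖ) (x : (I.cocomplex.X p).obj.obj (op W.unop)) :
    cyc J I p i W ((f' J I p i).app W x) = (I.cocomplex.d p i).hom.app (op W.unop) x := by
  have h : f' J I p i ≫ kernel.ι (Spre J I p i).g = (Spre J I p i).f :=
    (kernelIsKernel (Spre J I p i).g).fac _ WalkingParallelPair.zero
  exact congrArg (fun t => t.app W x) h

include hp in
lemma cls_f' (W : Cᵒᵖ) (x : (I.cocomplex.X p).obj.obj (op W.unop)) :
    cls J I p i W ((f' J I p i).app W x) = 0 := by
  rw [cls_eq, InjectiveResolution.extMk_eq_zero_iff'' I i p hp]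
  refine ⟨(a J W.unop (I.cocomplex.X p)).symm x, ?_⟩
  rw [a_symm_nat, cyc_f']

include hp in
lemma wπ : f' J I p i ≫ π J I p i = 0 := by
  ext W x
  exact cls_f' J I p i hp W x

include hp in
lemma exact_T : (ShortComplex.mk (f' J I p i) (π J I p i) (wπ J I p i hp)).Exact := by
  apply exact_of_eval
  intro W
  rw [ShortComplex.ab_exact_iff]
  intro k hk
  change cls J I p i W k = 0 at hk
  rw [cls_eq, InjectiveResolution.extMk_eq_zero_iff'' I i p hp] at hk
  obtain ⟨g, hg⟩ := hk
  refine ⟨a J W.unop (I.cocomplex.X p) g, ?_⟩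
  apply cyc_injective J I p i W
  have e1 := cyc_f' J I p i W (a J W.unop (I.cocomplex.X p) g)
  have e2 : (I.cocomplex.d p i).hom.app (op W.unop) (a J W.unop (I.cocomplex.X p) g) =
      cyc J I p i W k := by
    rw [← a_nat, hg, Equiv.apply_symm_apply]
  exact e1.trans e2

lemma epi_π : Epi (π J I p i) := by
  have : ∀ W, Epi ((π J I p i).app W) := by
    intro W
    rw [AddCommGrpCat.epi_iff_surjective]
    intro α
    obtain ⟨f, hf, rfl⟩ := I.extMk_surjective (X := ZU J W.unop) α (i + 1) rfl
    have hx : (I.cocomplex.d i (i + 1)).hom.app (op W.unop) (a J W.unop _ f) = 0 := by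
      rw [← a_nat, hf, a_zero]
    obtain ⟨k, hk⟩ := exists_cyc J I p i W _ hx
    refine ⟨k, ?_⟩
    change cls J I p i W k = _
    rw [cls_eq]
    apply InjectiveResolution.extMk_congr
    rw [hk, Equiv.symm_apply_apply]
  exact NatTrans.epi_of_epi_app _

/-- left homology data with `H` the cohomology presheaf -/
noncomputable def leftHomologyData : (Spre J I p i).LeftHomologyData where
  K := kernel (Spre J I p i).g
  H := F.cohomologyPresheaf i
  i := kernel.ι _
  π := π J I p i
  wi := kernel.condition _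
  hi := kernelIsKernel _
  wπ := wπ J I p i hp
  hπ := by
    have := epi_π J I p i
    exact (exact_T J I p i hp).gIsCokernel

/-- the homology of the presheaf complex is the cohomology presheaf -/
noncomputable def homologyIso : (Spre J I p i).homology ≅ F.cohomologyPresheaf i :=
  (leftHomologyData J I p i hp).homologyIso

end Groth.Agent.Lib.Helper20.CohPresheafInj
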