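import Mathlib
import Groth.Agent.Lib.Helper20.CoeffFieldP

set_option autoImplicit false
universe u v

namespace Groth.Agent.Lib.Helper20.CohenRingSmooth

open Polynomial IsLocalRing TensorProduct

theorem ker_factor {R : Type*} [CommRing R] {S T : Ideal R} (H : S ≤ T) :
    RingHom.ker (Ideal.Quotient.factor H) = T.map (Ideal.Quotient.mk S) := by
  ext x
  obtain ⟨a, rfl⟩ := Ideal.Quotient.mk_surjective x
  rw [RingHom.mem_ker, Ideal.Quotient.factor_mk, Ideal.Quotient.eq_zero_iff_mem]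
  constructor
  · intro h; exact Ideal.mem_map_of_mem _ h
  · intro h
    rw [Ideal.mem_map_iff_of_surjective _ Ideal.Quotient.mk_surjective] at h
    obtain ⟨b, hb, hab⟩ := h
    have h1 : b - a ∈ S := by rw [← Ideal.Quotient.eq]; exact hab
    have h2 := T.sub_mem hb (H h1)
    simpa using h2

/-- a DVR whose maximal ideal is generated by a prime number has characteristic zero -/
theorem charZero_of_maximalIdeal_eq_span_prime (Λ : Type u) [CommRing Λ] [IsDomain Λ]
    [IsDiscreteValuationRing Λ] (p : ℕ) (hp : p.Prime)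
    (hm : maximalIdeal Λ = Ideal.span {(p : Λ)}) : CharZero Λ := by
  have hp0 : (p : Λ) ≠ 0 := by
    intro h
    apply IsDiscreteValuationRing.not_a_field Λ
    rw [hm, h]
    simp
  rcases CharP.char_is_prime_or_zero Λ (ringChar Λ) with hq | hq
  · exfalso
    set q := ringChar Λ
    have hq0 : (q : Λ) = 0 := CharP.cast_eq_zero Λ q
    -- p and q coprime unless equal
    by_cases hpq : p = q
    · exact hp0 (hpq ▸ hq0)
    · have hcop : Nat.Coprime p q := (Nat.coprime_primes hp hq).mpr hpq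
      have hcop' : IsCoprime (p : ℤ) (q : ℤ) := Nat.isCoprime_iff_coprime.mpr hcop
      obtain ⟨a, b, hab⟩ := hcop'
      have h1 : (a : Λ) * (p : Λ) + (b : Λ) * (q : Λ) = 1 := by
        have := congrArg (Int.cast : ℤ → Λ) hab
        push_cast at this
        exact this
      rw [hq0, mul_zero, add_zero] at h1
      have hpm : (p : Λ) ∈ maximalIdeal Λ := by
        rw [hm]; exact Ideal.subset_span rfl
      have : (1 : Λ) ∈ maximalIdeal Λ := by
        rw [← h1]; exact Ideal.mul_mem_left _ _ hpm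
      exact (Ideal.ne_top_iff_one _).mp (maximalIdeal.isMaximal Λ).ne_top this
  · have : CharP Λ 0 := by
      have := ringChar.charP Λ
      rwa [hq] at this
    exact CharP.charP_to_charZero Λ

section
variable (Λ : Type u) [CommRing Λ] (p : ℕ)

/-- the ideal `(p^k)` of `ℤ` -/
def II (k : ℕ) : Ideal ℤ := Ideal.span {(p : ℤ) ^ k}
/-- the ideal `(p^k)` of `Λ` -/
def JJ (k : ℕ) : Ideal Λ := Ideal.span {(p : Λ) ^ k}

theorem II_le (k : ℕ) : II p k ≤ (JJ Λ p k).comap (Int.castRingHom Λ) := by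
  rw [II, Ideal.span_le, Set.singleton_subset_iff]
  change Int.castRingHom Λ ((p : ℤ) ^ k) ∈ JJ Λ p k
  rw [map_pow, map_natCast]
  exact Ideal.subset_span rfl

/-- the canonical map `ℤ/p^k → Λ/p^k` -/
def ff (k : ℕ) : ℤ ⧸ II p k →+* Λ ⧸ JJ Λ p k :=
  Ideal.quotientMap (JJ Λ p k) (Int.castRingHom Λ) (II_le Λ p k)

theorem hom_ext_quot {R : Type*} [CommRing R] (k : ℕ) (f g : ℤ ⧸ II p k →+* R) : f = g :=
  Ideal.Quotient.ringHom_ext (RingHom.ext_int _ _)

theorem map_II (k : ℕ) : (II p k).map (algebraMap ℤ Λ) = JJ Λ p k := by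
  rw [II, Ideal.map_span, Set.image_singleton, map_pow, map_natCast]
  rfl

theorem ff_flat [Module.Flat ℤ Λ] (k : ℕ) : (ff Λ p k).Flat := by
  let e := Algebra.TensorProduct.quotIdealMapEquivQuotTensor Λ (II p k)
  have h1 : Module.Flat (ℤ ⧸ II p k) (Λ ⧸ (II p k).map (algebraMap ℤ Λ)) :=
    Module.Flat.of_linearEquiv e.toLinearEquiv
  have h2 : (algebraMap (ℤ ⧸ II p k) (Λ ⧸ (II p k).map (algebraMap ℤ Λ))).Flat :=
    RingHom.flat_algebraMap_iff.mpr h1
  let e2 : (Λ ⧸ (II p k).map (algebraMap ℤ Λ)) ≃+* Λ ⧸ JJ Λ p k :=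
    Ideal.quotEquivOfEq (map_II Λ p k)
  have h3 : (e2.toRingHom).Flat := RingHom.Flat.of_bijective e2.bijective
  have h4 := h2.comp h3
  have : ff Λ p k = e2.toRingHom.comp
      (algebraMap (ℤ ⧸ II p k) (Λ ⧸ (II p k).map (algebraMap ℤ Λ))) := hom_ext_quot p k _ _
  rw [this]
  exact h4

end

section
variable (Λ : Type u) [CommRing Λ] (p : ℕ)

theorem II_anti (k : ℕ) : II p (k + 1) ≤ II p k := by
  rw [II, II, Ideal.span_singleton_le_span_singleton, pow_succ]
  exact Dvd.intro _ rfl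

theorem JJ_anti (k : ℕ) : JJ Λ p (k + 1) ≤ JJ Λ p k := by
  rw [JJ, JJ, Ideal.span_singleton_le_span_singleton, pow_succ]
  exact Dvd.intro _ rfl

/-- induction step -/
theorem ff_formallySmooth_succ [Module.Flat ℤ Λ] (k : ℕ) (hk : 1 ≤ k)
    (h : (ff Λ p k).FormallySmooth) : (ff Λ p (k + 1)).FormallySmooth := by
  let qR : ℤ ⧸ II p (k + 1) →+* ℤ ⧸ II p k := Ideal.Quotient.factor (II_anti p k)
  let qS : Λ ⧸ JJ Λ p (k + 1) →+* Λ ⧸ JJ Λ p k := Ideal.Quotient.factor (JJ_anti Λ p k)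
  have hkerR : RingHom.ker qR =
      Ideal.span {Ideal.Quotient.mk (II p (k + 1)) ((p : ℤ) ^ k)} := by
    rw [ker_factor]
    unfold II
    rw [Ideal.map_span, Set.image_singleton]
  have hkerS : RingHom.ker qS =
      Ideal.span {Ideal.Quotient.mk (JJ Λ p (k + 1)) ((p : Λ) ^ k)} := by
    rw [ker_factor]
    unfold JJ
    rw [Ideal.map_span, Set.image_singleton]
  have hffmk : ff Λ p (k + 1) (Ideal.Quotient.mk (II p (k + 1)) ((p : ℤ) ^ k)) =
      Ideal.Quotient.mk (JJ Λ p (k + 1)) ((p : Λ) ^ k) := by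
    change Ideal.quotientMap (JJ Λ p (k + 1)) (Int.castRingHom Λ) _ _ = _
    rw [Ideal.quotientMap_mk]
    congr 1
    rw [map_pow, map_natCast]
  refine RingHom.FormallySmooth.of_flat_of_ker_eq_map_of_square_zero (ff Λ p (k + 1))
    (ff_flat Λ p (k + 1)) qR qS (ff Λ p k) (Ideal.Quotient.factor_surjective _)
    (Ideal.Quotient.factor_surjective _) (hom_ext_quot p (k + 1) _ _) ?_ ?_ h
  · rw [hkerR, Ideal.span_singleton_pow, ← map_pow, ← pow_mul]
    rw [Ideal.span_singleton_eq_bot, Ideal.Quotient.eq_zero_iff_mem, II,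
      Ideal.mem_span_singleton]
    exact pow_dvd_pow _ (by omega)
  · rw [hkerS, hkerR, Ideal.map_span, Set.image_singleton]
    rw [hffmk]

end

theorem ff_formallySmooth_one (Λ : Type u) [CommRing Λ] [IsDomain Λ]
    [IsDiscreteValuationRing Λ] (p : ℕ) (hp : p.Prime)
    (hm : maximalIdeal Λ = Ideal.span {(p : Λ)}) : (ff Λ p 1).FormallySmooth := by
  have hJ1 : JJ Λ p 1 = maximalIdeal Λ := by rw [JJ, pow_one, hm]
  have hmax : (JJ Λ p 1).IsMaximal := hJ1 ▸ maximalIdeal.isMaximal Λ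
  let _ : Field (Λ ⧸ JJ Λ p 1) := Ideal.Quotient.field _
  have : Fact p.Prime := ⟨hp⟩
  have hchar : CharP (Λ ⧸ JJ Λ p 1) p := by
    rw [CharP.charP_iff_prime_eq_zero hp]
    have h1 : (p : Λ ⧸ JJ Λ p 1) = Ideal.Quotient.mk (JJ Λ p 1) (p : Λ) :=
      (map_natCast (Ideal.Quotient.mk (JJ Λ p 1)) p).symm
    rw [h1, Ideal.Quotient.eq_zero_iff_mem, hJ1, hm]
    exact Ideal.subset_span rfl
  let g : ZMod p →+* Λ ⧸ JJ Λ p 1 := ZMod.castHom (dvd_refl p) _
  have hg : g.FormallySmooth := by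
    let _ := g.toAlgebra
    exact CoeffFieldP.formallySmooth_of_perfectField_charP (ZMod p) (Λ ⧸ JJ Λ p 1) p
  have hI1 : II p 1 = Ideal.span {(p : ℤ)} := by rw [II, pow_one]
  let e : ℤ ⧸ II p 1 ≃+* ZMod p :=
    (Ideal.quotEquivOfEq hI1).trans (Int.quotientSpanNatEquivZMod p)
  have hff : ff Λ p 1 = g.comp e.toRingHom := hom_ext_quot p 1 _ _
  rw [hff]
  exact (RingHom.FormallySmooth.of_bijective e.bijective).comp hg

/-- If `Λ` is a DVR with maximal ideal `(p)` (e.g. a Cohen ring), `Λ/pⁿ` is formally smooth over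
`ℤ/pⁿ`. -/
theorem formallySmooth_zmod_quotient (Λ : Type u) [CommRing Λ] [IsDomain Λ]
    [IsDiscreteValuationRing Λ] (p : ℕ)
    (hp : p.Prime) (hm : maximalIdeal Λ = Ideal.span {(p : Λ)}) (n : ℕ) (hn : 1 ≤ n)
    [Algebra (ZMod (p ^ n)) (Λ ⧸ Ideal.span {((p : Λ) ^ n)})] :
    Algebra.FormallySmooth (ZMod (p ^ n)) (Λ ⧸ Ideal.span {((p : Λ) ^ n)}) := by
  have hcz : CharZero Λ := charZero_of_maximalIdeal_eq_span_prime Λ p hp hm
  have hflat : Module.Flat ℤ Λ := inferInstance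
  have hall : ∀ k, 1 ≤ k → (ff Λ p k).FormallySmooth := by
    intro k hk
    induction k, hk using Nat.le_induction with
    | base => exact ff_formallySmooth_one Λ p hp hm
    | succ k hk ih => exact ff_formallySmooth_succ Λ p k hk ih
  rw [← RingHom.formallySmooth_algebraMap]
  have hIn : Ideal.span {((p ^ n : ℕ) : ℤ)} = II p n := by rw [II, Nat.cast_pow]
  let e : ZMod (p ^ n) ≃+* ℤ ⧸ II p n :=
    (Int.quotientSpanNatEquivZMod (p ^ n)).symm.trans (Ideal.quotEquivOfEq hIn)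
  have hcomp : algebraMap (ZMod (p ^ n)) (Λ ⧸ Ideal.span {((p : Λ) ^ n)}) =
      (ff Λ p n).comp e.toRingHom := Subsingleton.elim _ _
  rw [hcomp]
  exact (RingHom.FormallySmooth.of_bijective e.bijective).comp (hall n hn)

end Groth.Agent.Lib.Helper20.CohenRingSmooth
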