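import Mathlib

/-!
# Colimits over categories whose connected components are filtered

If a small category `I` has pushouts and coequalizers then each connected component is filtered,
and so colimits of shape `I` in `Ab` preserve monomorphisms (they are coproducts of filtered
colimits).
-/

set_option autoImplicit false
universe u
open CategoryTheory Limits Opposite

namespace Groth.Agent.Lib.Helper20.ComponentwiseFiltered

section Filtered

variable {I : Type u} [Category.{u} I]

/-- With pushouts, any zigzag can be completed to a cospan. -/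
theorem exists_cospan_of_zigzag [HasPushouts I] {a b : I} (h : Zigzag a b) :
    ∃ (w : I), Nonempty (a ⟶ w) ∧ Nonempty (b ⟶ w) := by
  induction h with
  | refl => exact ⟨a, ⟨𝟙 a⟩, ⟨𝟙 a⟩⟩
  | @tail b b' _ hz ih =>
    obtain ⟨w, ⟨f⟩, ⟨g⟩⟩ := ih
    rcases hz with ⟨⟨k⟩⟩ | ⟨⟨k⟩⟩
    · exact ⟨pushout g k, ⟨f ≫ pushout.inl g k⟩, ⟨pushout.inr g k⟩⟩
    · exact ⟨w, ⟨f⟩, ⟨k ≫ g⟩⟩

instance isFiltered_component [HasPushouts I] [HasCoequalizers I] (c : ConnectedComponents I) :
    IsFiltered c.Component := by
  have : IsFilteredOrEmpty c.Component := by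
    constructor
    · rintro ⟨x, hx⟩ ⟨y, hy⟩
      have hz : Zigzag x y := Quotient.exact' (hx.trans hy.symm)
      obtain ⟨w, ⟨f⟩, ⟨g⟩⟩ := exists_cospan_of_zigzag hz
      have hw : CategoryTheory.ConnectedComponents.mk w = c :=
        (Quotient.sound' (show Zigzag x w from
          Relation.ReflTransGen.single (Or.inl ⟨f⟩))).symm.trans hx
      exact ⟨(⟨w, hw⟩ : c.Component), ObjectProperty.homMk f, ObjectProperty.homMk g, trivial⟩
    · rintro ⟨x, hx⟩ ⟨y, hy⟩ f g
      have hw : CategoryTheory.ConnectedComponents.mk (coequalizer f.hom g.hom) = c :=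
        (Quotient.sound' (show Zigzag y (coequalizer f.hom g.hom) from
          Relation.ReflTransGen.single (Or.inl ⟨coequalizer.π f.hom g.hom⟩))).symm.trans hy
      refine ⟨(⟨coequalizer f.hom g.hom, hw⟩ : c.Component),
        ObjectProperty.homMk (coequalizer.π f.hom g.hom), ?_⟩
      apply ObjectProperty.hom_ext
      exact coequalizer.condition f.hom g.hom
  exact { nonempty := inferInstance }

end Filtered

section Decompose

variable {I : Type u} [Category.{u} I]

/-- The coproduct of the colimits over the connected components. -/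
noncomputable abbrev P (K : I ⥤ AddCommGrpCat.{u}) : AddCommGrpCat.{u} :=
  ∐ (fun c : CategoryTheory.ConnectedComponents I => colimit (c.ι ⋙ K))

/-- The legs of the decomposed cocone. -/
noncomputable def leg (K : I ⥤ AddCommGrpCat.{u}) (x : I)
    (c : CategoryTheory.ConnectedComponents I)
    (h : CategoryTheory.ConnectedComponents.mk x = c) : K.obj x ⟶ P K :=
  colimit.ι (c.ι ⋙ K) (⟨x, h⟩ : c.Component) ≫
    Sigma.ι (fun c : CategoryTheory.ConnectedComponents I => colimit (c.ι ⋙ K)) c

theorem leg_eq (K : I ⥤ AddCommGrpCat.{u}) (x : I)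
    (c : CategoryTheory.ConnectedComponents I)
    (h : CategoryTheory.ConnectedComponents.mk x = c) :
    leg K x c h = leg K x _ rfl := by
  subst h; rfl

theorem leg_w (K : I ⥤ AddCommGrpCat.{u}) {x y : I} (f : x ⟶ y)
    (c : CategoryTheory.ConnectedComponents I)
    (h : CategoryTheory.ConnectedComponents.mk y = c)
    (h' : CategoryTheory.ConnectedComponents.mk x = c) :
    K.map f ≫ leg K y c h = leg K x c h' := by
  unfold leg
  have := colimit.w (c.ι ⋙ K)
    (ObjectProperty.homMk f : (⟨x, h'⟩ : c.Component) ⟶ (⟨y, h⟩ : c.Component))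
  rw [← this, Category.assoc]
  rfl

/-- The decomposed cocone. -/
noncomputable def cocone (K : I ⥤ AddCommGrpCat.{u}) : Cocone K where
  pt := P K
  ι :=
    { app := fun x => leg K x _ rfl
      naturality := by
        intro x y f
        have e : CategoryTheory.ConnectedComponents.mk x = CategoryTheory.ConnectedComponents.mk y :=
          Quotient.sound' (show Zigzag x y from Relation.ReflTransGen.single (Or.inl ⟨f⟩))
        have := leg_w K f _ rfl e
        dsimp
        rw [Category.comp_id, this, leg_eq] }

/-- The decomposed cocone is a colimit. -/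
noncomputable def isColimit (K : I ⥤ AddCommGrpCat.{u}) : IsColimit (cocone K) where
  desc s := Sigma.desc (fun c => colimit.desc (c.ι ⋙ K) (s.whisker c.ι))
  fac s x := by
    change leg K x _ rfl ≫ _ = _
    unfold leg
    simp
  uniq s m hm := by
    apply Sigma.hom_ext
    intro c
    apply colimit.hom_ext
    rintro ⟨x, h⟩
    have h1 := hm x
    change leg K x _ rfl ≫ m = _ at h1
    rw [← leg_eq K x c h] at h1
    unfold leg at h1
    rw [Category.assoc] at h1
    rw [h1]
    simp

end Decompose

section Mono

variable {I : Type u} [Category.{u} I] [HasPushouts I] [HasCoequalizers I]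

theorem mono_sigmaMap {ι : Type u} {A B : ι → AddCommGrpCat.{u}} (f : ∀ i, A i ⟶ B i)
    [∀ i, Mono (f i)] : Mono (Limits.Sigma.map f) := by
  have h1 : Mono (Discrete.natTrans (F := Discrete.functor A)
      (G := Discrete.functor B) (fun i => f i.as)) := by
    have : ∀ X : Discrete ι, Mono ((Discrete.natTrans (F := Discrete.functor A)
      (G := Discrete.functor B) (fun i => f i.as)).app X) := by
      intro X
      dsimp
      infer_instance
    exact NatTrans.mono_of_mono_app _
  have h2 : Mono ((colim : (Discrete ι ⥤ AddCommGrpCat.{u}) ⥤ _).map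
      (Discrete.natTrans (F := Discrete.functor A)
      (G := Discrete.functor B) (fun i => f i.as))) := inferInstance
  exact h2

/-- Colimits in `Ab` over a small category with pushouts and coequalizers preserve
pointwise monomorphisms. -/
theorem mono_colimMap {K K' : I ⥤ AddCommGrpCat.{u}} (β : K ⟶ K') [∀ j, Mono (β.app j)] :
    Mono (colimMap β) := by
  let e : colimit K ≅ P K := (colimit.isColimit K).coconePointUniqueUpToIso (isColimit K)
  let e' : colimit K' ≅ P K' := (colimit.isColimit K').coconePointUniqueUpToIso (isColimit K')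
  let σ : P K ⟶ P K' := Limits.Sigma.map (fun c : CategoryTheory.ConnectedComponents I =>
    colimMap (Functor.whiskerLeft c.ι β))
  have hσ : Mono σ := by
    have : ∀ c : CategoryTheory.ConnectedComponents I,
        Mono (colimMap (Functor.whiskerLeft c.ι β)) := by
      intro c
      have h1 : Mono (Functor.whiskerLeft c.ι β) := by
        have : ∀ t, Mono ((Functor.whiskerLeft c.ι β).app t) := fun t => by
          dsimp; infer_instance
        exact NatTrans.mono_of_mono_app _
      exact (inferInstance : Mono (colim.map (Functor.whiskerLeft c.ι β)))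
    exact mono_sigmaMap _
  have h : colimMap β ≫ e'.hom = e.hom ≫ σ := by
    apply colimit.hom_ext
    intro x
    have h1 : colimit.ι K x ≫ e.hom = leg K x _ rfl :=
      (colimit.isColimit K).comp_coconePointUniqueUpToIso_hom (isColimit K) x
    have h2 : colimit.ι K' x ≫ e'.hom = leg K' x _ rfl :=
      (colimit.isColimit K').comp_coconePointUniqueUpToIso_hom (isColimit K') x
    rw [ι_colimMap_assoc, h2, ← Category.assoc, h1]
    unfold leg
    simp [σ]
  have h2 : colimMap β = e.hom ≫ σ ≫ e'.inv := by
    rw [← Category.assoc, ← h, Category.assoc, Iso.hom_inv_id, Category.comp_id]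
  rw [h2]
  infer_instance

end Mono

end Groth.Agent.Lib.Helper20.ComponentwiseFiltered
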