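import Mathlib

/-!
# A closeness lemma in a Noetherian local UFD

If `U V = t₁ t₂ ≠ 0` and `U ≡ t₁`, `V ≡ t₂` modulo a high power of the maximal ideal, then
`U ~ t₁` and `V ~ t₂`.
-/

set_option autoImplicit false
set_option linter.style.haveILetI false
set_option linter.unusedSectionVars false
universe u

namespace Groth.Agent.Lib.Helper20.Node

open IsLocalRing

variable {D : Type u} [CommRing D] [IsNoetherianRing D] [IsLocalRing D]

/-- ideals are closed: if `t ∉ J` then `t ∉ J ⊔ 𝔪^N` for some `N`. -/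
theorem exists_notMem_sup_pow (J : Ideal D) (t : D) (ht : t ∉ J) :
    ∃ N : ℕ, t ∉ J ⊔ maximalIdeal D ^ N := by
  by_contra hcon
  push Not at hcon
  apply ht
  have hle : maximalIdeal D ≤ (⊥ : Ideal D).jacobson := by
    rw [IsLocalRing.jacobson_eq_maximalIdeal ⊥ bot_ne_top]
  have hbot := Ideal.iInf_pow_smul_eq_bot_of_le_jacobson (M := D ⧸ J) (maximalIdeal D) hle
  have hmem : (Ideal.Quotient.mk J t : D ⧸ J) ∈
      (⨅ i : ℕ, maximalIdeal D ^ i • (⊤ : Submodule D (D ⧸ J))) := by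
    rw [Submodule.mem_iInf]
    intro N
    obtain ⟨j, hj, y, hy, hjy⟩ := Submodule.mem_sup.mp (hcon N)
    have h1 : (Ideal.Quotient.mk J t : D ⧸ J) = y • (Ideal.Quotient.mk J 1 : D ⧸ J) := by
      rw [← hjy, map_add, Ideal.Quotient.eq_zero_iff_mem.mpr hj, zero_add]
      change _ = Ideal.Quotient.mk J (y * 1)
      rw [mul_one]
    rw [h1]
    exact Submodule.smul_mem_smul hy Submodule.mem_top
  rw [hbot, Submodule.mem_bot] at hmem
  exact Ideal.Quotient.eq_zero_iff_mem.mp hmem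

/-- monotonicity of the exclusion in `N`. -/
theorem notMem_sup_pow_mono (J : Ideal D) (t : D) {N N' : ℕ} (h : N ≤ N')
    (ht : t ∉ J ⊔ maximalIdeal D ^ N) : t ∉ J ⊔ maximalIdeal D ^ N' := fun h' =>
  ht (sup_le_sup_left (Ideal.pow_le_pow_right h) J h')

variable [IsDomain D] [UniqueFactorizationMonoid D]

/-- for a prime `q` and `t ≠ 0` there is `N` such that `q^k ∣ U`, `U ≡ t mod 𝔪^N` imply
`q^k ∣ t`. -/
theorem exists_pow_bound (q t : D) (hq : Prime q) (ht : t ≠ 0) :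
    ∃ N : ℕ, ∀ N' ≥ N, ∀ (U : D) (k : ℕ), q ^ k ∣ U → U - t ∈ maximalIdeal D ^ N' → q ^ k ∣ t := by
  have hfin : FiniteMultiplicity q t := FiniteMultiplicity.of_prime_left hq ht
  obtain ⟨a, ha⟩ : ∃ a : ℕ, ¬ q ^ (a + 1) ∣ t := hfin
  -- choose the least such `a`
  classical
  let a₀ := Nat.find (⟨a, ha⟩ : ∃ a : ℕ, ¬ q ^ (a + 1) ∣ t)
  have ha₀ : ¬ q ^ (a₀ + 1) ∣ t := Nat.find_spec (⟨a, ha⟩ : ∃ a : ℕ, ¬ q ^ (a + 1) ∣ t)
  have ha₀' : q ^ a₀ ∣ t := by
    by_cases h0 : a₀ = 0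
    · rw [h0, pow_zero]
      exact one_dvd t
    · obtain ⟨b, hb⟩ := Nat.exists_eq_succ_of_ne_zero h0
      have := Nat.find_min (⟨a, ha⟩ : ∃ a : ℕ, ¬ q ^ (a + 1) ∣ t) (m := b) (by
        change b < a₀
        omega)
      rw [not_not] at this
      rw [hb]
      exact this
  have hnm : t ∉ Ideal.span {q ^ (a₀ + 1)} := by
    rw [Ideal.mem_span_singleton]
    exact ha₀
  obtain ⟨N, hN⟩ := exists_notMem_sup_pow (Ideal.span {q ^ (a₀ + 1)}) t hnm
  refine ⟨N, fun N' hN' U k hk hU => ?_⟩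
  have hN'' := notMem_sup_pow_mono _ t hN' hN
  by_cases hka : k ≤ a₀
  · exact (pow_dvd_pow q hka).trans ha₀'
  · exfalso
    apply hN''
    have h1 : q ^ (a₀ + 1) ∣ U := (pow_dvd_pow q (by omega)).trans hk
    have h2 : t = U - (U - t) := by ring
    rw [h2]
    exact Ideal.sub_mem _ (Ideal.mem_sup_left (Ideal.mem_span_singleton.mpr h1))
      (Ideal.mem_sup_right hU)

/-- a uniform bound over a multiset of primes. -/
theorem exists_pow_bound_multiset (s : Multiset D) (hs : ∀ q ∈ s, Prime q) (t : D) (ht : t ≠ 0) :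
    ∃ N : ℕ, ∀ N' ≥ N, ∀ q ∈ s, ∀ (U : D) (k : ℕ), q ^ k ∣ U →
      U - t ∈ maximalIdeal D ^ N' → q ^ k ∣ t := by
  induction s using Multiset.induction_on with
  | empty => exact ⟨0, fun _ _ q hq => absurd hq (Multiset.notMem_zero q)⟩
  | cons q s ih =>
    obtain ⟨N₁, h₁⟩ := ih (fun q' hq' => hs q' (Multiset.mem_cons_of_mem hq'))
    obtain ⟨N₂, h₂⟩ := exists_pow_bound q t (hs q (Multiset.mem_cons_self q s)) ht
    refine ⟨max N₁ N₂, fun N' hN' q' hq' U k hk hU => ?_⟩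
    rcases Multiset.mem_cons.mp hq' with rfl | hq'
    · exact h₂ N' (le_trans (le_max_right _ _) hN') U k hk hU
    · exact h₁ N' (le_trans (le_max_left _ _) hN') q' hq' U k hk hU

/-- **Closeness lemma.** -/
theorem exists_bound_associated (t₁ t₂ : D) (h₁ : t₁ ≠ 0) (h₂ : t₂ ≠ 0) :
    ∃ N : ℕ, ∀ N' ≥ N, ∀ U V : D, U * V = t₁ * t₂ → U - t₁ ∈ maximalIdeal D ^ N' →
      V - t₂ ∈ maximalIdeal D ^ N' → Associated U t₁ ∧ Associated V t₂ := by
  have hΔ : t₁ * t₂ ≠ 0 := mul_ne_zero h₁ h₂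
  have hprime : ∀ q ∈ UniqueFactorizationMonoid.factors (t₁ * t₂), Prime q := fun q hq =>
    UniqueFactorizationMonoid.prime_of_factor q hq
  obtain ⟨N₁, hN₁⟩ := exists_pow_bound_multiset _ hprime t₁ h₁
  obtain ⟨N₂, hN₂⟩ := exists_pow_bound_multiset _ hprime t₂ h₂
  refine ⟨max N₁ N₂, fun N' hN' U V hUV hU hV => ?_⟩
  have hU0 : U ≠ 0 := fun h => hΔ (by rw [← hUV, h, zero_mul])
  have hV0 : V ≠ 0 := fun h => hΔ (by rw [← hUV, h, mul_zero])
  -- generic divisibility argument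
  have key : ∀ (N₀ : ℕ) (W t W' : D), W ≠ 0 → W * W' = t₁ * t₂ →
      (∀ q ∈ UniqueFactorizationMonoid.factors (t₁ * t₂), ∀ (U : D) (k : ℕ), q ^ k ∣ U →
        U - t ∈ maximalIdeal D ^ N' → q ^ k ∣ t) →
      W - t ∈ maximalIdeal D ^ N' → W ∣ t := by
    intro N₀ W t W' hW0 hWW' hb hWt
    rw [UniqueFactorizationMonoid.dvd_iff_emultiplicity_le hW0]
    intro p hp
    by_cases hpW : p ∣ W
    · -- `p` divides `Δ`, hence is associated to a factor `q`
      have hpΔ : p ∣ t₁ * t₂ := by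
        rw [← hWW']
        exact hpW.mul_right W'
      obtain ⟨q, hq, hpq⟩ := UniqueFactorizationMonoid.exists_mem_factors_of_dvd hΔ
        hp.irreducible hpΔ
      rw [emultiplicity_le_emultiplicity_iff]
      intro k hk
      have h1 : q ^ k ∣ W := (hpq.symm.pow_pow (n := k)).dvd.trans hk
      have h2 := hb q hq W k h1 hWt
      exact (hpq.pow_pow (n := k)).dvd.trans h2
    · rw [emultiplicity_eq_zero.mpr hpW]
      exact zero_le
  have hUt : U ∣ t₁ := key N₁ U t₁ V hU0 hUV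
    (fun q hq => hN₁ N' (le_trans (le_max_left _ _) hN') q hq) hU
  have hVt : V ∣ t₂ := key N₂ V t₂ U hV0 (by rw [mul_comm]; exact hUV)
    (fun q hq => hN₂ N' (le_trans (le_max_right _ _) hN') q hq) hV
  obtain ⟨u, hu⟩ := hUt
  obtain ⟨v, hv⟩ := hVt
  have huv : u * v = 1 := by
    have h3 : U * V * (u * v) = U * V * 1 := by
      rw [mul_one]
      calc U * V * (u * v) = (U * u) * (V * v) := by ring
        _ = t₁ * t₂ := by rw [← hu, ← hv]
        _ = U * V := hUV.symm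
    exact mul_left_cancel₀ (mul_ne_zero hU0 hV0) h3
  have hu' : IsUnit u := IsUnit.of_mul_eq_one v huv
  have hv' : IsUnit v := IsUnit.of_mul_eq_one u (by rw [mul_comm]; exact huv)
  exact ⟨⟨hu'.unit, by rw [IsUnit.unit_spec]; exact hu.symm⟩,
    ⟨hv'.unit, by rw [IsUnit.unit_spec]; exact hv.symm⟩⟩

end Groth.Agent.Lib.Helper20.Node
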