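import Mathlib
import Groth.Prelude.Def_FSch3
import Groth.Agent.Lib.Helper23.CohenFact
import Groth.Agent.Lib.Helper8.AA2
import Groth.Agent.Lib.Helper21.AdicNoetherian
import Groth.Agent.Lib.Helper20.NodeA

/-!
# Retractions realizing a factorization of the node parameter
-/

set_option autoImplicit false
set_option linter.style.haveILetI false
set_option linter.unusedSectionVars false
universe u

namespace Groth.Agent.Lib.Helper20.Node

open IsLocalRing MvPowerSeries

section complMap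

variable {S T : Type u} [CommRing S] [CommRing T] (I : Ideal S) (K : Ideal T) (g : S →+* T)
  (h : I.map g ≤ K)

theorem evalₐ_complMap (n : ℕ) (x : AdicCompletion I S) :
    AdicCompletion.evalₐ K n (FSch.complMap I K g h x) =
      Ideal.quotientMap (K ^ n) g (FSch.pow_le_comap_pow_of_map_le I K g h n)
        (AdicCompletion.evalₐ I n x) := by
  unfold FSch.complMap
  generalize_proofs h1 h2 h3 h4 h5 h6 h7 h8 h9 h10 h11
  exact AdicCompletion.evalₐ_liftRingHom K _ h11 n x

theorem complMap_of (s : S) :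
    FSch.complMap I K g h (AdicCompletion.of I S s) = AdicCompletion.of K T (g s) := by
  apply AdicCompletion.ext_evalₐ
  intro n
  rw [evalₐ_complMap, AdicCompletion.evalₐ_of, AdicCompletion.evalₐ_of, Ideal.quotientMap_mk]

end complMap

section formal

variable (D : Type u) [CommRing D] [IsLocalRing D] [IsAdicComplete (maximalIdeal D) D]
  (d₁ d₂ δ : D) (h₁ : d₁ ∈ maximalIdeal D) (h₂ : d₂ ∈ maximalIdeal D) (hδ : d₁ * d₂ = δ)

/-- the values of the variables -/
def vals : Fin 2 → D := ![d₁, d₂]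

include h₁ h₂ in
theorem vals_mem : ∀ i, vals D d₁ d₂ i ∈ maximalIdeal D := by
  intro i
  fin_cases i
  · exact h₁
  · exact h₂

/-- the formal section `D[[u,v]]/(uv - δ) → D`, `u ↦ d₁`, `v ↦ d₂`. -/
noncomputable def sec : (MvPowerSeries (Fin 2) D ⧸ Ideal.span {(X 0 * X 1 - MvPowerSeries.C δ : MvPowerSeries (Fin 2) D)}) →+* D :=
  Ideal.Quotient.lift _
    (Groth.Agent.Lib.Helper23.CohenFact.evalC (maximalIdeal D) (RingHom.id D) (vals D d₁ d₂)
      (vals_mem D d₁ d₂ h₁ h₂)) (by
    intro a ha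
    obtain ⟨r, rfl⟩ := Ideal.mem_span_singleton'.mp ha
    rw [map_mul]
    have : Groth.Agent.Lib.Helper23.CohenFact.evalC (maximalIdeal D) (RingHom.id D) (vals D d₁ d₂)
        (vals_mem D d₁ d₂ h₁ h₂) (X 0 * X 1 - MvPowerSeries.C δ) = 0 := by
      rw [map_sub, map_mul, Groth.Agent.Lib.Helper23.CohenFact.evalC_X,
        Groth.Agent.Lib.Helper23.CohenFact.evalC_X, Groth.Agent.Lib.Helper23.CohenFact.evalC_C]
      change d₁ * d₂ - δ = 0
      rw [hδ, sub_self]
    rw [this, mul_zero])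

theorem sec_C (w : D) :
    sec D d₁ d₂ δ h₁ h₂ hδ (Ideal.Quotient.mk _ (MvPowerSeries.C w)) = w := by
  unfold sec
  rw [Ideal.Quotient.lift_mk, Groth.Agent.Lib.Helper23.CohenFact.evalC_C]
  rfl

theorem sec_X0 : sec D d₁ d₂ δ h₁ h₂ hδ (Ideal.Quotient.mk _ (X 0)) = d₁ := by
  unfold sec
  rw [Ideal.Quotient.lift_mk, Groth.Agent.Lib.Helper23.CohenFact.evalC_X]
  rfl

theorem sec_X1 : sec D d₁ d₂ δ h₁ h₂ hδ (Ideal.Quotient.mk _ (X 1)) = d₂ := by
  unfold sec
  rw [Ideal.Quotient.lift_mk, Groth.Agent.Lib.Helper23.CohenFact.evalC_X]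
  rfl

end formal

end Groth.Agent.Lib.Helper20.Node
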