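import Mathlib
import Groth.Prelude.Def_FSch3
import Groth.Agent.Lib.Helper20.NodeB
import Groth.Agent.Lib.Helper15.RigClosed
import Groth.Agent.Lib.Helper8.AA1

/-!
# Completions of a local homomorphism with finite closed fibre
-/

set_option autoImplicit false
set_option linter.style.haveILetI false
set_option linter.unusedSectionVars false
universe u

namespace Groth.Agent.Lib.Helper20.CplFin

open IsLocalRing Groth.Agent.Lib.Helper20.Node

section topo

variable {S : Type u} [CommRing S] (I K : Ideal S)

/-- a Cauchy sequence: helper to get membership in `I^m` from the Cauchy property. -/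
theorem cauchy_sub_mem (y : AdicCompletion.AdicCauchySequence I S) {m n : ℕ} (h : m ≤ n) :
    y.val m - y.val n ∈ I ^ m := by
  have := y.2 h
  rw [SModEq.sub_mem] at this
  simpa only [smul_eq_mul, Ideal.mul_top] using this

/-- If `I ≤ K` and `K^k ≤ I`, the canonical map from the `I`-adic to the `K`-adic completion is
bijective. -/
theorem complMap_id_bijective (h' : I.map (RingHom.id S) ≤ K) (k : ℕ) (hk : K ^ k ≤ I) :
    Function.Bijective (FSch.complMap I K (RingHom.id S) h') := by
  have hIK : I ≤ K := by
    rw [Ideal.map_id] at h'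
    exact h'
  -- wlog `k ≥ 1`
  obtain ⟨k, hk1, hk⟩ : ∃ k : ℕ, 1 ≤ k ∧ K ^ k ≤ I :=
    ⟨k + 1, by omega, (Ideal.pow_le_pow_right (Nat.le_succ k)).trans hk⟩
  have hpow : ∀ j : ℕ, K ^ (k * j) ≤ I ^ j := by
    intro j
    rw [pow_mul]
    exact Ideal.pow_right_mono hk j
  have heval : ∀ (n : ℕ) (y : AdicCompletion.AdicCauchySequence I S),
      AdicCompletion.evalₐ K n (FSch.complMap I K (RingHom.id S) h' (AdicCompletion.mk I S y)) =
        Ideal.Quotient.mk (K ^ n) (y.val n) := by
    intro n y
    rw [evalₐ_complMap, AdicCompletion.evalₐ_mk, Ideal.quotientMap_mk]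
    rfl
  constructor
  · rw [injective_iff_map_eq_zero]
    intro x hx
    obtain ⟨y, rfl⟩ := AdicCompletion.mk_surjective I S x
    have hy : ∀ n, y.val n ∈ K ^ n := by
      intro n
      have := heval n y
      rw [hx, map_zero] at this
      exact Ideal.Quotient.eq_zero_iff_mem.mp this.symm
    apply AdicCompletion.ext_evalₐ
    intro j
    rw [map_zero, AdicCompletion.evalₐ_mk, Ideal.Quotient.eq_zero_iff_mem]
    have h1 : y.val (k * j) ∈ I ^ j := hpow j (hy (k * j))
    have h2 : y.val j - y.val (k * j) ∈ I ^ j :=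
      cauchy_sub_mem I y (Nat.le_mul_of_pos_left j hk1)
    have h3 : y.val j = (y.val j - y.val (k * j)) + y.val (k * j) := by ring
    rw [h3]
    exact Ideal.add_mem _ h2 h1
  · intro z
    obtain ⟨w, rfl⟩ := AdicCompletion.mk_surjective K S z
    have hcau : ∀ n, w.val (k * n) ≡ w.val (k * (n + 1)) [SMOD (I ^ n • ⊤ : Submodule S S)] := by
      intro n
      rw [SModEq.sub_mem, smul_eq_mul, Ideal.mul_top]
      exact hpow n (cauchy_sub_mem K w (Nat.mul_le_mul_left k (Nat.le_succ n)))
    let y : AdicCompletion.AdicCauchySequence I S := AdicCompletion.AdicCauchySequence.mk I S (fun n => w.val (k * n)) hcau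
    refine ⟨AdicCompletion.mk I S y, ?_⟩
    apply AdicCompletion.ext_evalₐ
    intro n
    rw [heval, AdicCompletion.evalₐ_mk, Ideal.Quotient.eq]
    change w.val (k * n) - w.val n ∈ K ^ n
    have := cauchy_sub_mem K w (Nat.le_mul_of_pos_left n hk1)
    rw [← neg_sub]
    exact (K ^ n).neg_mem this

end topo

section fibre

variable (R S : Type u) [CommRing R] [CommRing S] [IsLocalRing R] [IsLocalRing S] [Algebra R S]
  [IsLocalHom (algebraMap R S)]

/-- the canonical ring map from the fibre `κ(m) ⊗ S` onto `S / mS`. -/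
noncomputable def fibreToQuot :
    (maximalIdeal R).Fiber S →ₐ[R] S ⧸ (maximalIdeal R).map (algebraMap R S) :=
  let e : (R ⧸ maximalIdeal R) ≃+* (maximalIdeal R).ResidueField :=
    RingEquiv.ofBijective (algebraMap (R ⧸ maximalIdeal R) (maximalIdeal R).ResidueField)
      (Ideal.bijective_algebraMap_quotient_residueField (maximalIdeal R))
  let ρ : (maximalIdeal R).ResidueField →ₐ[R] S ⧸ (maximalIdeal R).map (algebraMap R S) :=
    { toRingHom := (algebraMap (R ⧸ maximalIdeal R)
        (S ⧸ (maximalIdeal R).map (algebraMap R S))).comp e.symm.toRingHom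
      commutes' := by
        intro r
        have h1 : algebraMap R (maximalIdeal R).ResidueField r =
            e (Ideal.Quotient.mk (maximalIdeal R) r) := rfl
        change algebraMap (R ⧸ maximalIdeal R) (S ⧸ (maximalIdeal R).map (algebraMap R S))
          (e.symm (algebraMap R (maximalIdeal R).ResidueField r)) = _
        rw [h1, RingEquiv.symm_apply_apply]
        rfl }
  Algebra.TensorProduct.lift ρ (Ideal.Quotient.mkₐ R _) (fun _ _ => Commute.all _ _)

theorem fibreToQuot_one_tmul (s : S) :
    fibreToQuot R S (1 ⊗ₜ[R] s) = Ideal.Quotient.mk _ s := by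
  unfold fibreToQuot
  rw [Algebra.TensorProduct.lift_tmul, map_one, one_mul]
  rfl

theorem fibreToQuot_surjective : Function.Surjective (fibreToQuot R S) := by
  intro z
  obtain ⟨s, rfl⟩ := Ideal.Quotient.mk_surjective z
  exact ⟨1 ⊗ₜ[R] s, fibreToQuot_one_tmul R S s⟩

variable (hfib : Module.Finite (maximalIdeal R).ResidueField ((maximalIdeal R).Fiber S))
  (hle : (maximalIdeal R).map (algebraMap R S) ≤ maximalIdeal S)

include hfib hle in
/-- some power of the maximal ideal of `S` lies in `mS`. -/
theorem exists_pow_le : ∃ k : ℕ, maximalIdeal S ^ k ≤ (maximalIdeal R).map (algebraMap R S) := by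
  haveI : IsArtinianRing ((maximalIdeal R).Fiber S) :=
    IsArtinianRing.of_finite (maximalIdeal R).ResidueField _
  haveI : IsArtinianRing (S ⧸ (maximalIdeal R).map (algebraMap R S)) :=
    (fibreToQuot_surjective R S).isArtinianRing (f := (fibreToQuot R S).toRingHom)
  haveI : Nontrivial (S ⧸ (maximalIdeal R).map (algebraMap R S)) :=
    Ideal.Quotient.nontrivial_iff.mpr (fun h => (maximalIdeal.isMaximal S).ne_top
      (top_le_iff.mp (h ▸ hle)))
  haveI : IsLocalRing (S ⧸ (maximalIdeal R).map (algebraMap R S)) :=
    IsLocalRing.of_surjective' (Ideal.Quotient.mk _) Ideal.Quotient.mk_surjective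
  obtain ⟨k, hk⟩ := IsArtinianRing.isNilpotent_jacobson_bot
    (R := S ⧸ (maximalIdeal R).map (algebraMap R S))
  rw [IsLocalRing.jacobson_eq_maximalIdeal ⊥ bot_ne_top] at hk
  refine ⟨k, ?_⟩
  have h1 : (maximalIdeal S).map (Ideal.Quotient.mk ((maximalIdeal R).map (algebraMap R S))) ≤
      maximalIdeal (S ⧸ (maximalIdeal R).map (algebraMap R S)) := by
    apply IsLocalRing.le_maximalIdeal
    intro htop
    have h1mem : (1 : S ⧸ (maximalIdeal R).map (algebraMap R S)) ∈
        (maximalIdeal S).map (Ideal.Quotient.mk _) := by rw [htop]; trivial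
    obtain ⟨x, hx, hx1⟩ :=
      (Ideal.mem_map_iff_of_surjective _ Ideal.Quotient.mk_surjective).mp h1mem
    have h2 : x - 1 ∈ (maximalIdeal R).map (algebraMap R S) := by
      rw [← Ideal.Quotient.eq, hx1, map_one]
    have h3 : (1 : S) ∈ maximalIdeal S := by
      have : (1 : S) = x - (x - 1) := by ring
      rw [this]
      exact Ideal.sub_mem _ hx (hle h2)
    exact (maximalIdeal.isMaximal S).ne_top ((Ideal.eq_top_iff_one _).mpr h3)
  intro x hx
  have h2 : Ideal.Quotient.mk ((maximalIdeal R).map (algebraMap R S)) x ∈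
      (maximalIdeal (S ⧸ (maximalIdeal R).map (algebraMap R S))) ^ k := by
    apply Ideal.pow_right_mono h1 k
    rw [← Ideal.map_pow]
    exact Ideal.mem_map_of_mem _ hx
  rw [hk] at h2
  exact Ideal.Quotient.eq_zero_iff_mem.mp h2

end fibre

section finite

variable (R S : Type u) [CommRing R] [CommRing S] [IsLocalRing R] [IsLocalRing S] [Algebra R S]
  [IsLocalHom (algebraMap R S)]

set_option maxHeartbeats 800000 in
/-- the map on completions induced by a local homomorphism with finite closed fibre is finite. -/
theorem finite_complMap (hm : (maximalIdeal R).FG) (hn : (maximalIdeal S).FG)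
    (hfib : Module.Finite (maximalIdeal R).ResidueField ((maximalIdeal R).Fiber S))
    (h : (maximalIdeal R).map (algebraMap R S) ≤ maximalIdeal S) :
    (FSch.complMap (maximalIdeal R) (maximalIdeal S) (algebraMap R S) h).Finite := by
  classical
  obtain ⟨f, hf⟩ : ∃ f, f = FSch.complMap (maximalIdeal R) (maximalIdeal S) (algebraMap R S) h :=
    ⟨_, rfl⟩
  rw [← hf]
  have hfof : ∀ r : R, f (algebraMap R _ r) = algebraMap S _ (algebraMap R S r) := by
    intro r
    rw [hf]
    exact complMap_of (maximalIdeal R) (maximalIdeal S) (algebraMap R S) h r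
  letI : Algebra (AdicCompletion (maximalIdeal R) R) (AdicCompletion (maximalIdeal S) S) :=
    f.toAlgebra
  change Module.Finite (AdicCompletion (maximalIdeal R) R) (AdicCompletion (maximalIdeal S) S)
  have hsmul : ∀ (r : AdicCompletion (maximalIdeal R) R) (y : AdicCompletion (maximalIdeal S) S),
      r • y = f r * y := fun r y => rfl
  obtain ⟨I, hI⟩ : ∃ I : Ideal (AdicCompletion (maximalIdeal R) R),
      I = (maximalIdeal R).map (algebraMap R _) := ⟨_, rfl⟩
  obtain ⟨K, hK⟩ : ∃ K : Ideal (AdicCompletion (maximalIdeal S) S),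
      K = (maximalIdeal S).map (algebraMap S _) := ⟨_, rfl⟩
  haveI : IsAdicComplete I (AdicCompletion (maximalIdeal R) R) := by
    rw [hI]; exact AdicCompletion.isAdicComplete_self _ hm
  haveI : IsAdicComplete K (AdicCompletion (maximalIdeal S) S) := by
    rw [hK]; exact AdicCompletion.isAdicComplete_self _ hn
  have hIK : I.map f ≤ K := by
    rw [hI, hK, Ideal.map_map, Ideal.map_le_iff_le_comap]
    intro r hr
    rw [Ideal.mem_comap]
    change f (algebraMap R _ r) ∈ _
    rw [hfof]
    exact Ideal.mem_map_of_mem _ (h (Ideal.mem_map_of_mem _ hr))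
  -- Hausdorff
  haveI : IsHausdorff I (AdicCompletion (maximalIdeal S) S) := by
    refine ⟨fun x hx => ?_⟩
    apply IsHausdorff.haus' (I := K) x
    intro j
    have hxj := hx j
    rw [SModEq.zero] at hxj ⊢
    refine Submodule.smul_induction_on hxj ?_ ?_
    · intro r hr y _
      rw [hsmul]
      have : f r ∈ K ^ j := by
        apply Ideal.pow_right_mono hIK j
        rw [← Ideal.map_pow]
        exact Ideal.mem_map_of_mem _ hr
      exact Submodule.smul_mem_smul this Submodule.mem_top
    · intro a b ha hb
      exact Submodule.add_mem _ ha hb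
  apply Groth.Agent.Lib.Helper15.finite_of_finite_quotient_of_isAdicComplete I
  -- the ideal `I • ⊤` viewed as an ideal of the target
  let J : Ideal (AdicCompletion (maximalIdeal S) S) :=
    { carrier := {x | x ∈ (I • ⊤ : Submodule (AdicCompletion (maximalIdeal R) R)
        (AdicCompletion (maximalIdeal S) S))}
      add_mem' := fun {a b} ha hb => by
        change a + b ∈ (I • ⊤ : Submodule (AdicCompletion (maximalIdeal R) R)
          (AdicCompletion (maximalIdeal S) S))
        exact Submodule.add_mem _ ha hb
      zero_mem' := by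
        change (0 : AdicCompletion (maximalIdeal S) S) ∈
          (I • ⊤ : Submodule (AdicCompletion (maximalIdeal R) R)
          (AdicCompletion (maximalIdeal S) S))
        exact Submodule.zero_mem _
      smul_mem' := by
        intro z x hx
        change z • x ∈ (I • ⊤ : Submodule (AdicCompletion (maximalIdeal R) R)
          (AdicCompletion (maximalIdeal S) S))
        refine Submodule.smul_induction_on hx ?_ ?_
        · intro r hr y _
          have : z • r • y = r • (z * y) := by
            rw [hsmul, hsmul, smul_eq_mul]; ring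
          rw [this]
          exact Submodule.smul_mem_smul hr Submodule.mem_top
        · intro a b ha hb
          rw [smul_add]
          exact Submodule.add_mem _ ha hb }
  have hJ : ∀ x, x ∈ J ↔ x ∈ (I • ⊤ : Submodule (AdicCompletion (maximalIdeal R) R)
      (AdicCompletion (maximalIdeal S) S)) := fun x => Iff.rfl
  have hmSJ : ((maximalIdeal R).map (algebraMap R S)).map (algebraMap S _) ≤ J := by
    rw [Ideal.map_map, Ideal.map_le_iff_le_comap]
    intro r hr
    rw [Ideal.mem_comap, hJ]
    change algebraMap S _ (algebraMap R S r) ∈ _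
    rw [← hfof]
    have : f (algebraMap R _ r) = (algebraMap R (AdicCompletion (maximalIdeal R) R) r) •
        (1 : AdicCompletion (maximalIdeal S) S) := by rw [hsmul, mul_one]
    rw [this]
    refine Submodule.smul_mem_smul ?_ Submodule.mem_top
    rw [hI]
    exact Ideal.mem_map_of_mem _ hr
  -- generators of `S / mS` over `R`
  haveI : Module.Finite R ((maximalIdeal R).Fiber S) :=
    Module.Finite.trans (maximalIdeal R).ResidueField _
  haveI : Module.Finite R (S ⧸ (maximalIdeal R).map (algebraMap R S)) :=
    Module.Finite.of_surjective (fibreToQuot R S).toLinearMap (fibreToQuot_surjective R S)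
  obtain ⟨d, t, ht⟩ := Module.Finite.exists_fin (R := R)
    (M := S ⧸ (maximalIdeal R).map (algebraMap R S))
  choose s hs using fun i => Ideal.Quotient.mk_surjective (t i)
  obtain ⟨k, hk⟩ := exists_pow_le R S hfib h
  -- the spanning map
  let L : (Fin d → AdicCompletion (maximalIdeal R) R) →ₗ[AdicCompletion (maximalIdeal R) R]
      (AdicCompletion (maximalIdeal S) S ⧸ (I • ⊤ : Submodule (AdicCompletion (maximalIdeal R) R)
        (AdicCompletion (maximalIdeal S) S))) :=
    (Submodule.mkQ _).comp (Fintype.linearCombination (AdicCompletion (maximalIdeal R) R)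
      (fun i => algebraMap S (AdicCompletion (maximalIdeal S) S) (s i)))
  refine Module.Finite.of_surjective L ?_
  intro z
  obtain ⟨y, rfl⟩ := Submodule.Quotient.mk_surjective _ z
  obtain ⟨s₀, hs₀⟩ := Ideal.Quotient.mk_surjective (AdicCompletion.evalₐ (maximalIdeal S) k y)
  have hy1 : y - algebraMap S _ s₀ ∈ J := by
    apply hmSJ
    apply Ideal.map_mono hk
    apply Groth.Agent.Lib.Helper8.AA1.mem_map_pow_of_evalₐ_eq_zero (maximalIdeal S) hn
    rw [map_sub, sub_eq_zero, ← hs₀]
    exact (AdicCompletion.evalₐ_of (maximalIdeal S) k s₀).symm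
  have hmem : Ideal.Quotient.mk ((maximalIdeal R).map (algebraMap R S)) s₀ ∈
      Submodule.span R (Set.range t) := by rw [ht]; trivial
  obtain ⟨a, ha⟩ := (Submodule.mem_span_range_iff_exists_fun R).mp hmem
  have hs1 : s₀ - ∑ i, a i • s i ∈ (maximalIdeal R).map (algebraMap R S) := by
    rw [← Ideal.Quotient.eq_zero_iff_mem, map_sub, ← ha, sub_eq_zero, map_sum]
    apply Finset.sum_congr rfl
    intro i _
    rw [← hs i]
    rfl
  refine ⟨fun i => algebraMap R _ (a i), ?_⟩
  change Submodule.Quotient.mk (Fintype.linearCombination _ _ _) = Submodule.Quotient.mk y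
  rw [Submodule.Quotient.eq, Fintype.linearCombination_apply, ← hJ]
  have h2 : algebraMap S (AdicCompletion (maximalIdeal S) S) (s₀ - ∑ i, a i • s i) ∈ J :=
    hmSJ (Ideal.mem_map_of_mem _ hs1)
  have h3 : (∑ i, (algebraMap R (AdicCompletion (maximalIdeal R) R) (a i)) •
      algebraMap S (AdicCompletion (maximalIdeal S) S) (s i)) =
      algebraMap S _ (∑ i, a i • s i) := by
    rw [map_sum]
    apply Finset.sum_congr rfl
    intro i _
    rw [hsmul, hfof, Algebra.smul_def, map_mul]
  rw [h3]
  have h4 : algebraMap S (AdicCompletion (maximalIdeal S) S) (∑ i, a i • s i) - y =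
      -((y - algebraMap S _ s₀) + algebraMap S _ (s₀ - ∑ i, a i • s i)) := by
    rw [map_sub]; ring
  rw [h4]
  exact J.neg_mem (J.add_mem hy1 h2)

end finite

end Groth.Agent.Lib.Helper20.CplFin
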