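import Mathlib

set_option autoImplicit false
universe u

namespace Groth.Agent.Lib.Helper20.CplStalk

open IsLocalRing

/-- Every element of the adic completion is congruent to an element of the ring modulo
`I ^ n • ⊤` (for `I` finitely generated). -/
theorem exists_sub_mem_pow_smul_top {A : Type*} [CommRing A] (I : Ideal A) (hI : I.FG) (n : ℕ)
    (a : AdicCompletion I A) :
    ∃ α : A, a - algebraMap A (AdicCompletion I A) α ∈
      (I ^ n • ⊤ : Submodule A (AdicCompletion I A)) := by
  obtain ⟨α, hα⟩ := Submodule.mkQ_surjective _ (AdicCompletion.eval I A n a)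
  refine ⟨α, ?_⟩
  rw [AdicCompletion.pow_smul_top_eq_ker_eval hI, LinearMap.mem_ker, map_sub,
    AdicCompletion.algebraMap_apply, Algebra.algebraMap_self, RingHom.id_apply,
    AdicCompletion.eval_of, hα, sub_self]

section

variable {A B₀ C₀ : Type u} [CommRing A] [IsLocalRing A] [CommRing B₀] [CommRing C₀]
  (hm : (maximalIdeal A).FG)
  (α : A →+* B₀) (β : B₀ →+* C₀) (γ : AdicCompletion (maximalIdeal A) A →+* C₀)
  (hsq : β.comp α = γ.comp (algebraMap A (AdicCompletion (maximalIdeal A) A)))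
  (hgen : ∀ c : C₀, c ∈ Subring.closure (Set.range β ∪ Set.range γ))

include hm hsq hgen in
/-- Decomposition `C₀ = β(B₀) + m^k C₀`. -/
theorem exists_sub_mem_map (k : ℕ) (c : C₀) :
    ∃ b : B₀, c - β b ∈ ((maximalIdeal A) ^ k).map (β.comp α) := by
  set J := ((maximalIdeal A) ^ k).map (β.comp α) with hJ
  have hγ : ∀ x ∈ ((maximalIdeal A) ^ k • ⊤ : Submodule A (AdicCompletion (maximalIdeal A) A)),
      γ x ∈ J := by
    intro x hx
    refine Submodule.smul_induction_on hx ?_ ?_
    · intro r hr y _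
      rw [Algebra.smul_def, map_mul]
      have : γ (algebraMap A _ r) = (β.comp α) r := (RingHom.congr_fun hsq r).symm
      rw [this]
      exact J.mul_mem_right _ (Ideal.mem_map_of_mem _ hr)
    · intro x y hx hy
      rw [map_add]
      exact J.add_mem hx hy
  refine Subring.closure_induction (p := fun c _ => ∃ b : B₀, c - β b ∈ J) ?_ ?_ ?_ ?_ ?_ ?_ (hgen c)
  · rintro x (⟨b, rfl⟩ | ⟨a, rfl⟩)
    · exact ⟨b, by simp⟩
    · obtain ⟨a₀, ha₀⟩ := exists_sub_mem_pow_smul_top (maximalIdeal A) hm k a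
      refine ⟨α a₀, ?_⟩
      have h1 : β (α a₀) = γ (algebraMap A _ a₀) := RingHom.congr_fun hsq a₀
      rw [h1, ← map_sub]
      exact hγ _ ha₀
  · exact ⟨0, by simp⟩
  · exact ⟨1, by simp⟩
  · rintro x y _ _ ⟨b, hb⟩ ⟨b', hb'⟩
    refine ⟨b + b', ?_⟩
    have : x + y - β (b + b') = (x - β b) + (y - β b') := by rw [map_add]; ring
    rw [this]
    exact J.add_mem hb hb'
  · rintro x _ ⟨b, hb⟩
    refine ⟨-b, ?_⟩
    have : -x - β (-b) = -(x - β b) := by rw [map_neg]; ring
    rw [this]
    exact J.neg_mem hb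
  · rintro x y _ _ ⟨b, hb⟩ ⟨b', hb'⟩
    refine ⟨b * b', ?_⟩
    have : x * y - β (b * b') = (x - β b) * y + β b * (y - β b') := by rw [map_mul]; ring
    rw [this]
    exact J.add_mem (J.mul_mem_right _ hb) (J.mul_mem_left _ hb')

end

section

variable {A B₀ C₀ : Type u} [CommRing A] [IsLocalRing A] [CommRing B₀] [CommRing C₀]
  (hm : (maximalIdeal A).FG)
  (α : A →+* B₀) (β : B₀ →+* C₀) (γ : AdicCompletion (maximalIdeal A) A →+* C₀)
  (hsq : β.comp α = γ.comp (algebraMap A (AdicCompletion (maximalIdeal A) A)))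
  (hgen : ∀ c : C₀, c ∈ Subring.closure (Set.range β ∪ Set.range γ))
  (hdesc : ∀ (T : Type u) [CommRing T] (u : B₀ →+* T)
    (v : AdicCompletion (maximalIdeal A) A →+* T),
    u.comp α = v.comp (algebraMap A (AdicCompletion (maximalIdeal A) A)) →
    ∃ w : C₀ →+* T, w.comp β = u ∧ w.comp γ = v)
  (P : Ideal B₀) [P.IsPrime] (Q : Ideal C₀) [Q.IsPrime] (hPQ : P = Q.comap β)
  (hmP : maximalIdeal A ≤ P.comap α)

include hm γ hsq hgen hdesc hmP in
set_option maxHeartbeats 800000 in
/-- The key algebra statement. -/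
theorem key (n : ℕ) :
    (∀ c : Localization.AtPrime Q, ∃ b : Localization.AtPrime P,
      c - Localization.localRingHom P Q β hPQ b ∈ maximalIdeal (Localization.AtPrime Q) ^ n) ∧
    (∀ b : Localization.AtPrime P,
      Localization.localRingHom P Q β hPQ b ∈ maximalIdeal (Localization.AtPrime Q) ^ n →
      b ∈ maximalIdeal (Localization.AtPrime P) ^ n) := by
  set B := Localization.AtPrime P with hB
  set C := Localization.AtPrime Q with hC
  set φ := Localization.localRingHom P Q β hPQ with hφ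
  have hmB : P.map (algebraMap B₀ B) = maximalIdeal B := Localization.AtPrime.map_eq_maximalIdeal
  have hmC : Q.map (algebraMap C₀ C) = maximalIdeal C := Localization.AtPrime.map_eq_maximalIdeal
  have hφalg : ∀ x : B₀, φ (algebraMap B₀ B x) = algebraMap C₀ C (β x) := fun x =>
    Localization.localRingHom_to_map P Q β hPQ x
  -- `m` maps into `Q`
  have hmQ : (maximalIdeal A).map (β.comp α) ≤ Q := by
    rw [Ideal.map_le_iff_le_comap]
    intro a ha
    have h1 : α a ∈ P := hmP ha
    rw [hPQ] at h1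
    exact h1
  have hJQ : ∀ k : ℕ, ((maximalIdeal A) ^ k).map (β.comp α) ≤ Q ^ k := fun k => by
    rw [Ideal.map_pow]
    exact Ideal.pow_right_mono hmQ k
  constructor
  · -- surjectivity part
    intro c
    rcases Nat.eq_zero_or_pos n with rfl | hn
    · exact ⟨0, by simp⟩
    obtain ⟨x, s, rfl⟩ := IsLocalization.exists_mk'_eq Q.primeCompl c
    obtain ⟨b₁, hb₁⟩ := exists_sub_mem_map hm α β γ hsq hgen n x
    obtain ⟨b₂, hb₂⟩ := exists_sub_mem_map hm α β γ hsq hgen n (s : C₀)
    have hJQ1 : ((maximalIdeal A) ^ n).map (β.comp α) ≤ Q := (hJQ n).trans (Ideal.pow_le_self (by omega))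
    have hb₂Q : β b₂ ∉ Q := by
      intro h
      have : (s : C₀) ∈ Q := by
        have h2 := Q.add_mem (hJQ1 hb₂) h
        simpa using h2
      exact s.2 this
    have hb₂P : b₂ ∉ P := by
      rw [hPQ]
      exact hb₂Q
    refine ⟨IsLocalization.mk' B b₁ (⟨b₂, hb₂P⟩ : P.primeCompl), ?_⟩
    have hsC : IsUnit (algebraMap C₀ C (s : C₀)) := IsLocalization.map_units C s
    have htC : IsUnit (algebraMap C₀ C (β b₂)) :=
      IsLocalization.map_units C (⟨β b₂, hb₂Q⟩ : Q.primeCompl)
    have e1 : IsLocalization.mk' C x s * algebraMap C₀ C (s : C₀) = algebraMap C₀ C x :=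
      IsLocalization.mk'_spec C x s
    have e2 : φ (IsLocalization.mk' B b₁ (⟨b₂, hb₂P⟩ : P.primeCompl)) * algebraMap C₀ C (β b₂) =
        algebraMap C₀ C (β b₁) := by
      rw [← hφalg, ← map_mul, ← hφalg]
      congr 1
      exact IsLocalization.mk'_spec B b₁ (⟨b₂, hb₂P⟩ : P.primeCompl)
    have e3 : (IsLocalization.mk' C x s - φ (IsLocalization.mk' B b₁ (⟨b₂, hb₂P⟩ : P.primeCompl))) *
        (algebraMap C₀ C (s : C₀) * algebraMap C₀ C (β b₂)) =
        algebraMap C₀ C ((x - β b₁) * β b₂ - β b₁ * ((s : C₀) - β b₂)) := by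
      have : (IsLocalization.mk' C x s -
          φ (IsLocalization.mk' B b₁ (⟨b₂, hb₂P⟩ : P.primeCompl))) *
          (algebraMap C₀ C (s : C₀) * algebraMap C₀ C (β b₂)) =
          (IsLocalization.mk' C x s * algebraMap C₀ C (s : C₀)) * algebraMap C₀ C (β b₂) -
          (φ (IsLocalization.mk' B b₁ (⟨b₂, hb₂P⟩ : P.primeCompl)) * algebraMap C₀ C (β b₂)) *
            algebraMap C₀ C (s : C₀) := by ring
      rw [this, e1, e2, ← map_mul, ← map_mul, ← map_sub]
      congr 1
      ring
    have e4 : (x - β b₁) * β b₂ - β b₁ * ((s : C₀) - β b₂) ∈ Q ^ n := by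
      refine (Q ^ n).sub_mem ((Q ^ n).mul_mem_right _ (hJQ n hb₁))
        ((Q ^ n).mul_mem_left _ (hJQ n hb₂))
    have e5 : algebraMap C₀ C ((x - β b₁) * β b₂ - β b₁ * ((s : C₀) - β b₂)) ∈
        maximalIdeal C ^ n := by
      rw [← hmC, ← Ideal.map_pow]
      exact Ideal.mem_map_of_mem _ e4
    rw [← e3] at e5
    exact (Ideal.mul_unit_mem_iff_mem _ (hsC.mul htC)).mp e5
  · -- injectivity part
    intro b hb
    let Rn := B ⧸ maximalIdeal B ^ n
    let mk : B →+* Rn := Ideal.Quotient.mk (maximalIdeal B ^ n)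
    let θ : A →+* B := (algebraMap B₀ B).comp α
    have hθ : (maximalIdeal A).map θ ≤ maximalIdeal B := by
      rw [Ideal.map_le_iff_le_comap]
      intro a ha
      show algebraMap B₀ B (α a) ∈ maximalIdeal B
      rw [← hmB]
      exact Ideal.mem_map_of_mem _ (hmP ha)
    have hθn : ∀ a ∈ (maximalIdeal A) ^ n, (mk.comp θ) a = 0 := by
      intro a ha
      show mk (θ a) = 0
      rw [Ideal.Quotient.eq_zero_iff_mem]
      have : θ a ∈ ((maximalIdeal A) ^ n).map θ := Ideal.mem_map_of_mem _ ha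
      rw [Ideal.map_pow] at this
      exact Ideal.pow_right_mono hθ n this
    let v₀ : A ⧸ (maximalIdeal A) ^ n →+* Rn := Ideal.Quotient.lift _ (mk.comp θ) hθn
    let v : AdicCompletion (maximalIdeal A) A →+* Rn :=
      v₀.comp (AdicCompletion.evalₐ (maximalIdeal A) n).toRingHom
    let u : B₀ →+* Rn := mk.comp (algebraMap B₀ B)
    have huv : u.comp α = v.comp (algebraMap A _) := by
      ext a
      show mk (algebraMap B₀ B (α a)) =
        v₀ (AdicCompletion.evalₐ (maximalIdeal A) n (algebraMap A _ a))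
      rw [AdicCompletion.algebraMap_apply, Algebra.algebraMap_self, RingHom.id_apply,
        AdicCompletion.evalₐ_of]
      rfl
    obtain ⟨ρ₀, hρβ, hργ⟩ := hdesc Rn u v huv
    let K : Ideal C₀ := ((maximalIdeal B).map mk).comap ρ₀
    have hJK : (maximalIdeal A).map (β.comp α) ≤ K := by
      rw [Ideal.map_le_iff_le_comap]
      intro a ha
      show ρ₀ (β (α a)) ∈ (maximalIdeal B).map mk
      have : ρ₀ (β (α a)) = mk (θ a) := RingHom.congr_fun hρβ (α a)
      rw [this]
      exact Ideal.mem_map_of_mem _ (hθ (Ideal.mem_map_of_mem _ ha))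
    have hQK : Q ≤ K := by
      intro q hq
      obtain ⟨b', hb'⟩ := exists_sub_mem_map hm α β γ hsq hgen 1 q
      rw [pow_one] at hb'
      have hβQ : β b' ∈ Q := by
        have := Q.sub_mem hq (hmQ hb')
        simpa using this
      have hbP : b' ∈ P := by rw [hPQ]; exact hβQ
      have h1 : β b' ∈ K := by
        show ρ₀ (β b') ∈ (maximalIdeal B).map mk
        have : ρ₀ (β b') = mk (algebraMap B₀ B b') := RingHom.congr_fun hρβ b'
        rw [this]
        apply Ideal.mem_map_of_mem
        rw [← hmB]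
        exact Ideal.mem_map_of_mem _ hbP
      have := K.add_mem (hJK hb') h1
      simpa using this
    have hunit : ∀ y : Q.primeCompl, IsUnit (ρ₀ y) := by
      rintro ⟨y, hy⟩
      obtain ⟨b', hb'⟩ := exists_sub_mem_map hm α β γ hsq hgen 1 y
      rw [pow_one] at hb'
      have hβQ : β b' ∉ Q := by
        intro h
        apply hy
        have := Q.add_mem (hmQ hb') h
        simpa using this
      have hbP : b' ∉ P := by rw [hPQ]; exact hβQ
      have hu : IsUnit (algebraMap B₀ B b') :=
        IsLocalization.map_units B (⟨b', hbP⟩ : P.primeCompl)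
      have h2 : ρ₀ (y - β b') ∈ (maximalIdeal B).map mk := hJK hb'
      obtain ⟨z, hz, hz'⟩ :=
        (Ideal.mem_map_iff_of_surjective mk Ideal.Quotient.mk_surjective).mp h2
      have h3 : ρ₀ y = mk (algebraMap B₀ B b' + z) := by
        have : ρ₀ (β b') = mk (algebraMap B₀ B b') := RingHom.congr_fun hρβ b'
        rw [map_add, hz', ← this, ← map_add]
        congr 1
        ring
      show IsUnit (ρ₀ y)
      rw [h3]
      apply IsUnit.map
      by_contra hnu
      have h4 : algebraMap B₀ B b' + z ∈ maximalIdeal B := (IsLocalRing.mem_maximalIdeal _).mpr hnu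
      have h5 : algebraMap B₀ B b' ∈ maximalIdeal B := by
        have := (maximalIdeal B).sub_mem h4 hz
        simpa using this
      exact (IsLocalRing.mem_maximalIdeal _).mp h5 hu
    let ρ : C →+* Rn := IsLocalization.lift (M := Q.primeCompl) hunit
    have hρalg : ∀ x : C₀, ρ (algebraMap C₀ C x) = ρ₀ x := fun x => IsLocalization.lift_eq hunit x
    have hρφ : ρ.comp φ = mk := by
      apply IsLocalization.ringHom_ext P.primeCompl
      ext x
      show ρ (φ (algebraMap B₀ B x)) = mk (algebraMap B₀ B x)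
      rw [hφalg, hρalg]
      exact RingHom.congr_fun hρβ x
    have hρm : (maximalIdeal C).map ρ ≤ (maximalIdeal B).map mk := by
      rw [← hmC, Ideal.map_map, Ideal.map_le_iff_le_comap]
      intro q hq
      show ρ (algebraMap C₀ C q) ∈ (maximalIdeal B).map mk
      rw [hρalg]
      exact hQK hq
    have h4 : ρ (φ b) ∈ ((maximalIdeal C) ^ n).map ρ := Ideal.mem_map_of_mem _ hb
    rw [Ideal.map_pow] at h4
    have h5 : ρ (φ b) ∈ ((maximalIdeal B).map mk) ^ n := Ideal.pow_right_mono hρm n h4
    rw [← Ideal.map_pow, Ideal.map_quotient_self] at h5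
    have h6 : mk b = 0 := by
      have : ρ (φ b) = mk b := RingHom.congr_fun hρφ b
      rw [← this]
      simpa using h5
    exact Ideal.Quotient.eq_zero_iff_mem.mp h6

end

end Groth.Agent.Lib.Helper20.CplStalk
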