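import Mathlib
import Groth.Agent.Lib.Helper20.CplStalk1

set_option autoImplicit false
universe u

namespace Groth.Agent.Lib.Helper20.CplStalk

open IsLocalRing

/-- The "isomorphism on `n`-th infinitesimal neighbourhoods" property of a ring hom of local
rings, in elementwise form. -/
def Pn {B C : Type*} [CommRing B] [IsLocalRing B] [CommRing C] [IsLocalRing C] (φ : B →+* C)
    (n : ℕ) : Prop :=
  (∀ c : C, ∃ b : B, c - φ b ∈ maximalIdeal C ^ n) ∧
    (∀ b : B, φ b ∈ maximalIdeal C ^ n → b ∈ maximalIdeal B ^ n)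

theorem bijective_quotientMap_of_Pn {B C : Type*} [CommRing B] [IsLocalRing B] [CommRing C]
    [IsLocalRing C] (φ : B →+* C) (n : ℕ) (hP : Pn φ n)
    (h : maximalIdeal B ^ n ≤ (maximalIdeal C ^ n).comap φ) :
    Function.Bijective (Ideal.quotientMap (maximalIdeal C ^ n) φ h) := by
  constructor
  · apply Ideal.quotientMap_injective'
    intro b hb
    exact hP.2 b hb
  · intro c
    obtain ⟨c, rfl⟩ := Ideal.Quotient.mk_surjective c
    obtain ⟨b, hb⟩ := hP.1 c
    refine ⟨Ideal.Quotient.mk _ b, ?_⟩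
    rw [Ideal.quotientMap_mk]
    exact (Ideal.Quotient.eq.mpr hb).symm

/-- a ring hom with a two-sided inverse preserves powers of the maximal ideal -/
theorem map_mem_pow_of_inverse {C C' : Type*} [CommRing C] [IsLocalRing C] [CommRing C']
    [IsLocalRing C'] (ψ : C →+* C') (ψ' : C' →+* C) (h : ∀ x, ψ' (ψ x) = x) (n : ℕ) (x : C)
    (hx : x ∈ maximalIdeal C ^ n) : ψ x ∈ maximalIdeal C' ^ n := by
  have h1 : (maximalIdeal C).map ψ ≤ maximalIdeal C' := by
    rw [Ideal.map_le_iff_le_comap]
    intro y hy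
    show ψ y ∈ maximalIdeal C'
    rw [IsLocalRing.mem_maximalIdeal] at hy ⊢
    intro hu
    apply hy
    have := hu.map ψ'
    rwa [h] at this
  have h2 : ψ x ∈ (maximalIdeal C ^ n).map ψ := Ideal.mem_map_of_mem _ hx
  rw [Ideal.map_pow] at h2
  exact Ideal.pow_right_mono h1 n h2

/-- Transfer of `Pn` along an isomorphism of arrows (given by mutually inverse ring homs). -/
theorem Pn_of_iso {B C B' C' : Type*} [CommRing B] [IsLocalRing B] [CommRing C] [IsLocalRing C]
    [CommRing B'] [IsLocalRing B'] [CommRing C'] [IsLocalRing C']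
    (φ : B →+* C) (φ' : B' →+* C') (el : B →+* B') (el' : B' →+* B) (er : C →+* C')
    (er' : C' →+* C) (hl : ∀ x, el' (el x) = x) (hl' : ∀ x, el (el' x) = x)
    (hr : ∀ x, er' (er x) = x) (hr' : ∀ x, er (er' x) = x)
    (hw : ∀ x, φ' (el x) = er (φ x)) (n : ℕ) (h : Pn φ' n) : Pn φ n := by
  constructor
  · intro c
    obtain ⟨b', hb'⟩ := h.1 (er c)
    refine ⟨el' b', ?_⟩
    have h1 : er' (er c - φ' b') ∈ maximalIdeal C ^ n :=
      map_mem_pow_of_inverse er' er hr' n _ hb'
    have h2 : er' (er c - φ' b') = c - φ (el' b') := by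
      rw [map_sub, hr]
      congr 1
      have := hw (el' b')
      rw [hl'] at this
      rw [this, hr]
    rwa [h2] at h1
  · intro b hb
    have h1 : er (φ b) ∈ maximalIdeal C' ^ n := map_mem_pow_of_inverse er er' hr n _ hb
    rw [← hw] at h1
    have h2 := h.2 _ h1
    have h3 := map_mem_pow_of_inverse el' el hl' n _ h2
    rwa [hl] at h3

/-- generation from the uniqueness part of the pushout property -/
theorem mem_closure_of_desc_uniq {A B₀ Â C₀ : Type u} [CommRing A] [CommRing B₀] [CommRing Â]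
    [CommRing C₀] (α : A →+* B₀) (κ : A →+* Â) (β : B₀ →+* C₀) (γ : Â →+* C₀)
    (hsq : β.comp α = γ.comp κ)
    (hdesc : ∀ (T : Type u) [CommRing T] (u : B₀ →+* T) (v : Â →+* T),
      u.comp α = v.comp κ → ∃ w : C₀ →+* T, w.comp β = u ∧ w.comp γ = v)
    (huniq : ∀ (T : Type u) [CommRing T] (w w' : C₀ →+* T),
      w.comp β = w'.comp β → w.comp γ = w'.comp γ → w = w')
    (c : C₀) : c ∈ Subring.closure (Set.range β ∪ Set.range γ) := by
  set S := Subring.closure (Set.range β ∪ Set.range γ) with hS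
  have hβS : ∀ b, β b ∈ S := fun b => Subring.subset_closure (Or.inl ⟨b, rfl⟩)
  have hγS : ∀ a, γ a ∈ S := fun a => Subring.subset_closure (Or.inr ⟨a, rfl⟩)
  let u : B₀ →+* S := β.codRestrict S hβS
  let v : Â →+* S := γ.codRestrict S hγS
  have huv : u.comp α = v.comp κ := by
    ext a
    exact RingHom.congr_fun hsq a
  obtain ⟨w, hwβ, hwγ⟩ := hdesc S u v huv
  have h1 : (S.subtype.comp w) = RingHom.id C₀ := by
    apply huniq
    · ext b
      show ((w.comp β) b : C₀) = β b
      rw [hwβ]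
      rfl
    · ext a
      show ((w.comp γ) a : C₀) = γ a
      rw [hwγ]
      rfl
  have h2 : (w c : C₀) = c := RingHom.congr_fun h1 c
  rw [← h2]
  exact (w c).2

end Groth.Agent.Lib.Helper20.CplStalk
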