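import Mathlib
import Groth.Agent.Lib.Helper20.CplStalk1
import Groth.Agent.Lib.Helper20.CplStalk2

set_option autoImplicit false
universe u

open CategoryTheory CategoryTheory.Limits AlgebraicGeometry TopologicalSpace Opposite IsLocalRing

namespace Groth.Agent.Lib.Helper20.CplStalk

/-- membership in the prime ideal of a point of an affine open vs. basic opens -/
theorem not_mem_primeIdealOf_iff {X : Scheme.{u}} {U : X.Opens} (hU : IsAffineOpen U) (x : U)
    (s : Γ(X, U)) : s ∉ (hU.primeIdealOf x).asIdeal ↔ (x : X) ∈ X.basicOpen s := by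
  have h1 : hU.fromSpec (hU.primeIdealOf x) = x.1 := hU.fromSpec_primeIdealOf x
  have h2 : hU.fromSpec ⁻¹ᵁ X.basicOpen s = PrimeSpectrum.basicOpen s :=
    hU.fromSpec_preimage_basicOpen s
  have h3 : ∀ y : ↥(Spec Γ(X, U)), y ∈ hU.fromSpec ⁻¹ᵁ X.basicOpen s ↔
      hU.fromSpec y ∈ X.basicOpen s := fun y => Iff.rfl
  have h4 := h3 (hU.primeIdealOf x)
  rw [h1] at h4
  have h5 : ∀ y : ↥(Spec Γ(X, U)), y ∈ hU.fromSpec ⁻¹ᵁ X.basicOpen s ↔
      y ∈ (PrimeSpectrum.basicOpen s : (Spec Γ(X, U)).Opens) := fun y => by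
    rw [h2]
    exact Iff.rfl
  exact (Iff.rfl : s ∉ (hU.primeIdealOf x).asIdeal ↔
    (hU.primeIdealOf x : ↥(Spec Γ(X, U))) ∈
      (PrimeSpectrum.basicOpen s : (Spec Γ(X, U)).Opens)).trans ((h5 _).symm.trans h4)

local notation "Cpl" A => AdicCompletion (maximalIdeal A) A

set_option backward.isDefEq.respectTransparency.types false in
set_option maxHeartbeats 800000 in
/-- Scheme form of the key statement. -/
theorem Pn_stalkMap_aux (A : Type u) [CommRing A] [IsLocalRing A]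
    (hm : (maximalIdeal A).FG) (X : Scheme.{u}) (f : X ⟶ Spec (CommRingCat.of A))
    (g : Spec (CommRingCat.of (Cpl A)) ⟶ Spec (CommRingCat.of A))
    (hg : g = Spec.map (CommRingCat.ofHom (algebraMap A (Cpl A))))
    (q : ↥(pullback f g))
    (hq : f.base ((pullback.fst f g).base q) = closedPoint A) (n : ℕ) :
    Pn ((pullback.fst f g).stalkMap q).hom n := by
  set fst := pullback.fst f g with hfst
  set snd := pullback.snd f g with hsnd
  obtain ⟨U, hU, hpU, -⟩ := exists_isAffineOpen_mem_and_subset (x := fst q) (U := ⊤) trivial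
  haveI : IsAffineHom g := by rw [hg]; infer_instance
  haveI : IsAffineHom fst := MorphismProperty.pullback_fst (P := @IsAffineHom) f g inferInstance
  have hV : IsAffineOpen (fst ⁻¹ᵁ U) := hU.preimage fst
  set V := fst ⁻¹ᵁ U with hVdef
  have hqV : q ∈ V := hpU
  let q' : ↥V := ⟨q, hqV⟩
  have hpb0 : IsPullback fst snd f g := IsPullback.of_hasPullback f g
  have hpb1 : IsPullback (fst ∣_ U) V.ι U.ι fst := isPullback_morphismRestrict fst U
  have hpb : IsPullback (fst ∣_ U) (V.ι ≫ snd) (U.ι ≫ f) g := hpb1.paste_vert hpb0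
  haveI : IsAffine (U : Scheme.{u}) := hU
  haveI : IsAffine (V : Scheme.{u}) := hV
  have hpo : IsPushout (U.ι ≫ f).appTop g.appTop (fst ∣_ U).appTop (V.ι ≫ snd).appTop :=
    isPushout_appTop_of_isPullback hpb
  let eA := Scheme.ΓSpecIso (CommRingCat.of A)
  let eC := Scheme.ΓSpecIso (CommRingCat.of (Cpl A))
  have hnat : g.appTop ≫ eC.hom = eA.hom ≫ CommRingCat.ofHom (algebraMap A (Cpl A)) :=
    by rw [hg]; exact Scheme.ΓSpecIso_naturality _
  have hnat' : eA.inv ≫ g.appTop = CommRingCat.ofHom (algebraMap A (Cpl A)) ≫ eC.inv := by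
    rw [Iso.inv_comp_eq, ← Category.assoc, Iso.eq_comp_inv, hnat]
  have hβ : (fst ∣_ U).appLE ⊤ ⊤ le_top = (fst ∣_ U).appTop :=
    Scheme.Hom.appLE_eq_app (fst ∣_ U)
  let α : A →+* Γ(U.toScheme, ⊤) := (eA.inv ≫ (U.ι ≫ f).appTop).hom
  let β : Γ(U.toScheme, ⊤) →+* Γ(V.toScheme, ⊤) := ((fst ∣_ U).appLE ⊤ ⊤ le_top).hom
  let γ : (Cpl A) →+* Γ(V.toScheme, ⊤) := (eC.inv ≫ (V.ι ≫ snd).appTop).hom
  have hsq : β.comp α = γ.comp (algebraMap A (Cpl A)) := by
    have h1 : (eA.inv ≫ (U.ι ≫ f).appTop) ≫ (fst ∣_ U).appLE ⊤ ⊤ le_top =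
        CommRingCat.ofHom (algebraMap A (Cpl A)) ≫ (eC.inv ≫ (V.ι ≫ snd).appTop) := by
      rw [hβ, Category.assoc, hpo.w, ← Category.assoc, hnat', Category.assoc]
    ext a
    exact congr($(h1).hom a)
  have hdesc : ∀ (T : Type u) [CommRing T] (u : Γ(U.toScheme, ⊤) →+* T) (v : (Cpl A) →+* T),
      u.comp α = v.comp (algebraMap A (Cpl A)) →
      ∃ w : Γ(V.toScheme, ⊤) →+* T, w.comp β = u ∧ w.comp γ = v := by
    intro T _ u v huv
    let u' : Γ(U.toScheme, ⊤) ⟶ CommRingCat.of T := CommRingCat.ofHom u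
    let v' : Γ(Spec (CommRingCat.of (Cpl A)), ⊤) ⟶ CommRingCat.of T :=
      eC.hom ≫ CommRingCat.ofHom v
    have huv' : (eA.inv ≫ (U.ι ≫ f).appTop) ≫ u' =
        CommRingCat.ofHom (algebraMap A (Cpl A)) ≫ CommRingCat.ofHom v := by
      ext a
      exact RingHom.congr_fun huv a
    have comm : (U.ι ≫ f).appTop ≫ u' = g.appTop ≫ v' := by
      have h1 : g.appTop ≫ v' = eA.hom ≫ (CommRingCat.ofHom (algebraMap A (Cpl A)) ≫
          CommRingCat.ofHom v) := by
        show g.appTop ≫ eC.hom ≫ CommRingCat.ofHom v = _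
        rw [← Category.assoc, hnat, Category.assoc]
      rw [h1, ← huv', Category.assoc, Iso.hom_inv_id_assoc]
    refine ⟨(hpo.desc u' v' comm).hom, ?_, ?_⟩
    · have h2 : (fst ∣_ U).appLE ⊤ ⊤ le_top ≫ hpo.desc u' v' comm = u' := by
        rw [hβ]
        exact hpo.inl_desc u' v' comm
      ext b
      exact congr($(h2).hom b)
    · have h2 : (eC.inv ≫ (V.ι ≫ snd).appTop) ≫ hpo.desc u' v' comm = CommRingCat.ofHom v := by
        rw [Category.assoc, hpo.inr_desc u' v' comm]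
        show eC.inv ≫ eC.hom ≫ CommRingCat.ofHom v = _
        rw [Iso.inv_hom_id_assoc]
      ext a
      exact congr($(h2).hom a)
  have huniq : ∀ (T : Type u) [CommRing T] (w w' : Γ(V.toScheme, ⊤) →+* T),
      w.comp β = w'.comp β → w.comp γ = w'.comp γ → w = w' := by
    intro T _ w w' h1 h2
    have h3 : CommRingCat.ofHom w = CommRingCat.ofHom w' := by
      apply hpo.hom_ext
      · rw [← hβ]
        ext b
        exact RingHom.congr_fun h1 b
      · have h4 : (eC.inv ≫ (V.ι ≫ snd).appTop) ≫ CommRingCat.ofHom w =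
            (eC.inv ≫ (V.ι ≫ snd).appTop) ≫ CommRingCat.ofHom w' := by
          ext a
          exact RingHom.congr_fun h2 a
        rw [Category.assoc, Category.assoc] at h4
        exact (cancel_epi eC.inv).mp h4
    exact congr($(h3).hom)
  have hgen := mem_closure_of_desc_uniq α (algebraMap A (Cpl A)) β γ hsq hdesc huniq
  have hTU : IsAffineOpen (⊤ : U.toScheme.Opens) := isAffineOpen_top _
  have hTV : IsAffineOpen (⊤ : V.toScheme.Opens) := isAffineOpen_top _
  let Qp := hTV.primeIdealOf ⟨q', trivial⟩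
  let Pp := hTU.primeIdealOf ⟨(fst ∣_ U) q', trivial⟩
  have hPQ0 : Qp.comap ((fst ∣_ U).appLE ⊤ ⊤ le_top).hom = Pp :=
    IsAffineOpen.comap_primeIdealOf_appLE (f := fst ∣_ U) (x := q') ⊤ hTU ⊤ hTV le_top trivial
  have hPQ : Pp.asIdeal = Qp.asIdeal.comap β := congr($(hPQ0).1).symm
  -- the point
  have hpt : (U.ι ≫ f) ((fst ∣_ U) q') = closedPoint A := by
    have h1 : (fst ∣_ U ≫ U.ι) q' = (V.ι ≫ fst) q' := by rw [morphismRestrict_ι]
    rw [Scheme.Hom.comp_apply, Scheme.Hom.comp_apply] at h1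
    rw [Scheme.Hom.comp_apply, h1]
    exact hq
  have hmP : maximalIdeal A ≤ Pp.asIdeal.comap α := by
    intro a ha
    show α a ∈ Pp.asIdeal
    by_contra hcon
    rw [not_mem_primeIdealOf_iff hTU] at hcon
    have h2 : (U.toScheme).basicOpen (α a) =
        (U.ι ≫ f) ⁻¹ᵁ (Spec (CommRingCat.of A)).basicOpen (eA.inv.hom a) :=
      (Scheme.preimage_basicOpen (U.ι ≫ f) (eA.inv.hom a)).symm
    rw [h2, Scheme.Hom.mem_preimage] at hcon
    have h3 : (Spec (CommRingCat.of A)).basicOpen (eA.inv.hom a) = PrimeSpectrum.basicOpen a :=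
      basicOpen_eq_of_affine (R := CommRingCat.of A) a
    rw [h3] at hcon
    have h4 : closedPoint A ∈ (PrimeSpectrum.basicOpen a : Set (PrimeSpectrum A)) := by
      have := hpt ▸ hcon
      exact this
    exact h4 ha
  have hkey := key hm α β γ hsq hgen hdesc Pp.asIdeal Qp.asIdeal hPQ hmP n
  have hPn : Pn (Localization.localRingHom Pp.asIdeal Qp.asIdeal β hPQ) n := hkey
  let e1 := morphismRestrictStalkMap fst U q'
  let e2 := IsAffineOpen.arrowStalkMapIso (fst ∣_ U) (x := q') ⊤ hTU ⊤ hTV le_top trivial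
  let E := e2.symm ≪≫ e1
  refine Pn_of_iso (fst.stalkMap q).hom (Localization.localRingHom Pp.asIdeal Qp.asIdeal β hPQ)
    E.inv.left.hom E.hom.left.hom E.inv.right.hom E.hom.right.hom ?_ ?_ ?_ ?_ ?_ n hPn
  · intro x
    exact congr($(Arrow.inv_hom_id_left E).hom x)
  · intro x
    exact congr($(Arrow.hom_inv_id_left E).hom x)
  · intro x
    exact congr($(Arrow.inv_hom_id_right E).hom x)
  · intro x
    exact congr($(Arrow.hom_inv_id_right E).hom x)
  · intro x
    exact congr($(Arrow.w E.inv).hom x)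

end Groth.Agent.Lib.Helper20.CplStalk
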