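import Mathlib

set_option autoImplicit false
universe u

namespace Groth.Agent.Lib.Helper20.Cubic33

open MvPolynomial

variable {k : Type u} [Field k]

/-- exponent vector of `x0^a x1^(3-a) y0^b y1^(3-b)`. -/
noncomputable def dd (a b : ℕ) : Fin 4 →₀ ℕ :=
  Finsupp.single 0 a + Finsupp.single 1 (3 - a) + Finsupp.single 2 b + Finsupp.single 3 (3 - b)

lemma dd_apply0 (a b : ℕ) : dd a b 0 = a := by
  simp [dd]

lemma dd_apply2 (a b : ℕ) : dd a b 2 = b := by
  simp [dd]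

lemma monomial_dd (a b : ℕ) (c : k) :
    monomial (dd a b) c = C c * (X 0 ^ a * X 1 ^ (3 - a) * X 2 ^ b * X 3 ^ (3 - b)) := by
  simp only [X_pow_eq_monomial, monomial_mul, C_mul_monomial, dd, mul_one]

lemma eq_dd_of_weights (d : Fin 4 →₀ ℕ)
    (h1 : Finsupp.weight (![1, 1, 0, 0] : Fin 4 → ℕ) d = 3)
    (h2 : Finsupp.weight (![0, 0, 1, 1] : Fin 4 → ℕ) d = 3) :
    d = dd (d 0) (d 2) ∧ d 0 < 4 ∧ d 2 < 4 := by
  rw [Finsupp.weight_apply, Finsupp.sum_fintype _ _ (fun i => by simp)] at h1 h2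
  simp only [Fin.sum_univ_four, smul_eq_mul] at h1 h2
  simp at h1 h2
  refine ⟨?_, by omega, by omega⟩
  ext i
  fin_cases i
  · simp [dd]
  · simp [dd]; omega
  · simp [dd]
  · simp [dd]; omega

lemma decomp (f : MvPolynomial (Fin 4) k)
    (h1 : f.IsWeightedHomogeneous (![1, 1, 0, 0] : Fin 4 → ℕ) 3)
    (h2 : f.IsWeightedHomogeneous (![0, 0, 1, 1] : Fin 4 → ℕ) 3) :
    f = ∑ a ∈ Finset.range 4, ∑ b ∈ Finset.range 4,
      C (coeff (dd a b) f) * (X 0 ^ a * X 1 ^ (3 - a) * X 2 ^ b * X 3 ^ (3 - b)) := by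
  have hinj : Set.InjOn (fun ab : ℕ × ℕ => dd ab.1 ab.2)
      ↑(Finset.range 4 ×ˢ Finset.range 4) := by
    rintro ⟨a, b⟩ _ ⟨a', b'⟩ _ h
    have e0 := DFunLike.congr_fun h 0
    have e2 := DFunLike.congr_fun h 2
    simp only [dd_apply0, dd_apply2] at e0 e2
    rw [e0, e2]
  have hsub : f.support ⊆
      (Finset.range 4 ×ˢ Finset.range 4).image (fun ab : ℕ × ℕ => dd ab.1 ab.2) := by
    intro d hd
    rw [mem_support_iff] at hd
    obtain ⟨e, ha, hb⟩ := eq_dd_of_weights d (h1 hd) (h2 hd)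
    rw [Finset.mem_image]
    exact ⟨(d 0, d 2), by simp [ha, hb], e.symm⟩
  conv_lhs => rw [← support_sum_monomial_coeff f]
  rw [Finset.sum_subset hsub (fun d _ hd => by rw [notMem_support_iff.1 hd, monomial_zero])]
  rw [Finset.sum_image hinj, Finset.sum_product]
  simp only [monomial_dd]

lemma sigma_inj : Function.Injective (![2, 3, 0, 1] : Fin 4 → Fin 4) := by decide

lemma mapDomain_dd (a b : ℕ) :
    Finsupp.mapDomain (![2, 3, 0, 1] : Fin 4 → Fin 4) (dd a b) = dd b a := by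
  simp only [dd, Finsupp.mapDomain_add, Finsupp.mapDomain_single]
  simp only [Matrix.cons_val_zero, Matrix.cons_val_one, Matrix.cons_val]
  abel

lemma coeff_rename_dd (f : MvPolynomial (Fin 4) k) (a b : ℕ) :
    coeff (dd b a) (rename (![2, 3, 0, 1] : Fin 4 → Fin 4) f) = coeff (dd a b) f := by
  rw [← mapDomain_dd, coeff_rename_mapDomain _ sigma_inj]

lemma phi1_term (c : k) (a b : ℕ) :
    aeval (![Polynomial.X, 1] : Fin 2 → Polynomial k)
      (rename (![0, 1, 0, 1] : Fin 4 → Fin 2)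
        (C c * (X 0 ^ a * X 1 ^ (3 - a) * X 2 ^ b * X 3 ^ (3 - b)))) =
      Polynomial.C c * Polynomial.X ^ (a + b) := by
  simp only [map_mul, map_pow, rename_C, rename_X, aeval_C, aeval_X]
  simp [pow_add]

lemma phi2_term (c : k) (a b : ℕ) :
    aeval (![1, Polynomial.X] : Fin 2 → Polynomial k)
      (rename (![0, 1, 0, 1] : Fin 4 → Fin 2)
        (C c * (X 0 ^ a * X 1 ^ (3 - a) * X 2 ^ b * X 3 ^ (3 - b)))) =
      Polynomial.C c * Polynomial.X ^ ((3 - a) + (3 - b)) := by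
  simp only [map_mul, map_pow, rename_C, rename_X, aeval_C, aeval_X]
  simp [pow_add]

lemma eval_of_sq_dvd (P : Polynomial k) (t : k) (h : (Polynomial.X - Polynomial.C t) ^ 2 ∣ P) :
    P.eval t = 0 ∧ P.derivative.eval t = 0 := by
  obtain ⟨g, rfl⟩ := h
  constructor
  · simp
  · simp [Polynomial.derivative_mul, Polynomial.derivative_pow]

lemma conds (c : ℕ → ℕ → k)
    (h : (X 0 * X 1 * (X 0 - X 1)) ^ 2 ∣ rename (![0, 1, 0, 1] : Fin 4 → Fin 2)
      (∑ a ∈ Finset.range 4, ∑ b ∈ Finset.range 4,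
        C (c a b) * (X 0 ^ a * X 1 ^ (3 - a) * X 2 ^ b * X 3 ^ (3 - b)))) :
    c 0 0 = 0 ∧ c 0 1 + c 1 0 = 0 ∧ c 3 3 = 0 ∧ c 2 3 + c 3 2 = 0 ∧
    (∑ a ∈ Finset.range 4, ∑ b ∈ Finset.range 4, c a b) = 0 ∧
    (∑ a ∈ Finset.range 4, ∑ b ∈ Finset.range 4, ((a + b : ℕ) : k) * c a b) = 0 := by
  have e1 := map_dvd (aeval (![Polynomial.X, 1] : Fin 2 → Polynomial k)) h
  have e2 := map_dvd (aeval (![1, Polynomial.X] : Fin 2 → Polynomial k)) h
  simp only [map_sum, phi1_term] at e1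
  simp only [map_sum, phi2_term] at e2
  have q1 : aeval (![Polynomial.X, 1] : Fin 2 → Polynomial k)
      ((X 0 * X 1 * (X 0 - X 1)) ^ 2 : MvPolynomial (Fin 2) k) =
      Polynomial.X ^ 2 * (Polynomial.X - Polynomial.C 1) ^ 2 := by
    simp; ring
  have q2 : aeval (![1, Polynomial.X] : Fin 2 → Polynomial k)
      ((X 0 * X 1 * (X 0 - X 1)) ^ 2 : MvPolynomial (Fin 2) k) =
      Polynomial.X ^ 2 * (1 - Polynomial.X) ^ 2 := by
    simp; ring
  rw [q1] at e1
  rw [q2] at e2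
  have hX1 := dvd_trans (Dvd.intro ((Polynomial.X - Polynomial.C (1 : k)) ^ 2) rfl) e1
  have hS1 := dvd_trans (Dvd.intro_left ((Polynomial.X : Polynomial k) ^ 2) rfl) e1
  have hX2 := dvd_trans (Dvd.intro ((1 - (Polynomial.X : Polynomial k)) ^ 2) rfl) e2
  have c0 := Polynomial.X_pow_dvd_iff.1 hX1 0 (by norm_num)
  have c1 := Polynomial.X_pow_dvd_iff.1 hX1 1 (by norm_num)
  have c5 := Polynomial.X_pow_dvd_iff.1 hX2 1 (by norm_num)
  have c6 := Polynomial.X_pow_dvd_iff.1 hX2 0 (by norm_num)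
  obtain ⟨hs, hd⟩ := eval_of_sq_dvd _ 1 hS1
  simp [Finset.sum_range_succ, Polynomial.coeff_C_mul, Polynomial.coeff_X_pow] at c0 c1 c5 c6
  refine ⟨c0, c1, c6, c5, ?_, ?_⟩
  · simpa [Polynomial.eval_finsetSum] using hs
  · simp only [Polynomial.derivative_sum, Polynomial.derivative_C_mul,
      Polynomial.derivative_X_pow, Polynomial.eval_finsetSum, Polynomial.eval_mul,
      Polynomial.eval_C, Polynomial.eval_pow, Polynomial.eval_X, one_pow, mul_one] at hd
    rw [← hd]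
    refine Finset.sum_congr rfl fun a _ => Finset.sum_congr rfl fun b _ => ?_
    ring

end Groth.Agent.Lib.Helper20.Cubic33
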