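import Mathlib

set_option autoImplicit false
universe u

namespace Groth.Agent.Lib.Helper20.Cubic33

open MvPolynomial

variable {k : Type u} [Field k]

/-- the diagonal form -/
noncomputable def lP : MvPolynomial (Fin 4) k := X 0 * X 3 - X 1 * X 2
noncomputable def h1P : MvPolynomial (Fin 4) k := X 0 * (X 3 - X 2) + X 2 * (X 1 - X 0)
noncomputable def h2P : MvPolynomial (Fin 4) k := X 1 * (X 2 - X 3) + X 3 * (X 0 - X 1)
noncomputable def h3P : MvPolynomial (Fin 4) k := X 0 * X 3 + X 1 * X 2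
noncomputable def hP : MvPolynomial (Fin 4) k := h1P + h2P + h3P
noncomputable def h13P : MvPolynomial (Fin 4) k := h1P - h3P
noncomputable def h23P : MvPolynomial (Fin 4) k := h2P - h3P
noncomputable def cP : MvPolynomial (Fin 4) k :=
  X 0 * X 1 * (X 0 - X 1) * (X 2 * X 3 * (X 2 - X 3))

variable [CharZero k]

lemma sym_case (c : ℕ → ℕ → k) (hsym : ∀ a b, c b a = c a b)
    (h00 : c 0 0 = 0) (h01 : c 0 1 + c 1 0 = 0) (h33 : c 3 3 = 0) (h23 : c 2 3 + c 3 2 = 0)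
    (hS : ∑ a ∈ Finset.range 4, ∑ b ∈ Finset.range 4, c a b = 0)
    (hD : ∑ a ∈ Finset.range 4, ∑ b ∈ Finset.range 4, ((a + b : ℕ) : k) * c a b = 0) :
    ∃ t0 t1 t2 t3 : k,
      (∑ a ∈ Finset.range 4, ∑ b ∈ Finset.range 4,
        C (c a b) * (X 0 ^ a * X 1 ^ (3 - a) * X 2 ^ b * X 3 ^ (3 - b)) :
          MvPolynomial (Fin 4) k) =
      C t0 * cP + C t1 * (lP ^ 2 * hP) + C t2 * (lP ^ 2 * h13P) + C t3 * (lP ^ 2 * h23P) := by
  have s01 := hsym 0 1
  have s02 := hsym 0 2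
  have s03 := hsym 0 3
  have s12 := hsym 1 2
  have s13 := hsym 1 3
  have s23 := hsym 2 3
  simp only [Finset.sum_range_succ, Finset.sum_range_zero, zero_add] at hS hD
  push_cast at hD
  obtain ⟨t1, ht1⟩ : ∃ t1, c 0 3 = 3 * t1 := ⟨c 0 3 / 3, by ring⟩
  obtain ⟨t3, ht3⟩ : ∃ t3, c 0 2 = (-2) * t1 + (-2) * t3 := ⟨(c 0 2 + 2 * t1) / (-2), by ring⟩
  obtain ⟨t2, ht2⟩ : ∃ t2, c 1 3 = (-2) * t1 + (-2) * t2 := ⟨(c 1 3 + 2 * t1) / (-2), by ring⟩
  obtain ⟨t0, ht0⟩ : ∃ t0, c 1 2 = (-1) * t0 + (-3) * t1 := ⟨-(c 1 2 + 3 * t1), by ring⟩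
  have e00 : c 0 0 = 0 := by linear_combination (1) * h00
  have e01 : c 0 1 = 0 := by linear_combination (-1/2) * s01 + (1/2) * h01
  have e02 : c 0 2 = (-2) * t1 + (-2) * t3 := by linear_combination (1) * ht3
  have e03 : c 0 3 = (3) * t1 := by linear_combination (1) * ht1
  have e10 : c 1 0 = 0 := by linear_combination (1/2) * s01 + (1/2) * h01
  have e11 : c 1 1 = (1) * t0 + (4) * t1 + (4) * t3 := by linear_combination (-1) * s02 + (-1/2) * s03 + (-1/2) * s12 + (-2) * h00 + (-3/2) * h01 + (1) * h33 + (1/2) * h23 + (2) * hS + (-1/2) * hD + (-1) * ht1 + (-2) * ht3 + (-1) * ht0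
  have e12 : c 1 2 = (-1) * t0 + (-3) * t1 := by linear_combination (1) * ht0
  have e13 : c 1 3 = (-2) * t1 + (-2) * t2 := by linear_combination (1) * ht2
  have e20 : c 2 0 = (-2) * t1 + (-2) * t3 := by linear_combination (1) * s02 + (1) * ht3
  have e21 : c 2 1 = (-1) * t0 + (-3) * t1 := by linear_combination (1) * s12 + (1) * ht0
  have e22 : c 2 2 = (1) * t0 + (4) * t1 + (4) * t2 := by linear_combination (-1/2) * s03 + (-1/2) * s12 + (-1) * s13 + (1) * h00 + (1/2) * h01 + (-2) * h33 + (-3/2) * h23 + (-1) * hS + (1/2) * hD + (-1) * ht1 + (-2) * ht2 + (-1) * ht0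
  have e23 : c 2 3 = 0 := by linear_combination (-1/2) * s23 + (1/2) * h23
  have e30 : c 3 0 = (3) * t1 := by linear_combination (1) * s03 + (1) * ht1
  have e31 : c 3 1 = (-2) * t1 + (-2) * t2 := by linear_combination (1) * s13 + (1) * ht2
  have e32 : c 3 2 = 0 := by linear_combination (1/2) * s23 + (1/2) * h23
  have e33 : c 3 3 = 0 := by linear_combination (1) * h33
  refine ⟨t0, t1, t2, t3, ?_⟩
  simp only [Finset.sum_range_succ, Finset.sum_range_zero, zero_add]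
  rw [e00, e01, e02, e03, e10, e11, e12, e13, e20, e21, e22, e23, e30, e31, e32, e33]
  simp only [map_add, map_mul, map_neg, map_ofNat, map_zero, map_one, cP, lP, hP, h13P, h23P,
    h1P, h2P, h3P]
  ring

lemma anti_case (c : ℕ → ℕ → k) (hanti : ∀ a b, c b a = -c a b) :
    ∃ u0 u1 u2 u3 u4 u5 : k,
      (∑ a ∈ Finset.range 4, ∑ b ∈ Finset.range 4,
        C (c a b) * (X 0 ^ a * X 1 ^ (3 - a) * X 2 ^ b * X 3 ^ (3 - b)) :
          MvPolynomial (Fin 4) k) =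
      C u0 * (lP * hP ^ 2) + C u1 * (lP * hP * h13P) + C u2 * (lP * hP * h23P) +
        C u3 * (lP * h13P ^ 2) + C u4 * (lP * h23P ^ 2) + C u5 * (lP * h13P * h23P) := by
  have s01 := hanti 0 1
  have s02 := hanti 0 2
  have s03 := hanti 0 3
  have s12 := hanti 1 2
  have s13 := hanti 1 3
  have s23 := hanti 2 3
  have d0 : c 0 0 = 0 := by linear_combination (1/2 : k) * hanti 0 0
  have d1 : c 1 1 = 0 := by linear_combination (1/2 : k) * hanti 1 1
  have d2 : c 2 2 = 0 := by linear_combination (1/2 : k) * hanti 2 2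
  have d3 : c 3 3 = 0 := by linear_combination (1/2 : k) * hanti 3 3
  obtain ⟨u0, hu0⟩ : ∃ u0, c 0 3 = (-9) * u0 := ⟨c 0 3 / (-9), by ring⟩
  obtain ⟨u2, hu2⟩ : ∃ u2, c 0 2 = (12) * u0 + (6) * u2 := ⟨(c 0 2 - 12 * u0) / 6, by ring⟩
  obtain ⟨u1, hu1⟩ : ∃ u1, c 1 3 = (12) * u0 + (6) * u1 := ⟨(c 1 3 - 12 * u0) / 6, by ring⟩
  obtain ⟨u4, hu4⟩ : ∃ u4, c 0 1 = (-4) * u0 + (-4) * u2 + (-4) * u4 :=
    ⟨(c 0 1 + 4 * u0 + 4 * u2) / (-4), by ring⟩
  obtain ⟨u3, hu3⟩ : ∃ u3, c 2 3 = (-4) * u0 + (-4) * u1 + (-4) * u3 :=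
    ⟨(c 2 3 + 4 * u0 + 4 * u1) / (-4), by ring⟩
  obtain ⟨u5, hu5⟩ : ∃ u5, c 1 2 = (-17) * u0 + (-4) * u1 + (-4) * u2 + (-4) * u5 :=
    ⟨(c 1 2 + 17 * u0 + 4 * u1 + 4 * u2) / (-4), by ring⟩
  have e00 : c 0 0 = 0 := by linear_combination (1) * d0
  have e01 : c 0 1 = (-4) * u0 + (-4) * u2 + (-4) * u4 := by linear_combination (1) * hu4
  have e02 : c 0 2 = (12) * u0 + (6) * u2 := by linear_combination (1) * hu2
  have e03 : c 0 3 = (-9) * u0 := by linear_combination (1) * hu0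
  have e10 : c 1 0 = (4) * u0 + (4) * u2 + (4) * u4 := by linear_combination (1) * s01 + (-1) * hu4
  have e11 : c 1 1 = 0 := by linear_combination (1) * d1
  have e12 : c 1 2 = (-17) * u0 + (-4) * u1 + (-4) * u2 + (-4) * u5 := by linear_combination (1) * hu5
  have e13 : c 1 3 = (12) * u0 + (6) * u1 := by linear_combination (1) * hu1
  have e20 : c 2 0 = (-12) * u0 + (-6) * u2 := by linear_combination (1) * s02 + (-1) * hu2
  have e21 : c 2 1 = (17) * u0 + (4) * u1 + (4) * u2 + (4) * u5 := by linear_combination (1) * s12 + (-1) * hu5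
  have e22 : c 2 2 = 0 := by linear_combination (1) * d2
  have e23 : c 2 3 = (-4) * u0 + (-4) * u1 + (-4) * u3 := by linear_combination (1) * hu3
  have e30 : c 3 0 = (9) * u0 := by linear_combination (1) * s03 + (-1) * hu0
  have e31 : c 3 1 = (-12) * u0 + (-6) * u1 := by linear_combination (1) * s13 + (-1) * hu1
  have e32 : c 3 2 = (4) * u0 + (4) * u1 + (4) * u3 := by linear_combination (1) * s23 + (-1) * hu3
  have e33 : c 3 3 = 0 := by linear_combination (1) * d3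
  refine ⟨u0, u1, u2, u3, u4, u5, ?_⟩
  simp only [Finset.sum_range_succ, Finset.sum_range_zero, zero_add]
  rw [e00, e01, e02, e03, e10, e11, e12, e13, e20, e21, e22, e23, e30, e31, e32, e33]
  simp only [map_add, map_mul, map_neg, map_ofNat, map_zero, lP, hP, h13P, h23P,
    h1P, h2P, h3P]
  ring

set_option maxHeartbeats 1000000 in
lemma indep10 (t0 t1 t2 t3 t4 t5 t6 t7 t8 t9 : k)
    (h : C t0 * cP + C t1 * (lP ^ 2 * hP) + C t2 * (lP ^ 2 * h13P) + C t3 * (lP ^ 2 * h23P) +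
      C t4 * (lP * hP ^ 2) + C t5 * (lP * hP * h13P) + C t6 * (lP * hP * h23P) +
      C t7 * (lP * h13P ^ 2) + C t8 * (lP * h23P ^ 2) + C t9 * (lP * h13P * h23P) =
      (0 : MvPolynomial (Fin 4) k)) :
    t0 = 0 ∧ t1 = 0 ∧ t2 = 0 ∧ t3 = 0 ∧ t4 = 0 ∧ t5 = 0 ∧ t6 = 0 ∧ t7 = 0 ∧ t8 = 0 ∧ t9 = 0 := by
  have E0 := congrArg (eval (![2, -1, -1, 0] : Fin 4 → k)) h
  have E1 := congrArg (eval (![2, 1, -1, 1] : Fin 4 → k)) h
  have E2 := congrArg (eval (![2, -1, 0, -1] : Fin 4 → k)) h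
  have E3 := congrArg (eval (![-1, 0, 1, 1] : Fin 4 → k)) h
  have E4 := congrArg (eval (![1, 2, -1, -1] : Fin 4 → k)) h
  have E5 := congrArg (eval (![1, -1, -1, 0] : Fin 4 → k)) h
  have E6 := congrArg (eval (![1, 1, 1, 2] : Fin 4 → k)) h
  have E7 := congrArg (eval (![1, 0, -1, 2] : Fin 4 → k)) h
  have E8 := congrArg (eval (![-1, 2, 1, 0] : Fin 4 → k)) h
  have E9 := congrArg (eval (![0, -1, 1, 1] : Fin 4 → k)) h
  simp only [map_add, map_mul, map_pow, map_sub, eval_X, eval_C, map_zero, cP, lP, hP, h13P, h23P,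
    h1P, h2P, h3P, Matrix.cons_val_zero, Matrix.cons_val_one, Matrix.cons_val] at E0 E1 E2 E3 E4 E5 E6 E7 E8 E9
  ring_nf at E0 E1 E2 E3 E4 E5 E6 E7 E8 E9
  refine ⟨?_, ?_, ?_, ?_, ?_, ?_, ?_, ?_, ?_, ?_⟩
  · linear_combination (15/2) * E0 + (1/4) * E1 + (-1/4) * E2 + (-5/4) * E3 + (7/4) * E4 + (-33) * E5 + (-1) * E6 + (-1/2) * E7 + (7/2) * E8 + (-17/4) * E9
  · linear_combination (1/9) * E0 + (-1/18) * E3 + (-1/2) * E5 + (1/72) * E7 + (5/72) * E8
  · linear_combination (-4/9) * E0 + (2/9) * E3 + (2) * E5 + (1/144) * E7 + (-31/144) * E8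
  · linear_combination (11/36) * E0 + (-11/72) * E3 + (1/8) * E4 + (-11/8) * E5 + (-1/8) * E6 + (1/144) * E7 + (23/144) * E8
  · linear_combination (-1/54) * E3 + (1/18) * E5 + (1/216) * E7 + (-1/72) * E8
  · linear_combination (1/18) * E0 + (5/54) * E3 + (-4/9) * E5 + (-1/432) * E7 + (1/16) * E8
  · linear_combination (-5/36) * E0 + (-1/36) * E2 + (29/216) * E3 + (-1/72) * E4 + (31/72) * E5 + (1/72) * E6 + (-13/432) * E7 + (-5/144) * E8 + (-1/18) * E9
  · linear_combination (-2/9) * E0 + (-2/27) * E3 + (8/9) * E5 + (-1/432) * E7 + (-13/144) * E8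
  · linear_combination (-7/36) * E0 + (-1/72) * E2 + (29/216) * E3 + (-5/72) * E4 + (55/72) * E5 + (5/72) * E6 + (-7/432) * E7 + (-11/144) * E8 + (2/9) * E9
  · linear_combination (1/3) * E0 + (-1/72) * E2 + (13/216) * E3 + (13/72) * E4 + (-31/18) * E5 + (-1/18) * E6 + (-1/54) * E7 + (5/24) * E8 + (-19/36) * E9

theorem linIndep : LinearIndependent k
    ![(cP : MvPolynomial (Fin 4) k), lP ^ 2 * hP, lP ^ 2 * h13P, lP ^ 2 * h23P, lP * hP ^ 2,
      lP * hP * h13P, lP * hP * h23P, lP * h13P ^ 2, lP * h23P ^ 2, lP * h13P * h23P] := by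
  rw [Fintype.linearIndependent_iff]
  intro g hg
  simp [Fin.sum_univ_succ, smul_eq_C_mul] at hg
  obtain ⟨h0, h1, h2, h3, h4, h5, h6, h7, h8, h9⟩ :=
    indep10 (g 0) (g 1) (g 2) (g 3) (g 4) (g 5) (g 6) (g 7) (g 8) (g 9) (by rw [← hg]; ring)
  intro i
  fin_cases i
  · exact h0
  · exact h1
  · exact h2
  · exact h3
  · exact h4
  · exact h5
  · exact h6
  · exact h7
  · exact h8
  · exact h9

end Groth.Agent.Lib.Helper20.Cubic33
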