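import Mathlib
import Groth.Agent.Lib.Helper20.Cubic33a
import Groth.Agent.Lib.Helper20.Cubic33b

set_option autoImplicit false
universe u

namespace Groth.Agent.Lib.Helper20.Cubic33

open MvPolynomial

variable {k : Type u} [Field k]

/-- bihomogeneous of bidegree `(m, n)` -/
def B (m n : ℕ) (p : MvPolynomial (Fin 4) k) : Prop :=
  p.IsWeightedHomogeneous (![1, 1, 0, 0] : Fin 4 → ℕ) m ∧
    p.IsWeightedHomogeneous (![0, 0, 1, 1] : Fin 4 → ℕ) n

lemma B_mul {m n m' n' M N : ℕ} {p q : MvPolynomial (Fin 4) k} (hp : B m n p) (hq : B m' n' q)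
    (e1 : m + m' = M) (e2 : n + n' = N) : B M N (p * q) := by
  subst e1 e2
  exact ⟨hp.1.mul hq.1, hp.2.mul hq.2⟩

lemma B_add {m n : ℕ} {p q : MvPolynomial (Fin 4) k} (hp : B m n p) (hq : B m n q) :
    B m n (p + q) := ⟨hp.1.add hq.1, hp.2.add hq.2⟩

lemma B_sub {m n : ℕ} {p q : MvPolynomial (Fin 4) k} (hp : B m n p) (hq : B m n q) :
    B m n (p - q) := ⟨hp.1.sub hq.1, hp.2.sub hq.2⟩

lemma B_smul {m n : ℕ} {p : MvPolynomial (Fin 4) k} (t : k) (hp : B m n p) :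
    B m n (C t * p) := by
  have h := B_mul (p := C t) (q := p) (m := 0) (n := 0)
    ⟨isWeightedHomogeneous_C _ t, isWeightedHomogeneous_C _ t⟩ hp (zero_add m) (zero_add n)
  exact h

lemma B_X0 : B 1 0 (X 0 : MvPolynomial (Fin 4) k) :=
  ⟨isWeightedHomogeneous_X k _ 0, isWeightedHomogeneous_X k _ 0⟩
lemma B_X1 : B 1 0 (X 1 : MvPolynomial (Fin 4) k) :=
  ⟨isWeightedHomogeneous_X k _ 1, isWeightedHomogeneous_X k _ 1⟩
lemma B_X2 : B 0 1 (X 2 : MvPolynomial (Fin 4) k) :=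
  ⟨isWeightedHomogeneous_X k _ 2, isWeightedHomogeneous_X k _ 2⟩
lemma B_X3 : B 0 1 (X 3 : MvPolynomial (Fin 4) k) :=
  ⟨isWeightedHomogeneous_X k _ 3, isWeightedHomogeneous_X k _ 3⟩

lemma B_l : B 1 1 (lP : MvPolynomial (Fin 4) k) :=
  B_sub (B_mul B_X0 B_X3 rfl rfl) (B_mul B_X1 B_X2 rfl rfl)

lemma B_h1 : B 1 1 (h1P : MvPolynomial (Fin 4) k) :=
  B_add (B_mul B_X0 (B_sub B_X3 B_X2) rfl rfl) (B_mul B_X2 (B_sub B_X1 B_X0) rfl rfl)

lemma B_h2 : B 1 1 (h2P : MvPolynomial (Fin 4) k) :=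
  B_add (B_mul B_X1 (B_sub B_X2 B_X3) rfl rfl) (B_mul B_X3 (B_sub B_X0 B_X1) rfl rfl)

lemma B_h3 : B 1 1 (h3P : MvPolynomial (Fin 4) k) :=
  B_add (B_mul B_X0 B_X3 rfl rfl) (B_mul B_X1 B_X2 rfl rfl)

lemma B_h : B 1 1 (hP : MvPolynomial (Fin 4) k) := B_add (B_add B_h1 B_h2) B_h3
lemma B_h13 : B 1 1 (h13P : MvPolynomial (Fin 4) k) := B_sub B_h1 B_h3
lemma B_h23 : B 1 1 (h23P : MvPolynomial (Fin 4) k) := B_sub B_h2 B_h3

lemma B_c : B 3 3 (cP : MvPolynomial (Fin 4) k) :=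
  B_mul (B_mul (B_mul B_X0 B_X1 rfl rfl) (B_sub B_X0 B_X1) rfl rfl)
    (B_mul (B_mul B_X2 B_X3 rfl rfl) (B_sub B_X2 B_X3) rfl rfl) rfl rfl

lemma B_prod3 {p q r : MvPolynomial (Fin 4) k} (hp : B 1 1 p) (hq : B 1 1 q) (hr : B 1 1 r) :
    B 3 3 (p * q * r) := B_mul (B_mul hp hq rfl rfl) hr rfl rfl

lemma sg_l : rename (![2, 3, 0, 1] : Fin 4 → Fin 4) (lP : MvPolynomial (Fin 4) k) = -lP := by
  simp only [lP, map_sub, map_mul, rename_X, Matrix.cons_val_zero, Matrix.cons_val_one,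
    Matrix.cons_val]
  ring

lemma sg_h1 : rename (![2, 3, 0, 1] : Fin 4 → Fin 4) (h1P : MvPolynomial (Fin 4) k) = h1P := by
  simp only [h1P, map_sub, map_add, map_mul, rename_X, Matrix.cons_val_zero, Matrix.cons_val_one,
    Matrix.cons_val]
  ring

lemma sg_h2 : rename (![2, 3, 0, 1] : Fin 4 → Fin 4) (h2P : MvPolynomial (Fin 4) k) = h2P := by
  simp only [h2P, map_sub, map_add, map_mul, rename_X, Matrix.cons_val_zero, Matrix.cons_val_one,
    Matrix.cons_val]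
  ring

lemma sg_h3 : rename (![2, 3, 0, 1] : Fin 4 → Fin 4) (h3P : MvPolynomial (Fin 4) k) = h3P := by
  simp only [h3P, map_add, map_mul, rename_X, Matrix.cons_val_zero, Matrix.cons_val_one,
    Matrix.cons_val]
  ring

lemma sg_h : rename (![2, 3, 0, 1] : Fin 4 → Fin 4) (hP : MvPolynomial (Fin 4) k) = hP := by
  simp only [hP, map_add, sg_h1, sg_h2, sg_h3]

lemma sg_h13 : rename (![2, 3, 0, 1] : Fin 4 → Fin 4) (h13P : MvPolynomial (Fin 4) k) = h13P := by
  simp only [h13P, map_sub, sg_h1, sg_h3]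

lemma sg_h23 : rename (![2, 3, 0, 1] : Fin 4 → Fin 4) (h23P : MvPolynomial (Fin 4) k) = h23P := by
  simp only [h23P, map_sub, sg_h2, sg_h3]

lemma sg_c : rename (![2, 3, 0, 1] : Fin 4 → Fin 4) (cP : MvPolynomial (Fin 4) k) = cP := by
  simp only [cP, map_sub, map_mul, rename_X, Matrix.cons_val_zero, Matrix.cons_val_one,
    Matrix.cons_val]
  ring

lemma rho_l : rename (![0, 1, 0, 1] : Fin 4 → Fin 2) (lP : MvPolynomial (Fin 4) k) = 0 := by
  simp only [lP, map_sub, map_mul, rename_X, Matrix.cons_val_zero, Matrix.cons_val_one,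
    Matrix.cons_val]
  ring

lemma rho_c : rename (![0, 1, 0, 1] : Fin 4 → Fin 2) (cP : MvPolynomial (Fin 4) k) =
    (X 0 * X 1 * (X 0 - X 1)) ^ 2 := by
  simp only [cP, map_sub, map_mul, rename_X, Matrix.cons_val_zero, Matrix.cons_val_one,
    Matrix.cons_val]
  ring

/-- membership in `I` for a product `l * q * r` of `(1,1)`-forms. -/
lemma mem_of_l_mul (I : Submodule k (MvPolynomial (Fin 4) k))
    (hI : ∀ f, f ∈ I ↔
      (f.IsWeightedHomogeneous (![1, 1, 0, 0] : Fin 4 → ℕ) 3 ∧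
       f.IsWeightedHomogeneous (![0, 0, 1, 1] : Fin 4 → ℕ) 3 ∧
       (X 0 * X 1 * (X 0 - X 1)) ^ 2 ∣ rename (![0, 1, 0, 1] : Fin 4 → Fin 2) f))
    {q r : MvPolynomial (Fin 4) k} (hq : B 1 1 q) (hr : B 1 1 r) : lP * q * r ∈ I := by
  have hB := B_prod3 B_l hq hr
  refine (hI _).2 ⟨hB.1, hB.2, ?_⟩
  rw [map_mul, map_mul, rho_l, zero_mul, zero_mul]
  exact dvd_zero _

variable [CharZero k]

theorem main (I : Submodule k (MvPolynomial (Fin 4) k))
    (hI : ∀ f, f ∈ I ↔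
      (f.IsWeightedHomogeneous (![1, 1, 0, 0] : Fin 4 → ℕ) 3 ∧
       f.IsWeightedHomogeneous (![0, 0, 1, 1] : Fin 4 → ℕ) 3 ∧
       (X 0 * X 1 * (X 0 - X 1)) ^ 2 ∣ rename (![0, 1, 0, 1] : Fin 4 → Fin 2) f)) :
    (∀ f, (f ∈ I ∧ rename (![2, 3, 0, 1] : Fin 4 → Fin 4) f = f) ↔
        f ∈ Submodule.span k ({cP, lP ^ 2 * hP, lP ^ 2 * h13P, lP ^ 2 * h23P} :
          Set (MvPolynomial (Fin 4) k))) ∧
    (∀ f, (f ∈ I ∧ rename (![2, 3, 0, 1] : Fin 4 → Fin 4) f = -f) ↔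
        f ∈ Submodule.span k ({lP * hP ^ 2, lP * hP * h13P, lP * hP * h23P, lP * h13P ^ 2,
          lP * h23P ^ 2, lP * h13P * h23P} : Set (MvPolynomial (Fin 4) k))) ∧
    LinearIndependent k
      ![(cP : MvPolynomial (Fin 4) k), lP ^ 2 * hP, lP ^ 2 * h13P, lP ^ 2 * h23P, lP * hP ^ 2,
        lP * hP * h13P, lP * hP * h23P, lP * h13P ^ 2, lP * h23P ^ 2, lP * h13P * h23P] := by
  refine ⟨fun f => ⟨?_, ?_⟩, fun f => ⟨?_, ?_⟩, linIndep⟩
  · rintro ⟨hfI, hinv⟩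
    obtain ⟨h1, h2, hdvd⟩ := (hI f).1 hfI
    have hdec := decomp f h1 h2
    have hsym : ∀ a b, coeff (dd b a) f = coeff (dd a b) f := by
      intro a b
      have := coeff_rename_dd f a b
      rw [hinv] at this
      exact this
    have hdvd' : (X 0 * X 1 * (X 0 - X 1)) ^ 2 ∣ rename (![0, 1, 0, 1] : Fin 4 → Fin 2)
        (∑ a ∈ Finset.range 4, ∑ b ∈ Finset.range 4,
          C (coeff (dd a b) f) * (X 0 ^ a * X 1 ^ (3 - a) * X 2 ^ b * X 3 ^ (3 - b))) := by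
      rw [← hdec]; exact hdvd
    obtain ⟨h00, h01, h33, h23, hS, hD⟩ := conds (fun a b => coeff (dd a b) f) hdvd'
    obtain ⟨t0, t1, t2, t3, ht⟩ := sym_case (fun a b => coeff (dd a b) f) hsym h00 h01 h33 h23 hS hD
    have hf : f = C t0 * cP + C t1 * (lP ^ 2 * hP) + C t2 * (lP ^ 2 * h13P) +
        C t3 * (lP ^ 2 * h23P) := hdec.trans ht
    rw [hf]
    simp only [← smul_eq_C_mul]
    refine Submodule.add_mem _ (Submodule.add_mem _ (Submodule.add_mem _ ?_ ?_) ?_) ?_ <;>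
      exact Submodule.smul_mem _ _ (Submodule.subset_span (by simp))
  · intro hf
    induction hf using Submodule.span_induction with
    | mem x hx =>
      simp only [Set.mem_insert_iff, Set.mem_singleton_iff] at hx
      rcases hx with rfl | rfl | rfl | rfl
      · refine ⟨(hI _).2 ⟨B_c.1, B_c.2, ?_⟩, sg_c⟩
        rw [rho_c]
      · refine ⟨?_, ?_⟩
        · have := mem_of_l_mul I hI B_l (B_h (k := k))
          rwa [← pow_two] at this
        · rw [map_mul, map_pow, sg_l, sg_h]; ring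
      · refine ⟨?_, ?_⟩
        · have := mem_of_l_mul I hI B_l (B_h13 (k := k))
          rwa [← pow_two] at this
        · rw [map_mul, map_pow, sg_l, sg_h13]; ring
      · refine ⟨?_, ?_⟩
        · have := mem_of_l_mul I hI B_l (B_h23 (k := k))
          rwa [← pow_two] at this
        · rw [map_mul, map_pow, sg_l, sg_h23]; ring
    | zero => exact ⟨I.zero_mem, map_zero _⟩
    | add x y _ _ hx hy => exact ⟨I.add_mem hx.1 hy.1, by rw [map_add, hx.2, hy.2]⟩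
    | smul a x _ hx => exact ⟨I.smul_mem a hx.1, by rw [map_smul, hx.2]⟩
  · rintro ⟨hfI, hinv⟩
    obtain ⟨h1, h2, -⟩ := (hI f).1 hfI
    have hdec := decomp f h1 h2
    have hanti : ∀ a b, coeff (dd b a) f = -coeff (dd a b) f := by
      intro a b
      have := coeff_rename_dd f a b
      rw [hinv, coeff_neg] at this
      rw [← this, neg_neg]
    obtain ⟨u0, u1, u2, u3, u4, u5, hu⟩ := anti_case (fun a b => coeff (dd a b) f) hanti
    have hf : f = C u0 * (lP * hP ^ 2) + C u1 * (lP * hP * h13P) + C u2 * (lP * hP * h23P) +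
        C u3 * (lP * h13P ^ 2) + C u4 * (lP * h23P ^ 2) + C u5 * (lP * h13P * h23P) :=
      hdec.trans hu
    rw [hf]
    simp only [← smul_eq_C_mul]
    refine Submodule.add_mem _ (Submodule.add_mem _ (Submodule.add_mem _ (Submodule.add_mem _
      (Submodule.add_mem _ ?_ ?_) ?_) ?_) ?_) ?_ <;>
      exact Submodule.smul_mem _ _ (Submodule.subset_span (by simp))
  · intro hf
    induction hf using Submodule.span_induction with
    | mem x hx =>
      simp only [Set.mem_insert_iff, Set.mem_singleton_iff] at hx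
      rcases hx with rfl | rfl | rfl | rfl | rfl | rfl
      · refine ⟨?_, ?_⟩
        · have := mem_of_l_mul I hI B_h (B_h (k := k))
          rwa [mul_assoc, ← pow_two] at this
        · rw [map_mul, map_pow, sg_l, sg_h]; ring
      · exact ⟨mem_of_l_mul I hI B_h B_h13, by rw [map_mul, map_mul, sg_l, sg_h, sg_h13]; ring⟩
      · exact ⟨mem_of_l_mul I hI B_h B_h23, by rw [map_mul, map_mul, sg_l, sg_h, sg_h23]; ring⟩
      · refine ⟨?_, ?_⟩
        · have := mem_of_l_mul I hI B_h13 (B_h13 (k := k))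
          rwa [mul_assoc, ← pow_two] at this
        · rw [map_mul, map_pow, sg_l, sg_h13]; ring
      · refine ⟨?_, ?_⟩
        · have := mem_of_l_mul I hI B_h23 (B_h23 (k := k))
          rwa [mul_assoc, ← pow_two] at this
        · rw [map_mul, map_pow, sg_l, sg_h23]; ring
      · exact ⟨mem_of_l_mul I hI B_h13 B_h23,
          by rw [map_mul, map_mul, sg_l, sg_h13, sg_h23]; ring⟩
    | zero => exact ⟨I.zero_mem, by rw [map_zero, neg_zero]⟩
    | add x y _ _ hx hy => exact ⟨I.add_mem hx.1 hy.1, by rw [map_add, hx.2, hy.2, neg_add]⟩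
    | smul a x _ hx => exact ⟨I.smul_mem a hx.1, by rw [map_smul, hx.2, smul_neg]⟩

end Groth.Agent.Lib.Helper20.Cubic33
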