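import Mathlib
import Groth.Agent.Lib.Helper7.FCompleteTorsion
import Groth.Agent.Lib.Helper7.FCompleteIdeal
import Groth.Agent.Lib.Helper7.FCompleteRing
import Groth.Agent.Lib.Helper7.FCompleteAdic

/-!
# `f`-complete modules are modules over `B⟦X⟧` with `X` acting as `f`
-/

set_option autoImplicit false
universe u v

open Groth.Agent.Lib.Helper7.FComplete

namespace Groth.Agent.Lib.Helper20.DCFin

variable {B : Type u} [CommRing B] {M : Type v} [AddCommGroup M] [Module B M] {g : B}

section sums

variable (hg : IsFComplete g M)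

lemma sum_map {N : Type*} [AddCommGroup N] [Module B N] (hN : IsFComplete g N) (T : M →ₗ[B] N)
    (c : ℕ → M) : hN.sum (fun n => T (c n)) = T (hg.sum c) := by
  have h1 : hN.sol (fun n => T (c n)) = fun n => T (hg.sol c n) := by
    apply hN.sol_eq
    rw [Δ_comp g T (hg.sol c), hg.sol_spec]
  rw [IsFComplete.sum, h1]
  rfl

lemma sum_smul (a : B) (c : ℕ → M) : hg.sum (fun n => a • c n) = a • hg.sum c := by
  have := sum_map hg hg (a • (LinearMap.id : M →ₗ[B] M)) c
  simpa using this

lemma sum_add' (c c' : ℕ → M) : hg.sum (fun n => c n + c' n) = hg.sum c + hg.sum c' :=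
  hg.sum_add c c'

lemma sum_zero' : hg.sum (fun _ => (0 : M)) = 0 := hg.sum_zero

lemma sol_succ (c : ℕ → M) (n : ℕ) : hg.sol c n = c n + g • hg.sol c (n + 1) := by
  have := congrFun (hg.sol_spec c) n
  rw [Δ_apply] at this
  rw [← this]
  abel

/-- Rearrangement of a double canonical sum along anti-diagonals. -/
lemma sum_sum (c : ℕ → ℕ → M) :
    hg.sum (fun k => hg.sum (c k)) =
      hg.sum (fun n => ∑ kl ∈ Finset.HasAntidiagonal.antidiagonal n, c kl.1 kl.2) := by
  symm
  have key : hg.sol (fun n => ∑ kl ∈ Finset.HasAntidiagonal.antidiagonal n, c kl.1 kl.2) =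
      fun n => ∑ k ∈ Finset.range n, hg.sol (c k) (n - k) + hg.sol (fun k => hg.sum (c k)) n := by
    apply hg.sol_eq
    funext n
    rw [Δ_apply, Finset.sum_range_succ, Finset.Nat.sum_antidiagonal_eq_sum_range_succ
      (fun k l => c k l), Finset.sum_range_succ]
    have h1 : ∀ k ∈ Finset.range n, hg.sol (c k) (n - k) =
        c k (n - k) + g • hg.sol (c k) (n + 1 - k) := by
      intro k hk
      have hk' : k < n := Finset.mem_range.mp hk
      rw [sol_succ hg (c k) (n - k)]
      congr 3
      omega
    rw [Finset.sum_congr rfl h1, Finset.sum_add_distrib]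
    have h2 : hg.sol (fun k => hg.sum (c k)) n =
        hg.sum (c n) + g • hg.sol (fun k => hg.sum (c k)) (n + 1) :=
      sol_succ hg _ n
    have h3 : hg.sum (c n) = c n 0 + g • hg.sol (c n) 1 := by
      rw [IsFComplete.sum, sol_succ hg (c n) 0]
    rw [h2, h3]
    simp only [Nat.sub_self, smul_add, Finset.smul_sum]
    have h4 : n + 1 - n = 1 := by omega
    rw [h4]
    abel
  rw [IsFComplete.sum, key]
  simp [IsFComplete.sum]

end sums

section module

variable (hg : IsFComplete g M)

/-- The action of a power series on an `f`-complete module, `X` acting as `f`. -/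
noncomputable def psSmul (P : PowerSeries B) (m : M) : M :=
  hg.sum (fun k => PowerSeries.coeff k P • m)

lemma psSmul_add (P : PowerSeries B) (m m' : M) :
    psSmul hg P (m + m') = psSmul hg P m + psSmul hg P m' := by
  unfold psSmul
  rw [← sum_add']
  congr 1
  funext k
  rw [smul_add]

lemma psSmul_zero (P : PowerSeries B) : psSmul hg P (0 : M) = 0 := by
  unfold psSmul
  simp only [smul_zero]
  exact sum_zero' hg

lemma add_psSmul (P Q : PowerSeries B) (m : M) :
    psSmul hg (P + Q) m = psSmul hg P m + psSmul hg Q m := by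
  unfold psSmul
  rw [← sum_add']
  congr 1
  funext k
  rw [map_add, add_smul]

lemma zero_psSmul (m : M) : psSmul hg (0 : PowerSeries B) m = 0 := by
  unfold psSmul
  simp only [map_zero, zero_smul]
  exact sum_zero' hg

lemma psSmul_smul (a : B) (P : PowerSeries B) (m : M) :
    psSmul hg P (a • m) = a • psSmul hg P m := by
  unfold psSmul
  rw [← sum_smul]
  congr 1
  funext k
  rw [smul_comm]

lemma one_psSmul (m : M) : psSmul hg (1 : PowerSeries B) m = m := by
  classical
  unfold psSmul
  have h1 : (fun k => PowerSeries.coeff k (1 : PowerSeries B) • m) = Pi.single 0 m := by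
    funext k
    rw [PowerSeries.coeff_one]
    by_cases hk : k = 0
    · subst hk; simp
    · simp [hk]
  rw [h1, hg.sum_single 0 m, pow_zero, one_smul]

lemma X_psSmul (m : M) : psSmul hg (PowerSeries.X : PowerSeries B) m = g • m := by
  classical
  unfold psSmul
  have h1 : (fun k => PowerSeries.coeff k (PowerSeries.X : PowerSeries B) • m) = Pi.single 1 m := by
    funext k
    rw [PowerSeries.coeff_X]
    by_cases hk : k = 1
    · subst hk; simp
    · simp [hk]
  rw [h1, hg.sum_single 1 m, pow_one]

lemma C_psSmul (b : B) (m : M) : psSmul hg (PowerSeries.C b : PowerSeries B) m = b • m := by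
  classical
  unfold psSmul
  have h1 : (fun k => PowerSeries.coeff k (PowerSeries.C b : PowerSeries B) • m) =
      Pi.single 0 (b • m) := by
    funext k
    rw [PowerSeries.coeff_C]
    by_cases hk : k = 0
    · subst hk; simp
    · simp [hk]
  rw [h1, hg.sum_single 0 (b • m), pow_zero, one_smul]

lemma mul_psSmul (P Q : PowerSeries B) (m : M) :
    psSmul hg (P * Q) m = psSmul hg P (psSmul hg Q m) := by
  have h1 : psSmul hg P (psSmul hg Q m) =
      hg.sum (fun k => hg.sum (fun l => (PowerSeries.coeff k P * PowerSeries.coeff l Q) • m)) := by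
    unfold psSmul
    congr 1
    funext k
    rw [← sum_smul]
    congr 1
    funext l
    rw [mul_smul]
  rw [h1, sum_sum]
  unfold psSmul
  congr 1
  funext n
  rw [PowerSeries.coeff_mul, Finset.sum_smul]

/-- The `B⟦X⟧`-module structure on an `f`-complete `B`-module, with `X` acting as `f`. -/
@[reducible] noncomputable def psModule : Module (PowerSeries B) M where
  smul := psSmul hg
  one_smul := one_psSmul hg
  mul_smul := mul_psSmul hg
  smul_zero := psSmul_zero hg
  smul_add := psSmul_add hg
  add_smul := add_psSmul hg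
  zero_smul := zero_psSmul hg

lemma psModule_smul_def (P : PowerSeries B) (m : M) :
    letI := psModule hg
    P • m = psSmul hg P m := rfl

lemma psModule_isScalarTower :
    letI := psModule hg
    IsScalarTower B (PowerSeries B) M := by
  letI := psModule hg
  refine ⟨fun b P m => ?_⟩
  change psSmul hg (b • P) m = b • psSmul hg P m
  unfold psSmul
  rw [← sum_smul]
  congr 1
  funext k
  rw [map_smul, smul_eq_mul, mul_smul]

end module

end Groth.Agent.Lib.Helper20.DCFin
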