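import Groth.Agent.Lib.Helper20.DCFinA
import Groth.Agent.Lib.Helper7.FCompleteHensel

/-!
# Derived complete modules with finite reduction are adically separated
-/

set_option autoImplicit false
universe u v

open Groth.Agent.Lib.Helper7.FComplete

namespace Groth.Agent.Lib.Helper20.DCFin

section fin

variable {B : Type u} [CommRing B] {M : Type v} [AddCommGroup M] [Module B M]

lemma isFComplete_span_finset {g : B} (hB : IsFComplete g B) (hM : IsFComplete g M)
    (s : Finset M) : IsFComplete g (Submodule.span B (s : Set M)) := by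
  classical
  have h1 : IsFComplete g (s → B) := IsFComplete.pi fun _ => hB
  have h2 := IsFComplete.range (Fintype.linearCombination B (fun x : s => (x : M))) h1 hM
  have h3 : LinearMap.range (Fintype.linearCombination B (fun x : s => (x : M))) =
      Submodule.span B (s : Set M) := by
    rw [Fintype.range_linearCombination]
    congr 1
    ext x
    simp
  rw [h3] at h2
  exact h2

theorem span_eq_top_of_isFComplete (T : Finset B) (hB : ∀ g ∈ T, IsFComplete g B)
    (hM : ∀ g ∈ T, IsFComplete g M) (s : Finset M)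
    (hs : Submodule.span B (s : Set M) ⊔ Ideal.span (T : Set B) • (⊤ : Submodule B M) = ⊤) :
    Submodule.span B (s : Set M) = ⊤ := by
  set W := Submodule.span B (s : Set M) with hW
  have hQ : ∀ g ∈ T, IsFComplete g (M ⧸ W) := fun g hg =>
    IsFComplete.quotient W (isFComplete_span_finset (hB g hg) (hM g hg) s) (hM g hg)
  have htop : Ideal.span (T : Set B) • (⊤ : Submodule B (M ⧸ W)) = ⊤ := by
    have h1 : Submodule.map W.mkQ (⊤ : Submodule B M) = ⊤ := by
      rw [Submodule.map_top, Submodule.range_mkQ]
    rw [← h1, ← Submodule.map_smul'']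
    conv_rhs => rw [← hs]
    rw [Submodule.map_sup, Submodule.mkQ_map_self, bot_sup_eq]
  have hsub := subsingleton_of_isFComplete_of_smul_top_eq_top T (M ⧸ W) hQ htop
  exact Submodule.Quotient.subsingleton_iff.mp hsub

theorem hausdorff_base [IsNoetherianRing B] (T : Finset B) (hB : ∀ g ∈ T, IsFComplete g B)
    (hM : ∀ g ∈ T, IsFComplete g M) (s : Finset M)
    (hs : Submodule.span B (s : Set M) ⊔ Ideal.span (T : Set B) • (⊤ : Submodule B M) = ⊤)
    (x : M) (hx : ∀ k : ℕ, x ∈ (Ideal.span (T : Set B)) ^ k • (⊤ : Submodule B M)) : x = 0 := by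
  have h1 := span_eq_top_of_isFComplete T hB hM s hs
  have hfin : Module.Finite B M := ⟨⟨s, h1⟩⟩
  have hjac : Ideal.span (T : Set B) ≤ Ideal.jacobson ⊥ := by
    intro y hy
    rw [Ideal.mem_jacobson_bot]
    intro z
    have h2 : -(y * z) ∈ Ideal.span (T : Set B) :=
      (Ideal.span (T : Set B)).neg_mem (Ideal.mul_mem_right _ _ hy)
    have h3 : IsFComplete (-(y * z)) B := isFComplete_of_mem_span hB h2
    have := isUnit_one_sub_of_isFComplete h3
    rw [sub_neg_eq_add, add_comm] at this
    exact this
  have h4 := Ideal.iInf_pow_smul_eq_bot_of_le_jacobson (M := M) (Ideal.span (T : Set B)) hjac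
  have h5 : x ∈ (⨅ i : ℕ, (Ideal.span (T : Set B)) ^ i • ⊤ : Submodule B M) :=
    (Submodule.mem_iInf _).mpr hx
  rw [h4] at h5
  exact (Submodule.mem_bot B).mp h5

end fin

end Groth.Agent.Lib.Helper20.DCFin
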