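import Groth.Agent.Lib.Helper20.DCFinB

/-!
# Derived complete modules with finite reduction are adically separated: induction
-/

set_option autoImplicit false
universe u v

open Groth.Agent.Lib.Helper7.FComplete

namespace Groth.Agent.Lib.Helper20.DCFin

lemma isFComplete_of_smul_eq {B B' : Type*} [CommRing B] [CommRing B'] {M : Type*} [AddCommGroup M]
    [Module B M] [Module B' M] {g : B} {g' : B'} (h : ∀ m : M, g' • m = g • m)
    (hg : IsFComplete g M) : IsFComplete g' M := by
  have h1 : (Δ g' M : (ℕ → M) → (ℕ → M)) = Δ g M := by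
    funext m n
    simp [Δ_apply, h]
  rw [IsFComplete, h1]
  exact hg

lemma isFComplete_powerSeries {B : Type u} [CommRing B] {g : B} (hB : IsFComplete g B) :
    IsFComplete g (PowerSeries B) := by
  have : IsFComplete g ((Unit →₀ ℕ) → B) := IsFComplete.pi fun _ => hB
  exact this

lemma pow_smul_top_le {B B' : Type*} [CommRing B] [CommRing B'] [Algebra B B'] {M : Type*}
    [AddCommGroup M] [Module B M] [Module B' M] [IsScalarTower B B' M]
    (S : Set B) (I' : Ideal B') (h : ∀ a ∈ S, ∃ a' ∈ I', ∀ m : M, a' • m = a • m) (k : ℕ) :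
    ∀ x : M, x ∈ (Ideal.span S) ^ k • (⊤ : Submodule B M) → x ∈ I' ^ k • (⊤ : Submodule B' M) := by
  induction k with
  | zero =>
    intro x _
    rw [pow_zero, Ideal.one_eq_top, Submodule.top_smul]
    exact Submodule.mem_top
  | succ k ih =>
    intro x hx
    rw [pow_succ', Submodule.mul_smul] at hx ⊢
    refine Submodule.smul_induction_on hx (fun r hr n hn => ?_) (fun y z hy hz => Submodule.add_mem _ hy hz)
    have hn' := ih n hn
    induction hr using Submodule.span_induction with
    | mem a ha =>
      obtain ⟨a', ha', haa⟩ := h a ha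
      rw [← haa n]
      exact Submodule.smul_mem_smul ha' hn'
    | zero => rw [zero_smul]; exact Submodule.zero_mem _
    | add a b _ _ iha ihb => rw [add_smul]; exact Submodule.add_mem _ iha ihb
    | smul c a _ iha =>
      rw [smul_assoc, ← algebraMap_smul B' c (a • n)]
      exact Submodule.smul_mem _ _ iha

theorem hausdorff_aux (r : ℕ) : ∀ (B : Type u) [CommRing B] [IsNoetherianRing B] (M : Type u)
    [AddCommGroup M] [Module B M] (T F : Finset B), F.card ≤ r → (∀ g ∈ T, IsFComplete g B) →
    (∀ g ∈ T, IsFComplete g M) → (∀ f ∈ F, IsFComplete f M) → ∀ (s : Finset M),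
    Submodule.span B (s : Set M) ⊔
      Ideal.span ((T : Set B) ∪ (F : Set B)) • (⊤ : Submodule B M) = ⊤ →
    ∀ x : M, (∀ k : ℕ, x ∈ (Ideal.span ((T : Set B) ∪ (F : Set B))) ^ k •
      (⊤ : Submodule B M)) → x = 0 := by
  classical
  induction r with
  | zero =>
    intro B _ _ M _ _ T F hF hTB hTM _ s hs x hx
    have hF0 : F = ∅ := Finset.card_eq_zero.mp (Nat.le_zero.mp hF)
    subst hF0
    rw [Finset.coe_empty, Set.union_empty] at hs hx
    exact hausdorff_base T hTB hTM s hs x hx
  | succ r ih =>
    intro B _ _ M _ _ T F hF hTB hTM hFM s hs x hx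
    rcases F.eq_empty_or_nonempty with rfl | ⟨f, hf⟩
    · rw [Finset.coe_empty, Set.union_empty] at hs hx
      exact hausdorff_base T hTB hTM s hs x hx
    · have hfM : IsFComplete f M := hFM f hf
      letI inst : Module (PowerSeries B) M := psModule hfM
      haveI tower : IsScalarTower B (PowerSeries B) M := psModule_isScalarTower hfM
      have hX : ∀ m : M, (PowerSeries.X : PowerSeries B) • m = f • m := fun m => X_psSmul hfM m
      have hC : ∀ (b : B) (m : M), (PowerSeries.C b : PowerSeries B) • m = b • m :=
        fun b m => C_psSmul hfM b m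
      obtain ⟨T', hT'⟩ : ∃ T' : Finset (PowerSeries B),
          T' = T.image (PowerSeries.C) ∪ {PowerSeries.X} := ⟨_, rfl⟩
      obtain ⟨F', hF'⟩ : ∃ F' : Finset (PowerSeries B),
          F' = (F.erase f).image (PowerSeries.C) := ⟨_, rfl⟩
      have hF'card : F'.card ≤ r := by
        rw [hF']
        refine Finset.card_image_le.trans ?_
        rw [Finset.card_erase_of_mem hf]
        omega
      have hT'B : ∀ g ∈ T', IsFComplete g (PowerSeries B) := by
        intro g hg
        rw [hT'] at hg
        rcases Finset.mem_union.mp hg with h | h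
        · obtain ⟨g0, hg0, rfl⟩ := Finset.mem_image.mp h
          have h1 : IsFComplete g0 (PowerSeries B) := isFComplete_powerSeries (hTB g0 hg0)
          exact isFComplete_of_smul_eq
            (fun m => by rw [smul_eq_mul, PowerSeries.smul_eq_C_mul]) h1
        · rw [Finset.mem_singleton] at h
          subst h
          exact isFComplete_of_isAdicComplete (I := Ideal.span {(PowerSeries.X : PowerSeries B)})
            (Ideal.mem_span_singleton_self _) (PowerSeries B)
      have hT'M : ∀ g ∈ T', IsFComplete g M := by
        intro g hg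
        rw [hT'] at hg
        rcases Finset.mem_union.mp hg with h | h
        · obtain ⟨g0, hg0, rfl⟩ := Finset.mem_image.mp h
          exact isFComplete_of_smul_eq (hC g0) (hTM g0 hg0)
        · rw [Finset.mem_singleton] at h
          subst h
          exact isFComplete_of_smul_eq hX hfM
      have hF'M : ∀ g ∈ F', IsFComplete g M := by
        intro g hg
        rw [hF'] at hg
        obtain ⟨g0, hg0, rfl⟩ := Finset.mem_image.mp hg
        exact isFComplete_of_smul_eq (hC g0) (hFM g0 (Finset.mem_of_mem_erase hg0))
      have hcmp : ∀ a ∈ ((T : Set B) ∪ (F : Set B)),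
          ∃ a' ∈ Ideal.span ((T' : Set (PowerSeries B)) ∪ (F' : Set (PowerSeries B))),
            ∀ m : M, a' • m = a • m := by
        intro a ha
        rcases ha with ha | ha
        · refine ⟨PowerSeries.C a, Ideal.subset_span ?_, hC a⟩
          rw [hT']
          exact Or.inl (Finset.mem_coe.mpr (Finset.mem_union_left _ (Finset.mem_image_of_mem _ ha)))
        · by_cases haf : a = f
          · subst haf
            refine ⟨PowerSeries.X, Ideal.subset_span ?_, hX⟩
            rw [hT']
            exact Or.inl (Finset.mem_coe.mpr (Finset.mem_union_right _ (Finset.mem_singleton_self _)))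
          · refine ⟨PowerSeries.C a, Ideal.subset_span ?_, hC a⟩
            rw [hF']
            exact Or.inr (Finset.mem_coe.mpr (Finset.mem_image_of_mem _ (Finset.mem_erase.mpr ⟨haf, ha⟩)))
      have hs' : Submodule.span (PowerSeries B) (s : Set M) ⊔
          Ideal.span ((T' : Set (PowerSeries B)) ∪ (F' : Set (PowerSeries B))) •
            (⊤ : Submodule (PowerSeries B) M) = ⊤ := by
        rw [eq_top_iff]
        intro m _
        have hm : m ∈ Submodule.span B (s : Set M) ⊔
            Ideal.span ((T : Set B) ∪ (F : Set B)) • (⊤ : Submodule B M) := by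
          rw [hs]; exact Submodule.mem_top
        obtain ⟨w, hw, y, hy, rfl⟩ := Submodule.mem_sup.mp hm
        refine Submodule.add_mem _ (Submodule.mem_sup_left ?_) (Submodule.mem_sup_right ?_)
        · exact Submodule.span_le_restrictScalars B (PowerSeries B) (s : Set M) hw
        · have := pow_smul_top_le (M := M) _ _ hcmp 1 y (by rwa [pow_one])
          rwa [pow_one] at this
      have hx' : ∀ k : ℕ, x ∈ (Ideal.span ((T' : Set (PowerSeries B)) ∪
          (F' : Set (PowerSeries B)))) ^ k • (⊤ : Submodule (PowerSeries B) M) :=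
        fun k => pow_smul_top_le (M := M) _ _ hcmp k x (hx k)
      exact ih (PowerSeries B) M T' F' hF'card hT'B hT'M hF'M s hs' x hx'

end Groth.Agent.Lib.Helper20.DCFin
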