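import Groth.Agent.Lib.Helper20.DCFinC
import Groth.Agent.Lib.Helper15.RigClosed

/-!
# Derived complete modules with finite reduction: adically complete and finite over the completion
-/

set_option autoImplicit false
universe u v

open Groth.Agent.Lib.Helper7.FComplete

namespace Groth.Agent.Lib.Helper20.DCFin

theorem isHausdorff_of_isFComplete {A : Type u} [CommRing A] [IsNoetherianRing A] (I : Ideal A)
    (M : Type u) [AddCommGroup M] [Module A M] (h : ∀ f ∈ I, IsFComplete f M)
    (hfin : Module.Finite A (M ⧸ I • (⊤ : Submodule A M))) : IsHausdorff I M := by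
  classical
  obtain ⟨F, hF⟩ := (IsNoetherian.noetherian I : I.FG)
  obtain ⟨t, ht⟩ := hfin.fg_top
  have hsurj := Submodule.mkQ_surjective (I • (⊤ : Submodule A M))
  obtain ⟨s, hsdef⟩ : ∃ s : Finset M, s = t.image (Function.surjInv hsurj) := ⟨_, rfl⟩
  have hs : Submodule.span A (s : Set M) ⊔ I • (⊤ : Submodule A M) = ⊤ := by
    rw [sup_comm, ← Submodule.map_mkQ_eq_top, Submodule.map_span, eq_top_iff, ← ht]
    apply Submodule.span_mono
    intro y hy
    refine ⟨Function.surjInv hsurj y, ?_, Function.surjInv_eq hsurj y⟩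
    rw [hsdef]
    exact Finset.mem_coe.mpr (Finset.mem_image_of_mem _ hy)
  have hspan : Ideal.span (((∅ : Finset A) : Set A) ∪ (F : Set A)) = I := by
    rw [Finset.coe_empty, Set.empty_union]
    exact hF
  refine ⟨fun x hx => ?_⟩
  refine hausdorff_aux F.card A M ∅ F le_rfl (by simp) (by simp)
    (fun f hf => h f (hF ▸ Ideal.subset_span hf)) s ?_ x ?_
  · rw [hspan]; exact hs
  · intro k
    rw [hspan]
    have := hx k
    rwa [SModEq.zero] at this

theorem main {A : Type u} [CommRing A] [IsNoetherianRing A] (I : Ideal A)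
    (M : Type u) [AddCommGroup M] [Module A M] (h : ∀ f ∈ I, IsFComplete f M)
    (hfin : Module.Finite A (M ⧸ I • (⊤ : Submodule A M))) :
    IsAdicComplete I M ∧ Module.Finite (AdicCompletion I A) (AdicCompletion I M) := by
  classical
  have hIfg : I.FG := IsNoetherian.noetherian I
  have hH : IsHausdorff I M := isHausdorff_of_isFComplete I M h hfin
  have hP : IsPrecomplete I M := by
    obtain ⟨F, hF⟩ := hIfg
    have h1 := isPrecomplete_span_of_isFComplete (M := M) F
      (fun f hf => h f (hF ▸ Ideal.subset_span hf))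
    have h2 : Ideal.span (F : Set A) = I := hF
    rwa [h2] at h1
  have hC : IsAdicComplete I M := { toIsHausdorff := hH, toIsPrecomplete := hP }
  refine ⟨hC, ?_⟩
  have hcA : IsAdicComplete I (AdicCompletion I A) := AdicCompletion.isAdicComplete hIfg
  have hpA : IsPrecomplete (I.map (algebraMap A (AdicCompletion I A))) (AdicCompletion I A) :=
    IsPrecomplete.map_algebraMap_iff.mpr hcA.toIsPrecomplete
  have hhM : IsHausdorff (I.map (algebraMap A (AdicCompletion I A))) (AdicCompletion I M) :=
    IsHausdorff.map_algebraMap_iff.mpr inferInstance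
  apply Groth.Agent.Lib.Helper15.finite_of_finite_quotient_of_isAdicComplete
    (I.map (algebraMap A (AdicCompletion I A))) (AdicCompletion I M)
  obtain ⟨N, hN⟩ : ∃ N : Submodule (AdicCompletion I A) (AdicCompletion I M),
      N = (I.map (algebraMap A (AdicCompletion I A))) • ⊤ := ⟨_, rfl⟩
  rw [← hN]
  let φ : M →ₗ[A] (AdicCompletion I M ⧸ N) :=
    (N.mkQ.restrictScalars A).comp (AdicCompletion.of I M)
  have hφsurj : Function.Surjective φ :=
    (Submodule.mkQ_surjective N).comp (AdicCompletion.of_surjective I M)
  have hφker : I • (⊤ : Submodule A M) ≤ LinearMap.ker φ := by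
    rw [Submodule.smul_le]
    intro a ha m _
    rw [LinearMap.mem_ker]
    change N.mkQ (AdicCompletion.of I M (a • m)) = 0
    rw [(AdicCompletion.of I M).map_smul a m, Submodule.mkQ_apply, Submodule.Quotient.mk_eq_zero, hN,
      ← algebraMap_smul (AdicCompletion I A) a (AdicCompletion.of I M m)]
    exact Submodule.smul_mem_smul (Ideal.mem_map_of_mem _ ha) Submodule.mem_top
  have hfin' : Module.Finite A (AdicCompletion I M ⧸ N) := by
    refine Module.Finite.of_surjective (Submodule.liftQ _ φ hφker) ?_
    intro y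
    obtain ⟨m, rfl⟩ := hφsurj y
    exact ⟨Submodule.Quotient.mk m, by simp⟩
  exact Module.Finite.of_restrictScalars_finite A (AdicCompletion I A) _

end Groth.Agent.Lib.Helper20.DCFin
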