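import Groth.Agent.Lib.Helper25.InjIndec
import Groth.Agent.Lib.Helper25.InjNoeth
import Groth.Agent.Lib.Helper25.InjHull
import Mathlib.RingTheory.MvPowerSeries.Inverse

/-!
# Torsion modules with "derivations" are injective (Euler operator argument)

Let `x : ι → R` be elements of a ring and `M` an `R`-module with additive maps `D i` such that
`D i (x j • z) = δ_ij z + x j • D i z`.  If all positive integers are invertible in `R` and `M` is
killed elementwise by powers of the `x i`, then the first Koszul cohomology of `x` on `M`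
vanishes: compatible tuples `(n i)` (`x j • n i = x i • n j`) are of the form `n i = x i • z`.
The proof uses the Euler operator `T = ∑ D i ∘ x i`.  Consequently (over a Noetherian local ring
whose maximal ideal is generated by the `x i`) such a module coincides with its injective hull,
and so is a direct sum of copies of the injective hull of the residue field.
-/

set_option autoImplicit false

universe u v

namespace Groth.Agent.Lib.Helper20.DModTors

open InjHull Groth.Agent.Lib.Helper25

section Koszul

variable {R : Type*} [CommRing R] {M : Type*} [AddCommGroup M] [Module R M]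
  {ι : Type*} [Fintype ι] [DecidableEq ι]

/-- the Euler operator `∑ D i ∘ x i` -/
def Tt (x : ι → R) (D : ι → M →+ M) (z : M) : M := ∑ i, D i (x i • z)

/-- `K x N z`: every product of `N` of the `x i` kills `z` -/
def K (x : ι → R) : ℕ → M → Prop
  | 0, z => z = 0
  | N + 1, z => ∀ i, K x N (x i • z)

theorem smul_Tt (x : ι → R) (D : ι → M →+ M)
    (hD : ∀ i j z, D i (x j • z) = (if i = j then z else 0) + x j • D i z) (j : ι) (z : M) :
    x j • Tt x D z = Tt x D (x j • z) - x j • z := by
  unfold Tt
  rw [Finset.smul_sum]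
  have h : ∀ i, x j • D i (x i • z) = D i (x i • x j • z) - (if i = j then x i • z else 0) := by
    intro i
    have h := hD i j (x i • z)
    rw [smul_comm (x i) (x j) z, h]
    abel
  rw [Finset.sum_congr rfl (fun i _ => h i), Finset.sum_sub_distrib, Finset.sum_ite_eq' Finset.univ j,
    if_pos (Finset.mem_univ j)]

theorem K_Tt (x : ι → R) (D : ι → M →+ M)
    (hD : ∀ i j z, D i (x j • z) = (if i = j then z else 0) + x j • D i z) :
    ∀ (N : ℕ) (z : M), K x (N + 1) z → K x N (Tt x D z + N • z) := by
  intro N
  induction N with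
  | zero =>
    intro z hz
    have hz' : ∀ i, x i • z = 0 := hz
    show Tt x D z + 0 • z = 0
    unfold Tt
    rw [zero_smul, add_zero]
    exact Finset.sum_eq_zero (fun i _ => by rw [hz' i, map_zero])
  | succ N ih =>
    intro z hz
    have hz' : ∀ j, K x (N + 1) (x j • z) := hz
    show ∀ j, K x N (x j • (Tt x D z + (N + 1) • z))
    intro j
    have e : x j • (Tt x D z + (N + 1) • z) = Tt x D (x j • z) + N • (x j • z) := by
      rw [smul_add, smul_Tt x D hD, smul_comm (x j) (N + 1) z, succ_nsmul]
      abel
    rw [e]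
    exact ih _ (hz' j)

theorem exists_of_compat (x : ι → R) (D : ι → M →+ M)
    (hD : ∀ i j z, D i (x j • z) = (if i = j then z else 0) + x j • D i z)
    (hinv : ∀ N : ℕ, ∃ u : R, u * ((N + 1 : ℕ) : R) = 1) :
    ∀ (N : ℕ) (n : ι → M), (∀ i, K x N (n i)) → (∀ i j, x j • n i = x i • n j) →
      ∃ z, ∀ i, x i • z = n i := by
  intro N
  induction N with
  | zero =>
    intro n hn _
    refine ⟨0, fun i => ?_⟩
    have : n i = 0 := hn i
    rw [smul_zero, this]
  | succ N ih =>
    intro n hn hc
    obtain ⟨n', hn'⟩ : ∃ n' : M, n' = ∑ i, D i (n i) := ⟨_, rfl⟩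
    have h1 : ∀ j, x j • n' = Tt x D (n j) - n j := by
      intro j
      rw [hn', Finset.smul_sum]
      have h : ∀ i, x j • D i (n i) = D i (x i • n j) - (if i = j then n i else 0) := by
        intro i
        have h := hD i j (n i)
        rw [hc i j] at h
        rw [h]
        abel
      rw [Finset.sum_congr rfl (fun i _ => h i), Finset.sum_sub_distrib,
        Finset.sum_ite_eq' Finset.univ j, if_pos (Finset.mem_univ j)]
      rfl
    have hc' : ∀ i j, x j • (Tt x D (n i) + N • n i) = x i • (Tt x D (n j) + N • n j) := by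
      intro i j
      rw [smul_add, smul_add, smul_Tt x D hD, smul_Tt x D hD, smul_comm (x j) N (n i),
        smul_comm (x i) N (n j), hc i j]
    obtain ⟨z'', hz''⟩ := ih (fun j => Tt x D (n j) + N • n j)
      (fun j => K_Tt x D hD N (n j) (hn j)) hc'
    obtain ⟨u, hu⟩ := hinv N
    refine ⟨u • (z'' - n'), fun j => ?_⟩
    rw [smul_comm, smul_sub, hz'' j, h1 j]
    have e : Tt x D (n j) + N • n j - (Tt x D (n j) - n j) = ((N + 1 : ℕ) : R) • n j := by
      rw [Nat.cast_smul_eq_nsmul R, succ_nsmul]
      abel
    rw [e, smul_smul, hu, one_smul]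

theorem K_of_pow_smul (x : ι → R) (J : Ideal R) (hx : ∀ i, x i ∈ J) :
    ∀ (N : ℕ) (z : M), (∀ a ∈ J ^ N, a • z = 0) → K x N z := by
  intro N
  induction N with
  | zero =>
    intro z hz
    show z = 0
    have := hz 1 (by simp)
    rwa [one_smul] at this
  | succ N ih =>
    intro z hz
    show ∀ i, K x N (x i • z)
    intro i
    refine ih _ (fun a ha => ?_)
    rw [smul_smul]
    exact hz _ (by rw [pow_succ]; exact Ideal.mul_mem_mul ha (hx i))

end Koszul

section Surj

variable {R : Type u} [CommRing R] [IsLocalRing R] {ι : Type*} {M Q : Type v}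
  [AddCommGroup M] [Module R M] [AddCommGroup Q] [Module R Q]

/-- an essential extension `M → Q` with `Q` power torsion is surjective as soon as the first
Koszul cohomology of a generating family of the maximal ideal vanishes on `M` -/
theorem surjective_of_koszul (x : ι → R)
    (hx : IsLocalRing.maximalIdeal R = Ideal.span (Set.range x))
    (f : M →ₗ[R] Q) (hf : IsEssentialInj f)
    (hQ : LocCoh.IsPowerTorsion (IsLocalRing.maximalIdeal R) Q)
    (hK : ∀ n : ι → M, (∀ i j, x j • n i = x i • n j) → ∃ z, ∀ i, x i • z = n i) :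
    Function.Surjective f := by
  have hxm : ∀ i, x i ∈ IsLocalRing.maximalIdeal R := fun i => by
    rw [hx]; exact Ideal.subset_span ⟨i, rfl⟩
  have key : ∀ (N : ℕ) (y : Q), (∀ a ∈ IsLocalRing.maximalIdeal R ^ N, a • y = 0) →
      y ∈ LinearMap.range f := by
    intro N
    induction N with
    | zero =>
      intro y hy
      have h := hy 1 (by simp)
      rw [one_smul] at h
      rw [h]
      exact zero_mem _
    | succ N ih =>
      intro y hy
      have h1 : ∀ i, x i • y ∈ LinearMap.range f := fun i => ih _ (fun a ha => by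
        rw [smul_smul]
        exact hy _ (by rw [pow_succ]; exact Ideal.mul_mem_mul ha (hxm i)))
      choose n hn using h1
      obtain ⟨z, hz⟩ := hK n (fun i j => hf.injective (by
        rw [map_smul, map_smul, hn, hn, smul_comm]))
      obtain ⟨w, hw⟩ : ∃ w : Q, w = y - f z := ⟨_, rfl⟩
      have hwx : ∀ i, x i • w = 0 := by
        intro i
        rw [hw, smul_sub, ← map_smul, hz i, hn i, sub_self]
      have hwm : ∀ a ∈ IsLocalRing.maximalIdeal R, a • w = 0 := by
        intro a ha
        rw [hx] at ha
        refine Submodule.span_induction (p := fun a _ => a • w = 0) ?_ ?_ ?_ ?_ ha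
        · rintro _ ⟨i, rfl⟩
          exact hwx i
        · exact zero_smul _ _
        · intro a b _ _ ha hb
          rw [add_smul, ha, hb, add_zero]
        · intro c a _ ha
          rw [smul_eq_mul, mul_smul, ha, smul_zero]
      by_cases hw0 : w = 0
      · refine ⟨z, ?_⟩
        rw [hw0] at hw
        exact (sub_eq_zero.1 hw.symm).symm
      · obtain ⟨r, m₀, hr, hm₀⟩ := essInj_exists_smul hf hw0
        have hr' : IsUnit r := by
          by_contra hnu
          have hrm : r ∈ IsLocalRing.maximalIdeal R := (IsLocalRing.mem_maximalIdeal r).2 hnu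
          have h0 := hwm r hrm
          rw [hr] at h0
          exact hm₀ (hf.injective (by rw [h0, map_zero]))
        obtain ⟨u, rfl⟩ := hr'
        have hwf : w = f ((↑u⁻¹ : R) • m₀) := by
          rw [map_smul, ← hr, smul_smul, Units.inv_mul, one_smul]
        refine ⟨z + (↑u⁻¹ : R) • m₀, ?_⟩
        rw [map_add, ← hwf, hw]
        abel
  intro y
  obtain ⟨N, hN⟩ := hQ y
  exact key N y hN

end Surj

section SpanX

open MvPowerSeries in
theorem mem_span_image_X {σ k : Type*} [CommRing k] (s : Finset σ) :
    ∀ f : MvPowerSeries σ k,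
      (∀ n : σ →₀ ℕ, (∀ i ∈ s, n i = 0) → MvPowerSeries.coeff n f = 0) →
      f ∈ Ideal.span ((fun i => (MvPowerSeries.X i : MvPowerSeries σ k)) '' (s : Set σ)) := by
  classical
  induction s using Finset.induction_on with
  | empty =>
    intro f hf
    have : f = 0 := MvPowerSeries.ext (fun n => by
      rw [hf n (by simp), map_zero])
    rw [this]
    exact zero_mem _
  | insert a s ha ih =>
    intro f hf
    obtain ⟨f₁, hf₁⟩ : ∃ f₁ : MvPowerSeries σ k,
        f₁ = fun n => if n a = 0 then 0 else MvPowerSeries.coeff n f := ⟨_, rfl⟩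
    obtain ⟨f₂, hf₂⟩ : ∃ f₂ : MvPowerSeries σ k,
        f₂ = fun n => if n a = 0 then MvPowerSeries.coeff n f else 0 := ⟨_, rfl⟩
    have c1 : ∀ n, MvPowerSeries.coeff n f₁ = if n a = 0 then 0 else MvPowerSeries.coeff n f := by
      intro n; rw [hf₁]; rfl
    have c2 : ∀ n, MvPowerSeries.coeff n f₂ = if n a = 0 then MvPowerSeries.coeff n f else 0 := by
      intro n; rw [hf₂]; rfl
    have hsum : f = f₁ + f₂ := by
      ext n
      rw [map_add, c1, c2]
      split_ifs <;> simp
    have h1 : f₁ ∈ Ideal.span {(MvPowerSeries.X a : MvPowerSeries σ k)} := by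
      rw [Ideal.mem_span_singleton, MvPowerSeries.X_dvd_iff]
      intro m hm
      rw [c1, if_pos hm]
    have h2 := ih f₂ (fun n hn => by
      rw [c2]
      split_ifs with h
      · refine hf n (fun i hi => ?_)
        rcases Finset.mem_insert.1 hi with rfl | hi
        · exact h
        · exact hn i hi
      · rfl)
    rw [hsum]
    refine add_mem (Ideal.span_mono ?_ h1) (Ideal.span_mono ?_ h2)
    · rintro _ rfl
      exact ⟨a, Finset.mem_coe.2 (Finset.mem_insert_self a s), rfl⟩
    · exact Set.image_mono (Finset.coe_subset.2 (Finset.subset_insert a s))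

theorem maximalIdeal_eq_span_X {σ k : Type*} [Field k] [Finite σ] :
    IsLocalRing.maximalIdeal (MvPowerSeries σ k) =
      Ideal.span (Set.range fun i => (MvPowerSeries.X i : MvPowerSeries σ k)) := by
  classical
  cases nonempty_fintype σ
  apply le_antisymm
  · intro f hf
    have hnu : ¬ IsUnit f := (IsLocalRing.mem_maximalIdeal f).1 hf
    rw [MvPowerSeries.isUnit_iff_constantCoeff, isUnit_iff_ne_zero, not_not] at hnu
    have h := mem_span_image_X (Finset.univ : Finset σ) f (fun n hn => by
      have hn0 : n = 0 := Finsupp.ext (fun i => hn i (Finset.mem_univ i))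
      rw [hn0, MvPowerSeries.coeff_zero_eq_constantCoeff_apply, hnu])
    rwa [Finset.coe_univ, Set.image_univ] at h
  · rw [Ideal.span_le]
    rintro _ ⟨i, rfl⟩
    rw [SetLike.mem_coe, IsLocalRing.mem_maximalIdeal, mem_nonunits_iff,
      MvPowerSeries.isUnit_iff_constantCoeff, MvPowerSeries.constantCoeff_X]
    exact not_isUnit_zero

end SpanX

section Decomp

variable {A : Type u} [CommRing A] [IsLocalRing A] [IsNoetherianRing A]

/-- an injective module over a Noetherian local ring which is killed elementwise by powers of the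
maximal ideal is a direct sum of copies of the injective hull of the residue field -/
theorem nonempty_equiv_finsupp_of_injective (E : Type u) [AddCommGroup E] [Module A E]
    (e : IsLocalRing.ResidueField A →ₗ[A] E) (he : IsInjectiveHull e)
    (M : Type u) [AddCommGroup M] [Module A M]
    (hM : LocCoh.IsPowerTorsion (IsLocalRing.maximalIdeal A) M)
    (hinj : Module.Injective A M) : ∃ J : Type u, Nonempty (M ≃ₗ[A] (J →₀ E)) := by
  classical
  obtain ⟨S, hS, hgood⟩ := exists_isInternal_indecomposable_aux M hinj
  have hint := hS inferInstance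
  have hequiv : ∀ N : S, Nonempty (↥(N : Submodule A M) ≃ₗ[A] E) := by
    intro N
    obtain ⟨hind, hNinj⟩ := hgood N
    obtain ⟨p, hp, f, hf⟩ := exists_hull_quotient_of_indecomposable hind hNinj
    have hle : IsLocalRing.maximalIdeal A ≤ p := by
      intro a ha
      obtain ⟨n, hn⟩ := hM ((f 1 : ↥(N : Submodule A M)) : M)
      have h1 : (a ^ n) • ((f 1 : ↥(N : Submodule A M)) : M) = 0 :=
        hn _ (Ideal.pow_mem_pow ha n)
      have h2 : f ((a ^ n) • (1 : A ⧸ p)) = 0 := by
        rw [map_smul]
        exact Subtype.ext h1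
      have h3 : (a ^ n) • (1 : A ⧸ p) = 0 := hf.injective (by rw [h2, map_zero])
      have h4 : (Ideal.Quotient.mk p) (a ^ n) = 0 := by
        rw [← h3, Algebra.smul_def, mul_one]; rfl
      exact hp.mem_of_pow_mem n (Ideal.Quotient.eq_zero_iff_mem.1 h4)
    have hpm : IsLocalRing.maximalIdeal A = p :=
      (IsLocalRing.maximalIdeal.isMaximal A).eq_of_le hp.ne_top hle
    subst hpm
    obtain ⟨eq, -⟩ := isInjectiveHull_unique hf he
    exact ⟨eq⟩
  refine ⟨S, ⟨?_⟩⟩
  have e1 : (DirectSum S fun N : S => ↥(N : Submodule A M)) ≃ₗ[A] M :=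
    LinearEquiv.ofBijective (DirectSum.coeLinearMap (Subtype.val : S → Submodule A M)) hint
  have e2 : (DirectSum S fun N : S => ↥(N : Submodule A M)) ≃ₗ[A] (Π₀ _ : S, E) :=
    DFinsupp.mapRange.linearEquiv (fun N => (hequiv N).some)
  exact e1.symm.trans (e2.trans (finsuppLequivDFinsupp A).symm)

end Decomp

end Groth.Agent.Lib.Helper20.DModTors
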