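import Mathlib

set_option autoImplicit false
universe u
open Polynomial TensorProduct

namespace Groth.Agent.Lib.Helper20.DeformKaehler

section Base

variable {k : Type u} [Field k] {n : ℕ}
    {D : Type u} [CommRing D] [Algebra k D] {τ : D}
    (e : (k[X] ⧸ Ideal.span {(X : k[X]) ^ (n + 1)}) ≃ₐ[k] D)
    (he : e (Ideal.Quotient.mk (Ideal.span {(X : k[X]) ^ (n + 1)}) X) = τ)

include he in
theorem e_mk (p : k[X]) : e (Ideal.Quotient.mk _ p) = aeval τ p := by
  have h : (e.toAlgHom.comp (Ideal.Quotient.mkₐ k (Ideal.span {(X : k[X]) ^ (n + 1)}))) = aeval τ := by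
    apply Polynomial.algHom_ext
    simp [he]
  exact congrArg (fun f : k[X] →ₐ[k] D => f p) h

include he in
theorem aeval_surjective : Function.Surjective (aeval τ : k[X] →ₐ[k] D) := by
  intro d
  obtain ⟨q, hq⟩ := e.surjective d
  obtain ⟨p, rfl⟩ := Ideal.Quotient.mk_surjective q
  exact ⟨p, by rw [← e_mk e he, hq]⟩

include he in
theorem aeval_eq_zero_iff (p : k[X]) : aeval τ p = 0 ↔ (X : k[X]) ^ (n + 1) ∣ p := by
  rw [← e_mk e he, map_eq_zero_iff e e.injective, Ideal.Quotient.eq_zero_iff_mem,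
    Ideal.mem_span_singleton]

include he in
theorem tau_pow_succ : τ ^ (n + 1) = 0 := by
  have := (aeval_eq_zero_iff e he ((X : k[X]) ^ (n + 1))).2 dvd_rfl
  simpa using this

include he in
theorem exists_decomp (d : D) : ∃ (a : k) (d' : D), d = algebraMap k D a + τ * d' := by
  obtain ⟨p, rfl⟩ := aeval_surjective e he d
  refine ⟨p.coeff 0, aeval τ p.divX, ?_⟩
  have h := congrArg (aeval τ) (Polynomial.divX_mul_X_add p)
  rw [← h]
  simp only [map_add, map_mul, aeval_X, aeval_C]
  ring

include he in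
theorem ann_tau_pow (i : ℕ) (hi : i ≤ n) (d : D) (h : τ ^ i * d = 0) : ∃ d', d = τ * d' := by
  obtain ⟨p, rfl⟩ := aeval_surjective e he d
  have h1 : aeval τ ((X : k[X]) ^ i * p) = 0 := by simpa using h
  rw [aeval_eq_zero_iff e he] at h1
  have h2 : (X : k[X]) ^ (n + 1) = X ^ i * X ^ (n + 1 - i) := by
    rw [← pow_add]; congr 1; omega
  rw [h2, mul_dvd_mul_iff_left (pow_ne_zero _ X_ne_zero)] at h1
  have h3 : (X : k[X]) ∣ p := dvd_trans (dvd_pow_self X (by omega)) h1
  obtain ⟨q, rfl⟩ := h3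
  exact ⟨aeval τ q, by simp⟩


variable {M : Type*} [AddCommGroup M] [Module D M] [Module k M] [IsScalarTower k D M]

variable (τ) in
/-- auxiliary linear map `p ↦ p'(τ) • m₀`. -/
noncomputable def derivAux (m₀ : M) : k[X] →ₗ[k] M where
  toFun p := aeval τ (derivative p) • m₀
  map_add' p q := by simp [add_smul]
  map_smul' c p := by simp [smul_assoc]

include he in
theorem derivAux_ker (m₀ : M) (hm : τ ^ n • m₀ = 0) :
    LinearMap.ker (aeval τ : k[X] →ₐ[k] D).toLinearMap ≤ LinearMap.ker (derivAux τ m₀) := by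
  intro p hp
  have hp' : aeval τ p = 0 := hp
  rw [aeval_eq_zero_iff e he] at hp'
  obtain ⟨q, rfl⟩ := hp'
  change aeval τ (derivative ((X : k[X]) ^ (n + 1) * q)) • m₀ = 0
  have h1 : derivative ((X : k[X]) ^ (n + 1) * q) =
      X ^ n * (C ((n + 1 : ℕ) : k) * q) + X ^ (n + 1) * derivative q := by
    rw [derivative_mul, derivative_X_pow]
    simp only [Nat.add_sub_cancel, Nat.cast_add, Nat.cast_one, map_add, map_natCast, map_one]
    ring
  have h2 : aeval τ (X ^ n * (C ((n + 1 : ℕ) : k) * q) + X ^ (n + 1) * derivative q) =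
      (aeval τ (C ((n + 1 : ℕ) : k) * q)) * τ ^ n := by
    simp only [map_add, map_mul, map_pow, aeval_X, tau_pow_succ e he, zero_mul, add_zero]
    ring
  rw [h1, h2, mul_smul, hm, smul_zero]

/-- The `k`-derivation of `D = k[τ]/(τ^{n+1})` with values in a `D`-module `M`, sending `τ` to an
element `m₀` killed by `τ^n`. -/
noncomputable def deriv (m₀ : M) (hm : τ ^ n • m₀ = 0) : Derivation k D M :=
  Derivation.mk'
    (((LinearMap.ker (aeval τ : k[X] →ₐ[k] D).toLinearMap).liftQ (derivAux τ m₀)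
        (derivAux_ker e he m₀ hm)).comp
      ((aeval τ : k[X] →ₐ[k] D).toLinearMap.quotKerEquivOfSurjective
        (aeval_surjective e he)).symm.toLinearMap)
    (by
      have key : ∀ p : k[X], (((LinearMap.ker (aeval τ : k[X] →ₐ[k] D).toLinearMap).liftQ
          (derivAux τ m₀) (derivAux_ker e he m₀ hm)).comp
          ((aeval τ : k[X] →ₐ[k] D).toLinearMap.quotKerEquivOfSurjective
          (aeval_surjective e he)).symm.toLinearMap) (aeval τ p) = aeval τ (derivative p) • m₀ := by
        intro p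
        have h1 : ((aeval τ : k[X] →ₐ[k] D).toLinearMap.quotKerEquivOfSurjective
          (aeval_surjective e he)).symm (aeval τ p) = Submodule.Quotient.mk p := by
          rw [LinearEquiv.symm_apply_eq]
          rfl
        simp only [LinearMap.comp_apply, LinearEquiv.coe_coe]
        rw [h1]
        rfl
      intro a b
      obtain ⟨p, rfl⟩ := aeval_surjective e he a
      obtain ⟨q, rfl⟩ := aeval_surjective e he b
      rw [← map_mul, key, key, key, derivative_mul, map_add, map_mul, map_mul, add_smul,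
        mul_smul, mul_smul, add_comm]
      congr 1
      rw [smul_comm])

theorem deriv_aeval (m₀ : M) (hm : τ ^ n • m₀ = 0) (p : k[X]) :
    deriv e he m₀ hm (aeval τ p) = aeval τ (derivative p) • m₀ := by
  have h1 : ((aeval τ : k[X] →ₐ[k] D).toLinearMap.quotKerEquivOfSurjective
      (aeval_surjective e he)).symm (aeval τ p) = Submodule.Quotient.mk p := by
    rw [LinearEquiv.symm_apply_eq]
    rfl
  change ((LinearMap.ker (aeval τ : k[X] →ₐ[k] D).toLinearMap).liftQ (derivAux τ m₀)
        (derivAux_ker e he m₀ hm)) (((aeval τ : k[X] →ₐ[k] D).toLinearMap.quotKerEquivOfSurjective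
      (aeval_surjective e he)).symm (aeval τ p)) = _
  rw [h1]
  rfl

theorem deriv_tau (m₀ : M) (hm : τ ^ n • m₀ = 0) : deriv e he m₀ hm τ = m₀ := by
  have := deriv_aeval e he m₀ hm X
  simpa using this

end Base


section Fiber

variable {k : Type u} [Field k] {D : Type u} [CommRing D] [Algebra k D] {τ : D}
  {B : Type u} [CommRing B] [Algebra k B] [Algebra D B] [IsScalarTower k D B]

theorem formallySmooth_tensor
    (hdec : ∀ d : D, ∃ (a : k) (d' : D), d = algebraMap k D a + τ * d')
    (hsm : Algebra.FormallySmooth k (B ⧸ Ideal.span {algebraMap D B τ}))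
    (κ : Type u) [CommRing κ] [Algebra D κ] (hκ : algebraMap D κ τ = 0) :
    Algebra.FormallySmooth κ (κ ⊗[D] B) := by
  refine Algebra.FormallySmooth.of_comp_surjective fun C _ _ I hI f => ?_
  let instDC : Algebra D C := ((algebraMap κ C).comp (algebraMap D κ)).toAlgebra
  let instkC : Algebra k C :=
    (((algebraMap κ C).comp (algebraMap D κ)).comp (algebraMap k D)).toAlgebra
  have : IsScalarTower D κ C := .of_algebraMap_eq' rfl
  have : IsScalarTower k D C := .of_algebraMap_eq' rfl
  have hincl : ∀ d : D, ((1 : κ) ⊗ₜ[D] (algebraMap D B d) : κ ⊗[D] B)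
      = algebraMap κ (κ ⊗[D] B) (algebraMap D κ d) := by
    intro d
    rw [Algebra.TensorProduct.algebraMap_apply, Algebra.algebraMap_self, RingHom.id_apply,
      Algebra.algebraMap_eq_smul_one, Algebra.algebraMap_eq_smul_one, TensorProduct.smul_tmul]
  let g₀ : B →ₐ[k] C ⧸ I :=
    { toRingHom := f.toRingHom.comp
        (Algebra.TensorProduct.includeRight : B →ₐ[D] κ ⊗[D] B).toRingHom
      commutes' := fun a => by
        change f ((1 : κ) ⊗ₜ[D] (algebraMap k B a)) = _
        rw [IsScalarTower.algebraMap_apply k D B, hincl, f.commutes]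
        rfl }
  have hg₀ : ∀ b : B, g₀ b = f ((1 : κ) ⊗ₜ[D] b) := fun b => rfl
  have hg₀t : g₀ (algebraMap D B τ) = 0 := by
    rw [hg₀, hincl, hκ, map_zero, map_zero]
  let gbar : (B ⧸ Ideal.span {algebraMap D B τ}) →ₐ[k] C ⧸ I :=
    Ideal.Quotient.liftₐ _ g₀ (by
      intro a ha
      obtain ⟨b, rfl⟩ := Ideal.mem_span_singleton.1 ha
      rw [map_mul, hg₀t, zero_mul])
  obtain ⟨h, hh⟩ := Algebra.FormallySmooth.comp_surjective k
    (B ⧸ Ideal.span {algebraMap D B τ}) I hI gbar
  have hh' : ∀ b : B, Ideal.Quotient.mk I (h (Ideal.Quotient.mk _ b)) = f ((1 : κ) ⊗ₜ[D] b) := by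
    intro b
    have := congrArg (fun φ : (B ⧸ Ideal.span {algebraMap D B τ}) →ₐ[k] C ⧸ I =>
      φ (Ideal.Quotient.mk _ b)) hh
    exact this
  let h' : B →ₐ[D] C :=
    { toRingHom := h.toRingHom.comp (Ideal.Quotient.mk (Ideal.span {algebraMap D B τ}))
      commutes' := fun d => by
        obtain ⟨a, d', rfl⟩ := hdec d
        change h (Ideal.Quotient.mk _ (algebraMap D B (algebraMap k D a + τ * d'))) =
          algebraMap κ C (algebraMap D κ (algebraMap k D a + τ * d'))
        have h1 : Ideal.Quotient.mk (Ideal.span {algebraMap D B τ})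
            (algebraMap D B (algebraMap k D a + τ * d')) =
            algebraMap k (B ⧸ Ideal.span {algebraMap D B τ}) a := by
          rw [map_add, map_add, map_mul, map_mul]
          have : Ideal.Quotient.mk (Ideal.span {algebraMap D B τ}) (algebraMap D B τ) = 0 :=
            Ideal.Quotient.eq_zero_iff_mem.2 (Ideal.subset_span rfl)
          rw [this, zero_mul, add_zero, ← IsScalarTower.algebraMap_apply k D B]
          rfl
        rw [h1, h.commutes, map_add, map_mul, hκ, zero_mul, add_zero]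
        rfl }
  have hh'' : ∀ b : B, h' b = h (Ideal.Quotient.mk _ b) := fun b => rfl
  refine ⟨Algebra.TensorProduct.lift (Algebra.ofId κ C) h' (fun _ _ => Commute.all _ _), ?_⟩
  apply AlgHom.ext
  intro x
  induction x using TensorProduct.induction_on with
  | zero => simp
  | add x y hx hy => rw [map_add, map_add, hx, hy]
  | tmul c b =>
    have h2 : (c ⊗ₜ[D] b : κ ⊗[D] B) = c • ((1 : κ) ⊗ₜ[D] b) := by
      rw [TensorProduct.smul_tmul', smul_eq_mul, mul_one]
    change Ideal.Quotient.mk I (Algebra.TensorProduct.lift (Algebra.ofId κ C) h'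
      (fun _ _ => Commute.all _ _) (c ⊗ₜ[D] b)) = f (c ⊗ₜ[D] b)
    rw [Algebra.TensorProduct.lift_tmul, h2, map_smul, ← hh', map_mul, hh'', Algebra.smul_def]
    rfl

end Fiber


section Main

variable {k : Type u} [Field k] {n : ℕ}
    {D : Type u} [CommRing D] [Algebra k D] {τ : D}
    (e : (k[X] ⧸ Ideal.span {(X : k[X]) ^ (n + 1)}) ≃ₐ[k] D)
    (he : e (Ideal.Quotient.mk (Ideal.span {(X : k[X]) ^ (n + 1)}) X) = τ)
    {B : Type u} [CommRing B] [Algebra k B] [Algebra D B] [IsScalarTower k D B]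

include he in
theorem smooth_of_flat [Algebra.FiniteType k B] [Module.Flat D B]
    (hsm : Algebra.Smooth k (B ⧸ Ideal.span {algebraMap D B τ})) : Algebra.Smooth D B := by
  have hNoeth : IsNoetherianRing D := isNoetherianRing_of_ringEquiv _ e.toRingEquiv
  have hft : Algebra.FiniteType D B := Algebra.FiniteType.of_restrictScalars_finiteType k D B
  have hfp : Algebra.FinitePresentation D B := Algebra.FinitePresentation.of_finiteType.mp hft
  refine Algebra.Smooth.of_formallySmooth_fiber fun I _ => ?_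
  refine formallySmooth_tensor (exists_decomp e he) hsm.1 I.ResidueField ?_
  have h1 : IsNilpotent (algebraMap D I.ResidueField τ) :=
    ⟨n + 1, by rw [← map_pow, tau_pow_succ e he, map_zero]⟩
  exact h1.eq_zero

omit [Algebra k B] [IsScalarTower k D B] in
theorem tau_pow_smul_one (t : B) (ht : t = algebraMap D B τ) :
    τ ^ n • (1 : B ⧸ Ideal.span {t ^ n}) = 0 := by
  have h1 : τ ^ n • (1 : B ⧸ Ideal.span {t ^ n}) =
      Ideal.Quotient.mk (Ideal.span {t ^ n}) (algebraMap D B (τ ^ n)) := by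
    rw [Algebra.smul_def, mul_one]
    rfl
  rw [h1, map_pow, ← ht]
  exact Ideal.Quotient.eq_zero_iff_mem.2 (Ideal.subset_span rfl)

include he in
/-- Key: a `B`-linear functional on `Ω[B⁄k]` with values in `B/t^n` sending `dt` to `1`. -/
theorem exists_functional [Algebra.FiniteType k B] [Module.Flat D B]
    (t : B) (ht : t = algebraMap D B τ)
    (hsm : Algebra.Smooth k (B ⧸ Ideal.span {t})) :
    ∃ φ : Ω[B⁄k] →ₗ[B] (B ⧸ Ideal.span {t ^ n}), φ (KaehlerDifferential.D k B t) = 1 := by
  subst ht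
  have hS : Algebra.Smooth D B := smooth_of_flat e he hsm
  have hFS : Algebra.FormallySmooth D B := hS.1
  have hinj : Function.Injective (KaehlerDifferential.mapBaseChange k D B) := by
    rw [injective_iff_map_eq_zero]
    intro x hx
    obtain ⟨y, rfl⟩ := (Algebra.H1Cotangent.exact_δ_mapBaseChange k D B x).mp hx
    rw [Subsingleton.elim y 0, map_zero]
  have hex := KaehlerDifferential.exact_mapBaseChange_map k D B
  have hsurj : Function.Surjective (KaehlerDifferential.map k D B B) :=
    KaehlerDifferential.map_surjective k D B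
  obtain ⟨s, hs⟩ := Module.projective_lifting_property (KaehlerDifferential.map k D B B)
    (LinearMap.id) hsurj
  obtain ⟨-, l, hl⟩ := ((hex.split_tfae'.out 0 1 rfl rfl).mp ⟨hinj, s, hs⟩)
  let dl : Derivation k D (B ⧸ Ideal.span {(algebraMap D B τ) ^ n}) :=
    deriv e he (1 : B ⧸ Ideal.span {(algebraMap D B τ) ^ n}) (tau_pow_smul_one _ rfl)
  let ψ : B ⊗[D] Ω[D⁄k] →ₗ[B] (B ⧸ Ideal.span {(algebraMap D B τ) ^ n}) :=
    LinearMap.liftBaseChange B dl.liftKaehlerDifferential
  refine ⟨ψ ∘ₗ l, ?_⟩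
  have h1 : KaehlerDifferential.D k B (algebraMap D B τ) =
      KaehlerDifferential.mapBaseChange k D B ((1 : B) ⊗ₜ[D] KaehlerDifferential.D k D τ) := by
    rw [KaehlerDifferential.mapBaseChange_tmul, one_smul, KaehlerDifferential.map_D]
  have h2 : l (KaehlerDifferential.mapBaseChange k D B ((1 : B) ⊗ₜ[D] KaehlerDifferential.D k D τ))
      = (1 : B) ⊗ₜ[D] KaehlerDifferential.D k D τ := LinearMap.congr_fun hl _
  rw [LinearMap.comp_apply, h1, h2, LinearMap.liftBaseChange_tmul, one_smul,
    Derivation.liftKaehlerDifferential_comp_D, deriv_tau]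

include he in
theorem map_mem_span_dt (ω : Ω[D⁄k]) :
    ∃ c : B, KaehlerDifferential.map k k D B ω = c • KaehlerDifferential.D k B (algebraMap D B τ) := by
  have hω : ω ∈ Submodule.span D (Set.range (KaehlerDifferential.D k D)) := by
    rw [KaehlerDifferential.span_range_derivation]; trivial
  induction hω using Submodule.span_induction with
  | mem x hx =>
    obtain ⟨d, rfl⟩ := hx
    obtain ⟨p, rfl⟩ := aeval_surjective e he d
    refine ⟨algebraMap D B (aeval τ (derivative p)), ?_⟩
    rw [Derivation.map_aeval, map_smul, KaehlerDifferential.map_D, algebraMap_smul]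
  | zero => exact ⟨0, by simp⟩
  | add x y _ _ hx hy =>
    obtain ⟨c₁, h₁⟩ := hx
    obtain ⟨c₂, h₂⟩ := hy
    exact ⟨c₁ + c₂, by rw [map_add, h₁, h₂, add_smul]⟩
  | smul d x _ hx =>
    obtain ⟨c, hc⟩ := hx
    exact ⟨d • c, by rw [map_smul, hc, smul_assoc]⟩

include he in
theorem mapBaseChange_mem_span_dt (x : B ⊗[D] Ω[D⁄k]) :
    ∃ c : B, KaehlerDifferential.mapBaseChange k D B x =
      c • KaehlerDifferential.D k B (algebraMap D B τ) := by
  induction x using TensorProduct.induction_on with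
  | zero => exact ⟨0, by simp⟩
  | tmul b ω =>
    obtain ⟨c, hc⟩ := map_mem_span_dt (B := B) e he ω
    exact ⟨b * c, by rw [KaehlerDifferential.mapBaseChange_tmul, hc, mul_smul]⟩
  | add x y hx hy =>
    obtain ⟨c₁, h₁⟩ := hx
    obtain ⟨c₂, h₂⟩ := hy
    exact ⟨c₁ + c₂, by rw [map_add, h₁, h₂, add_smul]⟩

include he in
/-- `ker (Ω[B⁄k] → Ω[B⁄D]) = B · dt`. -/
theorem map_eq_zero_iff (t : B) (ht : t = algebraMap D B τ) (η : Ω[B⁄k]) :
    KaehlerDifferential.map k D B B η = 0 ↔ ∃ b : B, η = b • KaehlerDifferential.D k B t := by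
  subst ht
  constructor
  · intro h
    obtain ⟨x, rfl⟩ := (KaehlerDifferential.exact_mapBaseChange_map k D B η).mp h
    exact mapBaseChange_mem_span_dt e he x
  · rintro ⟨b, rfl⟩
    rw [map_smul, KaehlerDifferential.map_D, Algebra.algebraMap_self, RingHom.id_apply,
      Derivation.map_algebraMap, smul_zero]

omit [IsScalarTower k D B] in
include he in
/-- `t^n dt = 0` in `Ω[B⁄k]` (characteristic zero). -/
theorem pow_smul_D_eq_zero [CharZero k] (t : B) (ht : t = algebraMap D B τ) :
    t ^ n • KaehlerDifferential.D k B t = 0 := by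
  have h0 : t ^ (n + 1) = 0 := by rw [ht, ← map_pow, tau_pow_succ e he, map_zero]
  have h1 := Derivation.leibniz_pow (KaehlerDifferential.D k B) t (n + 1)
  rw [h0, map_zero, Nat.add_sub_cancel] at h1
  have h2 : ((n + 1 : ℕ) : k) • (t ^ n • KaehlerDifferential.D k B t) = 0 := by
    rw [Nat.cast_smul_eq_nsmul]; exact h1.symm
  have h3 : ((n + 1 : ℕ) : k) ≠ 0 := Nat.cast_ne_zero.2 (Nat.succ_ne_zero n)
  exact (smul_eq_zero.1 h2).resolve_left h3

omit [Algebra k B] [IsScalarTower k D B] in
include he in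
/-- Flatness: the annihilator of `t^i` (`i ≤ n`) in `B` is contained in `tB`. -/
theorem ann_t_pow [Module.Flat D B] (t : B) (ht : t = algebraMap D B τ) (i : ℕ) (hi : i ≤ n)
    (b : B) (h : t ^ i * b = 0) : ∃ c, b = t * c := by
  subst ht
  have h1 : ∑ j : Unit, (fun _ : Unit => τ ^ i) j • (fun _ : Unit => b) j = 0 := by
    simp only [Finset.univ_unique, Finset.sum_singleton]
    rw [Algebra.smul_def, map_pow]; exact h
  obtain ⟨m, a, y, h2, h3⟩ := Module.Flat.isTrivialRelation_of_sum_smul_eq_zero (R := D) (M := B)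
    (ι := Unit) (f := fun _ => τ ^ i) (x := fun _ => b) h1
  have h4 : ∀ j, ∃ d', a () j = τ * d' := by
    intro j
    have := h3 j
    simp only [Finset.univ_unique, Finset.sum_singleton] at this
    exact ann_tau_pow e he i hi _ this
  choose d' hd' using h4
  refine ⟨∑ j, d' j • y j, ?_⟩
  have h5 : b = ∑ j, a () j • y j := h2 ()
  rw [Finset.mul_sum]
  refine h5.trans (Finset.sum_congr rfl fun j _ => ?_)
  rw [hd', mul_smul, Algebra.smul_def τ, Algebra.smul_def]

include he in
/-- A retraction `B' ⊗ Ω[B⁄k] → B'` of `b' ↦ b' • (1 ⊗ dt)`. -/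
theorem exists_retraction [Algebra.FiniteType k B] [Module.Flat D B]
    (t : B) (ht : t = algebraMap D B τ)
    (hsm : Algebra.Smooth k (B ⧸ Ideal.span {t})) :
    ∃ Φ : ((B ⧸ Ideal.span {t ^ n}) ⊗[B] Ω[B⁄k]) →ₗ[B ⧸ Ideal.span {t ^ n}]
        (B ⧸ Ideal.span {t ^ n}),
      Φ ((1 : (B ⧸ Ideal.span {t ^ n})) ⊗ₜ[B] KaehlerDifferential.D k B t) = 1 := by
  obtain ⟨φ, hφ⟩ := exists_functional e he t ht hsm
  refine ⟨LinearMap.liftBaseChange (B ⧸ Ideal.span {t ^ n}) φ, ?_⟩
  rw [LinearMap.liftBaseChange_tmul, hφ, one_smul]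

include he in
theorem injective_toSpanSingleton [Algebra.FiniteType k B] [Module.Flat D B]
    (t : B) (ht : t = algebraMap D B τ)
    (hsm : Algebra.Smooth k (B ⧸ Ideal.span {t})) :
    Function.Injective
      (LinearMap.toSpanSingleton (B ⧸ Ideal.span {t ^ n}) ((B ⧸ Ideal.span {t ^ n}) ⊗[B] Ω[B⁄k])
        ((1 : (B ⧸ Ideal.span {t ^ n})) ⊗ₜ[B] KaehlerDifferential.D k B t)) := by
  obtain ⟨Φ, hΦ⟩ := exists_retraction e he t ht hsm
  intro x y hxy
  have h1 := congrArg Φ hxy
  rw [LinearMap.toSpanSingleton_apply, LinearMap.toSpanSingleton_apply, map_smul, map_smul, hΦ,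
    smul_eq_mul, smul_eq_mul, mul_one, mul_one] at h1
  exact h1

include he in
theorem exact_toSpanSingleton_D (t : B) (ht : t = algebraMap D B τ) :
    Function.Exact (LinearMap.toSpanSingleton B Ω[B⁄k] (KaehlerDifferential.D k B t))
      (KaehlerDifferential.map k D B B) := by
  intro η
  rw [map_eq_zero_iff e he t ht]
  constructor
  · rintro ⟨b, rfl⟩; exact ⟨b, rfl⟩
  · rintro ⟨b, rfl⟩; exact ⟨b, rfl⟩

include he in
theorem exact_seq (t : B) (ht : t = algebraMap D B τ) :
    Function.Exact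
      (LinearMap.toSpanSingleton (B ⧸ Ideal.span {t ^ n}) ((B ⧸ Ideal.span {t ^ n}) ⊗[B] Ω[B⁄k])
        ((1 : (B ⧸ Ideal.span {t ^ n})) ⊗ₜ[B] KaehlerDifferential.D k B t))
      (LinearMap.baseChange (B ⧸ Ideal.span {t ^ n}) (KaehlerDifferential.map k D B B)) := by
  intro x
  constructor
  · intro hx
    have hex := lTensor_exact (B ⧸ Ideal.span {t ^ n}) (exact_toSpanSingleton_D e he t ht)
      (KaehlerDifferential.map_surjective k D B)
    have hx' : (LinearMap.lTensor (B ⧸ Ideal.span {t ^ n}) (KaehlerDifferential.map k D B B)) x = 0 := by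
      rw [← LinearMap.baseChange_eq_ltensor]; exact hx
    obtain ⟨y, rfl⟩ := (hex x).mp hx'
    induction y using TensorProduct.induction_on with
    | zero => exact ⟨0, by simp⟩
    | tmul b' b =>
      refine ⟨b • b', ?_⟩
      rw [LinearMap.toSpanSingleton_apply, LinearMap.lTensor_tmul, LinearMap.toSpanSingleton_apply,
        ← TensorProduct.smul_tmul, TensorProduct.smul_tmul', smul_eq_mul, mul_one]
    | add y₁ y₂ h₁ h₂ =>
      have h3 : ∀ y, (LinearMap.lTensor (B ⧸ Ideal.span {t ^ n})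
          (KaehlerDifferential.map k D B B))
          ((LinearMap.lTensor (B ⧸ Ideal.span {t ^ n})
            (LinearMap.toSpanSingleton B Ω[B⁄k] (KaehlerDifferential.D k B t))) y) = 0 :=
        fun y => (hex _).mpr ⟨y, rfl⟩
      obtain ⟨c₁, h₁⟩ := h₁ (by rw [LinearMap.baseChange_eq_ltensor]; exact h3 y₁) (h3 y₁)
      obtain ⟨c₂, h₂⟩ := h₂ (by rw [LinearMap.baseChange_eq_ltensor]; exact h3 y₂) (h3 y₂)
      exact ⟨c₁ + c₂, by rw [map_add, map_add, h₁, h₂]⟩
  · rintro ⟨b', rfl⟩
    have h0 : KaehlerDifferential.D D B t = 0 := by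
      rw [ht]; exact Derivation.map_algebraMap _ _
    rw [LinearMap.toSpanSingleton_apply, map_smul, LinearMap.baseChange_tmul,
      KaehlerDifferential.map_D, Algebra.algebraMap_self, RingHom.id_apply, h0,
      TensorProduct.tmul_zero, smul_zero]

theorem surjective_baseChange (t : B) :
    Function.Surjective (LinearMap.baseChange (B ⧸ Ideal.span {t ^ n})
      (KaehlerDifferential.map k D B B)) := by
  rw [LinearMap.baseChange_eq_ltensor]
  exact LinearMap.lTensor_surjective _ (KaehlerDifferential.map_surjective k D B)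

include he in
theorem projective_tensor [Algebra.FiniteType k B] [Module.Flat D B]
    (t : B) (ht : t = algebraMap D B τ)
    (hsm : Algebra.Smooth k (B ⧸ Ideal.span {t})) :
    Module.Projective (B ⧸ Ideal.span {t ^ n}) ((B ⧸ Ideal.span {t ^ n}) ⊗[B] Ω[B⁄k]) := by
  have hS : Algebra.Smooth D B := smooth_of_flat e he (ht ▸ hsm)
  have hFS : Algebra.FormallySmooth D B := hS.1
  obtain ⟨Φ, hΦ⟩ := exists_retraction e he t ht hsm
  have hl : Φ ∘ₗ (LinearMap.toSpanSingleton (B ⧸ Ideal.span {t ^ n})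
      ((B ⧸ Ideal.span {t ^ n}) ⊗[B] Ω[B⁄k])
      ((1 : (B ⧸ Ideal.span {t ^ n})) ⊗ₜ[B] KaehlerDifferential.D k B t)) = LinearMap.id := by
    refine LinearMap.ext fun x => ?_
    rw [LinearMap.comp_apply, LinearMap.toSpanSingleton_apply, map_smul, hΦ, smul_eq_mul, mul_one,
      LinearMap.id_apply]
  obtain ⟨E, -, -⟩ := (((exact_seq e he t ht).split_tfae'.out 1 2 rfl rfl).mp
    ⟨surjective_baseChange t, Φ, hl⟩)
  exact Module.Projective.of_equiv E.symm

end Main

end Groth.Agent.Lib.Helper20.DeformKaehler
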