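import Mathlib
import Groth.Agent.Lib.Helper20.DeformKaehler

set_option autoImplicit false
universe u
open Polynomial TensorProduct

namespace Groth.Agent.Lib.Helper20.DeformKaehler

section Main2

variable {k : Type u} [Field k] {n : ℕ}
    {D : Type u} [CommRing D] [Algebra k D] {τ : D}
    (e : (k[X] ⧸ Ideal.span {(X : k[X]) ^ (n + 1)}) ≃ₐ[k] D)
    (he : e (Ideal.Quotient.mk (Ideal.span {(X : k[X]) ^ (n + 1)}) X) = τ)
    {B : Type u} [CommRing B] [Algebra k B] [Algebra D B] [IsScalarTower k D B]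

omit [IsScalarTower k D B] in
theorem one_tmul_smul_D (t : B) (c f : B) :
    ((1 : (B ⧸ Ideal.span {t ^ n})) ⊗ₜ[B] (c • KaehlerDifferential.D k B f) :
      (B ⧸ Ideal.span {t ^ n}) ⊗[B] Ω[B⁄k]) =
    (Ideal.Quotient.mk (Ideal.span {t ^ n}) c) •
      ((1 : (B ⧸ Ideal.span {t ^ n})) ⊗ₜ[B] KaehlerDifferential.D k B f) := by
  rw [← TensorProduct.smul_tmul, TensorProduct.smul_tmul', smul_eq_mul, mul_one]
  congr 1
  rw [Algebra.smul_def, mul_one]
  rfl

omit [IsScalarTower k D B] in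
theorem one_tmul_pow_smul (t : B) (ω : Ω[B⁄k]) :
    ((1 : (B ⧸ Ideal.span {t ^ n})) ⊗ₜ[B] (t ^ n • ω) :
      (B ⧸ Ideal.span {t ^ n}) ⊗[B] Ω[B⁄k]) = 0 := by
  rw [← TensorProduct.smul_tmul]
  have : (t ^ n • (1 : B ⧸ Ideal.span {t ^ n})) = 0 := by
    rw [Algebra.smul_def, mul_one]
    exact Ideal.Quotient.eq_zero_iff_mem.2 (Ideal.subset_span rfl)
  rw [this, TensorProduct.zero_tmul]

include he in
theorem mu_injective [CharZero k] [Algebra.FiniteType k B] [Module.Flat D B] (hn : 1 ≤ n)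
    (t : B) (ht : t = algebraMap D B τ)
    (hsm : Algebra.Smooth k (B ⧸ Ideal.span {t})) :
    Function.Injective (fun f : B =>
      ((Ideal.Quotient.mk (Ideal.span {t ^ n}) f,
        (1 : (B ⧸ Ideal.span {t ^ n})) ⊗ₜ[B] KaehlerDifferential.D k B f) :
        (B ⧸ Ideal.span {t ^ n}) × ((B ⧸ Ideal.span {t ^ n}) ⊗[B] Ω[B⁄k]))) := by
  intro f₁ f₂ h
  have h1 : Ideal.Quotient.mk (Ideal.span {t ^ n}) f₁ = Ideal.Quotient.mk (Ideal.span {t ^ n}) f₂ :=
    congrArg Prod.fst h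
  have h2 : ((1 : (B ⧸ Ideal.span {t ^ n})) ⊗ₜ[B] KaehlerDifferential.D k B f₁ :
      (B ⧸ Ideal.span {t ^ n}) ⊗[B] Ω[B⁄k]) =
      (1 : (B ⧸ Ideal.span {t ^ n})) ⊗ₜ[B] KaehlerDifferential.D k B f₂ := congrArg Prod.snd h
  have h3 : f₁ - f₂ ∈ Ideal.span {t ^ n} := Ideal.Quotient.eq.1 h1
  obtain ⟨g, hg⟩ := Ideal.mem_span_singleton.1 h3
  have h4 : ((1 : (B ⧸ Ideal.span {t ^ n})) ⊗ₜ[B] KaehlerDifferential.D k B (f₁ - f₂) :
      (B ⧸ Ideal.span {t ^ n}) ⊗[B] Ω[B⁄k]) = 0 := by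
    rw [map_sub, TensorProduct.tmul_sub, h2, sub_self]
  have h5 : KaehlerDifferential.D k B (t ^ n * g) =
      t ^ n • KaehlerDifferential.D k B g +
        (g * (n : B) * t ^ (n - 1)) • KaehlerDifferential.D k B t := by
    rw [Derivation.leibniz, Derivation.leibniz_pow, ← Nat.cast_smul_eq_nsmul B, smul_smul,
      smul_smul, mul_assoc]
  rw [hg, h5, TensorProduct.tmul_add, one_tmul_pow_smul, zero_add, one_tmul_smul_D] at h4
  have h6 : Ideal.Quotient.mk (Ideal.span {t ^ n}) (g * (n : B) * t ^ (n - 1)) = 0 := by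
    apply injective_toSpanSingleton e he t ht hsm
    rw [LinearMap.toSpanSingleton_apply, LinearMap.toSpanSingleton_apply, zero_smul]
    exact h4
  obtain ⟨c, hc⟩ := Ideal.mem_span_singleton.1 (Ideal.Quotient.eq_zero_iff_mem.1 h6)
  set ν : B := algebraMap k B ((n : k)⁻¹) with hν
  have hνn : ν * (n : B) = 1 := by
    have h7 : (n : B) = algebraMap k B (n : k) := by simp
    rw [hν, h7, ← map_mul, inv_mul_cancel₀ (Nat.cast_ne_zero.2 (by omega)), map_one]
  have htn : t ^ n = t ^ (n - 1) * t := by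
    rw [← pow_succ]; congr 1; omega
  have h8 : t ^ (n - 1) * (g - t * (ν * c)) = 0 := by
    have h9 : g * t ^ (n - 1) = ν * (t ^ n * c) := by
      rw [← hc]
      calc g * t ^ (n - 1) = (ν * (n : B)) * (g * t ^ (n - 1)) := by rw [hνn, one_mul]
        _ = ν * (g * (n : B) * t ^ (n - 1)) := by ring
    calc t ^ (n - 1) * (g - t * (ν * c)) = g * t ^ (n - 1) - ν * (t ^ (n - 1) * t * c) := by ring
      _ = 0 := by rw [← htn, h9, sub_self]
  obtain ⟨c', hc'⟩ := ann_t_pow e he t ht (n - 1) (by omega) _ h8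
  have h10 : g = t * (ν * c + c') := by
    rw [mul_add, ← hc']; ring
  have h0 : t ^ (n + 1) = 0 := by rw [ht, ← map_pow, tau_pow_succ e he, map_zero]
  have h11 : f₁ - f₂ = 0 := by
    rw [hg, h10, ← mul_assoc, ← pow_succ, h0, zero_mul]
  exact sub_eq_zero.1 h11

omit [IsScalarTower k D B] in
theorem mu_range (t : B) :
    Set.range (fun f : B =>
      ((Ideal.Quotient.mk (Ideal.span {t ^ n}) f,
        (1 : (B ⧸ Ideal.span {t ^ n})) ⊗ₜ[B] KaehlerDifferential.D k B f) :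
        (B ⧸ Ideal.span {t ^ n}) × ((B ⧸ Ideal.span {t ^ n}) ⊗[B] Ω[B⁄k]))) =
      {p | KaehlerDifferential.D k (B ⧸ Ideal.span {t ^ n}) p.1 =
        KaehlerDifferential.mapBaseChange k B (B ⧸ Ideal.span {t ^ n}) p.2} := by
  have hcomp : ∀ f : B, KaehlerDifferential.mapBaseChange k B (B ⧸ Ideal.span {t ^ n})
      ((1 : (B ⧸ Ideal.span {t ^ n})) ⊗ₜ[B] KaehlerDifferential.D k B f) =
      KaehlerDifferential.D k (B ⧸ Ideal.span {t ^ n}) (Ideal.Quotient.mk _ f) := by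
    intro f
    rw [KaehlerDifferential.mapBaseChange_tmul, one_smul, KaehlerDifferential.map_D]
    rfl
  ext p
  constructor
  · rintro ⟨f, rfl⟩
    exact (hcomp f).symm
  · intro hp
    obtain ⟨g, α⟩ := p
    obtain ⟨f, rfl⟩ := Ideal.Quotient.mk_surjective g
    have hp' : KaehlerDifferential.D k (B ⧸ Ideal.span {t ^ n}) (Ideal.Quotient.mk _ f) =
        KaehlerDifferential.mapBaseChange k B (B ⧸ Ideal.span {t ^ n}) α := hp
    have hx : KaehlerDifferential.mapBaseChange k B (B ⧸ Ideal.span {t ^ n})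
        (α - (1 : (B ⧸ Ideal.span {t ^ n})) ⊗ₜ[B] KaehlerDifferential.D k B f) = 0 := by
      rw [map_sub, hcomp, hp', sub_self]
    have hsurj : Function.Surjective (algebraMap B (B ⧸ Ideal.span {t ^ n})) :=
      Ideal.Quotient.mk_surjective
    obtain ⟨y, hy⟩ := (KaehlerDifferential.exact_kerCotangentToTensor_mapBaseChange k B
      (B ⧸ Ideal.span {t ^ n}) hsurj _).mp hx
    obtain ⟨z, rfl⟩ := Ideal.toCotangent_surjective _ y
    rw [KaehlerDifferential.kerCotangentToTensor_toCotangent] at hy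
    refine ⟨f + z.1, ?_⟩
    have hz : Ideal.Quotient.mk (Ideal.span {t ^ n}) z.1 = 0 := RingHom.mem_ker.mp z.2
    apply Prod.ext
    · change Ideal.Quotient.mk (Ideal.span {t ^ n}) (f + z.1) = Ideal.Quotient.mk _ f
      rw [map_add, hz, add_zero]
    · change ((1 : (B ⧸ Ideal.span {t ^ n})) ⊗ₜ[B] KaehlerDifferential.D k B (f + z.1) :
        (B ⧸ Ideal.span {t ^ n}) ⊗[B] Ω[B⁄k]) = α
      rw [map_add, TensorProduct.tmul_add, hy]
      abel

end Main2

end Groth.Agent.Lib.Helper20.DeformKaehler
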