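import Mathlib
import Groth.Agent.Lib.Helper20.DeformKaehler2

set_option autoImplicit false
universe u
open Polynomial TensorProduct

namespace Groth.Agent.Lib.Helper20.DeformKaehler

section Main3

variable {k : Type u} [Field k] {n : ℕ}
    {D : Type u} [CommRing D] [Algebra k D] {τ : D}
    (e : (k[X] ⧸ Ideal.span {(X : k[X]) ^ (n + 1)}) ≃ₐ[k] D)
    (he : e (Ideal.Quotient.mk (Ideal.span {(X : k[X]) ^ (n + 1)}) X) = τ)
    {B : Type u} [CommRing B] [Algebra k B] [Algebra D B] [IsScalarTower k D B]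

/-- compatibility of the two routes `Ω[B⁄k] → Ω[B'⁄D]`. -/
theorem nu_compat (t : B) (η : Ω[B⁄k]) :
    KaehlerDifferential.map D D B (B ⧸ Ideal.span {t ^ n}) (KaehlerDifferential.map k D B B η) =
    KaehlerDifferential.map k D (B ⧸ Ideal.span {t ^ n}) (B ⧸ Ideal.span {t ^ n})
      (KaehlerDifferential.mapBaseChange k B (B ⧸ Ideal.span {t ^ n})
        ((1 : (B ⧸ Ideal.span {t ^ n})) ⊗ₜ[B] η)) := by
  have hη : η ∈ Submodule.span B (Set.range (KaehlerDifferential.D k B)) := by
    rw [KaehlerDifferential.span_range_derivation]; trivial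
  induction hη using Submodule.span_induction with
  | mem x hx =>
    obtain ⟨f, rfl⟩ := hx
    rw [KaehlerDifferential.map_D, KaehlerDifferential.map_D,
      KaehlerDifferential.mapBaseChange_tmul, one_smul, KaehlerDifferential.map_D,
      KaehlerDifferential.map_D]
    rfl
  | zero => simp
  | add x y _ _ hx hy =>
    rw [map_add, map_add, hx, hy, TensorProduct.tmul_add, map_add, map_add]
  | smul b x _ hx =>
    rw [map_smul, map_smul, hx, TensorProduct.tmul_smul, LinearMap.map_smul_of_tower,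
      LinearMap.map_smul_of_tower]

theorem nat_baseChange (t : B) (x : (B ⧸ Ideal.span {t ^ n}) ⊗[B] Ω[B⁄k]) :
    KaehlerDifferential.mapBaseChange D B (B ⧸ Ideal.span {t ^ n})
      (LinearMap.baseChange (B ⧸ Ideal.span {t ^ n}) (KaehlerDifferential.map k D B B) x) =
    KaehlerDifferential.map k D (B ⧸ Ideal.span {t ^ n}) (B ⧸ Ideal.span {t ^ n})
      (KaehlerDifferential.mapBaseChange k B (B ⧸ Ideal.span {t ^ n}) x) := by
  induction x using TensorProduct.induction_on with
  | zero => simp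
  | tmul b' η =>
    have h1 := nu_compat (k := k) (D := D) (n := n) t η
    rw [KaehlerDifferential.mapBaseChange_tmul, one_smul] at h1
    rw [LinearMap.baseChange_tmul, KaehlerDifferential.mapBaseChange_tmul,
      KaehlerDifferential.mapBaseChange_tmul, map_smul, h1]
  | add x y hx hy => rw [map_add, map_add, map_add, map_add, hx, hy]

omit [Algebra k B] [IsScalarTower k D B] in
theorem injective_mapBaseChange_D (t : B) (ht : t = algebraMap D B τ) :
    Function.Injective (KaehlerDifferential.mapBaseChange D B (B ⧸ Ideal.span {t ^ n})) := by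
  rw [injective_iff_map_eq_zero]
  intro x hx
  have hsurj : Function.Surjective (algebraMap B (B ⧸ Ideal.span {t ^ n})) :=
    Ideal.Quotient.mk_surjective
  obtain ⟨y, rfl⟩ := (KaehlerDifferential.exact_kerCotangentToTensor_mapBaseChange D B
    (B ⧸ Ideal.span {t ^ n}) hsurj _).mp hx
  obtain ⟨z, rfl⟩ := Ideal.toCotangent_surjective _ y
  rw [KaehlerDifferential.kerCotangentToTensor_toCotangent]
  have hz : z.1 ∈ Ideal.span {t ^ n} := by
    have := z.2
    rw [RingHom.mem_ker] at this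
    exact Ideal.Quotient.eq_zero_iff_mem.1 this
  obtain ⟨c, hc⟩ := Ideal.mem_span_singleton.1 hz
  have h0 : KaehlerDifferential.D D B (t ^ n) = 0 := by
    rw [ht, ← map_pow]; exact Derivation.map_algebraMap _ _
  rw [hc, Derivation.leibniz, h0, smul_zero, add_zero, ← TensorProduct.smul_tmul]
  have : (t ^ n • (1 : B ⧸ Ideal.span {t ^ n})) = 0 := by
    rw [Algebra.smul_def, mul_one]
    exact Ideal.Quotient.eq_zero_iff_mem.2 (Ideal.subset_span rfl)
  rw [this, TensorProduct.zero_tmul]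

include he in
theorem nu_injective [CharZero k] [Algebra.FiniteType k B] [Module.Flat D B]
    (t : B) (ht : t = algebraMap D B τ)
    (hsm : Algebra.Smooth k (B ⧸ Ideal.span {t})) :
    Function.Injective (fun η : Ω[B⁄k] =>
      ((KaehlerDifferential.map k D B B η, (1 : (B ⧸ Ideal.span {t ^ n})) ⊗ₜ[B] η) :
        Ω[B⁄D] × ((B ⧸ Ideal.span {t ^ n}) ⊗[B] Ω[B⁄k]))) := by
  intro η₁ η₂ h
  have h1 : KaehlerDifferential.map k D B B η₁ = KaehlerDifferential.map k D B B η₂ :=
    congrArg Prod.fst h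
  have h2 : ((1 : (B ⧸ Ideal.span {t ^ n})) ⊗ₜ[B] η₁ : (B ⧸ Ideal.span {t ^ n}) ⊗[B] Ω[B⁄k]) =
      (1 : (B ⧸ Ideal.span {t ^ n})) ⊗ₜ[B] η₂ := congrArg Prod.snd h
  have h3 : KaehlerDifferential.map k D B B (η₁ - η₂) = 0 := by rw [map_sub, h1, sub_self]
  obtain ⟨b, hb⟩ := (map_eq_zero_iff e he t ht _).1 h3
  have h4 : ((1 : (B ⧸ Ideal.span {t ^ n})) ⊗ₜ[B] (η₁ - η₂) :
      (B ⧸ Ideal.span {t ^ n}) ⊗[B] Ω[B⁄k]) = 0 := by
    rw [TensorProduct.tmul_sub, h2, sub_self]
  rw [hb, one_tmul_smul_D] at h4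
  have h5 : Ideal.Quotient.mk (Ideal.span {t ^ n}) b = 0 := by
    apply injective_toSpanSingleton e he t ht hsm
    rw [LinearMap.toSpanSingleton_apply, LinearMap.toSpanSingleton_apply, zero_smul]
    exact h4
  obtain ⟨c, hc⟩ := Ideal.mem_span_singleton.1 (Ideal.Quotient.eq_zero_iff_mem.1 h5)
  have h6 : η₁ - η₂ = 0 := by
    rw [hb, hc, mul_comm, mul_smul, pow_smul_D_eq_zero e he t ht, smul_zero]
  exact sub_eq_zero.1 h6

include he in
theorem nu_range (t : B) (ht : t = algebraMap D B τ) :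
    Set.range (fun η : Ω[B⁄k] =>
      ((KaehlerDifferential.map k D B B η, (1 : (B ⧸ Ideal.span {t ^ n})) ⊗ₜ[B] η) :
        Ω[B⁄D] × ((B ⧸ Ideal.span {t ^ n}) ⊗[B] Ω[B⁄k]))) =
      {p | KaehlerDifferential.map D D B (B ⧸ Ideal.span {t ^ n}) p.1 =
        KaehlerDifferential.map k D (B ⧸ Ideal.span {t ^ n}) (B ⧸ Ideal.span {t ^ n})
          (KaehlerDifferential.mapBaseChange k B (B ⧸ Ideal.span {t ^ n}) p.2)} := by
  ext p
  constructor
  · rintro ⟨η, rfl⟩
    exact nu_compat t η
  · intro hp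
    obtain ⟨α, β⟩ := p
    have hp' : KaehlerDifferential.map D D B (B ⧸ Ideal.span {t ^ n}) α =
        KaehlerDifferential.map k D (B ⧸ Ideal.span {t ^ n}) (B ⧸ Ideal.span {t ^ n})
          (KaehlerDifferential.mapBaseChange k B (B ⧸ Ideal.span {t ^ n}) β) := hp
    obtain ⟨η₀, rfl⟩ := KaehlerDifferential.map_surjective k D B α
    have h1 : LinearMap.baseChange (B ⧸ Ideal.span {t ^ n}) (KaehlerDifferential.map k D B B)
        (β - (1 : (B ⧸ Ideal.span {t ^ n})) ⊗ₜ[B] η₀) = 0 := by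
      apply injective_mapBaseChange_D t ht
      rw [nat_baseChange, map_zero, map_sub, map_sub, ← hp', ← nu_compat, sub_self]
    obtain ⟨b', hb'⟩ := (exact_seq e he t ht _).mp h1
    obtain ⟨b, rfl⟩ := Ideal.Quotient.mk_surjective b'
    rw [LinearMap.toSpanSingleton_apply] at hb'
    refine ⟨η₀ + b • KaehlerDifferential.D k B t, ?_⟩
    apply Prod.ext
    · change KaehlerDifferential.map k D B B (η₀ + b • KaehlerDifferential.D k B t) = _
      have h0 : KaehlerDifferential.D D B t = 0 := by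
        rw [ht]; exact Derivation.map_algebraMap _ _
      rw [map_add, map_smul, KaehlerDifferential.map_D, Algebra.algebraMap_self,
        RingHom.id_apply, h0, smul_zero, add_zero]
    · change ((1 : (B ⧸ Ideal.span {t ^ n})) ⊗ₜ[B] (η₀ + b • KaehlerDifferential.D k B t) :
        (B ⧸ Ideal.span {t ^ n}) ⊗[B] Ω[B⁄k]) = β
      rw [TensorProduct.tmul_add, one_tmul_smul_D, hb']
      abel

end Main3

end Groth.Agent.Lib.Helper20.DeformKaehler
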