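import Mathlib
import Groth.Prelude.Def_DescFam

/-!
# Full faithfulness of pullback of descent data for schemes along a refinement (fpqc)

Let `u i : U i ⟶ S`, `v j : V j ⟶ S` be families and `(α, g)` a morphism of families over `𝟙 S`.
If for every `j` the sieve on `V j` of those `t : T ⟶ V j` for which `t ≫ v j` factors through some
`u i` is covering for the fpqc topology, then `Desc.pullDDFam` is full and faithful.
-/

set_option autoImplicit false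
set_option backward.isDefEq.respectTransparency false
open CategoryTheory CategoryTheory.Limits AlgebraicGeometry Opposite
universe u
open Desc

namespace Groth.Agent.Lib.Helper20.DescFamFF

section basics

variable {S : Scheme.{u}} {κ : Type u} {V : κ → Scheme.{u}} {v : ∀ j, V j ⟶ S}

/-- transport of `φ` along equalities of the base points -/
theorem φ_congr (D : SchDDFam v) {T : Scheme.{u}} {j j' : κ} {x₀ x₀' : T ⟶ V j} {x₁ x₁' : T ⟶ V j'}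
    (e₀ : x₀ = x₀') (e₁ : x₁ = x₁') (h : x₀ ≫ v j = x₁ ≫ v j') (h' : x₀' ≫ v j = x₁' ≫ v j')
    (n : Lifts (D.obj j) x₀) (n' : Lifts (D.obj j) x₀') (hn : n.1 = n'.1) :
    (D.φ x₀ x₁ h n).1 = (D.φ x₀' x₁' h' n').1 := by
  subst e₀ e₁
  have : n = n' := Subtype.ext hn
  subst this
  rfl

/-- `φ` between equal points is the identity on underlying morphisms -/
theorem φ_self' (D : SchDDFam v) {T : Scheme.{u}} {j : κ} {x₀ x₁ : T ⟶ V j}
    (e : x₀ = x₁) (h : x₀ ≫ v j = x₁ ≫ v j)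
    (n : Lifts (D.obj j) x₀) : (D.φ x₀ x₁ h n).1 = n.1 := by
  subst e
  rw [D.φ_self]

theorem φ_inv (D : SchDDFam v) {T : Scheme.{u}} {j j' : κ} (x₀ : T ⟶ V j) (x₁ : T ⟶ V j')
    (h : x₀ ≫ v j = x₁ ≫ v j') (n : Lifts (D.obj j) x₀) :
    D.φ x₁ x₀ h.symm (D.φ x₀ x₁ h n) = n := by
  rw [D.φ_comp, D.φ_self]

end basics

section sheaf

/-- separatedness of representables for fpqc covering sieves, in morphism form -/
theorem sep {A Z : Scheme.{u}} (R : Sieve A) (hR : R ∈ Scheme.fpqcTopology A) (t₁ t₂ : A ⟶ Z)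
    (h : ∀ ⦃T : Scheme.{u}⦄ (m : T ⟶ A), R m → m ≫ t₁ = m ≫ t₂) : t₁ = t₂ := by
  have hs : Presieve.IsSheaf Scheme.fpqcTopology (yoneda.obj Z) :=
    GrothendieckTopology.Subcanonical.isSheaf_of_isRepresentable (yoneda.obj Z)
  exact (hs R hR).isSeparatedFor.ext (t₁ := t₁) (t₂ := t₂) (fun T m hm => h m hm)

/-- gluing of morphisms along an fpqc covering sieve -/
theorem glue {A Z : Scheme.{u}} (R : Sieve A) (hR : R ∈ Scheme.fpqcTopology A)
    (fam : ∀ ⦃T : Scheme.{u}⦄ (m : T ⟶ A), R m → (T ⟶ Z))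
    (compat : ∀ ⦃T₁ T₂ T' : Scheme.{u}⦄ (k₁ : T' ⟶ T₁) (k₂ : T' ⟶ T₂) (m₁ : T₁ ⟶ A) (m₂ : T₂ ⟶ A)
      (hm₁ : R m₁) (hm₂ : R m₂), k₁ ≫ m₁ = k₂ ≫ m₂ → k₁ ≫ fam m₁ hm₁ = k₂ ≫ fam m₂ hm₂) :
    ∃ t : A ⟶ Z, ∀ ⦃T : Scheme.{u}⦄ (m : T ⟶ A) (hm : R m), m ≫ t = fam m hm := by
  have hs : Presieve.IsSheaf Scheme.fpqcTopology (yoneda.obj Z) :=
    GrothendieckTopology.Subcanonical.isSheaf_of_isRepresentable (yoneda.obj Z)
  let x : Presieve.FamilyOfElements (yoneda.obj Z) R.arrows := fun T m hm => fam m hm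
  have hx : x.Compatible := by
    intro T₁ T₂ T' k₁ k₂ m₁ m₂ hm₁ hm₂ e
    exact compat k₁ k₂ m₁ m₂ hm₁ hm₂ e
  exact ⟨(hs R hR).amalgamate x hx, fun T m hm => (hs R hR).valid_glue hx m hm⟩

end sheaf

section main

variable {ι κ : Type u} {S : Scheme.{u}} {U : ι → Scheme.{u}} {V : κ → Scheme.{u}}
  {u : ∀ i, U i ⟶ S} {v : ∀ j, V j ⟶ S} {α : ι → κ} {g : ∀ i, U i ⟶ V (α i)}
  (W : ∀ i, g i ≫ v (α i) = u i ≫ 𝟙 S)

include W in
theorem W' (i : ι) : g i ≫ v (α i) = u i := (W i).trans (Category.comp_id _)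

include W in
theorem h₁ {T : Scheme.{u}} {j : κ} (m₀ : T ⟶ V j) {i : ι} (x : T ⟶ U i)
    (h : m₀ ≫ v j = x ≫ u i) : m₀ ≫ v j = (x ≫ g i) ≫ v (α i) := by
  rw [Category.assoc, W' W i, h]

variable {D D' : SchDDFam v}

/-- the map on points over `x ≫ g i` induced by a morphism `ψ` of pulled-back descent data -/
noncomputable def Ψ (ψ : (pullDDFam W).obj D ⟶ (pullDDFam W).obj D') {T : Scheme.{u}} (i : ι)
    (x : T ⟶ U i) (n : Lifts (D.obj (α i)) (x ≫ g i)) : Lifts (D'.obj (α i)) (x ≫ g i) :=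
  liftsPullbackEquiv (D'.obj (α i)) (g i) x
    (SchDDFam.Hom.push ψ ((liftsPullbackEquiv (D.obj (α i)) (g i) x).symm n))

theorem Ψ_val (ψ : (pullDDFam W).obj D ⟶ (pullDDFam W).obj D') {T : Scheme.{u}} (i : ι)
    (x : T ⟶ U i) (n : Lifts (D.obj (α i)) (x ≫ g i)) :
    (Ψ W ψ i x n).1 = pullback.lift n.1 x n.2 ≫ (ψ.hom i).left ≫
      pullback.fst (D'.obj (α i)).hom (g i) := by
  simp [Ψ, liftsPullbackEquiv, SchDDFam.Hom.push]

theorem Ψ_nat (ψ : (pullDDFam W).obj D ⟶ (pullDDFam W).obj D') {T T' : Scheme.{u}} (k : T' ⟶ T)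
    (i : ι) (x : T ⟶ U i) (y : T' ⟶ U i) (hy : k ≫ x = y)
    (n : Lifts (D.obj (α i)) (x ≫ g i)) (n' : Lifts (D.obj (α i)) (y ≫ g i))
    (hn : n'.1 = k ≫ n.1) : (Ψ W ψ i y n').1 = k ≫ (Ψ W ψ i x n).1 := by
  rw [Ψ_val, Ψ_val]
  subst hy
  have : pullback.lift n'.1 (k ≫ x) n'.2 = k ≫ pullback.lift n.1 x n.2 := by
    apply pullback.hom_ext
    · simp [hn]
    · simp
  rw [this, Category.assoc]

theorem Ψ_comm (ψ : (pullDDFam W).obj D ⟶ (pullDDFam W).obj D') {T : Scheme.{u}} {i i' : ι}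
    (x₀ : T ⟶ U i) (x₁ : T ⟶ U i') (h : x₀ ≫ u i = x₁ ≫ u i')
    (h' : (x₀ ≫ g i) ≫ v (α i) = (x₁ ≫ g i') ≫ v (α i'))
    (n : Lifts (D.obj (α i)) (x₀ ≫ g i)) :
    Ψ W ψ i' x₁ (D.φ (x₀ ≫ g i) (x₁ ≫ g i') h' n) =
      D'.φ (x₀ ≫ g i) (x₁ ≫ g i') h' (Ψ W ψ i x₀ n) := by
  have hc := ψ.comm x₀ x₁ h ((liftsPullbackEquiv (D.obj (α i)) (g i) x₀).symm n)
    (SchDDFam.Hom.push ψ ((liftsPullbackEquiv (D.obj (α i)) (g i) x₀).symm n)) rfl
  apply Subtype.ext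
  rw [Ψ_val]
  simp only [pullDDFam, pullDDFamObj, Equiv.trans_apply, Equiv.apply_symm_apply] at hc
  have h2 := congrArg (· ≫ pullback.fst (D'.obj (α i')).hom (g i')) hc
  simp only [liftsPullbackEquiv, Equiv.coe_fn_symm_mk, Equiv.coe_fn_mk, pullback.lift_fst,
    Category.assoc] at h2
  rw [← h2]
  rfl

/-- the candidate value of the descended morphism on a point `m` over `m₀`, computed using an
auxiliary point `x` of `U i` -/
noncomputable def E (ψ : (pullDDFam W).obj D ⟶ (pullDDFam W).obj D') {T : Scheme.{u}} {j : κ}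
    (m₀ : T ⟶ V j) (i : ι) (x : T ⟶ U i) (h : m₀ ≫ v j = x ≫ u i) (m : Lifts (D.obj j) m₀) :
    Lifts (D'.obj j) m₀ :=
  D'.φ (x ≫ g i) m₀ (h₁ W m₀ x h).symm (Ψ W ψ i x (D.φ m₀ (x ≫ g i) (h₁ W m₀ x h) m))

theorem E_indep (ψ : (pullDDFam W).obj D ⟶ (pullDDFam W).obj D') {T : Scheme.{u}} {j : κ}
    (m₀ : T ⟶ V j) (i : ι) (x : T ⟶ U i) (h : m₀ ≫ v j = x ≫ u i)
    (i' : ι) (x' : T ⟶ U i') (h' : m₀ ≫ v j = x' ≫ u i') (m : Lifts (D.obj j) m₀) :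
    E W ψ m₀ i x h m = E W ψ m₀ i' x' h' m := by
  unfold E
  have hxx : x ≫ u i = x' ≫ u i' := h.symm.trans h'
  have hgg : (x ≫ g i) ≫ v (α i) = (x' ≫ g i') ≫ v (α i') :=
    (h₁ W m₀ x h).symm.trans (h₁ W m₀ x' h')
  have e1 : D.φ m₀ (x' ≫ g i') (h₁ W m₀ x' h') m =
      D.φ (x ≫ g i) (x' ≫ g i') hgg (D.φ m₀ (x ≫ g i) (h₁ W m₀ x h) m) := by
    rw [D.φ_comp]
  rw [e1, Ψ_comm W ψ x x' hxx hgg, D'.φ_comp]

theorem E_nat (ψ : (pullDDFam W).obj D ⟶ (pullDDFam W).obj D') {T T' : Scheme.{u}} (k : T' ⟶ T)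
    {j : κ} (m₀ : T ⟶ V j) (i : ι) (x : T ⟶ U i) (h : m₀ ≫ v j = x ≫ u i) (m : Lifts (D.obj j) m₀)
    (m₀' : T' ⟶ V j) (x' : T' ⟶ U i) (h' : m₀' ≫ v j = x' ≫ u i) (m' : Lifts (D.obj j) m₀')
    (hm₀ : k ≫ m₀ = m₀') (hx : k ≫ x = x') (hm : m'.1 = k ≫ m.1) :
    (E W ψ m₀' i x' h' m').1 = k ≫ (E W ψ m₀ i x h m).1 := by
  unfold E
  refine D'.φ_natural k (x ≫ g i) m₀ _ (x' ≫ g i) m₀' (by rw [← hx, Category.assoc]) hm₀ _ _ _ ?_
  refine Ψ_nat W ψ k i x x' hx _ _ ?_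
  exact D.φ_natural k m₀ (x ≫ g i) _ m₀' (x' ≫ g i) hm₀ (by rw [← hx, Category.assoc]) _ _ _ hm

variable (u v) in
/-- the sieve on `V j` of morphisms `t` such that `t ≫ v j` factors through some `u i` -/
def covSieve (j : κ) : Sieve (V j) where
  arrows T t := ∃ (i : ι) (x : T ⟶ U i), t ≫ v j = x ≫ u i
  downward_closed := by
    rintro T T' t ⟨i, x, h⟩ k
    exact ⟨i, k ≫ x, by rw [Category.assoc, h, Category.assoc]⟩

variable (H : ∀ j, covSieve u v j ∈ Scheme.fpqcTopology (V j))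

include H in
/-- existence of the descended morphism on `D.obj j` -/
theorem exists_desc (ψ : (pullDDFam W).obj D ⟶ (pullDDFam W).obj D') (j : κ) :
    ∃ t : (D.obj j).left ⟶ (D'.obj j).left,
      ∀ ⦃T : Scheme.{u}⦄ (m₀ : T ⟶ V j) (i : ι) (x : T ⟶ U i) (h : m₀ ≫ v j = x ≫ u i)
        (m : Lifts (D.obj j) m₀), m.1 ≫ t = (E W ψ m₀ i x h m).1 := by
  let R : Sieve (D.obj j).left := (covSieve u v j).pullback (D.obj j).hom
  have hR : R ∈ Scheme.fpqcTopology (D.obj j).left :=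
    Scheme.fpqcTopology.pullback_stable _ (H j)
  have key : ∀ ⦃T : Scheme.{u}⦄ (m : T ⟶ (D.obj j).left), R m →
      ∃ (i : ι) (x : T ⟶ U i), (m ≫ (D.obj j).hom) ≫ v j = x ≫ u i := fun T m hm => hm
  choose cI cX cH using key
  have pre : ∀ ⦃T T' : Scheme.{u}⦄ (k : T' ⟶ T) (m : T ⟶ (D.obj j).left) (hm : R m),
      ((k ≫ m) ≫ (D.obj j).hom) ≫ v j = (k ≫ cX m hm) ≫ u (cI m hm) := by
    intro T T' k m hm
    calc ((k ≫ m) ≫ (D.obj j).hom) ≫ v j = k ≫ ((m ≫ (D.obj j).hom) ≫ v j) := by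
          simp only [Category.assoc]
      _ = k ≫ (cX m hm ≫ u (cI m hm)) := by rw [cH]
      _ = (k ≫ cX m hm) ≫ u (cI m hm) := by rw [Category.assoc]
  obtain ⟨t, ht⟩ := glue R hR (Z := (D'.obj j).left)
    (fun T m hm => (E W ψ (m ≫ (D.obj j).hom) (cI m hm) (cX m hm) (cH m hm) ⟨m, rfl⟩).1) (by
    intro T₁ T₂ T' k₁ k₂ m₁ m₂ hm₁ hm₂ e
    have e1 := E_nat W ψ k₁ (m₁ ≫ (D.obj j).hom) (cI m₁ hm₁) (cX m₁ hm₁) (cH m₁ hm₁)
      ⟨m₁, rfl⟩ ((k₁ ≫ m₁) ≫ (D.obj j).hom) (k₁ ≫ cX m₁ hm₁) (pre k₁ m₁ hm₁)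
      ⟨k₁ ≫ m₁, rfl⟩ (by rw [Category.assoc]) rfl rfl
    have e2 := E_nat W ψ k₂ (m₂ ≫ (D.obj j).hom) (cI m₂ hm₂) (cX m₂ hm₂) (cH m₂ hm₂)
      ⟨m₂, rfl⟩ ((k₁ ≫ m₁) ≫ (D.obj j).hom) (k₂ ≫ cX m₂ hm₂)
      (by rw [e]; exact pre k₂ m₂ hm₂)
      ⟨k₁ ≫ m₁, rfl⟩ (by rw [e, Category.assoc]) rfl e
    rw [← e1, ← e2, E_indep])
  refine ⟨t, ?_⟩
  rintro T m₀ i x h ⟨m, rfl⟩
  have hm : R m := ⟨i, x, h⟩
  rw [ht m hm]
  exact congrArg Subtype.val (E_indep W ψ _ _ _ _ i x h _)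

include H in
theorem full (ψ : (pullDDFam W).obj D ⟶ (pullDDFam W).obj D') :
    ∃ φ : D ⟶ D', (pullDDFam W).map φ = ψ := by
  choose t ht using exists_desc W H ψ
  -- the `t j` are morphisms over `V j`
  have hover : ∀ j, t j ≫ (D'.obj j).hom = (D.obj j).hom := by
    intro j
    refine sep ((covSieve u v j).pullback (D.obj j).hom)
      (Scheme.fpqcTopology.pullback_stable _ (H j)) _ _ ?_
    rintro T m ⟨i, x, h⟩
    rw [← Category.assoc, ht j (m ≫ (D.obj j).hom) i x h ⟨m, rfl⟩]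
    exact (E W ψ (m ≫ (D.obj j).hom) i x h ⟨m, rfl⟩).2
  -- compatibility with the gluing bijections
  have hcomm : ∀ ⦃T : Scheme.{u}⦄ ⦃j j' : κ⦄ (y₀ : T ⟶ V j) (y₁ : T ⟶ V j')
      (hy : y₀ ≫ v j = y₁ ≫ v j') (m : Lifts (D.obj j) y₀) (m' : Lifts (D'.obj j) y₀),
      m'.1 = m.1 ≫ t j → (D'.φ y₀ y₁ hy m').1 = (D.φ y₀ y₁ hy m).1 ≫ t j' := by
    intro T j j' y₀ y₁ hy m m' hm'
    refine sep ((covSieve u v j).pullback y₀) (Scheme.fpqcTopology.pullback_stable _ (H j)) _ _ ?_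
    rintro T'' r ⟨i, x, h⟩
    have h' : (r ≫ y₁) ≫ v j' = x ≫ u i := by rw [Category.assoc, ← hy, ← Category.assoc, h]
    have hy' : (r ≫ y₀) ≫ v j = (r ≫ y₁) ≫ v j' := by rw [Category.assoc, Category.assoc, hy]
    let rm : Lifts (D.obj j) (r ≫ y₀) := ⟨r ≫ m.1, by rw [Category.assoc, m.2]⟩
    let rm' : Lifts (D'.obj j) (r ≫ y₀) := ⟨r ≫ m'.1, by rw [Category.assoc, m'.2]⟩
    have e1 : r ≫ (D'.φ y₀ y₁ hy m').1 = (D'.φ (r ≫ y₀) (r ≫ y₁) hy' rm').1 :=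
      (D'.φ_natural r y₀ y₁ hy (r ≫ y₀) (r ≫ y₁) rfl rfl hy' m' rm' rfl).symm
    have e2 : r ≫ (D.φ y₀ y₁ hy m).1 = (D.φ (r ≫ y₀) (r ≫ y₁) hy' rm).1 :=
      (D.φ_natural r y₀ y₁ hy (r ≫ y₀) (r ≫ y₁) rfl rfl hy' m rm rfl).symm
    have e3 : rm' = E W ψ (r ≫ y₀) i x h rm := by
      apply Subtype.ext
      rw [← ht j (r ≫ y₀) i x h rm]
      change r ≫ m'.1 = (r ≫ m.1) ≫ t j
      rw [hm', Category.assoc]
    rw [e1, ← Category.assoc, e2, ht j' (r ≫ y₁) i x h' _, e3]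
    unfold E
    rw [D'.φ_comp, D.φ_comp]
  let φ : D ⟶ D' := ⟨fun j => Over.homMk (t j) (hover j), fun T j j' y₀ y₁ hy m m' hm' =>
    hcomm y₀ y₁ hy m m' hm'⟩
  refine ⟨φ, ?_⟩
  apply SchDDFam.hom_ext
  funext i
  apply Over.OverMorphism.ext
  change pullback.map (D.obj (α i)).hom (g i) (D'.obj (α i)).hom (g i) (t (α i)) (𝟙 _) (𝟙 _)
    (by rw [Category.comp_id]; exact (hover (α i)).symm) (by simp) = (ψ.hom i).left
  apply pullback.hom_ext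
  · rw [pullback.lift_fst]
    have hc : (pullback.fst (D.obj (α i)).hom (g i) ≫ (D.obj (α i)).hom) ≫ v (α i) =
        pullback.snd (D.obj (α i)).hom (g i) ≫ u i := by
      rw [pullback.condition, Category.assoc, W' W i]
    rw [ht (α i) (pullback.fst (D.obj (α i)).hom (g i) ≫ (D.obj (α i)).hom) i
      (pullback.snd (D.obj (α i)).hom (g i)) hc ⟨pullback.fst (D.obj (α i)).hom (g i), rfl⟩]
    unfold E
    rw [φ_self' D' pullback.condition.symm, Ψ_val]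
    have : pullback.lift _ (pullback.snd (D.obj (α i)).hom (g i))
        (D.φ (pullback.fst (D.obj (α i)).hom (g i) ≫ (D.obj (α i)).hom)
          (pullback.snd (D.obj (α i)).hom (g i) ≫ g i) (h₁ W _ _ hc)
          ⟨pullback.fst (D.obj (α i)).hom (g i), rfl⟩).2 = 𝟙 _ := by
      apply pullback.hom_ext
      · rw [pullback.lift_fst, Category.id_comp, φ_self' D pullback.condition]
      · rw [pullback.lift_snd, Category.id_comp]
    rw [this, Category.id_comp]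
  · rw [pullback.lift_snd, Category.comp_id]
    exact (Over.w (ψ.hom i)).symm

include H in
theorem faithful (φ φ' : D ⟶ D') (hφ : (pullDDFam W).map φ = (pullDDFam W).map φ') : φ = φ' := by
  apply SchDDFam.hom_ext
  funext j
  apply Over.OverMorphism.ext
  have h1 : ∀ i, pullback.fst (D.obj (α i)).hom (g i) ≫ (φ.hom (α i)).left =
      pullback.fst (D.obj (α i)).hom (g i) ≫ (φ'.hom (α i)).left := by
    intro i
    have := congrArg (fun m => (SchDDFam.Hom.hom m i).left ≫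
      pullback.fst (D'.obj (α i)).hom (g i)) hφ
    simp only [pullDDFam] at this
    have e1 : ∀ (m : D ⟶ D'), pullback.map (D.obj (α i)).hom (g i) (D'.obj (α i)).hom (g i)
        (m.hom (α i)).left (𝟙 _) (𝟙 _)
        (by simp [Over.w]) (by simp) ≫ pullback.fst (D'.obj (α i)).hom (g i) =
        pullback.fst (D.obj (α i)).hom (g i) ≫ (m.hom (α i)).left := fun m => pullback.lift_fst _ _ _
    rw [← e1 φ, ← e1 φ']
    exact this
  refine sep ((covSieve u v j).pullback (D.obj j).hom)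
    (Scheme.fpqcTopology.pullback_stable _ (H j)) _ _ ?_
  rintro T m ⟨i, x, h⟩
  have hx := h₁ W (m ≫ (D.obj j).hom) x h
  let v0 : Lifts (D.obj j) (m ≫ (D.obj j).hom) := ⟨m, rfl⟩
  let v1 := D.φ (m ≫ (D.obj j).hom) (x ≫ g i) hx v0
  have hv1 : v1.1 ≫ (φ.hom (α i)).left = v1.1 ≫ (φ'.hom (α i)).left := by
    have e : v1.1 = pullback.lift v1.1 x v1.2 ≫ pullback.fst (D.obj (α i)).hom (g i) :=
      (pullback.lift_fst _ _ _).symm
    rw [e, Category.assoc, Category.assoc, h1 i]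
  let wφ : Lifts (D'.obj j) (m ≫ (D.obj j).hom) :=
    ⟨m ≫ (φ.hom j).left, by rw [Category.assoc, Over.w]⟩
  let wφ' : Lifts (D'.obj j) (m ≫ (D.obj j).hom) :=
    ⟨m ≫ (φ'.hom j).left, by rw [Category.assoc, Over.w]⟩
  have cφ := φ.comm (m ≫ (D.obj j).hom) (x ≫ g i) hx v0 wφ rfl
  have cφ' := φ'.comm (m ≫ (D.obj j).hom) (x ≫ g i) hx v0 wφ' rfl
  have e2 : D'.φ _ _ hx wφ = D'.φ _ _ hx wφ' := Subtype.ext (by rw [cφ, cφ']; exact hv1)
  have e3 := (D'.φ _ _ hx).injective e2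
  exact congrArg Subtype.val e3

include H in
/-- Main theorem: the pullback functor is full and faithful. -/
theorem full_and_faithful : (pullDDFam W).Full ∧ (pullDDFam W).Faithful :=
  ⟨⟨fun {_ _} ψ => full W H ψ⟩, ⟨fun {_ _} φ φ' h => faithful W H φ φ' h⟩⟩

end main

section covers

variable {ι κ : Type u} {S : Scheme.{u}} {U : ι → Scheme.{u}} {V : κ → Scheme.{u}}
  (u : ∀ i, U i ⟶ S) (v : ∀ j, V j ⟶ S)

/-- if `(u i)` is an fpqc covering of `S` then the hypothesis of the main theorem holds -/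
theorem covSieve_mem_of_cover (hu : Presieve.ofArrows U u ∈ Scheme.fpqcPrecoverage S) (j : κ) :
    covSieve u v j ∈ Scheme.fpqcTopology (V j) := by
  have h1 : Sieve.generate (Presieve.ofArrows U u) ∈ Scheme.fpqcTopology S :=
    Precoverage.generate_mem_toGrothendieck hu
  have h2 := Scheme.fpqcTopology.pullback_stable (v j) h1
  refine Scheme.fpqcTopology.superset_covering ?_ h2
  rintro T t ⟨Y, x, f, ⟨i⟩, hx⟩
  exact ⟨i, x, hx.symm⟩

variable {u v} in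
/-- if for each `j` the `g i` with `α i = j` form an fpqc covering of `V j` then the hypothesis of
the main theorem holds -/
theorem covSieve_mem_of_refinement (α : ι → κ) (g : ∀ i, U i ⟶ V (α i))
    (w : ∀ i, g i ≫ v (α i) = u i) (j : κ)
    (hcov : Presieve.ofArrows (fun i : {i // α i = j} => U i.1)
      (fun i => g i.1 ≫ eqToHom (congrArg V i.2)) ∈ Scheme.fpqcPrecoverage (V j)) :
    covSieve u v j ∈ Scheme.fpqcTopology (V j) := by
  have h1 := Precoverage.generate_mem_toGrothendieck hcov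
  refine Scheme.fpqcTopology.superset_covering ?_ h1
  rintro T t ⟨Y, x, f, ⟨⟨i, hi⟩⟩, hx⟩
  refine ⟨i, x, ?_⟩
  subst hi
  rw [← hx]
  simp only [eqToHom_refl, Category.comp_id, Category.assoc]
  rw [w]

end covers

end Groth.Agent.Lib.Helper20.DescFamFF
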