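import Mathlib

/-!
# `det (1 - t M) = exp (- ∑ tr (M^m) t^m / m)` and linear ODEs for power series
-/

set_option autoImplicit false
universe u v

namespace Groth.Agent.Lib.Helper20.DetExp

open Polynomial Matrix

section Jacobi

variable {R : Type*} [CommRing R] {n : Type*} [Fintype n] [DecidableEq n]

/-- coefficient-one formula for `det (A + X • A N)`. -/
theorem coeff_one_det_add_X_smul (A N : Matrix n n R) :
    (det (A.map C + (X : R[X]) • (A * N).map C)).coeff 1 = det A * trace N := by
  have h : A.map C + (X : R[X]) • (A * N).map C = A.map C * (1 + (X : R[X]) • N.map C) := by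
    rw [Matrix.mul_add, Matrix.mul_one, Matrix.mul_smul, Matrix.map_mul]
  rw [h, det_mul]
  have h2 : (A.map C).det = C A.det := by
    rw [← RingHom.mapMatrix_apply, ← RingHom.map_det]
  rw [h2, coeff_C_mul, coeff_det_one_add_X_smul_one]

end Jacobi

section Main

variable {K : Type*} [CommRing K] {n : Type*} [Fintype n] [DecidableEq n]

/-- the matrix `∑ t^l M^(l+1)` over `K⟦t⟧`. -/
noncomputable def NN (M : Matrix n n K) : Matrix n n (PowerSeries K) :=
  fun i j => PowerSeries.mk fun l => (M ^ (l + 1)) i j

theorem trace_NN (M : Matrix n n K) :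
    trace (NN M) = PowerSeries.mk fun l => trace (M ^ (l + 1)) := by
  ext l
  simp only [trace, diag, NN, map_sum, PowerSeries.coeff_mk]

theorem mul_NN (M : Matrix n n K) :
    (1 - (PowerSeries.X : PowerSeries K) • M.map (PowerSeries.C)) * NN M =
      M.map (PowerSeries.C) := by
  rw [Matrix.sub_mul, Matrix.one_mul, Matrix.smul_mul]
  ext i j l
  rw [Matrix.sub_apply, Matrix.smul_apply, Matrix.mul_apply, Matrix.map_apply, map_sub]
  simp only [NN, Matrix.map_apply, smul_eq_mul, PowerSeries.coeff_mk]
  rcases l with _ | l
  · simp [PowerSeries.coeff_zero_X_mul]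
  · rw [PowerSeries.coeff_succ_X_mul, map_sum]
    simp only [PowerSeries.coeff_C_mul, PowerSeries.coeff_mk, PowerSeries.coeff_C]
    rw [if_neg (Nat.succ_ne_zero l), pow_succ' M (l + 1), Matrix.mul_apply, sub_self]

/-- Jacobi's formula for `det (1 - t M)`, as power series. -/
theorem derivative_charpolyRev (M : Matrix n n K) :
    PowerSeries.derivative K ((M.charpolyRev : K[X]) : PowerSeries K) =
      -(PowerSeries.mk fun l => trace (M ^ (l + 1))) * ((M.charpolyRev : K[X]) : PowerSeries K) := by
  set t : PowerSeries K := PowerSeries.X with ht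
  set Mt : Matrix n n (PowerSeries K) := M.map (PowerSeries.C) with hMt
  set A : Matrix n n (PowerSeries K) := 1 - t • Mt with hA
  -- `det A` is the power series of the reversed characteristic polynomial
  have hdetA : A.det = ((M.charpolyRev : K[X]) : PowerSeries K) := by
    have h1 : ((M.charpolyRev : K[X]) : PowerSeries K) =
        (Polynomial.coeToPowerSeries.ringHom (R := K)) M.charpolyRev := rfl
    rw [h1, Matrix.charpolyRev, RingHom.map_det]
    congr 1
    ext i j : 1
    simp only [RingHom.mapMatrix_apply, Matrix.map_apply, Matrix.sub_apply, Matrix.smul_apply,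
      smul_eq_mul, map_sub, map_mul, hA, hMt]
    congr 1
    · by_cases hij : i = j
      · subst hij; simp
      · simp [hij]
    · simp [Polynomial.coeToPowerSeries.ringHom, ht]
  -- the substitution `X ↦ X + C t`
  let ψ : K[X] →+* (PowerSeries K)[X] :=
    (Polynomial.compRingHom (X + C t)).comp (Polynomial.mapRingHom (PowerSeries.C : K →+* PowerSeries K))
  have hψX : ψ X = X + C t := by simp [ψ]
  have hψC : ∀ a : K, ψ (C a) = C (PowerSeries.C a) := by intro a; simp [ψ]
  have hψ : ψ M.charpolyRev =
      det (A.map C + (X : (PowerSeries K)[X]) • (A * (-(NN M))).map C) := by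
    rw [Matrix.charpolyRev, RingHom.map_det]
    congr 1
    rw [Matrix.mul_neg, hA, mul_NN]
    ext i j : 1
    simp only [RingHom.mapMatrix_apply, Matrix.map_apply, Matrix.sub_apply, Matrix.smul_apply,
      Matrix.add_apply, Matrix.neg_apply, smul_eq_mul, map_sub, map_mul, hψX, hψC, map_neg, hMt]
    have h1 : ψ ((1 : Matrix n n K[X]) i j) = C ((1 : Matrix n n (PowerSeries K)) i j) := by
      by_cases hij : i = j
      · subst hij; simp
      · simp [hij]
    rw [h1]
    ring
  have hcoeff : (ψ M.charpolyRev).coeff 1 =
      PowerSeries.derivative K ((M.charpolyRev : K[X]) : PowerSeries K) := by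
    have h1 : ψ M.charpolyRev = Polynomial.taylor t (M.charpolyRev.map (PowerSeries.C)) := by
      rw [Polynomial.taylor_apply]; rfl
    rw [h1, Polynomial.taylor_coeff_one, PowerSeries.derivative_coe, Polynomial.derivative_map,
      Polynomial.eval_map, ht]
    exact Polynomial.eval₂_C_X_eq_coe
  rw [← hcoeff, hψ, coeff_one_det_add_X_smul, hdetA, Matrix.trace_neg, trace_NN]
  ring

end Main

section ODE

open PowerSeries

variable {K : Type*} [Field K] [CharZero K]

/-- uniqueness for the linear ODE `G' = A G`. -/
theorem eq_zero_of_derivative_eq_mul (A D : PowerSeries K)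
    (hD : PowerSeries.derivative K D = A * D) (h0 : constantCoeff D = 0) : D = 0 := by
  ext m
  induction m using Nat.strong_induction_on with
  | _ m ih =>
    rcases m with _ | m
    · simpa using h0
    · have h1 := congrArg (PowerSeries.coeff m) hD
      rw [PowerSeries.coeff_derivative, PowerSeries.coeff_mul] at h1
      rw [Finset.sum_eq_zero] at h1
      · have h2 : ((m : K) + 1) ≠ 0 := by exact_mod_cast Nat.succ_ne_zero m
        rw [map_zero]
        exact (mul_eq_zero.mp h1).resolve_right h2
      · intro x hx
        have hle : x.2 < m + 1 := by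
          have h3 := Finset.HasAntidiagonal.mem_antidiagonal.mp hx
          omega
        rw [ih x.2 hle, map_zero, mul_zero]

theorem eq_of_derivative_eq_mul (A G H : PowerSeries K)
    (hG : PowerSeries.derivative K G = A * G) (hH : PowerSeries.derivative K H = A * H)
    (h0 : constantCoeff G = constantCoeff H) : G = H := by
  have := eq_zero_of_derivative_eq_mul A (G - H) (by rw [map_sub, hG, hH]; ring)
    (by rw [map_sub, h0, sub_self])
  exact sub_eq_zero.mp this

/-- the derivative of `exp ∘ L`. -/
theorem derivative_exp_subst (L : PowerSeries K) (hL : constantCoeff L = 0) :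
    PowerSeries.derivative K ((PowerSeries.exp K).subst L) =
      PowerSeries.derivative K L * (PowerSeries.exp K).subst L := by
  rw [PowerSeries.derivative_subst (HasSubst.of_constantCoeff_zero' hL), PowerSeries.derivative_exp,
    mul_comm]

theorem constantCoeff_exp_subst (L : PowerSeries K) (hL : constantCoeff L = 0) :
    constantCoeff ((PowerSeries.exp K).subst L) = 1 := by
  have h := PowerSeries.constantCoeff_subst (HasSubst.of_constantCoeff_zero' hL) (PowerSeries.exp K)
  have h' : constantCoeff ((PowerSeries.exp K).subst L) =
      finsum fun d => PowerSeries.coeff d (PowerSeries.exp K) • constantCoeff (L ^ d) := h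
  rw [h', finsum_eq_single _ 0]
  · simp
  · intro d hd
    rw [map_pow, hL, zero_pow hd, smul_zero]

end ODE

end Groth.Agent.Lib.Helper20.DetExp
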