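import Mathlib

/-!
# Determinants and characteristic polynomials of maps adjoint up to a scalar (helper20)

`pairing_identity`: if `P : V × W → K` is a perfect pairing and `P (A a) (D b) = d * P a b`, then
`det D * det A = d ^ dim V` and `det A • reverse (charpoly D) = (-1)^dim V * charpoly A (d X)`.
-/

set_option autoImplicit false

namespace Groth.Agent.Lib.Helper20.DualDet

open Polynomial Matrix

section Mat

variable {K : Type*} [Field K] {ι : Type*} [Fintype ι] [DecidableEq ι]

theorem det_mul_det_of_mul_eq_smul (M N : Matrix ι ι K) (d : K) (h : M * N = d • 1) :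
    M.det * N.det = d ^ Fintype.card ι := by
  rw [← det_mul, h, det_smul, det_one, mul_one]

theorem charpoly_identity (M N : Matrix ι ι K) (d : K) (h : M * N = d • 1) :
    M.det • N.charpoly.reverse =
      (-1 : K[X]) ^ Fintype.card ι * M.charpoly.comp (C d * X) := by
  rw [Matrix.reverse_charpoly]
  -- left side
  have h1 : C M.det * N.charpolyRev = det (M.map C - (C d * X) • (1 : Matrix ι ι K[X])) := by
    unfold Matrix.charpolyRev
    have : C M.det = det (M.map C) := by
      rw [← RingHom.mapMatrix_apply, ← RingHom.map_det]
    rw [this, ← det_mul, mul_sub, mul_one, Matrix.mul_smul]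
    congr 2
    have h2 : M.map C * N.map C = (d • (1 : Matrix ι ι K)).map C := by
      rw [← h, Matrix.map_mul]
    rw [h2]
    refine Matrix.ext fun i j => ?_
    rw [Matrix.smul_apply, Matrix.map_apply, Matrix.smul_apply, Matrix.smul_apply, smul_eq_mul,
      smul_eq_mul, smul_eq_mul]
    by_cases hij : i = j
    · subst hij
      rw [Matrix.one_apply_eq, Matrix.one_apply_eq, mul_one, mul_one, mul_comm]
    · rw [Matrix.one_apply_ne hij, Matrix.one_apply_ne hij, mul_zero, mul_zero, map_zero, mul_zero]
  -- right side
  have h3 : M.charpoly.comp (C d * X) = det ((C d * X) • (1 : Matrix ι ι K[X]) - M.map C) := by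
    unfold Matrix.charpoly
    have : (det (charmatrix M)).comp (C d * X) = (compRingHom (C d * X)) (det (charmatrix M)) := rfl
    rw [this, RingHom.map_det]
    congr 1
    refine Matrix.ext fun i j => ?_
    rw [RingHom.mapMatrix_apply, Matrix.map_apply, Matrix.sub_apply, Matrix.smul_apply,
      Matrix.map_apply, smul_eq_mul]
    by_cases hij : i = j
    · subst hij
      rw [charmatrix_apply_eq, Matrix.one_apply_eq, mul_one, map_sub, coe_compRingHom_apply,
        coe_compRingHom_apply, X_comp, C_comp]
    · rw [charmatrix_apply_ne _ _ _ hij, Matrix.one_apply_ne hij, mul_zero, zero_sub, map_neg,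
        coe_compRingHom_apply, C_comp]
  rw [Polynomial.smul_eq_C_mul, h1, h3, ← Matrix.det_neg, neg_sub]

end Mat


section Dual

variable {K : Type*} [Field K] {V : Type*} [AddCommGroup V] [Module K V] [FiniteDimensional K V]

theorem dual_identity (A : V →ₗ[K] V) (D' : Module.Dual K V →ₗ[K] Module.Dual K V) (d : K)
    (h : A.dualMap ∘ₗ D' = d • LinearMap.id) :
    LinearMap.det D' * LinearMap.det A = d ^ Module.finrank K V ∧
    LinearMap.det A • D'.charpoly.reverse =
      (-1 : K[X]) ^ Module.finrank K V * A.charpoly.comp (C d * X) := by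
  classical
  let b := Module.finBasis K V
  let M := (LinearMap.toMatrix b b A)ᵀ
  let N := LinearMap.toMatrix b.dualBasis b.dualBasis D'
  have hM : M = LinearMap.toMatrix b.dualBasis b.dualBasis A.dualMap := by
    rw [LinearMap.dualMap_def, LinearMap.toMatrix_transpose]
  have hMN : M * N = d • 1 := by
    rw [hM, ← LinearMap.toMatrix_comp, h, map_smul, LinearMap.toMatrix_id]
  have hdM : M.det = LinearMap.det A := by
    rw [Matrix.det_transpose, LinearMap.det_toMatrix]
  have hdN : N.det = LinearMap.det D' := LinearMap.det_toMatrix _ _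
  have hcM : M.charpoly = A.charpoly := by
    rw [Matrix.charpoly_transpose, LinearMap.charpoly_toMatrix]
  have hcN : N.charpoly = D'.charpoly := LinearMap.charpoly_toMatrix _ _
  have hcard : Fintype.card (Fin (Module.finrank K V)) = Module.finrank K V := Fintype.card_fin _
  constructor
  · have := det_mul_det_of_mul_eq_smul M N d hMN
    rw [hdM, hdN, hcard, mul_comm] at this
    exact this
  · have := charpoly_identity M N d hMN
    rw [hdM, hcM, hcN, hcard] at this
    exact this

end Dual


section Pairing

variable {K : Type*} [Field K] {V W : Type*} [AddCommGroup V] [Module K V] [FiniteDimensional K V]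
  [AddCommGroup W] [Module K W] [FiniteDimensional K W]

theorem pairing_identity (P : V →ₗ[K] W →ₗ[K] K) [hP : P.IsPerfPair] (A : V →ₗ[K] V)
    (D : W →ₗ[K] W) (d : K) (h : ∀ a b, P (A a) (D b) = d * P a b) :
    LinearMap.det D * LinearMap.det A = d ^ Module.finrank K V ∧
    LinearMap.det A • D.charpoly.reverse =
      (-1 : K[X]) ^ Module.finrank K V * A.charpoly.comp (C d * X) := by
  let e : W ≃ₗ[K] Module.Dual K V :=
    LinearEquiv.ofBijective P.flip (LinearMap.IsPerfPair.bijective_right P)
  have he : ∀ (w : W) (v : V), e w v = P v w := fun w v => rfl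
  have h' : A.dualMap ∘ₗ (e.conj D) = d • LinearMap.id := by
    refine LinearMap.ext fun φ => LinearMap.ext fun a => ?_
    rw [LinearMap.comp_apply, LinearMap.dualMap_apply, LinearEquiv.conj_apply,
      LinearMap.comp_apply, LinearMap.comp_apply, LinearEquiv.coe_coe, LinearEquiv.coe_coe, he, h,
      ← he, LinearEquiv.apply_symm_apply, LinearMap.smul_apply, LinearMap.smul_apply,
      LinearMap.id_apply, smul_eq_mul]
  have := dual_identity A (e.conj D) d h'
  rw [LinearEquiv.charpoly_conj] at this
  have hdet : LinearMap.det (e.conj D) = LinearMap.det D := by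
    rw [LinearEquiv.conj_apply]
    exact LinearMap.det_conj D e
  rw [hdet] at this
  exact this

end Pairing



theorem even_finrank_of_alternating {K : Type*} [Field K] [CharZero K] {V : Type*} [AddCommGroup V]
    [Module K V] [FiniteDimensional K V] (P : V →ₗ[K] V →ₗ[K] K) [hP : P.IsPerfPair]
    (halt : ∀ a b, P a b = - P b a) : Even (Module.finrank K V) := by
  classical
  let b := Module.finBasis K V
  let e : V ≃ₗ[K] Module.Dual K V := P.toPerfPair
  let M := LinearMap.toMatrix b b.dualBasis e.toLinearMap
  have hM : ∀ i j, M i j = P (b j) (b i) := by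
    intro i j
    change LinearMap.toMatrix b b.dualBasis e.toLinearMap i j = _
    rw [LinearMap.toMatrix_apply, Module.Basis.dualBasis_repr]
    rfl
  have hu : IsUnit M.det := LinearEquiv.isUnit_det e b b.dualBasis
  have hT : M.transpose = -M := by
    ext i j
    rw [Matrix.transpose_apply, Matrix.neg_apply, hM, hM, halt]
  have hdet : M.det = (-1) ^ Module.finrank K V * M.det := by
    conv_lhs => rw [← Matrix.det_transpose, hT, Matrix.det_neg, Fintype.card_fin]
  by_contra hodd
  rw [Nat.not_even_iff_odd] at hodd
  rw [hodd.neg_one_pow, neg_one_mul] at hdet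
  have h0 : M.det = 0 := by
    have : (2 : K) * M.det = 0 := by linear_combination hdet
    rcases mul_eq_zero.mp this with h | h
    · exact absurd h two_ne_zero
    · exact h
  exact hu.ne_zero h0


end Groth.Agent.Lib.Helper20.DualDet
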