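import Mathlib

/-!
Coheight-one primes in a Noetherian local ring: every prime different from the maximal ideal is the
intersection of the coheight-one primes containing it.
-/

namespace Groth.Agent.Lib.Helper20.DvrCover

universe u

open IsLocalRing

section domain

variable {D : Type u} [CommRing D] [IsDomain D] [IsNoetherianRing D] [IsLocalRing D]

/-- In a Noetherian local domain having a prime strictly between `⊥` and the maximal ideal, every
nonzero element is avoided by some prime which is neither `⊥` nor the maximal ideal. -/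
theorem exists_prime_notMem (r : Ideal D) [hr : r.IsPrime] (hr0 : r ≠ ⊥)
    (hrm : r ≠ maximalIdeal D) (x : D) (hx : x ≠ 0) :
    ∃ q : Ideal D, q.IsPrime ∧ q ≠ ⊥ ∧ q ≠ maximalIdeal D ∧ x ∉ q := by
  classical
  have hrlt : r < maximalIdeal D := lt_of_le_of_ne (le_maximalIdeal hr.ne_top) hrm
  have h0r : (⊥ : Ideal D) < r := bot_lt_iff_ne_bot.2 hr0
  -- height of the maximal ideal is at least 2
  have hm2 : ∀ p : Ideal D, p.IsPrime → p.height ≤ 1 → p ≠ maximalIdeal D := by
    intro p hp hp1 hpm
    subst hpm
    have h1 : (⊥ : Ideal D).height < r.height :=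
      Ideal.height_strict_mono_of_isPrime_of_isPrime h0r
    have h2 : r.height < (maximalIdeal D).height :=
      Ideal.height_strict_mono_of_isPrime_of_isPrime hrlt
    have h3 : (1 : ℕ∞) ≤ r.height := Order.one_le_iff_pos.2 (pos_of_gt h1)
    have h4 : (1 : ℕ∞) < (maximalIdeal D).height := lt_of_le_of_lt h3 h2
    exact absurd hp1 (not_le.2 h4)
  -- the minimal primes over (x), together with ⊥
  have hfin : (Ideal.span {x}).minimalPrimes.Finite :=
    Ideal.finite_minimalPrimes_of_isNoetherianRing D _
  let s : Finset (Ideal D) := insert ⊥ hfin.toFinset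
  have hsprime : ∀ p ∈ s, p.IsPrime := by
    intro p hp
    rcases Finset.mem_insert.1 hp with rfl | hp
    · exact Ideal.isPrime_bot
    · exact ((Set.Finite.mem_toFinset hfin).1 hp).1.1
  have hnot : ¬ ((maximalIdeal D : Set D) ⊆ ⋃ p ∈ (s : Set (Ideal D)), (p : Set D)) := by
    intro hsub
    rw [Ideal.subset_union_prime (f := fun p : Ideal D => p) ⊥ ⊥
      (fun p hp _ _ => hsprime p hp)] at hsub
    obtain ⟨p, hp, hle⟩ := hsub
    have hpp := hsprime p hp
    have hpm : p = maximalIdeal D :=
      le_antisymm (le_maximalIdeal hpp.ne_top) hle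
    rcases Finset.mem_insert.1 hp with h | h
    · rw [h] at hpm
      exact (ne_of_lt (lt_trans h0r hrlt)) hpm
    · have hmin := (Set.Finite.mem_toFinset hfin).1 h
      exact hm2 p hpp (Ideal.height_le_one_of_isPrincipal_of_mem_minimalPrimes _ p hmin) hpm
  obtain ⟨y, hym, hy⟩ := Set.not_subset.1 hnot
  have hy' : ∀ p ∈ s, y ∉ p := by
    intro p hp hyp
    exact hy (Set.mem_biUnion (Finset.mem_coe.2 hp) hyp)
  have hy0 : y ≠ 0 := by
    intro h
    exact hy' ⊥ (Finset.mem_insert_self _ _) (by rw [h]; exact Ideal.zero_mem _)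
  -- a minimal prime over (y)
  have hyne : Ideal.span {y} ≤ maximalIdeal D := by
    rw [Ideal.span_le, Set.singleton_subset_iff]
    exact hym
  obtain ⟨q, hqmin, _⟩ := Ideal.exists_minimalPrimes_le hyne
  have hq : q.IsPrime := hqmin.1.1
  have hyq : y ∈ q := hqmin.1.2 (Ideal.subset_span rfl)
  have hq1 : q.height ≤ 1 := Ideal.height_le_one_of_isPrincipal_of_mem_minimalPrimes _ q hqmin
  refine ⟨q, hq, ?_, hm2 q hq hq1, ?_⟩
  · intro h
    rw [h, Ideal.mem_bot] at hyq
    exact hy0 hyq
  · intro hxq
    have hle : Ideal.span {x} ≤ q := by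
      rw [Ideal.span_le, Set.singleton_subset_iff]
      exact hxq
    obtain ⟨p, hpmin, hpq⟩ := Ideal.exists_minimalPrimes_le hle
    have hp : p.IsPrime := hpmin.1.1
    have hps : p ∈ s := Finset.mem_insert_of_mem ((Set.Finite.mem_toFinset hfin).2 hpmin)
    have hp0 : (⊥ : Ideal D) < p := by
      rw [bot_lt_iff_ne_bot]
      intro h
      have : x ∈ p := hpmin.1.2 (Ideal.subset_span rfl)
      rw [h, Ideal.mem_bot] at this
      exact hx this
    have hne : p ≠ q := by
      intro h
      exact hy' p hps (h ▸ hyq)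
    have hlt : p < q := lt_of_le_of_ne hpq hne
    have h1 : (⊥ : Ideal D).height < p.height :=
      Ideal.height_strict_mono_of_isPrime_of_isPrime hp0
    have h2 : p.height < q.height := Ideal.height_strict_mono_of_isPrime_of_isPrime hlt
    have h3 : (1 : ℕ∞) ≤ p.height := Order.one_le_iff_pos.2 (pos_of_gt h1)
    exact absurd hq1 (not_le.2 (lt_of_le_of_lt h3 h2))

end domain

section general

variable {A : Type u} [CommRing A] [IsNoetherianRing A] [IsLocalRing A]

/-- coheight-one primes of a local ring -/
def CoOne (q : Ideal A) : Prop :=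
  q.IsPrime ∧ q ≠ maximalIdeal A ∧ ∀ r : Ideal A, r.IsPrime → q < r → r = maximalIdeal A

theorem exists_coOne_notMem (P : Ideal A) (hP : P.IsPrime) (hPm : P ≠ maximalIdeal A) (x : A)
    (hx : x ∉ P) : ∃ q : Ideal A, CoOne q ∧ P ≤ q ∧ x ∉ q := by
  induction P using IsNoetherian.induction with
  | hgt P ih =>
    by_cases hco : CoOne P
    · exact ⟨P, hco, le_rfl, hx⟩
    · -- there is a prime strictly between
      have hex : ∃ r : Ideal A, r.IsPrime ∧ P < r ∧ r ≠ maximalIdeal A := by
        by_contra hcon
        push Not at hcon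
        exact hco ⟨hP, hPm, fun r hr hlt => hcon r hr hlt⟩
      obtain ⟨r, hr, hPr, hrm⟩ := hex
      -- work in the quotient
      have hnt : Nontrivial (A ⧸ P) := Ideal.Quotient.nontrivial_iff.2 hP.ne_top
      have hloc : IsLocalRing (A ⧸ P) :=
        IsLocalRing.of_surjective' (Ideal.Quotient.mk P) Ideal.Quotient.mk_surjective
      have hdom : IsDomain (A ⧸ P) := Ideal.Quotient.isDomain P
      have hlh : IsLocalHom (Ideal.Quotient.mk P) :=
        IsLocalHom.of_surjective _ Ideal.Quotient.mk_surjective
      have hcm : ∀ J : Ideal A, P ≤ J →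
          (J.map (Ideal.Quotient.mk P)).comap (Ideal.Quotient.mk P) = J := by
        intro J hJ
        rw [Ideal.comap_map_of_surjective _ Ideal.Quotient.mk_surjective,
          ← RingHom.ker_eq_comap_bot, Ideal.mk_ker, sup_eq_left.2 hJ]
      have hmc : (maximalIdeal (A ⧸ P)).comap (Ideal.Quotient.mk P) = maximalIdeal A :=
        IsLocalRing.maximalIdeal_comap (Ideal.Quotient.mk P)
      have hr' : (r.map (Ideal.Quotient.mk P)).IsPrime :=
        Ideal.map_isPrime_of_surjective Ideal.Quotient.mk_surjective
          (by rw [Ideal.mk_ker]; exact hPr.le)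
      have hr0 : r.map (Ideal.Quotient.mk P) ≠ ⊥ := by
        intro h
        have h1 := hcm r hPr.le
        rw [h, ← RingHom.ker_eq_comap_bot, Ideal.mk_ker] at h1
        exact hPr.ne h1
      have hrm' : r.map (Ideal.Quotient.mk P) ≠ maximalIdeal (A ⧸ P) := by
        intro h
        have h1 := hcm r hPr.le
        rw [h, hmc] at h1
        exact hrm h1.symm
      have hx0 : Ideal.Quotient.mk P x ≠ 0 := by
        rw [Ne, Ideal.Quotient.eq_zero_iff_mem]
        exact hx
      obtain ⟨qb, hqb, hqb0, hqbm, hxqb⟩ :=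
        exists_prime_notMem (r.map (Ideal.Quotient.mk P)) hr0 hrm' _ hx0
      -- pull back
      have hq₁ : (qb.comap (Ideal.Quotient.mk P)).IsPrime := Ideal.comap_isPrime _ _
      have hPq₁ : P < qb.comap (Ideal.Quotient.mk P) := by
        refine lt_of_le_of_ne ?_ ?_
        · intro a ha
          rw [Ideal.mem_comap, Ideal.Quotient.eq_zero_iff_mem.2 ha]
          exact Ideal.zero_mem _
        · intro h
          apply hqb0
          have := Ideal.map_comap_of_surjective _ Ideal.Quotient.mk_surjective qb
          rw [← this, ← h, Ideal.map_quotient_self]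
      have hq₁m : qb.comap (Ideal.Quotient.mk P) ≠ maximalIdeal A := by
        intro h
        apply hqbm
        rw [← hmc] at h
        exact Ideal.comap_injective_of_surjective _ Ideal.Quotient.mk_surjective h
      have hxq₁ : x ∉ qb.comap (Ideal.Quotient.mk P) := hxqb
      obtain ⟨q, hq, hle, hxq⟩ := ih _ hPq₁ hq₁ hq₁m hxq₁
      exact ⟨q, hq, hPq₁.le.trans hle, hxq⟩

/-- In a reduced Noetherian local ring which is not a field, the coheight-one primes intersect in
zero. -/
theorem sInf_coOne_eq_bot [IsReduced A] (hA : ¬ IsField A) :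
    sInf {q : Ideal A | CoOne q} = ⊥ := by
  rw [eq_bot_iff]
  intro x hx
  rw [Ideal.mem_bot]
  by_contra hx0
  -- a prime different from the maximal ideal
  have hex : ∃ P : Ideal A, P.IsPrime ∧ P ≠ maximalIdeal A := by
    by_contra hcon
    push Not at hcon
    apply hA
    have h1 : nilradical A = maximalIdeal A := by
      rw [nilradical_eq_sInf]
      apply le_antisymm
      · exact sInf_le (Ideal.IsMaximal.isPrime' _)
      · refine le_sInf fun J hJ => ?_
        rw [hcon J hJ]
    rw [nilradical_eq_zero] at h1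
    exact IsLocalRing.isField_iff_maximalIdeal_eq.2 h1.symm
  have hex2 : ∃ P : Ideal A, P.IsPrime ∧ P ≠ maximalIdeal A ∧ x ∉ P := by
    have hnil : x ∉ nilradical A := by
      rw [nilradical_eq_zero, Ideal.zero_eq_bot, Ideal.mem_bot]
      exact hx0
    rw [nilradical_eq_sInf, Ideal.mem_sInf] at hnil
    push Not at hnil
    obtain ⟨P, hP, hxP⟩ := hnil
    by_cases hPm : P = maximalIdeal A
    · obtain ⟨P', hP', hP'm⟩ := hex
      refine ⟨P', hP', hP'm, fun hxP' => hxP ?_⟩
      rw [hPm]
      exact le_maximalIdeal hP'.ne_top hxP'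
    · exact ⟨P, hP, hPm, hxP⟩
  obtain ⟨P, hP, hPm, hxP⟩ := hex2
  obtain ⟨q, hq, -, hxq⟩ := exists_coOne_notMem P hP hPm x hxP
  exact hxq (Ideal.mem_sInf.1 hx hq)

end general

end Groth.Agent.Lib.Helper20.DvrCover
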