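import Mathlib
import Groth.Agent.Lib.Helper28.Chevalley

/-!
Chevalley's lemma for families: in a complete Noetherian local ring, a family of ideals with zero
intersection has a finite subfamily whose intersection lies in a given power of the maximal ideal.
-/

namespace Groth.Agent.Lib.Helper20.DvrCover

universe u

open IsLocalRing Groth.Agent.Lib.Helper28.Chevalley

variable {A : Type u} [CommRing A] [IsNoetherianRing A] [IsLocalRing A]

theorem exists_finset_minimal (Q : Set (Ideal A)) (k : ℕ) :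
    ∃ S : Finset (Ideal A), (S : Set (Ideal A)) ⊆ Q ∧
      ∀ T : Finset (Ideal A), (T : Set (Ideal A)) ⊆ Q → S ⊆ T →
        S.inf id ≤ T.inf id ⊔ maximalIdeal A ^ k := by
  classical
  have := isArtinianRing_quotient_pow (R := A) k
  let F : Set (Ideal (A ⧸ maximalIdeal A ^ k)) :=
    {J | ∃ S : Finset (Ideal A), (S : Set (Ideal A)) ⊆ Q ∧
      J = (S.inf id).map (Ideal.Quotient.mk (maximalIdeal A ^ k))}
  have hne : F.Nonempty := ⟨_, ∅, by simp, rfl⟩
  obtain ⟨J, ⟨S, hSQ, rfl⟩, hmin⟩ := IsArtinian.set_has_minimal F hne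
  refine ⟨S, hSQ, fun T hTQ hST => ?_⟩
  have hle : T.inf id ≤ S.inf id := Finset.inf_mono hST
  have h1 : ¬ (T.inf id).map (Ideal.Quotient.mk (maximalIdeal A ^ k)) <
      (S.inf id).map (Ideal.Quotient.mk (maximalIdeal A ^ k)) := hmin _ ⟨T, hTQ, rfl⟩
  have h2 : (T.inf id).map (Ideal.Quotient.mk (maximalIdeal A ^ k)) =
      (S.inf id).map (Ideal.Quotient.mk (maximalIdeal A ^ k)) :=
    eq_of_le_of_not_lt (Ideal.map_mono hle) h1
  calc S.inf id ≤ ((S.inf id).map (Ideal.Quotient.mk (maximalIdeal A ^ k))).comap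
        (Ideal.Quotient.mk (maximalIdeal A ^ k)) := Ideal.le_comap_map
    _ = ((T.inf id).map (Ideal.Quotient.mk (maximalIdeal A ^ k))).comap
        (Ideal.Quotient.mk (maximalIdeal A ^ k)) := by rw [h2]
    _ = T.inf id ⊔ maximalIdeal A ^ k := by
      rw [Ideal.comap_map_of_surjective _ Ideal.Quotient.mk_surjective,
        ← RingHom.ker_eq_comap_bot, Ideal.mk_ker]

theorem exists_finset_inf_le_pow [IsAdicComplete (maximalIdeal A) A] (Q : Set (Ideal A))
    (hQ : sInf Q = ⊥) (n : ℕ) :
    ∃ S : Finset (Ideal A), (S : Set (Ideal A)) ⊆ Q ∧ S.inf id ≤ maximalIdeal A ^ n := by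
  classical
  choose S hSQ hSmin using fun k => exists_finset_minimal Q k
  let T : ℕ → Finset (Ideal A) := fun k => (Finset.range (k + 1)).biUnion S
  have hTQ : ∀ k, (T k : Set (Ideal A)) ⊆ Q := by
    intro k q hq
    rw [Finset.mem_coe, Finset.mem_biUnion] at hq
    obtain ⟨j, _, hj⟩ := hq
    exact hSQ j hj
  have hST : ∀ k, S k ⊆ T k := fun k =>
    Finset.subset_biUnion_of_mem S (Finset.mem_range.2 (Nat.lt_succ_self k))
  have hTmono : ∀ a b, a ≤ b → T a ⊆ T b := by
    intro a b hab
    exact Finset.biUnion_subset_biUnion_of_subset_left S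
      (Finset.range_subset_range.2 (Nat.succ_le_succ hab))
  let I : ℕ → Ideal A := fun k => (T k).inf id
  have hI : Antitone I := fun a b hab => Finset.inf_mono (hTmono a b hab)
  have hinf : ⨅ k, I k = ⊥ := by
    rw [eq_bot_iff, ← hQ]
    refine le_sInf fun q hq => ?_
    have h1 : ∀ k, I k ≤ q ⊔ maximalIdeal A ^ k := by
      intro k
      have hT' : ((insert q (T k) : Finset (Ideal A)) : Set (Ideal A)) ⊆ Q := by
        intro p hp
        rw [Finset.mem_coe, Finset.mem_insert] at hp
        rcases hp with rfl | hp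
        · exact hq
        · exact hTQ k hp
      have h2 := hSmin k (insert q (T k)) hT' ((hST k).trans (Finset.subset_insert _ _))
      have h3 : (insert q (T k)).inf id ≤ q := Finset.inf_le (f := id) (Finset.mem_insert_self _ _)
      calc I k ≤ (S k).inf id := Finset.inf_mono (hST k)
        _ ≤ (insert q (T k)).inf id ⊔ maximalIdeal A ^ k := h2
        _ ≤ q ⊔ maximalIdeal A ^ k := sup_le_sup_right h3 _
    calc ⨅ k, I k ≤ ⨅ k, (q ⊔ maximalIdeal A ^ k) := iInf_mono h1
      _ = q := iInf_sup_pow_eq q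
  obtain ⟨k, hk⟩ := chevalley I hI hinf n
  exact ⟨T k, hTQ k, hk⟩

end Groth.Agent.Lib.Helper20.DvrCover
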