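import Mathlib
import Groth.Prelude.Def_Found
import Groth.Agent.Lib.Helper20.DvrCoverA
import Groth.Agent.Lib.Helper20.DvrCoverB
import Groth.Agent.Lib.Helper18.Nag5
import Groth.Agent.Lib.Helper12.HensInt

/-!
For a coheight-one prime `q` of a complete Noetherian local ring `A`, the normalization of `A ⧸ q`
is a discrete valuation ring, finite over `A`.  Consequence: finite intersections of kernels of
finite local maps to DVRs are cofinal in the `m`-adic topology of a reduced complete local ring.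
-/

namespace Groth.Agent.Lib.Helper20.DvrCover

universe u

open IsLocalRing

variable {A : Type u} [CommRing A] [IsNoetherianRing A] [IsLocalRing A]
  [IsAdicComplete (maximalIdeal A) A]

set_option maxHeartbeats 400000 in
theorem exists_dvr_of_coOne (q : Ideal A) (hq : CoOne q) :
    ∃ (V : Type u) (_ : CommRing V) (_ : IsDomain V) (_ : IsDiscreteValuationRing V)
      (φ : A →+* V), IsLocalHom φ ∧ φ.Finite ∧ RingHom.ker φ = q := by
  obtain ⟨hqp, hqm, hqco⟩ := hq
  have hnt : Nontrivial (A ⧸ q) := Ideal.Quotient.nontrivial_iff.2 hqp.ne_top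
  have hloc : IsLocalRing (A ⧸ q) :=
    IsLocalRing.of_surjective' (Ideal.Quotient.mk q) Ideal.Quotient.mk_surjective
  have hdom : IsDomain (A ⧸ q) := Ideal.Quotient.isDomain q
  have hlh : IsLocalHom (Ideal.Quotient.mk q) :=
    IsLocalHom.of_surjective _ Ideal.Quotient.mk_surjective
  have hcpl : IsAdicComplete (maximalIdeal (A ⧸ q)) (A ⧸ q) :=
    Groth.Agent.Lib.Helper9.SemiLocalProd.isAdicComplete_maximalIdeal_of_finite A (A ⧸ q)
  have hhens : HenselianLocalRing (A ⧸ q) :=
    Groth.Agent.Lib.Helper12.HensInt.henselianLocalRing_of_henselianRing_maximalIdeal (A ⧸ q)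
  have hmc : (maximalIdeal (A ⧸ q)).comap (Ideal.Quotient.mk q) = maximalIdeal A :=
    IsLocalRing.maximalIdeal_comap (Ideal.Quotient.mk q)
  -- dimension at most one
  have hdim1 : Ring.DimensionLEOne (A ⧸ q) := by
    refine ⟨fun {p} hp0 hp => ?_⟩
    have hp' : (p.comap (Ideal.Quotient.mk q)).IsPrime := Ideal.comap_isPrime _ _
    have hlt : q < p.comap (Ideal.Quotient.mk q) := by
      refine lt_of_le_of_ne ?_ ?_
      · intro a ha
        rw [Ideal.mem_comap, Ideal.Quotient.eq_zero_iff_mem.2 ha]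
        exact Ideal.zero_mem _
      · intro h
        apply hp0
        have := Ideal.map_comap_of_surjective _ Ideal.Quotient.mk_surjective p
        rw [← this, ← h, Ideal.map_quotient_self]
    have h1 := hqco _ hp' hlt
    rw [← hmc] at h1
    have h2 : p = maximalIdeal (A ⧸ q) :=
      Ideal.comap_injective_of_surjective _ Ideal.Quotient.mk_surjective h1
    rw [h2]
    exact maximalIdeal.isMaximal _
  have hnf : ¬ IsField (A ⧸ q) := by
    intro hf
    have hmax : q.IsMaximal := Ideal.Quotient.maximal_of_isField q hf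
    exact hqm (IsLocalRing.eq_maximalIdeal hmax)
  -- the normalization
  let K := FractionRing (A ⧸ q)
  let B : Subalgebra (A ⧸ q) K := integralClosure (A ⧸ q) K
  have hN2 : CAlg.IsN2 (A ⧸ q) := Groth.Agent.Lib.Helper18.Nag.isN2_of_isAdicComplete_of_isDomain _
  have hfin : Module.Finite (A ⧸ q) B := hN2 K inferInstance
  have hint : Algebra.IsIntegral (A ⧸ q) B := inferInstance
  have hBloc : IsLocalRing B :=
    Groth.Agent.Lib.Helper12.HensInt.isLocalRing_of_isDomain_of_isIntegral (A ⧸ q) B
  have hBnoeth : IsNoetherianRing B := IsNoetherianRing.of_finite (A ⧸ q) B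
  have hBic : IsIntegrallyClosed B :=
    integralClosure.isIntegrallyClosedOfFiniteExtension (R := A ⧸ q) K (L := K)
  have hBdim : Ring.DimensionLEOne B := inferInstance
  have hBded : IsDedekindDomain B := { }
  have hinj : Function.Injective (algebraMap (A ⧸ q) B) :=
    FaithfulSMul.algebraMap_injective (A ⧸ q) B
  have hBnf : ¬ IsField B := by
    intro hf
    exact hnf (isField_of_isIntegral_of_isField hinj hf)
  have hdvr : IsDiscreteValuationRing B := ((IsDiscreteValuationRing.TFAE B hBnf).out 0 2).2 hBded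
  have hlhB : IsLocalHom (algebraMap (A ⧸ q) B) := inferInstance
  refine ⟨B, inferInstance, inferInstance, hdvr,
    (algebraMap (A ⧸ q) B).comp (Ideal.Quotient.mk q), ?_, ?_, ?_⟩
  · exact RingHom.isLocalHom_comp _ _
  · exact RingHom.Finite.comp (RingHom.finite_algebraMap.2 hfin)
      (RingHom.Finite.of_surjective _ Ideal.Quotient.mk_surjective)
  · ext a
    rw [RingHom.mem_ker, RingHom.comp_apply, map_eq_zero_iff _ hinj,
      Ideal.Quotient.eq_zero_iff_mem]

theorem exists_dvr_family [IsReduced A] (hA : ¬ IsField A) (n : ℕ) :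
    ∃ (k : ℕ) (V : Fin k → Type u) (_ : ∀ i, CommRing (V i)) (_ : ∀ i, IsDomain (V i))
      (_ : ∀ i, IsDiscreteValuationRing (V i)) (φ : ∀ i, A →+* V i),
      (∀ i, IsLocalHom (φ i) ∧ (φ i).Finite) ∧
        ⨅ i, RingHom.ker (φ i) ≤ maximalIdeal A ^ n := by
  classical
  obtain ⟨S, hSQ, hS⟩ := exists_finset_inf_le_pow {q : Ideal A | CoOne q}
    (sInf_coOne_eq_bot hA) n
  let e : S ≃ Fin S.card := S.equivFin
  have key : ∀ i : Fin S.card, ∃ (V : Type u) (_ : CommRing V) (_ : IsDomain V)
      (_ : IsDiscreteValuationRing V) (φ : A →+* V), IsLocalHom φ ∧ φ.Finite ∧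
        RingHom.ker φ = ((e.symm i : S) : Ideal A) :=
    fun i => exists_dvr_of_coOne _ (hSQ (e.symm i).2)
  choose V i1 i2 i3 φ hφ using key
  refine ⟨S.card, V, i1, i2, i3, φ, fun i => ⟨(hφ i).1, (hφ i).2.1⟩, ?_⟩
  refine le_trans ?_ hS
  rw [Finset.le_inf_iff]
  intro q hq
  have h1 : ⨅ i, RingHom.ker (φ i) ≤ RingHom.ker (φ (e ⟨q, hq⟩)) := iInf_le _ _
  rw [(hφ (e ⟨q, hq⟩)).2.2, e.symm_apply_apply] at h1
  exact h1

end Groth.Agent.Lib.Helper20.DvrCover
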