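import Mathlib

set_option autoImplicit false
set_option linter.unusedSectionVars false
open Polynomial

namespace Groth.Agent.Lib.Helper20.DvrExt

universe v

variable {R : Type v} [CommRing R] [IsDomain R] [IsDiscreteValuationRing R]

/-- the Eisenstein polynomial `X^N - π`. -/
noncomputable abbrev eis (π : R) (N : ℕ) : R[X] := X ^ N - C π

variable {π : R} {N : ℕ}

theorem eis_monic (hN : N ≠ 0) : (eis π N).Monic := monic_X_pow_sub_C π hN

theorem eis_natDegree : (eis π N).natDegree = N := natDegree_X_pow_sub_C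

theorem eis_irreducible (hπ : Irreducible π) (hN : N ≠ 0) : Irreducible (eis π N) := by
  have hP : (IsLocalRing.maximalIdeal R).IsPrime :=
    (IsLocalRing.maximalIdeal.isMaximal R).isPrime
  have hmax : IsLocalRing.maximalIdeal R = Ideal.span {π} := hπ.maximalIdeal_eq
  have hmon := eis_monic (π := π) hN
  refine irreducible_of_eisenstein_criterion hP ?_ ?_ ?_ ?_ hmon.isPrimitive
  · rw [hmon.leadingCoeff]
    exact fun h => (IsLocalRing.maximalIdeal.isMaximal R).ne_top ((Ideal.eq_top_iff_one _).mpr h)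
  · intro n hn
    rw [degree_eq_natDegree hmon.ne_zero, eis_natDegree] at hn
    have hn' : n < N := by exact_mod_cast hn
    rw [coeff_sub, coeff_X_pow, coeff_C, if_neg (by omega)]
    split_ifs
    · rw [zero_sub, hmax]
      exact (Ideal.neg_mem_iff _).mpr (Ideal.mem_span_singleton_self π)
    · simp
  · rw [degree_eq_natDegree hmon.ne_zero, eis_natDegree]
    exact_mod_cast Nat.pos_of_ne_zero hN
  · rw [coeff_sub, coeff_X_pow, coeff_C, if_neg (by omega : ¬ 0 = N), if_pos rfl, zero_sub, hmax,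
      Ideal.span_singleton_pow, Ideal.neg_mem_iff, Ideal.mem_span_singleton]
    rintro ⟨c, hc⟩
    have h1 : π * (1 - π * c) = 0 := by
      rw [mul_sub, mul_one, ← mul_assoc, ← sq, ← hc, sub_self]
    rcases mul_eq_zero.mp h1 with h | h
    · exact hπ.ne_zero h
    · exact hπ.not_isUnit (IsUnit.of_mul_eq_one c (by linear_combination -h))

theorem eis_prime (hπ : Irreducible π) (hN : N ≠ 0) : Prime (eis π N) :=
  UniqueFactorizationMonoid.irreducible_iff_prime.mp (eis_irreducible hπ hN)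

theorem isDomain (hπ : Irreducible π) (hN : N ≠ 0) : IsDomain (AdjoinRoot (eis π N)) :=
  AdjoinRoot.isDomain_of_prime (eis_prime hπ hN)

theorem root_pow :
    (AdjoinRoot.root (eis π N)) ^ N = AdjoinRoot.of (eis π N) π := by
  have h : AdjoinRoot.mk (eis π N) (X ^ N - C π) = 0 := AdjoinRoot.mk_self
  rw [map_sub, map_pow, AdjoinRoot.mk_X, AdjoinRoot.mk_C, sub_eq_zero] at h
  exact h

theorem of_injective (hN : N ≠ 0) : Function.Injective (AdjoinRoot.of (eis π N)) := by
  apply AdjoinRoot.of.injective_of_degree_ne_zero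
  rw [degree_eq_natDegree (eis_monic hN).ne_zero, eis_natDegree]
  exact_mod_cast hN

theorem root_ne_zero (hπ : Irreducible π) (hN : N ≠ 0) : AdjoinRoot.root (eis π N) ≠ 0 := by
  intro h
  have h1 := root_pow (π := π) (N := N)
  rw [h, zero_pow hN] at h1
  have h2 : AdjoinRoot.of (eis π N) π = AdjoinRoot.of (eis π N) 0 := by rw [← h1, map_zero]
  exact hπ.ne_zero (of_injective hN h2)

theorem root_mem_of_isMaximal (hπ : Irreducible π) (hN : N ≠ 0)
    (𝔫 : Ideal (AdjoinRoot (eis π N))) [h𝔫 : 𝔫.IsMaximal] :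
    AdjoinRoot.root (eis π N) ∈ 𝔫 := by
  have hfin : Module.Finite R (AdjoinRoot (eis π N)) := (eis_monic hN).finite_adjoinRoot
  have hint : Algebra.IsIntegral R (AdjoinRoot (eis π N)) := Algebra.IsIntegral.of_finite R _
  have hc := Ideal.isMaximal_comap_of_isIntegral_of_isMaximal (R := R) 𝔫
  have hc' := IsLocalRing.eq_maximalIdeal hc
  have hπ𝔫 : algebraMap R (AdjoinRoot (eis π N)) π ∈ 𝔫 := by
    have h1 : π ∈ Ideal.comap (algebraMap R (AdjoinRoot (eis π N))) 𝔫 := by
      rw [hc', hπ.maximalIdeal_eq]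
      exact Ideal.mem_span_singleton_self π
    exact h1
  rw [AdjoinRoot.algebraMap_eq, ← root_pow] at hπ𝔫
  exact h𝔫.isPrime.mem_of_pow_mem N hπ𝔫

theorem isUnit_root_mul_add_one (hπ : Irreducible π) (hN : N ≠ 0) (w : AdjoinRoot (eis π N)) :
    IsUnit (AdjoinRoot.root (eis π N) * w + 1) := by
  have hj : AdjoinRoot.root (eis π N) ∈ (⊥ : Ideal (AdjoinRoot (eis π N))).jacobson := by
    rw [Ideal.jacobson, Ideal.mem_sInf]
    rintro J ⟨-, hJ⟩
    exact root_mem_of_isMaximal hπ hN J
  exact Ideal.mem_jacobson_bot.mp hj w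

theorem root_not_isUnit (hπ : Irreducible π) (hN : N ≠ 0) :
    ¬ IsUnit (AdjoinRoot.root (eis π N)) := by
  have hd := isDomain hπ hN
  obtain ⟨𝔫, h𝔫⟩ := Ideal.exists_maximal (AdjoinRoot (eis π N))
  intro hu
  exact h𝔫.ne_top (Ideal.eq_top_of_isUnit_mem _ (root_mem_of_isMaximal hπ hN 𝔫) hu)

theorem mem_span_or_isUnit (hπ : Irreducible π) (hN : N ≠ 0) (y : AdjoinRoot (eis π N)) :
    y ∈ Ideal.span {AdjoinRoot.root (eis π N)} ∨ IsUnit y := by
  obtain ⟨p, rfl⟩ := AdjoinRoot.mk_surjective y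
  have hp := X_mul_divX_add p
  have hy : AdjoinRoot.mk (eis π N) p
      = AdjoinRoot.root (eis π N) * AdjoinRoot.mk (eis π N) p.divX
        + AdjoinRoot.of (eis π N) (p.coeff 0) := by
    conv_lhs => rw [← hp]
    rw [map_add, map_mul, AdjoinRoot.mk_X, AdjoinRoot.mk_C]
  by_cases h0 : p.coeff 0 ∈ IsLocalRing.maximalIdeal R
  · left
    rw [hπ.maximalIdeal_eq, Ideal.mem_span_singleton'] at h0
    obtain ⟨s, hs⟩ := h0
    rw [hy, ← hs, map_mul, ← root_pow]
    obtain ⟨M, rfl⟩ : ∃ M, N = M + 1 := Nat.exists_eq_succ_of_ne_zero hN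
    refine Ideal.add_mem _ (Ideal.mul_mem_right _ _ (Ideal.mem_span_singleton_self _)) ?_
    rw [pow_succ]
    exact Ideal.mul_mem_left _ _ (Ideal.mul_mem_left _ _ (Ideal.mem_span_singleton_self _))
  · right
    have hu : IsUnit (p.coeff 0) := by
      by_contra hnu
      exact h0 ((IsLocalRing.mem_maximalIdeal _).mpr hnu)
    obtain ⟨u, hu⟩ := hu
    have h1 : AdjoinRoot.mk (eis π N) p
        = AdjoinRoot.of (eis π N) (u : R) *
          (AdjoinRoot.root (eis π N) *
            (AdjoinRoot.mk (eis π N) p.divX * AdjoinRoot.of (eis π N) ((u⁻¹ : Rˣ) : R)) + 1) := by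
      have h2 : AdjoinRoot.of (eis π N) (u : R) * AdjoinRoot.of (eis π N) ((u⁻¹ : Rˣ) : R) = 1 := by
        rw [← map_mul, Units.mul_inv, map_one]
      rw [hy, ← hu]
      linear_combination (-(AdjoinRoot.root (eis π N) * AdjoinRoot.mk (eis π N) p.divX)) * h2
    rw [h1]
    exact (u.isUnit.map (AdjoinRoot.of (eis π N))).mul (isUnit_root_mul_add_one hπ hN _)

theorem isLocalRing (hπ : Irreducible π) (hN : N ≠ 0) : IsLocalRing (AdjoinRoot (eis π N)) := by
  have hd := isDomain hπ hN
  refine IsLocalRing.of_isUnit_or_isUnit_one_sub_self (fun a => ?_)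
  rcases mem_span_or_isUnit hπ hN a with h | h
  · right
    rcases mem_span_or_isUnit hπ hN (1 - a) with h' | h'
    · exfalso
      have h1 : (1 : AdjoinRoot (eis π N)) ∈ Ideal.span {AdjoinRoot.root (eis π N)} := by
        have := Ideal.add_mem _ h' h
        simpa using this
      rw [← Ideal.eq_top_iff_one, Ideal.span_singleton_eq_top] at h1
      exact root_not_isUnit hπ hN h1
    · exact h'
  · left
    exact h

theorem maximalIdeal_eq (hπ : Irreducible π) (hN : N ≠ 0) :
    @IsLocalRing.maximalIdeal (AdjoinRoot (eis π N)) _ (isLocalRing hπ hN)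
      = Ideal.span {AdjoinRoot.root (eis π N)} := by
  have hl := isLocalRing hπ hN
  ext y
  rw [IsLocalRing.mem_maximalIdeal, mem_nonunits_iff]
  constructor
  · intro hy
    rcases mem_span_or_isUnit hπ hN y with h | h
    · exact h
    · exact absurd h hy
  · intro hy hu
    rw [Ideal.mem_span_singleton'] at hy
    obtain ⟨c, rfl⟩ := hy
    exact root_not_isUnit hπ hN (isUnit_of_mul_isUnit_right hu)

theorem isDVR (hπ : Irreducible π) (hN : N ≠ 0) :
    @IsDiscreteValuationRing (AdjoinRoot (eis π N)) _ (isDomain hπ hN) := by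
  have hd := isDomain hπ hN
  have hl := isLocalRing hπ hN
  have hnoeth : IsNoetherianRing (AdjoinRoot (eis π N)) :=
    isNoetherianRing_of_surjective R[X] _ (AdjoinRoot.mk (eis π N)) AdjoinRoot.mk_surjective
  have hnf : ¬ IsField (AdjoinRoot (eis π N)) := by
    intro hf
    obtain ⟨y, hy⟩ := hf.mul_inv_cancel (root_ne_zero hπ hN)
    exact root_not_isUnit hπ hN (IsUnit.of_mul_eq_one y hy)
  refine ((IsDiscreteValuationRing.TFAE (AdjoinRoot (eis π N)) hnf).out 0 4).mpr ?_
  exact ⟨⟨AdjoinRoot.root (eis π N), maximalIdeal_eq hπ hN⟩⟩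

end Groth.Agent.Lib.Helper20.DvrExt
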