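import Mathlib
import Groth.Agent.Lib.Helper20.DvrExt1

set_option autoImplicit false
set_option linter.unusedSectionVars false
open Polynomial

namespace Groth.Agent.Lib.Helper20.DvrExt

universe v

variable {R : Type v} [CommRing R] [IsDomain R] [IsDiscreteValuationRing R]

theorem exists_ramified_ext (K : Type v) [Field K] [Algebra R K] [IsFractionRing R K]
    {π : R} (hπ : Irreducible π) {N : ℕ} (hN : N ≠ 0) :
    ∃ (R' : Type v) (_ : CommRing R') (_ : IsDomain R') (_ : IsDiscreteValuationRing R')
      (K' : Type v) (_ : Field K') (_ : Algebra R' K') (_ : IsFractionRing R' K')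
      (_ : Algebra R R') (_ : Algebra K K') (_ : Algebra R K')
      (_ : IsScalarTower R R' K') (_ : IsScalarTower R K K')
      (_ : Module.Finite K K') (_ : IsLocalHom (algebraMap R R')) (x : R'),
      x ^ N = algebraMap R R' π ∧ x ≠ 0 ∧ x ∈ IsLocalRing.maximalIdeal R' := by
  have hd : IsDomain (AdjoinRoot (eis π N)) := isDomain hπ hN
  have hdvr : IsDiscreteValuationRing (AdjoinRoot (eis π N)) := isDVR hπ hN
  have hinj : Function.Injective (algebraMap R (FractionRing (AdjoinRoot (eis π N)))) := by
    rw [IsScalarTower.algebraMap_eq R (AdjoinRoot (eis π N)) (FractionRing (AdjoinRoot (eis π N)))]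
    exact (IsFractionRing.injective (AdjoinRoot (eis π N)) _).comp (of_injective hN)
  let aKK : Algebra K (FractionRing (AdjoinRoot (eis π N))) :=
    (IsFractionRing.lift (A := R) (K := K) hinj).toAlgebra
  have htower : IsScalarTower R K (FractionRing (AdjoinRoot (eis π N))) :=
    IsScalarTower.of_algebraMap_eq (fun r => (IsFractionRing.lift_algebraMap hinj r).symm)
  have hfinR : Module.Finite R (AdjoinRoot (eis π N)) := (eis_monic hN).finite_adjoinRoot
  have hint : Algebra.IsIntegral R (AdjoinRoot (eis π N)) := Algebra.IsIntegral.of_finite R _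
  have hic : IsIntegralClosure (AdjoinRoot (eis π N)) R (FractionRing (AdjoinRoot (eis π N))) :=
    IsIntegralClosure.of_isIntegrallyClosed _ _ _
  have halg : Algebra.IsAlgebraic K (FractionRing (AdjoinRoot (eis π N))) :=
    isAlgebraic_of_isFractionRing R (AdjoinRoot (eis π N)) K _
  have hloc : IsLocalization (Algebra.algebraMapSubmonoid (AdjoinRoot (eis π N)) (nonZeroDivisors R))
      (FractionRing (AdjoinRoot (eis π N))) :=
    IsIntegralClosure.isLocalization R K _ _
  have hfin : Module.Finite K (FractionRing (AdjoinRoot (eis π N))) :=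
    Module.Finite.of_isLocalization R (AdjoinRoot (eis π N)) (nonZeroDivisors R)
  have hlocal : IsLocalHom (algebraMap R (AdjoinRoot (eis π N))) := by
    constructor
    intro r hr
    by_contra hnu
    have hr' : r ∈ IsLocalRing.maximalIdeal R := (IsLocalRing.mem_maximalIdeal _).mpr hnu
    rw [hπ.maximalIdeal_eq, Ideal.mem_span_singleton'] at hr'
    obtain ⟨s, rfl⟩ := hr'
    rw [map_mul, AdjoinRoot.algebraMap_eq, ← root_pow] at hr
    have h1 := isUnit_of_mul_isUnit_right hr
    exact root_not_isUnit hπ hN ((isUnit_pow_iff hN).mp h1)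
  refine ⟨AdjoinRoot (eis π N), inferInstance, hd, hdvr, FractionRing (AdjoinRoot (eis π N)),
    inferInstance, inferInstance, inferInstance, inferInstance, aKK, inferInstance, inferInstance,
    htower, hfin, hlocal, AdjoinRoot.root (eis π N), ?_, root_ne_zero hπ hN, ?_⟩
  · rw [AdjoinRoot.algebraMap_eq]
    exact root_pow
  · rw [IsLocalRing.mem_maximalIdeal, mem_nonunits_iff]
    exact root_not_isUnit hπ hN

end Groth.Agent.Lib.Helper20.DvrExt
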