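import Mathlib
import Groth.Agent.Lib.Helper20.DvrExt2

set_option autoImplicit false
set_option linter.unusedSectionVars false

namespace Groth.Agent.Lib.Helper20.DvrExt

universe u v

variable {A : Type u} [CommRing A] (𝒜 : ℤ → AddSubgroup A) [GradedRing 𝒜]

theorem dvd_of_pos_degree {R' : Type v} [CommRing R'] (ψ : A →+* R') (ϖ : R') (T : Finset A)
    (deg : A → ℕ)
    (hT : ∀ t ∈ T, 0 < deg t ∧ t ∈ 𝒜 (deg t : ℤ) ∧ ϖ ^ deg t ∣ ψ t)
    (hspan : ∀ d : ℤ, 0 < d → ∀ a ∈ 𝒜 d, a ∈ Ideal.span (T : Set A)) :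
    ∀ d : ℕ, 0 < d → ∀ a ∈ 𝒜 (d : ℤ), ϖ ^ d ∣ ψ a := by
  intro d
  induction d using Nat.strong_induction_on with
  | _ d ih =>
    intro hd a ha
    obtain ⟨c, -, hc⟩ := Submodule.mem_span_finset.mp (hspan d (by exact_mod_cast hd) a ha)
    have ha' : a = ∑ t ∈ T, (DirectSum.decompose 𝒜 (c t) ((d : ℤ) - deg t) : A) * t := by
      have h1 : (DirectSum.decompose 𝒜 a (d : ℤ) : A) = a := DirectSum.decompose_of_mem_same 𝒜 ha
      rw [← h1, ← hc, DirectSum.decompose_sum, DFinsupp.finsetSum_apply,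
        AddSubmonoidClass.coe_finsetSum]
      refine Finset.sum_congr rfl (fun t ht => ?_)
      have h2 := DirectSum.coe_decompose_mul_add_of_right_mem 𝒜 (a := c t)
        (i := (d : ℤ) - deg t) (hT t ht).2.1
      rw [sub_add_cancel] at h2
      rw [smul_eq_mul, h2]
    rw [ha', map_sum]
    refine Finset.dvd_sum (fun t ht => ?_)
    rw [map_mul]
    obtain ⟨h1, h2, h3⟩ := hT t ht
    by_cases hlt : deg t < d
    · have hmem : (DirectSum.decompose 𝒜 (c t) ((d : ℤ) - deg t) : A)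
          ∈ 𝒜 (((d - deg t : ℕ)) : ℤ) := by
        rw [Nat.cast_sub hlt.le]
        exact SetLike.coe_mem _
      have h4 := ih (d - deg t) (by omega) (by omega) _ hmem
      have h5 : ϖ ^ d = ϖ ^ (d - deg t) * ϖ ^ deg t := by
        rw [← pow_add]
        congr 1
        omega
      rw [h5]
      exact mul_dvd_mul h4 h3
    · have h5 : ϖ ^ d ∣ ϖ ^ deg t := pow_dvd_pow ϖ (by omega)
      exact Dvd.dvd.mul_left (h5.trans h3) _

theorem exists_rescaled_hom {R' K' : Type v} [CommRing R'] [IsDomain R'] [Field K'] [Algebra R' K']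
    [IsFractionRing R' K'] (ψ : A →+* R') (ϖ : R') (hϖ : ϖ ≠ 0)
    (hdiv : ∀ d : ℕ, 0 < d → ∀ a ∈ 𝒜 (d : ℤ), ϖ ^ d ∣ ψ a) :
    ∃ g : A →+* R', ∀ (d : ℤ) (a : A), a ∈ 𝒜 d →
      algebraMap R' K' (g a) * algebraMap R' K' ϖ ^ d = algebraMap R' K' (ψ a) := by
  have hinj : Function.Injective (algebraMap R' K') := IsFractionRing.injective R' K'
  obtain ⟨w, hw⟩ : ∃ w, w = algebraMap R' K' ϖ := ⟨_, rfl⟩
  have hw0 : w ≠ 0 := by
    rw [hw]
    intro h
    exact hϖ (hinj (by rw [h, map_zero]))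
  let f : ∀ d : ℤ, 𝒜 d →+ K' := fun d =>
    { toFun := fun a => algebraMap R' K' (ψ (a : A)) * w ^ (-d)
      map_zero' := by simp
      map_add' := by
        intro a b
        simp [add_mul] }
  have hone : f 0 (@GradedMonoid.GOne.one ℤ (fun i => ↥(𝒜 i)) _ _) = 1 := by
    change algebraMap R' K' (ψ ((@GradedMonoid.GOne.one ℤ (fun i => ↥(𝒜 i)) _ _ : 𝒜 0) : A)) * w ^ (-(0 : ℤ)) = 1
    rw [SetLike.coe_gOne]
    simp
  have hmul : ∀ {i j : ℤ} (ai : 𝒜 i) (aj : 𝒜 j),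
      f (i + j) (@GradedMonoid.GMul.mul ℤ (fun i => ↥(𝒜 i)) _ _ _ _ ai aj) = f i ai * f j aj := by
    intro i j ai aj
    change algebraMap R' K' (ψ ((@GradedMonoid.GMul.mul ℤ (fun i => ↥(𝒜 i)) _ _ _ _ ai aj : 𝒜 (i + j)) : A)) * w ^ (-(i + j))
      = (algebraMap R' K' (ψ (ai : A)) * w ^ (-i)) * (algebraMap R' K' (ψ (aj : A)) * w ^ (-j))
    rw [SetLike.coe_gMul, map_mul, map_mul, neg_add, zpow_add₀ hw0]
    ring
  let G : A →+* K' :=
    (DirectSum.toSemiring f hone hmul).comp (DirectSum.decomposeRingEquiv 𝒜 : A →+* _)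
  have hG : ∀ (d : ℤ) (a : A), a ∈ 𝒜 d → G a = algebraMap R' K' (ψ a) * w ^ (-d) := by
    intro d a ha
    change DirectSum.toSemiring f hone hmul (DirectSum.decompose 𝒜 a) = _
    rw [DirectSum.decompose_of_mem 𝒜 ha, DirectSum.toSemiring_of]
    rfl
  have hrange : ∀ a : A, G a ∈ (algebraMap R' K').range := by
    intro a
    induction a using DirectSum.Decomposition.inductionOn 𝒜 with
    | zero => exact ⟨0, by simp⟩
    | @homogeneous d a =>
      rw [hG d a a.2]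
      by_cases hd : 0 < d
      · obtain ⟨n, rfl⟩ : ∃ n : ℕ, d = n := ⟨d.toNat, (Int.toNat_of_nonneg hd.le).symm⟩
        obtain ⟨q, hq⟩ := hdiv n (by exact_mod_cast hd) a a.2
        refine ⟨q, ?_⟩
        rw [hq, map_mul, map_pow, ← hw, zpow_neg, zpow_natCast]
        field_simp
      · obtain ⟨k, hk⟩ : ∃ k : ℕ, -d = k := ⟨(-d).toNat, (Int.toNat_of_nonneg (by omega)).symm⟩
        refine ⟨ψ a * ϖ ^ k, ?_⟩
        rw [map_mul, map_pow, ← hw, hk, zpow_natCast]
    | add a b ha hb =>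
      rw [map_add]
      exact Subring.add_mem _ ha hb
  choose g0 hg0 using hrange
  have hg0' : ∀ a, algebraMap R' K' (g0 a) = G a := hg0
  let g : A →+* R' :=
    { toFun := g0
      map_one' := hinj (by rw [hg0', map_one, map_one])
      map_mul' := fun a b => hinj (by rw [hg0', map_mul, map_mul, hg0', hg0'])
      map_zero' := hinj (by rw [hg0', map_zero, map_zero])
      map_add' := fun a b => hinj (by rw [hg0', map_add, map_add, hg0', hg0']) }
  refine ⟨g, ?_⟩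
  intro d a ha
  change algebraMap R' K' (g0 a) * algebraMap R' K' ϖ ^ d = _
  rw [hg0', hG d a ha, ← hw, mul_assoc, ← zpow_add₀ hw0, neg_add_cancel, zpow_zero, mul_one]

end Groth.Agent.Lib.Helper20.DvrExt
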