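import Mathlib
import Groth.Agent.Lib.Helper20.DvrExt3

set_option autoImplicit false
set_option linter.unusedSectionVars false

namespace Groth.Agent.Lib.Helper20.DvrExt

universe u v

theorem main
    {A : Type u} [CommRing A] (𝒜 : ℤ → AddSubgroup A) [GradedRing 𝒜]
    (hfg : (Ideal.span {a : A | ∃ d : ℤ, 0 < d ∧ a ∈ 𝒜 d}).FG)
    (R : Type v) [CommRing R] [IsDomain R] [IsDiscreteValuationRing R]
    (K : Type v) [Field K] [Algebra R K] [IsFractionRing R K]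
    (φ : A →+* R)
    (hle : Ideal.map φ (Ideal.span {a : A | ∃ d : ℤ, 0 < d ∧ a ∈ 𝒜 d}) ≤ IsLocalRing.maximalIdeal R)
    (hne : Ideal.map φ (Ideal.span {a : A | ∃ d : ℤ, 0 < d ∧ a ∈ 𝒜 d}) ≠ ⊥) :
    ∃ (R' : Type v) (_ : CommRing R') (_ : IsDomain R') (_ : IsDiscreteValuationRing R')
      (K' : Type v) (_ : Field K') (_ : Algebra R' K') (_ : IsFractionRing R' K')
      (_ : Algebra R R') (_ : Algebra K K') (_ : Algebra R K')
      (_ : IsScalarTower R R' K') (_ : IsScalarTower R K K')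
      (_ : Module.Finite K K') (_ : IsLocalHom (algebraMap R R'))
      (ϖ : R') (g : A →+* R'),
      ϖ ≠ 0 ∧ ϖ ∈ IsLocalRing.maximalIdeal R' ∧
      (∀ (d : ℤ) (a : A), a ∈ 𝒜 d →
        algebraMap R' K' (g a) * algebraMap R' K' ϖ ^ d = algebraMap R K' (φ a)) ∧
      Ideal.map g (Ideal.span {a : A | ∃ d : ℤ, 0 < d ∧ a ∈ 𝒜 d}) = ⊤ := by
  classical
  obtain ⟨π, hπ⟩ := IsDiscreteValuationRing.exists_irreducible R
  obtain ⟨T, hTsub, hTspan⟩ := (Submodule.fg_span_iff_fg_span_finset_subset _).mp hfg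
  have hdeg : ∀ t ∈ T, ∃ n : ℕ, 0 < n ∧ t ∈ 𝒜 (n : ℤ) := by
    intro t ht
    obtain ⟨d, hd, htd⟩ := hTsub ht
    refine ⟨d.toNat, by omega, ?_⟩
    rw [Int.toNat_of_nonneg hd.le]
    exact htd
  let deg : A → ℕ := fun t => if h : t ∈ T then Classical.choose (hdeg t h) else 0
  have hdeg' : ∀ t ∈ T, 0 < deg t ∧ t ∈ 𝒜 (deg t : ℤ) := by
    intro t ht
    simp only [deg, dif_pos ht]
    exact Classical.choose_spec (hdeg t ht)
  have hν : ∀ r : R, r ≠ 0 → ∃ n : ℕ, ∃ u : Rˣ, r = u * π ^ n :=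
    fun r hr => IsDiscreteValuationRing.eq_unit_mul_pow_irreducible hr hπ
  let ν : R → ℕ := fun r => if h : r = 0 then 0 else Classical.choose (hν r h)
  have hν' : ∀ r : R, r ≠ 0 → ∃ u : Rˣ, r = u * π ^ ν r := by
    intro r hr
    simp only [ν, dif_neg hr]
    exact Classical.choose_spec (hν r hr)
  have hT' : (T.filter (fun t => φ t ≠ 0)).Nonempty := by
    by_contra hemp
    rw [Finset.not_nonempty_iff_eq_empty, Finset.filter_eq_empty_iff] at hemp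
    apply hne
    change Ideal.map φ (Submodule.span A {a : A | ∃ d : ℤ, 0 < d ∧ a ∈ 𝒜 d}) = ⊥
    rw [hTspan]
    change Ideal.map φ (Ideal.span (T : Set A)) = ⊥
    rw [Ideal.map_span, Ideal.span_eq_bot]
    rintro _ ⟨t, ht, rfl⟩
    by_contra h
    exact hemp ht h
  obtain ⟨a0, ha0, hmin⟩ :=
    Finset.exists_min_image _ (fun t => (ν (φ t) : ℚ) / (deg t : ℚ)) hT'
  rw [Finset.mem_filter] at ha0
  obtain ⟨ha0T, ha0ne⟩ := ha0
  obtain ⟨hN0, ha0mem⟩ := hdeg' a0 ha0T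
  obtain ⟨u0, hu0⟩ := hν' (φ a0) ha0ne
  have hmin' : ∀ t ∈ T, φ t ≠ 0 → ν (φ a0) * deg t ≤ ν (φ t) * deg a0 := by
    intro t ht htne
    have h1 := hmin t (Finset.mem_filter.mpr ⟨ht, htne⟩)
    have h2 : (0 : ℚ) < deg a0 := by exact_mod_cast hN0
    have h3 : (0 : ℚ) < deg t := by exact_mod_cast (hdeg' t ht).1
    rw [div_le_div_iff₀ h2 h3] at h1
    exact_mod_cast h1
  have hIpos : ∀ (d : ℤ), 0 < d → ∀ a ∈ 𝒜 d,
      a ∈ Ideal.span {a : A | ∃ d : ℤ, 0 < d ∧ a ∈ 𝒜 d} :=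
    fun d hd a ha => Ideal.subset_span ⟨d, hd, ha⟩
  have hm0 : 0 < ν (φ a0) := by
    rcases Nat.eq_zero_or_pos (ν (φ a0)) with h | h
    · exfalso
      rw [h, pow_zero, mul_one] at hu0
      have h1 : φ a0 ∈ IsLocalRing.maximalIdeal R :=
        hle (Ideal.mem_map_of_mem φ (hIpos _ (by exact_mod_cast hN0) a0 ha0mem))
      rw [IsLocalRing.mem_maximalIdeal, mem_nonunits_iff, hu0] at h1
      exact h1 u0.isUnit
    · exact h
  obtain ⟨R', iCR, iDom, iDVR, K', iF, iAlg, iFrac, iRR', iKK', iRK', iT1, iT2, iFin, iLoc, x, hxN,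
    hx0, hxm⟩ := exists_ramified_ext K hπ (Nat.pos_iff_ne_zero.mp hN0)
  obtain ⟨m, hm⟩ : ∃ m, m = ν (φ a0) := ⟨_, rfl⟩
  obtain ⟨N, hNdef⟩ : ∃ N, N = deg a0 := ⟨_, rfl⟩
  rw [← hNdef] at hxN
  have hϖ0 : x ^ m ≠ 0 := pow_ne_zero _ hx0
  have hψ : ∀ r : R, r ≠ 0 → ∃ u : Rˣ, algebraMap R R' r = algebraMap R R' u * x ^ (N * ν r) := by
    intro r hr
    obtain ⟨u, hu⟩ := hν' r hr
    refine ⟨u, ?_⟩
    conv_lhs => rw [hu]
    rw [map_mul, map_pow, ← hxN, ← pow_mul]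
  have hT : ∀ t ∈ T, 0 < deg t ∧ t ∈ 𝒜 (deg t : ℤ) ∧
      (x ^ m) ^ deg t ∣ ((algebraMap R R').comp φ) t := by
    intro t ht
    refine ⟨(hdeg' t ht).1, (hdeg' t ht).2, ?_⟩
    by_cases htne : φ t = 0
    · rw [RingHom.comp_apply, htne, map_zero]
      exact dvd_zero _
    · obtain ⟨u, hu⟩ := hψ (φ t) htne
      rw [RingHom.comp_apply, hu, ← pow_mul]
      have h1 := hmin' t ht htne
      rw [← hm, ← hNdef] at h1
      exact Dvd.dvd.mul_left (pow_dvd_pow x (by rw [mul_comm N]; exact h1)) _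
  have hspan : ∀ d : ℤ, 0 < d → ∀ a ∈ 𝒜 d, a ∈ Ideal.span (T : Set A) := by
    intro d hd a ha
    change a ∈ Submodule.span A (T : Set A)
    rw [← hTspan]
    exact hIpos d hd a ha
  have hdiv := dvd_of_pos_degree 𝒜 ((algebraMap R R').comp φ) (x ^ m) T deg hT hspan
  obtain ⟨g, hg⟩ := exists_rescaled_hom (K' := K') 𝒜 ((algebraMap R R').comp φ) (x ^ m) hϖ0 hdiv
  refine ⟨R', iCR, iDom, iDVR, K', iF, iAlg, iFrac, iRR', iKK', iRK', iT1, iT2, iFin, iLoc,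
    x ^ m, g, hϖ0, ?_, ?_, ?_⟩
  · rw [hm]
    exact Ideal.pow_mem_of_mem _ hxm _ hm0
  · intro d a ha
    rw [hg d a ha, RingHom.comp_apply, ← IsScalarTower.algebraMap_apply]
  · have hinj : Function.Injective (algebraMap R' K') := IsFractionRing.injective R' K'
    have hw0 : algebraMap R' K' (x ^ m) ≠ 0 := by
      intro h
      exact hϖ0 (hinj (by rw [h, map_zero]))
    have h1 := hg (deg a0 : ℤ) a0 ha0mem
    obtain ⟨u, hu⟩ := hψ (φ a0) ha0ne
    rw [RingHom.comp_apply, hu, ← hm, ← hNdef, zpow_natCast, map_mul, mul_comm N m, pow_mul,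
      map_pow, map_pow] at h1
    have h2 : algebraMap R' K' (g a0) = algebraMap R' K' (algebraMap R R' u) := by
      have h3 : (algebraMap R' K' x ^ m) ^ N ≠ 0 := by
        rw [← map_pow]
        exact pow_ne_zero _ hw0
      exact mul_right_cancel₀ h3 (by rw [h1, map_pow])
    have h4 : g a0 = algebraMap R R' u := hinj h2
    have h5 : IsUnit (g a0) := by
      rw [h4]
      exact u.isUnit.map _
    exact Ideal.eq_top_of_isUnit_mem _
      (Ideal.mem_map_of_mem g (hIpos _ (by exact_mod_cast hN0) a0 ha0mem)) h5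

end Groth.Agent.Lib.Helper20.DvrExt
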