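import Mathlib

set_option autoImplicit false
universe u

open TensorProduct

namespace Groth.Agent.Lib.Helper20.EssFree

/-- Nakayama for nilpotent ideals (no finiteness). -/
lemma eq_top_of_sup_smul_eq_top {R M : Type*} [CommRing R] [AddCommGroup M] [Module R M]
    (I : Ideal R) (hI : IsNilpotent I) (N : Submodule R M)
    (h : N ⊔ I • (⊤ : Submodule R M) = ⊤) : N = ⊤ := by
  have key : ∀ n : ℕ, N ⊔ (I ^ n) • (⊤ : Submodule R M) = ⊤ := by
    intro n
    induction n with
    | zero =>
      rw [pow_zero, Ideal.one_eq_top, Submodule.top_smul]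
      exact sup_top_eq N
    | succ n ih =>
      rw [eq_top_iff]
      calc (⊤ : Submodule R M) = N ⊔ I • (⊤ : Submodule R M) := h.symm
        _ = N ⊔ I • (N ⊔ (I ^ n) • (⊤ : Submodule R M)) := by rw [ih]
        _ = N ⊔ (I • N ⊔ I • ((I ^ n) • (⊤ : Submodule R M))) := by rw [Submodule.smul_sup]
        _ ≤ N ⊔ (I ^ (n + 1)) • (⊤ : Submodule R M) := by
            refine sup_le le_sup_left (sup_le (le_trans Submodule.smul_le_right le_sup_left) ?_)
            rw [← Submodule.mul_smul, ← pow_succ']
            exact le_sup_right
  obtain ⟨n, hn⟩ := hI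
  have h2 := key n
  rw [hn, Ideal.zero_eq_bot, Submodule.bot_smul, sup_bot_eq] at h2
  exact h2

/-- A flat module over a local ring with nilpotent maximal ideal is free. -/
theorem free_of_flat_of_isNilpotent_maximalIdeal {R M : Type u} [CommRing R] [IsLocalRing R]
    [AddCommGroup M] [Module R M] [Module.Flat R M]
    (hnil : IsNilpotent (IsLocalRing.maximalIdeal R)) : Module.Free R M := by
  let k := IsLocalRing.ResidueField R
  let w := Module.Free.chooseBasis k (k ⊗[R] M)
  obtain ⟨v, eq⟩ :=
    (TensorProduct.mk_surjective R M k Ideal.Quotient.mk_surjective).comp_left w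
  have eq' : (TensorProduct.mk R k M 1) ∘ v = w := eq
  have hli : LinearIndependent R v := by
    apply Module.IsLocalRing.linearIndependent_of_flat v
    rw [eq']
    exact w.linearIndependent
  have hmap : (Submodule.span R (Set.range v)).map (TensorProduct.mk R k M 1) = ⊤ := by
    rw [Submodule.map_span, ← Submodule.restrictScalars_span R k Ideal.Quotient.mk_surjective,
      Submodule.restrictScalars_eq_top_iff, ← w.span_eq, ← Set.range_comp]
    rw [eq']
  have hsup : Submodule.span R (Set.range v) ⊔
      (IsLocalRing.maximalIdeal R) • (⊤ : Submodule R M) = ⊤ := by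
    rw [eq_top_iff]
    intro x _
    have hx : TensorProduct.mk R k M 1 x ∈
        (Submodule.span R (Set.range v)).map (TensorProduct.mk R k M 1) := by
      rw [hmap]; trivial
    obtain ⟨y, hy, hyx⟩ := hx
    have hker : x - y ∈ LinearMap.ker (TensorProduct.mk R k M 1) := by
      rw [LinearMap.mem_ker, map_sub, hyx, sub_self]
    have hker' : x - y ∈ (IsLocalRing.maximalIdeal R) • (⊤ : Submodule R M) := by
      rw [← LinearMap.ker_tensorProductMk]
      exact hker
    have : x = y + (x - y) := by abel
    rw [this]
    exact Submodule.add_mem_sup hy hker'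
  have hspan := eq_top_of_sup_smul_eq_top _ hnil _ hsup
  exact Module.Free.of_basis (Module.Basis.mk hli hspan.ge)

end Groth.Agent.Lib.Helper20.EssFree
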