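import Mathlib
import Groth.Prelude.Def_SGA3x
import Groth.Agent.Lib.Helper20.EssFree1

set_option autoImplicit false
universe u

open CategoryTheory CategoryTheory.Limits AlgebraicGeometry

namespace Groth.Agent.Lib.Helper20.EssFree

theorem projective_of_isField {A M : Type u} [CommRing A] [AddCommGroup M] [Module A M]
    (h : IsField A) : Module.Projective A M := by
  letI := h.toField
  exact Module.Projective.of_free

/-- The essential-freeness condition at a point, with trivial covering of an affine open. -/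
lemma essFree_at_of_affine_opens {X S : Scheme.{u}} (f : X ⟶ S) (s : S) (U : S.Opens)
    (hs : s ∈ U) (hU : IsAffineOpen U)
    (H : ∀ V : (pullback f (𝟙 (U : Scheme.{u}) ≫ U.ι)).Opens, IsAffineOpen V →
       (letI := (V.ι ≫ pullback.snd f (𝟙 (U : Scheme.{u}) ≫ U.ι)).appTop.hom.toAlgebra
        Module.Projective Γ((U : Scheme.{u}), ⊤) Γ(↑V, ⊤))) :
    ∃ U : S.Opens, s ∈ U ∧ IsAffineOpen U ∧
    ∃ (S' : Scheme.{u}) (_ : IsAffine S') (g : S' ⟶ (U : Scheme.{u})), Flat g ∧ Surjective g ∧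
      ∀ x : ↥(pullback f (g ≫ U.ι)), ∃ V : (pullback f (g ≫ U.ι)).Opens, x ∈ V ∧ IsAffineOpen V ∧
        (letI := (V.ι ≫ pullback.snd f (g ≫ U.ι)).appTop.hom.toAlgebra
         Module.Projective Γ(S', ⊤) Γ(↑V, ⊤)) := by
  refine ⟨U, hs, hU, (U : Scheme.{u}), hU, 𝟙 _, inferInstance, inferInstance, fun x => ?_⟩
  obtain ⟨V, hV, hxV, -⟩ := TopologicalSpace.Opens.isBasis_iff_nbhd.mp
    (Scheme.isBasis_affineOpens _) (TopologicalSpace.Opens.mem_top x)
  exact ⟨V, hxV, hV, H V hV⟩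

theorem essFree_of_field (k : Type u) [Field k] (X : Scheme.{u})
    (f : X ⟶ Spec (CommRingCat.of k)) : SGA3x.IsEssentiallyFree f := by
  intro s
  have hU : IsAffineOpen (⊤ : (Spec (CommRingCat.of k)).Opens) := isAffineOpen_top _
  have hfield : IsField Γ(((⊤ : (Spec (CommRingCat.of k)).Opens) : Scheme.{u}), ⊤) :=
    MulEquiv.isField (Field.toIsField k)
      ((Scheme.Opens.topIso (⊤ : (Spec (CommRingCat.of k)).Opens)) ≪≫
        Scheme.ΓSpecIso (CommRingCat.of k)).commRingCatIsoToRingEquiv.toMulEquiv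
  refine essFree_at_of_affine_opens f s ⊤ trivial hU (fun V _ => ?_)
  letI := (V.ι ≫ pullback.snd f (𝟙 ((⊤ : (Spec (CommRingCat.of k)).Opens) : Scheme.{u}) ≫
    (⊤ : (Spec (CommRingCat.of k)).Opens).ι)).appTop.hom.toAlgebra
  exact projective_of_isField hfield

lemma isLocalRing_of_subsingleton (T : Scheme.{u}) [IsAffine T] [Subsingleton T] [Nonempty T] :
    IsLocalRing Γ(T, ⊤) := by
  have hsub : Subsingleton (PrimeSpectrum Γ(T, ⊤)) :=
    (Scheme.homeoOfIso T.isoSpec).symm.injective.subsingleton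
  have hne : Nonempty (PrimeSpectrum Γ(T, ⊤)) :=
    ⟨(Scheme.homeoOfIso T.isoSpec) (Classical.arbitrary T)⟩
  have hnt : Nontrivial Γ(T, ⊤) := by
    by_contra hcon
    rw [not_nontrivial_iff_subsingleton] at hcon
    obtain ⟨p⟩ := hne
    exact p.isPrime.ne_top (Subsingleton.elim _ _)
  obtain ⟨m, hm⟩ := Ideal.exists_maximal Γ(T, ⊤)
  apply IsLocalRing.of_unique_max_ideal
  refine ⟨m, hm, fun m' hm' => ?_⟩
  have : (⟨m', hm'.isPrime⟩ : PrimeSpectrum Γ(T, ⊤)) = ⟨m, hm.isPrime⟩ := Subsingleton.elim _ _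
  exact congrArg PrimeSpectrum.asIdeal this

theorem essFree_of_artinian (A : Type u) [CommRing A] [IsArtinianRing A] (X : Scheme.{u})
    (f : X ⟶ Spec (CommRingCat.of A)) [Flat f] : SGA3x.IsEssentiallyFree f := by
  intro s
  have hopen : IsOpen ({s} : Set (Spec (CommRingCat.of A))) := isOpen_discrete _
  obtain ⟨(U : (Spec (CommRingCat.of A)).Opens), hU, hsU, hUs⟩ :=
    TopologicalSpace.Opens.isBasis_iff_nbhd.mp
    (Scheme.isBasis_affineOpens _) (show s ∈ (⟨{s}, hopen⟩ : (Spec (CommRingCat.of A)).Opens) from rfl)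
  have : IsAffine (U : Scheme.{u}) := hU
  have hmem : ∀ a : (U : Scheme.{u}), U.ι a ∈ U := fun a => by
    have : U.ι a ∈ Set.range U.ι := ⟨a, rfl⟩
    rwa [Scheme.Opens.range_ι] at this
  have : Subsingleton (U : Scheme.{u}) := by
    constructor
    intro a b
    have ha : U.ι a = s := hUs (hmem a)
    have hb : U.ι b = s := hUs (hmem b)
    exact U.ι.isOpenEmbedding.injective (ha.trans hb.symm)
  have : Nonempty (U : Scheme.{u}) := by
    have : s ∈ Set.range U.ι := by rw [Scheme.Opens.range_ι]; exact hsU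
    obtain ⟨a, -⟩ := this
    exact ⟨a⟩
  have : IsLocalRing Γ((U : Scheme.{u}), ⊤) := isLocalRing_of_subsingleton _
  have hnil : IsNilpotent (IsLocalRing.maximalIdeal Γ((U : Scheme.{u}), ⊤)) := by
    have h1 := IsArtinianRing.isNilpotent_jacobson_bot (R := Γ((U : Scheme.{u}), ⊤))
    rwa [IsLocalRing.jacobson_eq_maximalIdeal _ bot_ne_top] at h1
  refine essFree_at_of_affine_opens f s U hsU hU (fun V hV => ?_)
  have : IsAffine (V : Scheme.{u}) := hV
  letI := (V.ι ≫ pullback.snd f (𝟙 (U : Scheme.{u}) ≫ U.ι)).appTop.hom.toAlgebra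
  have hflat : (V.ι ≫ pullback.snd f (𝟙 (U : Scheme.{u}) ≫ U.ι)).appTop.hom.Flat :=
    Scheme.Hom.flat_appTop _
  have : Module.Flat Γ((U : Scheme.{u}), ⊤) Γ(↑V, ⊤) := hflat
  have := free_of_flat_of_isNilpotent_maximalIdeal (R := Γ((U : Scheme.{u}), ⊤)) (M := Γ(↑V, ⊤)) hnil
  exact Module.Projective.of_free

end Groth.Agent.Lib.Helper20.EssFree
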