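import Mathlib
import Groth.Prelude.Def_SGA3x
import Groth.Agent.Lib.Helper20.EssFree2

set_option autoImplicit false
universe u

open CategoryTheory CategoryTheory.Limits AlgebraicGeometry TensorProduct

namespace Groth.Agent.Lib.Helper20.EssFree

/-- Base change of projectivity along a pushout of commutative rings. -/
theorem projective_of_isPushout {A B R C : CommRingCat.{u}} {α : A ⟶ B} {φ : A ⟶ R} {ψ : B ⟶ C}
    {χ : R ⟶ C} (hpo : IsPushout α φ ψ χ)
    (hproj : letI := α.hom.toAlgebra; Module.Projective A B) :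
    letI := χ.hom.toAlgebra; Module.Projective R C := by
  letI := α.hom.toAlgebra
  letI := φ.hom.toAlgebra
  letI := χ.hom.toAlgebra
  have : Module.Projective A B := hproj
  let e := hpo.flip.isoIsPushout _ _ (CommRingCat.isPushout_tensorProduct A R B)
  have he : ∀ r : R, e.hom.hom (χ.hom r) = r ⊗ₜ[A] (1 : B) := by
    intro r
    have := congrArg (fun F => F.hom r)
      (hpo.flip.inl_isoIsPushout_hom _ _ (CommRingCat.isPushout_tensorProduct A R B))
    exact this
  let E : C ≃ₗ[R] R ⊗[A] B :=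
    { e.commRingCatIsoToRingEquiv.toAddEquiv with
      map_smul' := fun r c => by
        change e.hom.hom (r • c) = r • e.hom.hom c
        rw [Algebra.smul_def, map_mul]
        change e.hom.hom (χ.hom r) * _ = _
        rw [he, Algebra.smul_def]
        rfl }
  exact Module.Projective.of_equiv E.symm

theorem projOpen_preimage {Y B U Z : Scheme.{u}} [IsAffine B] [IsAffine U] {p : Y ⟶ B}
    {q : U ⟶ B} {fst : Z ⟶ Y} {snd : Z ⟶ U} (h : IsPullback fst snd p q) {Y₀ : Y.Opens}
    (hY₀aff : IsAffineOpen Y₀)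
    (hY₀ : letI := (Y₀.ι ≫ p).appTop.hom.toAlgebra
      Module.Projective Γ(B, ⊤) Γ(↑Y₀, ⊤)) :
    IsAffineOpen (fst ⁻¹ᵁ Y₀) ∧
      (letI := ((fst ⁻¹ᵁ Y₀).ι ≫ snd).appTop.hom.toAlgebra
       Module.Projective Γ(U, ⊤) Γ(↑(fst ⁻¹ᵁ Y₀), ⊤)) := by
  have : IsAffine Y₀.toScheme := hY₀aff
  have hpb : IsPullback (fst ∣_ Y₀) ((fst ⁻¹ᵁ Y₀).ι ≫ snd) (Y₀.ι ≫ p) q :=
    (isPullback_morphismRestrict fst Y₀).paste_vert h
  have : IsAffine (fst ⁻¹ᵁ Y₀).toScheme := IsAffine.of_isPullback hpb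
  refine ⟨‹_›, ?_⟩
  exact projective_of_isPushout (isPushout_appTop_of_isPullback hpb) hY₀

theorem essFree_baseChange {X S S' : Scheme.{u}} (f : X ⟶ S) (g : S' ⟶ S)
    (hf : SGA3x.IsEssentiallyFree f) : SGA3x.IsEssentiallyFree (pullback.snd f g) := by
  intro s'
  obtain ⟨U, hsU, hU, T, hT, h, hflat, hsurj, hcov⟩ := hf (g s')
  obtain ⟨(U' : S'.Opens), hU', hsU', hU'le⟩ := TopologicalSpace.Opens.isBasis_iff_nbhd.mp
    (S'.isBasis_affineOpens) (show s' ∈ g ⁻¹ᵁ U from hsU)
  have : IsAffine (U : Scheme.{u}) := hU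
  have : IsAffine (U' : Scheme.{u}) := hU'
  let g' : (U' : Scheme.{u}) ⟶ (U : Scheme.{u}) := g.resLE U U' hU'le
  have hg' : g' ≫ U.ι = U'.ι ≫ g := Scheme.Hom.resLE_comp_ι _ _
  refine ⟨U', hsU', hU', pullback h g', inferInstance, pullback.snd h g', inferInstance,
    inferInstance, ?_⟩
  have heq : (pullback.snd h g' ≫ U'.ι) ≫ g = pullback.fst h g' ≫ (h ≫ U.ι) := by
    rw [Category.assoc, ← hg', ← Category.assoc, ← pullback.condition, Category.assoc]
  have hcomm : (pullback.fst (pullback.snd f g) (pullback.snd h g' ≫ U'.ι) ≫ pullback.fst f g) ≫ f =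
      (pullback.snd (pullback.snd f g) (pullback.snd h g' ≫ U'.ι) ≫ pullback.fst h g') ≫
        (h ≫ U.ι) := by
    rw [Category.assoc, pullback.condition, ← Category.assoc, pullback.condition, Category.assoc,
      heq, Category.assoc]
  let θ : pullback (pullback.snd f g) (pullback.snd h g' ≫ U'.ι) ⟶ pullback f (h ≫ U.ι) :=
    pullback.lift _ _ hcomm
  have hpb : IsPullback θ (pullback.snd (pullback.snd f g) (pullback.snd h g' ≫ U'.ι))
      (pullback.snd f (h ≫ U.ι)) (pullback.fst h g') := by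
    have A := IsPullback.of_hasPullback (pullback.snd f g) (pullback.snd h g' ≫ U'.ι)
    have B := IsPullback.of_hasPullback f g
    have AB := A.paste_horiz B
    have s : IsPullback (θ ≫ pullback.fst f (h ≫ U.ι))
        (pullback.snd (pullback.snd f g) (pullback.snd h g' ≫ U'.ι)) f
        (pullback.fst h g' ≫ (h ≫ U.ι)) := by
      rw [pullback.lift_fst, ← heq]
      exact AB
    exact IsPullback.of_right s (pullback.lift_snd _ _ _) (IsPullback.of_hasPullback f (h ≫ U.ι))
  intro x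
  obtain ⟨V, hxV, hVaff, hVproj⟩ := hcov (θ x)
  obtain ⟨h1, h2⟩ := projOpen_preimage hpb hVaff hVproj
  exact ⟨θ ⁻¹ᵁ V, hxV, h1, h2⟩

end Groth.Agent.Lib.Helper20.EssFree
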