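import Mathlib

set_option autoImplicit false
universe u

open TensorProduct

namespace Groth.Agent.Lib.Helper20.EssFree

/-- Descent of flatness: if `C` is faithfully flat over `B` and flat over `A`, then `B` is flat
over `A`. -/
lemma flat_of_faithfullyFlat_of_flat (A B C : Type u) [CommRing A] [CommRing B] [CommRing C]
    [Algebra A B] [Algebra B C] [Algebra A C] [IsScalarTower A B C]
    [Module.FaithfullyFlat B C] [Module.Flat A C] : Module.Flat A B := by
  rw [Module.Flat.iff_lTensor_preserves_injective_linearMap]
  intro N P _ _ _ _ f hf
  have h1 : Function.Injective (LinearMap.lTensor C f) :=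
    Module.Flat.lTensor_preserves_injective_linearMap f hf
  have h2 : Function.Injective (LinearMap.lTensor C (LinearMap.baseChange B f)) := by
    have hsq : (AlgebraTensorModule.cancelBaseChange A B C C P).toLinearMap.restrictScalars A ∘ₗ
        (LinearMap.lTensor C (LinearMap.baseChange B f)).restrictScalars A =
        (LinearMap.lTensor C f) ∘ₗ
        (AlgebraTensorModule.cancelBaseChange A B C C N).toLinearMap.restrictScalars A := by
      apply LinearMap.ext
      intro x
      induction x using TensorProduct.induction_on with
      | zero => simp
      | add x y hx hy => rw [map_add, map_add, hx, hy]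
      | tmul c y =>
        induction y using TensorProduct.induction_on with
        | zero => simp
        | add y z hy hz => rw [tmul_add, map_add, map_add, hy, hz]
        | tmul b n => simp
    intro x y hxy
    apply (AlgebraTensorModule.cancelBaseChange A B C C N).injective
    apply h1
    have e1 := LinearMap.congr_fun hsq x
    have e2 := LinearMap.congr_fun hsq y
    simp only [LinearMap.coe_comp, Function.comp_apply, LinearMap.coe_restrictScalars,
      LinearEquiv.coe_coe] at e1 e2
    rw [← e1, ← e2, hxy]
  have h3 := (Module.FaithfullyFlat.lTensor_injective_iff_injective B C
    (f := LinearMap.baseChange B f)).mp h2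
  exact h3

end Groth.Agent.Lib.Helper20.EssFree
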