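import Mathlib
import Groth.Prelude.Def_SGA3x
import Groth.Agent.Lib.Helper20.EssFree3
import Groth.Agent.Lib.Helper20.EssFree4a

set_option autoImplicit false
universe u

open CategoryTheory CategoryTheory.Limits AlgebraicGeometry TensorProduct

namespace Groth.Agent.Lib.Helper20.EssFree

lemma ringHom_flat_of_comp {A B C : Type u} [CommRing A] [CommRing B] [CommRing C]
    [IsLocalRing B] [IsLocalRing C] (φ : A →+* B) (ψ : B →+* C) [IsLocalHom ψ]
    (hψ : ψ.Flat) (hc : (ψ.comp φ).Flat) : φ.Flat := by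
  letI := φ.toAlgebra
  letI := ψ.toAlgebra
  letI : Algebra A C := (ψ.comp φ).toAlgebra
  have : IsScalarTower A B C := IsScalarTower.of_algebraMap_eq (fun _ => rfl)
  have : Module.Flat B C := hψ
  have : Module.Flat A C := hc
  have : IsLocalHom (algebraMap B C) := ‹IsLocalHom ψ›
  have : Module.FaithfullyFlat B C := Module.FaithfullyFlat.of_flat_of_isLocalHom
  exact flat_of_faithfullyFlat_of_flat A B C

set_option backward.isDefEq.respectTransparency.types false in
lemma flat_of_cover_projective {P T : Scheme.{u}} [IsAffine T] (p : P ⟶ T)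
    (hcov : ∀ x : P, ∃ V : P.Opens, x ∈ V ∧ IsAffineOpen V ∧
      (letI := (V.ι ≫ p).appTop.hom.toAlgebra
       Module.Projective Γ(T, ⊤) Γ(↑V, ⊤))) : Flat p := by
  choose V hxV hVaff hVproj using hcov
  rw [IsZariskiLocalAtSource.iff_of_iSup_eq_top (P := @Flat) V]
  · intro x
    have : IsAffine (V x : Scheme.{u}) := hVaff x
    rw [HasRingHomProperty.iff_of_isAffine (P := @Flat)]
    letI := ((V x).ι ≫ p).appTop.hom.toAlgebra
    have : Module.Projective Γ(T, ⊤) Γ(↑(V x), ⊤) := hVproj x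
    show Module.Flat Γ(T, ⊤) Γ(↑(V x), ⊤)
    infer_instance
  · rw [eq_top_iff]
    rintro x -
    exact TopologicalSpace.Opens.mem_iSup.mpr ⟨x, hxV x⟩

theorem flat_of_essFree {X S : Scheme.{u}} (f : X ⟶ S) (hf : SGA3x.IsEssentiallyFree f) :
    Flat f := by
  rw [Flat.iff_flat_stalkMap]
  intro x
  obtain ⟨U, hsU, hU, T, hT, h, hflat, hsurj, hcov⟩ := hf (f x)
  have hx : f x ∈ Set.range (h ≫ U.ι) := by
    have h1 : f x ∈ Set.range U.ι := by rw [Scheme.Opens.range_ι]; exact hsU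
    obtain ⟨a, ha⟩ := h1
    obtain ⟨t, ht⟩ := hsurj.surj a
    refine ⟨t, ?_⟩
    rw [Scheme.Hom.comp_apply, ht, ha]
  obtain ⟨t, ht⟩ := hx
  obtain ⟨z, hzx, hzt⟩ := Scheme.Pullback.exists_preimage_pullback (f := f) (g := h ≫ U.ι) x t ht.symm
  subst hzx
  have hsnd : Flat (pullback.snd f (h ≫ U.ι)) := flat_of_cover_projective _ hcov
  have hcomp : Flat (pullback.fst f (h ≫ U.ι) ≫ f) := by
    rw [pullback.condition]
    infer_instance
  have h1 := Flat.stalkMap (pullback.fst f (h ≫ U.ι) ≫ f) z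
  rw [Scheme.Hom.stalkMap_comp] at h1
  have h2 := Flat.stalkMap (pullback.fst f (h ≫ U.ι)) z
  exact ringHom_flat_of_comp _ _ h2 h1

end Groth.Agent.Lib.Helper20.EssFree
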