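import Mathlib
import Groth.Agent.Lib.Helper24.EtaleNormal

/-!
# Étale algebras over a normal domain mapping to a field (helper20)

If `S` is étale over an integrally closed domain `R` and `ψ : S → F` is a map to a field generated
by the image, then the image of `ψ` is the integral closure of `R` in `F`, and `ker ψ` is generated
by an idempotent.
-/

set_option autoImplicit false
set_option linter.style.haveILetI false
set_option linter.unusedSectionVars false
universe u

namespace Groth.Agent.Lib.Helper20.EtComp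

open TensorProduct

attribute [local instance] Algebra.TensorProduct.rightAlgebra in
set_option maxHeartbeats 1600000 in
set_option synthInstance.maxHeartbeats 400000 in
theorem key (R S F : Type u) [CommRing R] [IsDomain R] [IsIntegrallyClosed R] [CommRing S]
    [Algebra R S] [Algebra.Etale R S] [Field F] [Algebra R F]
    (hinj : Function.Injective (algebraMap R F)) (ψ : S →ₐ[R] F)
    (hgen : Subfield.closure (Set.range ψ) = ⊤) :
    (∀ x : F, IsIntegral R x → x ∈ ψ.range) ∧
      ∃ e : S, IsIdempotentElem e ∧ RingHom.ker ψ = Ideal.span {1 - e} := by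
  classical
  obtain ⟨K, hK⟩ : ∃ K : Type u, K = FractionRing R := ⟨_, rfl⟩
  subst hK
  have hcl : IsIntegrallyClosedIn S (S ⊗[R] FractionRing R) :=
    Groth.Agent.Lib.Helper24.ENorm.isIntegrallyClosedIn_tensor_fractionRing R S
  let e₀ : FractionRing R ⊗[R] S ≃ₐ[FractionRing R] S ⊗[R] FractionRing R :=
    { Algebra.TensorProduct.comm R (FractionRing R) S with
      commutes' := fun k => by
        show (Algebra.TensorProduct.comm R (FractionRing R) S) (k ⊗ₜ[R] (1 : S)) =
          (1 : S) ⊗ₜ[R] k
        rw [Algebra.TensorProduct.comm_tmul] }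
  haveI : Algebra.Etale (FractionRing R) (S ⊗[R] FractionRing R) := Algebra.Etale.of_equiv e₀
  haveI : Module.Finite (FractionRing R) (S ⊗[R] FractionRing R) :=
    Algebra.FormallyUnramified.finite_of_free (FractionRing R) (S ⊗[R] FractionRing R)
  haveI : IsArtinianRing (S ⊗[R] FractionRing R) := .of_finite (FractionRing R) _
  haveI : IsReduced (S ⊗[R] FractionRing R) :=
    Algebra.FormallyUnramified.isReduced_of_field (FractionRing R) (S ⊗[R] FractionRing R)
  -- the extension of ψ to the generic fibre
  let ι : FractionRing R →ₐ[R] F := IsFractionRing.liftAlgHom (g := Algebra.ofId R F) hinj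
  obtain ⟨Ψ, hΨ⟩ : ∃ Ψ : S ⊗[R] FractionRing R →ₐ[R] F,
      ∀ (s : S) (k : FractionRing R), Ψ (s ⊗ₜ k) = ψ s * ι k :=
    ⟨Algebra.TensorProduct.lift ψ ι (fun _ _ => Commute.all _ _), fun s k => by simp⟩
  have hΨ1 : ∀ s : S, Ψ (algebraMap S (S ⊗[R] FractionRing R) s) = ψ s := by
    intro s
    rw [Algebra.TensorProduct.algebraMap_apply, Algebra.algebraMap_self, RingHom.id_apply, hΨ,
      map_one, mul_one]
  haveI hprime : (RingHom.ker Ψ).IsPrime := RingHom.ker_isPrime Ψ.toRingHom
  haveI hmax : (RingHom.ker Ψ).IsMaximal := IsArtinianRing.isMaximal_of_isPrime _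
  -- surjectivity
  have hsurj : Function.Surjective Ψ := by
    let Fd : Subfield F :=
      { Ψ.range.toSubring with
        inv_mem' := by
          rintro _ ⟨g, rfl⟩
          change (Ψ g)⁻¹ ∈ Ψ.range
          by_cases hg : Ψ g = 0
          · rw [hg, inv_zero]
            exact zero_mem _
          · have hg' : g ∉ RingHom.ker Ψ := hg
            obtain ⟨g', i, hi, hg''⟩ := hmax.exists_inv hg'
            refine ⟨g', ?_⟩
            have h1 : Ψ (g' * g + i) = 1 := by rw [hg'', map_one]
            have hi0 : Ψ i = 0 := hi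
            rw [map_add, map_mul, hi0, add_zero] at h1
            change Ψ g' = (Ψ g)⁻¹
            exact eq_inv_of_mul_eq_one_left h1 }
    have h1 : Set.range ψ ⊆ (Fd : Set F) := by
      rintro _ ⟨s, rfl⟩
      exact ⟨algebraMap S _ s, hΨ1 s⟩
    have h2 : (⊤ : Subfield F) ≤ Fd := by
      rw [← hgen]
      exact Subfield.closure_le.mpr h1
    intro x
    obtain ⟨g, hg⟩ := h2 (Subfield.mem_top x)
    exact ⟨g, hg⟩
  -- the idempotent
  let m₀ : MaximalSpectrum (S ⊗[R] FractionRing R) := ⟨RingHom.ker Ψ, hmax⟩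
  obtain ⟨ε, hε⟩ : ∃ ε : S ⊗[R] FractionRing R,
      IsArtinianRing.equivPi (S ⊗[R] FractionRing R) ε = Pi.single m₀ 1 :=
    ⟨(IsArtinianRing.equivPi _).symm (Pi.single m₀ 1), AlgEquiv.apply_symm_apply _ _⟩
  have hεker : ∀ g, g ∈ RingHom.ker Ψ → ε * g = 0 := by
    intro g hg
    apply (IsArtinianRing.equivPi (S ⊗[R] FractionRing R)).injective
    rw [map_mul, hε, map_zero]
    funext m
    rw [Pi.mul_apply, Pi.zero_apply]
    by_cases hm : m = m₀
    · subst hm
      rw [IsArtinianRing.equivPi_apply, Ideal.Quotient.eq_zero_iff_mem.mpr hg, mul_zero]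
    · rw [Pi.single_eq_of_ne hm, zero_mul]
  have hε1 : Ψ ε = 1 := by
    have h1 : ε - 1 ∈ RingHom.ker Ψ := by
      have h2 := congrFun hε m₀
      rw [IsArtinianRing.equivPi_apply, Pi.single_eq_same] at h2
      have h3 : Ideal.Quotient.mk m₀.asIdeal (ε - 1) = 0 := by
        rw [map_sub, h2, map_one, sub_self]
      exact Ideal.Quotient.eq_zero_iff_mem.mp h3
    have h4 : Ψ (ε - 1) = 0 := h1
    rw [map_sub, map_one, sub_eq_zero] at h4
    exact h4
  have hεε : ε * ε = ε := by
    have h1 : ε * (ε - 1) = 0 := hεker _ (by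
      show Ψ (ε - 1) = 0
      rw [map_sub, map_one, hε1, sub_self])
    rw [mul_sub, mul_one, sub_eq_zero] at h1
    exact h1
  have hinjS : Function.Injective (algebraMap S (S ⊗[R] FractionRing R)) := hcl.1
  -- integral elements of `F` come from `S`
  have hint : ∀ g : S ⊗[R] FractionRing R, IsIntegral R (Ψ g) →
      ∃ u : S, algebraMap S _ u = ε * g := by
    intro g hg
    obtain ⟨p, hpm, hp⟩ := hg
    have h1 : ε * Polynomial.aeval g p = 0 := by
      apply hεker
      show Ψ (Polynomial.aeval g p) = 0
      rw [← Polynomial.aeval_algHom_apply, Polynomial.aeval_def]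
      exact hp
    -- `ε * g` is a root of `X * p`
    have h2 : IsIntegral R (ε * g) := by
      refine ⟨Polynomial.X * p, Polynomial.monic_X.mul hpm, ?_⟩
      rw [← Polynomial.aeval_def, map_mul, Polynomial.aeval_X]
      -- aeval (ε g) p = p(0)(1-ε) + ε p(g) ; multiply by ε g
      have h3 : ∀ q : Polynomial R, ε * Polynomial.aeval (ε * g) q = ε * Polynomial.aeval g q := by
        intro q
        induction q using Polynomial.induction_on' with
        | add q₁ q₂ h₁ h₂ => rw [map_add, map_add, mul_add, mul_add, h₁, h₂]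
        | monomial n a =>
          rw [Polynomial.aeval_monomial, Polynomial.aeval_monomial, mul_pow]
          rcases Nat.eq_zero_or_pos n with hn | hn
          · subst hn; simp
          · have : ε ^ n = ε := by
              obtain ⟨k, rfl⟩ : ∃ k, n = k + 1 := ⟨n - 1, by omega⟩
              exact (IsIdempotentElem.pow_succ_eq k hεε)
            rw [this]
            ring_nf
            rw [show ε ^ 2 = ε by rw [pow_two, hεε]]
      calc ε * g * Polynomial.aeval (ε * g) p = g * (ε * Polynomial.aeval (ε * g) p) := by ring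
        _ = g * (ε * Polynomial.aeval g p) := by rw [h3]
        _ = 0 := by rw [h1, mul_zero]
    have h4 : IsIntegral S (ε * g) := h2.tower_top
    exact (hcl.2).mp h4 |>.imp fun u hu => hu
  refine ⟨?_, ?_⟩
  · intro x hx
    obtain ⟨g, rfl⟩ := hsurj x
    obtain ⟨u, hu⟩ := hint g hx
    refine ⟨u, ?_⟩
    have : Ψ (ε * g) = Ψ g := by rw [map_mul, hε1, one_mul]
    rw [← this, ← hu, hΨ1]
    rfl
  · -- ε comes from an idempotent of S
    have hεint : IsIntegral R (Ψ 1) := by rw [map_one]; exact isIntegral_one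
    obtain ⟨e, he⟩ := hint 1 hεint
    rw [mul_one] at he
    refine ⟨e, ?_, ?_⟩
    · apply hinjS
      rw [map_mul, he, hεε]
    · apply le_antisymm
      · intro x hx
        have h1 : Ψ (algebraMap S _ x) = 0 := by rw [hΨ1]; exact hx
        have h2 := hεker _ h1
        rw [← he, ← map_mul] at h2
        have h3 : e * x = 0 := hinjS (by rw [h2, map_zero])
        rw [Ideal.mem_span_singleton']
        exact ⟨x, by rw [mul_sub, mul_one, mul_comm, h3, sub_zero]⟩
      · rw [Ideal.span_le, Set.singleton_subset_iff]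
        show ψ (1 - e) = 0
        rw [← hΨ1, map_sub, map_one, he, map_sub, map_one, hε1, sub_self]

set_option maxHeartbeats 400000 in
set_option synthInstance.maxHeartbeats 400000 in
theorem compositum (A A' L L₁ : Type u) [CommRing A] [IsDomain A]
    [IsIntegrallyClosed A] [CommRing A'] [IsDomain A'] [IsIntegrallyClosed A'] [Algebra A A']
    [Field L] [Algebra A L] [Algebra.IsAlgebraic A L] (hinj : Function.Injective (algebraMap A L))
    [Algebra.Etale A ↥(integralClosure A L)]
    [Field L₁] [Algebra A' L₁] [Algebra L L₁] [Algebra A L₁] [IsScalarTower A A' L₁] [IsScalarTower A L L₁]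
    (hinj' : Function.Injective (algebraMap A' L₁))
    (hgen : Subfield.closure (Set.range (algebraMap A' L₁) ∪ Set.range (algebraMap L L₁)) = ⊤) :
    Algebra.Etale A' ↥(integralClosure A' L₁) ∧
      integralClosure A' L₁ = Algebra.adjoin A' ((algebraMap L L₁) '' {x : L | IsIntegral A x}) := by
  classical
  obtain ⟨C, hC⟩ : ∃ C : Subalgebra A L, C = integralClosure A L := ⟨_, rfl⟩
  haveI : Algebra.Etale A ↥C := by rw [hC]; infer_instance
  have hCmem : ∀ x : L, x ∈ C ↔ IsIntegral A x := fun x => by rw [hC]; exact mem_integralClosure_iff A L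
  -- the map from the base change
  let gC : ↥C →ₐ[A] L₁ := (IsScalarTower.toAlgHom A L L₁).comp C.val
  obtain ⟨ψ, hψ⟩ : ∃ ψ : TensorProduct A A' ↥C →ₐ[A'] L₁,
      ∀ (a' : A') (c : ↥C), ψ (a' ⊗ₜ c) = algebraMap A' L₁ a' * algebraMap L L₁ (c : L) :=
    ⟨Algebra.TensorProduct.lift (Algebra.ofId A' L₁) gC (fun _ _ => Commute.all _ _),
      fun a' c => by simp [gC]⟩
  have hrange : ψ.range =
      Algebra.adjoin A' ((algebraMap L L₁) '' {x : L | IsIntegral A x}) := by
    apply le_antisymm
    · have hall : ∀ t : TensorProduct A A' ↥C, ψ t ∈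
          Algebra.adjoin A' ((algebraMap L L₁) '' {x : L | IsIntegral A x}) := by
        intro t
        induction t with
        | zero => rw [map_zero]; exact zero_mem _
        | add x y hx hy => rw [map_add]; exact add_mem hx hy
        | tmul a' c =>
          have hc : algebraMap L L₁ (c : L) ∈
              Algebra.adjoin A' ((algebraMap L L₁) '' {x : L | IsIntegral A x}) :=
            Algebra.subset_adjoin ⟨(c : L), (hCmem _).mp c.2, rfl⟩
          rw [hψ]
          exact mul_mem (Subalgebra.algebraMap_mem _ a') hc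
      rintro _ ⟨t, rfl⟩
      exact hall t
    · apply Algebra.adjoin_le
      rintro _ ⟨x, hx, rfl⟩
      exact ⟨(1 : A') ⊗ₜ (⟨x, (hCmem x).mpr hx⟩ : ↥C), by
        change ψ _ = _
        rw [hψ, map_one, one_mul]⟩
  have hgen' : Subfield.closure (Set.range ψ) = ⊤ := by
    rw [eq_top_iff, ← hgen]
    apply Subfield.closure_le.mpr
    rintro y (⟨a', rfl⟩ | ⟨l, rfl⟩)
    · apply Subfield.subset_closure
      exact ⟨a' ⊗ₜ (1 : ↥C), by rw [hψ]; simp⟩
    · obtain ⟨a, ha0, ha⟩ := (Algebra.IsAlgebraic.isAlgebraic (R := A) l).exists_integral_multiple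
      have h1 : algebraMap L L₁ (a • l) ∈ Subfield.closure (Set.range ψ) := by
        apply Subfield.subset_closure
        exact ⟨(1 : A') ⊗ₜ (⟨a • l, (hCmem _).mpr ha⟩ : ↥C), by rw [hψ, map_one, one_mul]⟩
      have h2 : algebraMap A L₁ a ∈ Subfield.closure (Set.range ψ) := by
        apply Subfield.subset_closure
        refine ⟨(algebraMap A A' a) ⊗ₜ (1 : ↥C), ?_⟩
        rw [hψ, ← IsScalarTower.algebraMap_apply]
        simp
      have h3 : algebraMap A L₁ a ≠ 0 := by
        rw [IsScalarTower.algebraMap_apply A L L₁]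
        intro h
        have := (algebraMap L L₁).injective (h.trans (map_zero _).symm)
        exact ha0 (hinj (this.trans (map_zero _).symm))
      have h4 : algebraMap L L₁ l = algebraMap L L₁ (a • l) / algebraMap A L₁ a := by
        rw [Algebra.smul_def, map_mul, ← IsScalarTower.algebraMap_apply, mul_div_cancel_left₀ _ h3]
      rw [h4]
      exact div_mem h1 h2
  obtain ⟨hint, e, he, hker⟩ :=
    Groth.Agent.Lib.Helper20.EtComp.key A' (TensorProduct A A' ↥C) L₁ hinj' ψ hgen'
  have heq : integralClosure A' L₁ =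
      Algebra.adjoin A' ((algebraMap L L₁) '' {x : L | IsIntegral A x}) := by
    apply le_antisymm
    · intro x hx
      rw [← hrange]
      exact hint x ((mem_integralClosure_iff A' L₁).mp hx)
    · apply Algebra.adjoin_le
      rintro _ ⟨x, hx, rfl⟩
      rw [SetLike.mem_coe, mem_integralClosure_iff A' L₁]
      have h1 : IsIntegral A (algebraMap L L₁ x) :=
        hx.map (IsScalarTower.toAlgHom A L L₁)
      exact h1.tower_top
  refine ⟨?_, heq⟩
  -- étaleness
  haveI : IsLocalization.Away e (TensorProduct A A' ↥C ⧸ Ideal.span {1 - e}) :=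
    IsLocalization.Away.quotient_of_isIdempotentElem he
  haveI : Algebra.Etale (TensorProduct A A' ↥C) (TensorProduct A A' ↥C ⧸ Ideal.span {1 - e}) :=
    Algebra.Etale.of_isLocalizationAway e
  haveI : Algebra.Etale A' (TensorProduct A A' ↥C ⧸ Ideal.span {1 - e}) :=
    Algebra.Etale.comp A' (TensorProduct A A' ↥C) _
  have hker' : Ideal.span {1 - e} = RingHom.ker ψ.rangeRestrict := by
    rw [AlgHom.ker_rangeRestrict, hker]
  let E1 : (TensorProduct A A' ↥C ⧸ Ideal.span {1 - e}) ≃ₐ[A'] ↥ψ.range :=
    (Ideal.quotientEquivAlgOfEq A' hker').trans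
      (Ideal.quotientKerAlgEquivOfSurjective ψ.rangeRestrict_surjective)
  let E2 : ↥ψ.range ≃ₐ[A'] ↥(integralClosure A' L₁) :=
    Subalgebra.equivOfEq _ _ (hrange.trans heq.symm)
  exact Algebra.Etale.of_equiv (A := TensorProduct A A' ↥C ⧸ Ideal.span {1 - e}) (E1.trans E2)


end Groth.Agent.Lib.Helper20.EtComp
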