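import Mathlib

/-!
# Ext and exact functors preserving injectives

Let `R : 𝒜 ⥤ ℬ` be an exact additive functor between abelian categories preserving injectives,
with `𝒜` having enough injectives.  Given `η : X ⟶ R.obj Z` such that `f ↦ η ≫ R.map f` is a
bijection `(Z ⟶ Y) ≃ (X ⟶ R.obj Y)` for every `Y`, the maps
`Ext^n(Z, Y) → Ext^n(X, R Y)`, `x ↦ η · R(x)` are bijective for all `n`.
-/

set_option autoImplicit false
universe w₁ w₂ v₁ v₂ u₁ u₂
open CategoryTheory Limits Abelian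

namespace Groth.Agent.Lib.Helper20.ExtAdj

variable {𝒜 : Type u₁} [Category.{v₁} 𝒜] [Abelian 𝒜] [HasExt.{w₁} 𝒜]
variable {ℬ : Type u₂} [Category.{v₂} ℬ] [Abelian ℬ] [HasExt.{w₂} ℬ]
variable (R : 𝒜 ⥤ ℬ) [R.Additive] [PreservesFiniteLimits R] [PreservesFiniteColimits R]
variable {Z : 𝒜} {X : ℬ} (η : X ⟶ R.obj Z)

/-- the comparison map -/
noncomputable def θ (Y : 𝒜) (n : ℕ) : Ext.{w₁} Z Y n →+ Ext.{w₂} X (R.obj Y) n :=
  ((Ext.mk₀ η).precomp (R.obj Y) (zero_add n)).comp (R.mapExtAddHom Z Y n)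

lemma θ_apply (Y : 𝒜) (n : ℕ) (x : Ext.{w₁} Z Y n) :
    θ R η Y n x = (Ext.mk₀ η).comp (x.mapExactFunctor R) (zero_add n) := rfl

lemma θ_comp {Y Y' : 𝒜} {a b c : ℕ} (x : Ext.{w₁} Z Y a) (y : Ext.{w₁} Y Y' b) (h : a + b = c) :
    θ R η Y' c (x.comp y h) = (θ R η Y a x).comp (y.mapExactFunctor R) h := by
  rw [θ_apply, θ_apply, Ext.mapExactFunctor_comp, Ext.comp_assoc]
  omega

lemma θ_mk₀ (Y : 𝒜) (f : Z ⟶ Y) : θ R η Y 0 (Ext.mk₀ f) = Ext.mk₀ (η ≫ R.map f) := by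
  rw [θ_apply, Ext.mapExactFunctor_mk₀, Ext.mk₀_comp_mk₀]

variable [EnoughInjectives 𝒜] [R.PreservesInjectiveObjects]

theorem θ_bijective (H0 : ∀ Y : 𝒜, Function.Bijective (fun f : Z ⟶ Y => η ≫ R.map f)) :
    ∀ (n : ℕ) (Y : 𝒜), Function.Bijective (θ R η Y n) := by
  intro n
  induction n with
  | zero =>
    intro Y
    constructor
    · intro x y hxy
      obtain ⟨f, rfl⟩ := (Ext.mk₀_bijective Z Y).2 x
      obtain ⟨g, rfl⟩ := (Ext.mk₀_bijective Z Y).2 y
      rw [θ_mk₀, θ_mk₀] at hxy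
      have := (Ext.mk₀_bijective _ _).1 hxy
      rw [(H0 Y).1 this]
    · intro y
      obtain ⟨g, rfl⟩ := (Ext.mk₀_bijective _ _).2 y
      obtain ⟨f, hf⟩ := (H0 Y).2 g
      exact ⟨Ext.mk₀ f, by rw [θ_mk₀]; exact congrArg _ hf⟩
  | succ n ih =>
    intro Y
    -- embed Y into an injective
    let I := Injective.under Y
    let S : ShortComplex 𝒜 := ShortComplex.mk (Injective.ι Y) (cokernel.π (Injective.ι Y))
      (cokernel.condition _)
    have hS : S.ShortExact :=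
      { exact := ShortComplex.exact_cokernel _
        mono_f := by dsimp [S]; infer_instance
        epi_g := by dsimp [S]; infer_instance }
    have hRS : (S.map R).ShortExact := hS.map_of_exact R
    have hI : Injective S.X₂ := by dsimp [S]; infer_instance
    have hRI : Injective (S.map R).X₂ := by
      dsimp [S]; exact R.injective_obj _
    have hδ : ∀ x : Ext.{w₁} Z S.X₃ n, θ R η S.X₁ (n + 1) (x.comp hS.extClass rfl) =
        (θ R η S.X₃ n x).comp hRS.extClass rfl := by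
      intro x
      rw [θ_comp, Ext.mapExactFunctor_extClass]
      rfl
    have hg : ∀ x : Ext.{w₁} Z S.X₂ n, θ R η S.X₃ n (x.comp (Ext.mk₀ S.g) (add_zero n)) =
        (θ R η S.X₂ n x).comp (Ext.mk₀ ((S.map R).g)) (add_zero n) := by
      intro x
      rw [θ_comp, Ext.mapExactFunctor_mk₀]
      rfl
    constructor
    · rw [injective_iff_map_eq_zero]
      intro x hx
      change Ext.{w₁} Z S.X₁ (n + 1) at x
      obtain ⟨x₃, rfl⟩ := Ext.covariant_sequence_exact₁ Z hS x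
        (Ext.eq_zero_of_injective _) rfl
      erw [hδ] at hx
      obtain ⟨y₂, hy₂⟩ := Ext.covariant_sequence_exact₃ X hRS _ rfl hx
      obtain ⟨x₂, rfl⟩ := (ih S.X₂).2 y₂
      have := (ih S.X₃).1 ((hg x₂).trans hy₂)
      rw [← this, Ext.comp_assoc_of_second_deg_zero, hS.comp_extClass, Ext.comp_zero]
    · intro y
      change Ext.{w₂} X (S.map R).X₁ (n + 1) at y
      obtain ⟨y₃, rfl⟩ := Ext.covariant_sequence_exact₁ X hRS y
        (Ext.eq_zero_of_injective _) rfl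
      obtain ⟨x₃, rfl⟩ := (ih S.X₃).2 y₃
      exact ⟨x₃.comp hS.extClass rfl, hδ x₃⟩

/-- the resulting additive equivalence -/
noncomputable def extAddEquiv
    (H0 : ∀ Y : 𝒜, Function.Bijective (fun f : Z ⟶ Y => η ≫ R.map f)) (Y : 𝒜) (n : ℕ) :
    Ext.{w₁} Z Y n ≃+ Ext.{w₂} X (R.obj Y) n :=
  AddEquiv.ofBijective (θ R η Y n) (θ_bijective R η H0 n Y)

end Groth.Agent.Lib.Helper20.ExtAdj
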