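import Mathlib

/-!
# HQ1: determinant-norm of a finite projective algebra relative to a complement

For an `R`-algebra `S` with a complement `e : (S × Q) ≃ₗ[R] N` (`N` finite free) we define
`nrm e b = det (L_b ⊕ 1_Q)` and show multiplicativity and independence of the complement.
-/

set_option autoImplicit false
universe u

namespace Groth.Agent.Lib.Helper20.HQ

section nrm

variable {R S : Type u} [CommRing R] [CommRing S] [Algebra R S]
  {Q N : Type u} [AddCommGroup Q] [Module R Q] [AddCommGroup N] [Module R N]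

/-- the endomorphism of `N` corresponding to `L_b ⊕ k • 1_Q`. -/
noncomputable def enD (e : (S × Q) ≃ₗ[R] N) (b : S) (k : R) : Module.End R N :=
  e.conj ((Algebra.lmul R S b).prodMap (k • (1 : Module.End R Q)))

/-- the determinant-norm `det (L_b ⊕ 1_Q)`. -/
noncomputable def nrm (e : (S × Q) ≃ₗ[R] N) (b : S) : R := LinearMap.det (enD e b 1)

theorem enD_apply (e : (S × Q) ≃ₗ[R] N) (b : S) (k : R) (s : S) (q : Q) :
    enD e b k (e (s, q)) = e (b * s, k • q) := by
  simp [enD, LinearEquiv.conj_apply_apply]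

theorem enD_mul (e : (S × Q) ≃ₗ[R] N) (b b' : S) (k k' : R) :
    enD e (b * b') (k * k') = enD e b k * enD e b' k' := by
  apply LinearMap.ext
  intro x
  obtain ⟨⟨s, q⟩, rfl⟩ := e.surjective x
  rw [Module.End.mul_apply, enD_apply, enD_apply, enD_apply, mul_assoc, mul_smul]

theorem enD_one (e : (S × Q) ≃ₗ[R] N) : enD e 1 1 = 1 := by
  apply LinearMap.ext
  intro x
  obtain ⟨⟨s, q⟩, rfl⟩ := e.surjective x
  rw [enD_apply, one_mul, one_smul, Module.End.one_apply]

theorem enD_add (e : (S × Q) ≃ₗ[R] N) (b b' : S) (k k' : R) :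
    enD e (b + b') (k + k') = enD e b k + enD e b' k' := by
  apply LinearMap.ext
  intro x
  obtain ⟨⟨s, q⟩, rfl⟩ := e.surjective x
  rw [LinearMap.add_apply, enD_apply, enD_apply, enD_apply, ← map_add, Prod.mk_add_mk, add_mul,
    add_smul]

theorem enD_smul (e : (S × Q) ≃ₗ[R] N) (a : R) (b : S) (k : R) :
    enD e (a • b) (a * k) = a • enD e b k := by
  apply LinearMap.ext
  intro x
  obtain ⟨⟨s, q⟩, rfl⟩ := e.surjective x
  rw [LinearMap.smul_apply, enD_apply, enD_apply, ← map_smul, Prod.smul_mk, smul_mul_assoc,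
    mul_smul]

theorem nrm_mul (e : (S × Q) ≃ₗ[R] N) (b b' : S) : nrm e (b * b') = nrm e b * nrm e b' := by
  unfold nrm
  rw [← map_mul, ← enD_mul, one_mul]

theorem nrm_one (e : (S × Q) ≃ₗ[R] N) : nrm e (1 : S) = 1 := by
  unfold nrm
  rw [enD_one, map_one]

theorem enD_algebraMap (e : (S × Q) ≃ₗ[R] N) (a : R) :
    enD e (algebraMap R S a) 1 = enD e 0 1 + a • enD e 1 0 := by
  rw [← enD_smul, ← enD_add, zero_add, mul_zero, add_zero, Algebra.smul_def, mul_one]

theorem enD_zero_one (e : (S × Q) ≃ₗ[R] N) : enD e 0 1 = 1 - enD e 1 0 := by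
  rw [eq_sub_iff_add_eq, ← enD_add, zero_add, add_zero, enD_one]

theorem enD_proj_mul (e : (S × Q) ≃ₗ[R] N) : enD e 1 0 * enD e 1 0 = enD e 1 0 := by
  rw [← enD_mul, one_mul, mul_zero]

end nrm

section indep

variable {R S : Type u} [CommRing R] [CommRing S] [Algebra R S]

theorem nrm_indep {Q₁ Q₂ N₁ N₂ : Type u}
    [AddCommGroup Q₁] [Module R Q₁] [AddCommGroup Q₂] [Module R Q₂]
    [AddCommGroup N₁] [Module R N₁] [AddCommGroup N₂] [Module R N₂]
    [Module.Free R N₁] [Module.Finite R N₁] [Module.Free R N₂] [Module.Finite R N₂]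
    (e₁ : (S × Q₁) ≃ₗ[R] N₁) (e₂ : (S × Q₂) ≃ₗ[R] N₂) (b : S) :
    nrm e₁ b = nrm e₂ b := by
  unfold nrm
  obtain ⟨Φ₁, hΦ₁⟩ : ∃ Φ₁ : Module.End R N₁, Φ₁ = enD e₁ b 1 := ⟨_, rfl⟩
  obtain ⟨Φ₂, hΦ₂⟩ : ∃ Φ₂ : Module.End R N₂, Φ₂ = enD e₂ b 1 := ⟨_, rfl⟩
  rw [← hΦ₁, ← hΦ₂]
  let τ : ((S × Q₁) × (S × Q₂)) ≃ₗ[R] ((S × Q₂) × (S × Q₁)) :=
    { toFun := fun x => ((x.1.1, x.2.2), (x.2.1, x.1.2))
      invFun := fun y => ((y.1.1, y.2.2), (y.2.1, y.1.2))
      map_add' := fun x y => rfl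
      map_smul' := fun r x => rfl
      left_inv := fun x => rfl
      right_inv := fun y => rfl }
  let σ : (N₁ × N₂) ≃ₗ[R] (N₂ × N₁) :=
    (e₁.symm.prodCongr e₂.symm) ≪≫ₗ τ ≪≫ₗ (e₂.prodCongr e₁)
  have hσ : σ.conj (Φ₁.prodMap (1 : Module.End R N₂)) = Φ₂.prodMap (1 : Module.End R N₁) := by
    apply LinearMap.ext
    rintro ⟨x, y⟩
    obtain ⟨⟨m, q₂⟩, rfl⟩ := e₂.surjective x
    obtain ⟨⟨m', q₁⟩, rfl⟩ := e₁.surjective y
    have h1 : σ.symm (e₂ (m, q₂), e₁ (m', q₁)) = (e₁ (m, q₁), e₂ (m', q₂)) := by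
      rw [LinearEquiv.symm_apply_eq]
      simp [σ, τ]
    rw [LinearEquiv.conj_apply_apply, h1]
    simp only [LinearMap.prodMap_apply, Module.End.one_apply, hΦ₁, hΦ₂, enD_apply, one_smul]
    simp [σ, τ]
  have h1 : LinearMap.det (Φ₁.prodMap (1 : Module.End R N₂)) =
      LinearMap.det (Φ₂.prodMap (1 : Module.End R N₁)) := by
    rw [← hσ, LinearEquiv.conj_apply, LinearMap.comp_assoc, LinearMap.det_conj]
  rw [LinearMap.det_prodMap, LinearMap.det_prodMap, map_one, map_one, mul_one, mul_one] at h1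
  exact h1

end indep

section rhoM

open Polynomial

variable {R : Type u} [CommRing R] {ι : Type*} [Fintype ι] [DecidableEq ι]

/-- rank polynomial `det (1 - P + X P)` of an (idempotent) matrix. -/
noncomputable def rhoM (P : Matrix ι ι R) : R[X] :=
  Matrix.det (1 - P.map C + (X : R[X]) • P.map C)

theorem rhoM_aeval (P : Matrix ι ι R) {T : Type*} [CommRing T] [Algebra R T] (x : T) :
    aeval x (rhoM P) =
      Matrix.det (1 - P.map (algebraMap R T) + x • P.map (algebraMap R T)) := by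
  unfold rhoM
  rw [AlgHom.map_det]
  congr 1
  ext i j
  by_cases hij : i = j
  · subst hij
    simp
    exact mul_comm _ _
  · simp [hij]
    exact mul_comm _ _

theorem rhoM_eval (P : Matrix ι ι R) (a : R) :
    eval a (rhoM P) = Matrix.det (1 - P + a • P) := by
  have h := rhoM_aeval P (T := R) a
  rw [Polynomial.coe_aeval_eq_eval] at h
  rw [h]
  rfl

theorem idem_mul {T : Type*} [CommRing T] (P : Matrix ι ι T) (hP : P * P = P) (x y : T) :
    (1 - P + x • P) * (1 - P + y • P) = 1 - P + (x * y) • P := by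
  simp only [mul_add, add_mul, mul_sub, sub_mul, mul_one, one_mul, Matrix.smul_mul,
    Matrix.mul_smul, hP, smul_smul]
  rw [mul_comm y x]
  abel

theorem rhoM_mul (P : Matrix ι ι R) (hP : P * P = P) {T : Type*} [CommRing T] [Algebra R T]
    (x y : T) : aeval x (rhoM P) * aeval y (rhoM P) = aeval (x * y) (rhoM P) := by
  rw [rhoM_aeval, rhoM_aeval, rhoM_aeval, ← Matrix.det_mul, idem_mul]
  rw [← Matrix.map_mul, hP]

theorem rhoM_eval_one (P : Matrix ι ι R) : eval 1 (rhoM P) = 1 := by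
  rw [rhoM_eval, one_smul, sub_add_cancel, Matrix.det_one]

theorem rhoM_coeff_mul (P : Matrix ι ι R) (hP : P * P = P) (r s : ℕ) :
    (rhoM P).coeff r * (rhoM P).coeff s = if r = s then (rhoM P).coeff r else 0 := by
  obtain ⟨ρ, hρ⟩ : ∃ ρ : R[X], ρ = rhoM P := ⟨_, rfl⟩
  have h := rhoM_mul P hP (T := R[X][X]) (X : R[X][X]) (C (X : R[X]))
  rw [← hρ] at h ⊢
  have e1 : ∀ y : R[X][X], aeval y ρ = (ρ.map (C : R →+* R[X])).comp y := by
    intro y
    rw [Polynomial.comp, Polynomial.eval₂_map, Polynomial.aeval_def]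
    rfl
  rw [e1, e1, e1, Polynomial.comp_X, Polynomial.comp_C, mul_comm (X : R[X][X]) (C X)] at h
  have h2 := congrArg (fun q : R[X][X] => (q.coeff r).coeff s) h
  simp only [Polynomial.coeff_mul_C, Polynomial.coeff_map, Polynomial.comp_C_mul_X_coeff] at h2
  rw [Polynomial.eval_map, Polynomial.eval₂_C_X] at h2
  rw [Polynomial.coeff_C_mul, Polynomial.coeff_C_mul, Polynomial.coeff_X_pow] at h2
  rw [h2]
  by_cases hrs : r = s
  · subst hrs; simp
  · have : ¬ s = r := fun h => hrs h.symm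
    simp [hrs, this]

end rhoM

section unimod

variable {R : Type u} [CommRing R] {N : Type u} [AddCommGroup N] [Module R N]
  [Module.Free R N] [Module.Finite R N]

theorem det_eq_zero_of_unimodular (M : Module.End R N) (v : N) (l : N →ₗ[R] R)
    (hv : M v = 0) (hl : l v = 1) : LinearMap.det M = 0 := by
  classical
  let b := Module.Free.chooseBasis R N
  rw [← LinearMap.det_toMatrix b]
  obtain ⟨A, hA⟩ : ∃ A, A = LinearMap.toMatrix b b M := ⟨_, rfl⟩
  rw [← hA]
  have h1 : A.mulVec (b.repr v) = 0 := by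
    rw [hA, LinearMap.toMatrix_mulVec_repr, hv, map_zero]
    rfl
  have h2 : A.det • (⇑(b.repr v) : _ → R) = 0 := by
    have : (A.adjugate * A).mulVec (b.repr v) = 0 := by
      rw [← Matrix.mulVec_mulVec, h1, Matrix.mulVec_zero]
    rw [Matrix.adjugate_mul, Matrix.smul_mulVec, Matrix.one_mulVec] at this
    exact this
  have h3 : A.det • v = 0 := by
    apply b.repr.injective
    rw [map_smul, map_zero]
    ext i
    have := congrFun h2 i
    simpa using this
  have h4 := congrArg l h3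
  rw [map_smul, hl, map_zero, smul_eq_mul, mul_one] at h4
  exact h4

end unimod

section rho

open Polynomial

variable {R S : Type u} [CommRing R] [CommRing S] [Algebra R S]
  {Q N : Type u} [AddCommGroup Q] [Module R Q] [AddCommGroup N] [Module R N]
  {ι : Type*} [Fintype ι] [DecidableEq ι]

/-- the matrix of the projector onto `S` -/
noncomputable def Pm (e : (S × Q) ≃ₗ[R] N) (bN : Module.Basis ι R N) : Matrix ι ι R :=
  LinearMap.toMatrix bN bN (enD e 1 0)

theorem Pm_mul (e : (S × Q) ≃ₗ[R] N) (bN : Module.Basis ι R N) :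
    Pm e bN * Pm e bN = Pm e bN := by
  unfold Pm
  rw [← LinearMap.toMatrix_mul, enD_proj_mul]

/-- the rank polynomial of `S` over `R` relative to the complement `e`. -/
noncomputable def rho (e : (S × Q) ≃ₗ[R] N) (bN : Module.Basis ι R N) : R[X] := rhoM (Pm e bN)

theorem nrm_algebraMap (e : (S × Q) ≃ₗ[R] N) (bN : Module.Basis ι R N) (a : R) :
    nrm e (algebraMap R S a) = eval a (rho e bN) := by
  unfold nrm rho
  rw [rhoM_eval, ← LinearMap.det_toMatrix bN, enD_algebraMap, enD_zero_one]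
  congr 1
  unfold Pm
  rw [map_add, map_sub, map_smul, LinearMap.toMatrix_one]

theorem rho_coeff_mul (e : (S × Q) ≃ₗ[R] N) (bN : Module.Basis ι R N) (r s : ℕ) :
    (rho e bN).coeff r * (rho e bN).coeff s = if r = s then (rho e bN).coeff r else 0 :=
  rhoM_coeff_mul _ (Pm_mul e bN) r s

theorem rho_eval_one (e : (S × Q) ≃ₗ[R] N) (bN : Module.Basis ι R N) :
    eval 1 (rho e bN) = 1 := rhoM_eval_one _

theorem rho_coeff_zero (e : (S × Q) ≃ₗ[R] N) (bN : Module.Basis ι R N)
    (l : S →ₗ[R] R) (hl : l 1 = 1) : (rho e bN).coeff 0 = 0 := by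
  haveI : Module.Free R N := Module.Free.of_basis bN
  haveI : Module.Finite R N := Module.Finite.of_basis bN
  rw [Polynomial.coeff_zero_eq_eval_zero]
  unfold rho
  rw [rhoM_eval, zero_smul, add_zero]
  have h1 : (1 : Matrix ι ι R) - Pm e bN = LinearMap.toMatrix bN bN (enD e 0 1) := by
    unfold Pm
    rw [enD_zero_one, map_sub, LinearMap.toMatrix_one]
  rw [h1, LinearMap.det_toMatrix]
  refine det_eq_zero_of_unimodular (enD e 0 1) (e (1, 0))
    (l ∘ₗ LinearMap.fst R S Q ∘ₗ e.symm.toLinearMap) ?_ ?_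
  · rw [enD_apply, zero_mul, smul_zero]
    exact map_zero e
  · simp [hl]

end rho

end Groth.Agent.Lib.Helper20.HQ
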