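import Mathlib
import Groth.Agent.Lib.Helper20.HQ1

/-!
# HQ2: base change of the determinant-norm along pushout squares of rings
-/

set_option autoImplicit false
universe u

namespace Groth.Agent.Lib.Helper20.HQ

open CategoryTheory CategoryTheory.Limits TensorProduct Polynomial

theorem rhoM_map {R R' : Type u} [CommRing R] [CommRing R'] (ψ : R →+* R')
    {ι : Type*} [Fintype ι] [DecidableEq ι] (P : Matrix ι ι R) :
    rhoM (P.map ψ) = (rhoM P).map ψ := by
  unfold rhoM
  rw [← Polynomial.coe_mapRingHom, RingHom.map_det]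
  congr 1
  ext i j
  by_cases hij : i = j
  · subst hij
    simp
  · simp [hij]

/-- Base change of a complement along a pushout square of rings. -/
theorem exists_compl_baseChange {R S R' S' : Type u} [CommRing R] [CommRing S] [CommRing R']
    [CommRing S']
    (φ : R →+* S) (ψ : R →+* R') (φ' : R' →+* S') (ψ' : S →+* S')
    (sq : IsPushout (CommRingCat.ofHom ψ) (CommRingCat.ofHom φ) (CommRingCat.ofHom φ')
      (CommRingCat.ofHom ψ'))
    {Q N : Type u} [AddCommGroup Q] [Module R Q] [AddCommGroup N] [Module R N]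
    {ι : Type} [Fintype ι] [DecidableEq ι]
    (e : letI := φ.toAlgebra; (S × Q) ≃ₗ[R] N) (bN : Module.Basis ι R N) :
    letI := φ.toAlgebra
    letI := φ'.toAlgebra
    ∃ (Q' N' : Type u) (_ : AddCommGroup Q') (_ : Module R' Q') (_ : AddCommGroup N')
      (_ : Module R' N') (e' : (S' × Q') ≃ₗ[R'] N') (bN' : Module.Basis ι R' N'),
      ∀ (b : S) (k : R), LinearMap.toMatrix bN' bN' (enD e' (ψ' b) (ψ k)) =
        (LinearMap.toMatrix bN bN (enD e b k)).map ψ := by
  letI := φ.toAlgebra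
  letI := ψ.toAlgebra
  letI := φ'.toAlgebra
  letI := ψ'.toAlgebra
  letI : Algebra R S' := (φ'.comp ψ).toAlgebra
  haveI : IsScalarTower R R' S' := IsScalarTower.of_algebraMap_eq fun _ => rfl
  have hcomm : ∀ r : R, ψ' (φ r) = φ' (ψ r) := by
    intro r
    have := congrArg (fun f => f.hom r) sq.w
    exact this.symm
  haveI : IsScalarTower R S S' := IsScalarTower.of_algebraMap_eq fun r => (hcomm r).symm
  have hpo : Algebra.IsPushout R R' S S' := CommRingCat.isPushout_iff_isPushout.mp sq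
  have hbc : IsBaseChange R' (IsScalarTower.toAlgHom R S S').toLinearMap := hpo.out
  obtain ⟨θ, hθ⟩ : ∃ θ : R' ⊗[R] S ≃ₗ[R'] S', ∀ (r' : R') (s : S), θ (r' ⊗ₜ s) = r' • ψ' s :=
    ⟨hbc.equiv, fun r' s => hbc.equiv_tmul r' s⟩
  let e'' : ((R' ⊗[R] S) × (R' ⊗[R] Q)) ≃ₗ[R'] (R' ⊗[R] N) :=
    (TensorProduct.prodRight R R' R' S Q).symm ≪≫ₗ (LinearEquiv.baseChange R R' _ _ e)
  let e' : (S' × (R' ⊗[R] Q)) ≃ₗ[R'] (R' ⊗[R] N) :=
    (θ.symm.prodCongr (LinearEquiv.refl R' (R' ⊗[R] Q))) ≪≫ₗ e''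
  refine ⟨R' ⊗[R] Q, R' ⊗[R] N, inferInstance, inferInstance, inferInstance,
    inferInstance, e', Algebra.TensorProduct.basis R' bN, ?_⟩
  intro b k
  have key : enD e' (ψ' b) (ψ k) = (enD e b k).baseChange R' := by
    apply TensorProduct.AlgebraTensorModule.ext
    intro r' v
    obtain ⟨⟨s, q⟩, rfl⟩ := e.surjective v
    have h1 : ∀ (s : S) (q : Q), e' (r' • ψ' s, r' ⊗ₜ[R] q) = r' ⊗ₜ[R] e (s, q) := by
      intro s q
      simp only [e', e'', LinearEquiv.trans_apply, LinearEquiv.prodCongr_apply,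
        LinearEquiv.refl_apply]
      rw [← hθ, LinearEquiv.symm_apply_apply, TensorProduct.prodRight_symm_tmul,
        LinearEquiv.baseChange_tmul]
    rw [LinearMap.baseChange_tmul, enD_apply, ← h1, enD_apply, ← h1]
    congr 2
    · rw [map_mul, mul_smul_comm]
    · have h2 : ψ k • (r' ⊗ₜ[R] q : R' ⊗[R] Q) = (ψ k • r') ⊗ₜ[R] q :=
        TensorProduct.smul_tmul' (ψ k) r' q
      rw [h2]
      exact (TensorProduct.smul_tmul (R := R) (R' := R) k r' q)
  rw [key]
  exact LinearMap.toMatrix_baseChange (A := R') (enD e b k) bN bN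

/-- Base change of the norm and the rank polynomial along a pushout square. -/
theorem exists_compl_baseChange' {R S R' S' : Type u} [CommRing R] [CommRing S] [CommRing R']
    [CommRing S']
    (φ : R →+* S) (ψ : R →+* R') (φ' : R' →+* S') (ψ' : S →+* S')
    (sq : IsPushout (CommRingCat.ofHom ψ) (CommRingCat.ofHom φ) (CommRingCat.ofHom φ')
      (CommRingCat.ofHom ψ'))
    {Q N : Type u} [AddCommGroup Q] [Module R Q] [AddCommGroup N] [Module R N]
    {ι : Type} [Fintype ι] [DecidableEq ι]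
    (e : letI := φ.toAlgebra; (S × Q) ≃ₗ[R] N) (bN : Module.Basis ι R N) :
    letI := φ.toAlgebra
    letI := φ'.toAlgebra
    ∃ (Q' N' : Type u) (_ : AddCommGroup Q') (_ : Module R' Q') (_ : AddCommGroup N')
      (_ : Module R' N') (e' : (S' × Q') ≃ₗ[R'] N') (bN' : Module.Basis ι R' N'),
      (∀ b : S, nrm e' (ψ' b) = ψ (nrm e b)) ∧ rho e' bN' = (rho e bN).map ψ := by
  letI := φ.toAlgebra
  letI := φ'.toAlgebra
  obtain ⟨Q', N', _, _, _, _, e', bN', h⟩ := exists_compl_baseChange φ ψ φ' ψ' sq e bN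
  refine ⟨Q', N', inferInstance, inferInstance, inferInstance, inferInstance, e', bN', ?_, ?_⟩
  · intro b
    unfold nrm
    rw [← LinearMap.det_toMatrix bN', ← LinearMap.det_toMatrix bN, RingHom.map_det]
    have := h b 1
    rw [map_one] at this
    rw [this]
    rfl
  · unfold rho Pm
    have := h 1 0
    rw [map_one, map_zero] at this
    rw [this, rhoM_map]

theorem isPushout_includeLeft {C R S : Type u} [CommRing C] [CommRing R] [CommRing S]
    [Algebra C R] [Algebra C S] (φ : R →ₐ[C] S) (C₁ : Type u) [CommRing C₁] [Algebra C C₁] :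
    IsPushout (CommRingCat.ofHom (Algebra.TensorProduct.includeLeftRingHom : R →+* R ⊗[C] C₁))
      (CommRingCat.ofHom φ.toRingHom)
      (CommRingCat.ofHom (Algebra.TensorProduct.map φ (AlgHom.id C C₁)).toRingHom)
      (CommRingCat.ofHom (Algebra.TensorProduct.includeLeftRingHom : S →+* S ⊗[C] C₁)) := by
  letI := φ.toRingHom.toAlgebra
  haveI : IsScalarTower C R S := .of_algebraMap_eq (fun c => (φ.commutes c).symm)
  letI : Algebra (R ⊗[C] C₁) (S ⊗[C] C₁) :=
    (Algebra.TensorProduct.map φ (AlgHom.id C C₁)).toRingHom.toAlgebra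
  haveI : IsScalarTower R (R ⊗[C] C₁) (S ⊗[C] C₁) := .of_algebraMap_eq (fun r => by
    show (algebraMap R S r) ⊗ₜ[C] (1 : C₁) = Algebra.TensorProduct.map φ (AlgHom.id C C₁) (r ⊗ₜ 1)
    rw [Algebra.TensorProduct.map_tmul]
    rfl)
  haveI H : Algebra.IsPushout R S (R ⊗[C] C₁) (S ⊗[C] C₁) :=
    Algebra.IsPushout.tensorProduct_tensorProduct C C₁ R S (by
      ext c
      show Algebra.TensorProduct.map φ (AlgHom.id C C₁) ((1 : R) ⊗ₜ c) = (1 : S) ⊗ₜ c
      rw [Algebra.TensorProduct.map_tmul, map_one]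
      rfl)
  have := CommRingCat.isPushout_of_isPushout R S (R ⊗[C] C₁) (S ⊗[C] C₁)
  exact this.flip

/-- Base change of a pushout square of `C`-algebras along `C → C₁`. -/
theorem isPushout_tensor {C R S R' S' : Type u} [CommRing C] [CommRing R] [CommRing S]
    [CommRing R'] [CommRing S'] [Algebra C R] [Algebra C S] [Algebra C R'] [Algebra C S']
    (ψ : R →ₐ[C] R') (φ : R →ₐ[C] S) (φ' : R' →ₐ[C] S') (ψ' : S →ₐ[C] S')
    (sq : IsPushout (CommRingCat.ofHom ψ.toRingHom) (CommRingCat.ofHom φ.toRingHom)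
      (CommRingCat.ofHom φ'.toRingHom) (CommRingCat.ofHom ψ'.toRingHom))
    (C₁ : Type u) [CommRing C₁] [Algebra C C₁] :
    IsPushout (CommRingCat.ofHom (Algebra.TensorProduct.map ψ (AlgHom.id C C₁)).toRingHom)
      (CommRingCat.ofHom (Algebra.TensorProduct.map φ (AlgHom.id C C₁)).toRingHom)
      (CommRingCat.ofHom (Algebra.TensorProduct.map φ' (AlgHom.id C C₁)).toRingHom)
      (CommRingCat.ofHom (Algebra.TensorProduct.map ψ' (AlgHom.id C C₁)).toRingHom) := by
  have hL := isPushout_includeLeft φ C₁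
  have hR := isPushout_includeLeft φ' C₁
  have hbig := sq.paste_horiz hR
  have e1 : CommRingCat.ofHom ψ.toRingHom ≫
      CommRingCat.ofHom (Algebra.TensorProduct.includeLeftRingHom : R' →+* R' ⊗[C] C₁) =
      CommRingCat.ofHom (Algebra.TensorProduct.includeLeftRingHom : R →+* R ⊗[C] C₁) ≫
      CommRingCat.ofHom (Algebra.TensorProduct.map ψ (AlgHom.id C C₁)).toRingHom := by
    ext r
    simp
  have e2 : CommRingCat.ofHom ψ'.toRingHom ≫
      CommRingCat.ofHom (Algebra.TensorProduct.includeLeftRingHom : S' →+* S' ⊗[C] C₁) =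
      CommRingCat.ofHom (Algebra.TensorProduct.includeLeftRingHom : S →+* S ⊗[C] C₁) ≫
      CommRingCat.ofHom (Algebra.TensorProduct.map ψ' (AlgHom.id C C₁)).toRingHom := by
    ext r
    simp
  rw [e1, e2] at hbig
  refine IsPushout.of_left hbig ?_ hL
  apply CommRingCat.hom_ext
  apply RingHom.ext
  intro x
  induction x using TensorProduct.induction_on with
  | zero => simp
  | tmul r c =>
    have h := congrArg (fun f => f.hom r) sq.w
    simp only [CommRingCat.hom_comp, CommRingCat.hom_ofHom, RingHom.coe_comp,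
      Function.comp_apply] at h
    simp only [CommRingCat.hom_comp, CommRingCat.hom_ofHom, RingHom.coe_comp,
      Function.comp_apply, AlgHom.toRingHom_eq_coe, RingHom.coe_coe,
      Algebra.TensorProduct.map_tmul, AlgHom.coe_id, id_eq]
    congr 1
  | add x y hx hy =>
    rw [map_add, map_add, hx, hy]


/-- Specialisation square: `(-) ⊗ C₀ → (-) ⊗ C₁` along `π₀ : C₀ → C₁`. -/
theorem isPushout_specialize {C R S : Type u} [CommRing C] [CommRing R] [CommRing S]
    [Algebra C R] [Algebra C S] (φ : R →ₐ[C] S) {C₀ C₁ : Type u} [CommRing C₀] [Algebra C C₀]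
    [CommRing C₁] [Algebra C C₁] (π₀ : C₀ →ₐ[C] C₁) :
    IsPushout (CommRingCat.ofHom (Algebra.TensorProduct.map (AlgHom.id C R) π₀).toRingHom)
      (CommRingCat.ofHom (Algebra.TensorProduct.map φ (AlgHom.id C C₀)).toRingHom)
      (CommRingCat.ofHom (Algebra.TensorProduct.map φ (AlgHom.id C C₁)).toRingHom)
      (CommRingCat.ofHom (Algebra.TensorProduct.map (AlgHom.id C S) π₀).toRingHom) := by
  have hL := isPushout_includeLeft φ C₀
  have hbig := isPushout_includeLeft φ C₁
  have e1 : CommRingCat.ofHom (Algebra.TensorProduct.includeLeftRingHom : R →+* R ⊗[C] C₁) =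
      CommRingCat.ofHom (Algebra.TensorProduct.includeLeftRingHom : R →+* R ⊗[C] C₀) ≫
      CommRingCat.ofHom (Algebra.TensorProduct.map (AlgHom.id C R) π₀).toRingHom := by
    ext r
    simp
  have e2 : CommRingCat.ofHom (Algebra.TensorProduct.includeLeftRingHom : S →+* S ⊗[C] C₁) =
      CommRingCat.ofHom (Algebra.TensorProduct.includeLeftRingHom : S →+* S ⊗[C] C₀) ≫
      CommRingCat.ofHom (Algebra.TensorProduct.map (AlgHom.id C S) π₀).toRingHom := by
    ext r
    simp
  rw [e1, e2] at hbig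
  refine IsPushout.of_left hbig ?_ hL
  apply CommRingCat.hom_ext
  apply RingHom.ext
  intro x
  induction x using TensorProduct.induction_on with
  | zero => simp
  | tmul r c =>
    simp only [CommRingCat.hom_comp, CommRingCat.hom_ofHom, RingHom.coe_comp,
      Function.comp_apply, AlgHom.toRingHom_eq_coe, RingHom.coe_coe,
      Algebra.TensorProduct.map_tmul, AlgHom.coe_id, id_eq]
  | add x y hx hy =>
    rw [map_add, map_add, hx, hy]

/-- The norm commutes with base change along a pushout square, for arbitrary complements. -/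
theorem nrm_map {R S R' S' : Type u} [CommRing R] [CommRing S] [CommRing R'] [CommRing S']
    (φ : R →+* S) (ψ : R →+* R') (φ' : R' →+* S') (ψ' : S →+* S')
    (sq : IsPushout (CommRingCat.ofHom ψ) (CommRingCat.ofHom φ) (CommRingCat.ofHom φ')
      (CommRingCat.ofHom ψ'))
    {Q N : Type u} [AddCommGroup Q] [Module R Q] [AddCommGroup N] [Module R N]
    {ι : Type} [Fintype ι] [DecidableEq ι]
    (e : letI := φ.toAlgebra; (S × Q) ≃ₗ[R] N) (bN : Module.Basis ι R N)
    {Q' N' : Type u} [AddCommGroup Q'] [Module R' Q'] [AddCommGroup N'] [Module R' N']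
    [Module.Free R' N'] [Module.Finite R' N']
    (e' : letI := φ'.toAlgebra; (S' × Q') ≃ₗ[R'] N') (b : S) :
    letI := φ.toAlgebra
    letI := φ'.toAlgebra
    nrm e' (ψ' b) = ψ (nrm e b) := by
  letI := φ.toAlgebra
  letI := φ'.toAlgebra
  obtain ⟨Q'', N'', _, _, _, _, e'', bN'', h, -⟩ := exists_compl_baseChange' φ ψ φ' ψ' sq e bN
  haveI : Module.Free R' N'' := Module.Free.of_basis bN''
  haveI : Module.Finite R' N'' := Module.Finite.of_basis bN''
  rw [← h b]
  exact nrm_indep e' e'' _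

/-- Two pushout squares with the same right leg: the two images of a norm agree. -/
theorem nrm_map_eq {R S R' S' : Type u} [CommRing R] [CommRing S] [CommRing R'] [CommRing S']
    (φ : R →+* S) (ψ₁ ψ₂ : R →+* R') (φ' : R' →+* S') (ψ'₁ ψ'₂ : S →+* S')
    (sq₁ : IsPushout (CommRingCat.ofHom ψ₁) (CommRingCat.ofHom φ) (CommRingCat.ofHom φ')
      (CommRingCat.ofHom ψ'₁))
    (sq₂ : IsPushout (CommRingCat.ofHom ψ₂) (CommRingCat.ofHom φ) (CommRingCat.ofHom φ')
      (CommRingCat.ofHom ψ'₂))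
    {Q N : Type u} [AddCommGroup Q] [Module R Q] [AddCommGroup N] [Module R N]
    {ι : Type} [Fintype ι] [DecidableEq ι]
    (e : letI := φ.toAlgebra; (S × Q) ≃ₗ[R] N) (bN : Module.Basis ι R N)
    (b : S) (hb : ψ'₁ b = ψ'₂ b) :
    letI := φ.toAlgebra
    ψ₁ (nrm e b) = ψ₂ (nrm e b) := by
  letI := φ.toAlgebra
  letI := φ'.toAlgebra
  obtain ⟨Q'', N'', _, _, _, _, e'', bN'', h, -⟩ :=
    exists_compl_baseChange' φ ψ₁ φ' ψ'₁ sq₁ e bN
  haveI : Module.Free R' N'' := Module.Free.of_basis bN''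
  haveI : Module.Finite R' N'' := Module.Finite.of_basis bN''
  rw [← h b, hb]
  exact nrm_map φ ψ₂ φ' ψ'₂ sq₂ e bN e'' b

end Groth.Agent.Lib.Helper20.HQ
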