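import Mathlib
import Groth.Agent.Lib.Helper20.HQ2

/-!
# HQ3: invariants of a finite locally free "groupoid of rings" under base change

Abstract setting: `C`-algebras `A B D`, `C`-algebra maps `s t : A → B`, `fst snd c : B → D`, with
pushout squares `(t, s, snd, fst)` and `(s, s, snd, c)`, `fst ∘ t = c ∘ t`, and `C` the equalizer
of `s, t`.
-/

set_option autoImplicit false
universe u

namespace Groth.Agent.Lib.Helper20.HQ

open CategoryTheory CategoryTheory.Limits TensorProduct Polynomial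

section flat

variable {C A B : Type u} [CommRing C] [CommRing A] [CommRing B] [Algebra C A] [Algebra C B]
  (s t : A →ₐ[C] B)

theorem rTensor_algHom_apply (C₁ : Type u) [CommRing C₁] [Algebra C C₁] (x : A ⊗[C] C₁) :
    s.toLinearMap.rTensor C₁ x = Algebra.TensorProduct.map s (AlgHom.id C C₁) x := by
  induction x using TensorProduct.induction_on with
  | zero => simp
  | tmul a c => simp
  | add x y hx hy => rw [map_add, map_add, hx, hy]

include s t in
theorem mem_range_includeRight_of_flat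
    (hC : ∀ a, s a = t a → a ∈ Set.range (algebraMap C A))
    (C₁ : Type u) [CommRing C₁] [Algebra C C₁] [Module.Flat C C₁] (x : A ⊗[C] C₁)
    (hx : Algebra.TensorProduct.map s (AlgHom.id C C₁) x =
      Algebra.TensorProduct.map t (AlgHom.id C C₁) x) :
    x ∈ Set.range (Algebra.TensorProduct.includeRight : C₁ →ₐ[C] A ⊗[C] C₁) := by
  let i : C →ₗ[C] A := Algebra.linearMap C A
  let d : A →ₗ[C] B := s.toLinearMap - t.toLinearMap
  have hex : Function.Exact i d := by
    intro a
    constructor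
    · intro ha
      have : s a = t a := by
        have : s a - t a = 0 := ha
        exact sub_eq_zero.mp this
      exact hC a this
    · rintro ⟨c, rfl⟩
      show s (algebraMap C A c) - t (algebraMap C A c) = 0
      rw [AlgHom.commutes, AlgHom.commutes, sub_self]
  have hex' := Module.Flat.rTensor_exact C₁ hex
  have hdx : d.rTensor C₁ x = 0 := by
    show (s.toLinearMap - t.toLinearMap).rTensor C₁ x = 0
    rw [LinearMap.rTensor_sub, LinearMap.sub_apply, rTensor_algHom_apply, rTensor_algHom_apply, hx,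
      sub_self]
  have hgen : ∀ y : C ⊗[C] C₁, (Algebra.TensorProduct.includeRight : C₁ →ₐ[C] A ⊗[C] C₁)
      (TensorProduct.lid C C₁ y) = i.rTensor C₁ y := by
    intro y
    induction y using TensorProduct.induction_on with
    | zero => simp
    | tmul c c₁ =>
      simp only [TensorProduct.lid_tmul, Algebra.TensorProduct.includeRight_apply,
        LinearMap.rTensor_tmul, i, Algebra.linearMap_apply]
      rw [TensorProduct.tmul_smul, TensorProduct.smul_tmul', Algebra.smul_def, mul_one]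
    | add x y hx hy => rw [map_add, map_add, map_add, hx, hy]
  obtain ⟨y, hy⟩ := (hex' x).mp hdx
  exact ⟨TensorProduct.lid C C₁ y, (hgen y).trans hy⟩

theorem includeRight_injective_of_flat (hinj : Function.Injective (algebraMap C A))
    (C₁ : Type u) [CommRing C₁] [Algebra C C₁] [Module.Flat C C₁] :
    Function.Injective (Algebra.TensorProduct.includeRight : C₁ →ₐ[C] A ⊗[C] C₁) := by
  have h1 : Function.Injective ((Algebra.linearMap C A).rTensor C₁) :=
    Module.Flat.rTensor_preserves_injective_linearMap _ hinj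
  intro x y hxy
  apply (TensorProduct.lid C C₁).symm.injective
  apply h1
  simpa using hxy

end flat

section main

variable {C A B D : Type u} [CommRing C] [CommRing A] [CommRing B] [CommRing D]
  [Algebra C A] [Algebra C B] [Algebra C D]

/-- base change of an algebra map along `C → C₁`. -/
noncomputable abbrev bc {X Y : Type u} [CommRing X] [CommRing Y] [Algebra C X] [Algebra C Y]
    (f : X →ₐ[C] Y) (C₁ : Type u) [CommRing C₁] [Algebra C C₁] :
    X ⊗[C] C₁ →ₐ[C] Y ⊗[C] C₁ :=
  Algebra.TensorProduct.map f (AlgHom.id C C₁)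

theorem bc_comp_apply {X Y Z : Type u} [CommRing X] [CommRing Y] [CommRing Z] [Algebra C X]
    [Algebra C Y] [Algebra C Z] (f : X →ₐ[C] Y) (g : Y →ₐ[C] Z) (C₁ : Type u) [CommRing C₁]
    [Algebra C C₁] (x : X ⊗[C] C₁) : bc g C₁ (bc f C₁ x) = bc (g.comp f) C₁ x := by
  induction x using TensorProduct.induction_on with
  | zero => simp
  | tmul a c => simp
  | add x y hx hy => rw [map_add, map_add, map_add, hx, hy]

theorem bc_specialize_apply {X Y : Type u} [CommRing X] [CommRing Y] [Algebra C X]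
    [Algebra C Y] (f : X →ₐ[C] Y) {C₀ C₁ : Type u} [CommRing C₀] [Algebra C C₀] [CommRing C₁]
    [Algebra C C₁] (π₀ : C₀ →ₐ[C] C₁) (x : X ⊗[C] C₀) :
    bc f C₁ (Algebra.TensorProduct.map (AlgHom.id C X) π₀ x) =
      Algebra.TensorProduct.map (AlgHom.id C Y) π₀ (bc f C₀ x) := by
  induction x using TensorProduct.induction_on with
  | zero => simp
  | tmul a c => simp
  | add x y hx hy => rw [map_add, map_add, map_add, map_add, hx, hy]

variable (s t : A →ₐ[C] B) (fst snd c : B →ₐ[C] D)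

set_option maxHeartbeats 1000000 in
/-- The norm of `t₁ g` lies in the image of `C₁`, for every `C`-algebra `C₁`. -/
theorem nrm_t_mem_range
    (sq1 : IsPushout (CommRingCat.ofHom t.toRingHom) (CommRingCat.ofHom s.toRingHom)
      (CommRingCat.ofHom snd.toRingHom) (CommRingCat.ofHom fst.toRingHom))
    (sq2 : IsPushout (CommRingCat.ofHom s.toRingHom) (CommRingCat.ofHom s.toRingHom)
      (CommRingCat.ofHom snd.toRingHom) (CommRingCat.ofHom c.toRingHom))
    (hct : ∀ a, fst (t a) = c (t a))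
    (hC : ∀ a, s a = t a → a ∈ Set.range (algebraMap C A))
    {Q N : Type u} [AddCommGroup Q] [Module A Q] [AddCommGroup N] [Module A N]
    {ι : Type} [Fintype ι] [DecidableEq ι]
    (e : letI := s.toRingHom.toAlgebra; (B × Q) ≃ₗ[A] N) (bN : Module.Basis ι A N)
    (C₁ : Type u) [CommRing C₁] [Algebra C C₁]
    {Q₁ N₁ : Type u} [AddCommGroup Q₁] [Module (A ⊗[C] C₁) Q₁] [AddCommGroup N₁]
    [Module (A ⊗[C] C₁) N₁] [Module.Free (A ⊗[C] C₁) N₁] [Module.Finite (A ⊗[C] C₁) N₁]
    (e₁ : letI := (bc s C₁).toRingHom.toAlgebra; ((B ⊗[C] C₁) × Q₁) ≃ₗ[A ⊗[C] C₁] N₁)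
    (g : A ⊗[C] C₁) :
    letI := (bc s C₁).toRingHom.toAlgebra
    nrm e₁ (bc t C₁ g) ∈
      Set.range (Algebra.TensorProduct.includeRight : C₁ →ₐ[C] A ⊗[C] C₁) := by
  classical
  obtain ⟨C₀, hC₀⟩ : ∃ C₀ : Type u, C₀ = MvPolynomial C₁ C := ⟨_, rfl⟩
  subst hC₀
  let π₀ : MvPolynomial C₁ C →ₐ[C] C₁ := MvPolynomial.aeval id
  have hπ₀ : Function.Surjective π₀ := fun x => ⟨MvPolynomial.X x, by simp [π₀]⟩
  let ηA : A ⊗[C] MvPolynomial C₁ C →ₐ[C] A ⊗[C] C₁ :=
    Algebra.TensorProduct.map (AlgHom.id C A) π₀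
  let ηB : B ⊗[C] MvPolynomial C₁ C →ₐ[C] B ⊗[C] C₁ :=
    Algebra.TensorProduct.map (AlgHom.id C B) π₀
  have hηA : Function.Surjective ηA :=
    Algebra.TensorProduct.map_surjective (f := AlgHom.id C A) (g := π₀)
      Function.surjective_id hπ₀
  obtain ⟨g₀, rfl⟩ := hηA g
  letI algA : Algebra A B := s.toRingHom.toAlgebra
  letI alg₀ : Algebra (A ⊗[C] MvPolynomial C₁ C) (B ⊗[C] MvPolynomial C₁ C) :=
    (bc s (MvPolynomial C₁ C)).toRingHom.toAlgebra
  letI alg₁ : Algebra (A ⊗[C] C₁) (B ⊗[C] C₁) := (bc s C₁).toRingHom.toAlgebra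
  obtain ⟨Q₀, N₀, _, _, _, _, e₀, bN₀, -, -⟩ := exists_compl_baseChange' s.toRingHom
    (Algebra.TensorProduct.includeLeftRingHom : A →+* A ⊗[C] MvPolynomial C₁ C)
    (bc s (MvPolynomial C₁ C)).toRingHom
    (Algebra.TensorProduct.includeLeftRingHom : B →+* B ⊗[C] MvPolynomial C₁ C)
    (isPushout_includeLeft s (MvPolynomial C₁ C)) e bN
  have sq1₀ := isPushout_tensor t s snd fst sq1 (MvPolynomial C₁ C)
  have sq2₀ := isPushout_tensor s s snd c sq2 (MvPolynomial C₁ C)
  have hb : bc fst (MvPolynomial C₁ C) (bc t (MvPolynomial C₁ C) g₀) =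
      bc c (MvPolynomial C₁ C) (bc t (MvPolynomial C₁ C) g₀) := by
    rw [bc_comp_apply, bc_comp_apply]
    have : fst.comp t = c.comp t := AlgHom.ext hct
    rw [this]
  have hinv := nrm_map_eq (bc s (MvPolynomial C₁ C)).toRingHom
    (bc t (MvPolynomial C₁ C)).toRingHom (bc s (MvPolynomial C₁ C)).toRingHom
    (bc snd (MvPolynomial C₁ C)).toRingHom (bc fst (MvPolynomial C₁ C)).toRingHom
    (bc c (MvPolynomial C₁ C)).toRingHom sq1₀ sq2₀ e₀ bN₀ (bc t (MvPolynomial C₁ C) g₀) hb
  obtain ⟨p₀, hp₀⟩ := mem_range_includeRight_of_flat s t hC (MvPolynomial C₁ C)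
    (nrm e₀ (bc t (MvPolynomial C₁ C) g₀)) hinv.symm
  have hsp := nrm_map (bc s (MvPolynomial C₁ C)).toRingHom ηA.toRingHom (bc s C₁).toRingHom
    ηB.toRingHom (isPushout_specialize s π₀) e₀ bN₀ e₁ (bc t (MvPolynomial C₁ C) g₀)
  refine ⟨π₀ p₀, ?_⟩
  have h1 : bc t C₁ (ηA g₀) = ηB (bc t (MvPolynomial C₁ C) g₀) := bc_specialize_apply t π₀ g₀
  rw [h1]
  refine Eq.trans ?_ hsp.symm
  rw [← hp₀]
  simp [ηA]

set_option maxHeartbeats 1000000 in
/-- For an invariant element `g` of `A ⊗ C₁`, the value at `g` of the rank polynomial lies in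
the image of `C₁`. -/
theorem eval_rho_mem_range
    (sq1 : IsPushout (CommRingCat.ofHom t.toRingHom) (CommRingCat.ofHom s.toRingHom)
      (CommRingCat.ofHom snd.toRingHom) (CommRingCat.ofHom fst.toRingHom))
    (sq2 : IsPushout (CommRingCat.ofHom s.toRingHom) (CommRingCat.ofHom s.toRingHom)
      (CommRingCat.ofHom snd.toRingHom) (CommRingCat.ofHom c.toRingHom))
    (hct : ∀ a, fst (t a) = c (t a))
    (hC : ∀ a, s a = t a → a ∈ Set.range (algebraMap C A))
    {Q N : Type u} [AddCommGroup Q] [Module A Q] [AddCommGroup N] [Module A N]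
    {ι : Type} [Fintype ι] [DecidableEq ι]
    (e : letI := s.toRingHom.toAlgebra; (B × Q) ≃ₗ[A] N) (bN : Module.Basis ι A N)
    (C₁ : Type u) [CommRing C₁] [Algebra C C₁]
    (g : A ⊗[C] C₁) (hg : bc s C₁ g = bc t C₁ g) :
    letI := s.toRingHom.toAlgebra
    eval g ((rho e bN).map (Algebra.TensorProduct.includeLeftRingHom : A →+* A ⊗[C] C₁)) ∈
      Set.range (Algebra.TensorProduct.includeRight : C₁ →ₐ[C] A ⊗[C] C₁) := by
  letI algA : Algebra A B := s.toRingHom.toAlgebra
  letI alg₁ : Algebra (A ⊗[C] C₁) (B ⊗[C] C₁) := (bc s C₁).toRingHom.toAlgebra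
  obtain ⟨Q₁, N₁, _, _, _, _, e₁, bN₁, -, hrho⟩ := exists_compl_baseChange' s.toRingHom
    (Algebra.TensorProduct.includeLeftRingHom : A →+* A ⊗[C] C₁)
    (bc s C₁).toRingHom
    (Algebra.TensorProduct.includeLeftRingHom : B →+* B ⊗[C] C₁)
    (isPushout_includeLeft s C₁) e bN
  haveI : Module.Free (A ⊗[C] C₁) N₁ := Module.Free.of_basis bN₁
  haveI : Module.Finite (A ⊗[C] C₁) N₁ := Module.Finite.of_basis bN₁
  have h := nrm_t_mem_range s t fst snd c sq1 sq2 hct hC e bN C₁ e₁ g
  rw [← hg] at h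
  have h2 : nrm e₁ (bc s C₁ g) = eval g (rho e₁ bN₁) := nrm_algebraMap e₁ bN₁ g
  rw [h2, hrho] at h
  exact h

end main

end Groth.Agent.Lib.Helper20.HQ
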