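import Mathlib

/-!
# KM3: elementwise ind-étale algebras and limit arguments

`IndEt C D`: the flat `C`-algebra `D` is, elementwise, a filtered colimit of étale `C`-algebras
("stages").  Consequences for tensor products `P ⊗[C] D`.
-/

set_option autoImplicit false
set_option linter.style.haveILetI false
set_option linter.unusedSectionVars false
universe u

namespace Groth.Agent.Lib.Helper20.KM

open TensorProduct

section

variable (C D : Type u) [CommRing C] [CommRing D] [Algebra C D]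

/-- a stage: an étale `C`-algebra with a map to `D`. -/
structure Stage where
  E : Type u
  [cr : CommRing E]
  [alg : Algebra C E]
  [et : Algebra.Etale C E]
  φ : E →ₐ[C] D

attribute [instance] Stage.cr Stage.alg Stage.et

variable {C D}

/-- morphisms of stages. -/
structure Stage.Hom (X Y : Stage C D) where
  ψ : X.E →ₐ[C] Y.E
  comm : Y.φ.comp ψ = X.φ

namespace Stage

variable {X Y Z : Stage C D}

/-- identity. -/
def Hom.id (X : Stage C D) : Hom X X := ⟨AlgHom.id C X.E, AlgHom.comp_id _⟩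

/-- composition. -/
def Hom.comp (g : Hom Y Z) (f : Hom X Y) : Hom X Z :=
  ⟨g.ψ.comp f.ψ, by rw [← AlgHom.comp_assoc, g.comm, f.comm]⟩

theorem Hom.comm_apply (f : Hom X Y) (x : X.E) : Y.φ (f.ψ x) = X.φ x :=
  AlgHom.congr_fun f.comm x

theorem Hom.comp_ψ_apply (g : Hom Y Z) (f : Hom X Y) (x : X.E) :
    (g.comp f).ψ x = g.ψ (f.ψ x) := rfl

/-- the tensor product of two stages. -/
noncomputable def sup (X Y : Stage C D) : Stage C D where
  E := X.E ⊗[C] Y.E
  et := Algebra.Etale.comp C X.E (X.E ⊗[C] Y.E)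
  φ := Algebra.TensorProduct.lift X.φ Y.φ (fun _ _ => Commute.all _ _)

/-- left inclusion. -/
noncomputable def supLeft (X Y : Stage C D) : Hom X (X.sup Y) :=
  ⟨Algebra.TensorProduct.includeLeft, by
    ext x
    show Algebra.TensorProduct.lift X.φ Y.φ (fun _ _ => Commute.all _ _)
      (x ⊗ₜ[C] (1 : Y.E)) = X.φ x
    rw [Algebra.TensorProduct.lift_tmul, map_one, mul_one]⟩

/-- right inclusion. -/
noncomputable def supRight (X Y : Stage C D) : Hom Y (X.sup Y) :=
  ⟨Algebra.TensorProduct.includeRight, by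
    ext x
    show Algebra.TensorProduct.lift X.φ Y.φ (fun _ _ => Commute.all _ _)
      ((1 : X.E) ⊗ₜ[C] x) = Y.φ x
    rw [Algebra.TensorProduct.lift_tmul, map_one, one_mul]⟩

end Stage

variable (C D)

/-- `D` is elementwise ind-étale over `C`. -/
structure IndEt : Prop where
  flat : Module.Flat C D
  rep : ∀ d : D, ∃ (X : Stage C D) (x : X.E), X.φ x = d
  kill : ∀ (X : Stage C D) (x : X.E), X.φ x = 0 → ∃ (Y : Stage C D) (f : Stage.Hom X Y), f.ψ x = 0

variable {C D}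

namespace IndEt

variable (h : IndEt C D)

include h in
theorem rep_over (X₀ : Stage C D) (d : D) :
    ∃ (Y : Stage C D) (_ : Stage.Hom X₀ Y) (y : Y.E), Y.φ y = d := by
  obtain ⟨X, x, hx⟩ := h.rep d
  refine ⟨X₀.sup X, Stage.supLeft X₀ X, (Stage.supRight X₀ X).ψ x, ?_⟩
  rw [Stage.Hom.comm_apply, hx]

include h in
theorem kill_finset (X : Stage C D) (s : Finset X.E) (hs : ∀ x ∈ s, X.φ x = 0) :
    ∃ (Y : Stage C D) (f : Stage.Hom X Y), ∀ x ∈ s, f.ψ x = 0 := by
  classical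
  induction s using Finset.induction_on with
  | empty => exact ⟨X, Stage.Hom.id X, fun x hx => absurd hx (Finset.notMem_empty x)⟩
  | insert a s _ ih =>
    obtain ⟨Y₁, f₁, h₁⟩ := ih (fun x hx => hs x (Finset.mem_insert_of_mem hx))
    have ha : Y₁.φ (f₁.ψ a) = 0 := by
      rw [Stage.Hom.comm_apply]
      exact hs a (Finset.mem_insert_self a s)
    obtain ⟨Y₂, f₂, h₂⟩ := h.kill Y₁ (f₁.ψ a) ha
    refine ⟨Y₂, f₂.comp f₁, fun x hx => ?_⟩
    rw [Stage.Hom.comp_ψ_apply]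
    rcases Finset.mem_insert.mp hx with rfl | hx
    · exact h₂
    · rw [h₁ x hx, map_zero]

include h in
theorem kill_fin (X : Stage C D) {ι : Type*} [Finite ι] (x : ι → X.E)
    (hx : ∀ i, X.φ (x i) = 0) :
    ∃ (Y : Stage C D) (f : Stage.Hom X Y), ∀ i, f.ψ (x i) = 0 := by
  classical
  haveI := Fintype.ofFinite ι
  obtain ⟨Y, f, hf⟩ := h.kill_finset X (Finset.univ.image x) (fun y hy => by
    obtain ⟨i, -, rfl⟩ := Finset.mem_image.mp hy
    exact hx i)
  exact ⟨Y, f, fun i => hf _ (Finset.mem_image_of_mem x (Finset.mem_univ i))⟩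

include h in
theorem rep_finset (X₀ : Stage C D) (s : Finset D) :
    ∃ (Y : Stage C D) (_ : Stage.Hom X₀ Y), ∀ d ∈ s, d ∈ Set.range Y.φ := by
  classical
  induction s using Finset.induction_on with
  | empty => exact ⟨X₀, Stage.Hom.id X₀, fun x hx => absurd hx (Finset.notMem_empty x)⟩
  | insert a s _ ih =>
    obtain ⟨Y₁, f₁, h₁⟩ := ih
    obtain ⟨Y₂, f₂, y, hy⟩ := h.rep_over Y₁ a
    refine ⟨Y₂, f₂.comp f₁, fun d hd => ?_⟩
    rcases Finset.mem_insert.mp hd with rfl | hd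
    · exact ⟨y, hy⟩
    · obtain ⟨z, hz⟩ := h₁ d hd
      exact ⟨f₂.ψ z, by rw [Stage.Hom.comm_apply, hz]⟩

include h in
theorem rep_fin (X₀ : Stage C D) {ι : Type*} [Finite ι] (d : ι → D) :
    ∃ (Y : Stage C D) (_ : Stage.Hom X₀ Y) (y : ι → Y.E), ∀ i, Y.φ (y i) = d i := by
  classical
  haveI := Fintype.ofFinite ι
  obtain ⟨Y, f, hf⟩ := h.rep_finset X₀ (Finset.univ.image d)
  have : ∀ i, ∃ y, Y.φ y = d i := fun i =>
    hf _ (Finset.mem_image_of_mem d (Finset.mem_univ i))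
  choose y hy using this
  exact ⟨Y, f, y, hy⟩

end IndEt

end

section tensor

variable {C D : Type u} [CommRing C] [CommRing D] [Algebra C D]
variable (P : Type u) [CommRing P] [Algebra C P]

/-- base change `P ⊗ E → P ⊗ E'` of an algebra map. -/
noncomputable abbrev lT {E E' : Type u} [CommRing E] [Algebra C E] [CommRing E'] [Algebra C E']
    (ψ : E →ₐ[C] E') : P ⊗[C] E →ₐ[P] P ⊗[C] E' :=
  Algebra.TensorProduct.map (AlgHom.id P P) ψ

theorem lT_tmul {E E' : Type u} [CommRing E] [Algebra C E] [CommRing E'] [Algebra C E']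
    (ψ : E →ₐ[C] E') (p : P) (e : E) : lT P ψ (p ⊗ₜ e) = p ⊗ₜ ψ e := by
  simp [lT]

theorem lT_comp_apply {E E' E'' : Type u} [CommRing E] [Algebra C E] [CommRing E'] [Algebra C E']
    [CommRing E''] [Algebra C E''] (ψ : E →ₐ[C] E') (ψ' : E' →ₐ[C] E'') (x : P ⊗[C] E) :
    lT P ψ' (lT P ψ x) = lT P (ψ'.comp ψ) x := by
  induction x using TensorProduct.induction_on with
  | zero => simp
  | tmul p e => simp [lT]
  | add x y hx hy => rw [map_add, map_add, map_add, hx, hy]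

namespace IndEt

variable (h : IndEt C D)

include h in
theorem tensor_rep (X₀ : Stage C D) (z : P ⊗[C] D) :
    ∃ (Y : Stage C D) (_ : Stage.Hom X₀ Y) (y : P ⊗[C] Y.E), lT P Y.φ y = z := by
  induction z using TensorProduct.induction_on generalizing X₀ with
  | zero => exact ⟨X₀, Stage.Hom.id X₀, 0, map_zero _⟩
  | tmul p d =>
    obtain ⟨Y, f, y, hy⟩ := h.rep_over X₀ d
    exact ⟨Y, f, p ⊗ₜ y, by rw [lT_tmul, hy]⟩
  | add z₁ z₂ ih₁ ih₂ =>
    obtain ⟨Y₁, f₁, y₁, hy₁⟩ := ih₁ X₀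
    obtain ⟨Y₂, f₂, y₂, hy₂⟩ := ih₂ Y₁
    refine ⟨Y₂, f₂.comp f₁, lT P f₂.ψ y₁ + y₂, ?_⟩
    rw [map_add, lT_comp_apply, f₂.comm, hy₁, hy₂]

include h in
theorem tensor_rep_fin (X₀ : Stage C D) {ι : Type*} [Finite ι] (z : ι → P ⊗[C] D) :
    ∃ (Y : Stage C D) (_ : Stage.Hom X₀ Y) (y : ι → P ⊗[C] Y.E), ∀ i, lT P Y.φ (y i) = z i := by
  classical
  haveI := Fintype.ofFinite ι
  suffices H : ∀ s : Finset ι, ∃ (Y : Stage C D) (_ : Stage.Hom X₀ Y),
      ∀ i ∈ s, z i ∈ Set.range (lT P Y.φ) by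
    obtain ⟨Y, f, hf⟩ := H Finset.univ
    have : ∀ i, ∃ y, lT P Y.φ y = z i := fun i => hf i (Finset.mem_univ i)
    choose y hy using this
    exact ⟨Y, f, y, hy⟩
  intro s
  induction s using Finset.induction_on with
  | empty => exact ⟨X₀, Stage.Hom.id X₀, fun x hx => absurd hx (Finset.notMem_empty x)⟩
  | insert a s _ ih =>
    obtain ⟨Y₁, f₁, h₁⟩ := ih
    obtain ⟨Y₂, f₂, y, hy⟩ := h.tensor_rep P Y₁ (z a)
    refine ⟨Y₂, f₂.comp f₁, fun i hi => ?_⟩
    rcases Finset.mem_insert.mp hi with rfl | hi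
    · exact ⟨y, hy⟩
    · obtain ⟨w, hw⟩ := h₁ i hi
      exact ⟨lT P f₂.ψ w, by rw [lT_comp_apply, f₂.comm, hw]⟩

include h in
theorem tensor_kill (X : Stage C D) (y : P ⊗[C] X.E) (hy : lT P X.φ y = 0) :
    ∃ (Y : Stage C D) (f : Stage.Hom X Y), lT P f.ψ y = 0 := by
  classical
  haveI := h.flat
  obtain ⟨S, rfl⟩ := TensorProduct.exists_finset y
  let m : S → P := fun i => i.1.1
  let n : S → D := fun i => X.φ i.1.2
  have hmn : ∑ i : S, m i ⊗ₜ[C] n i = 0 := by
    rw [map_sum] at hy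
    rw [← hy, ← Finset.sum_coe_sort S]
    refine Finset.sum_congr rfl fun i _ => ?_
    rw [lT_tmul]
  have hm : Function.Injective
      (LinearMap.rTensor D (Submodule.span C (Set.range m)).subtype) :=
    Module.Flat.rTensor_preserves_injective_linearMap _ (Submodule.injective_subtype _)
  obtain ⟨k, a, y', hay, ham⟩ :=
    TensorProduct.vanishesTrivially_of_sum_tmul_eq_zero_of_rTensor_injective C hm hmn
  obtain ⟨Y₁, f₁, w, hw⟩ := h.rep_fin X y'
  have hu : ∀ i : S, Y₁.φ (f₁.ψ i.1.2 - ∑ j, a i j • w j) = 0 := by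
    intro i
    rw [map_sub, Stage.Hom.comm_apply, map_sum]
    simp only [map_smul, hw]
    rw [sub_eq_zero]
    exact hay i
  obtain ⟨Y₂, f₂, h₂⟩ := h.kill_fin Y₁ (fun i : S => f₁.ψ i.1.2 - ∑ j, a i j • w j) hu
  refine ⟨Y₂, f₂.comp f₁, ?_⟩
  rw [map_sum, ← Finset.sum_coe_sort S]
  have hvt : TensorProduct.VanishesTrivially C m (fun i : S => (f₂.comp f₁).ψ i.1.2) := by
    refine ⟨k, a, fun j => f₂.ψ (w j), fun i => ?_, ham⟩
    have := h₂ i
    rw [map_sub, sub_eq_zero, map_sum] at this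
    simp only [map_smul] at this
    show (f₂.comp f₁).ψ i.1.2 = ∑ j, a i j • f₂.ψ (w j)
    rw [Stage.Hom.comp_ψ_apply]
    exact this
  have := TensorProduct.sum_tmul_eq_zero_of_vanishesTrivially C hvt
  rw [← this]
  refine Finset.sum_congr rfl fun i _ => ?_
  rw [lT_tmul]

include h in
theorem tensor_kill_fin (X : Stage C D) {ι : Type*} [Finite ι] (y : ι → P ⊗[C] X.E)
    (hy : ∀ i, lT P X.φ (y i) = 0) :
    ∃ (Y : Stage C D) (f : Stage.Hom X Y), ∀ i, lT P f.ψ (y i) = 0 := by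
  classical
  haveI := Fintype.ofFinite ι
  suffices H : ∀ s : Finset ι, ∃ (Y : Stage C D) (f : Stage.Hom X Y),
      ∀ i ∈ s, lT P f.ψ (y i) = 0 by
    obtain ⟨Y, f, hf⟩ := H Finset.univ
    exact ⟨Y, f, fun i => hf i (Finset.mem_univ i)⟩
  intro s
  induction s using Finset.induction_on with
  | empty => exact ⟨X, Stage.Hom.id X, fun x hx => absurd hx (Finset.notMem_empty x)⟩
  | insert a s _ ih =>
    obtain ⟨Y₁, f₁, h₁⟩ := ih
    have ha : lT P Y₁.φ (lT P f₁.ψ (y a)) = 0 := by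
      rw [lT_comp_apply, f₁.comm, hy a]
    obtain ⟨Y₂, f₂, h₂⟩ := h.tensor_kill P Y₁ _ ha
    refine ⟨Y₂, f₂.comp f₁, fun i hi => ?_⟩
    have e : lT P (f₂.comp f₁).ψ (y i) = lT P f₂.ψ (lT P f₁.ψ (y i)) := by
      rw [lT_comp_apply]
      rfl
    rw [e]
    rcases Finset.mem_insert.mp hi with rfl | hi
    · exact h₂
    · rw [h₁ i hi, map_zero]

end IndEt

end tensor

end Groth.Agent.Lib.Helper20.KM
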