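import Mathlib
import Groth.Agent.Lib.Helper20.KM3
import Groth.Agent.Lib.Helper4.HzsStrict

/-!
# KM4: the strict henselization of `C` at a prime `p` is elementwise ind-étale over `C`
-/

set_option autoImplicit false
set_option linter.style.haveILetI false
set_option linter.unusedSectionVars false
universe u

namespace Groth.Agent.Lib.Helper20.KM

open TensorProduct Polynomial IsLocalRing
open Groth.Agent.Lib.Helper4.Hzs

section kill

variable {C D : Type u} [CommRing C] [CommRing D] [Algebra C D]

set_option maxHeartbeats 1600000 in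
set_option synthInstance.maxHeartbeats 400000 in
theorem kill_of_flat_local [Module.Flat C D] [IsLocalRing D] (X : Stage C D) (x : X.E)
    (hx : X.φ x = 0) : ∃ (Y : Stage C D) (f : Stage.Hom X Y), f.ψ x = 0 := by
  classical
  letI : Algebra X.E D := X.φ.toRingHom.toAlgebra
  haveI : IsScalarTower C X.E D := .of_algebraMap_eq (fun c => (X.φ.commutes c).symm)
  haveI : Module.Flat X.E D := Algebra.FormallyUnramified.flat_of_restrictScalars C X.E D
  have hrel : ∑ i : Fin 1, (fun _ : Fin 1 => x) i • (fun _ : Fin 1 => (1 : D)) i = 0 := by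
    simp only [Finset.univ_unique, Finset.sum_singleton]
    rw [Algebra.smul_def, mul_one]
    exact hx
  obtain ⟨k, a, y, h1, h2⟩ := Module.Flat.isTrivialRelation_of_sum_smul_eq_zero (R := X.E) (M := D)
    (f := fun _ : Fin 1 => x) (x := fun _ : Fin 1 => (1 : D)) hrel
  have h1' : (1 : D) = ∑ j, X.φ (a 0 j) * y j := by
    have := h1 0
    simp only [Algebra.smul_def] at this
    exact this
  have h2' : ∀ j, x * a 0 j = 0 := by
    intro j
    have := h2 j
    simpa using this
  obtain ⟨j, hj⟩ : ∃ j, IsUnit (X.φ (a 0 j)) := by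
    by_contra hcon
    push Not at hcon
    have : (1 : D) ∈ maximalIdeal D := by
      rw [h1']
      refine Ideal.sum_mem _ fun j _ => Ideal.mul_mem_right _ _ ?_
      exact (mem_maximalIdeal _).mpr (hcon j)
    exact (Ideal.ne_top_iff_one _).mp (maximalIdeal.isMaximal D).ne_top this
  set b : X.E := a 0 j with hb
  let Y : Stage C D :=
    { E := Localization.Away b
      φ := IsLocalization.Away.liftAlgHom (A := C) (S := Localization.Away b) b (f := X.φ) hj }
  refine ⟨Y, ⟨IsScalarTower.toAlgHom C X.E (Localization.Away b), ?_⟩, ?_⟩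
  · ext z
    show IsLocalization.Away.lift b hj (algebraMap X.E (Localization.Away b) z) = X.φ z
    rw [IsLocalization.Away.lift_eq]
    rfl
  · show algebraMap X.E (Localization.Away b) x = 0
    rw [IsLocalization.map_eq_zero_iff (Submonoid.powers b)]
    exact ⟨⟨b, Submonoid.mem_powers b⟩, by rw [mul_comm]; exact h2' j⟩

end kill

section rep

variable {C D : Type u} [CommRing C] [CommRing D] [Algebra C D]

/-- `d` is in the image of an étale `C`-algebra. -/
def Rep (C : Type u) {D : Type u} [CommRing C] [CommRing D] [Algebra C D] (d : D) : Prop :=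
  ∃ (X : Stage C D) (x : X.E), X.φ x = d

theorem Rep.of_algebraMap (c : C) : Rep C (Algebra.ofId C D c) :=
  ⟨⟨C, Algebra.ofId C D⟩, c, rfl⟩

theorem Rep.add {d₁ d₂ : D} (h₁ : Rep C d₁) (h₂ : Rep C d₂) : Rep C (d₁ + d₂) := by
  obtain ⟨X₁, x₁, rfl⟩ := h₁
  obtain ⟨X₂, x₂, rfl⟩ := h₂
  refine ⟨X₁.sup X₂, (Stage.supLeft X₁ X₂).ψ x₁ + (Stage.supRight X₁ X₂).ψ x₂, ?_⟩
  rw [map_add, Stage.Hom.comm_apply, Stage.Hom.comm_apply]

theorem Rep.mul {d₁ d₂ : D} (h₁ : Rep C d₁) (h₂ : Rep C d₂) : Rep C (d₁ * d₂) := by
  obtain ⟨X₁, x₁, rfl⟩ := h₁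
  obtain ⟨X₂, x₂, rfl⟩ := h₂
  refine ⟨X₁.sup X₂, (Stage.supLeft X₁ X₂).ψ x₁ * (Stage.supRight X₁ X₂).ψ x₂, ?_⟩
  rw [map_mul, Stage.Hom.comm_apply, Stage.Hom.comm_apply]

theorem Rep.pow {d : D} (h : Rep C d) (n : ℕ) : Rep C (d ^ n) := by
  induction n with
  | zero =>
    rw [pow_zero, ← map_one (Algebra.ofId C D)]
    exact Rep.of_algebraMap 1
  | succ n ih =>
    rw [pow_succ]
    exact ih.mul h

theorem Rep.inv {d e : D} (h : Rep C d) (hde : d * e = 1) : Rep C e := by
  obtain ⟨X, x, rfl⟩ := h
  have hu : IsUnit (X.φ x) := IsUnit.of_mul_eq_one _ hde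
  let Y : Stage C D :=
    { E := Localization.Away x
      φ := IsLocalization.Away.liftAlgHom (A := C) (S := Localization.Away x) x (f := X.φ) hu }
  refine ⟨Y, IsLocalization.Away.invSelf x, ?_⟩
  have h1 : Y.φ (algebraMap X.E (Localization.Away x) x) = X.φ x := by
    show IsLocalization.Away.lift x hu (algebraMap X.E (Localization.Away x) x) = X.φ x
    rw [IsLocalization.Away.lift_eq]
    rfl
  have h2 : Y.φ (algebraMap X.E (Localization.Away x) x * IsLocalization.Away.invSelf x) = 1 := by
    rw [IsLocalization.Away.mul_invSelf, map_one]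
  rw [map_mul, h1] at h2
  calc Y.φ (IsLocalization.Away.invSelf x)
      = (X.φ x * e) * Y.φ (IsLocalization.Away.invSelf x) := by rw [hde, one_mul]
    _ = e * (X.φ x * Y.φ (IsLocalization.Away.invSelf x)) := by ring
    _ = e := by rw [h2, mul_one]

end rep

section Dp

variable {C : Type u} [CommRing C] (p : Ideal C) [p.IsPrime]

/-- the strict henselization of `C` at the prime `p`. -/
abbrev Dp : Type u := Hs (Localization.AtPrime p)

noncomputable instance : Algebra C (Dp p) :=
  ((algebraMap (Localization.AtPrime p) (Dp p)).comp (algebraMap C (Localization.AtPrime p))).toAlgebra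
instance : IsScalarTower C (Localization.AtPrime p) (Dp p) := .of_algebraMap_eq (fun _ => rfl)
instance : Module.Flat C (Dp p) := Module.Flat.trans C (Localization.AtPrime p) (Dp p)
instance : IsSepClosed (ResidueField (Dp p)) :=
  (Hs.isSepClosure (Localization.AtPrime p)).sep_closed

theorem algebraMap_mem_maximalIdeal_iff (c : C) :
    algebraMap C (Dp p) c ∈ maximalIdeal (Dp p) ↔ c ∈ p := by
  rw [mem_maximalIdeal, mem_nonunits_iff, IsScalarTower.algebraMap_apply C (Localization.AtPrime p)]
  rw [isUnit_map_iff (algebraMap (Localization.AtPrime p) (Dp p)),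
    IsLocalization.AtPrime.isUnit_to_map_iff (Localization.AtPrime p) p]
  exact not_not

theorem Hs_exists_etale_rep (R : Type u) [CommRing R] [IsLocalRing R] (d : Hs R) :
    ∃ (E : Type u) (_ : CommRing E) (_ : Algebra R E)
      (_ : Algebra.Etale R E) (φ : E →ₐ[R] Hs R)
      (c y : E), IsUnit (φ y) ∧ d * φ y = φ c := by
  obtain ⟨i, x, hx⟩ := DirectLimit.exists_eq_mk (fun i j h => tr i j h) d
  obtain ⟨ofG, hofG⟩ : ∃ ofG : Loc i.χ →ₐ[R] Hs R, ofG = DirectLimit.Algebra.of
      (fun i : Idx R => i.G) (fun i j h => tr i j h) i := ⟨_, rfl⟩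
  obtain ⟨x', hx'⟩ : ∃ x' : Loc i.χ, x' = x := ⟨x, rfl⟩
  have hd : d = ofG x' := by rw [hofG, hx', hx]; rfl
  obtain ⟨⟨c, y⟩, hcy⟩ := IsLocalization.surj (cker i.χ).primeCompl x'
  obtain ⟨ι, hι⟩ : ∃ ι : i.C →ₐ[R] Loc i.χ, ι = IsScalarTower.toAlgHom _ i.C (Loc i.χ) :=
    ⟨_, rfl⟩
  refine ⟨i.C, inferInstance, inferInstance, inferInstance, ofG.comp ι, c, y, ?_, ?_⟩
  · have : IsUnit (ι y) := by
      rw [hι]
      exact IsLocalization.map_units (Loc i.χ) y
    exact this.map ofG
  · have h1' : x' * ι y = ι c := by rw [hι]; exact hcy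
    have h2 : ofG (x' * ι y) = ofG (ι c) := congrArg ofG h1'
    rw [hd]
    exact (map_mul ofG x' (ι y)).symm.trans h2

section root

variable (D : Type u) [CommRing D] [Algebra C D] [Algebra (Localization.AtPrime p) D]
  [IsScalarTower C (Localization.AtPrime p) D]

set_option maxHeartbeats 1600000 in
set_option synthInstance.maxHeartbeats 400000 in
/-- a simple root in `D` of a monic polynomial over `C_p` lies in the image of an étale
`C`-algebra. -/
theorem rep_of_root (f : (Localization.AtPrime p)[X]) (hf : f.Monic) (θ : D)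
    (h0 : aeval θ f = 0) (h1 : IsUnit (aeval θ (derivative f))) : Rep C θ := by
  classical
  obtain ⟨b, hb⟩ := IsLocalization.exist_integer_multiples_of_finset p.primeCompl f.coeffs
  obtain ⟨u, hu⟩ : ∃ u : C, u = (b : C) := ⟨_, rfl⟩
  have hup : u ∉ p := by rw [hu]; exact b.2
  have hunit : IsUnit (algebraMap C (Localization.AtPrime p) u) :=
    (IsLocalization.AtPrime.isUnit_to_map_iff (Localization.AtPrime p) p u).mpr hup
  let ι : Localization.Away u →+* Localization.AtPrime p := IsLocalization.Away.lift u hunit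
  have hι : ∀ c : C, ι (algebraMap C (Localization.Away u) c) =
      algebraMap C (Localization.AtPrime p) c := fun c => IsLocalization.Away.lift_eq u hunit c
  letI : Algebra (Localization.Away u) (Localization.AtPrime p) := ι.toAlgebra
  haveI : IsScalarTower C (Localization.Away u) (Localization.AtPrime p) :=
    .of_algebraMap_eq (fun c => (hι c).symm)
  letI : Algebra (Localization.Away u) D :=
    ((algebraMap (Localization.AtPrime p) D).comp ι).toAlgebra
  haveI : IsScalarTower (Localization.Away u) (Localization.AtPrime p) D :=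
    .of_algebraMap_eq (fun _ => rfl)
  haveI : IsScalarTower C (Localization.Away u) D := .of_algebraMap_eq (fun c => by
    show algebraMap C D c = algebraMap (Localization.AtPrime p) D
      (ι (algebraMap C (Localization.Away u) c))
    rw [hι, ← IsScalarTower.algebraMap_apply])
  have hcoeff : ∀ n, f.coeff n ∈ Set.range ι := by
    intro n
    by_cases hn : f.coeff n = 0
    · exact ⟨0, by rw [map_zero, hn]⟩
    · have hmem : f.coeff n ∈ f.coeffs := Polynomial.coeff_mem_coeffs hn
      obtain ⟨c, hc⟩ := hb _ hmem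
      refine ⟨IsLocalization.mk' (Localization.Away u) c
        (⟨u, Submonoid.mem_powers u⟩ : Submonoid.powers u), ?_⟩
      have e1 : ι (IsLocalization.mk' (Localization.Away u) c
          (⟨u, Submonoid.mem_powers u⟩ : Submonoid.powers u)) *
          algebraMap C (Localization.AtPrime p) u = algebraMap C (Localization.AtPrime p) c := by
        rw [← hι u, ← map_mul, IsLocalization.mk'_spec, hι]
      rw [hc, Algebra.smul_def, ← hu] at e1
      rw [mul_comm] at e1
      exact hunit.mul_left_cancel e1
  have hlifts : f ∈ Polynomial.lifts ι := (Polynomial.lifts_iff_coeff_lifts f).mpr hcoeff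
  obtain ⟨ft, hftmap, -, hftmonic⟩ := Polynomial.lifts_and_natDegree_eq_and_monic hlifts hf
  let P : StandardEtalePair (Localization.Away u) := ⟨ft, hftmonic, derivative ft, ⟨1, 0, 1, by ring⟩⟩
  have haeval : ∀ q : (Localization.Away u)[X], aeval θ q = aeval θ (q.map ι) := by
    intro q
    exact (Polynomial.aeval_map_algebraMap (Localization.AtPrime p) θ q).symm
  have hmap : P.HasMap θ := by
    refine ⟨?_, ?_⟩
    · show aeval θ ft = 0
      rw [haeval, hftmap, h0]
    · show IsUnit (aeval θ (derivative ft))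
      rw [haeval, ← Polynomial.derivative_map, hftmap]
      exact h1
  letI : Algebra C P.Ring :=
    ((algebraMap (Localization.Away u) P.Ring).comp (algebraMap C (Localization.Away u))).toAlgebra
  haveI : IsScalarTower C (Localization.Away u) P.Ring := .of_algebraMap_eq (fun _ => rfl)
  haveI : Algebra.Etale C P.Ring := Algebra.Etale.comp C (Localization.Away u) P.Ring
  exact ⟨⟨P.Ring, (P.lift θ hmap).restrictScalars C⟩, P.X, P.lift_X θ hmap⟩

theorem rep_algebraMap_loc (r : Localization.AtPrime p) :
    Rep C (algebraMap (Localization.AtPrime p) D r) := by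
  refine rep_of_root p D (X - Polynomial.C r) (monic_X_sub_C r) _ ?_ ?_
  · rw [map_sub, aeval_X, aeval_C, sub_self]
  · rw [derivative_sub, derivative_X, derivative_C, sub_zero, map_one]
    exact isUnit_one

theorem rep_aeval {θ : D} (hθ : Rep C θ) (h : (Localization.AtPrime p)[X]) :
    Rep C (aeval θ h) := by
  induction h using Polynomial.induction_on' with
  | add q₁ q₂ h₁ h₂ =>
    rw [map_add]
    exact h₁.add h₂
  | monomial n a =>
    rw [Polynomial.aeval_monomial]
    exact (rep_algebraMap_loc p D a).mul (hθ.pow n)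

end root

set_option maxHeartbeats 1600000 in
set_option synthInstance.maxHeartbeats 400000 in
theorem rep_Dp (d : Dp p) : Rep C d := by
  obtain ⟨E, _, _, _, φ, c, y, hy, hdy⟩ := Hs_exists_etale_rep (Localization.AtPrime p) d
  have claim : ∀ e : E, Rep C (φ e) := by
    intro e
    have hq : ((maximalIdeal (Dp p)).comap φ.toRingHom).IsPrime := Ideal.comap_isPrime _ _
    obtain ⟨g, hg, hst⟩ := Algebra.IsEtaleAt.exists_isStandardEtale
      (R := Localization.AtPrime p) ((maximalIdeal (Dp p)).comap φ.toRingHom)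
    have hgu : IsUnit (φ g) := by
      by_contra hcon
      exact hg ((mem_maximalIdeal _).mpr hcon)
    obtain ⟨Pr⟩ := hst.nonempty_standardEtalePresentation
    let Φ : Localization.Away g →ₐ[Localization.AtPrime p] Dp p :=
      IsLocalization.Away.liftAlgHom (A := Localization.AtPrime p) (S := Localization.Away g) g
        (f := φ) hgu
    have hΦ : ∀ z : E, Φ (algebraMap E (Localization.Away g) z) = φ z := fun z =>
      IsLocalization.Away.lift_eq g hgu z
    have hmapD : Pr.P.HasMap (Φ Pr.x) := Pr.hasMap.map Φ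
    have hθ : Rep C (Φ Pr.x) :=
      rep_of_root p (Dp p) Pr.f Pr.monic_f (Φ Pr.x) hmapD.1 hmapD.isUnit_derivative_f
    obtain ⟨pp, n, hpn⟩ := Pr.exists_mul_aeval_x_g_pow_eq_aeval_x
      (algebraMap E (Localization.Away g) e)
    have h3 := congrArg Φ hpn
    rw [map_mul, map_pow, hΦ, ← Polynomial.aeval_algHom_apply,
      ← Polynomial.aeval_algHom_apply] at h3
    -- φ e * (aeval θ g)^n = aeval θ pp
    obtain ⟨v, hv⟩ := (hmapD.2.pow n).exists_right_inv
    have hinv : Rep C v := (rep_aeval p (Dp p) hθ Pr.g).pow n |>.inv hv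
    have : φ e = aeval (Φ Pr.x) pp * v := by
      rw [← h3, mul_assoc, hv, mul_one]
    rw [this]
    exact (rep_aeval p (Dp p) hθ pp).mul hinv
  obtain ⟨v, hv⟩ := hy.exists_right_inv
  have : d = φ c * v := by rw [← hdy, mul_assoc, hv, mul_one]
  rw [this]
  exact (claim c).mul ((claim y).inv hv)

theorem indEt_Dp : IndEt C (Dp p) where
  flat := inferInstance
  rep := rep_Dp p
  kill := kill_of_flat_local

end Dp

end Groth.Agent.Lib.Helper20.KM
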