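import Mathlib
import Groth.Agent.Lib.Helper4.HenselPairE
import Groth.Agent.Lib.Helper4.HenselPairK
import Groth.Agent.Lib.Helper11.Henselian

/-!
# KM5: generic algebra lemmas for the Keel–Mori étale cartesian argument

* `exists_section_of_isSepClosed`: a map from an unramified finite type algebra over a separably
  closed field `κ` to a field extension of `κ` lands in `κ`.
* `exists_eps_of_unramified`: the "coincidence idempotent" of two algebra maps out of an
  unramified algebra.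
-/

set_option autoImplicit false
set_option linter.style.haveILetI false
set_option linter.unusedSectionVars false
universe u v w

namespace Groth.Agent.Lib.Helper20.KM

open TensorProduct IsLocalRing

theorem exists_section_of_isSepClosed {κ : Type u} {E : Type v} {K : Type w} [Field κ]
    [IsSepClosed κ] [CommRing E] [Algebra κ E] [Algebra.FormallyUnramified κ E]
    [Algebra.FiniteType κ E] [Field K] [Algebra κ K] (ψ : E →ₐ[κ] K) :
    ∃ σ : E →ₐ[κ] κ, ∀ e, ψ e = algebraMap κ K (σ e) := by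
  haveI : Module.Finite κ E := Algebra.FormallyUnramified.finite_of_free κ E
  haveI : IsArtinianRing E := IsArtinianRing.of_finite κ E
  let 𝔫 : Ideal E := RingHom.ker ψ
  haveI : 𝔫.IsPrime := RingHom.ker_isPrime ψ
  haveI : 𝔫.IsMaximal := IsArtinianRing.isMaximal_of_isPrime 𝔫
  letI : Field (E ⧸ 𝔫) := Ideal.Quotient.field 𝔫
  have hsurj : Function.Surjective (Ideal.Quotient.mkₐ κ 𝔫) := Ideal.Quotient.mkₐ_surjective κ 𝔫
  haveI : Algebra.FormallyUnramified κ (E ⧸ 𝔫) :=
    Algebra.FormallyUnramified.of_surjective (Ideal.Quotient.mkₐ κ 𝔫) hsurj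
  haveI : Algebra.FiniteType κ (E ⧸ 𝔫) := Algebra.FiniteType.of_surjective
    (Ideal.Quotient.mkₐ κ 𝔫) hsurj
  haveI : Algebra.IsSeparable κ (E ⧸ 𝔫) := Algebra.FormallyUnramified.isSeparable κ (E ⧸ 𝔫)
  have hbij : Function.Bijective (Algebra.ofId κ (E ⧸ 𝔫)) :=
    ⟨(algebraMap κ (E ⧸ 𝔫)).injective, IsSepClosed.algebraMap_surjective κ (E ⧸ 𝔫)⟩
  let eqv : κ ≃ₐ[κ] (E ⧸ 𝔫) := AlgEquiv.ofBijective (Algebra.ofId κ (E ⧸ 𝔫)) hbij
  let ψbar : (E ⧸ 𝔫) →ₐ[κ] K := Ideal.Quotient.liftₐ 𝔫 ψ (fun a ha => ha)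
  refine ⟨eqv.symm.toAlgHom.comp (Ideal.Quotient.mkₐ κ 𝔫), fun e => ?_⟩
  have h1 : eqv (eqv.symm (Ideal.Quotient.mkₐ κ 𝔫 e)) = Ideal.Quotient.mkₐ κ 𝔫 e :=
    eqv.apply_symm_apply _
  have h2 : ψ e = ψbar (Ideal.Quotient.mkₐ κ 𝔫 e) := rfl
  rw [h2, ← h1]
  show ψbar (algebraMap κ (E ⧸ 𝔫) (eqv.symm (Ideal.Quotient.mkₐ κ 𝔫 e))) = _
  rw [AlgHom.commutes]
  rfl

/-- the coincidence element of two algebra maps out of an unramified algebra. -/
theorem exists_eps_of_unramified {R : Type u} {S : Type v} {T : Type w} [CommRing R] [CommRing S]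
    [CommRing T] [Algebra R S] [Algebra R T] [Algebra.FormallyUnramified R S]
    [Algebra.EssFiniteType R S] (f g : S →ₐ[R] T) :
    ∃ ε : T, (∀ y : S, f y * ε = g y * ε) ∧
      ∀ (T' : Type w) [CommRing T'] (h : T →+* T'), (∀ y, h (f y) = h (g y)) → h ε = 1 := by
  let L : S ⊗[R] S →ₐ[R] T := Algebra.TensorProduct.lift f g (fun _ _ => Commute.all _ _)
  refine ⟨L (Algebra.FormallyUnramified.elem R S), fun y => ?_, ?_⟩
  · have h1 := congrArg L (Algebra.FormallyUnramified.one_tmul_mul_elem (R := R) (S := S) y)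
    rw [map_mul, map_mul] at h1
    have e1 : L ((1 : S) ⊗ₜ[R] y) = g y := by
      show Algebra.TensorProduct.lift f g _ _ = _
      rw [Algebra.TensorProduct.lift_tmul, map_one, one_mul]
    have e2 : L (y ⊗ₜ[R] (1 : S)) = f y := by
      show Algebra.TensorProduct.lift f g _ _ = _
      rw [Algebra.TensorProduct.lift_tmul, map_one, mul_one]
    rw [e1, e2] at h1
    exact h1.symm
  · intro T' _ h hh
    have key : ∀ z : S ⊗[R] S, h (L z) = h (f (Algebra.TensorProduct.lmul' R z)) := by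
      intro z
      induction z using TensorProduct.induction_on with
      | zero => simp
      | tmul x y =>
        show h (Algebra.TensorProduct.lift f g _ (x ⊗ₜ y)) = _
        rw [Algebra.TensorProduct.lift_tmul, Algebra.TensorProduct.lmul'_apply_tmul, map_mul, map_mul,
          map_mul, hh y]
      | add x y hx hy => rw [map_add, map_add, map_add, map_add, map_add, hx, hy]
    rw [key, Algebra.FormallyUnramified.lmul_elem, map_one, map_one]

section hens

variable {D : Type u} [CommRing D] [IsLocalRing D]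
  {K : Type u} [Field K] [Algebra D K]
  {P : Type u} [CommRing P] [Algebra D P] [Algebra.IsIntegral D P]

/-- the residue field acts on `K`. -/
noncomputable abbrev resAlg (hker : ∀ d : D, algebraMap D K d = 0 ↔ d ∈ maximalIdeal D) :
    Algebra (ResidueField D) K :=
  (Ideal.Quotient.lift (maximalIdeal D) (algebraMap D K) (fun d hd => (hker d).mpr hd)).toAlgebra

theorem liesOver_of_ker (hker : ∀ d : D, algebraMap D K d = 0 ↔ d ∈ maximalIdeal D)
    (â : P →ₐ[D] K) : (RingHom.ker â).LiesOver (maximalIdeal D) := by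
  constructor
  ext d
  rw [Ideal.under, Ideal.mem_comap, RingHom.mem_ker, AlgHom.commutes, hker]

theorem isMaximal_of_liesOver (𝔓 : Ideal P) [𝔓.IsPrime] [𝔓.LiesOver (maximalIdeal D)] :
    𝔓.IsMaximal := by
  haveI : IsDomain (P ⧸ 𝔓) := Ideal.Quotient.isDomain 𝔓
  letI : Field (D ⧸ maximalIdeal D) := Ideal.Quotient.field _
  have hfield : IsField (P ⧸ 𝔓) :=
    isField_of_isIntegral_of_isField' (R := D ⧸ maximalIdeal D) (Field.toIsField _)
  exact Ideal.Quotient.maximal_of_isField 𝔓 hfield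

theorem ker_isMaximal (hker : ∀ d : D, algebraMap D K d = 0 ↔ d ∈ maximalIdeal D)
    (â : P →ₐ[D] K) : (RingHom.ker â).IsMaximal := by
  haveI := liesOver_of_ker hker â
  haveI : (RingHom.ker â).IsPrime := RingHom.ker_isPrime _
  exact isMaximal_of_liesOver (D := D) _

end hens

section hens2

variable {D : Type u} [CommRing D] [IsLocalRing D]
  {K : Type u} [Field K] [Algebra D K]
  {P : Type u} [CommRing P] [Algebra D P] [Algebra.IsIntegral D P]

/-- the algebra map `κ(𝔓) → K` over the residue field induced by a point. -/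
noncomputable def barHom (hker : ∀ d : D, algebraMap D K d = 0 ↔ d ∈ maximalIdeal D)
    (𝔓 : Ideal P) [𝔓.LiesOver (maximalIdeal D)] (â : P →ₐ[D] K) (hâ : 𝔓 ≤ RingHom.ker â) :
    letI := resAlg hker
    letI : Algebra (ResidueField D) (P ⧸ 𝔓) :=
      inferInstanceAs (Algebra (D ⧸ maximalIdeal D) (P ⧸ 𝔓))
    (P ⧸ 𝔓) →ₐ[ResidueField D] K :=
  letI := resAlg hker
  letI : Algebra (ResidueField D) (P ⧸ 𝔓) :=
    inferInstanceAs (Algebra (D ⧸ maximalIdeal D) (P ⧸ 𝔓))
  { toRingHom := Ideal.Quotient.lift 𝔓 (â : P →+* K) (fun a ha => RingHom.mem_ker.mp (hâ ha))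
    commutes' := by
      intro x
      obtain ⟨d, rfl⟩ := Ideal.Quotient.mk_surjective x
      show Ideal.Quotient.lift 𝔓 (â : P →+* K) _
        (algebraMap (D ⧸ maximalIdeal D) (P ⧸ 𝔓) (Ideal.Quotient.mk _ d)) =
        Ideal.Quotient.lift (maximalIdeal D) (algebraMap D K) _ (Ideal.Quotient.mk _ d)
      rw [Ideal.Quotient.algebraMap_mk_of_liesOver]
      exact â.commutes d }

theorem barHom_mk (hker : ∀ d : D, algebraMap D K d = 0 ↔ d ∈ maximalIdeal D)
    (𝔓 : Ideal P) [𝔓.LiesOver (maximalIdeal D)] (â : P →ₐ[D] K) (hâ : 𝔓 ≤ RingHom.ker â)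
    (p : P) : barHom hker 𝔓 â hâ (Ideal.Quotient.mk 𝔓 p) = â p := rfl

/-- two points with the same kernel are equal (residue field extensions are purely
inseparable). -/
theorem pt_eq_of_ker_eq [IsSepClosed (ResidueField D)]
    (hker : ∀ d : D, algebraMap D K d = 0 ↔ d ∈ maximalIdeal D)
    (â â' : P →ₐ[D] K) (h : RingHom.ker â = RingHom.ker â') : â = â' := by
  haveI := liesOver_of_ker hker â
  haveI := ker_isMaximal hker â
  letI : Field (P ⧸ RingHom.ker â) := Ideal.Quotient.field _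
  letI := resAlg hker
  letI : Algebra (ResidueField D) (P ⧸ RingHom.ker â) :=
    inferInstanceAs (Algebra (D ⧸ maximalIdeal D) (P ⧸ RingHom.ker â))
  haveI : Algebra.IsIntegral (ResidueField D) (P ⧸ RingHom.ker â) :=
    inferInstanceAs (Algebra.IsIntegral (D ⧸ maximalIdeal D) (P ⧸ RingHom.ker â))
  have hsub : Subsingleton ((P ⧸ RingHom.ker â) →ₐ[ResidueField D] K) := inferInstance
  have e := hsub.elim (barHom hker (RingHom.ker â) â le_rfl)
    (barHom hker (RingHom.ker â) â' h.le)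
  ext p
  have := congrArg (fun φ => φ (Ideal.Quotient.mk (RingHom.ker â) p)) e
  exact this

/-- a prime over the maximal ideal is the kernel of a `K`-point. -/
theorem exists_pt_of_prime [IsAlgClosed K]
    (hker : ∀ d : D, algebraMap D K d = 0 ↔ d ∈ maximalIdeal D)
    (𝔓 : Ideal P) [𝔓.IsPrime] (h𝔓 : (maximalIdeal D).map (algebraMap D P) ≤ 𝔓) :
    ∃ â : P →ₐ[D] K, RingHom.ker â = 𝔓 := by
  have hover : 𝔓.comap (algebraMap D P) = maximalIdeal D := by
    have h1 : maximalIdeal D ≤ 𝔓.comap (algebraMap D P) := Ideal.map_le_iff_le_comap.mp h𝔓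
    have hne : 𝔓.comap (algebraMap D P) ≠ ⊤ := Ideal.comap_ne_top _ (Ideal.IsPrime.ne_top ‹_›)
    exact ((maximalIdeal.isMaximal D).eq_of_le hne h1).symm
  haveI : 𝔓.LiesOver (maximalIdeal D) := ⟨hover.symm⟩
  haveI : 𝔓.IsMaximal := isMaximal_of_liesOver (D := D) 𝔓
  haveI : IsDomain (P ⧸ 𝔓) := Ideal.Quotient.isDomain _
  letI := resAlg hker
  letI : Algebra (ResidueField D) (P ⧸ 𝔓) :=
    inferInstanceAs (Algebra (D ⧸ maximalIdeal D) (P ⧸ 𝔓))
  haveI : Algebra.IsIntegral (ResidueField D) (P ⧸ 𝔓) :=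
    inferInstanceAs (Algebra.IsIntegral (D ⧸ maximalIdeal D) (P ⧸ 𝔓))
  let l : (P ⧸ 𝔓) →ₐ[ResidueField D] K := IsAlgClosed.lift
  let â : P →ₐ[D] K :=
    { toRingHom := (l : (P ⧸ 𝔓) →+* K).comp (Ideal.Quotient.mk 𝔓)
      commutes' := by
        intro d
        show l (Ideal.Quotient.mk 𝔓 (algebraMap D P d)) = algebraMap D K d
        have h1 : Ideal.Quotient.mk 𝔓 (algebraMap D P d) =
            algebraMap (D ⧸ maximalIdeal D) (P ⧸ 𝔓) (Ideal.Quotient.mk _ d) :=
          (Ideal.Quotient.algebraMap_mk_of_liesOver 𝔓 (maximalIdeal D) d).symm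
        rw [h1]
        exact l.commutes (Ideal.Quotient.mk _ d) }
  refine ⟨â, ?_⟩
  have hle : 𝔓 ≤ RingHom.ker â := by
    intro x hx
    rw [RingHom.mem_ker]
    show l (Ideal.Quotient.mk 𝔓 x) = 0
    rw [Ideal.Quotient.eq_zero_iff_mem.mpr hx, map_zero]
  have hne : RingHom.ker â ≠ ⊤ := RingHom.ker_ne_top _
  exact (Ideal.IsMaximal.eq_of_le ‹𝔓.IsMaximal› hne hle).symm

variable (D K P) in
/-- the ideal of elements killed by all `K`-points. -/
def ptRad : Ideal P := ⨅ â : P →ₐ[D] K, RingHom.ker â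

theorem mem_ptRad {x : P} : x ∈ ptRad D K P ↔ ∀ â : P →ₐ[D] K, â x = 0 := by
  unfold ptRad
  rw [Ideal.mem_iInf]
  rfl

theorem ptRad_eq_radical [IsAlgClosed K]
    (hker : ∀ d : D, algebraMap D K d = 0 ↔ d ∈ maximalIdeal D) :
    ptRad D K P = ((maximalIdeal D).map (algebraMap D P)).radical := by
  apply le_antisymm
  · intro x hx
    rw [Ideal.radical_eq_sInf, Ideal.mem_sInf]
    rintro 𝔓 ⟨h1, h2⟩
    haveI := h2
    obtain ⟨â, hâ⟩ := exists_pt_of_prime (K := K) hker 𝔓 h1
    rw [← hâ]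
    exact (mem_ptRad.mp hx) â
  · intro x hx
    rw [mem_ptRad]
    intro â
    haveI : (RingHom.ker â).IsPrime := RingHom.ker_isPrime _
    have h1 : (maximalIdeal D).map (algebraMap D P) ≤ RingHom.ker â := by
      rw [Ideal.map_le_iff_le_comap]
      intro d hd
      rw [Ideal.mem_comap, RingHom.mem_ker, AlgHom.commutes]
      exact (hker d).mpr hd
    have h2 := (Ideal.IsPrime.radical_le_iff ‹_›).mpr h1 hx
    exact h2

theorem henselianRing_ptRad [IsAlgClosed K] [HenselianLocalRing D]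
    (hker : ∀ d : D, algebraMap D K d = 0 ↔ d ∈ maximalIdeal D) :
    HenselianRing P (ptRad D K P) := by
  rw [ptRad_eq_radical hker, Groth.Agent.Lib.Helper11.henselianRing_radical_iff]
  exact Groth.Agent.Lib.Helper4.HenselPair.henselianRing_map_of_isIntegral D (maximalIdeal D) P

end hens2

section lift

variable {D : Type u} [CommRing D] [IsLocalRing D]
  {K : Type u} [Field K] [Algebra D K]
  {P : Type u} [CommRing P] [Algebra D P] [Algebra.IsIntegral D P]
  {R : Type u} {A' : Type u} [CommRing R] [CommRing A'] [Algebra R A'] [Algebra.Etale R A']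
  [Algebra R P]

/-- values of a point of an étale algebra over a `K`-point of `P` lie in the image of `P`. -/
theorem exists_preimage_of_pt [IsSepClosed (ResidueField D)]
    (hker : ∀ d : D, algebraMap D K d = 0 ↔ d ∈ maximalIdeal D)
    (â : P →ₐ[D] K) (ψ : A' →+* K)
    (hψ : ∀ r, ψ (algebraMap R A' r) = â (algebraMap R P r)) (a' : A') :
    ∃ p : P, â p = ψ a' := by
  haveI := liesOver_of_ker hker â
  haveI := ker_isMaximal hker â
  set m : Ideal P := RingHom.ker â with hm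
  letI : Field (P ⧸ m) := Ideal.Quotient.field _
  letI := resAlg hker
  letI : Algebra (ResidueField D) (P ⧸ m) :=
    inferInstanceAs (Algebra (D ⧸ maximalIdeal D) (P ⧸ m))
  haveI : Algebra.IsIntegral (ResidueField D) (P ⧸ m) :=
    inferInstanceAs (Algebra.IsIntegral (D ⧸ maximalIdeal D) (P ⧸ m))
  haveI : IsSepClosed (P ⧸ m) := Algebra.IsAlgebraic.isSepClosed (F := ResidueField D)
  -- `K` as an algebra over `P ⧸ m` and over `R`
  let abar : (P ⧸ m) →+* K := Ideal.Quotient.lift m (â : P →+* K)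
    (fun a ha => RingHom.mem_ker.mp ha)
  letI : Algebra (P ⧸ m) K := abar.toAlgebra
  letI : Algebra R K := ((algebraMap (P ⧸ m) K).comp (algebraMap R (P ⧸ m))).toAlgebra
  haveI : IsScalarTower R (P ⧸ m) K := .of_algebraMap_eq (fun _ => rfl)
  let ψa : A' →ₐ[R] K :=
    { toRingHom := ψ
      commutes' := by
        intro r
        show ψ (algebraMap R A' r) = abar (algebraMap R (P ⧸ m) r)
        rw [hψ]
        rfl }
  let Ψ : (P ⧸ m) ⊗[R] A' →ₐ[P ⧸ m] K :=
    Algebra.TensorProduct.lift (Algebra.ofId (P ⧸ m) K) ψa (fun _ _ => Commute.all _ _)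
  obtain ⟨σ, hσ⟩ := exists_section_of_isSepClosed Ψ
  obtain ⟨p, hp⟩ := Ideal.Quotient.mk_surjective (σ ((1 : P ⧸ m) ⊗ₜ[R] a'))
  refine ⟨p, ?_⟩
  have h1 := hσ ((1 : P ⧸ m) ⊗ₜ[R] a')
  have h2 : Ψ ((1 : P ⧸ m) ⊗ₜ[R] a') = ψ a' := by
    show Algebra.TensorProduct.lift (Algebra.ofId (P ⧸ m) K) ψa _ _ = _
    rw [Algebra.TensorProduct.lift_tmul, map_one, one_mul]
    rfl
  rw [h2, ← hp] at h1
  exact h1.symm

theorem exists_lift_of_pts [IsAlgClosed K] [HenselianLocalRing D] [IsSepClosed (ResidueField D)]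
    (hker : ∀ d : D, algebraMap D K d = 0 ↔ d ∈ maximalIdeal D)
    [Finite (P →ₐ[D] K)]
    (Ψ : (P →ₐ[D] K) → (A' →+* K))
    (hΨ : ∀ â r, Ψ â (algebraMap R A' r) = â (algebraMap R P r)) :
    ∃ τ : A' →ₐ[R] P, ∀ (â : P →ₐ[D] K) (a' : A'), â (τ a') = Ψ â a' := by
  classical
  set J : Ideal P := ptRad D K P with hJ
  haveI : HenselianRing P J := henselianRing_ptRad hker
  -- the injective map `P ⧸ J → Π K`
  let ev : P →+* ((P →ₐ[D] K) → K) := RingHom.pi (fun â => (â : P →+* K))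
  have hev : ∀ x, x ∈ J → ev x = 0 := by
    intro x hx
    funext â
    exact mem_ptRad.mp hx â
  let Ι : (P ⧸ J) →+* ((P →ₐ[D] K) → K) := Ideal.Quotient.lift J ev hev
  have hΙ : Function.Injective Ι := by
    rw [injective_iff_map_eq_zero]
    intro x hx
    obtain ⟨p, rfl⟩ := Ideal.Quotient.mk_surjective x
    rw [Ideal.Quotient.eq_zero_iff_mem, hJ, mem_ptRad]
    intro â
    exact congrFun hx â
  -- pairwise coprime kernels
  have hcop : Pairwise (Function.onFun IsCoprime (fun â : P →ₐ[D] K => RingHom.ker â)) := by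
    intro â â' hne
    show IsCoprime (RingHom.ker â) (RingHom.ker â')
    rw [Ideal.isCoprime_iff_sup_eq]
    exact Ideal.IsMaximal.coprime_of_ne (ker_isMaximal hker â) (ker_isMaximal hker â')
      (fun h => hne (pt_eq_of_ker_eq hker â â' h))
  -- the values are in the image
  have hval : ∀ a' : A', ∃ x : P ⧸ J, ∀ â : P →ₐ[D] K, Ι x â = Ψ â a' := by
    intro a'
    have h1 : ∀ â : P →ₐ[D] K, ∃ p : P, â p = Ψ â a' := fun â =>
      exists_preimage_of_pt hker â (Ψ â) (hΨ â) a'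
    choose p hp using h1
    obtain ⟨r, hr⟩ := Ideal.pi_quotient_surjective hcop (fun â => Ideal.Quotient.mk _ (p â))
    refine ⟨Ideal.Quotient.mk J r, fun â => ?_⟩
    show â r = Ψ â a'
    have h2 := hr â
    rw [Ideal.Quotient.eq, RingHom.mem_ker, map_sub, sub_eq_zero] at h2
    rw [h2, hp]
  choose σ₀ hσ₀ using hval
  have hσ₀' : ∀ a' x, (∀ â : P →ₐ[D] K, Ι x â = Ψ â a') → σ₀ a' = x := by
    intro a' x hx
    apply hΙ
    funext â
    rw [hσ₀, hx]
  let σ : A' →ₐ[R] P ⧸ J :=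
    { toFun := σ₀
      map_one' := hσ₀' _ _ (fun â => by rw [map_one, map_one]; rfl)
      map_mul' := fun x y => hσ₀' _ _ (fun â => by
        rw [map_mul, map_mul, Pi.mul_apply, hσ₀, hσ₀])
      map_zero' := hσ₀' _ _ (fun â => by rw [map_zero, map_zero]; rfl)
      map_add' := fun x y => hσ₀' _ _ (fun â => by
        rw [map_add, map_add, Pi.add_apply, hσ₀, hσ₀])
      commutes' := fun r => hσ₀' _ _ (fun â => by
        rw [hΨ]
        rfl) }
  let σ' : P ⊗[R] A' →ₐ[P] P ⧸ J :=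
    Algebra.TensorProduct.lift (Algebra.ofId P (P ⧸ J)) σ (fun _ _ => Commute.all _ _)
  obtain ⟨τ', hτ'⟩ := Groth.Agent.Lib.Helper4.HenselPair.exists_lift_of_etale J σ'
  refine ⟨(τ'.restrictScalars R).comp Algebra.TensorProduct.includeRight, fun â a' => ?_⟩
  show â (τ' ((1 : P) ⊗ₜ[R] a')) = Ψ â a'
  have h1 : Ideal.Quotient.mk J (τ' ((1 : P) ⊗ₜ[R] a')) = σ' ((1 : P) ⊗ₜ[R] a') :=
    congrArg (fun φ => φ ((1 : P) ⊗ₜ[R] a')) hτ'
  have h2 : σ' ((1 : P) ⊗ₜ[R] a') = σ₀ a' := by
    show Algebra.TensorProduct.lift (Algebra.ofId P (P ⧸ J)) σ _ _ = _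
    rw [Algebra.TensorProduct.lift_tmul, map_one, one_mul]
    rfl
  have h3 : Ι (Ideal.Quotient.mk J (τ' ((1 : P) ⊗ₜ[R] a'))) â = â (τ' ((1 : P) ⊗ₜ[R] a')) := rfl
  rw [← h3, h1, h2, hσ₀]

end lift

section uniq

variable {D : Type u} [CommRing D] [IsLocalRing D]
  {K : Type u} [Field K] [Algebra D K]
  {P : Type u} [CommRing P] [Algebra D P] [Algebra.IsIntegral D P]
  {R : Type u} {A' : Type u} [CommRing R] [CommRing A'] [Algebra R A']
  [Algebra.FormallyUnramified R A'] [Algebra.EssFiniteType R A'] [Algebra R P]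

/-- two maps out of an unramified algebra into an integral `D`-algebra which agree on all
`K`-points are equal. -/
theorem eq_of_pts_eq [IsAlgClosed K] [HenselianLocalRing D]
    (hker : ∀ d : D, algebraMap D K d = 0 ↔ d ∈ maximalIdeal D)
    (f g : A' →ₐ[R] P) (h : ∀ (b : P →ₐ[D] K) (a' : A'), b (f a') = b (g a')) : f = g := by
  obtain ⟨ε, h1, h2⟩ := exists_eps_of_unramified f g
  haveI : HenselianRing P (ptRad D K P) := henselianRing_ptRad hker
  have hjac : ptRad D K P ≤ Ideal.jacobson ⊥ := HenselianRing.jac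
  have hmem : ε - 1 ∈ ptRad D K P := by
    rw [mem_ptRad]
    intro b
    have := h2 K (b : P →+* K) (h b)
    rw [map_sub, map_one, sub_eq_zero]
    exact this
  have hu : IsUnit ε := by
    have := Ideal.mem_jacobson_bot.mp (hjac hmem) 1
    rwa [mul_one, sub_add_cancel] at this
  ext y
  exact hu.mul_left_injective (h1 y)

end uniq

end Groth.Agent.Lib.Helper20.KM
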