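import Mathlib
import Groth.Agent.Lib.Helper20.KM4
import Groth.Agent.Lib.Helper20.KM5
import Groth.Agent.Lib.Helper20.HQ3

/-!
# KM6: the equivariant section over the strict henselization
-/

set_option autoImplicit false
set_option linter.style.haveILetI false
set_option linter.unusedSectionVars false
universe u

namespace Groth.Agent.Lib.Helper20.KM

open TensorProduct IsLocalRing
open Groth.Agent.Lib.Helper4.Hzs

/-- `A ⊗[C] D` is integral over `D` (right algebra structure) when `A` is integral over `C`. -/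
theorem isIntegral_rightAlgebra {C A D : Type u} [CommRing C] [CommRing A] [CommRing D]
    [Algebra C A] [Algebra C D] [Algebra.IsIntegral C A] :
    letI := Algebra.TensorProduct.rightAlgebra (R := C) (A := A) (B := D)
    Algebra.IsIntegral D (A ⊗[C] D) := by
  letI := Algebra.TensorProduct.rightAlgebra (R := C) (A := A) (B := D)
  constructor
  intro x
  induction x using TensorProduct.induction_on with
  | zero => exact isIntegral_zero
  | tmul a d =>
    have h1 : IsIntegral D (a ⊗ₜ[C] (1 : D)) := by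
      have ha : IsIntegral C a := Algebra.IsIntegral.isIntegral a
      refine ha.map_of_comp_eq (algebraMap C D)
        (Algebra.TensorProduct.includeLeftRingHom : A →+* A ⊗[C] D) ?_
      ext c
      show (1 : A) ⊗ₜ[C] (algebraMap C D c) = (algebraMap C A c) ⊗ₜ[C] (1 : D)
      rw [Algebra.algebraMap_eq_smul_one, Algebra.algebraMap_eq_smul_one, TensorProduct.tmul_smul,
        TensorProduct.smul_tmul']
    have h2 : a ⊗ₜ[C] d = d • (a ⊗ₜ[C] (1 : D)) := by
      rw [Algebra.smul_def]
      show _ = ((1 : A) ⊗ₜ[C] d) * (a ⊗ₜ[C] (1 : D))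
      rw [Algebra.TensorProduct.tmul_mul_tmul, one_mul, mul_one]
    rw [h2]
    exact h1.smul d
  | add x y hx hy => exact hx.add hy

/-- a geometric point of `A'` over a given prime of a subring over which `A'` is integral. -/
theorem exists_pt_over_prime {C' A' : Type u} [CommRing C'] [CommRing A'] [Algebra C' A']
    [Algebra.IsIntegral C' A'] (hinj : Function.Injective (algebraMap C' A')) (p' : Ideal C')
    [p'.IsPrime] :
    ∃ (K : Type u) (_ : Field K) (_ : IsAlgClosed K) (x' : A' →+* K),
      ∀ c' : C', x' (algebraMap C' A' c') = 0 ↔ c' ∈ p' := by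
  obtain ⟨P', -, hP', hover⟩ := Ideal.exists_ideal_over_prime_of_isIntegral p' (⊥ : Ideal A') (by
    rw [← RingHom.ker_eq_comap_bot, (RingHom.injective_iff_ker_eq_bot _).mp hinj]
    exact bot_le)
  haveI := hP'
  haveI : IsDomain (A' ⧸ P') := Ideal.Quotient.isDomain P'
  let L := FractionRing (A' ⧸ P')
  refine ⟨AlgebraicClosure L, inferInstance, inferInstance,
    (algebraMap L (AlgebraicClosure L)).comp ((algebraMap (A' ⧸ P') L).comp
      (Ideal.Quotient.mk P')), fun c' => ?_⟩
  rw [← hover, Ideal.mem_comap]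
  show algebraMap L (AlgebraicClosure L) (algebraMap (A' ⧸ P') L
    (Ideal.Quotient.mk P' (algebraMap C' A' c'))) = 0 ↔ _
  rw [map_eq_zero_iff _ (algebraMap L (AlgebraicClosure L)).injective,
    map_eq_zero_iff _ (IsFractionRing.injective (A' ⧸ P') L), Ideal.Quotient.eq_zero_iff_mem]

set_option maxHeartbeats 1600000 in
set_option synthInstance.maxHeartbeats 400000 in
/-- a map from the strict henselization to an algebraically closed field extending a given map
with kernel `p`. -/
theorem exists_chi {C : Type u} [CommRing C] (p : Ideal C) [p.IsPrime] {K : Type u} [Field K]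
    [IsAlgClosed K] (ξ : C →+* K) (hξ : RingHom.ker ξ = p) :
    ∃ χ : Dp p →+* K, χ.comp (algebraMap C (Dp p)) = ξ ∧
      ∀ d, χ d = 0 ↔ d ∈ maximalIdeal (Dp p) := by
  have hunit : ∀ y : p.primeCompl, IsUnit (ξ y) := fun y =>
    isUnit_iff_ne_zero.mpr (fun h => y.2 (hξ.le (RingHom.mem_ker.mpr h)))
  let ξR : Localization.AtPrime p →+* K := IsLocalization.lift hunit
  have hξR : ∀ c, ξR (algebraMap C (Localization.AtPrime p) c) = ξ c := IsLocalization.lift_eq hunit
  haveI : IsLocalHom ξR := by
    constructor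
    intro r hr
    obtain ⟨⟨c, s⟩, hcs⟩ := IsLocalization.surj p.primeCompl r
    have h1 : ξR r * ξ s = ξ c := by
      have := congrArg ξR hcs
      rw [map_mul, hξR, hξR] at this
      exact this
    have h2 : ξ c ≠ 0 := by
      rw [← h1]
      exact mul_ne_zero hr.ne_zero (hunit s).ne_zero
    have h3 : c ∉ p := fun hc => h2 (RingHom.mem_ker.mp (hξ.ge hc))
    have h4 : IsUnit (algebraMap C (Localization.AtPrime p) c) :=
      (IsLocalization.AtPrime.isUnit_to_map_iff (Localization.AtPrime p) p c).mpr h3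
    rw [← hcs] at h4
    exact isUnit_of_mul_isUnit_left h4
  letI : Algebra (ResidueField (Localization.AtPrime p)) K := (ResidueField.lift ξR).toAlgebra
  haveI : Module.IsTorsionFree (ResidueField (Localization.AtPrime p))
      (Ks (Localization.AtPrime p)) :=
    Module.isTorsionFree_iff_algebraMap_injective.mpr
      (algebraMap (ResidueField (Localization.AtPrime p)) (Ks (Localization.AtPrime p))).injective
  haveI : Module.IsTorsionFree (ResidueField (Localization.AtPrime p)) K :=
    Module.isTorsionFree_iff_algebraMap_injective.mpr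
      (algebraMap (ResidueField (Localization.AtPrime p)) K).injective
  let χ₀ : Ks (Localization.AtPrime p) →ₐ[ResidueField (Localization.AtPrime p)] K :=
    IsAlgClosed.lift
  refine ⟨(χ₀ : Ks (Localization.AtPrime p) →+* K).comp
    (Hs.char (Localization.AtPrime p) : Hs (Localization.AtPrime p) →+* _), ?_, ?_⟩
  · ext c
    show χ₀ (Hs.char (Localization.AtPrime p) (algebraMap C (Dp p) c)) = ξ c
    rw [IsScalarTower.algebraMap_apply C (Localization.AtPrime p) (Dp p), AlgHom.commutes,
      IsScalarTower.algebraMap_apply (Localization.AtPrime p)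
        (ResidueField (Localization.AtPrime p)) (Ks (Localization.AtPrime p)), AlgHom.commutes]
    exact hξR c
  · intro d
    rw [← Hs.char_eq_zero_iff]
    show χ₀ (Hs.char (Localization.AtPrime p) d) = 0 ↔ _
    exact map_eq_zero_iff χ₀ χ₀.toRingHom.injective

/-- finitely many homomorphisms to a field over a given one, for a finite ring map. -/
theorem finite_hom_over {A B K : Type u} [CommRing A] [CommRing B] [Field K] (s : A →+* B)
    (hs : s.Finite) (a₀ : A →+* K) : Finite {b : B →+* K // b.comp s = a₀} := by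
  letI : Algebra A B := s.toAlgebra
  letI : Algebra A K := a₀.toAlgebra
  haveI : Module.Finite A B := hs
  let F : {b : B →+* K // b.comp s = a₀} → (K ⊗[A] B →ₐ[K] K) := fun b =>
    Algebra.TensorProduct.lift (AlgHom.id K K)
      ⟨b.1, fun r => congrFun (congrArg DFunLike.coe b.2) r⟩ (fun _ _ => Commute.all _ _)
  have hF : Function.Injective F := by
    intro b b' h
    apply Subtype.ext
    ext x
    have := congrArg (fun φ => φ ((1 : K) ⊗ₜ[A] x)) h
    simpa [F] using this
  exact Finite.of_injective F hF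

/-- abstract pushout property of a commutative square of rings. -/
structure PO {A B A' B' : Type u} [CommRing A] [CommRing B] [CommRing A'] [CommRing B']
    (s : A →+* B) (fU : A →+* A') (fR : B →+* B') (s' : A' →+* B') : Prop where
  comm : fR.comp s = s'.comp fU
  desc : ∀ (T : Type u) [CommRing T] (g₁ : B →+* T) (g₂ : A' →+* T), g₁.comp s = g₂.comp fU →
    ∃ β : B' →+* T, β.comp fR = g₁ ∧ β.comp s' = g₂
  ext : ∀ (T : Type u) [CommRing T] (β β' : B' →+* T), β.comp fR = β'.comp fR →
    β.comp s' = β'.comp s' → β = β'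

section pts

variable {C X Y D K : Type u} [CommRing C] [CommRing X] [CommRing Y] [CommRing D] [Field K]
  [Algebra C X] [Algebra C Y] [Algebra C D] [Algebra C K] [Algebra D K] [IsScalarTower C D K]

attribute [local instance] Algebra.TensorProduct.rightAlgebra

/-- the `D`-point of `X ⊗[C] D` attached to a point of `X`. -/
noncomputable def mkPt (a : X →ₐ[C] K) : X ⊗[C] D →ₐ[D] K :=
  { toRingHom := (Algebra.TensorProduct.lift a (IsScalarTower.toAlgHom C D K)
      (fun _ _ => Commute.all _ _)).toRingHom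
    commutes' := fun d => by
      show Algebra.TensorProduct.lift a (IsScalarTower.toAlgHom C D K)
        (fun _ _ => Commute.all _ _) ((1 : X) ⊗ₜ[C] d) = _
      rw [Algebra.TensorProduct.lift_tmul, map_one, one_mul]
      rfl }

theorem mkPt_tmul (a : X →ₐ[C] K) (x : X) (d : D) :
    mkPt a (x ⊗ₜ[C] d) = a x * algebraMap D K d := by
  show Algebra.TensorProduct.lift a (IsScalarTower.toAlgHom C D K)
    (fun _ _ => Commute.all _ _) (x ⊗ₜ[C] d) = _
  rw [Algebra.TensorProduct.lift_tmul]
  rfl

/-- restriction of a point of `X ⊗[C] D` to `X`. -/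
noncomputable def resPt (â : X ⊗[C] D →ₐ[D] K) : X →ₐ[C] K :=
  { toRingHom := (â : X ⊗[C] D →+* K).comp Algebra.TensorProduct.includeLeftRingHom
    commutes' := fun c => by
      show â ((algebraMap C X c) ⊗ₜ[C] (1 : D)) = algebraMap C K c
      have h1 : (algebraMap C X c) ⊗ₜ[C] (1 : D) = algebraMap D (X ⊗[C] D) (algebraMap C D c) := by
        show _ = (1 : X) ⊗ₜ[C] (algebraMap C D c)
        rw [Algebra.algebraMap_eq_smul_one, Algebra.algebraMap_eq_smul_one, TensorProduct.tmul_smul,
          TensorProduct.smul_tmul']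
      rw [h1, AlgHom.commutes, ← IsScalarTower.algebraMap_apply] }

theorem resPt_apply (â : X ⊗[C] D →ₐ[D] K) (x : X) : resPt â x = â (x ⊗ₜ[C] (1 : D)) := rfl

theorem resPt_mkPt (a : X →ₐ[C] K) : resPt (mkPt (D := D) a) = a := by
  ext x
  rw [resPt_apply, mkPt_tmul, map_one, mul_one]

theorem pt_tmul (â : X ⊗[C] D →ₐ[D] K) (x : X) (d : D) :
    â (x ⊗ₜ[C] d) = resPt â x * algebraMap D K d := by
  have h1 : x ⊗ₜ[C] d = (x ⊗ₜ[C] (1 : D)) * algebraMap D (X ⊗[C] D) d := by
    show _ = (x ⊗ₜ[C] (1 : D)) * ((1 : X) ⊗ₜ[C] d)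
    rw [Algebra.TensorProduct.tmul_mul_tmul, mul_one, one_mul]
  rw [h1, map_mul, AlgHom.commutes]
  rfl

theorem mkPt_resPt (â : X ⊗[C] D →ₐ[D] K) : mkPt (resPt â) = â := by
  apply AlgHom.ext
  intro z
  induction z using TensorProduct.induction_on with
  | zero => rw [map_zero, map_zero]
  | tmul x d => rw [mkPt_tmul, pt_tmul]
  | add x y hx hy => rw [map_add, map_add, hx, hy]

theorem pt_comp_bc (b : Y ⊗[C] D →ₐ[D] K) (g : X →ₐ[C] Y) (z : X ⊗[C] D) :
    b (HQ.bc g D z) = mkPt ((resPt b).comp g) z := by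
  induction z using TensorProduct.induction_on with
  | zero => rw [map_zero, map_zero, map_zero]
  | tmul x d =>
    rw [mkPt_tmul]
    show b (g x ⊗ₜ[C] d) = _
    rw [pt_tmul]
    rfl
  | add x y hx hy => rw [map_add, map_add, map_add, hx, hy]

end pts

section data

variable {C A B A' B' : Type u} [CommRing C] [CommRing A] [CommRing B] [CommRing A'] [CommRing B']
  [Algebra C A] [Algebra C B] [Algebra C A'] [Algebra C B'] [Algebra A A'] [IsScalarTower C A A']

/-- the ring-level hypotheses of the Keel–Mori étale cartesian morphism theorem. -/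
structure KMHyp (s t : A →ₐ[C] B) (s' t' : A' →ₐ[C] B') (fR : B →ₐ[C] B') : Prop where
  po_s : PO s.toRingHom (algebraMap A A') fR.toRingHom s'.toRingHom
  po_t : PO t.toRingHom (algebraMap A A') fR.toRingHom t'.toRingHom
  hC : ∀ a, s a = t a → a ∈ Set.range (algebraMap C A)
  hinj : Function.Injective (algebraMap C A)
  int : Algebra.IsIntegral C A
  fin_s : s.toRingHom.Finite
  etale : Algebra.Etale A A'
  int' : ∀ a' : A', IsIntegral (AlgHom.equalizer s' t') a'
  arrow : ∀ (K : Type u) [Field K] [IsAlgClosed K] (a₁ a₂ : A →+* K),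
    a₁.comp (algebraMap C A) = a₂.comp (algebraMap C A) →
    ∃ b : B →+* K, b.comp t.toRingHom = a₁ ∧ b.comp s.toRingHom = a₂
  sect : ∀ (K : Type u) [Field K] [IsAlgClosed K] (x' : A' →+* K),
    ∃ Φ : (A →+* K) → (A' →+* K),
      Φ (x'.comp (algebraMap A A')) = x' ∧
      (∀ a : A →+* K, a.comp (algebraMap C A) =
          (x'.comp (algebraMap A A')).comp (algebraMap C A) →
        (Φ a).comp (algebraMap A A') = a) ∧
      ∀ r'' : B' →+* K,
        ((r''.comp fR.toRingHom).comp s.toRingHom).comp (algebraMap C A) =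
          (x'.comp (algebraMap A A')).comp (algebraMap C A) →
        r''.comp s'.toRingHom = Φ ((r''.comp fR.toRingHom).comp s.toRingHom) →
        r''.comp t'.toRingHom = Φ ((r''.comp fR.toRingHom).comp t.toRingHom)

variable {s t : A →ₐ[C] B} {s' t' : A' →ₐ[C] B'} {fR : B →ₐ[C] B'}

theorem KMHyp.isIntegral_B (h : KMHyp s t s' t' fR) : Algebra.IsIntegral C B := by
  haveI := h.int
  have h1 : (algebraMap C A).IsIntegral := algebraMap_isIntegral_iff.mpr inferInstance
  have h2 : s.toRingHom.IsIntegral := h.fin_s.to_isIntegral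
  have h3 := RingHom.IsIntegral.trans _ _ h1 h2
  have h4 : s.toRingHom.comp (algebraMap C A) = algebraMap C B := by
    ext c
    exact s.commutes c
  rw [h4] at h3
  exact algebraMap_isIntegral_iff.mp h3

attribute [local instance] Algebra.TensorProduct.rightAlgebra

set_option maxHeartbeats 3200000 in
set_option synthInstance.maxHeartbeats 400000 in
/-- the equivariant section over the strict henselization. -/
theorem dlevel (h : KMHyp s t s' t' fR) (p' : Ideal (AlgHom.equalizer s' t')) [p'.IsPrime]
    (p : Ideal C) [p.IsPrime] (hp : p'.comap (algebraMap C (AlgHom.equalizer s' t')) = p) :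
    ∃ (K : Type u) (_ : Field K) (τ₀ : A' →ₐ[A] A ⊗[C] Dp p) (ζ : A ⊗[C] Dp p →+* K),
      (∀ c' : AlgHom.equalizer s' t', ζ (τ₀ c') = 0 ↔ c' ∈ p') ∧
      ∀ β : B' →+* B ⊗[C] Dp p,
        β.comp fR.toRingHom = Algebra.TensorProduct.includeLeftRingHom →
        β.comp s'.toRingHom = (HQ.bc s (Dp p)).toRingHom.comp τ₀.toRingHom →
        β.comp t'.toRingHom = (HQ.bc t (Dp p)).toRingHom.comp τ₀.toRingHom := by
  classical
  haveI := h.etale
  haveI := h.int
  haveI := h.isIntegral_B
  haveI : Algebra.IsIntegral (AlgHom.equalizer s' t') A' := ⟨h.int'⟩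
  obtain ⟨K, _, _, x', hx'⟩ := exists_pt_over_prime (C' := AlgHom.equalizer s' t') (A' := A')
    Subtype.val_injective p'
  let a₀ : A →+* K := x'.comp (algebraMap A A')
  let ξ : C →+* K := a₀.comp (algebraMap C A)
  have hξ : RingHom.ker ξ = p := by
    ext c
    rw [RingHom.mem_ker, ← hp, Ideal.mem_comap, ← hx']
    show x' (algebraMap A A' (algebraMap C A c)) = 0 ↔
      x' (algebraMap _ A' (algebraMap C (AlgHom.equalizer s' t') c)) = 0
    rw [← IsScalarTower.algebraMap_apply C A A',
      ← IsScalarTower.algebraMap_apply C (AlgHom.equalizer s' t') A']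
  obtain ⟨χ, hχ1, hχ2⟩ := exists_chi p ξ hξ
  letI : Algebra (Dp p) K := χ.toAlgebra
  letI : Algebra C K := ξ.toAlgebra
  haveI : IsScalarTower C (Dp p) K :=
    .of_algebraMap_eq (fun c => (congrFun (congrArg DFunLike.coe hχ1) c).symm)
  have hker : ∀ d : Dp p, algebraMap (Dp p) K d = 0 ↔ d ∈ maximalIdeal (Dp p) := hχ2
  haveI : Algebra.IsIntegral (Dp p) (A ⊗[C] Dp p) := isIntegral_rightAlgebra
  haveI : Algebra.IsIntegral (Dp p) (B ⊗[C] Dp p) := isIntegral_rightAlgebra
  let a₀alg : A →ₐ[C] K := ⟨a₀, fun c => rfl⟩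
  -- finiteness of the set of points
  haveI : Finite (A →ₐ[C] K) := by
    haveI := finite_hom_over s.toRingHom h.fin_s a₀
    let G : {b : B →+* K // b.comp s.toRingHom = a₀} → (A →ₐ[C] K) := fun b =>
      ⟨b.1.comp t.toRingHom, fun c => by
        show b.1 (t (algebraMap C A c)) = ξ c
        rw [t.commutes, ← s.commutes]
        exact congrFun (congrArg DFunLike.coe b.2) (algebraMap C A c)⟩
    refine Finite.of_surjective G (fun a => ?_)
    obtain ⟨b, hb1, hb2⟩ := h.arrow K a.toRingHom a₀ (by
      ext c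
      exact a.commutes c)
    refine ⟨⟨b, hb2⟩, ?_⟩
    apply AlgHom.ext
    intro x
    exact congrFun (congrArg DFunLike.coe hb1) x
  haveI : Finite (A ⊗[C] Dp p →ₐ[Dp p] K) :=
    Finite.of_injective (fun â => resPt â) (fun â â' hh => by
      rw [← mkPt_resPt â, ← mkPt_resPt â']
      exact congrArg mkPt hh)
  obtain ⟨Φ, hΦ1, hΦ2, hΦ3⟩ := h.sect K x'
  have hres : ∀ a : A →ₐ[C] K, a.toRingHom.comp (algebraMap C A) =
      (x'.comp (algebraMap A A')).comp (algebraMap C A) := by
    intro a
    ext c
    exact a.commutes c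
  let Ψ : (A ⊗[C] Dp p →ₐ[Dp p] K) → (A' →+* K) := fun â => Φ (resPt â).toRingHom
  have hΨ : ∀ (â : A ⊗[C] Dp p →ₐ[Dp p] K) (r : A),
      Ψ â (algebraMap A A' r) = â (algebraMap A (A ⊗[C] Dp p) r) := by
    intro â r
    have := hΦ2 (resPt â).toRingHom (hres _)
    exact congrFun (congrArg DFunLike.coe this) r
  obtain ⟨τ₀, hτ₀⟩ := exists_lift_of_pts hker Ψ hΨ
  have hτ₀' : ∀ (a : A →ₐ[C] K) (a' : A'), mkPt (D := Dp p) a (τ₀ a') = Φ a.toRingHom a' := by
    intro a a'
    rw [hτ₀]
    show Φ (resPt (mkPt (D := Dp p) a)).toRingHom a' = _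
    rw [resPt_mkPt]
  refine ⟨K, inferInstance, τ₀, (mkPt (D := Dp p) a₀alg).toRingHom, ?_, ?_⟩
  · intro c'
    rw [← hx']
    show mkPt (D := Dp p) a₀alg (τ₀ c') = 0 ↔ _
    rw [hτ₀']
    show Φ (x'.comp (algebraMap A A')) c' = 0 ↔ _
    rw [hΦ1]
    rfl
  · intro β hβ1 hβ2
    letI : Algebra A (B ⊗[C] Dp p) :=
      ((Algebra.TensorProduct.includeLeftRingHom : B →+* B ⊗[C] Dp p).comp t.toRingHom).toAlgebra
    have hcomm_t : ∀ a, fR (t a) = t' (algebraMap A A' a) := fun a =>
      congrFun (congrArg DFunLike.coe h.po_t.comm) a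
    let f : A' →ₐ[A] B ⊗[C] Dp p :=
      { toRingHom := β.comp t'.toRingHom
        commutes' := fun a => by
          show β (t' (algebraMap A A' a)) = (t a) ⊗ₜ[C] (1 : Dp p)
          rw [← hcomm_t]
          exact congrFun (congrArg DFunLike.coe hβ1) (t a) }
    let g : A' →ₐ[A] B ⊗[C] Dp p :=
      { toRingHom := (HQ.bc t (Dp p)).toRingHom.comp τ₀.toRingHom
        commutes' := fun a => by
          show HQ.bc t (Dp p) (τ₀ (algebraMap A A' a)) = (t a) ⊗ₜ[C] (1 : Dp p)
          rw [τ₀.commutes]
          rfl }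
    have hfg : f = g := by
      refine eq_of_pts_eq hker f g (fun b a' => ?_)
      set r'' : B' →+* K := (b : B ⊗[C] Dp p →+* K).comp β with hr''
      have e1 : r''.comp fR.toRingHom = (resPt b).toRingHom := by
        ext y
        show b (β (fR y)) = b (y ⊗ₜ[C] (1 : Dp p))
        rw [show β (fR y) = y ⊗ₜ[C] (1 : Dp p) from congrFun (congrArg DFunLike.coe hβ1) y]
      have e2 : ∀ u : A →ₐ[C] B, (r''.comp fR.toRingHom).comp u.toRingHom =
          ((resPt b).comp u).toRingHom := by
        intro u
        rw [e1]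
        rfl
      have hfib : ((r''.comp fR.toRingHom).comp s.toRingHom).comp (algebraMap C A) =
          (x'.comp (algebraMap A A')).comp (algebraMap C A) := by
        rw [e2]
        exact hres _
      have hsrc : r''.comp s'.toRingHom = Φ ((r''.comp fR.toRingHom).comp s.toRingHom) := by
        rw [e2]
        ext a''
        show b (β (s' a'')) = _
        rw [show β (s' a'') = HQ.bc s (Dp p) (τ₀ a'') from
          congrFun (congrArg DFunLike.coe hβ2) a'', pt_comp_bc, hτ₀']
      have := hΦ3 r'' hfib hsrc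
      rw [e2] at this
      show b (β (t' a')) = b (HQ.bc t (Dp p) (τ₀ a'))
      rw [pt_comp_bc, hτ₀', ← this]
      rfl
    have := congrArg (fun φ : A' →ₐ[A] B ⊗[C] Dp p => φ.toRingHom) hfg
    exact this

end data

end Groth.Agent.Lib.Helper20.KM
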