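import Mathlib
import Groth.Agent.Lib.Helper20.KM6

set_option autoImplicit false
set_option linter.style.haveILetI false
set_option linter.unusedSectionVars false
universe u

namespace Groth.Agent.Lib.Helper20.FQ

open TensorProduct IsLocalRing
open Groth.Agent.Lib.Helper20.KM
open Groth.Agent.Lib.Helper20

section pi

variable {B : Type u} [CommRing B] {ι : Type*} [Fintype ι] [DecidableEq ι]
  {M : ι → Type u} [∀ i, AddCommGroup (M i)] [∀ i, Module B (M i)]
  {N : Type u} [AddCommGroup N] [Module B N]

theorem pi_tensor_ext (z w : (Π i, M i) ⊗[B] N)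
    (h : ∀ i, (LinearMap.proj i : (Π i, M i) →ₗ[B] M i).rTensor N z =
      (LinearMap.proj i : (Π i, M i) →ₗ[B] M i).rTensor N w) : z = w := by
  have hid : (∑ i, (LinearMap.single B M i).comp (LinearMap.proj i) :
      (Π i, M i) →ₗ[B] (Π i, M i)) = LinearMap.id := by
    ext f j
    simp [Finset.sum_apply]
  have key : ∀ x : (Π i, M i) ⊗[B] N,
      x = ∑ i, (LinearMap.single B M i).rTensor N
        ((LinearMap.proj i : (Π i, M i) →ₗ[B] M i).rTensor N x) := by
    intro x
    have h1 : (∑ i, (LinearMap.single B M i).comp (LinearMap.proj i) :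
        (Π i, M i) →ₗ[B] (Π i, M i)).rTensor N =
        ∑ i, ((LinearMap.single B M i).comp (LinearMap.proj i)).rTensor N := by
      rw [← LinearMap.coe_rTensorHom, map_sum]
    conv_lhs => rw [← LinearMap.rTensor_id_apply N (Π i, M i) x, ← hid, h1, LinearMap.sum_apply]
    refine Finset.sum_congr rfl fun i _ => ?_
    rw [LinearMap.rTensor_comp_apply]
  rw [key z, key w]
  exact Finset.sum_congr rfl fun i _ => by rw [h i]

end pi

section inv

variable {B A D : Type u} [CommRing B] [CommRing A] [CommRing D] [Algebra B A] [Algebra B D]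
  {G : Type u} [Group G] [MulSemiringAction G A] [SMulCommClass G B A]

/-- the action of `g` on `A ⊗[B] D`. -/
noncomputable def γ (g : G) : A ⊗[B] D →ₐ[B] A ⊗[B] D :=
  HQ.bc (MulSemiringAction.toAlgHom B A g) D

theorem γ_tmul (g : G) (a : A) (d : D) : γ g (a ⊗ₜ[B] d) = (g • a) ⊗ₜ[B] d := by
  show Algebra.TensorProduct.map _ _ _ = _
  rw [Algebra.TensorProduct.map_tmul]
  rfl

theorem γ_one (x : A ⊗[B] D) : γ (1 : G) x = x := by
  induction x using TensorProduct.induction_on with
  | zero => rw [map_zero]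
  | tmul a d => rw [γ_tmul, one_smul]
  | add x y hx hy => rw [map_add, hx, hy]

theorem γ_mul (g h : G) (x : A ⊗[B] D) : γ (g * h) x = γ g (γ h x) := by
  induction x using TensorProduct.induction_on with
  | zero => rw [map_zero, map_zero, map_zero]
  | tmul a d => rw [γ_tmul, γ_tmul, γ_tmul, mul_smul]
  | add x y hx hy => rw [map_add, map_add, map_add, hx, hy]

theorem γ_right (g : G) (d : D) : γ g ((1 : A) ⊗ₜ[B] d) = (1 : A) ⊗ₜ[B] d := by
  rw [γ_tmul, smul_one]

theorem mem_range_of_invariant [Finite G] [Module.Flat B D]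
    (hinv : ∀ a : A, (∀ g : G, g • a = a) → a ∈ Set.range (algebraMap B A))
    (x : A ⊗[B] D) (hx : ∀ g : G, γ g x = x) : ∃ d : D, (1 : A) ⊗ₜ[B] d = x := by
  classical
  haveI : Fintype G := Fintype.ofFinite G
  let s : A →ₐ[B] (G → A) := AlgHom.pi (fun g => MulSemiringAction.toAlgHom B A g)
  let t : A →ₐ[B] (G → A) := AlgHom.pi (fun _ => AlgHom.id B A)
  have hs : ∀ a g, s a g = g • a := fun a g => rfl
  have ht : ∀ a g, t a g = a := fun a g => rfl
  have hC : ∀ a, s a = t a → a ∈ Set.range (algebraMap B A) := fun a ha =>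
    hinv a (fun g => by rw [← hs, ha, ht])
  have h1 : ∀ (g : G) (z : A ⊗[B] D),
      (LinearMap.proj g : (G → A) →ₗ[B] A).rTensor D
        (Algebra.TensorProduct.map s (AlgHom.id B D) z) = γ g z := by
    intro g z
    induction z using TensorProduct.induction_on with
    | zero => rw [map_zero, map_zero, map_zero]
    | tmul a d =>
      rw [Algebra.TensorProduct.map_tmul, LinearMap.rTensor_tmul, γ_tmul, LinearMap.proj_apply, hs]
      rfl
    | add x y hx hy => rw [map_add, map_add, map_add, hx, hy]
  have h2 : ∀ (g : G) (z : A ⊗[B] D),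
      (LinearMap.proj g : (G → A) →ₗ[B] A).rTensor D
        (Algebra.TensorProduct.map t (AlgHom.id B D) z) = z := by
    intro g z
    induction z using TensorProduct.induction_on with
    | zero => rw [map_zero, map_zero]
    | tmul a d =>
      rw [Algebra.TensorProduct.map_tmul, LinearMap.rTensor_tmul, LinearMap.proj_apply, ht]
      rfl
    | add x y hx hy => rw [map_add, map_add, hx, hy]
  have h3 : Algebra.TensorProduct.map s (AlgHom.id B D) x =
      Algebra.TensorProduct.map t (AlgHom.id B D) x := by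
    refine pi_tensor_ext (M := fun _ : G => A) _ _ (fun g => ?_)
    rw [h1, h2, hx]
  obtain ⟨d, hd⟩ := HQ.mem_range_includeRight_of_flat s t hC D x h3
  exact ⟨d, hd⟩

end inv

section idem

variable {D : Type u} [CommRing D] [IsLocalRing D] [HenselianLocalRing D]
  [IsSepClosed (ResidueField D)]
  {K : Type u} [Field K] [IsAlgClosed K] [Algebra D K]
  {P : Type u} [CommRing P] [Algebra D P] [Algebra.IsIntegral D P] [Finite (P →ₐ[D] K)]

/-- the "idempotent" homomorphism `D^Pts → P`. -/
theorem exists_idem_hom (hker : ∀ d : D, algebraMap D K d = 0 ↔ d ∈ maximalIdeal D) :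
    ∃ τ : ((P →ₐ[D] K) → D) →ₐ[D] P, ∀ (y : P →ₐ[D] K) (f : (P →ₐ[D] K) → D),
      y (τ f) = algebraMap D K (f y) := by
  let Ψ : (P →ₐ[D] K) → (((P →ₐ[D] K) → D) →+* K) := fun y =>
    (algebraMap D K).comp (Pi.evalRingHom (fun _ : (P →ₐ[D] K) => D) y)
  have hΨ : ∀ (â : P →ₐ[D] K) (r : D), Ψ â (algebraMap D ((P →ₐ[D] K) → D) r) =
      â (algebraMap D P r) := by
    intro â r
    rw [AlgHom.commutes]
    rfl
  obtain ⟨τ, hτ⟩ := exists_lift_of_pts (R := D) (A' := (P →ₐ[D] K) → D) hker Ψ hΨ
  exact ⟨τ, fun y f => hτ y f⟩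

end idem

section main

attribute [local instance] Algebra.TensorProduct.rightAlgebra

variable {B A D K : Type u} [CommRing B] [CommRing A] [CommRing D] [Field K]
  [Algebra B A] [Algebra B D]
  [Algebra D K] [Algebra B K] [IsScalarTower B D K]
  [IsLocalRing D] [HenselianLocalRing D] [IsSepClosed (ResidueField D)] [IsAlgClosed K]
  [Module.Finite B A] [Module.Flat B D]
  {G : Type u} [Group G] [Finite G] [MulSemiringAction G A] [SMulCommClass G B A]

theorem finite_pts : Finite (A ⊗[B] D →ₐ[D] K) := by
  haveI : Finite (A →ₐ[B] K) := by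
    haveI := finite_hom_over (algebraMap B A)
      (RingHom.finite_algebraMap.mpr inferInstance) (algebraMap B K)
    let F : (A →ₐ[B] K) → {b : A →+* K // b.comp (algebraMap B A) = algebraMap B K} := fun a =>
      ⟨a.toRingHom, by ext c; exact a.commutes c⟩
    refine Finite.of_injective F (fun a a' h => ?_)
    apply AlgHom.ext
    intro x
    exact congrFun (congrArg (fun φ => (φ.1 : A → K)) h) x
  exact Finite.of_injective (fun â => resPt â) (fun â â' hh => by
    rw [← mkPt_resPt â, ← mkPt_resPt â']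
    exact congrArg mkPt hh)

set_option maxHeartbeats 3200000 in
set_option synthInstance.maxHeartbeats 400000 in
/-- over a strictly henselian local flat `B`-algebra `D`, `A ⊗[B] D` is a finite product of
copies of `D`, when `A` is étale over some `R` below `B = A^G`. -/
theorem exists_bijective_idem_hom (R : Type u) [CommRing R] [Algebra R B] [Algebra R A]
    [IsScalarTower R B A] [Algebra R D] [IsScalarTower R B D] [Algebra.Etale R A]
    (hker : ∀ d : D, algebraMap D K d = 0 ↔ d ∈ maximalIdeal D)
    (hinv : ∀ a : A, (∀ g : G, g • a = a) → a ∈ Set.range (algebraMap B A))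
    (hinj : Function.Injective (algebraMap B A)) :
    ∃ τ : ((A ⊗[B] D →ₐ[D] K) → D) →ₐ[D] A ⊗[B] D, Function.Bijective τ := by
  classical
  haveI : Algebra.IsIntegral B A := Algebra.IsIntegral.of_finite B A
  haveI : Algebra.IsIntegral D (A ⊗[B] D) := isIntegral_rightAlgebra
  haveI : Finite (A ⊗[B] D →ₐ[D] K) := finite_pts
  haveI : Fintype (A ⊗[B] D →ₐ[D] K) := Fintype.ofFinite _
  haveI : Fintype G := Fintype.ofFinite G
  obtain ⟨τ, hτ⟩ := exists_idem_hom (P := A ⊗[B] D) hker
  refine ⟨τ, ?_⟩
  -- notation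
  set ι : D →+* A ⊗[B] D := algebraMap D (A ⊗[B] D) with hι
  have hι' : ∀ d, ι d = (1 : A) ⊗ₜ[B] d := fun d => rfl
  have hιinj : Function.Injective ι := by
    intro d d' h
    exact HQ.includeRight_injective_of_flat hinj D h
  let e : (A ⊗[B] D →ₐ[D] K) → A ⊗[B] D := fun x => τ (Pi.single x 1)
  have he_idem : ∀ x, e x * e x = e x := by
    intro x
    show τ _ * τ _ = τ _
    rw [← map_mul, ← Pi.single_mul, one_mul]
  have he_pt : ∀ x y : A ⊗[B] D →ₐ[D] K, y (e x) = if y = x then 1 else 0 := by
    intro x y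
    show y (τ _) = _
    rw [hτ, Pi.single_apply]
    split_ifs
    · rw [map_one]
    · rw [map_zero]
  have hJ : HenselianRing (A ⊗[B] D) (ptRad D K (A ⊗[B] D)) := henselianRing_ptRad hker
  have hjac : ptRad D K (A ⊗[B] D) ≤ Ideal.jacobson ⊥ := HenselianRing.jac
  -- step (b): `t e_x ∈ D e_x`
  have hb : ∀ (x : A ⊗[B] D →ₐ[D] K) (t : A ⊗[B] D), ∃ d : D, t * e x = ι d * e x := by
    intro x
    -- the section `τx : A → D`
    haveI : Algebra.IsIntegral D D := Algebra.IsIntegral.of_finite D D
    haveI : Finite (D →ₐ[D] K) := by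
      haveI : Subsingleton (D →ₐ[D] K) := ⟨fun φ φ' => by
        apply AlgHom.ext
        intro d
        have h1 := φ.commutes d
        have h2 := φ'.commutes d
        rw [Algebra.algebraMap_self_apply] at h1 h2
        rw [h1, h2]⟩
      exact Finite.of_subsingleton
    let Ψ : (D →ₐ[D] K) → (A →+* K) := fun _ => (resPt x).toRingHom
    have hΨ : ∀ (â : D →ₐ[D] K) (r : R), Ψ â (algebraMap R A r) = â (algebraMap R D r) := by
      intro â r
      show resPt x (algebraMap R A r) = _
      rw [IsScalarTower.algebraMap_apply R B A, AlgHom.commutes,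
        IsScalarTower.algebraMap_apply R B D]
      have h1 := â.commutes (algebraMap B D (algebraMap R B r))
      rw [Algebra.algebraMap_self_apply] at h1
      rw [h1, ← IsScalarTower.algebraMap_apply B D K]
    obtain ⟨τx, hτx⟩ := exists_lift_of_pts (R := R) (A' := A) (P := D) hker Ψ hΨ
    have hτx' : ∀ a : A, algebraMap D K (τx a) = x (a ⊗ₜ[B] (1 : D)) := by
      intro a
      have := hτx (Algebra.ofId D K) a
      exact this
    -- the two maps `A → P`
    letI algRP : Algebra R (A ⊗[B] D) :=
      ((Algebra.TensorProduct.includeLeftRingHom : A →+* A ⊗[B] D).comp (algebraMap R A)).toAlgebra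
    let f : A →ₐ[R] A ⊗[B] D :=
      { toRingHom := Algebra.TensorProduct.includeLeftRingHom
        commutes' := fun r => rfl }
    let g : A →ₐ[R] A ⊗[B] D :=
      { toRingHom := ι.comp τx.toRingHom
        commutes' := fun r => by
          show (1 : A) ⊗ₜ[B] (τx (algebraMap R A r)) = (algebraMap R A r) ⊗ₜ[B] (1 : D)
          rw [τx.commutes, IsScalarTower.algebraMap_apply R B A,
            IsScalarTower.algebraMap_apply R B D,
            Algebra.algebraMap_eq_smul_one (R := B) (A := A),
            Algebra.algebraMap_eq_smul_one (R := B) (A := D), TensorProduct.tmul_smul,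
            TensorProduct.smul_tmul'] }
    have hf : ∀ a, f a = a ⊗ₜ[B] (1 : D) := fun a => rfl
    have hg : ∀ a, g a = ι (τx a) := fun a => rfl
    obtain ⟨ε, hε1, hε2⟩ := exists_eps_of_unramified f g
    have hxε : x ε = 1 := by
      refine hε2 K (x : A ⊗[B] D →+* K) (fun a => ?_)
      show x (f a) = x (g a)
      rw [hf, hg, ← hτx' a]
      exact (x.commutes (τx a)).symm
    set r : A ⊗[B] D := ε * e x - e x with hr
    have hrmem : r ∈ ptRad D K (A ⊗[B] D) := by
      rw [mem_ptRad]
      intro y
      rw [hr, map_sub, map_mul, he_pt]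
      split_ifs with hy
      · rw [hy, hxε, mul_one, sub_self]
      · rw [mul_zero, sub_self]
    have hu : IsUnit (1 + r) := by
      have := Ideal.mem_jacobson_bot.mp (hjac hrmem) 1
      rwa [mul_one, add_comm] at this
    have her : e x * (1 + r) = ε * e x := by
      rw [hr, mul_add, mul_one, mul_sub, ← mul_assoc, mul_comm (e x) ε, mul_assoc, he_idem]
      ring
    have hkey : ∀ a : A, (a ⊗ₜ[B] (1 : D)) * e x = ι (τx a) * e x := by
      intro a
      apply hu.mul_left_injective
      show (a ⊗ₜ[B] (1 : D)) * e x * (1 + r) = ι (τx a) * e x * (1 + r)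
      rw [mul_assoc, mul_assoc, her, ← mul_assoc, ← mul_assoc, ← hf, ← hg, hε1]
    intro t
    induction t using TensorProduct.induction_on with
    | zero => exact ⟨0, by rw [zero_mul, map_zero, zero_mul]⟩
    | tmul a d =>
      refine ⟨τx a * d, ?_⟩
      have h1 : a ⊗ₜ[B] d = (a ⊗ₜ[B] (1 : D)) * ι d := by
        rw [hι', Algebra.TensorProduct.tmul_mul_tmul, mul_one, one_mul]
      rw [h1, mul_assoc, mul_comm (ι d), ← mul_assoc, hkey, map_mul]
      ring
    | add t t' ht ht' =>
      obtain ⟨d, hd⟩ := ht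
      obtain ⟨d', hd'⟩ := ht'
      exact ⟨d + d', by rw [add_mul, hd, hd', map_add, add_mul]⟩
  -- step (c): `D → P e_x` is injective
  have hc : ∀ (x : A ⊗[B] D →ₐ[D] K) (d : D), ι d * e x = 0 → d = 0 := by
    intro x d hd
    set u : A ⊗[B] D := ∏ g : G, γ g (1 - e x) with hu
    have hγι : ∀ (g : G) (d' : D), γ g (ι d') = ι d' := fun g d' => γ_right g d'
    have huinv : ∀ h : G, γ h u = u := by
      intro h
      rw [hu, map_prod]
      refine Fintype.prod_equiv (Equiv.mulLeft h) _ _ (fun g => ?_)
      rw [Equiv.coe_mulLeft, γ_mul]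
    obtain ⟨δ, hδ⟩ := mem_range_of_invariant hinv u huinv
    have hxu : x u = 0 := by
      rw [hu, map_prod]
      refine Finset.prod_eq_zero (Finset.mem_univ (1 : G)) ?_
      rw [γ_one, map_sub, map_one, he_pt, if_pos rfl, sub_self]
    have hδm : δ ∈ maximalIdeal D := by
      rw [← hker]
      have h1 : x (ι δ) = algebraMap D K δ := x.commutes δ
      rw [← h1, hι', hδ, hxu]
    have hdu : ∀ s : Finset G, ι d * ∏ g ∈ s, γ g (1 - e x) = ι d := by
      intro s
      induction s using Finset.induction_on with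
      | empty => rw [Finset.prod_empty, mul_one]
      | insert a s ha ih =>
        rw [Finset.prod_insert ha, ← mul_assoc]
        have h1 : ι d * γ a (1 - e x) = ι d := by
          rw [map_sub, map_one, mul_sub, mul_one, ← hγι a d, ← map_mul, hd, map_zero, sub_zero,
            hγι]
        rw [h1, ih]
    have h2 : ι d = ι (d * δ) := by
      rw [map_mul, hι' δ, hδ, hu]
      exact (hdu Finset.univ).symm
    have h3 : d = d * δ := hιinj h2
    have h4 : IsUnit (1 - δ) := by
      have := (IsLocalRing.mem_maximalIdeal δ).mp hδm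
      by_contra hcon
      have h5 : (1 - δ) ∈ maximalIdeal D := (IsLocalRing.mem_maximalIdeal _).mpr hcon
      have h6 : (1 : D) ∈ maximalIdeal D := by
        have := Ideal.add_mem _ h5 hδm
        rwa [sub_add_cancel] at this
      exact (Ideal.ne_top_iff_one _).mp (IsLocalRing.maximalIdeal.isMaximal D).ne_top h6
    have h5 : d * (1 - δ) = 0 := by rw [mul_sub, mul_one, ← h3, sub_self]
    exact (h4.mul_left_eq_zero).mp h5
  -- `τ f = Σ ι (f x) e_x`
  have hτe : ∀ (x : A ⊗[B] D →ₐ[D] K) (d : D), τ (Pi.single x d) = ι d * e x := by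
    intro x d
    have h1 : (Pi.single x d : (A ⊗[B] D →ₐ[D] K) → D) = d • Pi.single x 1 := by
      rw [← Pi.single_smul', smul_eq_mul, mul_one]
    rw [h1, map_smul, Algebra.smul_def]
  constructor
  · -- injective
    rw [injective_iff_map_eq_zero]
    intro f hf
    funext x
    apply hc x
    rw [← hτe]
    have h1 : (Pi.single x (f x) : (A ⊗[B] D →ₐ[D] K) → D) = f * Pi.single x 1 := by
      rw [← Pi.single_mul_right, mul_one]
    rw [h1, map_mul, hf, zero_mul]
  · -- surjective
    intro t
    choose dd hdd using fun x => hb x t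
    refine ⟨dd, ?_⟩
    have h1 : (dd : (A ⊗[B] D →ₐ[D] K) → D) = ∑ x, Pi.single x (dd x) :=
      (Finset.univ_sum_single dd).symm
    have h2 : (1 : A ⊗[B] D) = ∑ x, e x := by
      have h3 : (∑ x, Pi.single x 1 : (A ⊗[B] D →ₐ[D] K) → D) = 1 :=
        Finset.univ_sum_single (1 : (A ⊗[B] D →ₐ[D] K) → D)
      show (1 : A ⊗[B] D) = ∑ x, τ (Pi.single x 1)
      rw [← map_sum, h3, map_one]
    rw [h1, map_sum]
    conv_rhs => rw [← mul_one t, h2, Finset.mul_sum]
    exact Finset.sum_congr rfl fun x _ => by rw [hτe, hdd]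

end main

end Groth.Agent.Lib.Helper20.FQ
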