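import Mathlib
import Groth.Agent.Lib.Helper20.FQ1

set_option autoImplicit false
set_option linter.style.haveILetI false
set_option linter.unusedSectionVars false
universe u

namespace Groth.Agent.Lib.Helper20.FQ

open TensorProduct IsLocalRing
open Groth.Agent.Lib.Helper20.KM
open Groth.Agent.Lib.Helper20
open Groth.Agent.Lib.Helper4.Hzs

section flatcomp

variable {R B A : Type u} [CommRing R] [CommRing B] [CommRing A] [Algebra R B] [Algebra B A]
  [Algebra R A] [IsScalarTower R B A]

/-- flatness descends through a faithfully flat extension. -/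
theorem flat_of_flat_of_faithfullyFlat [Module.Flat R A] [Module.FaithfullyFlat B A] :
    Module.Flat R B := by
  rw [Module.Flat.iff_lTensor_preserves_injective_linearMap]
  intro N P _ _ _ _ f hf
  have h1 : Function.Injective (f.lTensor A) := Module.Flat.lTensor_preserves_injective_linearMap f hf
  have h2 : (f.lTensor B : B ⊗[R] N → B ⊗[R] P) = f.baseChange B := by
    rw [LinearMap.baseChange_eq_ltensor]
  rw [h2, ← Module.FaithfullyFlat.lTensor_injective_iff_injective B A]
  let e₁ := TensorProduct.AlgebraTensorModule.cancelBaseChange R B A A N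
  let e₂ := TensorProduct.AlgebraTensorModule.cancelBaseChange R B A A P
  have h3 : ∀ z : A ⊗[B] (B ⊗[R] N), e₂ ((f.baseChange B).lTensor A z) = f.lTensor A (e₁ z) := by
    intro z
    induction z using TensorProduct.induction_on with
    | zero => simp
    | tmul a w =>
      induction w using TensorProduct.induction_on with
      | zero => simp
      | tmul b n => simp [e₁, e₂]
      | add w w' hw hw' =>
        rw [TensorProduct.tmul_add, map_add, map_add, map_add, map_add, hw, hw']
    | add z z' hz hz' => rw [map_add, map_add, map_add, map_add, hz, hz']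
  intro z z' hzz'
  apply e₁.injective
  apply h1
  rw [← h3, ← h3, hzz']

end flatcomp

section global

variable {R B A : Type u} [CommRing R] [CommRing B] [CommRing A] [Algebra R B] [Algebra B A]
  [Algebra R A] [IsScalarTower R B A]
  {G : Type u} [Group G] [Finite G] [MulSemiringAction G A] [SMulCommClass G B A]

attribute [local instance] Algebra.TensorProduct.rightAlgebra

set_option maxHeartbeats 3200000 in
set_option synthInstance.maxHeartbeats 400000 in
theorem flat_tensor_Dp (R : Type u) [CommRing R] [Algebra R B] [Algebra R A] [IsScalarTower R B A]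
    [Algebra.Etale R A] [Module.Finite B A]
    (hinv : ∀ a : A, (∀ g : G, g • a = a) → a ∈ Set.range (algebraMap B A))
    (hinj : Function.Injective (algebraMap B A)) (q : Ideal B) [q.IsPrime] :
    Module.Flat (Dp q) (Dp q ⊗[B] A) := by
  obtain ⟨K, _, _, φ, -⟩ : ∃ (K : Type u) (_ : Field K) (_ : IsAlgClosed K)
      (_ : ResidueField (Dp q) →+* K), True :=
    ⟨AlgebraicClosure (ResidueField (Dp q)), inferInstance, inferInstance, algebraMap _ _, trivial⟩
  letI : Algebra (Dp q) K := (φ.comp (residue (Dp q))).toAlgebra
  letI : Algebra B K := ((algebraMap (Dp q) K).comp (algebraMap B (Dp q))).toAlgebra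
  haveI : IsScalarTower B (Dp q) K := .of_algebraMap_eq (fun _ => rfl)
  letI : Algebra R (Dp q) := ((algebraMap B (Dp q)).comp (algebraMap R B)).toAlgebra
  haveI : IsScalarTower R B (Dp q) := .of_algebraMap_eq (fun _ => rfl)
  have hker : ∀ d : Dp q, algebraMap (Dp q) K d = 0 ↔ d ∈ maximalIdeal (Dp q) := by
    intro d
    show φ (residue (Dp q) d) = 0 ↔ _
    rw [map_eq_zero_iff _ φ.injective, residue_eq_zero_iff]
  obtain ⟨τ, hτ⟩ := exists_bijective_idem_hom (D := Dp q) (K := K) (G := G) R hker hinv hinj
  let cm : A ⊗[B] Dp q ≃ₐ[B] Dp q ⊗[B] A := Algebra.TensorProduct.comm B A (Dp q)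
  have hsm : ∀ (d : Dp q) (z : Dp q ⊗[B] A), d • z = (d ⊗ₜ[B] (1 : A)) * z := by
    intro d z
    induction z using TensorProduct.induction_on with
    | zero => rw [smul_zero, mul_zero]
    | tmul d' a =>
      rw [TensorProduct.smul_tmul', Algebra.TensorProduct.tmul_mul_tmul, one_mul, smul_eq_mul]
    | add z z' hz hz' => rw [smul_add, mul_add, hz, hz']
  let L : ((A ⊗[B] Dp q →ₐ[Dp q] K) → Dp q) →ₗ[Dp q] Dp q ⊗[B] A :=
    { toFun := fun f => cm (τ f)
      map_add' := fun f f' => by rw [map_add, map_add]
      map_smul' := fun d f => by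
        rw [map_smul, Algebra.smul_def, map_mul, RingHom.id_apply, hsm]
        congr 1 }
  have hL : Function.Bijective L := cm.bijective.comp hτ
  haveI : Finite (A ⊗[B] Dp q →ₐ[Dp q] K) := finite_pts
  exact Module.Flat.of_linearEquiv (LinearEquiv.ofBijective L hL).symm

set_option maxHeartbeats 1600000 in
set_option synthInstance.maxHeartbeats 400000 in
theorem flat_of_invariants (R : Type u) [CommRing R] [Algebra R B] [Algebra R A]
    [IsScalarTower R B A] [Algebra.Etale R A] [Module.Finite B A]
    (hinv : ∀ a : A, (∀ g : G, g • a = a) → a ∈ Set.range (algebraMap B A))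
    (hinj : Function.Injective (algebraMap B A)) : Module.Flat B A := by
  apply Module.flat_of_localized_maximal
  intro q hq
  haveI : Module.FaithfullyFlat (Localization.AtPrime q) (Dp q) :=
    Module.FaithfullyFlat.of_flat_of_isLocalHom
  haveI : Module.Flat (Dp q) (Dp q ⊗[B] A) := flat_tensor_Dp (G := G) R hinv hinj q
  have hbc := (IsLocalizedModule.isBaseChange q.primeCompl (Localization.AtPrime q)
    (LocalizedModule.mkLinearMap q.primeCompl A)).comp
    (TensorProduct.isBaseChange (Localization.AtPrime q) (LocalizedModule q.primeCompl A) (Dp q))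
  haveI : Module.Flat (Dp q) (Dp q ⊗[Localization.AtPrime q] LocalizedModule q.primeCompl A) :=
    Module.Flat.of_linearEquiv hbc.equiv.symm
  haveI : Module.Flat (Localization.AtPrime q) (LocalizedModule q.primeCompl A) :=
    Module.Flat.of_flat_tensorProduct (Localization.AtPrime q) (LocalizedModule q.primeCompl A)
      (Dp q)
  exact Module.Flat.trans B (Localization.AtPrime q) (LocalizedModule q.primeCompl A)

set_option maxHeartbeats 1600000 in
set_option synthInstance.maxHeartbeats 400000 in
/-- **SGA 1 V 2**: if `A` is étale over a noetherian ring `R` and a finite group `G` acts on `A` by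
`R`-automorphisms with ring of invariants `B`, then `A` is étale over `B` and `B` is étale over
`R`. -/
theorem etale_of_invariants [IsNoetherianRing R] [Algebra.Etale R A]
    (hinv : ∀ a : A, (∀ g : G, g • a = a) → a ∈ Set.range (algebraMap B A))
    (hinj : Function.Injective (algebraMap B A)) :
    Algebra.Etale B A ∧ Algebra.Etale R B ∧ Module.Finite B A := by
  haveI : Algebra.IsInvariant B A G := ⟨fun a ha => hinv a ha⟩
  haveI : Algebra.IsIntegral B A := Algebra.IsInvariant.isIntegral B A G
  haveI : Algebra.FiniteType R A := inferInstance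
  haveI : Algebra.FiniteType B A := Algebra.FiniteType.of_restrictScalars_finiteType R B A
  haveI : Module.Finite B A := Algebra.IsIntegral.finite
  haveI : Algebra.FiniteType R B :=
    ⟨fg_of_fg_of_fg R B A Algebra.FiniteType.out Module.Finite.fg_top hinj⟩
  haveI : IsNoetherianRing B := Algebra.FiniteType.isNoetherianRing R B
  haveI : Algebra.FinitePresentation B A := Algebra.FinitePresentation.of_finiteType.mp inferInstance
  haveI : Algebra.FinitePresentation R B := Algebra.FinitePresentation.of_finiteType.mp inferInstance
  haveI : Algebra.FormallyUnramified B A := Algebra.FormallyUnramified.of_restrictScalars R B A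
  haveI : Module.Flat B A := flat_of_invariants (G := G) R hinv hinj
  haveI : Algebra.Etale B A := Algebra.Etale.of_formallyUnramified_of_flat
  haveI : FaithfulSMul B A := (faithfulSMul_iff_algebraMap_injective B A).mpr hinj
  haveI : Module.FaithfullyFlat B A :=
    Module.FaithfullyFlat.of_comap_surjective (Algebra.IsIntegral.comap_surjective B A)
  haveI : Module.Flat R A := inferInstance
  haveI : Module.Flat R B := flat_of_flat_of_faithfullyFlat (A := A)
  haveI : Algebra.FormallyUnramified R B := by
    constructor
    have h1 : Subsingleton (A ⊗[B] Ω[B⁄R]) :=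
      (KaehlerDifferential.tensorKaehlerEquivOfFormallyEtale R B A).subsingleton
    exact Module.FaithfullyFlat.lTensor_reflects_triviality B A _
  exact ⟨inferInstance, Algebra.Etale.of_formallyUnramified_of_flat, inferInstance⟩

end global

end Groth.Agent.Lib.Helper20.FQ
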