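import Mathlib
import Groth.Agent.Lib.Helper20.KM6

/-!
# KM7: descending the equivariant section to a finite étale level
-/

set_option autoImplicit false
set_option linter.style.haveILetI false
set_option linter.unusedSectionVars false
universe u

namespace Groth.Agent.Lib.Helper20.KM

open TensorProduct IsLocalRing

section descent

variable {C D : Type u} [CommRing C] [CommRing D] [Algebra C D]

theorem lT_bc {X Y : Type u} [CommRing X] [CommRing Y] [Algebra C X] [Algebra C Y] (g : X →ₐ[C] Y)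
    {E E' : Type u} [CommRing E] [Algebra C E] [CommRing E'] [Algebra C E'] (ψ : E →ₐ[C] E')
    (x : X ⊗[C] E) : lT Y ψ (HQ.bc g E x) = HQ.bc g E' (lT X ψ x) := by
  induction x using TensorProduct.induction_on with
  | zero => simp
  | tmul x e => simp [lT, HQ.bc]
  | add x y hx hy => rw [map_add, map_add, map_add, map_add, hx, hy]

variable {A A' : Type u} [CommRing A] [CommRing A'] [Algebra C A] [Algebra A A']

/-- descending an algebra map out of a finitely presented algebra to a stage. -/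
theorem IndEt.descend_algHom (hI : IndEt C D) [Algebra.FinitePresentation A A']
    (τ₀ : A' →ₐ[A] A ⊗[C] D) (X₀ : Stage C D) :
    ∃ (Y : Stage C D) (_ : Stage.Hom X₀ Y) (τ₁ : A' →ₐ[A] A ⊗[C] Y.E),
      ∀ a', lT A Y.φ (τ₁ a') = τ₀ a' := by
  classical
  obtain ⟨n, f, hf, hker⟩ := Algebra.FinitePresentation.out (R := A) (A := A')
  obtain ⟨G, hG⟩ := hker
  obtain ⟨Y₁, f₁, y, hy⟩ := hI.tensor_rep_fin A X₀ (fun i : Fin n => τ₀ (f (MvPolynomial.X i)))
  let T₁ : MvPolynomial (Fin n) A →ₐ[A] A ⊗[C] Y₁.E := MvPolynomial.aeval y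
  have hT₁ : (lT A Y₁.φ).comp T₁ = τ₀.comp f := by
    apply MvPolynomial.algHom_ext
    intro i
    show lT A Y₁.φ (MvPolynomial.aeval y (MvPolynomial.X i)) = τ₀ (f (MvPolynomial.X i))
    rw [MvPolynomial.aeval_X, hy]
  have hG0 : ∀ g : G, lT A Y₁.φ (T₁ g.1) = 0 := by
    intro g
    have h1 : lT A Y₁.φ (T₁ g.1) = τ₀ (f g.1) := congrArg (fun φ => φ g.1) hT₁
    have h2 : g.1 ∈ RingHom.ker f.toRingHom := by
      rw [← hG]
      exact Ideal.subset_span g.2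
    rw [h1, show f g.1 = 0 from h2, map_zero]
  obtain ⟨Y₂, f₂, h₂⟩ := hI.tensor_kill_fin A Y₁ (fun g : G => T₁ g.1) hG0
  let T₂ : MvPolynomial (Fin n) A →ₐ[A] A ⊗[C] Y₂.E := (lT A f₂.ψ).comp T₁
  have hle : RingHom.ker f.toRingHom ≤ RingHom.ker T₂.toRingHom := by
    rw [← hG, Ideal.span_le]
    intro g hg
    exact h₂ ⟨g, hg⟩
  refine ⟨Y₂, f₂.comp f₁, AlgHom.liftOfSurjective f hf T₂ hle, fun a' => ?_⟩
  obtain ⟨P, rfl⟩ := hf a'
  rw [AlgHom.liftOfSurjective_apply]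
  show lT A Y₂.φ (lT A f₂.ψ (T₁ P)) = τ₀ (f P)
  rw [lT_comp_apply, f₂.comm]
  exact congrArg (fun φ => φ P) hT₁

/-- making two maps out of a finite type algebra equal at a later stage. -/
theorem IndEt.descend_eq (hI : IndEt C D) [Algebra.FiniteType A A'] {B : Type u} [CommRing B]
    [Algebra C B] (Y : Stage C D) (u v : A' →+* B ⊗[C] Y.E)
    (huv : u.comp (algebraMap A A') = v.comp (algebraMap A A'))
    (h : ∀ a', lT B Y.φ (u a') = lT B Y.φ (v a')) :
    ∃ (Y₂ : Stage C D) (f₂ : Stage.Hom Y Y₂), ∀ a', lT B f₂.ψ (u a') = lT B f₂.ψ (v a') := by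
  classical
  obtain ⟨n, f, hf⟩ := Algebra.FiniteType.iff_quotient_mvPolynomial''.mp
    (inferInstance : Algebra.FiniteType A A')
  obtain ⟨Y₂, f₂, h₂⟩ := hI.tensor_kill_fin B Y
    (fun i : Fin n => u (f (MvPolynomial.X i)) - v (f (MvPolynomial.X i))) (fun i => by
      rw [map_sub, h, sub_self])
  refine ⟨Y₂, f₂, fun a' => ?_⟩
  obtain ⟨P, rfl⟩ := hf a'
  induction P using MvPolynomial.induction_on with
  | C a =>
    have e : f (MvPolynomial.C a) = algebraMap A A' a := f.commutes a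
    rw [e]
    have := congrFun (congrArg DFunLike.coe huv) a
    show lT B f₂.ψ (u (algebraMap A A' a)) = lT B f₂.ψ (v (algebraMap A A' a))
    exact congrArg _ this
  | add P Q hP hQ => rw [map_add, map_add, map_add, map_add, map_add, hP, hQ]
  | mul_X P i hP =>
    have hi := h₂ i
    rw [map_sub, sub_eq_zero] at hi
    rw [map_mul, map_mul, map_mul, map_mul, map_mul, hP, hi]

end descent

section flevel

variable {C A B A' B' : Type u} [CommRing C] [CommRing A] [CommRing B] [CommRing A'] [CommRing B']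
  [Algebra C A] [Algebra C B] [Algebra C A'] [Algebra C B'] [Algebra A A'] [IsScalarTower C A A']
  {s t : A →ₐ[C] B} {s' t' : A' →ₐ[C] B'} {fR : B →ₐ[C] B'}

set_option maxHeartbeats 3200000 in
set_option synthInstance.maxHeartbeats 400000 in
/-- the equivariant section over a finite étale level. -/
theorem flevel (h : KMHyp s t s' t' fR) (p' : Ideal (AlgHom.equalizer s' t')) [p'.IsPrime] :
    ∃ (C₁ : Type u) (_ : CommRing C₁) (_ : Algebra C C₁) (_ : Algebra.Etale C C₁)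
      (τ₁ : A' →ₐ[A] A ⊗[C] C₁) (q : Ideal C₁) (_ : q.IsPrime),
      (∀ β : B' →+* B ⊗[C] C₁,
        β.comp fR.toRingHom = Algebra.TensorProduct.includeLeftRingHom →
        β.comp s'.toRingHom = (HQ.bc s C₁).toRingHom.comp τ₁.toRingHom →
        β.comp t'.toRingHom = (HQ.bc t C₁).toRingHom.comp τ₁.toRingHom) ∧
      ∀ (c' : AlgHom.equalizer s' t') (c₁ : C₁), τ₁ c' = (1 : A) ⊗ₜ[C] c₁ → (c₁ ∈ q ↔ c' ∈ p') := by
  classical
  haveI := h.etale
  set p : Ideal C := p'.comap (algebraMap C (AlgHom.equalizer s' t')) with hp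
  haveI : p.IsPrime := Ideal.comap_isPrime _ _
  obtain ⟨K, _, τ₀, ζ, hζ, heq₀⟩ := dlevel h p' p rfl
  have hI : IndEt C (Dp p) := indEt_Dp p
  obtain ⟨Y, -, τ₁, hτ₁⟩ := hI.descend_algHom τ₀ ⟨C, Algebra.ofId C (Dp p)⟩
  -- the arrow-level map at stage `Y`
  have hcomm_s : ∀ a, fR (s a) = s' (algebraMap A A' a) := fun a =>
    congrFun (congrArg DFunLike.coe h.po_s.comm) a
  have hcomm_t : ∀ a, fR (t a) = t' (algebraMap A A' a) := fun a =>
    congrFun (congrArg DFunLike.coe h.po_t.comm) a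
  obtain ⟨β₁, hβ₁1, hβ₁2⟩ := h.po_s.desc (B ⊗[C] Y.E)
    (Algebra.TensorProduct.includeLeftRingHom) ((HQ.bc s Y.E).toRingHom.comp τ₁.toRingHom) (by
      ext a
      show (s a) ⊗ₜ[C] (1 : Y.E) = HQ.bc s Y.E (τ₁ (algebraMap A A' a))
      rw [τ₁.commutes]
      rfl)
  have hβ₁1' : ∀ b, β₁ (fR b) = b ⊗ₜ[C] (1 : Y.E) := fun b =>
    congrFun (congrArg DFunLike.coe hβ₁1) b
  have hβ₁2' : ∀ a', β₁ (s' a') = HQ.bc s Y.E (τ₁ a') := fun a' =>
    congrFun (congrArg DFunLike.coe hβ₁2) a'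
  have h0 := heq₀ ((lT B Y.φ).toRingHom.comp β₁) (by
    ext b
    show lT B Y.φ (β₁ (fR b)) = b ⊗ₜ[C] (1 : Dp p)
    rw [hβ₁1', lT_tmul, map_one]) (by
    ext a'
    show lT B Y.φ (β₁ (s' a')) = HQ.bc s (Dp p) (τ₀ a')
    rw [hβ₁2', lT_bc, hτ₁])
  have h0' : ∀ a', lT B Y.φ (β₁ (t' a')) = lT B Y.φ (HQ.bc t Y.E (τ₁ a')) := by
    intro a'
    have := congrFun (congrArg DFunLike.coe h0) a'
    rw [lT_bc, hτ₁]
    exact this
  obtain ⟨Y₂, f₂, h₂⟩ := hI.descend_eq (A := A) (A' := A') Y (β₁.comp t'.toRingHom)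
    ((HQ.bc t Y.E).toRingHom.comp τ₁.toRingHom) (by
      ext a
      show β₁ (t' (algebraMap A A' a)) = HQ.bc t Y.E (τ₁ (algebraMap A A' a))
      rw [← hcomm_t, hβ₁1', τ₁.commutes]
      rfl) h0'
  let τ₂ : A' →ₐ[A] A ⊗[C] Y₂.E := (lT A f₂.ψ).comp τ₁
  let q : Ideal Y₂.E := RingHom.ker (ζ.comp
    ((Algebra.TensorProduct.includeRight : Dp p →ₐ[C] A ⊗[C] Dp p).toRingHom.comp
      Y₂.φ.toRingHom))
  refine ⟨Y₂.E, inferInstance, inferInstance, inferInstance, τ₂, q, RingHom.ker_isPrime _, ?_, ?_⟩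
  · intro β hβ1 hβ2
    have hβ : β = (lT B f₂.ψ).toRingHom.comp β₁ := by
      apply h.po_s.ext
      · rw [hβ1]
        ext b
        show b ⊗ₜ[C] (1 : Y₂.E) = lT B f₂.ψ (β₁ (fR b))
        rw [hβ₁1', lT_tmul, map_one]
      · rw [hβ2]
        ext a'
        show HQ.bc s Y₂.E (lT A f₂.ψ (τ₁ a')) = lT B f₂.ψ (β₁ (s' a'))
        rw [hβ₁2', lT_bc]
    rw [hβ]
    ext a'
    show lT B f₂.ψ (β₁ (t' a')) = HQ.bc t Y₂.E (lT A f₂.ψ (τ₁ a'))
    rw [← lT_bc]
    exact h₂ a'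
  · intro c' c₁ hc
    rw [← hζ c']
    show ζ ((1 : A) ⊗ₜ[C] (Y₂.φ c₁)) = 0 ↔ _
    have e : τ₀ c' = (1 : A) ⊗ₜ[C] (Y₂.φ c₁) := by
      rw [← hτ₁]
      have e2 : lT A Y₂.φ (τ₂ c') = lT A Y.φ (τ₁ c') := by
        show lT A Y₂.φ (lT A f₂.ψ (τ₁ c')) = _
        rw [lT_comp_apply, f₂.comm]
      rw [← e2, hc, lT_tmul]
    rw [e]

end flevel

end Groth.Agent.Lib.Helper20.KM
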