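import Mathlib
import Groth.Agent.Lib.Helper20.KM7

/-!
# KM8: analysis of an equivariant section over an étale level
-/

set_option autoImplicit false
set_option linter.style.haveILetI false
set_option linter.unusedSectionVars false
universe u

namespace Groth.Agent.Lib.Helper20.KM

open TensorProduct

/-- the target of a pushout is generated by the images. -/
theorem PO.mem_of_subring {A B A' B' : Type u} [CommRing A] [CommRing B] [CommRing A']
    [CommRing B'] {s : A →+* B} {fU : A →+* A'} {fR : B →+* B'} {s' : A' →+* B'}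
    (h : PO s fU fR s') (S : Subring B') (h1 : ∀ b, fR b ∈ S) (h2 : ∀ a', s' a' ∈ S) (b' : B') :
    b' ∈ S := by
  obtain ⟨β, hβ1, hβ2⟩ := h.desc S (fR.codRestrict S h1) (s'.codRestrict S h2) (by
    ext a
    exact congrFun (congrArg DFunLike.coe h.comm) a)
  have e : S.subtype.comp β = RingHom.id B' := by
    apply h.ext
    · rw [RingHom.comp_assoc, hβ1]
      rfl
    · rw [RingHom.comp_assoc, hβ2]
      rfl
  have := congrFun (congrArg DFunLike.coe e) b'
  rw [← show (β b' : B') = b' from this]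
  exact (β b').2

section flat

variable {C A' B' : Type u} [CommRing C] [CommRing A'] [CommRing B'] [Algebra C A'] [Algebra C B']
  (s' t' : A' →ₐ[C] B')

/-- flat base change of an equalizer. -/
theorem mem_range_bc_equalizer_of_flat (C₁ : Type u) [CommRing C₁] [Algebra C C₁]
    [Module.Flat C C₁] (x : A' ⊗[C] C₁) (hx : HQ.bc s' C₁ x = HQ.bc t' C₁ x) :
    x ∈ Set.range (HQ.bc (AlgHom.equalizer s' t').val C₁) := by
  let i : (AlgHom.equalizer s' t') →ₗ[C] A' := (AlgHom.equalizer s' t').val.toLinearMap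
  let d : A' →ₗ[C] B' := s'.toLinearMap - t'.toLinearMap
  have hex : Function.Exact i d := by
    intro a
    constructor
    · intro ha
      have : s' a = t' a := by
        have : s' a - t' a = 0 := ha
        exact sub_eq_zero.mp this
      exact ⟨⟨a, this⟩, rfl⟩
    · rintro ⟨c, rfl⟩
      show s' c.1 - t' c.1 = 0
      rw [sub_eq_zero]
      exact c.2
  have hex' := Module.Flat.rTensor_exact C₁ hex
  have hdx : d.rTensor C₁ x = 0 := by
    show (s'.toLinearMap - t'.toLinearMap).rTensor C₁ x = 0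
    rw [LinearMap.rTensor_sub, LinearMap.sub_apply, HQ.rTensor_algHom_apply,
      HQ.rTensor_algHom_apply]
    exact sub_eq_zero.mpr hx
  obtain ⟨y, hy⟩ := (hex' x).mp hdx
  refine ⟨y, ?_⟩
  rw [← hy]
  exact (HQ.rTensor_algHom_apply (AlgHom.equalizer s' t').val C₁ y).symm

theorem bc_equalizer_injective_of_flat (C₁ : Type u) [CommRing C₁] [Algebra C C₁]
    [Module.Flat C C₁] : Function.Injective (HQ.bc (AlgHom.equalizer s' t').val C₁) := by
  have h1 : Function.Injective ((AlgHom.equalizer s' t').val.toLinearMap.rTensor C₁) :=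
    Module.Flat.rTensor_preserves_injective_linearMap _ Subtype.val_injective
  intro x y hxy
  apply h1
  rw [HQ.rTensor_algHom_apply, HQ.rTensor_algHom_apply]
  exact hxy

end flat

section fl

variable {C A B A' B' : Type u} [CommRing C] [CommRing A] [CommRing B] [CommRing A'] [CommRing B']
  [Algebra C A] [Algebra C B] [Algebra C A'] [Algebra C B'] [Algebra A A'] [IsScalarTower C A A']
  {s t : A →ₐ[C] B} {s' t' : A' →ₐ[C] B'} {fR : B →ₐ[C] B'}
  {C₁ : Type u} [CommRing C₁] [Algebra C C₁]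
  (τ₁ : A' →ₐ[A] A ⊗[C] C₁) (β₁ : B' →ₐ[C] B ⊗[C] C₁)

variable (A A' C₁) in
/-- base change of `A → A'`. -/
noncomputable def fU₁ : A ⊗[C] C₁ →ₐ[A] A' ⊗[C] C₁ :=
  Algebra.TensorProduct.map (Algebra.ofId A A') (AlgHom.id C C₁)

theorem fU₁_tmul (a : A) (c : C₁) : fU₁ A A' C₁ (a ⊗ₜ[C] c) = (algebraMap A A' a) ⊗ₜ[C] c := by
  simp [fU₁, Algebra.ofId_apply]

/-- the retraction of `fU₁` attached to `τ₁`. -/
noncomputable def τh : A' ⊗[C] C₁ →ₐ[A] A ⊗[C] C₁ :=
  Algebra.TensorProduct.lift τ₁ Algebra.TensorProduct.includeRight (fun _ _ => Commute.all _ _)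

theorem τh_tmul (y : A') (c : C₁) : τh τ₁ (y ⊗ₜ[C] c) = τ₁ y * ((1 : A) ⊗ₜ[C] c) := by
  simp [τh]

theorem τh_fU₁ (x : A ⊗[C] C₁) : τh τ₁ (fU₁ A A' C₁ x) = x := by
  induction x using TensorProduct.induction_on with
  | zero => simp
  | tmul a c =>
    rw [fU₁_tmul, τh_tmul, τ₁.commutes]
    show (a ⊗ₜ[C] (1 : C₁)) * ((1 : A) ⊗ₜ[C] c) = _
    rw [Algebra.TensorProduct.tmul_mul_tmul, mul_one, one_mul]
  | add x y hx hy => rw [map_add, map_add, hx, hy]

/-- the retraction on arrows. -/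
noncomputable def βh : B' ⊗[C] C₁ →ₐ[C] B ⊗[C] C₁ :=
  Algebra.TensorProduct.lift β₁ Algebra.TensorProduct.includeRight (fun _ _ => Commute.all _ _)

theorem βh_tmul (y : B') (c : C₁) : βh β₁ (y ⊗ₜ[C] c) = β₁ y * ((1 : B) ⊗ₜ[C] c) := by
  simp [βh]

theorem βh_fR₁ (hβ1 : ∀ b, β₁ (fR b) = b ⊗ₜ[C] (1 : C₁)) (x : B ⊗[C] C₁) :
    βh β₁ (HQ.bc fR C₁ x) = x := by
  induction x using TensorProduct.induction_on with
  | zero => simp
  | tmul b c =>
    show βh β₁ (fR b ⊗ₜ[C] c) = _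
    rw [βh_tmul, hβ1, Algebra.TensorProduct.tmul_mul_tmul, mul_one, one_mul]
  | add x y hx hy => rw [map_add, map_add, hx, hy]

theorem bc_mul_right {X Y : Type u} [CommRing X] [CommRing Y] [Algebra C X] [Algebra C Y]
    (g : X →ₐ[C] Y) (x : X ⊗[C] C₁) (c : C₁) :
    HQ.bc g C₁ (x * ((1 : X) ⊗ₜ[C] c)) = HQ.bc g C₁ x * ((1 : Y) ⊗ₜ[C] c) := by
  rw [map_mul]
  congr 1
  simp [HQ.bc]

theorem βh_bc (u' : A' →ₐ[C] B') (u : A →ₐ[C] B)
    (hβu : ∀ a', β₁ (u' a') = HQ.bc u C₁ (τ₁ a')) (Y : A' ⊗[C] C₁) :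
    βh β₁ (HQ.bc u' C₁ Y) = HQ.bc u C₁ (τh τ₁ Y) := by
  induction Y using TensorProduct.induction_on with
  | zero => simp
  | tmul y c =>
    show βh β₁ (u' y ⊗ₜ[C] c) = _
    rw [βh_tmul, hβu, τh_tmul, bc_mul_right]
  | add x y hx hy => rw [map_add, map_add, map_add, map_add, hx, hy]

theorem bc_fR_bc (u' : A' →ₐ[C] B') (u : A →ₐ[C] B)
    (hcomm : ∀ a, fR (u a) = u' (algebraMap A A' a)) (x : A ⊗[C] C₁) :
    HQ.bc fR C₁ (HQ.bc u C₁ x) = HQ.bc u' C₁ (fU₁ A A' C₁ x) := by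
  induction x using TensorProduct.induction_on with
  | zero => simp
  | tmul a c =>
    rw [fU₁_tmul]
    show fR (u a) ⊗ₜ[C] c = u' (algebraMap A A' a) ⊗ₜ[C] c
    rw [hcomm]
  | add x y hx hy => rw [map_add, map_add, map_add, map_add, hx, hy]

/-- the idempotent cutting out the graph of the section. -/
theorem exists_e [Algebra.FormallyUnramified A A'] [Algebra.EssFiniteType A A'] :
    ∃ e : A' ⊗[C] C₁, (∀ Y, Y * e = fU₁ A A' C₁ (τh τ₁ Y) * e) ∧ τh τ₁ e = 1 := by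
  obtain ⟨e, h1, h2⟩ := exists_eps_of_unramified (R := A) (S := A') (T := A' ⊗[C] C₁)
    Algebra.TensorProduct.includeLeft ((fU₁ A A' C₁).comp τ₁)
  refine ⟨e, fun Y => ?_, ?_⟩
  · induction Y using TensorProduct.induction_on with
    | zero => simp
    | tmul y c =>
      have e1 : y ⊗ₜ[C] c = (y ⊗ₜ[C] (1 : C₁)) * ((1 : A') ⊗ₜ[C] c) := by
        rw [Algebra.TensorProduct.tmul_mul_tmul, mul_one, one_mul]
      have e2 : fU₁ A A' C₁ (τh τ₁ (y ⊗ₜ[C] c)) =
          fU₁ A A' C₁ (τ₁ y) * ((1 : A') ⊗ₜ[C] c) := by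
        rw [τh_tmul, map_mul, fU₁_tmul, map_one]
      have e3 : (y ⊗ₜ[C] (1 : C₁)) * e = fU₁ A A' C₁ (τ₁ y) * e := h1 y
      rw [e2, e1, mul_right_comm, e3, mul_right_comm]
    | add x y hx hy => rw [add_mul, map_add, map_add, add_mul, hx, hy]
  · refine h2 (A ⊗[C] C₁) (τh τ₁).toRingHom (fun y => ?_)
    show τh τ₁ (y ⊗ₜ[C] (1 : C₁)) = τh τ₁ (fU₁ A A' C₁ (τ₁ y))
    rw [τh_fU₁, τh_tmul]
    show τ₁ y * 1 = τ₁ y
    rw [mul_one]

end fl

section fl2

variable {C A B A' B' : Type u} [CommRing C] [CommRing A] [CommRing B] [CommRing A'] [CommRing B']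
  [Algebra C A] [Algebra C B] [Algebra C A'] [Algebra C B'] [Algebra A A'] [IsScalarTower C A A']
  {s t : A →ₐ[C] B} {s' t' : A' →ₐ[C] B'} {fR : B →ₐ[C] B'}
  {C₁ : Type u} [CommRing C₁] [Algebra C C₁]
  (τ₁ : A' →ₐ[A] A ⊗[C] C₁) (β₁ : B' →ₐ[C] B ⊗[C] C₁)

/-- the key property of the image of `e` under a pushout leg. -/
theorem leg_e (u' : A' →ₐ[C] B') (u : A →ₐ[C] B)
    (po : PO u.toRingHom (algebraMap A A') fR.toRingHom u'.toRingHom)
    (hβ1 : ∀ b, β₁ (fR b) = b ⊗ₜ[C] (1 : C₁))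
    (hβu : ∀ a', β₁ (u' a') = HQ.bc u C₁ (τ₁ a'))
    (e : A' ⊗[C] C₁) (he : ∀ Y, Y * e = fU₁ A A' C₁ (τh τ₁ Y) * e) (Z : B' ⊗[C] C₁) :
    Z * HQ.bc u' C₁ e = HQ.bc fR C₁ (βh β₁ Z) * HQ.bc u' C₁ e := by
  have hcomm : ∀ a, fR (u a) = u' (algebraMap A A' a) := fun a =>
    congrFun (congrArg DFunLike.coe po.comm) a
  set E := HQ.bc u' C₁ e with hE
  -- the subring of good elements of `B' ⊗ C₁`
  let 𝒵 : Subring (B' ⊗[C] C₁) :=
    { carrier := {Z | Z * E = HQ.bc fR C₁ (βh β₁ Z) * E}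
      mul_mem' := by
        intro Z W hZ hW
        show Z * W * E = HQ.bc fR C₁ (βh β₁ (Z * W)) * E
        rw [map_mul, map_mul, mul_assoc, hW, mul_left_comm, hZ]
        ring
      one_mem' := by
        show 1 * E = HQ.bc fR C₁ (βh β₁ 1) * E
        rw [map_one, map_one]
      add_mem' := by
        intro Z W hZ hW
        show (Z + W) * E = HQ.bc fR C₁ (βh β₁ (Z + W)) * E
        rw [map_add, map_add, add_mul, add_mul, hZ, hW]
      zero_mem' := by
        show 0 * E = HQ.bc fR C₁ (βh β₁ 0) * E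
        rw [map_zero, map_zero]
      neg_mem' := by
        intro Z hZ
        show -Z * E = HQ.bc fR C₁ (βh β₁ (-Z)) * E
        rw [map_neg, map_neg, neg_mul, neg_mul, hZ] }
  have h𝒵 : ∀ Z, Z ∈ 𝒵 ↔ Z * E = HQ.bc fR C₁ (βh β₁ Z) * E := fun Z => Iff.rfl
  have hfR : ∀ x : B ⊗[C] C₁, HQ.bc fR C₁ x ∈ 𝒵 := by
    intro x
    rw [h𝒵, βh_fR₁ β₁ hβ1]
  have hu' : ∀ Y : A' ⊗[C] C₁, HQ.bc u' C₁ Y ∈ 𝒵 := by
    intro Y
    rw [h𝒵, hE, ← map_mul, he Y, map_mul, βh_bc τ₁ β₁ u' u hβu, bc_fR_bc u' u hcomm]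
  -- elements `b' ⊗ 1`
  let S : Subring B' := 𝒵.comap (Algebra.TensorProduct.includeLeftRingHom : B' →+* B' ⊗[C] C₁)
  have hS : ∀ b' : B', b' ∈ S := by
    intro b'
    refine po.mem_of_subring S (fun b => ?_) (fun a' => ?_) b'
    · show (fR b) ⊗ₜ[C] (1 : C₁) ∈ 𝒵
      exact hfR (b ⊗ₜ[C] (1 : C₁))
    · show (u' a') ⊗ₜ[C] (1 : C₁) ∈ 𝒵
      exact hu' (a' ⊗ₜ[C] (1 : C₁))
  have hall : ∀ Z, Z ∈ 𝒵 := by
    intro Z
    induction Z using TensorProduct.induction_on with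
    | zero => exact 𝒵.zero_mem
    | tmul b' c =>
      have e1 : b' ⊗ₜ[C] c = (b' ⊗ₜ[C] (1 : C₁)) * ((1 : B') ⊗ₜ[C] c) := by
        rw [Algebra.TensorProduct.tmul_mul_tmul, mul_one, one_mul]
      rw [e1]
      refine 𝒵.mul_mem (hS b') ?_
      have : (1 : B') ⊗ₜ[C] c = HQ.bc fR C₁ ((1 : B) ⊗ₜ[C] c) := by
        show _ = fR 1 ⊗ₜ[C] c
        rw [map_one]
      rw [this]
      exact hfR _
    | add x y hx hy => exact 𝒵.add_mem hx hy
  exact (h𝒵 Z).mp (hall Z)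

/-- the idempotent is invariant. -/
theorem inv_e (po_s : PO s.toRingHom (algebraMap A A') fR.toRingHom s'.toRingHom)
    (po_t : PO t.toRingHom (algebraMap A A') fR.toRingHom t'.toRingHom)
    (hβ1 : ∀ b, β₁ (fR b) = b ⊗ₜ[C] (1 : C₁))
    (hβs : ∀ a', β₁ (s' a') = HQ.bc s C₁ (τ₁ a'))
    (hβt : ∀ a', β₁ (t' a') = HQ.bc t C₁ (τ₁ a'))
    (e : A' ⊗[C] C₁) (he : ∀ Y, Y * e = fU₁ A A' C₁ (τh τ₁ Y) * e) (he1 : τh τ₁ e = 1) :
    HQ.bc s' C₁ e = HQ.bc t' C₁ e := by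
  have hs := leg_e τ₁ β₁ s' s po_s hβ1 hβs e he
  have ht := leg_e τ₁ β₁ t' t po_t hβ1 hβt e he
  have h1 := hs (HQ.bc t' C₁ e)
  have h2 := ht (HQ.bc s' C₁ e)
  rw [βh_bc τ₁ β₁ t' t hβt, he1, map_one, map_one, one_mul] at h1
  rw [βh_bc τ₁ β₁ s' s hβs, he1, map_one, map_one, one_mul] at h2
  rw [← h1, mul_comm, h2]

end fl2

section main

variable {C A B A' B' : Type u} [CommRing C] [CommRing A] [CommRing B] [CommRing A'] [CommRing B']
  [Algebra C A] [Algebra C B] [Algebra C A'] [Algebra C B'] [Algebra A A'] [IsScalarTower C A A']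
  {s t : A →ₐ[C] B} {s' t' : A' →ₐ[C] B'} {fR : B →ₐ[C] B'}

set_option maxHeartbeats 3200000 in
set_option synthInstance.maxHeartbeats 400000 in
/-- analysis of an equivariant section over an étale level. -/
theorem fl_analysis (h : KMHyp s t s' t' fR) (C₁ : Type u) [CommRing C₁] [Algebra C C₁]
    [Algebra.Etale C C₁] (τ₁ : A' →ₐ[A] A ⊗[C] C₁)
    (heq : ∀ β : B' →+* B ⊗[C] C₁,
      β.comp fR.toRingHom = Algebra.TensorProduct.includeLeftRingHom →
      β.comp s'.toRingHom = (HQ.bc s C₁).toRingHom.comp τ₁.toRingHom →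
      β.comp t'.toRingHom = (HQ.bc t C₁).toRingHom.comp τ₁.toRingHom) :
    ∃ ρ₀ : (AlgHom.equalizer s' t') →ₐ[C] C₁,
      (∀ c' : AlgHom.equalizer s' t', τ₁ c' = (1 : A) ⊗ₜ[C] ρ₀ c') ∧ ρ₀.toRingHom.Etale ∧
      ∀ (T : Type u) [CommRing T] (u : A' →+* T) (v : C₁ →+* T) (w : A ⊗[C] C₁ →+* T),
        (∀ c' : AlgHom.equalizer s' t', u c' = v (ρ₀ c')) →
        (∀ a c, w (a ⊗ₜ[C] c) = u (algebraMap A A' a) * v c) → ∀ y : A', u y = w (τ₁ y) := by
  classical
  haveI := h.etale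
  haveI : Module.Flat C C₁ := inferInstance
  -- the map on arrows
  obtain ⟨β₁r, hβ₁1, hβ₁2⟩ := h.po_s.desc (B ⊗[C] C₁)
    (Algebra.TensorProduct.includeLeftRingHom) ((HQ.bc s C₁).toRingHom.comp τ₁.toRingHom) (by
      ext a
      show (s a) ⊗ₜ[C] (1 : C₁) = HQ.bc s C₁ (τ₁ (algebraMap A A' a))
      rw [τ₁.commutes]
      rfl)
  have hβ₁3 := heq β₁r hβ₁1 hβ₁2
  let β₁ : B' →ₐ[C] B ⊗[C] C₁ :=
    { toRingHom := β₁r
      commutes' := fun c => by
        show β₁r (algebraMap C B' c) = _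
        rw [← fR.commutes c]
        exact congrFun (congrArg DFunLike.coe hβ₁1) _ }
  have hβ1 : ∀ b, β₁ (fR b) = b ⊗ₜ[C] (1 : C₁) := fun b =>
    congrFun (congrArg DFunLike.coe hβ₁1) b
  have hβs : ∀ a', β₁ (s' a') = HQ.bc s C₁ (τ₁ a') := fun a' =>
    congrFun (congrArg DFunLike.coe hβ₁2) a'
  have hβt : ∀ a', β₁ (t' a') = HQ.bc t C₁ (τ₁ a') := fun a' =>
    congrFun (congrArg DFunLike.coe hβ₁3) a'
  -- Step A: ρ₀
  have hinjR : Function.Injective (Algebra.TensorProduct.includeRight : C₁ →ₐ[C] A ⊗[C] C₁) :=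
    HQ.includeRight_injective_of_flat h.hinj C₁
  have hmem : ∀ c' : AlgHom.equalizer s' t',
      ∃ c₁ : C₁, (Algebra.TensorProduct.includeRight : C₁ →ₐ[C] A ⊗[C] C₁) c₁ = τ₁ c' := by
    intro c'
    apply HQ.mem_range_includeRight_of_flat s t h.hC C₁
    rw [← hβs, ← hβt]
    exact congrArg β₁ c'.2
  choose r hr using hmem
  let ρ₀ : (AlgHom.equalizer s' t') →ₐ[C] C₁ :=
    { toFun := r
      map_one' := hinjR (by
        rw [hr, map_one]
        show τ₁ (1 : A') = 1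
        rw [map_one])
      map_mul' := fun x y => hinjR (by
        rw [hr, map_mul, hr, hr]
        show τ₁ ((x : A') * (y : A')) = _
        rw [map_mul])
      map_zero' := hinjR (by
        rw [hr, map_zero]
        show τ₁ (0 : A') = 0
        rw [map_zero])
      map_add' := fun x y => hinjR (by
        rw [hr, map_add, hr, hr]
        show τ₁ ((x : A') + (y : A')) = _
        rw [map_add])
      commutes' := fun c => hinjR (by
        rw [hr, AlgHom.commutes]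
        show τ₁ (algebraMap C A' c) = _
        exact (τ₁.restrictScalars C).commutes c) }
  have hρ₀ : ∀ c' : AlgHom.equalizer s' t', τ₁ c' = (1 : A) ⊗ₜ[C] ρ₀ c' := fun c' => (hr c').symm
  -- Steps B, C, D
  obtain ⟨e, he, he1⟩ := exists_e τ₁
  have hinv := inv_e τ₁ β₁ h.po_s h.po_t hβ1 hβs hβt e he he1
  obtain ⟨e₀, he₀⟩ := mem_range_bc_equalizer_of_flat s' t' C₁ e hinv
  have hιinj := bc_equalizer_injective_of_flat s' t' C₁
  set ι := HQ.bc (AlgHom.equalizer s' t').val C₁ with hι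
  -- Step E
  let ρh : (AlgHom.equalizer s' t') ⊗[C] C₁ →ₐ[C] C₁ :=
    Algebra.TensorProduct.lift ρ₀ (AlgHom.id C C₁) (fun _ _ => Commute.all _ _)
  have hρh : ∀ (c' : AlgHom.equalizer s' t') (c : C₁), ρh (c' ⊗ₜ[C] c) = ρ₀ c' * c := by
    intro c' c
    simp [ρh]
  have hE1 : ∀ w, (Algebra.TensorProduct.includeRight : C₁ →ₐ[C] A ⊗[C] C₁) (ρh w) =
      τh τ₁ (ι w) := by
    intro w
    induction w using TensorProduct.induction_on with
    | zero => simp
    | tmul c' c =>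
      rw [hρh]
      show (1 : A) ⊗ₜ[C] (ρ₀ c' * c) = τh τ₁ ((c' : A') ⊗ₜ[C] c)
      rw [τh_tmul, hρ₀, Algebra.TensorProduct.tmul_mul_tmul, mul_one]
    | add x y hx hy => rw [map_add, map_add, map_add, map_add, hx, hy]
  have hE2 : ρh e₀ = 1 := by
    apply hinjR
    rw [hE1, he₀, he1, map_one]
  have hee : e * e = e := by
    rw [he e, he1, map_one, one_mul]
  have hE3 : IsIdempotentElem e₀ := by
    apply hιinj
    rw [map_mul, he₀, hee]
  have hE4 : RingHom.ker ρh.toRingHom = Ideal.span {1 - e₀} := by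
    apply le_antisymm
    · intro w hw
      have hw0 : ρh w = 0 := hw
      have h1 : ι (w * e₀) = 0 := by
        rw [map_mul, he₀, he (ι w), ← hE1, hw0, map_zero, map_zero, zero_mul]
      have h2 : w * e₀ = 0 := hιinj (by rw [h1, map_zero])
      rw [Ideal.mem_span_singleton']
      exact ⟨w, by rw [mul_sub, mul_one, h2, sub_zero]⟩
    · rw [Ideal.span_le]
      rintro x rfl
      show ρh (1 - e₀) = 0
      rw [map_sub, map_one, hE2, sub_self]
  have hE5 : Function.Surjective ρh.toRingHom := by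
    intro c
    refine ⟨(1 : AlgHom.equalizer s' t') ⊗ₜ[C] c, ?_⟩
    show ρh _ = c
    rw [hρh, map_one, one_mul]
  refine ⟨ρ₀, hρ₀, ?_, ?_⟩
  · letI algh : Algebra ((AlgHom.equalizer s' t') ⊗[C] C₁) C₁ := ρh.toRingHom.toAlgebra
    haveI : IsLocalization.Away e₀ C₁ := IsLocalization.away_of_isIdempotentElem hE3 hE4 hE5
    haveI : Algebra.Etale ((AlgHom.equalizer s' t') ⊗[C] C₁) C₁ :=
      Algebra.Etale.of_isLocalizationAway e₀
    letI : Algebra (AlgHom.equalizer s' t') C₁ := ρ₀.toRingHom.toAlgebra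
    haveI : IsScalarTower (AlgHom.equalizer s' t') ((AlgHom.equalizer s' t') ⊗[C] C₁) C₁ :=
      .of_algebraMap_eq (fun c' => by
        show ρ₀ c' = ρh (c' ⊗ₜ[C] (1 : C₁))
        rw [hρh, mul_one])
    exact Algebra.Etale.comp (AlgHom.equalizer s' t') ((AlgHom.equalizer s' t') ⊗[C] C₁) C₁
  · intro T _ u v w huv hw y
    letI : Algebra C T := (u.comp (algebraMap C A')).toAlgebra
    let ua : A' →ₐ[C] T := ⟨u, fun c => rfl⟩
    let va : C₁ →ₐ[C] T := ⟨v, fun c => by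
      show v (algebraMap C C₁ c) = u (algebraMap C A' c)
      have := huv (algebraMap C (AlgHom.equalizer s' t') c)
      rw [AlgHom.commutes] at this
      exact this.symm⟩
    let π : A' ⊗[C] C₁ →ₐ[C] T := Algebra.TensorProduct.lift ua va (fun _ _ => Commute.all _ _)
    have hπ : ∀ (y : A') (c : C₁), π (y ⊗ₜ[C] c) = u y * v c := by
      intro y c
      simp [π, ua, va]
    have hπι : ∀ z, π (ι z) = v (ρh z) := by
      intro z
      induction z using TensorProduct.induction_on with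
      | zero => simp
      | tmul c' c =>
        show π ((c' : A') ⊗ₜ[C] c) = _
        rw [hπ, hρh, map_mul, huv]
      | add x y hx hy => rw [map_add, map_add, map_add, map_add, hx, hy]
    have hπe : π e = 1 := by rw [← he₀, hπι, hE2, map_one]
    have hπf : ∀ x : A ⊗[C] C₁, π (fU₁ A A' C₁ x) = w x := by
      intro x
      induction x using TensorProduct.induction_on with
      | zero => simp
      | tmul a c => rw [fU₁_tmul, hπ, hw]
      | add x y hx hy => rw [map_add, map_add, map_add, hx, hy]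
    have h1 : u y = π ((y ⊗ₜ[C] (1 : C₁)) * e) := by
      rw [map_mul, hπe, mul_one, hπ, map_one, mul_one]
    rw [h1, he, map_mul, hπe, mul_one, hπf, τh_tmul]
    show w (τ₁ y * 1) = w (τ₁ y)
    rw [mul_one]

end main

end Groth.Agent.Lib.Helper20.KM
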