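import Mathlib
import Groth.Agent.Lib.Helper20.KM8

/-!
# KM9: ring-level Keel–Mori étale cartesian morphism theorem
-/

set_option autoImplicit false
set_option linter.style.haveILetI false
set_option linter.unusedSectionVars false
universe u

namespace Groth.Agent.Lib.Helper20.KM

open TensorProduct

/-- an element of a module which dies after flat base changes covering the spectrum is zero. -/
theorem eq_zero_of_flat_local {R : Type u} [CommRing R] {M : Type u} [AddCommGroup M] [Module R M]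
    (x : M)
    (H : ∀ p : Ideal R, p.IsPrime → ∃ (S : Type u) (_ : CommRing S) (_ : Algebra R S)
      (_ : Module.Flat R S) (q : Ideal S),
      q ≠ ⊤ ∧ p ≤ q.comap (algebraMap R S) ∧ x ⊗ₜ[R] (1 : S) = 0) : x = 0 := by
  classical
  let I : Ideal R := LinearMap.ker (LinearMap.toSpanSingleton R M x)
  have hI : ∀ r, r ∈ I ↔ r • x = 0 := fun r => by
    show LinearMap.toSpanSingleton R M x r = 0 ↔ _
    rw [LinearMap.toSpanSingleton_apply]
  by_cases htop : I = ⊤
  · have : (1 : R) ∈ I := by rw [htop]; trivial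
    rw [hI, one_smul] at this
    exact this
  · exfalso
    obtain ⟨p, hp, hIp⟩ := Ideal.exists_le_maximal I htop
    obtain ⟨S, _, _, _, q, hq, hpq, hx⟩ := H p hp.isPrime
    have hmn : ∑ i : Fin 1, (fun _ : Fin 1 => x) i ⊗ₜ[R] (fun _ : Fin 1 => (1 : S)) i = 0 := by
      simp only [Finset.univ_unique, Finset.sum_singleton]
      exact hx
    have hm : Function.Injective
        (LinearMap.rTensor S (Submodule.span R (Set.range (fun _ : Fin 1 => x))).subtype) :=
      Module.Flat.rTensor_preserves_injective_linearMap _ (Submodule.injective_subtype _)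
    obtain ⟨k, a, y', hay, ham⟩ :=
      TensorProduct.vanishesTrivially_of_sum_tmul_eq_zero_of_rTensor_injective R hm hmn
    have h1 : (1 : S) = ∑ j, a 0 j • y' j := hay 0
    have h2 : ∀ j, a 0 j ∈ I := by
      intro j
      rw [hI]
      have := ham j
      simpa using this
    apply hq
    rw [Ideal.eq_top_iff_one, h1]
    refine Ideal.sum_mem _ fun j _ => ?_
    rw [Algebra.smul_def]
    exact Ideal.mul_mem_right _ _ (hpq (hIp (h2 j)))

section main

variable {C A B A' B' : Type u} [CommRing C] [CommRing A] [CommRing B] [CommRing A'] [CommRing B']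
  [Algebra C A] [Algebra C B] [Algebra C A'] [Algebra C B'] [Algebra A A'] [IsScalarTower C A A']
  {s t : A →ₐ[C] B} {s' t' : A' →ₐ[C] B'} {fR : B →ₐ[C] B'}

/-- étale neighbourhoods of the invariant ring of `G'` which are étale over the invariant ring
of `G`. -/
theorem exists_etale_nbhd (h : KMHyp s t s' t' fR) (p' : Ideal (AlgHom.equalizer s' t'))
    [p'.IsPrime] :
    ∃ (C₁ : Type u) (_ : CommRing C₁) (_ : Algebra C C₁) (_ : Algebra.Etale C C₁)
      (ρ₀ : (AlgHom.equalizer s' t') →ₐ[C] C₁) (q : Ideal C₁) (_ : q.IsPrime),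
      ρ₀.toRingHom.Etale ∧ q.comap ρ₀.toRingHom = p' := by
  obtain ⟨C₁, _, _, _, τ₁, q, hqp, heq, hq⟩ := flevel h p'
  obtain ⟨ρ₀, hρ₀, het, -⟩ := fl_analysis h C₁ τ₁ heq
  refine ⟨C₁, inferInstance, inferInstance, inferInstance, ρ₀, q, hqp, het, ?_⟩
  ext c'
  rw [Ideal.mem_comap]
  exact hq c' (ρ₀ c') (hρ₀ c')

variable (s' t') in
/-- the comparison map `C' ⊗[C] A → A'`. -/
noncomputable def Θ : (AlgHom.equalizer s' t') ⊗[C] A →ₐ[AlgHom.equalizer s' t'] A' :=
  Algebra.TensorProduct.lift (Algebra.ofId (AlgHom.equalizer s' t') A')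
    (IsScalarTower.toAlgHom C A A') (fun _ _ => Commute.all _ _)

theorem Θ_tmul (c' : AlgHom.equalizer s' t') (a : A) :
    Θ s' t' (c' ⊗ₜ[C] a) = (c' : A') * algebraMap A A' a := by
  simp [Θ, Algebra.ofId_apply]

set_option maxHeartbeats 3200000 in
set_option synthInstance.maxHeartbeats 400000 in
theorem Θ_injective (h : KMHyp s t s' t' fR) : Function.Injective (Θ s' t' (A := A)) := by
  rw [injective_iff_map_eq_zero]
  intro x hx
  apply eq_zero_of_flat_local (R := AlgHom.equalizer s' t') x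
  intro p' hp'
  haveI := hp'
  obtain ⟨C₁, _, _, _, τ₁, q, hqp, heq, hq⟩ := flevel h p'
  obtain ⟨ρ₀, hρ₀, het, -⟩ := fl_analysis h C₁ τ₁ heq
  letI : Algebra (AlgHom.equalizer s' t') C₁ := ρ₀.toRingHom.toAlgebra
  haveI : Algebra.Etale (AlgHom.equalizer s' t') C₁ := het
  haveI : IsScalarTower C (AlgHom.equalizer s' t') C₁ :=
    .of_algebraMap_eq (fun c => (ρ₀.commutes c).symm)
  refine ⟨C₁, inferInstance, inferInstance, inferInstance, q, hqp.ne_top, ?_, ?_⟩
  · intro c' hc'
    rw [Ideal.mem_comap]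
    exact (hq c' (ρ₀ c') (hρ₀ c')).mpr hc'
  · -- the additive map `ν : A ⊗[C] C₁ → (C' ⊗[C] A) ⊗[C'] C₁`
    let ν : A ⊗[C] C₁ →+ ((AlgHom.equalizer s' t') ⊗[C] A) ⊗[AlgHom.equalizer s' t'] C₁ :=
      TensorProduct.liftAddHom
        { toFun := fun a =>
            { toFun := fun c => ((1 : AlgHom.equalizer s' t') ⊗ₜ[C] a) ⊗ₜ[AlgHom.equalizer s' t'] c
              map_zero' := by rw [TensorProduct.tmul_zero]
              map_add' := fun c c' => by rw [TensorProduct.tmul_add] }
          map_zero' := by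
            ext c
            show ((1 : AlgHom.equalizer s' t') ⊗ₜ[C] (0 : A)) ⊗ₜ[AlgHom.equalizer s' t'] c = 0
            rw [TensorProduct.tmul_zero, TensorProduct.zero_tmul]
          map_add' := fun a a' => by
            ext c
            show ((1 : AlgHom.equalizer s' t') ⊗ₜ[C] (a + a')) ⊗ₜ[AlgHom.equalizer s' t'] c = _
            rw [TensorProduct.tmul_add, TensorProduct.add_tmul]
            rfl }
        (fun r a c => by
          show ((1 : AlgHom.equalizer s' t') ⊗ₜ[C] (r • a)) ⊗ₜ[AlgHom.equalizer s' t'] c =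
            ((1 : AlgHom.equalizer s' t') ⊗ₜ[C] a) ⊗ₜ[AlgHom.equalizer s' t'] (r • c)
          rw [TensorProduct.tmul_smul, ← algebraMap_smul (AlgHom.equalizer s' t') r
            ((1 : AlgHom.equalizer s' t') ⊗ₜ[C] a), TensorProduct.smul_tmul,
            algebraMap_smul])
    have hν : ∀ (a : A) (c : C₁), ν (a ⊗ₜ[C] c) =
        ((1 : AlgHom.equalizer s' t') ⊗ₜ[C] a) ⊗ₜ[AlgHom.equalizer s' t'] c := fun a c => rfl
    have key : ∀ z : (AlgHom.equalizer s' t') ⊗[C] A,
        z ⊗ₜ[AlgHom.equalizer s' t'] (1 : C₁) = ν (τ₁ (Θ s' t' z)) := by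
      intro z
      induction z using TensorProduct.induction_on with
      | zero => simp
      | tmul c' a =>
        rw [Θ_tmul, map_mul, hρ₀, τ₁.commutes]
        show _ = ν (((1 : A) ⊗ₜ[C] ρ₀ c') * (a ⊗ₜ[C] (1 : C₁)))
        rw [Algebra.TensorProduct.tmul_mul_tmul, one_mul, mul_one, hν]
        have e1 : ρ₀ c' = c' • (1 : C₁) := by
          rw [Algebra.smul_def, mul_one]
          rfl
        rw [e1, ← TensorProduct.smul_tmul, TensorProduct.smul_tmul', smul_eq_mul, mul_one]
      | add x y hx hy => rw [TensorProduct.add_tmul, map_add, map_add, map_add, hx, hy]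
    rw [key, hx, map_zero, map_zero]

end main

section surj

variable {C A B A' B' : Type u} [CommRing C] [CommRing A] [CommRing B] [CommRing A'] [CommRing B']
  [Algebra C A] [Algebra C B] [Algebra C A'] [Algebra C B'] [Algebra A A'] [IsScalarTower C A A']
  {s t : A →ₐ[C] B} {s' t' : A' →ₐ[C] B'} {fR : B →ₐ[C] B'}

theorem exists_w {C₁ : Type u} [CommRing C₁] [Algebra C C₁] (T : Type u) [CommRing T]
    (u : A' →+* T) (v : C₁ →+* T)
    (huv : ∀ c : C, u (algebraMap C A' c) = v (algebraMap C C₁ c)) :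
    ∃ w : A ⊗[C] C₁ →+* T, ∀ (a : A) (c : C₁), w (a ⊗ₜ[C] c) = u (algebraMap A A' a) * v c := by
  letI : Algebra C T := (u.comp (algebraMap C A')).toAlgebra
  let fa : A →ₐ[C] T :=
    ⟨u.comp (algebraMap A A'), fun c => by
      show u (algebraMap A A' (algebraMap C A c)) = u (algebraMap C A' c)
      rw [← IsScalarTower.algebraMap_apply]⟩
  let va : C₁ →ₐ[C] T := ⟨v, fun c => (huv c).symm⟩
  refine ⟨(Algebra.TensorProduct.lift fa va (fun _ _ => Commute.all _ _)).toRingHom, fun a c => ?_⟩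
  show Algebra.TensorProduct.lift fa va (fun _ _ => Commute.all _ _) (a ⊗ₜ[C] c) = _
  rw [Algebra.TensorProduct.lift_tmul]
  rfl

set_option maxHeartbeats 3200000 in
set_option synthInstance.maxHeartbeats 400000 in
theorem Θ_surjective (h : KMHyp s t s' t' fR) : Function.Surjective (Θ s' t' (A := A)) := by
  intro y
  set N : Submodule (AlgHom.equalizer s' t') A' := LinearMap.range (Θ s' t' (A := A)).toLinearMap
    with hN
  suffices hy : N.mkQ y = 0 by
    have : y ∈ N := (Submodule.Quotient.mk_eq_zero N).mp hy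
    obtain ⟨z, hz⟩ := this
    exact ⟨z, hz⟩
  apply eq_zero_of_flat_local (R := AlgHom.equalizer s' t') (N.mkQ y)
  intro p' hp'
  haveI := hp'
  obtain ⟨C₁, _, _, _, τ₁, q, hqp, heq, hq⟩ := flevel h p'
  obtain ⟨ρ₀, hρ₀, het, key⟩ := fl_analysis h C₁ τ₁ heq
  letI : Algebra (AlgHom.equalizer s' t') C₁ := ρ₀.toRingHom.toAlgebra
  haveI : Algebra.Etale (AlgHom.equalizer s' t') C₁ := het
  refine ⟨C₁, inferInstance, inferInstance, inferInstance, q, hqp.ne_top, ?_, ?_⟩
  · intro c' hc'
    rw [Ideal.mem_comap]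
    exact (hq c' (ρ₀ c') (hρ₀ c')).mpr hc'
  · -- the ring `T = A' ⊗[C'] C₁`
    let u : A' →+* A' ⊗[AlgHom.equalizer s' t'] C₁ := Algebra.TensorProduct.includeLeftRingHom
    let v : C₁ →+* A' ⊗[AlgHom.equalizer s' t'] C₁ :=
      (Algebra.TensorProduct.includeRight :
        C₁ →ₐ[AlgHom.equalizer s' t'] A' ⊗[AlgHom.equalizer s' t'] C₁).toRingHom
    have huv : ∀ c' : AlgHom.equalizer s' t', u c' = v (ρ₀ c') := by
      intro c'
      show (c' : A') ⊗ₜ[AlgHom.equalizer s' t'] (1 : C₁) =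
        (1 : A') ⊗ₜ[AlgHom.equalizer s' t'] (ρ₀ c')
      have e1 : ρ₀ c' = c' • (1 : C₁) := by
        rw [Algebra.smul_def, mul_one]
        rfl
      have e2 : (c' : A') = c' • (1 : A') := by
        rw [Algebra.smul_def, mul_one]
        rfl
      rw [e1, e2, TensorProduct.smul_tmul]
    obtain ⟨w, hw⟩ := exists_w (A := A) (A' ⊗[AlgHom.equalizer s' t'] C₁) u v (fun c => by
      have := huv (algebraMap C (AlgHom.equalizer s' t') c)
      rw [AlgHom.commutes] at this
      exact this)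
    have hkey := key (A' ⊗[AlgHom.equalizer s' t'] C₁) u v w huv hw y
    -- apply `mkQ ⊗ id`
    let Q : A' ⊗[AlgHom.equalizer s' t'] C₁ →ₗ[AlgHom.equalizer s' t']
        (A' ⧸ N) ⊗[AlgHom.equalizer s' t'] C₁ := LinearMap.rTensor C₁ N.mkQ
    have hQw : ∀ z : A ⊗[C] C₁, Q (w z) = 0 := by
      intro z
      induction z using TensorProduct.induction_on with
      | zero => rw [map_zero, map_zero]
      | tmul a c =>
        have e1 : w (a ⊗ₜ[C] c) = (algebraMap A A' a) ⊗ₜ[AlgHom.equalizer s' t'] c := by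
          rw [hw a c]
          show ((algebraMap A A' a) ⊗ₜ[AlgHom.equalizer s' t'] (1 : C₁)) *
            ((1 : A') ⊗ₜ[AlgHom.equalizer s' t'] c) = _
          rw [Algebra.TensorProduct.tmul_mul_tmul, mul_one, one_mul]
        rw [e1]
        show (N.mkQ (algebraMap A A' a)) ⊗ₜ[AlgHom.equalizer s' t'] c = 0
        have e2 : N.mkQ (algebraMap A A' a) = 0 := by
          rw [Submodule.mkQ_apply, Submodule.Quotient.mk_eq_zero]
          refine ⟨(1 : AlgHom.equalizer s' t') ⊗ₜ[C] a, ?_⟩
          show Θ s' t' ((1 : AlgHom.equalizer s' t') ⊗ₜ[C] a) = _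
          rw [Θ_tmul]
          show (1 : A') * _ = _
          rw [one_mul]
        rw [e2, TensorProduct.zero_tmul]
      | add x y hx hy => rw [map_add, map_add, hx, hy, add_zero]
    have : Q (u y) = 0 := by
      rw [hkey]
      exact hQw _
    exact this

/-- **Keel–Mori, cartesian part (ring level)**: `C' ⊗[C] A → A'` is bijective. -/
theorem Θ_bijective (h : KMHyp s t s' t' fR) : Function.Bijective (Θ s' t' (A := A)) :=
  ⟨Θ_injective h, Θ_surjective h⟩

end surj

section up

variable {C A B A' B' : Type u} [CommRing C] [CommRing A] [CommRing B] [CommRing A'] [CommRing B']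
  [Algebra C A] [Algebra C B] [Algebra C A'] [Algebra C B'] [Algebra A A'] [IsScalarTower C A A']
  {s t : A →ₐ[C] B} {s' t' : A' →ₐ[C] B'} {fR : B →ₐ[C] B'}

theorem exists_tensor_hom {X Y : Type u} [CommRing X] [CommRing Y] [Algebra C X] [Algebra C Y]
    (T : Type u) [CommRing T] (gX : X →+* T) (gY : Y →+* T)
    (hXY : ∀ c : C, gX (algebraMap C X c) = gY (algebraMap C Y c)) :
    ∃ w : X ⊗[C] Y →+* T, ∀ (x : X) (y : Y), w (x ⊗ₜ[C] y) = gX x * gY y := by
  letI : Algebra C T := (gX.comp (algebraMap C X)).toAlgebra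
  let fa : X →ₐ[C] T := ⟨gX, fun c => rfl⟩
  let va : Y →ₐ[C] T := ⟨gY, fun c => (hXY c).symm⟩
  refine ⟨(Algebra.TensorProduct.lift fa va (fun _ _ => Commute.all _ _)).toRingHom, fun a c => ?_⟩
  show Algebra.TensorProduct.lift fa va (fun _ _ => Commute.all _ _) (a ⊗ₜ[C] c) = _
  rw [Algebra.TensorProduct.lift_tmul]
  rfl

/-- universal property of `A'` as the pushout of `C' ← C → A`: existence. -/
theorem up_exists (h : KMHyp s t s' t' fR) (T : Type u) [CommRing T] (g₁ : A →+* T)
    (g₂ : (AlgHom.equalizer s' t') →+* T)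
    (hg : ∀ c : C, g₁ (algebraMap C A c) = g₂ (algebraMap C (AlgHom.equalizer s' t') c)) :
    ∃ θ : A' →+* T, (∀ a, θ (algebraMap A A' a) = g₁ a) ∧
      ∀ c' : AlgHom.equalizer s' t', θ c' = g₂ c' := by
  obtain ⟨w, hw⟩ := exists_tensor_hom (C := C) T g₂ g₁ (fun c => (hg c).symm)
  have hbij := Θ_bijective h
  let e : (AlgHom.equalizer s' t') ⊗[C] A ≃+* A' :=
    RingEquiv.ofBijective (Θ s' t' (A := A)).toRingHom hbij
  have he : ∀ z, e z = Θ s' t' z := fun z => rfl
  refine ⟨w.comp e.symm.toRingHom, fun a => ?_, fun c' => ?_⟩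
  · have e1 : algebraMap A A' a = e ((1 : AlgHom.equalizer s' t') ⊗ₜ[C] a) := by
      rw [he, Θ_tmul]
      show _ = (1 : A') * _
      rw [one_mul]
    show w (e.symm (algebraMap A A' a)) = g₁ a
    rw [e1, RingEquiv.symm_apply_apply, hw, map_one, one_mul]
  · have e1 : (c' : A') = e (c' ⊗ₜ[C] (1 : A)) := by
      rw [he, Θ_tmul, map_one, mul_one]
    show w (e.symm (c' : A')) = g₂ c'
    rw [e1, RingEquiv.symm_apply_apply, hw, map_one, mul_one]

/-- universal property of `A'` as the pushout of `C' ← C → A`: uniqueness. -/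
theorem up_unique (h : KMHyp s t s' t' fR) (T : Type u) [CommRing T] (θ θ' : A' →+* T)
    (h1 : ∀ a, θ (algebraMap A A' a) = θ' (algebraMap A A' a))
    (h2 : ∀ c' : AlgHom.equalizer s' t', θ c' = θ' c') : θ = θ' := by
  ext y
  obtain ⟨z, rfl⟩ := Θ_surjective h y
  induction z using TensorProduct.induction_on with
  | zero => rw [map_zero, map_zero, map_zero]
  | tmul c' a => rw [Θ_tmul, map_mul, map_mul, h1, h2]
  | add x y hx hy => rw [map_add, map_add, map_add, hx, hy]

end up

end Groth.Agent.Lib.Helper20.KM
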