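import Mathlib
import Groth.Agent.Lib.Helper20.KM9
import Groth.Agent.Lib.Helper14.EtSrcLocal

set_option autoImplicit false
set_option linter.style.haveILetI false
set_option linter.unusedSectionVars false
universe u

namespace Groth.Agent.Lib.Helper20.FQ

open TensorProduct IsLocalRing Polynomial
open Groth.Agent.Lib.Helper20.KM

section po

variable {G : Type u} [Fintype G] [DecidableEq G] {B A : Type u} [CommRing B] [CommRing A]

/-- the pushout square `B → (G → B)`, `B → A` for twisted diagonal maps. -/
theorem po_pi (fU : B →+* A) (σB τB : G → (B →+* B)) (σA τA : G → (A →+* A))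
    (hσ : ∀ g b, fU (σB g b) = σA g (fU b)) (hτ : ∀ g b, fU (τB g b) = τA g (fU b))
    (hτσA : ∀ g a, τA g (σA g a) = a) (hστA : ∀ g a, σA g (τA g a) = a)
    (hστB : ∀ g b, σB g (τB g b) = b) :
    PO (RingHom.pi σB : B →+* (G → B)) fU
      (RingHom.pi (fun g => fU.comp (Pi.evalRingHom (fun _ : G => B) g)) : (G → B) →+* (G → A))
      (RingHom.pi σA : A →+* (G → A)) := by
  refine ⟨?_, ?_, ?_⟩
  · ext b g
    exact hσ g b
  · intro T _ g₁ g₂ h12
    have h12' : ∀ b, g₁ (fun g => σB g b) = g₂ (fU b) := fun b =>
      congrFun (congrArg DFunLike.coe h12) b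
    let e : G → T := fun g => g₁ (Pi.single g 1)
    have he_mul : ∀ g h, e g * e h = if g = h then e g else 0 := by
      intro g h
      show g₁ _ * g₁ _ = _
      rw [← map_mul]
      split_ifs with hgh
      · subst hgh
        rw [← Pi.single_mul, one_mul]
      · have : (Pi.single g 1 : G → B) * Pi.single h 1 = 0 := by
          funext k
          simp only [Pi.mul_apply, Pi.single_apply, Pi.zero_apply]
          split_ifs <;> simp_all
        rw [this, map_zero]
    have he_sum : ∑ g, e g = 1 := by
      have h3 : (∑ g, Pi.single g (1 : B) : G → B) = 1 := Finset.univ_sum_single (1 : G → B)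
      show ∑ g, g₁ (Pi.single g 1) = 1
      rw [← map_sum, h3, map_one]
    let β₀ : (G → A) → T := fun f => ∑ g, e g * g₂ (τA g (f g))
    have hβmul : ∀ f f', β₀ (f * f') = β₀ f * β₀ f' := by
      intro f f'
      show ∑ g, e g * g₂ (τA g ((f * f') g)) = (∑ g, e g * g₂ (τA g (f g))) *
        ∑ h, e h * g₂ (τA h (f' h))
      rw [Finset.sum_mul_sum]
      refine Finset.sum_congr rfl fun g _ => ?_
      rw [Finset.sum_eq_single g]
      · rw [Pi.mul_apply, map_mul, map_mul]
        have := he_mul g g
        rw [if_pos rfl] at this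
        calc e g * (g₂ (τA g (f g)) * g₂ (τA g (f' g)))
            = (e g * e g) * (g₂ (τA g (f g)) * g₂ (τA g (f' g))) := by rw [this]
          _ = _ := by ring
      · intro h _ hne
        have := he_mul g h
        rw [if_neg (Ne.symm hne)] at this
        calc e g * g₂ (τA g (f g)) * (e h * g₂ (τA h (f' h)))
            = (e g * e h) * (g₂ (τA g (f g)) * g₂ (τA h (f' h))) := by ring
          _ = 0 := by rw [this, zero_mul]
      · intro hg
        exact absurd (Finset.mem_univ g) hg
    let β : (G → A) →+* T :=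
      { toFun := β₀
        map_one' := by
          show ∑ g, e g * g₂ (τA g ((1 : G → A) g)) = 1
          simp only [Pi.one_apply, map_one, mul_one]
          exact he_sum
        map_mul' := hβmul
        map_zero' := by
          show ∑ g, e g * g₂ (τA g ((0 : G → A) g)) = 0
          simp only [Pi.zero_apply, map_zero, mul_zero, Finset.sum_const_zero]
        map_add' := fun f f' => by
          show ∑ g, e g * g₂ (τA g ((f + f') g)) = (∑ g, e g * g₂ (τA g (f g))) +
            ∑ g, e g * g₂ (τA g (f' g))
          rw [← Finset.sum_add_distrib]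
          refine Finset.sum_congr rfl fun g _ => ?_
          rw [Pi.add_apply, map_add, map_add, mul_add] }
    refine ⟨β, ?_, ?_⟩
    · apply RingHom.ext
      intro φ
      show ∑ g, e g * g₂ (τA g (fU (φ g))) = g₁ φ
      have h1 : ∀ g, e g * g₂ (τA g (fU (φ g))) =
          g₁ (Pi.single g 1 * fun k => σB k (τB g (φ g))) := by
        intro g
        rw [map_mul, ← hτ, ← h12']
      simp_rw [h1]
      rw [← map_sum]
      congr 1
      funext k
      rw [Finset.sum_apply]
      simp only [Pi.mul_apply, Pi.single_apply]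
      rw [Finset.sum_eq_single k]
      · rw [if_pos rfl, one_mul, hστB]
      · intro g _ hne
        rw [if_neg (Ne.symm hne), zero_mul]
      · intro hk
        exact absurd (Finset.mem_univ k) hk
    · apply RingHom.ext
      intro a
      show ∑ g, e g * g₂ (τA g (σA g a)) = g₂ a
      simp_rw [hτσA]
      rw [← Finset.sum_mul, he_sum, one_mul]
  · intro T _ β β' h1 h2
    have h1' : ∀ φ : G → B, β (fun g => fU (φ g)) = β' (fun g => fU (φ g)) := fun φ =>
      congrFun (congrArg DFunLike.coe h1) φ
    have h2' : ∀ a : A, β (fun g => σA g a) = β' (fun g => σA g a) := fun a =>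
      congrFun (congrArg DFunLike.coe h2) a
    apply RingHom.ext
    intro f
    have hf : f = ∑ g, (fun k => fU ((Pi.single g 1 : G → B) k)) * fun k => σA k (τA g (f g)) := by
      funext k
      rw [Finset.sum_apply]
      simp only [Pi.mul_apply, Pi.single_apply]
      rw [Finset.sum_eq_single k]
      · rw [if_pos rfl, map_one, one_mul, hστA]
      · intro g _ hne
        rw [if_neg (Ne.symm hne), map_zero, zero_mul]
      · intro hk
        exact absurd (Finset.mem_univ k) hk
    rw [hf, map_sum, map_sum]
    refine Finset.sum_congr rfl fun g _ => ?_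
    rw [map_mul, map_mul, h1', h2']

end po

section arrow

variable {G : Type u} [Group G] [Fintype G] {B : Type u} [CommRing B] [MulSemiringAction G B]

/-- two homomorphisms to a domain which agree on invariants agree elementwise up to the group. -/
theorem exists_smul_eq_of_eq_on_invariants' {D : Type u} [CommRing D] [IsDomain D]
    (a₁ a₂ : B →+* D) (h : ∀ b, (∀ g : G, g • b = b) → a₁ b = a₂ b) (b : B) :
    ∃ g : G, a₁ b = a₂ (g • b) := by
  classical
  have hmap : (MulSemiringAction.charpoly G b).map a₁ = (MulSemiringAction.charpoly G b).map a₂ := by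
    ext n
    rw [coeff_map, coeff_map]
    exact h _ (fun g => MulSemiringAction.smul_coeff_charpoly b n g)
  have hprod : ∀ a : B →+* D, (MulSemiringAction.charpoly G b).map a =
      ∏ g : G, (X - C (a (g • b))) := by
    intro a
    rw [MulSemiringAction.charpoly_eq, Polynomial.map_prod]
    refine Finset.prod_congr rfl fun g _ => ?_
    rw [Polynomial.map_sub, map_X, map_C]
  have h1 : ((MulSemiringAction.charpoly G b).map a₁).eval (a₁ b) = 0 := by
    rw [hprod, eval_prod]
    refine Finset.prod_eq_zero (Finset.mem_univ (1 : G)) ?_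
    rw [one_smul, eval_sub, eval_X, eval_C, sub_self]
  rw [hmap, hprod, eval_prod, Finset.prod_eq_zero_iff] at h1
  obtain ⟨g, -, hg⟩ := h1
  rw [eval_sub, eval_X, eval_C, sub_eq_zero] at hg
  exact ⟨g, hg⟩

/-- uniform version: the two homomorphisms differ by a group element. -/
theorem exists_smul_eq_of_eq_on_invariants {D : Type u} [CommRing D] [IsDomain D]
    (a₁ a₂ : B →+* D) (h : ∀ b, (∀ g : G, g • b = b) → a₁ b = a₂ b) :
    ∃ g : G, ∀ b, a₁ b = a₂ (g • b) := by
  classical
  by_contra hcon
  push Not at hcon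
  choose bb hbb using hcon
  let idx : G ≃ Fin (Fintype.card G) := Fintype.equivFin G
  let β : B[X] := ∑ g, C (bb g) * X ^ (idx g : ℕ)
  have hβ : ∀ g, β.coeff (idx g : ℕ) = bb g := by
    intro g
    show (∑ g', C (bb g') * X ^ (idx g' : ℕ)).coeff (idx g : ℕ) = bb g
    rw [finsetSum_coeff]
    simp_rw [coeff_C_mul_X_pow]
    rw [Finset.sum_eq_single g]
    · rw [if_pos rfl]
    · intro g' _ hne
      rw [if_neg]
      intro heq
      exact hne (idx.injective (Fin.ext heq)).symm
    · intro hg
      exact absurd (Finset.mem_univ g) hg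
  have hh : ∀ p : B[X], (∀ g : G, g • p = p) →
      Polynomial.mapRingHom a₁ p = Polynomial.mapRingHom a₂ p := by
    intro p hp
    ext n
    rw [coe_mapRingHom, coe_mapRingHom, coeff_map, coeff_map]
    exact h _ (fun g => by rw [← coeff_smul, hp])
  obtain ⟨g, hg⟩ := exists_smul_eq_of_eq_on_invariants' (G := G) (B := B[X]) (D := D[X])
    (Polynomial.mapRingHom a₁) (Polynomial.mapRingHom a₂) hh β
  have h1 := congrArg (fun p => p.coeff (idx g : ℕ)) hg
  simp only [coe_mapRingHom, coeff_map, coeff_smul, hβ] at h1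
  exact hbb g h1

end arrow

section inert

variable {G : Type u} [Group G] {B A : Type u} [CommRing B] [CommRing A] [Algebra B A]
  [MulSemiringAction G B] [MulSemiringAction G A]

/-- rigidity: for an unramified equivariant algebra, an element of the inertia group of `P ∩ B`
which lies in the inertia group of some proper `x ⊇ P` lies in the inertia group of `P`. -/
theorem mem_inertia_of_unramified [Algebra.FormallyUnramified B A] [Algebra.EssFiniteType B A]
    (hGeq : ∀ (g : G) (b : B), algebraMap B A (g • b) = g • algebraMap B A b)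
    (P x : Ideal A) [P.IsPrime] (hPx : P ≤ x) (hx : x ≠ ⊤) (g : G)
    (hgB : g ∈ (P.comap (algebraMap B A)).inertia G) (hgx : g ∈ x.inertia G) :
    g ∈ P.inertia G := by
  haveI : IsDomain (A ⧸ P) := Ideal.Quotient.isDomain P
  let φ₁ : A →ₐ[B] A ⧸ P := Ideal.Quotient.mkₐ B P
  let φ₂ : A →ₐ[B] A ⧸ P :=
    { toRingHom := (Ideal.Quotient.mk P).comp (MulSemiringAction.toRingHom G A g)
      commutes' := fun b => by
        show Ideal.Quotient.mk P (g • algebraMap B A b) = Ideal.Quotient.mk P (algebraMap B A b)
        rw [← hGeq, Ideal.Quotient.eq, ← map_sub]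
        exact hgB b }
  obtain ⟨ε, h1, h2⟩ := exists_eps_of_unramified φ₁ φ₂
  have hε : Ideal.Quotient.factor hPx ε = 1 := by
    refine h2 (A ⧸ x) (Ideal.Quotient.factor hPx) (fun a => ?_)
    show Ideal.Quotient.factor hPx (Ideal.Quotient.mk P a) =
      Ideal.Quotient.factor hPx (Ideal.Quotient.mk P (g • a))
    rw [Ideal.Quotient.factor_mk, Ideal.Quotient.factor_mk, eq_comm, Ideal.Quotient.eq]
    exact hgx a
  have hε0 : ε ≠ 0 := by
    intro h0
    rw [h0, map_zero] at hε
    haveI : Nontrivial (A ⧸ x) := Ideal.Quotient.nontrivial_iff.mpr hx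
    exact zero_ne_one hε
  intro a
  have := mul_right_cancel₀ hε0 (h1 a)
  have h3 : Ideal.Quotient.mk P a = Ideal.Quotient.mk P (g • a) := this
  rw [eq_comm, Ideal.Quotient.eq] at h3
  exact h3

end inert

section nbhd

open CategoryTheory AlgebraicGeometry

/-- a ring map is étale if every prime of the target has an étale neighbourhood which is étale
over the source. -/
theorem etale_of_forall_exists_nbhd {C C' : Type u} [CommRing C] [CommRing C'] (ι : C →+* C')
    (H : ∀ p' : Ideal C', p'.IsPrime → ∃ (C₁ : Type u) (_ : CommRing C₁) (φ : C →+* C₁)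
      (ρ : C' →+* C₁) (q : Ideal C₁), q.IsPrime ∧ φ.Etale ∧ ρ.Etale ∧ ρ.comp ι = φ ∧
        q.comap ρ = p') : ι.Etale := by
  suffices hsuff : Etale (Spec.map (CommRingCat.ofHom ι)) from
    (HasRingHomProperty.Spec_iff (P := @Etale) (φ := CommRingCat.ofHom ι)).mp hsuff
  set g : Spec (CommRingCat.of C') ⟶ Spec (CommRingCat.of C) := Spec.map (CommRingCat.ofHom ι)
    with hg
  have key : ∀ x : Spec (CommRingCat.of C'),
      ∃ W : (Spec (CommRingCat.of C')).Opens, x ∈ W ∧ Etale (W.ι ≫ g) := by
    intro x
    obtain ⟨C₁, _, φ, ρ, q, hq, hφ, hρ, hcomp, hcomap⟩ := H x.asIdeal x.isPrime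
    let π : Spec (CommRingCat.of C₁) ⟶ Spec (CommRingCat.of C') :=
      Spec.map (CommRingCat.ofHom ρ)
    have hπ : Etale π := (HasRingHomProperty.Spec_iff (P := @Etale)).mpr hρ
    let W : (Spec (CommRingCat.of C')).Opens :=
      ⟨Set.range π, π.isOpenMap.isOpen_range⟩
    have hxW : x ∈ W := ⟨⟨q, hq⟩, PrimeSpectrum.ext hcomap⟩
    have hrange : Set.range π ⊆ Set.range W.ι := by
      rw [Scheme.Opens.range_ι]
      exact subset_rfl
    let π' : Spec (CommRingCat.of C₁) ⟶ W.toScheme := IsOpenImmersion.lift W.ι π hrange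
    have hπ' : π' ≫ W.ι = π := IsOpenImmersion.lift_fac _ _ _
    have h1 : Etale π' := by
      have : Etale (π' ≫ W.ι) := by rw [hπ']; exact hπ
      exact Etale.of_comp π' W.ι
    have h2 : Surjective π' := by
      constructor
      intro w
      obtain ⟨z, hz⟩ : (W.ι w) ∈ Set.range π := by
        have : W.ι w ∈ Set.range W.ι := ⟨w, rfl⟩
        rw [Scheme.Opens.range_ι] at this
        exact this
      refine ⟨z, W.ι.injective ?_⟩
      rw [← hz, ← hπ']
      rfl
    have h3 : Etale (π' ≫ (W.ι ≫ g)) := by
      rw [← Category.assoc, hπ', hg, ← Spec.map_comp, ← CommRingCat.ofHom_comp, hcomp]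
      exact (HasRingHomProperty.Spec_iff (P := @Etale)).mpr hφ
    exact ⟨W, hxW, Groth.Agent.Lib.Helper14.ESL.srcLocal_etale π' (W.ι ≫ g) h1 h2 h3⟩
  choose W hxW hW using key
  have hloc' : IsZariskiLocalAtSource @Etale.{u} := HasRingHomProperty.instIsZariskiLocalAtSource
  refine IsZariskiLocalAtSource.of_iSup_eq_top (P := @Etale) W ?_ hW
  rw [eq_top_iff]
  intro x _
  exact TopologicalSpace.Opens.mem_iSup.mpr ⟨x, hxW x⟩

end nbhd

end Groth.Agent.Lib.Helper20.FQ
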