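import Mathlib
import Groth.Agent.Lib.Helper20.FQ3

set_option autoImplicit false
set_option linter.style.haveILetI false
set_option linter.unusedSectionVars false
universe u

namespace Groth.Agent.Lib.Helper20.FQ

open TensorProduct IsLocalRing Polynomial
open Groth.Agent.Lib.Helper20.KM

section defs

variable (G : Type u) [Group G] (C X : Type u) [CommRing C] [CommRing X] [Algebra C X]
  [MulSemiringAction G X] [SMulCommClass G C X]

/-- the constant map `X → (G → X)`. -/
noncomputable def sHom : X →ₐ[C] (G → X) :=
  { toRingHom := RingHom.pi (fun _ : G => RingHom.id X)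
    commutes' := fun _ => rfl }

/-- the action map `X → (G → X)`. -/
noncomputable def tHom : X →ₐ[C] (G → X) :=
  { toRingHom := RingHom.pi (fun g : G => MulSemiringAction.toRingHom G X g)
    commutes' := fun c => by
      funext g
      exact smul_algebraMap g c }

theorem sHom_apply (x : X) (g : G) : sHom G C X x g = x := rfl

theorem tHom_apply (x : X) (g : G) : tHom G C X x g = g • x := rfl

end defs

section fR

variable (G : Type u) (C B A : Type u) [CommRing C] [CommRing B] [CommRing A] [Algebra C B]
  [Algebra C A] [Algebra B A] [IsScalarTower C B A]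

/-- the componentwise map `(G → B) → (G → A)`. -/
noncomputable def fRHom : (G → B) →ₐ[C] (G → A) :=
  { toRingHom := RingHom.pi (fun g : G => (algebraMap B A).comp (Pi.evalRingHom (fun _ : G => B) g))
    commutes' := fun c => by
      funext g
      exact (IsScalarTower.algebraMap_apply C B A c).symm }

theorem fRHom_apply (φ : G → B) (g : G) : fRHom G C B A φ g = algebraMap B A (φ g) := rfl

end fR


section factor

variable {G : Type u} [Fintype G] [DecidableEq G] {A K : Type u} [CommRing A] [CommRing K] [IsDomain K]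

/-- a ring hom from a finite power into a domain factors through a coordinate. -/
theorem exists_eval_factor (r : (G → A) →+* K) : ∃ h : G, ∀ φ : G → A, r φ = r (fun _ => φ h) := by
  have h3 : (∑ g, Pi.single g (1:A) : G → A) = 1 := Finset.univ_sum_single _
  have hsum : ∑ g, r (Pi.single g (1 : A)) = 1 := by
    rw [← map_sum, h3, map_one]
  have hex : ∃ h, r (Pi.single h (1 : A)) ≠ 0 := by
    by_contra hcon
    push Not at hcon
    rw [Finset.sum_congr rfl (fun g _ => hcon g), Finset.sum_const_zero] at hsum
    exact zero_ne_one hsum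
  obtain ⟨h, hh⟩ := hex
  have hidem : r (Pi.single h (1 : A)) * r (Pi.single h (1 : A)) = r (Pi.single h (1 : A)) := by
    rw [← map_mul, ← Pi.single_mul, one_mul]
  have hone : r (Pi.single h (1 : A)) = 1 := by
    have h1 : r (Pi.single h (1 : A)) * (r (Pi.single h (1 : A)) - 1) = 0 := by
      rw [mul_sub, hidem, mul_one, sub_self]
    rcases mul_eq_zero.mp h1 with h2 | h2
    · exact absurd h2 hh
    · exact sub_eq_zero.mp h2
  refine ⟨h, fun φ => ?_⟩
  have h4 : φ * Pi.single h (1 : A) = (fun _ => φ h) * Pi.single h (1 : A) := by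
    funext k
    by_cases hk : k = h
    · subst hk
      simp
    · simp [Pi.single_eq_of_ne hk]
  calc r φ = r φ * r (Pi.single h (1 : A)) := by rw [hone, mul_one]
    _ = r (φ * Pi.single h (1 : A)) := (map_mul _ _ _).symm
    _ = r ((fun _ => φ h) * Pi.single h (1 : A)) := by rw [h4]
    _ = r (fun _ => φ h) * r (Pi.single h (1 : A)) := map_mul _ _ _
    _ = r (fun _ => φ h) := by rw [hone, mul_one]

end factor


section main

variable (G : Type u) [Group G] [Fintype G] (C B A : Type u) [CommRing C] [CommRing B] [CommRing A]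
  [Algebra C B] [Algebra C A] [Algebra B A] [IsScalarTower C B A]
  [MulSemiringAction G B] [MulSemiringAction G A] [SMulCommClass G C B] [SMulCommClass G C A]

theorem km_po_s [DecidableEq G] :
    PO (sHom G C B).toRingHom (algebraMap B A) (fRHom G C B A).toRingHom
      (sHom G C A).toRingHom :=
  po_pi (algebraMap B A) (fun _ => RingHom.id B) (fun _ => RingHom.id B)
    (fun _ => RingHom.id A) (fun _ => RingHom.id A) (fun _ _ => rfl) (fun _ _ => rfl)
    (fun _ _ => rfl) (fun _ _ => rfl) (fun _ _ => rfl)

theorem km_po_t [DecidableEq G]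
    (hGeq : ∀ (g : G) (b : B), algebraMap B A (g • b) = g • algebraMap B A b) :
    PO (tHom G C B).toRingHom (algebraMap B A) (fRHom G C B A).toRingHom
      (tHom G C A).toRingHom :=
  po_pi (algebraMap B A) (fun g => MulSemiringAction.toRingHom G B g)
    (fun g => MulSemiringAction.toRingHom G B g⁻¹)
    (fun g => MulSemiringAction.toRingHom G A g) (fun g => MulSemiringAction.toRingHom G A g⁻¹)
    (fun g b => hGeq g b) (fun g b => hGeq g⁻¹ b)
    (fun g a => inv_smul_smul g a) (fun g a => smul_inv_smul g a) (fun g b => smul_inv_smul g b)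


theorem km_inert {K : Type u} [Field K]
    (hin : ∀ (P : Ideal A), P.IsPrime → ∀ g : G,
      g ∈ (P.comap (algebraMap B A)).inertia G → g ∈ P.inertia G)
    (x' : A →+* K) (g₁ g₂ : G)
    (h : ∀ b : B, x' (algebraMap B A (g₁ • b)) = x' (algebraMap B A (g₂ • b))) (a : A) :
    x' (g₁ • a) = x' (g₂ • a) := by
  have hP : (RingHom.ker x').IsPrime := RingHom.ker_isPrime x'
  have h1 : g₁ * g₂⁻¹ ∈ ((RingHom.ker x').comap (algebraMap B A)).inertia G := by
    rw [AddSubgroup.mem_inertia]
    intro b
    show algebraMap B A ((g₁ * g₂⁻¹) • b - b) ∈ RingHom.ker x'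
    rw [RingHom.mem_ker, map_sub, map_sub, sub_eq_zero, mul_smul, h, smul_inv_smul]
  have h2 := hin _ hP _ h1
  rw [AddSubgroup.mem_inertia] at h2
  have h3 : (g₁ * g₂⁻¹) • g₂ • a - g₂ • a ∈ RingHom.ker x' := h2 (g₂ • a)
  rw [RingHom.mem_ker, map_sub, sub_eq_zero, mul_smul, inv_smul_smul] at h3
  exact h3

theorem km_sect {K : Type u} [Field K]
    (hC : ∀ b : B, (∀ g : G, g • b = b) → b ∈ Set.range (algebraMap C B))
    (hGeq : ∀ (g : G) (b : B), algebraMap B A (g • b) = g • algebraMap B A b)
    (hin : ∀ (P : Ideal A), P.IsPrime → ∀ g : G,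
      g ∈ (P.comap (algebraMap B A)).inertia G → g ∈ P.inertia G)
    (x' : A →+* K) :
    ∃ Φ : (B →+* K) → (A →+* K),
      Φ (x'.comp (algebraMap B A)) = x' ∧
      (∀ a : B →+* K, a.comp (algebraMap C B) =
          (x'.comp (algebraMap B A)).comp (algebraMap C B) →
        (Φ a).comp (algebraMap B A) = a) ∧
      ∀ r'' : (G → A) →+* K,
        ((r''.comp (fRHom G C B A).toRingHom).comp (sHom G C B).toRingHom).comp (algebraMap C B) =
          (x'.comp (algebraMap B A)).comp (algebraMap C B) →
        r''.comp (sHom G C A).toRingHom =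
          Φ ((r''.comp (fRHom G C B A).toRingHom).comp (sHom G C B).toRingHom) →
        r''.comp (tHom G C A).toRingHom =
          Φ ((r''.comp (fRHom G C B A).toRingHom).comp (tHom G C B).toRingHom) := by
  classical
  let x : B →+* K := x'.comp (algebraMap B A)
  let Φ : (B →+* K) → (A →+* K) := fun a =>
    if h : ∃ g : G, ∀ b, a b = x (g • b) then x'.comp (MulSemiringAction.toRingHom G A h.choose)
    else x'
  have hΦ : ∀ (a : B →+* K) (g : G), (∀ b, a b = x (g • b)) → ∀ z : A, Φ a z = x' (g • z) := by
    intro a g hg z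
    have hex : ∃ g : G, ∀ b, a b = x (g • b) := ⟨g, hg⟩
    have hΦa : Φ a = x'.comp (MulSemiringAction.toRingHom G A hex.choose) := dif_pos hex
    rw [hΦa]
    show x' (hex.choose • z) = _
    apply km_inert G B A hin x'
    intro b
    have h1 := hex.choose_spec b
    rw [hg b] at h1
    exact h1.symm
  have hagree : ∀ a : B →+* K, a.comp (algebraMap C B) = x.comp (algebraMap C B) →
      ∃ g : G, ∀ b, a b = x (g • b) := by
    intro a ha
    apply exists_smul_eq_of_eq_on_invariants
    intro b hb
    obtain ⟨c, rfl⟩ := hC b hb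
    exact congrFun (congrArg DFunLike.coe ha) c
  refine ⟨Φ, ?_, ?_, ?_⟩
  · apply RingHom.ext
    intro z
    rw [hΦ x 1 (fun b => by rw [one_smul]) z, one_smul]
  · intro a ha
    obtain ⟨g, hg⟩ := hagree a ha
    apply RingHom.ext
    intro b
    show Φ a (algebraMap B A b) = a b
    rw [hΦ a g hg, ← hGeq, hg b]
    rfl
  · intro r'' h1 h2
    obtain ⟨h, hh⟩ := exists_eval_factor r''
    set y' : A →+* K := r''.comp (sHom G C A).toRingHom with hy'
    set y : B →+* K := (r''.comp (fRHom G C B A).toRingHom).comp (sHom G C B).toRingHom with hy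
    have hyy' : ∀ b, y b = y' (algebraMap B A b) := fun b => rfl
    obtain ⟨g₀, hg₀⟩ := hagree y h1
    have hy'z : ∀ z, y' z = x' (g₀ • z) := by
      intro z
      rw [h2, hΦ y g₀ hg₀]
    have hz : ∀ b, ((r''.comp (fRHom G C B A).toRingHom).comp (tHom G C B).toRingHom) b =
        x ((g₀ * h) • b) := by
      intro b
      show r'' (fRHom G C B A (tHom G C B b)) = _
      rw [hh]
      show y (h • b) = _
      rw [hg₀, mul_smul]
    apply RingHom.ext
    intro z
    rw [hΦ _ (g₀ * h) hz z]
    show r'' (tHom G C A z) = _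
    rw [hh]
    show y' (h • z) = _
    rw [hy'z, mul_smul]


instance equalizer_smulCommClass :
    SMulCommClass G (AlgHom.equalizer (sHom G C A) (tHom G C A)) A where
  smul_comm g c a := by
    show g • ((c : A) * a) = (c : A) * g • a
    rw [smul_mul']
    congr 1
    have h1 : sHom G C A (c : A) = tHom G C A (c : A) := c.2
    exact (congrFun h1 g).symm

theorem km_hyp [Algebra.Etale B A]
    (hC : ∀ b : B, (∀ g : G, g • b = b) → b ∈ Set.range (algebraMap C B))
    (hinj : Function.Injective (algebraMap C B))
    (hGeq : ∀ (g : G) (b : B), algebraMap B A (g • b) = g • algebraMap B A b)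
    (hin : ∀ (P : Ideal A), P.IsPrime → ∀ g : G,
      g ∈ (P.comap (algebraMap B A)).inertia G → g ∈ P.inertia G) :
    KMHyp (sHom G C B) (tHom G C B) (sHom G C A) (tHom G C A) (fRHom G C B A) := by
  classical
  haveI : Algebra.IsInvariant C B G := ⟨fun b hb => hC b hb⟩
  haveI : Algebra.IsInvariant (AlgHom.equalizer (sHom G C A) (tHom G C A)) A G :=
    ⟨fun a ha => ⟨⟨a, by
      show sHom G C A a = tHom G C A a
      funext g
      exact (ha g).symm⟩, rfl⟩⟩
  refine ⟨km_po_s G C B A, km_po_t G C B A hGeq, ?_, hinj, Algebra.IsInvariant.isIntegral C B G,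
    ?_, inferInstance, ?_, ?_, ?_⟩
  · intro b hb
    apply hC
    intro g
    exact (congrFun hb g).symm
  · have h1 : (sHom G C B).toRingHom = algebraMap B (G → B) := rfl
    rw [h1, RingHom.finite_algebraMap]
    infer_instance
  · exact (Algebra.IsInvariant.isIntegral (AlgHom.equalizer (sHom G C A) (tHom G C A)) A G).isIntegral
  · intro K _ _ a₁ a₂ h12
    obtain ⟨g, hg⟩ := exists_smul_eq_of_eq_on_invariants (G := G) a₁ a₂ (by
      intro b hb
      obtain ⟨c, rfl⟩ := hC b hb
      exact congrFun (congrArg DFunLike.coe h12) c)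
    refine ⟨a₂.comp (Pi.evalRingHom (fun _ : G => B) g), ?_, ?_⟩
    · apply RingHom.ext
      intro b
      exact (hg b).symm
    · apply RingHom.ext
      intro b
      rfl
  · intro K _ _ x'
    exact km_sect G C B A hC hGeq hin x'


/-- **Keel–Mori for finite groups**: for a `G`-equivariant étale map `B → A` which preserves
inertia groups at every prime, the invariants `A^G` are étale over `C = B^G`. -/
theorem etale_equalizer [Algebra.Etale B A]
    (hC : ∀ b : B, (∀ g : G, g • b = b) → b ∈ Set.range (algebraMap C B))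
    (hinj : Function.Injective (algebraMap C B))
    (hGeq : ∀ (g : G) (b : B), algebraMap B A (g • b) = g • algebraMap B A b)
    (hin : ∀ (P : Ideal A), P.IsPrime → ∀ g : G,
      g ∈ (P.comap (algebraMap B A)).inertia G → g ∈ P.inertia G) :
    (algebraMap C (AlgHom.equalizer (sHom G C A) (tHom G C A))).Etale := by
  have hH := km_hyp G C B A hC hinj hGeq hin
  apply etale_of_forall_exists_nbhd
  intro p' hp'
  obtain ⟨C₁, _, _, _, ρ₀, q, hq, hρ, hqp⟩ := exists_etale_nbhd hH p'
  refine ⟨C₁, inferInstance, algebraMap C C₁, ρ₀.toRingHom, q, hq,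
    RingHom.etale_algebraMap.mpr inferInstance, hρ, ?_, hqp⟩
  apply RingHom.ext
  intro c
  exact ρ₀.commutes c

/-- the same statement for any model `C'` of the ring of invariants of `A`. -/
theorem etale_of_invariants_of_inertia [Algebra.Etale B A]
    (C' : Type u) [CommRing C'] [Algebra C C'] [Algebra C' A] [IsScalarTower C C' A]
    (hC : ∀ b : B, (∀ g : G, g • b = b) → b ∈ Set.range (algebraMap C B))
    (hinj : Function.Injective (algebraMap C B))
    (hC' : ∀ a : A, (∀ g : G, g • a = a) ↔ a ∈ Set.range (algebraMap C' A))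
    (hinj' : Function.Injective (algebraMap C' A))
    (hGeq : ∀ (g : G) (b : B), algebraMap B A (g • b) = g • algebraMap B A b)
    (hin : ∀ (P : Ideal A), P.IsPrime → ∀ g : G,
      g ∈ (P.comap (algebraMap B A)).inertia G → g ∈ P.inertia G) :
    Algebra.Etale C C' := by
  have h0 := etale_equalizer G C B A hC hinj hGeq hin
  have hmem : ∀ c' : C', algebraMap C' A c' ∈ AlgHom.equalizer (sHom G C A) (tHom G C A) := by
    intro c'
    show sHom G C A _ = tHom G C A _
    funext g
    exact (((hC' _).mpr ⟨c', rfl⟩) g).symm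
  let f : C' →+* AlgHom.equalizer (sHom G C A) (tHom G C A) :=
    (algebraMap C' A).codRestrict (AlgHom.equalizer (sHom G C A) (tHom G C A)) hmem
  have hf : Function.Bijective f := by
    constructor
    · intro c₁ c₂ h12
      apply hinj'
      exact congrArg Subtype.val h12
    · rintro ⟨a, ha⟩
      have ha' : sHom G C A a = tHom G C A a := ha
      obtain ⟨c', hc'⟩ := (hC' a).mp (fun g => (congrFun ha' g).symm)
      exact ⟨c', Subtype.ext hc'⟩
  let e := RingEquiv.ofBijective f hf
  have hcomp : algebraMap C C' =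
      e.symm.toRingHom.comp (algebraMap C (AlgHom.equalizer (sHom G C A) (tHom G C A))) := by
    apply RingHom.ext
    intro c
    show _ = e.symm _
    rw [RingEquiv.eq_symm_apply]
    apply Subtype.ext
    show algebraMap C' A (algebraMap C C' c) = algebraMap C A c
    exact (IsScalarTower.algebraMap_apply C C' A c).symm
  rw [← RingHom.etale_algebraMap, hcomp]
  exact RingHom.Etale.stableUnderComposition _ _ h0 (RingHom.Etale.of_bijective e.symm.bijective)

end main

end Groth.Agent.Lib.Helper20.FQ
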