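import Mathlib
import Groth.Agent.Lib.Helper20.FQ4

set_option autoImplicit false
set_option linter.style.haveILetI false
set_option linter.unusedSectionVars false
universe u

namespace Groth.Agent.Lib.Helper20.FQ

open TensorProduct IsLocalRing Polynomial
open Groth.Agent.Lib.Helper20.KM

section locAct

variable {G : Type u} [Group G] {A : Type u} [CommRing A] [MulSemiringAction G A]
  (h : A) (hh : ∀ g : G, g • h = h)

/-- the endomorphism of `A_h` induced by `g`, for an invariant `h`. -/
noncomputable def locMap (g : G) : Localization.Away h →+* Localization.Away h :=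
  IsLocalization.map (M := Submonoid.powers h) (T := Submonoid.powers h) (Localization.Away h)
    (MulSemiringAction.toRingHom G A g)
    (by
      rintro _ ⟨n, rfl⟩
      show g • (h ^ n) ∈ Submonoid.powers h
      rw [smul_pow', hh]
      exact ⟨n, rfl⟩)

theorem locMap_algebraMap (g : G) (a : A) :
    locMap h hh g (algebraMap A (Localization.Away h) a) =
      algebraMap A (Localization.Away h) (g • a) :=
  IsLocalization.map_eq _ _

theorem locMap_one : locMap h hh (1 : G) = RingHom.id _ := by
  apply IsLocalization.ringHom_ext (Submonoid.powers h)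
  apply RingHom.ext
  intro a
  show locMap h hh 1 (algebraMap A _ a) = algebraMap A _ a
  rw [locMap_algebraMap, one_smul]

theorem locMap_mul (g k : G) : locMap h hh (g * k) = (locMap h hh g).comp (locMap h hh k) := by
  apply IsLocalization.ringHom_ext (Submonoid.powers h)
  apply RingHom.ext
  intro a
  show locMap h hh (g * k) (algebraMap A _ a) = locMap h hh g (locMap h hh k (algebraMap A _ a))
  rw [locMap_algebraMap, locMap_algebraMap, locMap_algebraMap, mul_smul]

/-- the action of `G` on `A_h` for an invariant `h`. -/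
@[reducible] noncomputable def locAct : MulSemiringAction G (Localization.Away h) where
  smul g z := locMap h hh g z
  one_smul z := by
    show locMap h hh 1 z = z
    rw [locMap_one]
    rfl
  mul_smul g k z := by
    show locMap h hh (g * k) z = locMap h hh g (locMap h hh k z)
    rw [locMap_mul]
    rfl
  smul_zero g := map_zero _
  smul_add g := map_add _
  smul_one g := map_one _
  smul_mul g := map_mul _

theorem locAct_smul_algebraMap (g : G) (a : A) :
    letI := locAct h hh
    g • (algebraMap A (Localization.Away h) a) = algebraMap A (Localization.Away h) (g • a) :=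
  locMap_algebraMap h hh g a

/-- invariant elements of `A_h` are fractions with invariant numerator. -/
theorem exists_invariant_of_loc [Fintype G] (z : Localization.Away h)
    (hz : ∀ g : G, locMap h hh g z = z) :
    ∃ (c : A) (n : ℕ), (∀ g : G, g • c = c) ∧
      z * algebraMap A (Localization.Away h) (h ^ n) = algebraMap A (Localization.Away h) c := by
  classical
  obtain ⟨n, a, hna⟩ := IsLocalization.Away.surj h z
  have h1 : ∀ g : G, algebraMap A (Localization.Away h) (g • a) =
      algebraMap A (Localization.Away h) a := by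
    intro g
    rw [← locMap_algebraMap h hh, ← hna, map_mul, hz, map_pow, locMap_algebraMap, hh]
  have h2 : ∀ g : G, ∃ m : ℕ, h ^ m * (g • a) = h ^ m * a := fun g =>
    IsLocalization.Away.exists_of_eq h (h1 g)
  choose m hm using h2
  let M : ℕ := ∑ g, m g
  have hM : ∀ g : G, h ^ M * (g • a) = h ^ M * a := by
    intro g
    have h3 : M = (M - m g) + m g := by
      have : m g ≤ M := Finset.single_le_sum (f := m) (fun _ _ => Nat.zero_le _) (Finset.mem_univ g)
      omega
    rw [h3, pow_add, mul_assoc, hm g, mul_assoc]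
  refine ⟨h ^ M * a, n + M, ?_, ?_⟩
  · intro g
    rw [smul_mul', smul_pow', hh, hM]
  · rw [pow_add, map_mul, ← mul_assoc, map_pow, hna, map_mul, mul_comm]

end locAct


section bad

variable {G : Type u} [Group G] {B A : Type u} [CommRing B] [CommRing A] [Algebra B A]
  [MulSemiringAction G B] [MulSemiringAction G A]

/-- the ideal of `A` generated by the `g • b - b`. -/
def JB (B A : Type u) [CommRing B] [CommRing A] [Algebra B A] [MulSemiringAction G B]
    (g : G) : Ideal A :=
  Ideal.span (Set.range fun b : B => algebraMap B A (g • b - b))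

theorem JB_le_iff (g : G) (P : Ideal A) :
    JB B A g ≤ P ↔ g ∈ (P.comap (algebraMap B A)).inertia G := by
  rw [JB, Ideal.span_le, AddSubgroup.mem_inertia]
  constructor
  · intro h b
    exact h ⟨b, rfl⟩
  · rintro h _ ⟨b, rfl⟩
    exact h b

/-- the coincidence element of `g` and the identity on `A / J_g`. -/
theorem exists_eps_inertia [Algebra.FormallyUnramified B A] [Algebra.EssFiniteType B A]
    (hGeq : ∀ (g : G) (b : B), algebraMap B A (g • b) = g • algebraMap B A b) (g : G) :
    ∃ e : A, (∀ a : A, (a - g • a) * e ∈ JB B A g) ∧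
      ∀ P : Ideal A, JB B A g ≤ P → g ∈ P.inertia G → e - 1 ∈ P := by
  let φ₁ : A →ₐ[B] A ⧸ JB B A g := Ideal.Quotient.mkₐ B (JB B A g)
  let φ₂ : A →ₐ[B] A ⧸ JB B A g :=
    { toRingHom := (Ideal.Quotient.mk (JB B A g)).comp (MulSemiringAction.toRingHom G A g)
      commutes' := fun b => by
        show Ideal.Quotient.mk (JB B A g) (g • algebraMap B A b) =
          Ideal.Quotient.mk (JB B A g) (algebraMap B A b)
        rw [← hGeq, Ideal.Quotient.eq, ← map_sub]
        exact Ideal.subset_span ⟨b, rfl⟩ }
  obtain ⟨ε, h1, h2⟩ := exists_eps_of_unramified φ₁ φ₂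
  obtain ⟨e, rfl⟩ := Ideal.Quotient.mk_surjective ε
  refine ⟨e, fun a => ?_, fun P hJP hgP => ?_⟩
  · have h3 : Ideal.Quotient.mk (JB B A g) a * Ideal.Quotient.mk (JB B A g) e =
        Ideal.Quotient.mk (JB B A g) (g • a) * Ideal.Quotient.mk (JB B A g) e := h1 a
    rw [← map_mul, ← map_mul, Ideal.Quotient.eq, ← sub_mul] at h3
    exact h3
  · have h3 := h2 (A ⧸ P) (Ideal.Quotient.factor hJP) (fun a => by
      show Ideal.Quotient.factor hJP (Ideal.Quotient.mk _ a) =
        Ideal.Quotient.factor hJP (Ideal.Quotient.mk _ (g • a))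
      rw [Ideal.Quotient.factor_mk, Ideal.Quotient.factor_mk, eq_comm, Ideal.Quotient.eq]
      rw [AddSubgroup.mem_inertia] at hgP
      exact hgP a)
    rw [Ideal.Quotient.factor_mk, ← map_one (Ideal.Quotient.mk P), Ideal.Quotient.eq] at h3
    exact h3

/-- the locus of primes where the inertia group is smaller than that of the contraction is closed. -/
theorem exists_bad_ideal [Fintype G] [Algebra.FormallyUnramified B A] [Algebra.EssFiniteType B A]
    (hGeq : ∀ (g : G) (b : B), algebraMap B A (g • b) = g • algebraMap B A b) :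
    ∃ 𝔞 : Ideal A, ∀ P : Ideal A, P.IsPrime →
      (𝔞 ≤ P ↔ ∃ g : G, g ∈ (P.comap (algebraMap B A)).inertia G ∧ g ∉ P.inertia G) := by
  classical
  choose e he1 he2 using exists_eps_inertia (G := G) (B := B) (A := A) hGeq
  refine ⟨∏ g : G, (JB B A g ⊔ Ideal.span {e g}), fun P hP => ?_⟩
  rw [Ideal.IsPrime.prod_le hP]
  constructor
  · rintro ⟨g, -, hg⟩
    have hJ : JB B A g ≤ P := le_trans le_sup_left hg
    have heP : e g ∈ P := hg (Ideal.mem_sup_right (Ideal.subset_span rfl))
    refine ⟨g, (JB_le_iff g P).mp hJ, fun hgP => ?_⟩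
    have h1 := he2 g P hJ hgP
    have h2 : (1 : A) ∈ P := by
      have := P.sub_mem heP h1
      rwa [sub_sub_cancel] at this
    exact hP.ne_top ((Ideal.eq_top_iff_one P).mpr h2)
  · rintro ⟨g, hgB, hgA⟩
    have hJ : JB B A g ≤ P := (JB_le_iff g P).mpr hgB
    refine ⟨g, Finset.mem_univ g, sup_le hJ ?_⟩
    rw [Ideal.span_le, Set.singleton_subset_iff]
    by_contra heP
    apply hgA
    rw [AddSubgroup.mem_inertia]
    intro a
    have h1 : (a - g • a) * e g ∈ P := hJ (he1 g a)
    have h2 : a - g • a ∈ P := (hP.mem_or_mem h1).resolve_right heP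
    have h3 := P.neg_mem h2
    rwa [neg_sub] at h3

end bad


section stab

variable {G : Type u} [Group G] {B A : Type u} [CommRing B] [CommRing A] [Algebra B A]
  [MulSemiringAction G B] [MulSemiringAction G A]

/-- the inertia condition is stable under the action of `G` on primes. -/
theorem good_comap
    (hGeq : ∀ (g : G) (b : B), algebraMap B A (g • b) = g • algebraMap B A b)
    (P : Ideal A) (k : G)
    (hP : ∀ g : G, g ∈ (P.comap (algebraMap B A)).inertia G → g ∈ P.inertia G) :
    ∀ g : G, g ∈ ((P.comap (MulSemiringAction.toRingHom G A k)).comap (algebraMap B A)).inertia G →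
      g ∈ (P.comap (MulSemiringAction.toRingHom G A k)).inertia G := by
  intro g hg
  rw [AddSubgroup.mem_inertia] at hg ⊢
  have h1 : k * g * k⁻¹ ∈ (P.comap (algebraMap B A)).inertia G := by
    rw [AddSubgroup.mem_inertia]
    intro b
    have h2 := hg (k⁻¹ • b)
    have h3 : k • algebraMap B A (g • k⁻¹ • b - k⁻¹ • b) ∈ P := h2
    rw [← hGeq, smul_sub, smul_inv_smul, ← mul_smul, ← mul_smul] at h3
    exact h3
  have h4 := hP _ h1
  rw [AddSubgroup.mem_inertia] at h4
  intro a
  have h5 := h4 (k • a)
  rw [mul_smul, mul_smul, inv_smul_smul, ← smul_sub] at h5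
  exact h5

/-- orbit avoidance: an invariant element of `𝔞` outside `P`. -/
theorem exists_invariant_mem_notMem [Fintype G] (𝔞 P : Ideal A) [P.IsPrime]
    (h : ∀ k : G, ¬ 𝔞 ≤ P.comap (MulSemiringAction.toRingHom G A k)) :
    ∃ c : A, (∀ g : G, g • c = c) ∧ c ∈ 𝔞 ∧ c ∉ P := by
  classical
  have h1 : ¬ ((𝔞 : Set A) ⊆ ⋃ k ∈ ((Finset.univ : Finset G) : Set G),
      (P.comap (MulSemiringAction.toRingHom G A k) : Set A)) := by
    intro hsub
    obtain ⟨k, -, hk⟩ := (Ideal.subset_union_prime (R := A) (s := Finset.univ)
      (f := fun k : G => P.comap (MulSemiringAction.toRingHom G A k)) (1 : G) (1 : G)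
      (fun k _ _ _ => Ideal.comap_isPrime _ _)).mp hsub
    exact h k hk
  rw [Set.not_subset] at h1
  obtain ⟨a, ha𝔞, haP⟩ := h1
  have haP' : ∀ k : G, k • a ∉ P := by
    intro k hk
    apply haP
    simp only [Finset.coe_univ, Set.mem_univ, Set.iUnion_true, Set.mem_iUnion]
    exact ⟨k, hk⟩
  refine ⟨∏ k : G, k • a, Finset.smul_prod_perm a, ?_, ?_⟩
  · have h2 : a ∣ ∏ k : G, k • a := by
      have h3 := Finset.dvd_prod_of_mem (fun k : G => k • a) (Finset.mem_univ (1 : G))
      rwa [one_smul] at h3
    obtain ⟨d, hd⟩ := h2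
    rw [hd]
    exact 𝔞.mul_mem_right d ha𝔞
  · rw [Ideal.IsPrime.prod_mem_iff]
    rintro ⟨k, -, hk⟩
    exact haP' k hk

end stab


section thmL

variable (G : Type u) [Group G] [Fintype G] (C B A : Type u) [CommRing C] [CommRing B] [CommRing A]
  [Algebra C B] [Algebra C A] [Algebra B A] [IsScalarTower C B A]
  [MulSemiringAction G B] [MulSemiringAction G A] [SMulCommClass G C B] [SMulCommClass G C A]

set_option maxHeartbeats 1600000 in
set_option synthInstance.maxHeartbeats 400000 in
/-- the localized version of `etale_of_invariants_of_inertia`. -/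
theorem etale_away_of_invariant [Algebra.Etale B A]
    (C' : Type u) [CommRing C'] [Algebra C C'] [Algebra C' A] [IsScalarTower C C' A]
    (hC : ∀ b : B, (∀ g : G, g • b = b) → b ∈ Set.range (algebraMap C B))
    (hinj : Function.Injective (algebraMap C B))
    (hC' : ∀ a : A, (∀ g : G, g • a = a) ↔ a ∈ Set.range (algebraMap C' A))
    (hinj' : Function.Injective (algebraMap C' A))
    (hGeq : ∀ (g : G) (b : B), algebraMap B A (g • b) = g • algebraMap B A b)
    (c' : C')
    (hgood : ∀ Q : Ideal A, Q.IsPrime → algebraMap C' A c' ∉ Q → ∀ g : G,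
      g ∈ (Q.comap (algebraMap B A)).inertia G → g ∈ Q.inertia G) :
    Algebra.Etale C (Localization.Away c') := by
  classical
  obtain ⟨h, hh_def⟩ : ∃ h : A, h = algebraMap C' A c' := ⟨_, rfl⟩
  rw [← hh_def] at hgood
  have hpow : ∀ n : ℕ, h ^ n = algebraMap C' A (c' ^ n) := by
    intro n
    rw [map_pow, hh_def]
  have hh : ∀ g : G, g • h = h := (hC' h).mpr ⟨c', hh_def.symm⟩
  letI actA' : MulSemiringAction G (Localization.Away h) := locAct h hh
  have hact : ∀ (g : G) (a : A), g • (algebraMap A (Localization.Away h) a) =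
      algebraMap A (Localization.Away h) (g • a) := fun g a => locMap_algebraMap h hh g a
  haveI : Algebra.Etale A (Localization.Away h) := Algebra.Etale.of_isLocalizationAway h
  haveI : Algebra.Etale B (Localization.Away h) := Algebra.Etale.comp B A (Localization.Away h)
  haveI : SMulCommClass G C (Localization.Away h) := ⟨fun g c z => by
    rw [Algebra.smul_def, Algebra.smul_def, smul_mul']
    congr 1
    rw [IsScalarTower.algebraMap_apply C A (Localization.Away h), hact, smul_algebraMap]⟩
  have hunit : IsUnit (((algebraMap A (Localization.Away h)).comp (algebraMap C' A)) c') := by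
    show IsUnit (algebraMap A (Localization.Away h) (algebraMap C' A c'))
    rw [← hh_def]
    exact IsLocalization.Away.algebraMap_isUnit h
  letI algC₂ : Algebra (Localization.Away c') (Localization.Away h) :=
    (IsLocalization.Away.lift c' hunit).toAlgebra
  have halg : ∀ x : C', algebraMap (Localization.Away c') (Localization.Away h)
      (algebraMap C' (Localization.Away c') x) =
      algebraMap A (Localization.Away h) (algebraMap C' A x) := fun x =>
    IsLocalization.Away.lift_eq c' hunit x
  haveI : IsScalarTower C (Localization.Away c') (Localization.Away h) :=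
    IsScalarTower.of_algebraMap_eq (fun c => by
      rw [IsScalarTower.algebraMap_apply C C' (Localization.Away c'), halg,
        ← IsScalarTower.algebraMap_apply C C' A, ← IsScalarTower.algebraMap_apply C A])
  apply etale_of_invariants_of_inertia G C B (Localization.Away h) (Localization.Away c')
  · exact hC
  · exact hinj
  · -- invariants
    intro z
    constructor
    · intro hz
      obtain ⟨c, n, hc, hzc⟩ := exists_invariant_of_loc h hh z hz
      obtain ⟨x, hx⟩ := (hC' c).mp hc
      refine ⟨IsLocalization.mk' (Localization.Away c') x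
        (⟨c' ^ n, n, rfl⟩ : Submonoid.powers c'), ?_⟩
      have hu : IsUnit (algebraMap A (Localization.Away h) (h ^ n)) := by
        rw [map_pow]
        exact (IsLocalization.Away.algebraMap_isUnit h).pow n
      apply hu.mul_left_injective
      show _ * _ = z * _
      rw [hzc, ← hx, ← halg, hpow, ← halg, ← map_mul, IsLocalization.mk'_spec]
    · rintro ⟨w, rfl⟩ g
      obtain ⟨n, x, hnx⟩ := IsLocalization.Away.surj c' w
      have hu : IsUnit (algebraMap A (Localization.Away h) (h ^ n)) := by
        rw [map_pow]
        exact (IsLocalization.Away.algebraMap_isUnit h).pow n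
      apply hu.mul_left_injective
      show _ * _ = _ * _
      have h1 : algebraMap (Localization.Away c') (Localization.Away h) w *
          algebraMap A (Localization.Away h) (h ^ n) =
          algebraMap A (Localization.Away h) (algebraMap C' A x) := by
        rw [hpow, ← halg, ← map_mul, map_pow, hnx, halg]
      have h2 : g • (algebraMap A (Localization.Away h) (h ^ n)) =
          algebraMap A (Localization.Away h) (h ^ n) := by
        rw [hact, smul_pow', hh]
      rw [h1]
      nth_rewrite 1 [← h2]
      rw [← smul_mul', h1, hact, (hC' _).mpr ⟨x, rfl⟩]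
  · -- injectivity
    intro w₁ w₂ h12
    obtain ⟨n₁, x₁, hx₁⟩ := IsLocalization.Away.surj c' w₁
    obtain ⟨n₂, x₂, hx₂⟩ := IsLocalization.Away.surj c' w₂
    have hu : IsUnit (algebraMap C' (Localization.Away c') (c' ^ (n₁ + n₂))) := by
      rw [map_pow]
      exact (IsLocalization.Away.algebraMap_isUnit c').pow _
    apply hu.mul_left_injective
    show w₁ * _ = w₂ * _
    have e1 : w₁ * algebraMap C' (Localization.Away c') (c' ^ (n₁ + n₂)) =
        algebraMap C' (Localization.Away c') (x₁ * c' ^ n₂) := by
      rw [pow_add, map_mul, map_mul, ← mul_assoc,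
        map_pow (algebraMap C' (Localization.Away c')) c' n₁, hx₁]
    have e2 : w₂ * algebraMap C' (Localization.Away c') (c' ^ (n₁ + n₂)) =
        algebraMap C' (Localization.Away c') (x₂ * c' ^ n₁) := by
      rw [pow_add, map_mul, map_mul, mul_comm (algebraMap C' (Localization.Away c') (c' ^ n₁)),
        ← mul_assoc, map_pow (algebraMap C' (Localization.Away c')) c' n₂, hx₂]
    rw [e1, e2]
    have h3 : algebraMap A (Localization.Away h) (algebraMap C' A (x₁ * c' ^ n₂)) =
        algebraMap A (Localization.Away h) (algebraMap C' A (x₂ * c' ^ n₁)) := by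
      rw [← halg, ← halg, ← e1, ← e2, map_mul, map_mul, h12]
    obtain ⟨m, hm⟩ := IsLocalization.Away.exists_of_eq h h3
    have h4 : c' ^ m * (x₁ * c' ^ n₂) = c' ^ m * (x₂ * c' ^ n₁) := by
      apply hinj'
      rw [map_mul, map_mul (algebraMap C' A) (c' ^ m), ← hpow]
      exact hm
    have hu2 : IsUnit (algebraMap C' (Localization.Away c') (c' ^ m)) := by
      rw [map_pow]
      exact (IsLocalization.Away.algebraMap_isUnit c').pow _
    apply hu2.mul_right_injective
    show _ * _ = _ * _
    rw [← map_mul, ← map_mul, h4]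
  · -- equivariance
    intro g b
    rw [IsScalarTower.algebraMap_apply B A (Localization.Away h),
      IsScalarTower.algebraMap_apply B A (Localization.Away h), hGeq, hact]
  · -- inertia
    intro Q hQ g hg
    have hQ' : (Q.comap (algebraMap A (Localization.Away h))).IsPrime := Ideal.comap_isPrime _ _
    have hhQ : h ∉ Q.comap (algebraMap A (Localization.Away h)) := by
      intro hmem
      exact hQ.ne_top (Ideal.eq_top_of_isUnit_mem _ hmem (IsLocalization.Away.algebraMap_isUnit h))
    have h1 : g ∈ ((Q.comap (algebraMap A (Localization.Away h))).comap (algebraMap B A)).inertia G := by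
      rw [AddSubgroup.mem_inertia] at hg ⊢
      intro b
      have := hg b
      show algebraMap A (Localization.Away h) (algebraMap B A (g • b - b)) ∈ Q
      rw [← IsScalarTower.algebraMap_apply B A (Localization.Away h)]
      exact this
    have h2 := hgood _ hQ' hhQ g h1
    rw [AddSubgroup.mem_inertia] at h2 ⊢
    intro z
    obtain ⟨n, a, hna⟩ := IsLocalization.Away.surj h z
    have h3 : (g • z - z) * algebraMap A (Localization.Away h) h ^ n ∈ Q := by
      have h4 : g • (algebraMap A (Localization.Away h) h ^ n) =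
          algebraMap A (Localization.Away h) h ^ n := by
        rw [smul_pow', hact, hh]
      rw [sub_mul]
      nth_rewrite 1 [← h4]
      rw [← smul_mul', hna, hact, ← map_sub]
      exact h2 a
    rcases hQ.mem_or_mem h3 with h5 | h5
    · exact h5
    · exfalso
      exact hQ.ne_top (Ideal.eq_top_of_isUnit_mem _ h5
        ((IsLocalization.Away.algebraMap_isUnit h).pow n))


/-- **local Keel–Mori for finite groups**: if `B → A` is `G`-equivariant étale and the inertia
groups agree at the prime `P`, then `A^G` is étale over `B^G` in a neighbourhood of `P ∩ A^G`. -/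
theorem exists_etale_away_of_inertia [Algebra.Etale B A]
    (C' : Type u) [CommRing C'] [Algebra C C'] [Algebra C' A] [IsScalarTower C C' A]
    (hC : ∀ b : B, (∀ g : G, g • b = b) → b ∈ Set.range (algebraMap C B))
    (hinj : Function.Injective (algebraMap C B))
    (hC' : ∀ a : A, (∀ g : G, g • a = a) ↔ a ∈ Set.range (algebraMap C' A))
    (hinj' : Function.Injective (algebraMap C' A))
    (hGeq : ∀ (g : G) (b : B), algebraMap B A (g • b) = g • algebraMap B A b)
    (P : Ideal A) [P.IsPrime]
    (hP : ∀ g : G, g ∈ (P.comap (algebraMap B A)).inertia G → g ∈ P.inertia G) :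
    ∃ c' : C', algebraMap C' A c' ∉ P ∧ Algebra.Etale C (Localization.Away c') := by
  obtain ⟨𝔞, h𝔞⟩ := exists_bad_ideal (G := G) (B := B) (A := A) hGeq
  have h1 : ∀ k : G, ¬ 𝔞 ≤ P.comap (MulSemiringAction.toRingHom G A k) := by
    intro k hle
    obtain ⟨g, hg1, hg2⟩ := (h𝔞 _ (Ideal.comap_isPrime _ _)).mp hle
    exact hg2 (good_comap hGeq P k hP g hg1)
  obtain ⟨c, hc, hc𝔞, hcP⟩ := exists_invariant_mem_notMem 𝔞 P h1
  obtain ⟨c', rfl⟩ := (hC' c).mp hc
  refine ⟨c', hcP, etale_away_of_invariant G C B A C' hC hinj hC' hinj' hGeq c' ?_⟩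
  intro Q hQ hcQ g hg
  by_contra hcon
  have h2 : 𝔞 ≤ Q := (h𝔞 Q hQ).mpr ⟨g, hg, hcon⟩
  exact hcQ (h2 hc𝔞)

end thmL

end Groth.Agent.Lib.Helper20.FQ
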