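import Mathlib
import Groth.Agent.Lib.Helper20.FQ5

set_option autoImplicit false
set_option linter.style.haveILetI false
set_option linter.unusedSectionVars false
universe u

namespace Groth.Agent.Lib.Helper20.FQ

open Groth.Agent.Lib.Helper20.KM

section ind

variable (G : Type u) [Group G] (R : Type u) [CommRing R] [MulSemiringAction G R] (H : Subgroup G)

/-- the ring induced from `H` to `G`: functions `f : G → R` with `f (γ i) = i⁻¹ • f γ` for
`i ∈ H`. -/
def indSubring : Subring (G → R) where
  carrier := {f | ∀ (γ i : G), i ∈ H → f (γ * i) = i⁻¹ • f γ}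
  mul_mem' := by
    intro f f' hf hf' γ i hi
    show f (γ * i) * f' (γ * i) = i⁻¹ • (f γ * f' γ)
    rw [hf γ i hi, hf' γ i hi, smul_mul']
  one_mem' := by
    intro γ i _
    show (1 : R) = i⁻¹ • (1 : R)
    rw [smul_one]
  add_mem' := by
    intro f f' hf hf' γ i hi
    show f (γ * i) + f' (γ * i) = i⁻¹ • (f γ + f' γ)
    rw [hf γ i hi, hf' γ i hi, smul_add]
  zero_mem' := by
    intro γ i _
    show (0 : R) = i⁻¹ • (0 : R)
    rw [smul_zero]
  neg_mem' := by
    intro f hf γ i hi
    show -f (γ * i) = i⁻¹ • (-f γ)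
    rw [hf γ i hi, smul_neg]

theorem indSubring_apply (f : indSubring G R H) (γ i : G) (hi : i ∈ H) :
    f.1 (γ * i) = i⁻¹ • f.1 γ := f.2 γ i hi

/-- left translation action on the induced ring. -/
instance indAct : MulSemiringAction G (indSubring G R H) where
  smul k f := ⟨fun γ => f.1 (k⁻¹ * γ), by
    intro γ i hi
    show f.1 (k⁻¹ * (γ * i)) = i⁻¹ • f.1 (k⁻¹ * γ)
    rw [← mul_assoc]
    exact f.2 _ i hi⟩
  one_smul f := Subtype.ext (funext fun γ => by
    show f.1 (1⁻¹ * γ) = f.1 γ
    rw [inv_one, one_mul])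
  mul_smul k k' f := Subtype.ext (funext fun γ => by
    show f.1 ((k * k')⁻¹ * γ) = f.1 (k'⁻¹ * (k⁻¹ * γ))
    rw [mul_inv_rev, mul_assoc])
  smul_zero _ := Subtype.ext rfl
  smul_add _ _ _ := Subtype.ext rfl
  smul_one _ := Subtype.ext rfl
  smul_mul _ _ _ := Subtype.ext rfl

theorem indAct_apply (k : G) (f : indSubring G R H) (γ : G) : (k • f).1 γ = f.1 (k⁻¹ * γ) := rfl

/-- the structure map `R → Ind R`. -/
def indMap : R →+* indSubring G R H where
  toFun b := ⟨fun γ => γ⁻¹ • b, by
    intro γ i _
    show (γ * i)⁻¹ • b = i⁻¹ • γ⁻¹ • b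
    rw [mul_inv_rev, mul_smul]⟩
  map_one' := Subtype.ext (funext fun γ => smul_one _)
  map_mul' b b' := Subtype.ext (funext fun γ => smul_mul' _ _ _)
  map_zero' := Subtype.ext (funext fun γ => smul_zero _)
  map_add' b b' := Subtype.ext (funext fun γ => smul_add _ _ _)

instance indAlgebra : Algebra R (indSubring G R H) := (indMap G R H).toAlgebra

theorem indAlgebra_apply (b : R) (γ : G) : (algebraMap R (indSubring G R H) b).1 γ = γ⁻¹ • b := rfl

theorem ind_equivariant (g : G) (b : R) :
    algebraMap R (indSubring G R H) (g • b) = g • algebraMap R (indSubring G R H) b := by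
  apply Subtype.ext
  funext γ
  show γ⁻¹ • g • b = (g⁻¹ * γ)⁻¹ • b
  rw [mul_inv_rev, inv_inv, mul_smul]


/-- evaluation at coset representatives. -/
noncomputable def indEv : indSubring G R H →+* (G ⧸ H → R) :=
  RingHom.pi (fun c : G ⧸ H => (Pi.evalRingHom (fun _ : G => R) c.out).comp (indSubring G R H).subtype)

theorem indEv_apply (f : indSubring G R H) (c : G ⧸ H) : indEv G R H f c = f.1 c.out := rfl

theorem out_inv_mul_mem (γ : G) : ((γ : G ⧸ H).out)⁻¹ * γ ∈ H := by
  rw [← QuotientGroup.eq, QuotientGroup.out_eq']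

theorem indEv_bijective : Function.Bijective (indEv G R H) := by
  constructor
  · intro f f' hff'
    apply Subtype.ext
    funext γ
    have h1 : γ = (γ : G ⧸ H).out * (((γ : G ⧸ H).out)⁻¹ * γ) := by
      rw [mul_inv_cancel_left]
    have h2 := congrFun hff' (γ : G ⧸ H)
    rw [indEv_apply, indEv_apply] at h2
    rw [h1, f.2 _ _ (out_inv_mul_mem G H γ), f'.2 _ _ (out_inv_mul_mem G H γ), h2]
  · intro φ
    refine ⟨⟨fun γ => (γ⁻¹ * (γ : G ⧸ H).out) • φ (γ : G ⧸ H), ?_⟩, ?_⟩
    · intro γ i hi
      show ((γ * i)⁻¹ * ((γ * i : G) : G ⧸ H).out) • φ ((γ * i : G) : G ⧸ H) =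
        i⁻¹ • (γ⁻¹ * (γ : G ⧸ H).out) • φ (γ : G ⧸ H)
      have h1 : ((γ * i : G) : G ⧸ H) = (γ : G ⧸ H) := QuotientGroup.mk_mul_of_mem γ hi
      rw [h1, mul_inv_rev, mul_assoc, mul_smul]
    · funext c
      show ((c.out)⁻¹ * ((c.out : G) : G ⧸ H).out) • φ ((c.out : G) : G ⧸ H) = φ c
      rw [QuotientGroup.out_eq', inv_mul_cancel, one_smul]

theorem indMap_etale [Finite (G ⧸ H)] : (algebraMap R (indSubring G R H)).Etale := by
  let Θ : (G ⧸ H → R) ≃+* (G ⧸ H → R) :=
    RingEquiv.piCongrRight (fun c : G ⧸ H => MulSemiringAction.toRingEquiv G R (c.out)⁻¹)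
  let e : indSubring G R H ≃+* (G ⧸ H → R) := RingEquiv.ofBijective _ (indEv_bijective G R H)
  have h1 : algebraMap R (indSubring G R H) =
      e.symm.toRingHom.comp (Θ.toRingHom.comp (algebraMap R (G ⧸ H → R))) := by
    apply RingHom.ext
    intro b
    show _ = e.symm _
    rw [RingEquiv.eq_symm_apply]
    rfl
  rw [h1]
  refine RingHom.Etale.stableUnderComposition _ _
    (RingHom.Etale.stableUnderComposition _ _ ?_ (RingHom.Etale.of_bijective Θ.bijective))
    (RingHom.Etale.of_bijective e.symm.bijective)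
  exact RingHom.etale_algebraMap.mpr inferInstance

end ind


section main

set_option maxHeartbeats 1600000 in
set_option synthInstance.maxHeartbeats 400000 in
/-- for a subgroup `H` containing the inertia group of `q`, the ring `R^H` is étale over `R^G`
in a neighbourhood of `q ∩ R^H`. Here `C'` is any model of `R^H`. -/
theorem exists_etale_away_fixed (G R : Type u) [Group G] [Fintype G] [CommRing R]
    [MulSemiringAction G R] (q : Ideal R) [q.IsPrime] (H : Subgroup G) (hIH : q.inertia G ≤ H)
    (C' : Type u) [CommRing C'] [Algebra (FixedPoints.subring R G) C'] (ι : C' →+* R)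
    (hι : Function.Injective ι)
    (hrange : ∀ r : R, r ∈ Set.range ι ↔ ∀ i : G, i ∈ H → i • r = r)
    (hcompat : ∀ c : FixedPoints.subring R G, ι (algebraMap (FixedPoints.subring R G) C' c) = c) :
    ∃ g : C', ι g ∉ q ∧ Algebra.Etale (FixedPoints.subring R G) (Localization.Away g) := by
  classical
  let constHom : C' →+* indSubring G R H :=
    { toFun := fun c' => ⟨fun _ => ι c', by
        intro γ i hi
        show ι c' = i⁻¹ • ι c'
        rw [((hrange _).mp ⟨c', rfl⟩) i⁻¹ (H.inv_mem hi)]⟩
      map_one' := Subtype.ext (funext fun _ => map_one ι)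
      map_mul' := fun a b => Subtype.ext (funext fun _ => map_mul ι a b)
      map_zero' := Subtype.ext (funext fun _ => map_zero ι)
      map_add' := fun a b => Subtype.ext (funext fun _ => map_add ι a b) }
  letI algC'A : Algebra C' (indSubring G R H) := constHom.toAlgebra
  have hconst : ∀ (c' : C') (γ : G), (algebraMap C' (indSubring G R H) c').1 γ = ι c' :=
    fun _ _ => rfl
  haveI : IsScalarTower (FixedPoints.subring R G) R (indSubring G R H) :=
    IsScalarTower.of_algebraMap_eq (fun c => rfl)
  haveI : IsScalarTower (FixedPoints.subring R G) C' (indSubring G R H) :=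
    IsScalarTower.of_algebraMap_eq (fun c => by
      apply Subtype.ext
      funext γ
      rw [hconst, hcompat]
      show γ⁻¹ • (c : R) = c
      exact c.2 γ⁻¹)
  haveI : SMulCommClass G (FixedPoints.subring R G) (indSubring G R H) := ⟨fun g c f => by
    rw [Algebra.smul_def, Algebra.smul_def, smul_mul']
    congr 1
    apply Subtype.ext
    funext γ
    show (g⁻¹ * γ)⁻¹ • (c : R) = γ⁻¹ • (c : R)
    rw [c.2, c.2]⟩
  haveI : Finite (G ⧸ H) := inferInstance
  haveI : Algebra.Etale R (indSubring G R H) := RingHom.etale_algebraMap.mp (indMap_etale G R H)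
  let ev₁ : indSubring G R H →+* R :=
    (Pi.evalRingHom (fun _ : G => R) 1).comp (indSubring G R H).subtype
  have hev₁ : ∀ f : indSubring G R H, ev₁ f = f.1 1 := fun _ => rfl
  haveI hxprime : (q.comap ev₁).IsPrime := Ideal.comap_isPrime _ _
  obtain ⟨c', hc', het⟩ := exists_etale_away_of_inertia G (FixedPoints.subring R G) R
    (indSubring G R H) C'
    (fun b hb => ⟨⟨b, hb⟩, rfl⟩) Subtype.val_injective
    (fun f => by
      constructor
      · intro hf
        have hfc : ∀ γ : G, f.1 γ = f.1 1 := by
          intro γ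
          have h1 := congrArg (fun f' : indSubring G R H => f'.1 γ) (hf γ)
          simp only [indAct_apply, inv_mul_cancel] at h1
          exact h1.symm
        have hinv : ∀ i : G, i ∈ H → i • f.1 1 = f.1 1 := by
          intro i hi
          have h1 := f.2 1 i⁻¹ (H.inv_mem hi)
          rw [inv_inv, hfc] at h1
          exact h1.symm
        obtain ⟨c', hc'⟩ := (hrange _).mpr hinv
        refine ⟨c', ?_⟩
        apply Subtype.ext
        funext γ
        rw [hconst, hc']
        exact (hfc γ).symm
      · rintro ⟨c', rfl⟩ g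
        apply Subtype.ext
        funext γ
        rfl)
    (fun c₁ c₂ h12 => hι (by
      have h1 := congrArg (fun f' : indSubring G R H => f'.1 1) h12
      exact h1))
    (ind_equivariant G R H) (q.comap ev₁)
    (fun g hg => by
      rw [AddSubgroup.mem_inertia] at hg ⊢
      have hgq : g ∈ q.inertia G := by
        rw [AddSubgroup.mem_inertia]
        intro b
        have h1 : ev₁ (algebraMap R (indSubring G R H) (g • b - b)) ∈ q := hg b
        rw [hev₁, indAlgebra_apply, inv_one, one_smul] at h1
        exact h1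
      have hgH : g ∈ H := hIH hgq
      intro f
      show ev₁ (g • f - f) ∈ q
      rw [map_sub, hev₁, hev₁, indAct_apply]
      have h1 := f.2 1 g⁻¹ (H.inv_mem hgH)
      rw [inv_inv, one_mul] at h1
      rw [mul_one, h1]
      rw [AddSubgroup.mem_inertia] at hgq
      exact hgq _)
  exact ⟨c', hc', het⟩

end main

end Groth.Agent.Lib.Helper20.FQ
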