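import Mathlib
import Groth.Agent.Lib.Helper20.FQ6

set_option autoImplicit false
set_option linter.style.haveILetI false
set_option linter.unusedSectionVars false
universe u

namespace Groth.Agent.Lib.Helper20.FQ

open Groth.Agent.Lib.Helper20.KM

section locInv

variable {G : Type u} [Group G] {C' A : Type u} [CommRing C'] [CommRing A] [Algebra C' A]
  [MulSemiringAction G A] (c' : C') (h : A) (hh_def : h = algebraMap C' A c')

include hh_def in
theorem loc_unit :
    IsUnit (((algebraMap A (Localization.Away h)).comp (algebraMap C' A)) c') := by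
  show IsUnit (algebraMap A (Localization.Away h) (algebraMap C' A c'))
  rw [← hh_def]
  exact IsLocalization.Away.algebraMap_isUnit h

/-- the algebra structure of `A_h` over `C'_{c'}`. -/
@[reducible] noncomputable def locAlg : Algebra (Localization.Away c') (Localization.Away h) :=
  (IsLocalization.Away.lift c' (loc_unit c' h hh_def)).toAlgebra

theorem locAlg_algebraMap (x : C') :
    letI := locAlg c' h hh_def
    algebraMap (Localization.Away c') (Localization.Away h)
      (algebraMap C' (Localization.Away c') x) =
      algebraMap A (Localization.Away h) (algebraMap C' A x) :=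
  IsLocalization.Away.lift_eq c' (loc_unit c' h hh_def) x

include hh_def in
theorem loc_pow (n : ℕ) : h ^ n = algebraMap C' A (c' ^ n) := by
  rw [map_pow, hh_def]

theorem loc_isScalarTower :
    letI := locAlg c' h hh_def
    IsScalarTower C' (Localization.Away c') (Localization.Away h) := by
  letI := locAlg c' h hh_def
  exact IsScalarTower.of_algebraMap_eq (fun x => by
    rw [locAlg_algebraMap c' h hh_def, ← IsScalarTower.algebraMap_apply C' A])

variable (hh : ∀ g : G, g • h = h)
  (hC' : ∀ a : A, (∀ g : G, g • a = a) ↔ a ∈ Set.range (algebraMap C' A))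
  (hinj' : Function.Injective (algebraMap C' A))

include hC' in
theorem loc_invariants [Fintype G] (z : Localization.Away h) :
    letI := locAlg c' h hh_def
    letI := locAct h hh
    (∀ g : G, g • z = z) ↔ z ∈ Set.range (algebraMap (Localization.Away c') (Localization.Away h)) := by
  letI := locAlg c' h hh_def
  letI := locAct h hh
  have hact : ∀ (g : G) (a : A), g • (algebraMap A (Localization.Away h) a) =
      algebraMap A (Localization.Away h) (g • a) := fun g a => locMap_algebraMap h hh g a
  have halg := locAlg_algebraMap c' h hh_def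
  have hpow := loc_pow c' h hh_def
  constructor
  · intro hz
    obtain ⟨c, n, hc, hzc⟩ := exists_invariant_of_loc h hh z hz
    obtain ⟨x, hx⟩ := (hC' c).mp hc
    refine ⟨IsLocalization.mk' (Localization.Away c') x
      (⟨c' ^ n, n, rfl⟩ : Submonoid.powers c'), ?_⟩
    have hu : IsUnit (algebraMap A (Localization.Away h) (h ^ n)) := by
      rw [map_pow]
      exact (IsLocalization.Away.algebraMap_isUnit h).pow n
    apply hu.mul_left_injective
    show _ * _ = z * _
    rw [hzc, ← hx, ← halg, hpow, ← halg, ← map_mul, IsLocalization.mk'_spec]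
  · rintro ⟨w, rfl⟩ g
    obtain ⟨n, x, hnx⟩ := IsLocalization.Away.surj c' w
    have hu : IsUnit (algebraMap A (Localization.Away h) (h ^ n)) := by
      rw [map_pow]
      exact (IsLocalization.Away.algebraMap_isUnit h).pow n
    apply hu.mul_left_injective
    show _ * _ = _ * _
    have h1 : algebraMap (Localization.Away c') (Localization.Away h) w *
        algebraMap A (Localization.Away h) (h ^ n) =
        algebraMap A (Localization.Away h) (algebraMap C' A x) := by
      rw [hpow, ← halg, ← map_mul, map_pow, hnx, halg]
    have h2 : g • (algebraMap A (Localization.Away h) (h ^ n)) =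
        algebraMap A (Localization.Away h) (h ^ n) := by
      rw [hact, smul_pow', hh]
    rw [h1]
    nth_rewrite 1 [← h2]
    rw [← smul_mul', h1, hact, (hC' _).mpr ⟨x, rfl⟩]

include hinj' in
theorem loc_injective :
    letI := locAlg c' h hh_def
    Function.Injective (algebraMap (Localization.Away c') (Localization.Away h)) := by
  letI := locAlg c' h hh_def
  have halg := locAlg_algebraMap c' h hh_def
  have hpow := loc_pow c' h hh_def
  intro w₁ w₂ h12
  obtain ⟨n₁, x₁, hx₁⟩ := IsLocalization.Away.surj c' w₁
  obtain ⟨n₂, x₂, hx₂⟩ := IsLocalization.Away.surj c' w₂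
  have hu : IsUnit (algebraMap C' (Localization.Away c') (c' ^ (n₁ + n₂))) := by
    rw [map_pow]
    exact (IsLocalization.Away.algebraMap_isUnit c').pow _
  apply hu.mul_left_injective
  show w₁ * _ = w₂ * _
  have e1 : w₁ * algebraMap C' (Localization.Away c') (c' ^ (n₁ + n₂)) =
      algebraMap C' (Localization.Away c') (x₁ * c' ^ n₂) := by
    rw [pow_add, map_mul, map_mul, ← mul_assoc,
      map_pow (algebraMap C' (Localization.Away c')) c' n₁, hx₁]
  have e2 : w₂ * algebraMap C' (Localization.Away c') (c' ^ (n₁ + n₂)) =
      algebraMap C' (Localization.Away c') (x₂ * c' ^ n₁) := by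
    rw [pow_add, map_mul, map_mul, mul_comm (algebraMap C' (Localization.Away c') (c' ^ n₁)),
      ← mul_assoc, map_pow (algebraMap C' (Localization.Away c')) c' n₂, hx₂]
  rw [e1, e2]
  have h3 : algebraMap A (Localization.Away h) (algebraMap C' A (x₁ * c' ^ n₂)) =
      algebraMap A (Localization.Away h) (algebraMap C' A (x₂ * c' ^ n₁)) := by
    rw [← halg, ← halg, ← e1, ← e2, map_mul, map_mul, h12]
  obtain ⟨m, hm⟩ := IsLocalization.Away.exists_of_eq h h3
  have h4 : c' ^ m * (x₁ * c' ^ n₂) = c' ^ m * (x₂ * c' ^ n₁) := by
    apply hinj'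
    rw [map_mul, map_mul (algebraMap C' A) (c' ^ m), ← hpow]
    exact hm
  have hu2 : IsUnit (algebraMap C' (Localization.Away c') (c' ^ m)) := by
    rw [map_pow]
    exact (IsLocalization.Away.algebraMap_isUnit c').pow _
  apply hu2.mul_right_injective
  show _ * _ = _ * _
  rw [← map_mul, ← map_mul, h4]

/-- inertia of a prime of `A_h` contains the inertia of its contraction. -/
theorem loc_inertia (Q : Ideal (Localization.Away h)) [hQ : Q.IsPrime] (g : G)
    (hg : g ∈ (Q.comap (algebraMap A (Localization.Away h))).inertia G) :
    letI := locAct h hh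
    g ∈ Q.inertia G := by
  letI := locAct h hh
  have hact : ∀ (g : G) (a : A), g • (algebraMap A (Localization.Away h) a) =
      algebraMap A (Localization.Away h) (g • a) := fun g a => locMap_algebraMap h hh g a
  rw [AddSubgroup.mem_inertia] at hg ⊢
  intro z
  obtain ⟨n, a, hna⟩ := IsLocalization.Away.surj h z
  have h3 : (g • z - z) * algebraMap A (Localization.Away h) h ^ n ∈ Q := by
    have h4 : g • (algebraMap A (Localization.Away h) h ^ n) =
        algebraMap A (Localization.Away h) h ^ n := by
      rw [smul_pow', hact, hh]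
    rw [sub_mul]
    nth_rewrite 1 [← h4]
    rw [← smul_mul', hna, hact, ← map_sub]
    exact hg a
  rcases hQ.mem_or_mem h3 with h5 | h5
  · exact h5
  · exfalso
    exact hQ.ne_top (Ideal.eq_top_of_isUnit_mem _ h5
      ((IsLocalization.Away.algebraMap_isUnit h).pow n))

end locInv


section etLocus

variable {G : Type u} [Group G] {B A : Type u} [CommRing B] [CommRing A] [Algebra B A]
  [MulSemiringAction G B] [MulSemiringAction G A]

/-- étaleness of principal localizations is transported by the group action. -/
theorem etale_away_smul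
    (hGeq : ∀ (g : G) (b : B), algebraMap B A (g • b) = g • algebraMap B A b)
    (g : G) (f : A) (hf : Algebra.Etale B (Localization.Away f)) :
    Algebra.Etale B (Localization.Away (g • f)) := by
  have H : (Submonoid.powers f).map (MulSemiringAction.toRingEquiv G A g).toMonoidHom =
      Submonoid.powers (g • f) := by
    rw [Submonoid.map_powers]
    rfl
  let φ : Localization.Away f ≃+* Localization.Away (g • f) :=
    IsLocalization.ringEquivOfRingEquiv (Localization.Away f) (Localization.Away (g • f))
      (MulSemiringAction.toRingEquiv G A g) H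
  have hφ : ∀ a : A, φ (algebraMap A (Localization.Away f) a) =
      algebraMap A (Localization.Away (g • f)) (g • a) := fun a =>
    IsLocalization.ringEquivOfRingEquiv_eq H a
  have h1 : algebraMap B (Localization.Away (g • f)) =
      φ.toRingHom.comp ((algebraMap B (Localization.Away f)).comp
        (MulSemiringAction.toRingHom G B g⁻¹)) := by
    apply RingHom.ext
    intro b
    show _ = φ (algebraMap B (Localization.Away f) (g⁻¹ • b))
    rw [IsScalarTower.algebraMap_apply B A (Localization.Away f), hφ, ← hGeq, smul_inv_smul,
      ← IsScalarTower.algebraMap_apply]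
  rw [← RingHom.etale_algebraMap, h1]
  refine RingHom.Etale.stableUnderComposition _ _
    (RingHom.Etale.stableUnderComposition _ _ ?_ (RingHom.etale_algebraMap.mpr hf))
    (RingHom.Etale.of_bijective φ.bijective)
  exact RingHom.Etale.of_bijective (MulSemiringAction.toRingEquiv G B g⁻¹).bijective

/-- the étale locus is stable under the group action. -/
theorem etaleLocus_comap [Algebra.FinitePresentation B A]
    (hGeq : ∀ (g : G) (b : B), algebraMap B A (g • b) = g • algebraMap B A b)
    (k : G) (P : Ideal A) [P.IsPrime] (hP : Algebra.IsEtaleAt B P) :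
    haveI : (P.comap (MulSemiringAction.toRingHom G A k)).IsPrime := Ideal.comap_isPrime _ _
    Algebra.IsEtaleAt B (P.comap (MulSemiringAction.toRingHom G A k)) := by
  haveI : (P.comap (MulSemiringAction.toRingHom G A k)).IsPrime := Ideal.comap_isPrime _ _
  obtain ⟨f, hfP, hf⟩ := Algebra.exists_etale_of_isEtaleAt (R := B) P
  have h1 := etale_away_smul hGeq k⁻¹ f hf
  have h2 : (PrimeSpectrum.basicOpen (k⁻¹ • f) : Set (PrimeSpectrum A)) ⊆ Algebra.etaleLocus B A :=
    Algebra.basicOpen_subset_etaleLocus_iff_etale.mpr h1
  have h3 : (⟨P.comap (MulSemiringAction.toRingHom G A k), inferInstance⟩ : PrimeSpectrum A) ∈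
      (PrimeSpectrum.basicOpen (k⁻¹ • f) : Set (PrimeSpectrum A)) := by
    show k⁻¹ • f ∉ P.comap (MulSemiringAction.toRingHom G A k)
    intro hmem
    have h4 : k • k⁻¹ • f ∈ P := hmem
    rw [smul_inv_smul] at h4
    exact hfP h4
  exact h2 h3

end etLocus


section thmAt

variable (G : Type u) [Group G] [Fintype G] (C B A : Type u) [CommRing C] [CommRing B] [CommRing A]
  [Algebra C B] [Algebra C A] [Algebra B A] [IsScalarTower C B A]
  [MulSemiringAction G B] [MulSemiringAction G A] [SMulCommClass G C B] [SMulCommClass G C A]

theorem isEtaleAt_congr {C C' : Type u} [CommRing C] [CommRing C'] [Algebra C C']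
    (p p' : Ideal C') [p.IsPrime] [p'.IsPrime] (h : p = p')
    (H : Algebra.IsEtaleAt C p) : Algebra.IsEtaleAt C p' := by
  subst h
  exact H

set_option maxHeartbeats 1600000 in
set_option synthInstance.maxHeartbeats 400000 in
/-- **Keel–Mori at a point**: if `B → A` is `G`-equivariant, of finite presentation, étale at the
prime `x`, and the inertia groups agree at `x`, then `A^G` is étale over `B^G` at `x ∩ A^G`. -/
theorem isEtaleAt_of_inertia [Algebra.FinitePresentation B A]
    (C' : Type u) [CommRing C'] [Algebra C C'] [Algebra C' A] [IsScalarTower C C' A]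
    (hC : ∀ b : B, (∀ g : G, g • b = b) → b ∈ Set.range (algebraMap C B))
    (hinj : Function.Injective (algebraMap C B))
    (hC' : ∀ a : A, (∀ g : G, g • a = a) ↔ a ∈ Set.range (algebraMap C' A))
    (hinj' : Function.Injective (algebraMap C' A))
    (hGeq : ∀ (g : G) (b : B), algebraMap B A (g • b) = g • algebraMap B A b)
    (x : Ideal A) [hxp : x.IsPrime] (hx : Algebra.IsEtaleAt B x)
    (hin : ∀ g : G, g ∈ (x.comap (algebraMap B A)).inertia G → g ∈ x.inertia G)
    [hxp' : (x.comap (algebraMap C' A)).IsPrime] :
    Algebra.IsEtaleAt C (x.comap (algebraMap C' A)) := by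
  classical
  -- Step 1: an invariant element cutting out an étale neighbourhood
  have hopen : IsOpen (Algebra.etaleLocus B A) := Algebra.isOpen_etaleLocus
  obtain ⟨𝔞₀, h𝔞₀⟩ := (PrimeSpectrum.isClosed_iff_zeroLocus_ideal _).mp hopen.isClosed_compl
  have hk : ∀ k : G, ¬ 𝔞₀ ≤ x.comap (MulSemiringAction.toRingHom G A k) := by
    intro k hle
    haveI : (x.comap (MulSemiringAction.toRingHom G A k)).IsPrime := Ideal.comap_isPrime _ _
    have h1 := etaleLocus_comap hGeq k x hx
    have h2 : (⟨x.comap (MulSemiringAction.toRingHom G A k), inferInstance⟩ : PrimeSpectrum A) ∈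
        (Algebra.etaleLocus B A)ᶜ := by
      rw [h𝔞₀]
      exact hle
    exact h2 h1
  obtain ⟨h₁, hh₁, hh₁𝔞, hh₁x⟩ := exists_invariant_mem_notMem 𝔞₀ x hk
  obtain ⟨c₁, hc₁⟩ := (hC' h₁).mp hh₁
  have hh_def : h₁ = algebraMap C' A c₁ := hc₁.symm
  have hD : (PrimeSpectrum.basicOpen h₁ : Set (PrimeSpectrum A)) ⊆ Algebra.etaleLocus B A := by
    intro P hP
    by_contra hcon
    have h1 : P ∈ (Algebra.etaleLocus B A)ᶜ := hcon
    rw [h𝔞₀] at h1
    exact hP (h1 hh₁𝔞)
  haveI hetA₁ : Algebra.Etale B (Localization.Away h₁) :=
    Algebra.basicOpen_subset_etaleLocus_iff_etale.mp hD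
  -- Step 2: the structure on the localizations
  letI actA₁ : MulSemiringAction G (Localization.Away h₁) := locAct h₁ hh₁
  letI algC₁A₁ : Algebra (Localization.Away c₁) (Localization.Away h₁) := locAlg c₁ h₁ hh_def
  haveI : IsScalarTower C' (Localization.Away c₁) (Localization.Away h₁) :=
    loc_isScalarTower c₁ h₁ hh_def
  have hact : ∀ (g : G) (a : A), g • (algebraMap A (Localization.Away h₁) a) =
      algebraMap A (Localization.Away h₁) (g • a) := fun g a => locMap_algebraMap h₁ hh₁ g a
  have halg := locAlg_algebraMap c₁ h₁ hh_def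
  haveI : SMulCommClass G C (Localization.Away h₁) := ⟨fun g c z => by
    rw [Algebra.smul_def, Algebra.smul_def, smul_mul']
    congr 1
    rw [IsScalarTower.algebraMap_apply C A (Localization.Away h₁), hact, smul_algebraMap]⟩
  haveI : IsScalarTower C (Localization.Away c₁) (Localization.Away h₁) :=
    IsScalarTower.of_algebraMap_eq (fun c => by
      rw [IsScalarTower.algebraMap_apply C C' (Localization.Away c₁), halg,
        ← IsScalarTower.algebraMap_apply C C' A, ← IsScalarTower.algebraMap_apply C A])
  have hC₁ := loc_invariants c₁ h₁ hh_def hh₁ hC'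
  have hinj₁ := loc_injective c₁ h₁ hh_def hinj'
  have hGeq₁ : ∀ (g : G) (b : B), algebraMap B (Localization.Away h₁) (g • b) =
      g • algebraMap B (Localization.Away h₁) b := by
    intro g b
    rw [IsScalarTower.algebraMap_apply B A (Localization.Away h₁),
      IsScalarTower.algebraMap_apply B A (Localization.Away h₁), hGeq, hact]
  -- Step 3: the prime of the localization
  have hdisj : Disjoint (Submonoid.powers h₁ : Set A) (x : Set A) :=
    (Ideal.disjoint_powers_iff_notMem_of_isPrime h₁).mpr hh₁x
  haveI hx₁ : (x.map (algebraMap A (Localization.Away h₁))).IsPrime :=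
    IsLocalization.isPrime_of_isPrime_disjoint (Submonoid.powers h₁) _ x hxp hdisj
  have hcomap : (x.map (algebraMap A (Localization.Away h₁))).comap
      (algebraMap A (Localization.Away h₁)) = x :=
    IsLocalization.under_map_of_isPrime_disjoint (Submonoid.powers h₁) _ hxp hdisj
  have hP₁ : ∀ g : G, g ∈ ((x.map (algebraMap A (Localization.Away h₁))).comap
      (algebraMap B (Localization.Away h₁))).inertia G →
      g ∈ (x.map (algebraMap A (Localization.Away h₁))).inertia G := by
    intro g hg
    apply loc_inertia h₁ hh₁ _ g
    rw [hcomap]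
    apply hin
    rw [AddSubgroup.mem_inertia] at hg ⊢
    intro b
    have h1 := hg b
    show algebraMap B A (g • b - b) ∈ x
    rw [← hcomap]
    show algebraMap A (Localization.Away h₁) (algebraMap B A (g • b - b)) ∈
      x.map (algebraMap A (Localization.Away h₁))
    rw [← IsScalarTower.algebraMap_apply B A (Localization.Away h₁)]
    exact h1
  -- Step 4: the local theorem
  obtain ⟨c₂, hc₂, het₂⟩ := exists_etale_away_of_inertia G C B (Localization.Away h₁)
    (Localization.Away c₁) hC hinj hC₁ hinj₁ hGeq₁ (x.map (algebraMap A (Localization.Away h₁))) hP₁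
  -- Step 5
  haveI hp₁ : ((x.map (algebraMap A (Localization.Away h₁))).comap
      (algebraMap (Localization.Away c₁) (Localization.Away h₁))).IsPrime := Ideal.comap_isPrime _ _
  have h5 : (PrimeSpectrum.basicOpen c₂ : Set (PrimeSpectrum (Localization.Away c₁))) ⊆
      Algebra.etaleLocus C (Localization.Away c₁) :=
    Algebra.basicOpen_subset_etaleLocus_iff.mpr inferInstance
  have h6 : Algebra.IsEtaleAt C ((x.map (algebraMap A (Localization.Away h₁))).comap
      (algebraMap (Localization.Away c₁) (Localization.Away h₁))) :=
    h5 (show (⟨_, hp₁⟩ : PrimeSpectrum (Localization.Away c₁)) ∈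
      (PrimeSpectrum.basicOpen c₂ : Set (PrimeSpectrum (Localization.Away c₁))) from hc₂)
  -- Step 6
  have hpp : (((x.map (algebraMap A (Localization.Away h₁))).comap
      (algebraMap (Localization.Away c₁) (Localization.Away h₁))).comap
      (algebraMap C' (Localization.Away c₁))) = x.comap (algebraMap C' A) := by
    ext c
    rw [Ideal.mem_comap, Ideal.mem_comap, Ideal.mem_comap, halg]
    nth_rewrite 2 [← hcomap]
    rfl
  let e := IsLocalization.localizationLocalizationAtPrimeIsoLocalization (Submonoid.powers c₁)
    ((x.map (algebraMap A (Localization.Away h₁))).comap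
      (algebraMap (Localization.Away c₁) (Localization.Away h₁)))
  have h7 : Algebra.IsEtaleAt C (((x.map (algebraMap A (Localization.Away h₁))).comap
      (algebraMap (Localization.Away c₁) (Localization.Away h₁))).comap
      (algebraMap C' (Localization.Away c₁))) :=
    Algebra.FormallyEtale.of_equiv (e.symm.restrictScalars C)
  exact isEtaleAt_congr _ _ hpp h7

end thmAt

end Groth.Agent.Lib.Helper20.FQ
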