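import Mathlib
import Groth.Agent.Lib.Helper20.FQ7

set_option autoImplicit false
set_option linter.style.haveILetI false
set_option linter.unusedSectionVars false
universe u

namespace Groth.Agent.Lib.Helper20.FQ

open scoped Pointwise

section trace

variable {G : Type u} [Group G] {R : Type u} [CommRing R] [MulSemiringAction G R]
  (H : Subgroup G) [Fintype (G ⧸ H)]

/-- the trace from `R^H` to `R^G` via coset representatives. -/
noncomputable def cosetTr (x : R) : R := ∑ c : G ⧸ H, (c.out : G) • x

theorem out_smul_eq (x : R) (hx : ∀ h : G, h ∈ H → h • x = x) (γ : G) :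
    ((γ : G ⧸ H).out : G) • x = γ • x := by
  have h1 : ((γ : G ⧸ H).out)⁻¹ * γ ∈ H := out_inv_mul_mem G H γ
  have h2 := hx _ h1
  calc ((γ : G ⧸ H).out : G) • x = ((γ : G ⧸ H).out : G) • ((((γ : G ⧸ H).out)⁻¹ * γ) • x) := by
        rw [h2]
    _ = γ • x := by rw [← mul_smul, mul_inv_cancel_left]

theorem cosetTr_invariant (x : R) (hx : ∀ h : G, h ∈ H → h • x = x) (g : G) :
    g • cosetTr H x = cosetTr H x := by
  unfold cosetTr
  rw [Finset.smul_sum]
  have h1 : ∀ c : G ⧸ H, g • ((c.out : G) • x) = ((g • c).out : G) • x := by
    intro c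
    rw [← mul_smul, ← out_smul_eq H x hx (g * c.out)]
    congr 2
    show ((g * c.out : G) : G ⧸ H) = g • c
    conv_rhs => rw [← QuotientGroup.out_eq' c]
    rfl
  rw [Finset.sum_congr rfl (fun c _ => h1 c)]
  exact Fintype.sum_equiv (MulAction.toPerm g) _ _ (fun c => rfl)

theorem cosetTr_sub_mem (q : Ideal R) (x : R) (hx : ∀ h : G, h ∈ H → h • x = x)
    (hq : ∀ σ : G, σ ∉ H → σ • x ∈ q) : cosetTr H x - x ∈ q := by
  classical
  unfold cosetTr
  rw [← Finset.add_sum_erase Finset.univ _ (Finset.mem_univ ((1 : G) : G ⧸ H))]
  have h1 : ((((1 : G) : G ⧸ H)).out : G) • x = x := by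
    rw [out_smul_eq H x hx, one_smul]
  rw [h1, add_sub_cancel_left]
  apply Ideal.sum_mem
  intro c hc
  apply hq
  intro hcH
  apply (Finset.mem_erase.mp hc).1
  rw [← QuotientGroup.out_eq' c, QuotientGroup.eq]
  exact H.mul_mem (H.inv_mem hcH) H.one_mem

end trace


section sep

variable {G : Type u} [Group G] [Fintype G] {R : Type u} [CommRing R] [MulSemiringAction G R]
  (H : Subgroup G)

theorem exists_sep_elt (q : Ideal R) [hq : q.IsPrime] (hD : MulAction.stabilizer G q ≤ H) (σ : G)
    (hσ : σ ∉ H) :
    ∃ e : R, (∀ h : G, h ∈ H → h • e = e) ∧ σ • e ∈ q ∧ e ∉ q := by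
  classical
  haveI : Algebra.IsInvariant (FixedPoints.subring R G) R G := ⟨fun b hb => ⟨⟨b, hb⟩, rfl⟩⟩
  haveI : Algebra.IsIntegral (FixedPoints.subring R G) R :=
    Algebra.IsInvariant.isIntegral (FixedPoints.subring R G) R G
  haveI : Fintype H := Fintype.ofFinite H
  haveI hQ₁ : (q.comap (MulSemiringAction.toRingHom G R σ)).IsPrime := Ideal.comap_isPrime _ _
  have hkey : ∀ k : H, ¬ q.comap (MulSemiringAction.toRingHom G R σ) ≤
      q.comap (MulSemiringAction.toRingHom H R k) := by
    intro k hle
    haveI hQ₂ : (q.comap (MulSemiringAction.toRingHom H R k)).IsPrime := Ideal.comap_isPrime _ _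
    have hcontr : ∀ (g : G), (q.comap (MulSemiringAction.toRingHom G R g)).comap
        (algebraMap (FixedPoints.subring R G) R) = q.comap (algebraMap (FixedPoints.subring R G) R) := by
      intro g
      ext c
      show g • (c : R) ∈ q ↔ (c : R) ∈ q
      rw [c.2 g]
    have heq : q.comap (MulSemiringAction.toRingHom G R σ) =
        q.comap (MulSemiringAction.toRingHom H R k) := by
      by_contra hne
      obtain ⟨x, hx2, hx1⟩ := SetLike.exists_of_lt (lt_of_le_of_ne hle hne)
      have h1 := Ideal.comap_lt_comap_of_integral_mem_sdiff (R := FixedPoints.subring R G) hle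
        ⟨hx2, hx1⟩ (Algebra.IsIntegral.isIntegral x)
      have h2 : (q.comap (MulSemiringAction.toRingHom H R k)).comap
          (algebraMap (FixedPoints.subring R G) R) =
          q.comap (algebraMap (FixedPoints.subring R G) R) := hcontr (k : G)
      rw [hcontr σ, h2] at h1
      exact lt_irrefl _ h1
    have hstab : (σ * (k : G)⁻¹)⁻¹ ∈ MulAction.stabilizer G q := by
      rw [MulAction.mem_stabilizer_iff]
      ext x
      rw [Ideal.mem_inv_pointwise_smul_iff]
      have h3 : (k : G)⁻¹ • x ∈ q.comap (MulSemiringAction.toRingHom G R σ) ↔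
          (k : G)⁻¹ • x ∈ q.comap (MulSemiringAction.toRingHom H R k) := by rw [heq]
      have h4 : (k : G)⁻¹ • x ∈ q.comap (MulSemiringAction.toRingHom H R k) ↔ x ∈ q := by
        show (k : G) • (k : G)⁻¹ • x ∈ q ↔ x ∈ q
        rw [smul_inv_smul]
      rw [mul_smul]
      exact h3.trans h4
    have h5 := hD hstab
    apply hσ
    have h6 : σ * (k : G)⁻¹ ∈ H := by
      have := H.inv_mem h5
      rwa [inv_inv] at this
    have h7 := H.mul_mem h6 k.2
    rwa [inv_mul_cancel_right] at h7
  obtain ⟨c, hc, hcQ₁, hcq⟩ := exists_invariant_mem_notMem (G := H)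
    (q.comap (MulSemiringAction.toRingHom G R σ)) q hkey
  exact ⟨c, fun h hh => hc ⟨h, hh⟩, hcQ₁, hcq⟩

theorem exists_sep (q : Ideal R) [hq : q.IsPrime] (hD : MulAction.stabilizer G q ≤ H) :
    ∃ e : R, (∀ h : G, h ∈ H → h • e = e) ∧ e ∉ q ∧ ∀ σ : G, σ ∉ H → σ • e ∈ q := by
  classical
  choose e he1 he2 he3 using exists_sep_elt H q hD
  let f : G → R := fun σ => if hσ : σ ∈ H then 1 else e σ hσ
  refine ⟨∏ σ : G, f σ, ?_, ?_, ?_⟩
  · intro h hh
    rw [Finset.smul_prod']
    apply Finset.prod_congr rfl
    intro σ _
    show h • f σ = f σ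
    by_cases hσ : σ ∈ H
    · simp only [f, dif_pos hσ, smul_one]
    · simp only [f, dif_neg hσ]
      exact he1 σ hσ h hh
  · rw [Ideal.IsPrime.prod_mem_iff]
    rintro ⟨σ, -, hσq⟩
    by_cases hσ : σ ∈ H
    · simp only [f, dif_pos hσ] at hσq
      exact hq.ne_top ((Ideal.eq_top_iff_one q).mpr hσq)
    · simp only [f, dif_neg hσ] at hσq
      exact he3 σ hσ hσq
  · intro σ hσ
    rw [Finset.smul_prod', Ideal.IsPrime.prod_mem_iff]
    refine ⟨σ, Finset.mem_univ σ, ?_⟩
    simp only [f, dif_neg hσ]
    exact he2 σ hσ

end sep


section approx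

variable {G : Type u} [Group G] [Fintype G] {R : Type u} [CommRing R] [MulSemiringAction G R]
  (H : Subgroup G)

/-- modulo `q`, every `H`-invariant is a quotient of `G`-invariants, if `H` contains the
decomposition group of `q`. -/
theorem exists_trace_approx (q : Ideal R) [hq : q.IsPrime] (hD : MulAction.stabilizer G q ≤ H)
    (a : R) (ha : ∀ h : G, h ∈ H → h • a = a) :
    ∃ s b : R, (∀ g : G, g • s = s) ∧ (∀ g : G, g • b = b) ∧ s ∉ q ∧ s * a - b ∈ q := by
  classical
  haveI : Fintype (G ⧸ H) := Fintype.ofFinite _
  obtain ⟨e, he1, he2, he3⟩ := exists_sep H q hD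
  have hea : ∀ h : G, h ∈ H → h • (e * a) = e * a := by
    intro h hh
    rw [smul_mul', he1 h hh, ha h hh]
  have h1 : cosetTr H e - e ∈ q := cosetTr_sub_mem H q e he1 he3
  have h2 : cosetTr H (e * a) - e * a ∈ q := cosetTr_sub_mem H q (e * a) hea (fun σ hσ => by
    rw [smul_mul']
    exact q.mul_mem_right _ (he3 σ hσ))
  refine ⟨cosetTr H e, cosetTr H (e * a), cosetTr_invariant H e he1,
    cosetTr_invariant H (e * a) hea, ?_, ?_⟩
  · intro hs
    apply he2
    have := q.sub_mem hs h1
    rwa [sub_sub_cancel] at this
  · have h3 : cosetTr H e * a - cosetTr H (e * a) =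
        (cosetTr H e - e) * a - (cosetTr H (e * a) - e * a) := by ring
    rw [h3]
    exact q.sub_mem (q.mul_mem_right _ h1) h2

end approx


section localB

open IsLocalRing

variable {C C' : Type u} [CommRing C] [CommRing C'] [Algebra C C'] (q' : Ideal C') [hq' : q'.IsPrime]

set_option maxHeartbeats 1600000 in
set_option synthInstance.maxHeartbeats 400000 in
/-- an étale local homomorphism with trivial residue field extension is an isomorphism modulo
all powers of the maximal ideals. -/
theorem localRingHom_mod_pow (g : C') (hg : g ∉ q') [Algebra.Etale C (Localization.Away g)]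
    (hres : ∀ a : C', ∃ s b : C, algebraMap C C' s ∉ q' ∧
      algebraMap C C' s * a - algebraMap C C' b ∈ q')
    (n : ℕ) :
    Function.Surjective ((Ideal.Quotient.mk (maximalIdeal (Localization.AtPrime q') ^ n)).comp
      (Localization.localRingHom (q'.comap (algebraMap C C')) q' (algebraMap C C') rfl)) ∧
    Ideal.comap (Localization.localRingHom (q'.comap (algebraMap C C')) q' (algebraMap C C') rfl)
      (maximalIdeal (Localization.AtPrime q') ^ n) =
      maximalIdeal (Localization.AtPrime (q'.comap (algebraMap C C'))) ^ n := by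
  classical
  set φ := Localization.localRingHom (q'.comap (algebraMap C C')) q' (algebraMap C C') rfl with hφ
  letI algBS : Algebra (Localization.AtPrime (q'.comap (algebraMap C C'))) (Localization.AtPrime q') :=
    φ.toAlgebra
  haveI : IsLocalHom (algebraMap (Localization.AtPrime (q'.comap (algebraMap C C')))
      (Localization.AtPrime q')) :=
    Localization.isLocalHom_localRingHom _ _ _ rfl
  have hφmap : ∀ c : C, φ (algebraMap C _ c) = algebraMap C' (Localization.AtPrime q')
      (algebraMap C C' c) := fun c => Localization.localRingHom_to_map _ _ _ rfl c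
  haveI : IsScalarTower C (Localization.AtPrime (q'.comap (algebraMap C C')))
      (Localization.AtPrime q') :=
    IsScalarTower.of_algebraMap_eq (fun c => by
      rw [IsScalarTower.algebraMap_apply C C' (Localization.AtPrime q')]
      exact (hφmap c).symm)
  -- `S` as a localization of `T = C'_g`
  have hle : Submonoid.powers g ≤ q'.primeCompl := by
    rintro _ ⟨k, rfl⟩
    exact fun hk => hg (hq'.mem_of_pow_mem k hk)
  letI algTS : Algebra (Localization.Away g) (Localization.AtPrime q') :=
    IsLocalization.localizationAlgebraOfSubmonoidLe (Localization.Away g) (Localization.AtPrime q')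
      (Submonoid.powers g) q'.primeCompl hle
  haveI : IsScalarTower C' (Localization.Away g) (Localization.AtPrime q') :=
    IsLocalization.localization_isScalarTower_of_submonoid_le (Localization.Away g)
      (Localization.AtPrime q') (Submonoid.powers g) q'.primeCompl hle
  haveI hlocTS : IsLocalization ((q'.primeCompl).map (algebraMap C' (Localization.Away g)))
      (Localization.AtPrime q') :=
    IsLocalization.isLocalization_of_submonoid_le (Localization.Away g) (Localization.AtPrime q')
      (Submonoid.powers g) q'.primeCompl hle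
  haveI : IsScalarTower C (Localization.Away g) (Localization.AtPrime q') :=
    IsScalarTower.of_algebraMap_eq (fun c => by
      rw [IsScalarTower.algebraMap_apply C C' (Localization.AtPrime q'),
        IsScalarTower.algebraMap_apply C C' (Localization.Away g),
        ← IsScalarTower.algebraMap_apply C' (Localization.Away g) (Localization.AtPrime q')])
  haveI : Algebra.FormallyEtale (Localization.Away g) (Localization.AtPrime q') :=
    Algebra.FormallyEtale.of_isLocalization ((q'.primeCompl).map (algebraMap C' (Localization.Away g)))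
  haveI : Algebra.FormallyEtale C (Localization.AtPrime q') :=
    Algebra.FormallyEtale.comp C (Localization.Away g) (Localization.AtPrime q')
  haveI : Module.Flat (Localization.Away g) (Localization.AtPrime q') :=
    IsLocalization.flat (Localization.AtPrime q')
      ((q'.primeCompl).map (algebraMap C' (Localization.Away g)))
  haveI : Module.Flat C (Localization.AtPrime q') :=
    Module.Flat.trans C (Localization.Away g) (Localization.AtPrime q')
  haveI : Module.Flat (Localization.AtPrime (q'.comap (algebraMap C C'))) (Localization.AtPrime q') :=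
    (Module.flat_iff_of_isLocalization (Localization.AtPrime (q'.comap (algebraMap C C')))
      (q'.comap (algebraMap C C')).primeCompl (Localization.AtPrime q')).mpr inferInstance
  haveI : Algebra.EssFiniteType (Localization.Away g) (Localization.AtPrime q') :=
    Algebra.EssFiniteType.of_isLocalization (Localization.AtPrime q')
      ((q'.primeCompl).map (algebraMap C' (Localization.Away g)))
  haveI : Algebra.EssFiniteType C (Localization.AtPrime q') :=
    Algebra.EssFiniteType.comp C (Localization.Away g) (Localization.AtPrime q')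
  haveI : Algebra.EssFiniteType (Localization.AtPrime (q'.comap (algebraMap C C')))
      (Localization.AtPrime q') :=
    Algebra.EssFiniteType.of_comp C _ _
  haveI : Algebra.FormallyUnramified (Localization.AtPrime (q'.comap (algebraMap C C')))
      (Localization.AtPrime q') :=
    Algebra.FormallyUnramified.of_restrictScalars C _ _
  have hm : (maximalIdeal (Localization.AtPrime (q'.comap (algebraMap C C')))).map
      (algebraMap (Localization.AtPrime (q'.comap (algebraMap C C'))) (Localization.AtPrime q')) =
      maximalIdeal (Localization.AtPrime q') :=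
    Algebra.FormallyUnramified.map_maximalIdeal
  haveI : Module.FaithfullyFlat (Localization.AtPrime (q'.comap (algebraMap C C')))
      (Localization.AtPrime q') :=
    Module.FaithfullyFlat.of_flat_of_isLocalHom
  have hmemmax : ∀ c : C', c ∈ q' → algebraMap C' (Localization.AtPrime q') c ∈
      maximalIdeal (Localization.AtPrime q') := fun c hc =>
    (IsLocalization.AtPrime.to_map_mem_maximal_iff (Localization.AtPrime q') q' c).mpr hc
  -- residue fields
  have hres1 : ∀ z : Localization.AtPrime q',
      ∃ y : Localization.AtPrime (q'.comap (algebraMap C C')),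
        z - φ y ∈ maximalIdeal (Localization.AtPrime q') := by
    intro z
    obtain ⟨a, t, rfl⟩ := IsLocalization.exists_mk'_eq q'.primeCompl z
    obtain ⟨s, b, hs, hsab⟩ := hres a
    obtain ⟨s', b', hs', hs'tb⟩ := hres (t : C')
    have hb' : algebraMap C C' b' ∉ q' := by
      intro hb'
      have h1 : algebraMap C C' s' * (t : C') ∈ q' := by
        have h2 := q'.add_mem hs'tb hb'
        rwa [sub_add_cancel] at h2
      rcases hq'.mem_or_mem h1 with h | h
      · exact hs' h
      · exact t.2 h
    have hsb' : s * b' ∈ (q'.comap (algebraMap C C')).primeCompl := by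
      show s * b' ∉ q'.comap (algebraMap C C')
      rw [Ideal.mem_comap, map_mul]
      intro h
      rcases hq'.mem_or_mem h with h | h
      · exact hs h
      · exact hb' h
    refine ⟨IsLocalization.mk' _ (b * s') ⟨s * b', hsb'⟩, ?_⟩
    have hy : φ (IsLocalization.mk' (Localization.AtPrime (q'.comap (algebraMap C C'))) (b * s')
        ⟨s * b', hsb'⟩) *
        algebraMap C' (Localization.AtPrime q') (algebraMap C C' (s * b')) =
        algebraMap C' (Localization.AtPrime q') (algebraMap C C' (b * s')) := by
      rw [← hφmap, ← hφmap, ← map_mul]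
      congr 1
      exact IsLocalization.mk'_spec _ (b * s') ⟨s * b', hsb'⟩
    have hz : IsLocalization.mk' (Localization.AtPrime q') a t *
        algebraMap C' (Localization.AtPrime q') (t : C') =
        algebraMap C' (Localization.AtPrime q') a := IsLocalization.mk'_spec _ a t
    have hu : IsUnit (algebraMap C' (Localization.AtPrime q') (t : C') *
        algebraMap C' (Localization.AtPrime q') (algebraMap C C' (s * b'))) := by
      rw [← map_mul]
      apply IsLocalization.map_units (Localization.AtPrime q')
        (⟨(t : C') * algebraMap C C' (s * b'), ?_⟩ : q'.primeCompl)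
      show (t : C') * algebraMap C C' (s * b') ∉ q'
      intro h
      rcases hq'.mem_or_mem h with h | h
      · exact t.2 h
      · exact hsb' h
    rw [← Ideal.mul_unit_mem_iff_mem _ hu]
    have hX : algebraMap C C' (s * b') = algebraMap C C' s * algebraMap C C' b' := map_mul _ _ _
    have hY : algebraMap C C' (b * s') = algebraMap C C' b * algebraMap C C' s' := map_mul _ _ _
    generalize algebraMap C C' (s * b') = X at hy hu hX ⊢
    generalize algebraMap C C' (b * s') = Y at hy hY ⊢
    generalize φ (IsLocalization.mk' (Localization.AtPrime (q'.comap (algebraMap C C'))) (b * s')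
          ⟨s * b', hsb'⟩) = φy at hy ⊢
    generalize IsLocalization.mk' (Localization.AtPrime q') a t = z at hz ⊢
    have e : (z - φy) * (algebraMap C' (Localization.AtPrime q') (t : C') *
          algebraMap C' (Localization.AtPrime q') X) =
        algebraMap C' (Localization.AtPrime q') (a * X - Y * (t : C')) := by
      rw [map_sub, map_mul, map_mul]
      linear_combination (algebraMap C' (Localization.AtPrime q') X) * hz -
        (algebraMap C' (Localization.AtPrime q') (t : C')) * hy
    rw [e]
    apply hmemmax
    have e3 : a * X - Y * (t : C') =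
        (algebraMap C C' s * a - algebraMap C C' b) * algebraMap C C' b' -
          algebraMap C C' b * (algebraMap C C' s' * (t : C') - algebraMap C C' b') := by
      rw [hX, hY]
      ring
    rw [e3]
    exact q'.sub_mem (q'.mul_mem_right _ hsab) (q'.mul_mem_left _ hs'tb)
  have hpow : ∀ n : ℕ, maximalIdeal (Localization.AtPrime q') ^ n =
      (maximalIdeal (Localization.AtPrime (q'.comap (algebraMap C C'))) ^ n).map
        (algebraMap (Localization.AtPrime (q'.comap (algebraMap C C'))) (Localization.AtPrime q')) := by
    intro n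
    rw [Ideal.map_pow, hm]
  have hresn : ∀ n : ℕ, ∀ z : Localization.AtPrime q',
      ∃ y : Localization.AtPrime (q'.comap (algebraMap C C')),
        z - φ y ∈ maximalIdeal (Localization.AtPrime q') ^ n := by
    intro n
    induction n with
    | zero =>
      intro z
      exact ⟨0, by simp⟩
    | succ n ih =>
      have key : ∀ w ∈ (maximalIdeal (Localization.AtPrime (q'.comap (algebraMap C C'))) ^ n).map
          (algebraMap (Localization.AtPrime (q'.comap (algebraMap C C'))) (Localization.AtPrime q')),
          ∀ z' : Localization.AtPrime q', ∃ y : Localization.AtPrime (q'.comap (algebraMap C C')),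
            z' * w - φ y ∈ maximalIdeal (Localization.AtPrime q') ^ (n + 1) := by
        intro w hw
        refine Submodule.span_induction (p := fun w _ => ∀ z' : Localization.AtPrime q',
          ∃ y : Localization.AtPrime (q'.comap (algebraMap C C')),
            z' * w - φ y ∈ maximalIdeal (Localization.AtPrime q') ^ (n + 1)) ?_ ?_ ?_ ?_ hw
        · rintro _ ⟨u, hu, rfl⟩ z'
          obtain ⟨y', hy'⟩ := hres1 z'
          refine ⟨y' * u, ?_⟩
          have e1 : z' * algebraMap (Localization.AtPrime (q'.comap (algebraMap C C')))
              (Localization.AtPrime q') u - φ (y' * u) = (z' - φ y') * φ u := by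
            rw [map_mul]
            show z' * φ u - φ y' * φ u = _
            ring
          rw [e1, pow_succ']
          refine Ideal.mul_mem_mul hy' ?_
          rw [hpow]
          exact Ideal.mem_map_of_mem _ hu
        · intro z'
          exact ⟨0, by simp⟩
        · intro w₁ w₂ _ _ h₁ h₂ z'
          obtain ⟨y₁, hy₁⟩ := h₁ z'
          obtain ⟨y₂, hy₂⟩ := h₂ z'
          refine ⟨y₁ + y₂, ?_⟩
          have e1 : z' * (w₁ + w₂) - φ (y₁ + y₂) = (z' * w₁ - φ y₁) + (z' * w₂ - φ y₂) := by
            rw [map_add]
            ring
          rw [e1]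
          exact Ideal.add_mem _ hy₁ hy₂
        · intro z'' w _ h z'
          obtain ⟨y, hy⟩ := h (z' * z'')
          refine ⟨y, ?_⟩
          rw [smul_eq_mul, ← mul_assoc]
          exact hy
      intro z
      obtain ⟨y, hy⟩ := ih z
      rw [hpow] at hy
      obtain ⟨y₂, hy₂⟩ := key _ hy 1
      refine ⟨y + y₂, ?_⟩
      have e1 : z - φ (y + y₂) = 1 * (z - φ y) - φ y₂ := by
        rw [map_add]
        ring
      rw [e1]
      exact hy₂
  constructor
  · intro zbar
    obtain ⟨z, rfl⟩ := Ideal.Quotient.mk_surjective zbar
    obtain ⟨y, hy⟩ := hresn n z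
    refine ⟨y, ?_⟩
    show Ideal.Quotient.mk _ (φ y) = Ideal.Quotient.mk _ z
    rw [eq_comm, Ideal.Quotient.eq]
    exact hy
  · rw [hpow]
    exact Ideal.comap_map_eq_self_of_faithfullyFlat _

end localB

end Groth.Agent.Lib.Helper20.FQ
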