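import Mathlib

set_option autoImplicit false
universe u

namespace Groth.Agent.Lib.Helper20.FinExt

open Polynomial

/-- Instance form: numerators can be chosen in any subalgebra containing a fixed finite set of
integral elements. -/
theorem exists_integral_numerators {A R Aa Ra : Type*} [CommRing A] [CommRing R] [CommRing Aa]
    [CommRing Ra] [Algebra A R] [Algebra A Aa] [Algebra R Ra] [Algebra Aa Ra] [Algebra A Ra]
    [IsScalarTower A Aa Ra] [IsScalarTower A R Ra] (a : A)
    [IsLocalization.Away a Aa] [IsLocalization.Away (algebraMap A R a) Ra] [Module.Finite Aa Ra] :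
    ∃ F : Set R, F.Finite ∧ (∀ x ∈ F, IsIntegral A x) ∧
      ∀ B : Subalgebra A R, F ⊆ B → ∀ y : Ra, ∃ r ∈ B, ∃ e : ℕ,
        algebraMap R Ra r = (algebraMap A Ra a) ^ e * y := by
  classical
  have haR : algebraMap R Ra (algebraMap A R a) = algebraMap A Ra a :=
    (IsScalarTower.algebraMap_apply A R Ra a).symm
  have h1 : ∀ y : Ra, ∃ t : R, IsIntegral A t ∧ ∃ e : ℕ,
      algebraMap R Ra t = (algebraMap A Ra a) ^ e * y := by
    intro y
    have hy : IsIntegral Aa y := Algebra.IsIntegral.isIntegral y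
    obtain ⟨⟨r, ⟨_, k, rfl⟩⟩, hr⟩ :=
      IsLocalization.surj (Submonoid.powers (algebraMap A R a)) y
    have hr' : algebraMap R Ra r = (algebraMap A Ra a) ^ k * y := by
      rw [← hr]
      simp only [map_pow, haR]
      ring
    have hint : IsIntegral Aa (algebraMap R Ra r) := by
      rw [hr']
      refine (IsIntegral.pow ?_ k).mul hy
      rw [IsScalarTower.algebraMap_apply A Aa Ra]
      exact isIntegral_algebraMap
    obtain ⟨⟨_, j, rfl⟩, hm⟩ := IsIntegral.exists_multiple_integral_of_isLocalization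
      (Submonoid.powers a) (algebraMap R Ra r) hint
    have hm' : IsIntegral A (algebraMap R Ra (a ^ j • r)) := by
      have : algebraMap R Ra (a ^ j • r) = a ^ j • algebraMap R Ra r := by
        rw [Algebra.smul_def, map_mul, ← IsScalarTower.algebraMap_apply, Algebra.smul_def]
      rw [this]
      exact hm
    obtain ⟨n, hn⟩ := IsLocalization.Away.exists_isIntegral_mul_of_isIntegral_algebraMap
      (R := A) (S := R) (Sₘ := Ra) (r := algebraMap A R a) isIntegral_algebraMap hm'
    refine ⟨(algebraMap A R a) ^ n * (a ^ j • r), hn, n + j + k, ?_⟩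
    rw [map_mul, map_pow, haR, Algebra.smul_def, map_mul, ← IsScalarTower.algebraMap_apply,
      map_pow, hr']
    ring
  obtain ⟨n, gen, hgen⟩ := Module.Finite.exists_fin (R := Aa) (M := Ra)
  choose t ht e he using fun i => h1 (gen i)
  refine ⟨Set.range t, Set.finite_range t, ?_, ?_⟩
  · rintro _ ⟨i, rfl⟩
    exact ht i
  · intro B hFB y
    let N : Submodule Aa Ra :=
      { carrier := {y | ∃ r ∈ B, ∃ e : ℕ, algebraMap R Ra r = (algebraMap A Ra a) ^ e * y}
        add_mem' := by
          rintro y y' ⟨r, hr, e, he⟩ ⟨r', hr', e', he'⟩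
          refine ⟨a ^ e' • r + a ^ e • r', B.add_mem (B.smul_mem hr _) (B.smul_mem hr' _),
            e + e', ?_⟩
          rw [map_add, Algebra.smul_def, Algebra.smul_def, map_mul, map_mul,
            ← IsScalarTower.algebraMap_apply, ← IsScalarTower.algebraMap_apply, he, he',
            map_pow, map_pow]
          ring
        zero_mem' := ⟨0, B.zero_mem, 0, by simp⟩
        smul_mem' := by
          rintro c y ⟨r, hr, e, he⟩
          obtain ⟨⟨c', ⟨_, m, rfl⟩⟩, hc⟩ := IsLocalization.surj (Submonoid.powers a) c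
          refine ⟨c' • r, B.smul_mem hr _, e + m, ?_⟩
          have hc' : algebraMap A Ra c' = algebraMap Aa Ra c * (algebraMap A Ra a) ^ m := by
            rw [IsScalarTower.algebraMap_apply A Aa Ra c', ← hc, map_mul,
              ← IsScalarTower.algebraMap_apply, map_pow]
          rw [Algebra.smul_def, map_mul, ← IsScalarTower.algebraMap_apply, he, hc',
            Algebra.smul_def]
          ring }
    have hN : N = ⊤ := by
      rw [eq_top_iff, ← hgen, Submodule.span_le]
      rintro _ ⟨i, rfl⟩
      exact ⟨t i, hFB ⟨i, rfl⟩, e i, he i⟩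
    have hy : y ∈ N := hN ▸ Submodule.mem_top
    exact hy

/-- Ring-hom form of `exists_integral_numerators`. -/
theorem exists_integral_numerators' {A R Aa Ra : Type*} [CommRing A] [CommRing R] [CommRing Aa]
    [CommRing Ra] [Algebra A R] (a : A) (lA : A →+* Aa) (lR : R →+* Ra) (ρ : Aa →+* Ra)
    (hcomm : ρ.comp lA = lR.comp (algebraMap A R))
    (hA : @IsLocalization.Away A _ a Aa _ lA.toAlgebra)
    (hR : @IsLocalization.Away R _ (algebraMap A R a) Ra _ lR.toAlgebra)
    (hfin : ρ.Finite) :
    ∃ F : Set R, F.Finite ∧ (∀ x ∈ F, IsIntegral A x) ∧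
      ∀ B : Subalgebra A R, F ⊆ B → ∀ y : Ra, ∃ r ∈ B, ∃ e : ℕ,
        lR r = lR (algebraMap A R a) ^ e * y := by
  letI : Algebra A Aa := lA.toAlgebra
  letI : Algebra R Ra := lR.toAlgebra
  letI : Algebra Aa Ra := ρ.toAlgebra
  letI : Algebra A Ra := (lR.comp (algebraMap A R)).toAlgebra
  haveI : IsScalarTower A Aa Ra := IsScalarTower.of_algebraMap_eq fun x => by
    show (lR.comp (algebraMap A R)) x = ρ (lA x)
    rw [← hcomm]; rfl
  haveI : IsScalarTower A R Ra := IsScalarTower.of_algebraMap_eq fun x => rfl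
  haveI : IsLocalization.Away a Aa := hA
  haveI : IsLocalization.Away (algebraMap A R a) Ra := hR
  haveI : Module.Finite Aa Ra := hfin
  exact exists_integral_numerators (A := A) (R := R) (Aa := Aa) (Ra := Ra) a

/-- Finitely many finite sets of integral elements lie in a common module-finite subalgebra. -/
theorem exists_finite_subalgebra {A R : Type*} [CommRing A] [CommRing R] [Algebra A R]
    {ι : Type*} (s : Set ι) (hs : s.Finite) (F : ι → Set R) (hF : ∀ j ∈ s, (F j).Finite)
    (hint : ∀ j ∈ s, ∀ x ∈ F j, IsIntegral A x) :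
    ∃ B : Subalgebra A R, Module.Finite A B ∧ ∀ j ∈ s, F j ⊆ B := by
  refine ⟨Algebra.adjoin A (⋃ j ∈ s, F j), ?_, ?_⟩
  · have hfg : (Algebra.adjoin A (⋃ j ∈ s, F j)).toSubmodule.FG := by
      apply fg_adjoin_of_finite
      · exact hs.biUnion hF
      · intro x hx
        simp only [Set.mem_iUnion, exists_prop] at hx
        obtain ⟨j, hj, hxj⟩ := hx
        exact hint j hj x hxj
    exact Module.Finite.of_fg hfg
  · intro j hj x hx
    apply Algebra.subset_adjoin
    simp only [Set.mem_iUnion, exists_prop]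
    exact ⟨j, hj, hx⟩

/-- A map between localizations away from `b` which restricts to an injective map on the base and
hits every element up to a power of `b` is bijective. -/
theorem bijective_of_away {B R B' R' : Type*} [CommRing B] [CommRing R] [CommRing B']
    [CommRing R'] (ι : B →+* R) (hι : Function.Injective ι) (b : B)
    (lB : B →+* B') (lR : R →+* R') (ψ : B' →+* R') (hcomm : ψ.comp lB = lR.comp ι)
    (hB : @IsLocalization.Away B _ b B' _ lB.toAlgebra)
    (hR : @IsLocalization.Away R _ (ι b) R' _ lR.toAlgebra)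
    (hsurj : ∀ y : R', ∃ r : B, ∃ e : ℕ, lR (ι r) = lR (ι b) ^ e * y) :
    Function.Bijective ψ := by
  letI : Algebra B B' := lB.toAlgebra
  letI : Algebra R R' := lR.toAlgebra
  haveI : IsLocalization.Away b B' := hB
  haveI : IsLocalization.Away (ι b) R' := hR
  have hψ : ∀ x, ψ (lB x) = lR (ι x) := fun x => RingHom.congr_fun hcomm x
  have hunitB : ∀ n : ℕ, IsUnit (lB (b ^ n)) := fun n =>
    IsLocalization.map_units B' (⟨b ^ n, n, rfl⟩ : Submonoid.powers b)
  have hunitR : ∀ n : ℕ, IsUnit (lR (ι b) ^ n) := fun n => by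
    have := IsLocalization.map_units R' (⟨(ι b) ^ n, n, rfl⟩ : Submonoid.powers (ι b))
    rw [← map_pow]
    exact this
  constructor
  · rw [injective_iff_map_eq_zero]
    intro x hx
    obtain ⟨⟨r, ⟨_, n, rfl⟩⟩, hxr⟩ := IsLocalization.surj (Submonoid.powers b) x
    have hxr' : x * lB (b ^ n) = lB r := hxr
    have h0 : lR (ι r) = 0 := by
      rw [← hψ, ← hxr', map_mul, hx, zero_mul]
    obtain ⟨⟨_, k, rfl⟩, hk⟩ := (IsLocalization.map_eq_zero_iff (Submonoid.powers (ι b)) R' (ι r)).mp h0
    have hk' : ι (b ^ k * r) = 0 := by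
      rw [map_mul, map_pow]; exact hk
    have hbr : b ^ k * r = 0 := hι (by rw [hk', map_zero])
    have hlr : lB r = 0 := by
      have : lB (b ^ k) * lB r = 0 := by rw [← map_mul, hbr, map_zero]
      exact (hunitB k).mul_right_eq_zero.mp this
    rw [hlr] at hxr'
    exact (hunitB n).mul_left_eq_zero.mp hxr'
  · intro y
    obtain ⟨r, e, hre⟩ := hsurj y
    refine ⟨IsLocalization.mk' B' r (⟨b ^ e, e, rfl⟩ : Submonoid.powers b), ?_⟩
    have h1 : IsLocalization.mk' B' r (⟨b ^ e, e, rfl⟩ : Submonoid.powers b) * lB (b ^ e) = lB r :=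
      IsLocalization.mk'_spec B' r _
    have h2 : ψ (IsLocalization.mk' B' r (⟨b ^ e, e, rfl⟩ : Submonoid.powers b)) * lR (ι b) ^ e
        = lR (ι b) ^ e * y := by
      rw [← hre, ← hψ r, ← h1, map_mul, hψ, map_pow, map_pow]
    rw [mul_comm] at h2
    exact (hunitR e).mul_left_cancel h2

end Groth.Agent.Lib.Helper20.FinExt
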