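import Mathlib
import Groth.Agent.Lib.Helper20.FinExt1

set_option autoImplicit false
universe u

open CategoryTheory AlgebraicGeometry TopologicalSpace Opposite

namespace Groth.Agent.Lib.Helper20.FinExt

/-- An affine morphism which induces isomorphisms on sections over an affine cover of the target
is an isomorphism. -/
theorem isIso_of_affine_cover {X Y : Scheme.{u}} (θ : X ⟶ Y) [IsAffineHom θ] {ι : Type*}
    (W : ι → Y.Opens) (hW : ∀ j, IsAffineOpen (W j)) (hsup : ⨆ j, W j = ⊤)
    (h : ∀ j, IsIso (θ.app (W j))) : IsIso θ := by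
  have : (MorphismProperty.isomorphisms Scheme.{u}) θ :=
    IsZariskiLocalAtTarget.of_iSup_eq_top (P := MorphismProperty.isomorphisms Scheme.{u}) W hsup
      (fun j => (isIso_morphismRestrict_iff_isIso_app θ (hW j)).mpr (h j))
  exact this

/-- The qcqs lemma for an open given as equal to a basic open. -/
theorem isLocalization_of_eq_basicOpen_qcqs {X : Scheme.{u}} [CompactSpace X]
    [QuasiSeparatedSpace X] (r : Γ(X, ⊤)) (W : X.Opens) (hW : W = X.basicOpen r) :
    @IsLocalization.Away Γ(X, ⊤) _ r Γ(X, W) _
      (X.presheaf.map (homOfLE (le_top : W ≤ ⊤)).op).hom.toAlgebra := by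
  subst hW
  exact isLocalization_basicOpen_of_qcqs (U := ⊤) isCompact_univ isQuasiSeparated_univ r

/-- Same for affine schemes. -/
theorem isLocalization_of_eq_basicOpen_affine {X : Scheme.{u}} [IsAffine X]
    (r : Γ(X, ⊤)) (W : X.Opens) (hW : W = X.basicOpen r) :
    @IsLocalization.Away Γ(X, ⊤) _ r Γ(X, W) _
      (X.presheaf.map (homOfLE (le_top : W ≤ ⊤)).op).hom.toAlgebra := by
  subst hW
  exact isLocalization_away_of_isAffine r

end Groth.Agent.Lib.Helper20.FinExt
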