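import Mathlib
import Groth.Agent.Lib.Helper20.FinExt1
import Groth.Agent.Lib.Helper20.FinExt2

set_option autoImplicit false
universe u

open CategoryTheory AlgebraicGeometry TopologicalSpace Opposite

namespace Groth.Agent.Lib.Helper20.FinExt

/-- finiteness of sections of `g ≫ U.ι` over a basic open contained in `U`. -/
theorem finite_app_comp_ι {X : Scheme.{u}} [IsAffine X] (U : X.Opens) (U' : Scheme.{u})
    (g : U' ⟶ (U : Scheme.{u})) [IsFinite g] (a : Γ(X, ⊤)) (ha : X.basicOpen a ≤ U) :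
    ((g ≫ U.ι).app (X.basicOpen a)).hom.Finite := by
  have hle : X.basicOpen a ≤ U.ι.opensRange := by rwa [Scheme.Opens.opensRange_ι]
  have hDa : IsAffineOpen (X.basicOpen a) := (isAffineOpen_top X).basicOpen a
  have haff : IsAffineOpen (U.ι ⁻¹ᵁ X.basicOpen a) := hDa.preimage_of_isOpenImmersion U.ι hle
  have h1 : (g.app (U.ι ⁻¹ᵁ X.basicOpen a)).hom.Finite := IsFinite.finite_app g _ haff
  haveI : IsIso (U.ι.app (X.basicOpen a)) := Scheme.Hom.isIso_app U.ι _ hle
  have h2 : (U.ι.app (X.basicOpen a)).hom.Finite :=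
    RingHom.Finite.of_surjective _ (ConcreteCategory.bijective_of_isIso (U.ι.app (X.basicOpen a))).2
  rw [Scheme.Hom.comp_app]
  exact RingHom.Finite.comp h1 h2

/-- Local isomorphism criterion over a basic open of an affine target. -/
theorem isIso_app_basicOpen {U' Y : Scheme.{u}} [CompactSpace U'] [QuasiSeparatedSpace U']
    [IsAffine Y] (i : U' ⟶ Y) (hinj : Function.Injective i.appTop.hom) (b₀ : Γ(Y, ⊤))
    (hsurj : ∀ y : Γ(U', i ⁻¹ᵁ Y.basicOpen b₀), ∃ r₀ : Γ(Y, ⊤), ∃ e : ℕ,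
      (U'.presheaf.map (homOfLE (le_top : i ⁻¹ᵁ Y.basicOpen b₀ ≤ ⊤)).op).hom (i.appTop.hom r₀) =
        ((U'.presheaf.map (homOfLE (le_top : i ⁻¹ᵁ Y.basicOpen b₀ ≤ ⊤)).op).hom
          (i.appTop.hom b₀)) ^ e * y) :
    IsIso (i.app (Y.basicOpen b₀)) := by
  have hcomm : (i.app (Y.basicOpen b₀)).hom.comp
      (Y.presheaf.map (homOfLE (le_top : Y.basicOpen b₀ ≤ ⊤)).op).hom =
      (U'.presheaf.map (homOfLE (le_top : i ⁻¹ᵁ Y.basicOpen b₀ ≤ ⊤)).op).hom.comp
        i.appTop.hom := by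
    ext x
    exact congr($(i.naturality (homOfLE (le_top : Y.basicOpen b₀ ≤ ⊤)).op).hom x)
  have hB := isLocalization_of_eq_basicOpen_affine b₀ (Y.basicOpen b₀) rfl
  have hR := isLocalization_of_eq_basicOpen_qcqs (i.appTop.hom b₀) (i ⁻¹ᵁ Y.basicOpen b₀)
    (Scheme.preimage_basicOpen i b₀)
  have hbij := bijective_of_away i.appTop.hom hinj b₀ _ _ _ hcomm hB hR hsurj
  exact (ConcreteCategory.isIso_iff_bijective _).mpr hbij

set_option maxHeartbeats 800000 in
/-- Main theorem over a general affine base. -/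
theorem main_affine {X : Scheme.{u}} [IsAffine X] (U : X.Opens) (hU : IsCompact (U : Set X))
    (U' : Scheme.{u}) (g : U' ⟶ (U : Scheme.{u})) [IsFinite g] :
    ∃ (B : Type u) (_ : CommRing B) (_ : Algebra Γ(X, ⊤) B)
      (i : U' ⟶ Spec (CommRingCat.of B)),
      Module.Finite Γ(X, ⊤) B ∧
      IsPullback i g (Spec.map (CommRingCat.ofHom (algebraMap Γ(X, ⊤) B)) ≫ X.isoSpec.inv)
        U.ι := by
  classical
  set f : U' ⟶ X := g ≫ U.ι with hf
  haveI : CompactSpace (U : Scheme.{u}) := isCompact_iff_compactSpace.mp hU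
  haveI : CompactSpace U' := QuasiCompact.compactSpace_of_compactSpace g
  haveI : QuasiSeparatedSpace U' := quasiSeparatedSpace_of_quasiSeparated f
  letI : Algebra Γ(X, ⊤) Γ(U', ⊤) := f.appTop.hom.toAlgebra
  obtain ⟨s, hs, hUs⟩ :=
    isCompact_and_isOpen_iff_finite_and_eq_biUnion_basicOpen.mp ⟨hU, U.isOpen⟩
  have hsU : ∀ a ∈ s, X.basicOpen a ≤ U := by
    intro a ha x hx
    show x ∈ (U : Set X)
    rw [hUs]
    exact Set.mem_biUnion ha hx
  -- numerators
  have hnum : ∀ a ∈ s, ∃ F : Set Γ(U', ⊤), F.Finite ∧ (∀ x ∈ F, IsIntegral Γ(X, ⊤) x) ∧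
      ∀ B : Subalgebra Γ(X, ⊤) Γ(U', ⊤), F ⊆ B → ∀ y : Γ(U', f ⁻¹ᵁ X.basicOpen a), ∃ r ∈ B,
        ∃ e : ℕ, (U'.presheaf.map (homOfLE (le_top : f ⁻¹ᵁ X.basicOpen a ≤ ⊤)).op).hom r =
          ((U'.presheaf.map (homOfLE (le_top : f ⁻¹ᵁ X.basicOpen a ≤ ⊤)).op).hom
            (f.appTop.hom a)) ^ e * y := by
    intro a ha
    refine exists_integral_numerators' (A := Γ(X, ⊤)) (R := Γ(U', ⊤)) a
      (X.presheaf.map (homOfLE (le_top : X.basicOpen a ≤ ⊤)).op).hom
      (U'.presheaf.map (homOfLE (le_top : f ⁻¹ᵁ X.basicOpen a ≤ ⊤)).op).hom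
      (f.app (X.basicOpen a)).hom ?_ ?_ ?_ ?_
    · ext x
      exact congr($(f.naturality (homOfLE (le_top : X.basicOpen a ≤ ⊤)).op).hom x)
    · exact isLocalization_of_eq_basicOpen_affine a (X.basicOpen a) rfl
    · exact isLocalization_of_eq_basicOpen_qcqs (f.appTop.hom a) (f ⁻¹ᵁ X.basicOpen a)
        (Scheme.preimage_basicOpen f a)
    · exact finite_app_comp_ι U U' g a (hsU a ha)
  choose! F hFfin hFint hFB using hnum
  obtain ⟨B, hBfin, hFsub⟩ := exists_finite_subalgebra s hs F hFfin hFint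
  let m : CommRingCat.of B ⟶ Γ(U', ⊤) := CommRingCat.ofHom B.val.toRingHom
  let i : U' ⟶ Spec (CommRingCat.of B) := U'.toSpecΓ ≫ Spec.map m
  let h : Spec (CommRingCat.of B) ⟶ X :=
    Spec.map (CommRingCat.ofHom (algebraMap Γ(X, ⊤) B)) ≫ X.isoSpec.inv
  have hm : CommRingCat.ofHom (algebraMap Γ(X, ⊤) B) ≫ m = f.appTop := by
    ext x
    rfl
  have comm : i ≫ h = f := by
    show (U'.toSpecΓ ≫ Spec.map m) ≫
      Spec.map (CommRingCat.ofHom (algebraMap Γ(X, ⊤) B)) ≫ X.isoSpec.inv = f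
    rw [Category.assoc, ← Category.assoc (Spec.map m), ← Spec.map_comp, hm,
      ← Scheme.toSpecΓ_naturality_assoc, ← Scheme.isoSpec_hom, Iso.hom_inv_id, Category.comp_id]
  refine ⟨B, inferInstance, inferInstance, i, hBfin, ?_⟩
  show IsPullback i g h U.ι
  have PB := isPullback_morphismRestrict h U
  have comm' : g ≫ U.ι = i ≫ h := comm.symm
  let θ : U' ⟶ (h ⁻¹ᵁ U : Scheme.{u}) := PB.lift g i comm'
  have hθ1 : θ ≫ (h ∣_ U) = g := PB.lift_fst g i comm'
  have hθ2 : θ ≫ (h ⁻¹ᵁ U).ι = i := PB.lift_snd g i comm'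
  have hiso : IsIso θ := by
    haveI : IsAffineHom (θ ≫ (h ∣_ U)) := by rw [hθ1]; infer_instance
    haveI : IsAffineHom θ := IsAffineHom.of_comp θ (h ∣_ U)
    let Y : Scheme.{u} := Spec (CommRingCat.of B)
    let b : Γ(X, ⊤) → Γ(Y, ⊤) := fun a => h.appTop.hom a
    have hb : ∀ a, h ⁻¹ᵁ X.basicOpen a = Y.basicOpen (b a) :=
      fun a => Scheme.preimage_basicOpen h a
    have hble : ∀ a ∈ s, Y.basicOpen (b a) ≤ (h ⁻¹ᵁ U).ι.opensRange := by
      intro a ha
      rw [Scheme.Opens.opensRange_ι, ← hb a]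
      intro x hx
      exact hsU a ha hx
    have hiTop : i.appTop = (Scheme.ΓSpecIso (CommRingCat.of B)).hom ≫ m := by
      simp [i, Scheme.ΓSpecIso_naturality]
    have hiTop' : ∀ x, i.appTop.hom x =
        ((Scheme.ΓSpecIso (CommRingCat.of B)).hom.hom x : B).1 := fun x => congr($(hiTop).hom x)
    have hinj : Function.Injective i.appTop.hom := by
      intro x y hxy
      rw [hiTop', hiTop'] at hxy
      exact (ConcreteCategory.bijective_of_isIso (Scheme.ΓSpecIso (CommRingCat.of B)).hom).1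
        (Subtype.ext hxy)
    refine isIso_of_affine_cover θ (ι := s)
      (fun a => (h ⁻¹ᵁ U).ι ⁻¹ᵁ Y.basicOpen (b a.1)) ?_ ?_ ?_
    · intro a
      exact ((isAffineOpen_top Y).basicOpen (b a.1)).preimage_of_isOpenImmersion _ (hble a.1 a.2)
    · rw [eq_top_iff]
      intro x _
      have hx : h ((h ⁻¹ᵁ U).ι x) ∈ (U : Set X) := x.2
      rw [hUs] at hx
      obtain ⟨a, ha, hxa⟩ := Set.mem_iUnion₂.mp hx
      rw [Opens.mem_iSup]
      refine ⟨⟨a, ha⟩, ?_⟩
      show (h ⁻¹ᵁ U).ι x ∈ Y.basicOpen (b a)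
      rw [← hb a]
      exact hxa
    · rintro ⟨a, ha⟩
      have hWeq : i ⁻¹ᵁ Y.basicOpen (b a) = f ⁻¹ᵁ X.basicOpen a := by
        rw [← hb a, ← Scheme.Hom.comp_preimage, comm]
      have hba : i.appTop.hom (b a) = f.appTop.hom a := by
        have : (i ≫ h).appTop = f.appTop := by rw [comm]
        rw [Scheme.Hom.comp_appTop] at this
        exact congr($(this).hom a)
      have key : ∀ (W : U'.Opens) (hW : W = f ⁻¹ᵁ X.basicOpen a) (y : Γ(U', W)), ∃ r ∈ B,
          ∃ e : ℕ, (U'.presheaf.map (homOfLE (le_top : W ≤ ⊤)).op).hom r =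
            ((U'.presheaf.map (homOfLE (le_top : W ≤ ⊤)).op).hom (f.appTop.hom a)) ^ e * y := by
        rintro W rfl y
        exact hFB a ha B (hFsub a ha) y
      have h1 : IsIso (i.app (Y.basicOpen (b a))) := by
        apply isIso_app_basicOpen i hinj (b a)
        intro y
        obtain ⟨r, hr, e, hre⟩ := key _ hWeq y
        refine ⟨(Scheme.ΓSpecIso (CommRingCat.of B)).inv.hom ⟨r, hr⟩, e, ?_⟩
        have hr' : i.appTop.hom ((Scheme.ΓSpecIso (CommRingCat.of B)).inv.hom ⟨r, hr⟩) = r := by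
          rw [hiTop']
          simp
        rw [hba, hr']
        exact hre
      haveI : IsIso ((h ⁻¹ᵁ U).ι.app (Y.basicOpen (b a))) :=
        Scheme.Hom.isIso_app _ _ (hble a ha)
      have h2 : ∀ j : U' ⟶ Y, j = i → IsIso (j.app (Y.basicOpen (b a))) := by
        rintro _ rfl
        exact h1
      have h3 := h2 _ hθ2
      rw [Scheme.Hom.comp_app] at h3
      exact @IsIso.of_isIso_comp_left _ _ _ _ _ ((h ⁻¹ᵁ U).ι.app (Y.basicOpen (b a))) _
        inferInstance h3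
  refine IsPullback.of_iso PB.flip (asIso θ).symm (Iso.refl _) (Iso.refl _) (Iso.refl _)
    ?_ ?_ ?_ ?_
  · simp [← hθ2]
  · simp [← hθ1]
  · simp
  · simp

/-- Main theorem over `Spec A`. -/
theorem main_Spec (A : Type u) [CommRing A] (U : (Spec (CommRingCat.of A)).Opens)
    (hU : IsCompact (U : Set (Spec (CommRingCat.of A))))
    (U' : Scheme.{u}) (g : U' ⟶ (U : Scheme.{u})) [IsFinite g] :
    ∃ (B : Type u) (_ : CommRing B) (_ : Algebra A B) (i : U' ⟶ Spec (CommRingCat.of B)),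
      Module.Finite A B ∧
        IsPullback i g (Spec.map (CommRingCat.ofHom (algebraMap A B))) U.ι := by
  obtain ⟨B, _, _, i, hfin, hpb⟩ := main_affine U hU U' g
  let e := Scheme.ΓSpecIso (CommRingCat.of A)
  letI : Algebra A B :=
    ((algebraMap Γ(Spec (CommRingCat.of A), ⊤) B).comp e.inv.hom).toAlgebra
  refine ⟨B, inferInstance, inferInstance, i, ?_, ?_⟩
  · have h1 : (algebraMap Γ(Spec (CommRingCat.of A), ⊤) B).Finite :=
      RingHom.finite_algebraMap.mpr hfin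
    have h2 : e.inv.hom.Finite :=
      RingHom.Finite.of_surjective _ (ConcreteCategory.bijective_of_isIso e.inv).2
    have h3 := RingHom.Finite.comp h1 h2
    exact RingHom.finite_algebraMap.mp h3
  · have : Spec.map (CommRingCat.ofHom (algebraMap A B)) =
        Spec.map (CommRingCat.ofHom (algebraMap Γ(Spec (CommRingCat.of A), ⊤) B)) ≫
          (Spec (CommRingCat.of A)).isoSpec.inv := by
      rw [Scheme.isoSpec_Spec_inv, ← Spec.map_comp]
      rfl
    rw [this]
    exact hpb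

end Groth.Agent.Lib.Helper20.FinExt
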