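import Mathlib.AlgebraicTopology.SimplexCategory.Truncated
import Mathlib.AlgebraicTopology.SimplicialObject.Basic
import Mathlib.CategoryTheory.Comma.StructuredArrow.Basic
import Mathlib.CategoryTheory.FinCategory.Basic
import Mathlib.CategoryTheory.Limits.Shapes.FiniteLimits
import Mathlib.CategoryTheory.Functor.KanExtension.Pointwise
import Mathlib.Data.Finite.Sigma

/-!
# Finiteness of (co)structured arrow categories, with application to the
truncated simplex category.
-/

universe v₁ v₂ u₁ u₂

namespace Groth.Agent.Lib.Helper20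

open CategoryTheory CategoryTheory.Limits Opposite

section General

variable {C : Type u₁} [Category.{v₁} C] {D : Type u₂} [Category.{v₂} D]

lemma finite_structuredArrow (X : D) (F : C ⥤ D) [Finite C] [∀ c, Finite (X ⟶ F.obj c)] :
    Finite (StructuredArrow X F) := by
  have : Function.Injective
      (fun f : StructuredArrow X F ↦ (⟨f.right, f.hom⟩ : Σ c : C, X ⟶ F.obj c)) := by
    rintro ⟨⟨⟨⟩⟩, r, h⟩ ⟨⟨⟨⟩⟩, r', h'⟩ e
    simp only [Sigma.mk.injEq] at e
    obtain ⟨rfl, e⟩ := e
    obtain rfl := eq_of_heq e
    rfl
  exact Finite.of_injective _ this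

lemma finite_structuredArrow_hom (X : D) (F : C ⥤ D) [∀ a b : C, Finite (a ⟶ b)]
    (f g : StructuredArrow X F) : Finite (f ⟶ g) :=
  Finite.of_injective (fun φ : f ⟶ g ↦ φ.right) (fun _ _ h ↦ StructuredArrow.ext _ _ h)

lemma finite_costructuredArrow (F : C ⥤ D) (X : D) [Finite C] [∀ c, Finite (F.obj c ⟶ X)] :
    Finite (CostructuredArrow F X) := by
  have : Function.Injective
      (fun f : CostructuredArrow F X ↦ (⟨f.left, f.hom⟩ : Σ c : C, F.obj c ⟶ X)) := by
    rintro ⟨l, ⟨⟨⟩⟩, h⟩ ⟨l', ⟨⟨⟩⟩, h'⟩ e
    simp only [Sigma.mk.injEq] at e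
    obtain ⟨rfl, e⟩ := e
    obtain rfl := eq_of_heq e
    rfl
  exact Finite.of_injective _ this

lemma finite_costructuredArrow_hom (F : C ⥤ D) (X : D) [∀ a b : C, Finite (a ⟶ b)]
    (f g : CostructuredArrow F X) : Finite (f ⟶ g) :=
  Finite.of_injective (fun φ : f ⟶ g ↦ φ.left) (fun _ _ h ↦ CostructuredArrow.ext _ _ h)

end General

section Truncated

instance finite_truncated (m : ℕ) : Finite (SimplexCategory.Truncated m) := by
  have : Function.Injective
      (fun a : SimplexCategory.Truncated m ↦ (⟨a.obj.len, Nat.lt_succ_of_le a.property⟩ :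
        Fin (m + 1))) := by
    rintro ⟨a, ha⟩ ⟨b, hb⟩ e
    simp only [Fin.mk.injEq] at e
    obtain rfl : a = b := SimplexCategory.ext e
    rfl
  exact Finite.of_injective _ this

instance finite_truncated_hom (m : ℕ) (a b : SimplexCategory.Truncated m) : Finite (a ⟶ b) :=
  Finite.of_equiv _ (InducedCategory.homEquiv).symm

instance finite_truncated_op (m : ℕ) : Finite (SimplexCategory.Truncated m)ᵒᵖ :=
  Finite.of_equiv _ equivToOpposite

instance finite_truncated_op_hom (m : ℕ) (a b : (SimplexCategory.Truncated m)ᵒᵖ) :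
    Finite (a ⟶ b) :=
  Finite.of_equiv _ (opEquiv a b).symm

instance finite_simplexCategory_op_hom (a b : SimplexCategoryᵒᵖ) : Finite (a ⟶ b) :=
  Finite.of_equiv _ (opEquiv a b).symm

noncomputable instance finCategory_structuredArrow_truncated (m : ℕ) (X : SimplexCategoryᵒᵖ) :
    FinCategory (StructuredArrow X (SimplexCategory.Truncated.inclusion m).op) where
  fintypeObj := by
    have := finite_structuredArrow X (SimplexCategory.Truncated.inclusion m).op
    exact Fintype.ofFinite _
  fintypeHom f g := by
    have := finite_structuredArrow_hom X (SimplexCategory.Truncated.inclusion m).op f g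
    exact Fintype.ofFinite _

noncomputable instance finCategory_costructuredArrow_truncated (m : ℕ) (X : SimplexCategoryᵒᵖ) :
    FinCategory (CostructuredArrow (SimplexCategory.Truncated.inclusion m).op X) where
  fintypeObj := by
    have := finite_costructuredArrow (SimplexCategory.Truncated.inclusion m).op X
    exact Fintype.ofFinite _
  fintypeHom f g := by
    have := finite_costructuredArrow_hom (SimplexCategory.Truncated.inclusion m).op X f g
    exact Fintype.ofFinite _

variable {C : Type u₁} [Category.{v₁} C]

lemma hasPointwiseRightKanExtension_truncated [HasFiniteLimits C] (m : ℕ)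
    (U : (SimplexCategory.Truncated m)ᵒᵖ ⥤ C) :
    (SimplexCategory.Truncated.inclusion m).op.HasPointwiseRightKanExtension U := by
  intro Y
  dsimp only [Functor.HasPointwiseRightKanExtensionAt]
  infer_instance

lemma hasPointwiseLeftKanExtension_truncated [HasFiniteColimits C] (m : ℕ)
    (U : (SimplexCategory.Truncated m)ᵒᵖ ⥤ C) :
    (SimplexCategory.Truncated.inclusion m).op.HasPointwiseLeftKanExtension U := by
  intro Y
  dsimp only [Functor.HasPointwiseLeftKanExtensionAt]
  infer_instance

end Truncated

end Groth.Agent.Lib.Helper20
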