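import Mathlib
import Groth.Agent.Lib.Helper22.FibreDim

/-!
# Degree of the `q`-Frobenius of a finitely generated field over a perfect field (helper20)

`deg f` is the degree `[E' : f(E)]` of a ring homomorphism of fields.  Main result `deg_eq_pow`:
if `L` is the fraction field of a finitely generated domain `B` over a perfect field `k` of
characteristic `p`, and `ψ : E → L` is a ring homomorphism whose image is `L^q`, `q = p^a`, then
`deg ψ = q ^ dim B`.
-/

set_option autoImplicit false

namespace Groth.Agent.Lib.Helper20.FrobDeg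

/-- degree of a ring homomorphism (rank of the target as a module over the source; `0` if
infinite) -/
noncomputable def deg {E E' : Type*} [CommSemiring E] [CommSemiring E'] (f : E →+* E') : ℕ :=
  @Module.finrank E E' _ _ f.toAlgebra.toModule

theorem deg_comp {E E' E'' : Type*} [Field E] [Field E'] [Field E''] (f : E →+* E')
    (g : E' →+* E'') : deg (g.comp f) = deg f * deg g := by
  let _ := f.toAlgebra
  let _ := g.toAlgebra
  let _ := (g.comp f).toAlgebra
  have : IsScalarTower E E' E'' := IsScalarTower.of_algebraMap_eq fun _ => rfl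
  exact (Module.finrank_mul_finrank E E' E'').symm

theorem deg_of_bijective {E E' : Type*} [Field E] [Field E'] (f : E →+* E')
    (hf : Function.Bijective f) : deg f = 1 := by
  let _ := f.toAlgebra
  let l : E →ₗ[E] E' :=
    { toFun := f
      map_add' := map_add f
      map_smul' := fun c x => by
        rw [smul_eq_mul, map_mul, Algebra.smul_def]
        rfl }
  have e : E ≃ₗ[E] E' := LinearEquiv.ofBijective l hf
  change Module.finrank E E' = 1
  rw [← e.finrank_eq, Module.finrank_self]

theorem deg_eq_of_range_eq {E₁ E₂ L : Type*} [Field E₁] [Field E₂] [Field L] (f : E₁ →+* L)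
    (g : E₂ →+* L) (h : ∀ x, (∃ y, f y = x) ↔ ∃ y, g y = x) : deg f = deg g := by
  have hr : f.range = g.range := by
    ext x
    rw [RingHom.mem_range, RingHom.mem_range]
    exact h x
  let e₁ : E₁ ≃+* f.range := RingEquiv.ofBijective f.rangeRestrict
    ⟨(RingHom.injective _), f.rangeRestrict_surjective⟩
  let e₂ : E₂ ≃+* g.range := RingEquiv.ofBijective g.rangeRestrict
    ⟨(RingHom.injective _), g.rangeRestrict_surjective⟩
  let σ : E₁ ≃+* E₂ := (e₁.trans (RingEquiv.subringCongr hr)).trans e₂.symm
  have hσ : g.comp σ.toRingHom = f := by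
    ext x
    have h1 : e₂ (σ x) = RingEquiv.subringCongr hr (e₁ x) := by
      change e₂ (e₂.symm _) = _
      rw [RingEquiv.apply_symm_apply]
      rfl
    have h2 := congrArg Subtype.val h1
    exact h2
  rw [← hσ, deg_comp, deg_of_bijective _ σ.bijective, one_mul]



section MvPoly

variable {k : Type*} [Field k] (p : ℕ) [hp : Fact p.Prime] [CharP k p] (s a : ℕ)

/-- the exponent vector attached to `e` -/
noncomputable def expo (e : Fin s → Fin (p ^ a)) : Fin s →₀ ℕ :=
  Finsupp.equivFunOnFinite.symm (fun i => (e i : ℕ))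

@[simp] theorem expo_apply (e : Fin s → Fin (p ^ a)) (i : Fin s) : expo p s a e i = (e i : ℕ) := rfl

variable {s}

theorem coeff_pow_q (f : MvPolynomial (Fin s) k) (m : Fin s →₀ ℕ) :
    MvPolynomial.coeff ((p ^ a) • m) (f ^ p ^ a) = (MvPolynomial.coeff m f) ^ p ^ a := by
  rw [← MvPolynomial.map_iterateFrobenius_expand p f a, MvPolynomial.coeff_map,
    MvPolynomial.coeff_expand_smul _ (pow_ne_zero _ hp.out.ne_zero), iterateFrobenius_def]

theorem coeff_pow_q_of_not_dvd (f : MvPolynomial (Fin s) k) (m : Fin s →₀ ℕ) (i : Fin s)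
    (h : ¬ p ^ a ∣ m i) : MvPolynomial.coeff m (f ^ p ^ a) = 0 := by
  rw [← MvPolynomial.map_iterateFrobenius_expand p f a, MvPolynomial.coeff_map,
    MvPolynomial.coeff_expand_of_not_dvd _ h, map_zero]

theorem poly_indep (c : (Fin s → Fin (p ^ a)) → MvPolynomial (Fin s) k)
    (h : ∑ e, (c e) ^ p ^ a * MvPolynomial.monomial (expo p s a e) (1 : k) = 0) :
    ∀ e, c e = 0 := by
  intro e₀
  ext m
  have h1 := congrArg (MvPolynomial.coeff ((p ^ a) • m + expo p s a e₀)) h
  rw [MvPolynomial.coeff_sum, MvPolynomial.coeff_zero] at h1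
  rw [Finset.sum_eq_single e₀] at h1
  · rw [MvPolynomial.coeff_mul_monomial', if_pos le_add_self, add_tsub_cancel_right, mul_one,
      coeff_pow_q] at h1
    rw [MvPolynomial.coeff_zero]
    exact pow_eq_zero_iff (pow_ne_zero _ hp.out.ne_zero) |>.mp h1
  · intro e _ hne
    rw [MvPolynomial.coeff_mul_monomial']
    split_ifs with hle
    · rw [mul_one]
      obtain ⟨i, hi⟩ := Function.ne_iff.mp hne
      apply coeff_pow_q_of_not_dvd p a _ _ i
      intro hdvd
      apply hi
      have hle_i := hle i
      rw [Finsupp.tsub_apply, Finsupp.add_apply, Finsupp.smul_apply, expo_apply, expo_apply,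
        smul_eq_mul] at hdvd
      rw [Finsupp.add_apply, Finsupp.smul_apply, expo_apply, expo_apply, smul_eq_mul] at hle_i
      obtain ⟨u, hu⟩ := hdvd
      have h2 : p ^ a * u + (e i : ℕ) = p ^ a * m i + (e₀ i : ℕ) := by omega
      have h3 := congrArg (· % p ^ a) h2
      simp only [Nat.mul_add_mod] at h3
      rw [Nat.mod_eq_of_lt (e i).2, Nat.mod_eq_of_lt (e₀ i).2] at h3
      exact Fin.ext h3
    · rfl
  · intro h
    exact absurd (Finset.mem_univ _) h

end MvPoly


section FieldPart

variable {k : Type*} [Field k] (p : ℕ) [hp : Fact p.Prime] [CharP k p] {s : ℕ} (a : ℕ)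
  (M : Type*) [Field M] [Algebra (MvPolynomial (Fin s) k) M]
  [IsFractionRing (MvPolynomial (Fin s) k) M]
  {E : Type*} [Field E] (ψ : E →+* M)

/-- the candidate basis of `M` over `M^q` -/
noncomputable def vec (e : Fin s → Fin (p ^ a)) : M :=
  algebraMap (MvPolynomial (Fin s) k) M (MvPolynomial.monomial (expo p s a e) 1)

theorem linIndep (h1 : ∀ x : E, ∃ y : M, ψ x = y ^ p ^ a) :
    @LinearIndependent _ E M (vec (k := k) (s := s) p a M) _ _ ψ.toAlgebra.toModule := by
  letI := ψ.toAlgebra
  rw [Fintype.linearIndependent_iff]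
  intro g hg e
  choose y hy using h1
  obtain ⟨d, hd⟩ := IsLocalization.exist_integer_multiples_of_finite
    (nonZeroDivisors (MvPolynomial (Fin s) k)) (fun e => y (g e))
  choose f hf using hd
  have hd0 : algebraMap (MvPolynomial (Fin s) k) M (d : MvPolynomial (Fin s) k) ≠ 0 := by
    intro h
    have := (IsFractionRing.injective (MvPolynomial (Fin s) k) M) (h.trans (map_zero _).symm)
    exact nonZeroDivisors.coe_ne_zero d this
  have hterm : ∀ e, algebraMap (MvPolynomial (Fin s) k) M
      (f e ^ p ^ a * MvPolynomial.monomial (expo p s a e) (1 : k)) =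
      (algebraMap (MvPolynomial (Fin s) k) M (d : MvPolynomial (Fin s) k)) ^ p ^ a *
        (g e • vec (k := k) (s := s) p a M e) := by
    intro e
    have h3 : g e • vec (k := k) (s := s) p a M e = ψ (g e) * vec (k := k) (s := s) p a M e := Algebra.smul_def _ _
    rw [map_mul, map_pow, hf e, h3, hy (g e), Algebra.smul_def, mul_pow, mul_assoc]
    rfl
  have key : algebraMap (MvPolynomial (Fin s) k) M
      (∑ e, f e ^ p ^ a * MvPolynomial.monomial (expo p s a e) (1 : k)) = 0 := by
    rw [map_sum, Finset.sum_congr rfl (fun e _ => hterm e), ← Finset.mul_sum, hg, mul_zero]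
  have hf0 := poly_indep p a f
    ((IsFractionRing.injective (MvPolynomial (Fin s) k) M) (key.trans (map_zero _).symm)) e
  have h4 := hf e
  rw [hf0, map_zero, Algebra.smul_def] at h4
  have h5 : y (g e) = 0 := by
    rcases mul_eq_zero.mp h4.symm with h | h
    · exact absurd h hd0
    · exact h
  have h6 : ψ (g e) = 0 := by
    rw [hy, h5, zero_pow (pow_ne_zero _ hp.out.ne_zero)]
  exact (map_eq_zero ψ).mp h6


theorem span_top (hk : ∀ c : k, ∃ c' : k, c' ^ p ^ a = c)
    (h2 : ∀ y : M, ∃ x : E, ψ x = y ^ p ^ a) :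
    ⊤ ≤ @Submodule.span E M _ _ ψ.toAlgebra.toModule
      (Set.range (vec (k := k) (s := s) p a M)) := by
  let _ := ψ.toAlgebra
  set V := Submodule.span E (Set.range (vec (k := k) (s := s) p a M)) with hV
  have hq : 0 < p ^ a := pow_pos hp.out.pos _
  have hmono : ∀ (m : Fin s →₀ ℕ) (c : k),
      algebraMap (MvPolynomial (Fin s) k) M (MvPolynomial.monomial m c) ∈ V := by
    intro m c
    let mq : Fin s →₀ ℕ := Finsupp.equivFunOnFinite.symm (fun i => m i / p ^ a)
    let e : Fin s → Fin (p ^ a) := fun i => ⟨m i % p ^ a, Nat.mod_lt _ hq⟩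
    obtain ⟨c', hc'⟩ := hk c
    obtain ⟨x, hx⟩ := h2 (algebraMap (MvPolynomial (Fin s) k) M (MvPolynomial.monomial mq c'))
    have hm : (p ^ a) • mq + expo p s a e = m := by
      ext i
      rw [Finsupp.add_apply, Finsupp.smul_apply, expo_apply, smul_eq_mul]
      exact Nat.div_add_mod (m i) (p ^ a)
    have h3 : algebraMap (MvPolynomial (Fin s) k) M (MvPolynomial.monomial m c) =
        x • vec (k := k) (s := s) p a M e := by
      have h4 : x • vec (k := k) (s := s) p a M e = ψ x * vec (k := k) (s := s) p a M e :=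
        Algebra.smul_def _ _
      rw [h4, hx, vec, ← map_pow, ← map_mul, MvPolynomial.monomial_pow,
        MvPolynomial.monomial_mul, mul_one, hc', hm]
    rw [h3]
    exact V.smul_mem x (Submodule.subset_span ⟨e, rfl⟩)
  have hpoly : ∀ f : MvPolynomial (Fin s) k, algebraMap (MvPolynomial (Fin s) k) M f ∈ V := by
    intro f
    induction f using MvPolynomial.induction_on' with
    | monomial m c => exact hmono m c
    | add f g hf hg => rw [map_add]; exact V.add_mem hf hg
  intro z _
  obtain ⟨f, d, hd, rfl⟩ := IsFractionRing.div_surjective (A := MvPolynomial (Fin s) k) z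
  have hd0 : algebraMap (MvPolynomial (Fin s) k) M d ≠ 0 := by
    intro h
    have := (IsFractionRing.injective (MvPolynomial (Fin s) k) M) (h.trans (map_zero _).symm)
    exact nonZeroDivisors.ne_zero hd this
  obtain ⟨x, hx⟩ := h2 (algebraMap (MvPolynomial (Fin s) k) M d)⁻¹
  have h5 : algebraMap (MvPolynomial (Fin s) k) M f / algebraMap (MvPolynomial (Fin s) k) M d =
      x • algebraMap (MvPolynomial (Fin s) k) M (f * d ^ (p ^ a - 1)) := by
    have h4 : x • algebraMap (MvPolynomial (Fin s) k) M (f * d ^ (p ^ a - 1)) =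
        ψ x * algebraMap (MvPolynomial (Fin s) k) M (f * d ^ (p ^ a - 1)) :=
      Algebra.smul_def _ _
    rw [h4, hx, map_mul, map_pow, inv_pow]
    have h6 : (algebraMap (MvPolynomial (Fin s) k) M d) ^ p ^ a =
        (algebraMap (MvPolynomial (Fin s) k) M d) ^ (p ^ a - 1) *
          algebraMap (MvPolynomial (Fin s) k) M d := by
      rw [← pow_succ, Nat.sub_add_cancel hq]
    rw [h6]
    field_simp
  rw [h5]
  exact V.smul_mem x (hpoly _)

theorem deg_eq_pow_mvPolynomial (hk : ∀ c : k, ∃ c' : k, c' ^ p ^ a = c)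
    (h1 : ∀ x : E, ∃ y : M, ψ x = y ^ p ^ a)
    (h2 : ∀ y : M, ∃ x : E, ψ x = y ^ p ^ a) : deg ψ = (p ^ a) ^ s := by
  let _ := ψ.toAlgebra
  let b : Module.Basis (Fin s → Fin (p ^ a)) E M :=
    Module.Basis.mk (linIndep p a M ψ h1) (span_top p a M ψ hk h2)
  change Module.finrank E M = _
  rw [Module.finrank_eq_card_basis b, Fintype.card_fun, Fintype.card_fin, Fintype.card_fin]

end FieldPart


section Tower

theorem deg_algebraMap (M L : Type*) [Field M] [Field L] [Algebra M L] :
    deg (algebraMap M L) = Module.finrank M L := by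
  unfold deg
  have : (algebraMap M L).toAlgebra = (inferInstance : Algebra M L) :=
    Algebra.algebra_ext _ _ fun r => rfl
  rw [this]

theorem deg_iterateFrobenius_eq_of_finite (M L : Type*) [Field M] [Field L] [Algebra M L]
    [FiniteDimensional M L] (p : ℕ) [Fact p.Prime] [CharP M p] [CharP L p] (a : ℕ) :
    deg (iterateFrobenius L p a) = deg (iterateFrobenius M p a) := by
  have h1 : (iterateFrobenius L p a).comp (algebraMap M L) =
      (algebraMap M L).comp (iterateFrobenius M p a) := by
    ext x
    simp [iterateFrobenius_def]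
  have h2 := deg_comp (algebraMap M L) (iterateFrobenius L p a)
  have h3 := deg_comp (iterateFrobenius M p a) (algebraMap M L)
  rw [h1, h3] at h2
  have hpos : 0 < deg (algebraMap M L) := by
    rw [deg_algebraMap]
    exact Module.finrank_pos
  rw [mul_comm] at h2
  exact (Nat.eq_of_mul_eq_mul_left hpos h2).symm

end Tower

section Main

universe u

theorem deg_eq_pow (k : Type u) [Field k] (p : ℕ) [Fact p.Prime] [CharP k p] (a : ℕ)
    (hk : ∀ c : k, ∃ c' : k, c' ^ p ^ a = c)
    (B : Type u) [CommRing B] [IsDomain B] [Algebra k B] [Algebra.FiniteType k B]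
    (L : Type u) [Field L] [Algebra B L] [IsFractionRing B L]
    (n : ℕ) (hn : ringKrullDim B = n)
    {E : Type*} [Field E] (ψ : E →+* L)
    (h1 : ∀ x : E, ∃ y : L, ψ x = y ^ p ^ a) (h2 : ∀ y : L, ∃ x : E, ψ x = y ^ p ^ a) :
    deg ψ = (p ^ a) ^ n := by
  let _ : Algebra k L := ((algebraMap B L).comp (algebraMap k B)).toAlgebra
  have : IsScalarTower k B L := IsScalarTower.of_algebraMap_eq fun _ => rfl
  have hcL : CharP L p := charP_of_injective_algebraMap (algebraMap k L).injective p
  -- Step 1: replace ψ by the Frobenius of L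
  have hstep1 : deg ψ = deg (iterateFrobenius L p a) := by
    refine deg_eq_of_range_eq _ _ fun x => ⟨?_, ?_⟩
    · rintro ⟨y, rfl⟩
      obtain ⟨z, hz⟩ := h1 y
      exact ⟨z, by rw [iterateFrobenius_def, hz]⟩
    · rintro ⟨y, rfl⟩
      obtain ⟨z, hz⟩ := h2 y
      exact ⟨z, by rw [iterateFrobenius_def, hz]⟩
  -- Noether normalisation
  obtain ⟨s, g, hinj, hfin⟩ := exists_finite_inj_algHom_of_fg k B
  have hint : ∀ b : B, g.toRingHom.IsIntegralElem b := fun b => hfin.to_isIntegral b
  have hs : ringKrullDim B = s :=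
    Groth.Agent.Lib.Helper22.ringKrullDim_eq_of_finite_inj s g hinj hint
  have hns : n = s := by
    have := hn.symm.trans hs
    exact_mod_cast this
  subst hns
  let _ : Algebra (MvPolynomial (Fin n) k) B := g.toRingHom.toAlgebra
  have hfinPB : Module.Finite (MvPolynomial (Fin n) k) B := hfin
  let _ : Algebra (MvPolynomial (Fin n) k) L :=
    ((algebraMap B L).comp (algebraMap (MvPolynomial (Fin n) k) B)).toAlgebra
  have : IsScalarTower (MvPolynomial (Fin n) k) B L := IsScalarTower.of_algebraMap_eq fun _ => rfl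
  have hPB : Function.Injective (algebraMap (MvPolynomial (Fin n) k) B) := hinj
  have : FaithfulSMul (MvPolynomial (Fin n) k) B :=
    (faithfulSMul_iff_algebraMap_injective _ _).mpr hPB
  have : FaithfulSMul (MvPolynomial (Fin n) k) L :=
    (faithfulSMul_iff_algebraMap_injective _ _).mpr
      ((IsFractionRing.injective B L).comp hPB)
  let _ : Algebra (FractionRing (MvPolynomial (Fin n) k)) L :=
    FractionRing.liftAlgebra (MvPolynomial (Fin n) k) L
  have : IsScalarTower (MvPolynomial (Fin n) k) (FractionRing (MvPolynomial (Fin n) k)) L :=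
    FractionRing.isScalarTower_liftAlgebra _ _
  have : Algebra.IsAlgebraic (MvPolynomial (Fin n) k) B := Algebra.IsIntegral.isAlgebraic
  have hfd : Module.Finite (FractionRing (MvPolynomial (Fin n) k)) L :=
    Module.Finite.of_isLocalization (MvPolynomial (Fin n) k) B
      (nonZeroDivisors (MvPolynomial (Fin n) k))
  let _ : Algebra k (FractionRing (MvPolynomial (Fin n) k)) := inferInstance
  have hcM : CharP (FractionRing (MvPolynomial (Fin n) k)) p :=
    charP_of_injective_algebraMap
      (algebraMap k (FractionRing (MvPolynomial (Fin n) k))).injective p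
  rw [hstep1, deg_iterateFrobenius_eq_of_finite (FractionRing (MvPolynomial (Fin n) k)) L p a]
  exact deg_eq_pow_mvPolynomial p a (FractionRing (MvPolynomial (Fin n) k)) _ hk
    (fun x => ⟨x, iterateFrobenius_def _ _ _⟩) (fun y => ⟨y, iterateFrobenius_def _ _ _⟩)

end Main


end Groth.Agent.Lib.Helper20.FrobDeg
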