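import Mathlib
import Groth.Agent.Lib.Helper20.DimTrdeg
import Groth.Agent.Lib.Helper20.FrobDeg

/-!
# The geometric Frobenius of a base change has degree `q ^ dim` (helper20)

`residueDegree_frob`: for `X` over a finite field `k₀` with `q` elements with `q`-Frobenius `FX`,
`Y = X ×_{k₀} k` integral and locally of finite type over the algebraically closed field `k`, and
`Fm = FX × id`, the residue degree of `Fm` at the generic point of `Y` is `q ^ dim Y`;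
`frob_genericPoint`: `Fm` fixes the generic point.
-/

set_option autoImplicit false

namespace Groth.Agent.Lib.Helper20.FrobScheme

universe u

open AlgebraicGeometry CategoryTheory Opposite TopologicalSpace Limits
open Groth.Agent.Lib.Helper20.DimTrdeg Groth.Agent.Lib.Helper20.FrobDeg

section

variable {k₀ : Type u} [Field k₀] [Finite k₀]
  {X : Scheme.{u}} (f : X ⟶ Spec (CommRingCat.of k₀))
  (FX : X ⟶ X) (hle : ∀ U : X.Opens, U ≤ FX ⁻¹ᵁ U)
  (hFapp : ∀ (U : X.Opens) (s : Γ(X, U)), (FX.appLE U U (hle U)).hom s = s ^ Nat.card k₀)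

include hFapp in
theorem appTop_eq_pow (s : Γ(X, ⊤)) : FX.appTop.hom s = s ^ Nat.card k₀ := by
  have h := hFapp ⊤ s
  have h2 : FX.appLE ⊤ ⊤ (hle ⊤) = FX.appTop := Scheme.Hom.appLE_eq_app FX
  rw [h2] at h
  exact h

theorem pow_card_ΓSpec (c : Γ(Spec (CommRingCat.of k₀), ⊤)) : c ^ Nat.card k₀ = c := by
  have hbij := ConcreteCategory.bijective_of_isIso (Scheme.ΓSpecIso (CommRingCat.of k₀)).hom
  apply hbij.1
  rw [map_pow]
  have : Fintype k₀ := Fintype.ofFinite k₀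
  rw [Nat.card_eq_fintype_card]
  exact FiniteField.pow_card _

include hFapp in
theorem FX_comp : FX ≫ f = f := by
  apply ext_of_isAffine
  rw [Scheme.Hom.comp_appTop]
  ext c
  rw [CommRingCat.comp_apply]
  have h := appTop_eq_pow FX hle hFapp (f.appTop.hom c)
  rw [← map_pow, pow_card_ΓSpec] at h
  exact h

end


section Pullback

variable {k₀ : Type u} [Field k₀] [Finite k₀] {k : Type u} [Field k] [Algebra k₀ k]
  {X : Scheme.{u}} (f : X ⟶ Spec (CommRingCat.of k₀))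
  (FX : X ⟶ X) (hFb : FX.base = 𝟙 _) (hle : ∀ U : X.Opens, U ≤ FX ⁻¹ᵁ U)
  (hFapp : ∀ (U : X.Opens) (s : Γ(X, U)), (FX.appLE U U (hle U)).hom s = s ^ Nat.card k₀)
  {Y : Scheme.{u}} (g : Y ⟶ Spec (CommRingCat.of k)) (π : Y ⟶ X)
  (hπ : IsPullback π g f (Spec.map (CommRingCat.ofHom (algebraMap k₀ k))))
  (Fm : Y ⟶ Y) (hFg : Fm ≫ g = g) (hF : Fm ≫ π = π ≫ FX)

include hFapp hπ hFg hF in
theorem isPullback_frob : IsPullback Fm π π FX := by
  have hFf : FX ≫ f = f := FX_comp f FX hle hFapp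
  have s : IsPullback (Fm ≫ g) π (Spec.map (CommRingCat.ofHom (algebraMap k₀ k))) (FX ≫ f) := by
    rw [hFg, hFf]
    exact hπ.flip
  exact IsPullback.of_right s hF hπ.flip

include hFb hFapp hπ hFg hF in
theorem surjective_frob : Function.Surjective Fm := by
  have h1 : Surjective FX := ⟨by
    intro x
    refine ⟨x, ?_⟩
    change FX.base x = x
    rw [hFb]
    rfl⟩
  have h2 : Surjective Fm :=
    MorphismProperty.IsStableUnderBaseChange.of_isPullback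
      (isPullback_frob f FX hle hFapp g π hπ Fm hFg hF).flip h1
  exact h2.surj

include hFb hFapp hπ hFg hF in
theorem frob_genericPoint [IrreducibleSpace Y] : Fm (genericPoint Y) = genericPoint Y := by
  have hs := surjective_frob f FX hFb hle hFapp g π hπ Fm hFg hF
  have h1 := (genericPoint_spec Y).image Fm.continuous
  rw [Set.image_univ, hs.range_eq, closure_univ] at h1
  exact ((genericPoint_spec Y).eq h1).symm

end Pullback


section Sections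

variable {k₀ : Type u} [Field k₀] [Finite k₀] {k : Type u} [Field k] [Algebra k₀ k]
  {X : Scheme.{u}} (f : X ⟶ Spec (CommRingCat.of k₀))
  (FX : X ⟶ X) (hle : ∀ U : X.Opens, U ≤ FX ⁻¹ᵁ U)
  (hFapp : ∀ (U : X.Opens) (s : Γ(X, U)), (FX.appLE U U (hle U)).hom s = s ^ Nat.card k₀)
  {Y : Scheme.{u}} (g : Y ⟶ Spec (CommRingCat.of k)) (π : Y ⟶ X)
  (hπ : IsPullback π g f (Spec.map (CommRingCat.ofHom (algebraMap k₀ k))))
  (Fm : Y ⟶ Y) (hFg : Fm ≫ g = g) (hF : Fm ≫ π = π ≫ FX)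
  (V : X.Opens)

include hle hF in
theorem preimage_le : π ⁻¹ᵁ V ≤ Fm ⁻¹ᵁ (π ⁻¹ᵁ V) := by
  intro x hx
  change π (Fm x) ∈ V
  have h1 : π (Fm x) = FX (π x) := by
    rw [← Scheme.Hom.comp_apply, ← Scheme.Hom.comp_apply, hF]
  rw [h1]
  exact hle V hx

include hF in
theorem inl_comp (e : π ⁻¹ᵁ V ≤ Fm ⁻¹ᵁ (π ⁻¹ᵁ V)) :
    π.appLE V (π ⁻¹ᵁ V) le_rfl ≫ Fm.appLE (π ⁻¹ᵁ V) (π ⁻¹ᵁ V) e =
      FX.appLE V V (hle V) ≫ π.appLE V (π ⁻¹ᵁ V) le_rfl := by
  rw [Scheme.Hom.appLE_comp_appLE, Scheme.Hom.appLE_comp_appLE]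
  simp only [hF]

include hFg in
theorem inr_comp (e : π ⁻¹ᵁ V ≤ Fm ⁻¹ᵁ (π ⁻¹ᵁ V)) (e' : π ⁻¹ᵁ V ≤ g ⁻¹ᵁ ⊤) :
    g.appLE ⊤ (π ⁻¹ᵁ V) e' ≫ Fm.appLE (π ⁻¹ᵁ V) (π ⁻¹ᵁ V) e = g.appLE ⊤ (π ⁻¹ᵁ V) e' := by
  rw [Scheme.Hom.appLE_comp_appLE]
  simp only [hFg]


include hπ in
theorem isPushout_sections (hV : IsAffineOpen V) :
    IsPushout (f.appLE ⊤ V (by simp))
      ((Spec.map (CommRingCat.ofHom (algebraMap k₀ k))).appLE ⊤ ⊤ (by simp))
      (π.appLE V (π ⁻¹ᵁ V) le_rfl) (g.appLE ⊤ (π ⁻¹ᵁ V) (by simp)) := by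
  have hiso := AlgebraicGeometry.isIso_pushoutSection_of_isAffineOpen hπ (US := ⊤) (UT := ⊤)
    (UX := V) (UY := π ⁻¹ᵁ V) (by simp) (by simp) (by simp) (isAffineOpen_top _)
    (isAffineOpen_top _) hV
  exact (AlgebraicGeometry.isIso_pushoutSection_iff hπ _ _ _).mp hiso

end Sections



/-- On a pushout `P = S ⊗_R T` of commutative rings of characteristic `p`, an endomorphism that is
the `q`-th power on `S` and the identity on `T` (where every element of `T` is a `q`-th power)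
has image the `q`-th powers. -/
theorem pushout_frob {R S T P : CommRingCat.{u}} {fS : R ⟶ S} {fT : R ⟶ T} {inl : S ⟶ P}
    {inr : T ⟶ P} (h : IsPushout fS fT inl inr) (Fs : P ⟶ P) (q : ℕ)
    (h1 : ∀ s : S, Fs.hom (inl.hom s) = (inl.hom s) ^ q)
    (h2 : ∀ t : T, Fs.hom (inr.hom t) = inr.hom t)
    (h3 : ∀ t : T, ∃ t' : T, t' ^ q = t)
    (h4 : ∀ x y : P, (x + y) ^ q = x ^ q + y ^ q) (hq : q ≠ 0) (b : P) :
    (∃ b' : P, Fs.hom b = b' ^ q) ∧ (∃ b'' : P, b ^ q = Fs.hom b'') := by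
  algebraize [fS.hom, fT.hom, inl.hom, inr.hom, inl.hom.comp fS.hom]
  have : IsScalarTower R T P := .of_algebraMap_eq' <| congr($(h.1.1).hom)
  have hpo : Algebra.IsPushout R S T P := CommRingCat.isPushout_iff_isPushout.mp h
  refine hpo.out.inductionOn b _ ?_ ?_ ?_ ?_
  · exact ⟨⟨0, by rw [map_zero, zero_pow hq]⟩, ⟨0, by rw [map_zero, zero_pow hq]⟩⟩
  · intro t
    change (∃ b' : P, Fs.hom (inr.hom t) = b' ^ q) ∧ (∃ b'' : P, (inr.hom t) ^ q = Fs.hom b'')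
    obtain ⟨t', ht'⟩ := h3 t
    refine ⟨⟨inr.hom t', ?_⟩, ⟨inr.hom (t ^ q), ?_⟩⟩
    · rw [h2, ← map_pow, ht']
    · rw [h2, map_pow]
  · intro s n hn
    obtain ⟨⟨b', hb'⟩, ⟨b'', hb''⟩⟩ := hn
    have hsn : s • n = inl.hom s * n := Algebra.smul_def s n
    refine ⟨⟨inl.hom s * b', ?_⟩, ⟨inl.hom s * b'', ?_⟩⟩
    · rw [hsn, map_mul, h1, hb', mul_pow]
    · rw [hsn, map_mul, h1, ← hb'', mul_pow]
  · intro n₁ n₂ hn₁ hn₂
    obtain ⟨⟨b₁, hb₁⟩, ⟨c₁, hc₁⟩⟩ := hn₁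
    obtain ⟨⟨b₂, hb₂⟩, ⟨c₂, hc₂⟩⟩ := hn₂
    refine ⟨⟨b₁ + b₂, ?_⟩, ⟨c₁ + c₂, ?_⟩⟩
    · rw [map_add, hb₁, hb₂, h4]
    · rw [map_add, ← hc₁, ← hc₂, h4]


section Generic

variable {Y : Scheme.{u}} [IsIntegral Y]

theorem exists_div_of_eq (W : Y.Opens) (hW : IsAffineOpen W) (x : Y) (hx : x = genericPoint Y)
    (hxW : x ∈ W) (z : Y.residueField x) :
    ∃ b c : Γ(Y, W), (Y.evaluation W x hxW).hom c ≠ 0 ∧
      z = (Y.evaluation W x hxW).hom b / (Y.evaluation W x hxW).hom c := by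
  subst hx
  have : Nonempty W := ⟨⟨_, hxW⟩⟩
  let _ := (evη W hxW).toAlgebra
  have := isFractionRing_evη W hW hxW
  obtain ⟨b, c, hc, rfl⟩ := IsFractionRing.div_surjective (A := Γ(Y, W)) z
  refine ⟨b, c, ?_, rfl⟩
  intro h0
  have hinj := IsFractionRing.injective Γ(Y, W) (Y.residueField (genericPoint Y))
  exact nonZeroDivisors.ne_zero hc (hinj (h0.trans (map_zero _).symm))

omit [IsIntegral Y] in
theorem residueFieldMap_evaluation (Fm : Y ⟶ Y) (W : Y.Opens) (e : W ≤ Fm ⁻¹ᵁ W) (x : Y)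
    (hx : x ∈ W) (b : Γ(Y, W)) :
    (Fm.residueFieldMap x).hom ((Y.evaluation W (Fm x) (e hx)).hom b) =
      (Y.evaluation W x hx).hom ((Fm.appLE W W e).hom b) := by
  have h1 := Scheme.evaluation_naturality_apply Fm (V := W) x (e hx) b
  have h2 := congrArg (fun φ => φ.hom ((Fm.app W).hom b)) (map_evaluation e x hx)
  simp only [CommRingCat.comp_apply] at h2
  change _ = (Y.evaluation W x hx).hom ((Y.presheaf.map (homOfLE e).op).hom ((Fm.app W).hom b))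
  rw [h2]
  exact h1

end Generic


section Main

variable {k₀ : Type u} [Field k₀] [Finite k₀] {k : Type u} [Field k] [IsAlgClosed k] [Algebra k₀ k]
  {X : Scheme.{u}} (f : X ⟶ Spec (CommRingCat.of k₀))
  (FX : X ⟶ X) (hFb : FX.base = 𝟙 _) (hle : ∀ U : X.Opens, U ≤ FX ⁻¹ᵁ U)
  (hFapp : ∀ (U : X.Opens) (s : Γ(X, U)), (FX.appLE U U (hle U)).hom s = s ^ Nat.card k₀)
  {Y : Scheme.{u}} [IsIntegral Y] (g : Y ⟶ Spec (CommRingCat.of k)) [LocallyOfFiniteType g]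
  (π : Y ⟶ X)
  (hπ : IsPullback π g f (Spec.map (CommRingCat.ofHom (algebraMap k₀ k))))
  (Fm : Y ⟶ Y) (hFg : Fm ≫ g = g) (hF : Fm ≫ π = π ≫ FX)

include hFb hFapp hπ hFg hF in
theorem residueDegree_frob (n : ℕ) (hn : topologicalKrullDim Y = n) :
    Fm.residueDegree (genericPoint Y) = (Nat.card k₀) ^ n := by
  -- characteristic
  obtain ⟨p, hpc⟩ := CharP.exists k₀
  have : Fintype k₀ := Fintype.ofFinite k₀
  obtain ⟨a, hpp, hcard⟩ := FiniteField.card k₀ p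
  have : Fact p.Prime := ⟨hpp⟩
  have hq : Nat.card k₀ = p ^ (a : ℕ) := by rw [Nat.card_eq_fintype_card, hcard]
  have hq0 : p ^ (a : ℕ) ≠ 0 := pow_ne_zero _ hpp.ne_zero
  have hck : CharP k p := charP_of_injective_algebraMap (algebraMap k₀ k).injective p
  have hroot : ∀ c : k, ∃ c' : k, c' ^ p ^ (a : ℕ) = c := fun c =>
    IsAlgClosed.exists_pow_nat_eq c (Nat.pos_of_ne_zero hq0)
  -- the affine open
  have hfix := frob_genericPoint f FX hFb hle hFapp g π hπ Fm hFg hF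
  obtain ⟨_, ⟨V, hV, rfl⟩, hxV, -⟩ :=
    X.isBasis_affineOpens.exists_subset_of_mem_open (Set.mem_univ (π (genericPoint Y))) isOpen_univ
  have haff : IsAffineHom π :=
    MorphismProperty.IsStableUnderBaseChange.of_isPullback hπ.flip inferInstance
  have hW : IsAffineOpen (π ⁻¹ᵁ V) := hV.preimage π
  have hη : genericPoint Y ∈ π ⁻¹ᵁ V := hxV
  have : Nonempty (π ⁻¹ᵁ V : Y.Opens) := ⟨⟨_, hη⟩⟩
  have e := preimage_le FX hle π Fm hF V
  -- the ring of sections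
  let _ : Algebra k Γ(Y, π ⁻¹ᵁ V) := (kMap g (π ⁻¹ᵁ V)).toAlgebra
  have : Algebra.FiniteType k Γ(Y, π ⁻¹ᵁ V) := kMap_finiteType g _ hW
  have hcB : CharP Γ(Y, π ⁻¹ᵁ V) p :=
    charP_of_injective_algebraMap (algebraMap k Γ(Y, π ⁻¹ᵁ V)).injective p
  have hA1 : ∀ b : Γ(Y, π ⁻¹ᵁ V),
      (∃ b' : Γ(Y, π ⁻¹ᵁ V), (Fm.appLE _ _ e).hom b = b' ^ p ^ (a : ℕ)) ∧
      (∃ b'' : Γ(Y, π ⁻¹ᵁ V), b ^ p ^ (a : ℕ) = (Fm.appLE _ _ e).hom b'') := by
    refine pushout_frob (isPushout_sections f g π hπ V hV) (Fm.appLE _ _ e) (p ^ (a : ℕ))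
      ?_ ?_ ?_ ?_ hq0
    · intro s
      have h1 := congrArg (fun φ => φ.hom s) (inl_comp FX hle π Fm hF V e)
      simp only [CommRingCat.comp_apply] at h1
      rw [h1, hFapp V s, map_pow, hq]
    · intro t
      have h1 := congrArg (fun φ => φ.hom t) (inr_comp g π Fm hFg V e (by simp))
      simp only [CommRingCat.comp_apply] at h1
      exact h1
    · intro t
      have hbij := ConcreteCategory.bijective_of_isIso (Scheme.ΓSpecIso (CommRingCat.of k)).hom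
      obtain ⟨c', hc'⟩ := hroot ((Scheme.ΓSpecIso (CommRingCat.of k)).hom t)
      obtain ⟨t', rfl⟩ := hbij.2 c'
      refine ⟨t', hbij.1 ?_⟩
      rw [map_pow]
      exact hc'
    · intro x y
      exact add_pow_char_pow x y p (a : ℕ)
  -- the residue fields
  let _ : Algebra Γ(Y, π ⁻¹ᵁ V) (Y.residueField (genericPoint Y)) := (evη _ hη).toAlgebra
  have := isFractionRing_evη _ hW hη
  have hnB : ringKrullDim Γ(Y, π ⁻¹ᵁ V) = n := by
    rw [← hn]
    exact (topologicalKrullDim_eq_ringKrullDim g hW).symm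
  have hFη : Fm (genericPoint Y) ∈ π ⁻¹ᵁ V := e hη
  have key := deg_eq_pow k p (a : ℕ) hroot Γ(Y, π ⁻¹ᵁ V) (Y.residueField (genericPoint Y)) n hnB
    (Fm.residueFieldMap (genericPoint Y)).hom ?_ ?_
  · rw [hq]
    exact key
  · intro x
    obtain ⟨b, c, hc, rfl⟩ := exists_div_of_eq _ hW _ hfix hFη x
    obtain ⟨b', hb'⟩ := (hA1 b).1
    obtain ⟨c', hc'⟩ := (hA1 c).1
    refine ⟨(Y.evaluation _ _ hη).hom b' / (Y.evaluation _ _ hη).hom c', ?_⟩
    rw [map_div₀, residueFieldMap_evaluation Fm _ e _ hη, residueFieldMap_evaluation Fm _ e _ hη,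
      hb', hc', map_pow, map_pow, div_pow]
  · intro y
    obtain ⟨b, c, hc, rfl⟩ := exists_div_of_eq _ hW _ rfl hη y
    obtain ⟨b'', hb''⟩ := (hA1 b).2
    obtain ⟨c'', hc''⟩ := (hA1 c).2
    refine ⟨(Y.evaluation _ _ hFη).hom b'' / (Y.evaluation _ _ hFη).hom c'', ?_⟩
    rw [map_div₀, residueFieldMap_evaluation Fm _ e _ hη, residueFieldMap_evaluation Fm _ e _ hη,
      ← hb'', ← hc'', map_pow, map_pow, div_pow]

end Main

end Groth.Agent.Lib.Helper20.FrobScheme
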