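import Mathlib
import Groth.Prelude.Def_WeilCoh

/-!
# Helper20: formal consequences of the Weil cohomology axioms (`WeilCoh.TheoryOn`)
-/

set_option autoImplicit false
universe u v w
open CategoryTheory AlgebraicGeometry
open WeilCoh

namespace Groth.Agent.Lib.Helper20.WeilCohLib

variable {k : Type u} [Field k] {P : ObjectProperty (Over (Spec (CommRingCat.of k)))}
variable {K : Type v} [Field K] (T : TheoryOn.{u, v, w} k P K)

theorem pairing_apply {A : Type w} [Ring A] [Algebra K A] (S S' : Submodule K A) (t : A →ₗ[K] K)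
    (a : S) (b : S') : pairing K S S' t a b = t ((a : A) * (b : A)) := rfl

/-- The defining property of the push-forward. -/
theorem tr_push_mul {X Y : P.FullSubcategory} (f : X ⟶ Y) (i : ℤ) (a : T.gr X i)
    (b : T.H Y) (hb : b ∈ T.gr Y (2 * (dim X.obj.left : ℤ) - i)) :
    T.tr Y ((T.push f i a : T.H Y) * b) = T.tr X ((a : T.H X) * T.pull f b) := by
  have := T.duality Y (i + 2 * (dim Y.obj.left : ℤ) - 2 * (dim X.obj.left : ℤ))
    (2 * (dim X.obj.left : ℤ) - i) (by omega)
  have h := LinearMap.apply_symm_toPerfPair_self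
    (pairing K (T.gr Y (i + 2 * (dim Y.obj.left : ℤ) - 2 * (dim X.obj.left : ℤ)))
      (T.gr Y (2 * (dim X.obj.left : ℤ) - i)) (T.tr Y)) (T.pushFunctional f i a)
  have h2 := LinearMap.congr_fun h ⟨b, hb⟩
  exact h2

/-- Variant with a flexible degree for the test class. -/
theorem tr_push_mul' {X Y : P.FullSubcategory} (f : X ⟶ Y) (i n : ℤ) (a : T.gr X i)
    (b : T.H Y) (hb : b ∈ T.gr Y n) (hn : n = 2 * (dim X.obj.left : ℤ) - i) :
    T.tr Y ((T.push f i a : T.H Y) * b) = T.tr X ((a : T.H X) * T.pull f b) := by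
  subst hn
  exact tr_push_mul T f i a b hb

/-- Poincaré duality as an extensionality principle: two classes of the same degree `m` pairing
equally with all classes of the complementary degree are equal. -/
theorem eq_of_forall_tr_mul {Y : P.FullSubcategory} (m n : ℤ)
    (hmn : m + n = 2 * (dim Y.obj.left : ℤ)) (y y' : T.H Y) (hy : y ∈ T.gr Y m)
    (hy' : y' ∈ T.gr Y m)
    (h : ∀ b ∈ T.gr Y n, T.tr Y (y * b) = T.tr Y (y' * b)) : y = y' := by
  have hd := T.duality Y m n hmn
  have hinj := hd.bijective_left.1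
  have : (⟨y, hy⟩ : T.gr Y m) = ⟨y', hy'⟩ := by
    apply hinj
    ext b
    exact h b.1 b.2
  exact congrArg Subtype.val this

theorem eq_of_forall_tr_mul_left {Y : P.FullSubcategory} (m n : ℤ)
    (hmn : m + n = 2 * (dim Y.obj.left : ℤ)) (y y' : T.H Y) (hy : y ∈ T.gr Y n)
    (hy' : y' ∈ T.gr Y n)
    (h : ∀ b ∈ T.gr Y m, T.tr Y (b * y) = T.tr Y (b * y')) : y = y' := by
  have hd := T.duality Y m n hmn
  have hinj := hd.bijective_right.1
  have : (⟨y, hy⟩ : T.gr Y n) = ⟨y', hy'⟩ := by
    apply hinj
    ext b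
    exact h b.1 b.2
  exact congrArg Subtype.val this

/-- A class lying in two different degrees is zero. -/
theorem eq_zero_of_mem_of_mem {X : P.FullSubcategory} {i j : ℤ} (hij : i ≠ j) (a : T.H X)
    (hi : a ∈ T.gr X i) (hj : a ∈ T.gr X j) : a = 0 := by
  have hind := (T.decomp X).submodule_iSupIndep
  have := hind.pairwiseDisjoint hij
  exact (Submodule.disjoint_def.mp this) a hi hj

/-- The trace as a linear equivalence from the top degree onto `K`. -/
noncomputable def trEquiv (X : P.FullSubcategory) :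
    T.gr X (2 * (dim X.obj.left : ℤ)) ≃ₗ[K] K :=
  LinearEquiv.ofBijective _ (T.tr_bijective X)

theorem trEquiv_apply (X : P.FullSubcategory) (a : T.gr X (2 * (dim X.obj.left : ℤ))) :
    trEquiv T X a = T.tr X a := rfl

theorem finrank_top (X : P.FullSubcategory) :
    Module.finrank K (T.gr X (2 * (dim X.obj.left : ℤ))) = 1 := by
  rw [(trEquiv T X).finrank_eq, Module.finrank_self]

theorem nontrivial_H (X : P.FullSubcategory) : Nontrivial (T.H X) := by
  obtain ⟨a, ha⟩ := (T.tr_bijective X).2 1
  refine ⟨⟨(a : T.H X), 0, ?_⟩⟩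
  intro h
  have : T.tr X (a : T.H X) = 1 := ha
  rw [h, map_zero] at this
  exact zero_ne_one this

theorem finrank_eq_of_add_eq (X : P.FullSubcategory) (i j : ℤ)
    (h : i + j = 2 * (dim X.obj.left : ℤ)) :
    Module.finrank K (T.gr X i) = Module.finrank K (T.gr X j) := by
  have := T.duality X i j h
  exact Module.finrank_of_isPerfPair (pairing K (T.gr X i) (T.gr X j) (T.tr X))

theorem finrank_zero (X : P.FullSubcategory) : Module.finrank K (T.gr X 0) = 1 := by
  rw [finrank_eq_of_add_eq T X 0 (2 * (dim X.obj.left : ℤ)) (by ring), finrank_top]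

/-- `c ↦ c • 1` as a linear map `K → H^0(X)`. -/
noncomputable def unitMap (X : P.FullSubcategory) : K →ₗ[K] T.gr X 0 where
  toFun c := ⟨c • (1 : T.H X), (T.gr X 0).smul_mem c (SetLike.one_mem_graded (T.gr X))⟩
  map_add' a b := by ext; simp [add_smul]
  map_smul' a b := by ext; simp [mul_smul]

theorem unitMap_bijective (X : P.FullSubcategory) : Function.Bijective (unitMap T X) := by
  haveI := nontrivial_H T X
  have hinj : Function.Injective (unitMap T X) := by
    rw [← LinearMap.ker_eq_bot, LinearMap.ker_eq_bot']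
    intro c hc
    have h1 : c • (1 : T.H X) = 0 := congrArg Subtype.val hc
    rcases smul_eq_zero.mp h1 with h | h
    · exact h
    · exact absurd h one_ne_zero
  refine ⟨hinj, ?_⟩
  have hfr : Module.finrank K K = Module.finrank K (T.gr X 0) := by
    rw [finrank_zero, Module.finrank_self]
  exact (LinearMap.injective_iff_surjective_of_finrank_eq_finrank hfr).mp hinj

theorem exists_eq_smul_one (X : P.FullSubcategory) (a : T.H X) (ha : a ∈ T.gr X 0) :
    ∃ c : K, a = c • (1 : T.H X) := by
  obtain ⟨c, hc⟩ := (unitMap_bijective T X).2 ⟨a, ha⟩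
  exact ⟨c, (congrArg Subtype.val hc).symm⟩



include T in
/-- From the multiplicativity of the trace: `dim (X × Y) = dim X + dim Y`. -/
theorem dim_prod {X Y Q : P.FullSubcategory} (p : Q ⟶ X) (q : Q ⟶ Y) (hQ : IsProd p q) :
    dim Q.obj.left = dim X.obj.left + dim Y.obj.left := by
  obtain ⟨a, ha⟩ := (T.tr_bijective X).2 1
  obtain ⟨b, hb⟩ := (T.tr_bijective Y).2 1
  have ha' : T.tr X (a : T.H X) = 1 := ha
  have hb' : T.tr Y (b : T.H Y) = 1 := hb
  have h := T.tr_prod p q hQ a b a.2 b.2
  rw [ha', hb', mul_one] at h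
  by_contra hne
  have hmem : T.pull p (a : T.H X) * T.pull q (b : T.H Y) ∈
      T.gr Q (2 * (dim X.obj.left : ℤ) + 2 * (dim Y.obj.left : ℤ)) :=
    SetLike.mul_mem_graded (T.pull_mem p _ _ a.2) (T.pull_mem q _ _ b.2)
  have h0 := T.tr_vanish Q _ _ hmem (by
    intro h2
    apply hne
    have : (dim Q.obj.left : ℤ) = dim X.obj.left + dim Y.obj.left := by linarith
    exact_mod_cast this)
  rw [h0] at h
  exact zero_ne_one h

/-- The trace of `p^* a · q^* b` vanishes unless both `a` and `b` have top degree. -/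
theorem tr_pull_mul_pull_eq_zero {X Y Q : P.FullSubcategory} (p : Q ⟶ X) (q : Q ⟶ Y)
    (hQ : IsProd p q) (s t : ℤ) (a : T.H X) (b : T.H Y) (ha : a ∈ T.gr X s) (hb : b ∈ T.gr Y t)
    (hst : s ≠ 2 * (dim X.obj.left : ℤ) ∨ t ≠ 2 * (dim Y.obj.left : ℤ)) :
    T.tr Q (T.pull p a * T.pull q b) = 0 := by
  have hmem : T.pull p a * T.pull q b ∈ T.gr Q (s + t) :=
    SetLike.mul_mem_graded (T.pull_mem p _ _ ha) (T.pull_mem q _ _ hb)
  by_cases hsum : s + t = 2 * (dim Q.obj.left : ℤ)
  · have hd := dim_prod T p q hQ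
    have hd' : (dim Q.obj.left : ℤ) = dim X.obj.left + dim Y.obj.left := by exact_mod_cast hd
    -- one of the two degrees is too large
    have : 2 * (dim X.obj.left : ℤ) < s ∨ 2 * (dim Y.obj.left : ℤ) < t := by
      rcases hst with h | h
      · by_cases h1 : 2 * (dim X.obj.left : ℤ) < s
        · exact Or.inl h1
        · right; omega
      · by_cases h1 : 2 * (dim Y.obj.left : ℤ) < t
        · exact Or.inr h1
        · left; omega
    rcases this with h | h
    · have := T.vanish X s (Or.inr h)
      rw [this] at ha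
      rw [(Submodule.mem_bot K).mp ha]; simp
    · have := T.vanish Y t (Or.inr h)
      rw [this] at hb
      rw [(Submodule.mem_bot K).mp hb]; simp
  · exact T.tr_vanish Q _ _ hmem hsum



/-- Classes commute when one of them has even degree. -/
theorem mul_comm_of_even {X : P.FullSubcategory} (i j : ℤ) (a b : T.H X) (ha : a ∈ T.gr X i)
    (hb : b ∈ T.gr X j) (h : Even i ∨ Even j) : a * b = b * a := by
  have hc := T.gradedComm X i j a b ha hb
  have he : Even (i.natAbs * j.natAbs) := by
    rcases h with h | h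
    · exact (Int.natAbs_even.mpr h).mul_right _
    · exact (Int.natAbs_even.mpr h).mul_left _
  rw [he.neg_one_pow, one_smul] at hc
  exact hc

/-- Odd classes anticommute. -/
theorem mul_anticomm_of_odd {X : P.FullSubcategory} (i j : ℤ) (a b : T.H X) (ha : a ∈ T.gr X i)
    (hb : b ∈ T.gr X j) (hi : Odd i) (hj : Odd j) : a * b = - (b * a) := by
  have hc := T.gradedComm X i j a b ha hb
  have he : Odd (i.natAbs * j.natAbs) := (Int.natAbs_odd.mpr hi).mul (Int.natAbs_odd.mpr hj)
  rw [he.neg_one_pow, neg_one_smul] at hc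
  exact hc



/-- Induction on homogeneous components. -/
theorem homogeneous_induction {X : P.FullSubcategory} (Φ : T.H X → Prop) (h0 : Φ 0)
    (hadd : ∀ x y, Φ x → Φ y → Φ (x + y)) (hhom : ∀ s a, a ∈ T.gr X s → Φ a) (a : T.H X) : Φ a := by
  have htop := (T.decomp X).submodule_iSup_eq_top
  have ha : a ∈ ⨆ i, T.gr X i := by rw [htop]; trivial
  exact Submodule.iSup_induction (T.gr X) (motive := Φ) ha hhom h0 hadd

/-- Künneth induction: to prove an additive property for all classes on a product, it suffices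
to treat `p^* a · q^* b` for homogeneous `a`, `b`. -/
theorem kunneth_induction {X Y Q : P.FullSubcategory} (p : Q ⟶ X) (q : Q ⟶ Y) (hQ : IsProd p q)
    (Φ : T.H Q → Prop) (h0 : Φ 0) (hadd : ∀ x y, Φ x → Φ y → Φ (x + y))
    (hmul : ∀ s t a b, a ∈ T.gr X s → b ∈ T.gr Y t → Φ (T.pull p a * T.pull q b))
    (c : T.H Q) : Φ c := by
  obtain ⟨z, rfl⟩ := (T.kunneth p q hQ).2 c
  induction z using TensorProduct.induction_on with
  | zero => rw [map_zero]; exact h0
  | tmul a b =>
    show Φ (T.pull p a * T.pull q b)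
    refine homogeneous_induction T (fun a => Φ (T.pull p a * T.pull q b)) ?_ ?_ ?_ a
    · simp only [map_zero, zero_mul]; exact h0
    · intro x y hx hy
      simp only [map_add, add_mul]; exact hadd _ _ hx hy
    · intro s a ha
      refine homogeneous_induction T (fun b => Φ (T.pull p a * T.pull q b)) ?_ ?_ ?_ b
      · simp only [map_zero, mul_zero]; exact h0
      · intro x y hx hy
        simp only [map_add, mul_add]; exact hadd _ _ hx hy
      · intro t b hb
        exact hmul s t a b ha hb
  | add x y hx hy => rw [map_add]; exact hadd _ _ hx hy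

/-- Rearranging a product of four pulled-back homogeneous classes on a product. -/
theorem pull_mul_pull_mul {X Y Q : P.FullSubcategory} (p : Q ⟶ X) (q : Q ⟶ Y)
    (m s : ℤ) (u a : T.H X) (v b : T.H Y) (hv : v ∈ T.gr Y m) (ha : a ∈ T.gr X s) :
    T.pull p u * T.pull q v * (T.pull p a * T.pull q b) =
      ((-1 : K) ^ (m.natAbs * s.natAbs)) • (T.pull p (u * a) * T.pull q (v * b)) := by
  have hc := T.gradedComm Q m s _ _ (T.pull_mem q m v hv) (T.pull_mem p s a ha)
  calc T.pull p u * T.pull q v * (T.pull p a * T.pull q b)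
      = T.pull p u * (T.pull q v * T.pull p a) * T.pull q b := by simp only [mul_assoc]
    _ = T.pull p u * (((-1 : K) ^ (m.natAbs * s.natAbs)) • (T.pull p a * T.pull q v)) * T.pull q b := by
        rw [hc]
    _ = ((-1 : K) ^ (m.natAbs * s.natAbs)) • (T.pull p (u * a) * T.pull q (v * b)) := by
        rw [map_mul, map_mul, mul_smul_comm, smul_mul_assoc]
        simp only [mul_assoc]

end Groth.Agent.Lib.Helper20.WeilCohLib
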