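import Mathlib
import Groth.Prelude.Def_WeilCoh
import Groth.Agent.Lib.Helper20.WeilCoh

/-!
# Helper20: the point `Spec k` as an object of `WeilCoh.Var k`, dimensions of points,
residue degrees of closed points, and the normalisations `tr cl(closed pt) = 1`, `cl(X) = 1`.
-/

set_option autoImplicit false
universe u v w
open CategoryTheory AlgebraicGeometry CategoryTheory.Limits
open WeilCoh

namespace Groth.Agent.Lib.Helper20.WeilCohLib


theorem natDim_eq_zero_of_le {T : Type u} [TopologicalSpace T] (h : topologicalKrullDim T ≤ 0) :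
    natDim T = 0 := by
  unfold natDim
  cases hd : topologicalKrullDim T with
  | bot => simp
  | coe a =>
    rw [hd] at h
    have : a ≤ 0 := by exact_mod_cast h
    have : a = 0 := le_antisymm this zero_le
    simp [this]

theorem natDim_eq_zero_of_subsingleton (T : Type u) [TopologicalSpace T] [Subsingleton T] :
    natDim T = 0 :=
  natDim_eq_zero_of_le (topologicalKrullDim_zero_of_discreteTopology T)

theorem natDim_congr {S T : Type u} [TopologicalSpace S] [TopologicalSpace T] (e : S ≃ₜ T) :
    natDim S = natDim T := by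
  unfold natDim
  rw [IsHomeomorph.topologicalKrullDim_eq e e.isHomeomorph]

theorem pdim_of_isClosed {X : Scheme.{u}} (x : X) (hx : IsClosed ({x} : Set X)) :
    pdim X x = 0 := by
  unfold pdim
  rw [hx.closure_eq]
  exact natDim_eq_zero_of_subsingleton _

theorem pdim_of_closure_eq_univ {X : Scheme.{u}} (x : X) (hx : closure ({x} : Set X) = Set.univ) :
    pdim X x = dim X := by
  unfold pdim dim
  rw [hx]
  exact natDim_congr (Homeomorph.Set.univ _)

theorem pdim_genericPoint (X : Scheme.{u}) [IrreducibleSpace X] :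
    pdim X (genericPoint X) = dim X :=
  pdim_of_closure_eq_univ _ (genericPoint_spec X)

theorem codim_genericPoint (X : Scheme.{u}) [IrreducibleSpace X] :
    codim X (genericPoint X) = 0 := by
  unfold codim
  rw [pdim_genericPoint]; simp



theorem length_quot_map_eq_one {A B : Type*} [CommRing A] [CommRing B]
    (hB : IsField B) (φ : A →+* B) [IsLocalHom φ] (I : Ideal A) (hI : I ≠ ⊤) :
    Module.length B (B ⧸ Ideal.map φ I) = 1 := by
  have hzero : ∀ a ∈ I, φ a = 0 := by
    intro a ha
    by_contra h0
    obtain ⟨c, hc⟩ := hB.mul_inv_cancel h0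
    have h1 : IsUnit (φ a) := isUnit_iff_exists_inv.mpr ⟨c, hc⟩
    have h2 : IsUnit a := isUnit_of_map_unit φ a h1
    exact hI (Ideal.eq_top_of_isUnit_mem _ ha h2)
  have hbot : Ideal.map φ I = ⊥ := by
    rw [eq_bot_iff, Ideal.map_le_iff_le_comap]
    intro a ha
    simp [hzero a ha]
  have hsimple : IsSimpleModule B B := by
    rw [isSimpleModule_self_iff_isUnit]
    refine ⟨hB.nontrivial, fun x hx => ?_⟩
    obtain ⟨c, hc⟩ := hB.mul_inv_cancel hx
    exact isUnit_iff_exists_inv.mpr ⟨c, hc⟩
  rw [(Submodule.quotEquivOfEqBot _ hbot).length_eq]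
  exact Module.length_eq_one B B



/-- Over an algebraically closed field, the residue degree at a closed point of a scheme locally
of finite type, along the structure morphism, is `1`. -/
theorem residueDegree_eq_one_of_isClosed {X : Scheme.{u}} {k : Type u} [Field k] [IsAlgClosed k]
    (f : X ⟶ Spec (CommRingCat.of k)) [LocallyOfFiniteType f] (x : X)
    (hx : IsClosed ({x} : Set X)) : f.residueDegree x = 1 := by
  let ψ : CommRingCat.of k ⟶ X.residueField x := (residueFieldIsoBase f x hx).inv
  let χ : CommRingCat.of k ⟶ (Spec (CommRingCat.of k)).residueField (f x) :=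
    Spec.preimage ((Spec (CommRingCat.of k)).fromSpecResidueField (f x))
  have hψ : ψ = χ ≫ f.residueFieldMap x := by
    apply Spec.map_injective
    rw [SpecMap_residueFieldIsoBase_inv, Spec.map_comp, Spec.map_preimage,
      Scheme.Hom.SpecMap_residueFieldMap_fromSpecResidueField]
  have hsurj : Function.Surjective (f.residueFieldMap x).hom := by
    intro y
    refine ⟨χ.hom ((residueFieldIsoBase f x hx).hom.hom y), ?_⟩
    have : (χ ≫ f.residueFieldMap x).hom ((residueFieldIsoBase f x hx).hom.hom y) = y := by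
      rw [← hψ]
      show ((residueFieldIsoBase f x hx).hom ≫ (residueFieldIsoBase f x hx).inv).hom y = y
      rw [Iso.hom_inv_id]; rfl
    exact this
  unfold Scheme.Hom.residueDegree
  letI := (f.residueFieldMap x).hom.toAlgebra
  rw [finrank_eq_one_iff_of_nonzero' (1 : X.residueField x) one_ne_zero]
  intro w
  obtain ⟨c, hc⟩ := hsurj w
  refine ⟨c, ?_⟩
  rw [Algebra.smul_def, mul_one]
  exact hc



/-- a morphism `Spec R ⟶ P^n_R` (the point `[1:0:…:0]`). -/
noncomputable def projSpacePoint (n : ℕ) (R : Type u) [CommRing R] :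
    Spec (CommRingCat.of R) ⟶ CohB1.ProjSpace n R := by
  let ev : MvPolynomial (Fin (n + 1)) R →+* R :=
    (MvPolynomial.eval (fun i : Fin (n+1) => if i = 0 then (1 : R) else 0))
  let f : MvPolynomial (Fin (n + 1)) R →+* Γ(Spec (CommRingCat.of R), ⊤) :=
    (Scheme.ΓSpecIso (CommRingCat.of R)).inv.hom.comp ev
  have hf : (HomogeneousIdeal.irrelevant (CohB1.polyGrading n R)).toIdeal.map f = ⊤ := by
    rw [Ideal.eq_top_iff_one]
    have h1 : (MvPolynomial.X (0 : Fin (n+1)) : MvPolynomial (Fin (n + 1)) R) ∈
        (HomogeneousIdeal.irrelevant (CohB1.polyGrading n R)).toIdeal := by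
      rw [HomogeneousIdeal.mem_iff, HomogeneousIdeal.mem_irrelevant_iff]
      have hX : (MvPolynomial.X (0 : Fin (n+1)) : MvPolynomial (Fin (n + 1)) R) ∈
          CohB1.polyGrading n R 1 := MvPolynomial.isHomogeneous_X R 0
      rw [GradedRing.proj_apply, DirectSum.decompose_of_mem_ne _ hX (by norm_num)]
    have h2 := Ideal.mem_map_of_mem f h1
    have : f (MvPolynomial.X 0) = 1 := by
      simp [f, ev]
    rwa [this] at h2
  exact Proj.fromOfGlobalSections _ f hf

instance (n : ℕ) (R : Type u) [CommRing R] : IsSeparated (CohB1.ProjSpace.toSpec n R) := by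
  unfold CohB1.ProjSpace.toSpec
  have h1 : IsSeparated (Proj.toSpecZero (CohB1.polyGrading n R)) := Proj.isSeparated _
  have h2 : IsSeparated (Spec.map (CommRingCat.ofHom (algebraMap R (CohB1.polyGrading n R 0)))) :=
    inferInstance
  exact MorphismProperty.comp_mem _ _ _ h1 h2

instance (n : ℕ) (S : Scheme.{u}) : IsSeparated (CohB1.ProjSpaceOver.toBase n S) := by
  unfold CohB1.ProjSpaceOver.toBase
  exact MorphismProperty.pullback_snd (P := @IsSeparated) _ _ inferInstance

/-- a section of `P^n_S ⟶ S`. -/
noncomputable def projSpaceOverSection (n : ℕ) (S : Scheme.{u}) : S ⟶ CohB1.ProjSpaceOver n S :=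
  pullback.lift (specULiftZIsTerminal.from S ≫ projSpacePoint n (ULift.{u} ℤ)) (𝟙 S)
    (specULiftZIsTerminal.hom_ext _ _)

theorem projSpaceOverSection_toBase (n : ℕ) (S : Scheme.{u}) :
    projSpaceOverSection n S ≫ CohB1.ProjSpaceOver.toBase n S = 𝟙 S := by
  unfold projSpaceOverSection CohB1.ProjSpaceOver.toBase
  exact pullback.lift_snd _ _ _

instance (n : ℕ) (S : Scheme.{u}) : IsClosedImmersion (projSpaceOverSection n S) := by
  have : IsClosedImmersion (projSpaceOverSection n S ≫ CohB1.ProjSpaceOver.toBase n S) := by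
    rw [projSpaceOverSection_toBase]; infer_instance
  exact IsClosedImmersion.of_comp (projSpaceOverSection n S) (CohB1.ProjSpaceOver.toBase n S)

variable (k : Type u) [Field k]

theorem isVar_pt : IsVar k (Over.mk (𝟙 (Spec (CommRingCat.of k)))) := by
  refine ⟨?_, ?_, ?_⟩
  · show Smooth (𝟙 (Spec (CommRingCat.of k)))
    infer_instance
  · exact ⟨0, projSpaceOverSection 0 _, inferInstance, projSpaceOverSection_toBase 0 _⟩
  · show IrreducibleSpace (PrimeSpectrum k)
    infer_instance

/-- The point `Spec k` as an object of `Var k`. -/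
noncomputable def pt : Var k := ⟨Over.mk (𝟙 (Spec (CommRingCat.of k))), isVar_pt k⟩

/-- The structure morphism `X ⟶ pt`. -/
noncomputable def toPt (X : Var k) : X ⟶ pt k :=
  ObjectProperty.homMk (Over.homMk X.obj.hom (by simp [pt]))



variable (k : Type u) [Field k]

instance : Subsingleton ↥(pt k).obj.left := by
  show Subsingleton (PrimeSpectrum k)
  infer_instance

theorem dim_pt : dim (pt k).obj.left = 0 := natDim_eq_zero_of_subsingleton _

variable {k}
variable {K : Type v} [Field K] (T : TheoryOn.{u, v, w} k (IsVar k) K)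

theorem cl_pt (ξ : (pt k).obj.left) : T.cl (pt k) ξ = 1 := (T.point _ (dim_pt k)).1 ξ

theorem tr_pt_one : T.tr (pt k) 1 = 1 := (T.point _ (dim_pt k)).2

instance (X : Var k) : LocallyOfFiniteType X.obj.hom := by
  have : Smooth X.obj.hom := X.property.1
  infer_instance

theorem isField_stalk_spec (w : Spec (CommRingCat.of k)) :
    IsField ((Spec (CommRingCat.of k)).presheaf.stalk w) := by
  apply isField_stalk_of_closure_mem_irreducibleComponents
  have : closure ({w} : Set (Spec (CommRingCat.of k))) = Set.univ := by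
    rw [Set.eq_univ_iff_forall]
    intro y
    have : y = w := Subsingleton.elim (α := PrimeSpectrum k) _ _
    rw [this]; exact subset_closure rfl
  rw [this]
  simp [irreducibleComponents_eq_singleton]

theorem isField_stalk_pt (w : (pt k).obj.left) : IsField ((pt k).obj.left.presheaf.stalk w) :=
  isField_stalk_spec w

/-- A `k`-point of a variety, as a morphism in `Var k`. -/
noncomputable def ofClosedPoint [IsAlgClosed k] (X : Var k) (x : X.obj.left)
    (hx : IsClosed ({x} : Set X.obj.left)) : pt k ⟶ X :=
  ObjectProperty.homMk (Over.homMk (pointOfClosedPoint X.obj.hom x hx)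
    (pointOfClosedPoint_comp X.obj.hom x hx))

theorem exists_closedPoint (X : Var k) : ∃ x : X.obj.left, IsClosed ({x} : Set X.obj.left) := by
  haveI : JacobsonSpace X.obj.left := LocallyOfFiniteType.jacobsonSpace X.obj.hom
  haveI : IrreducibleSpace X.obj.left := X.property.2.2
  have h := closure_closedPoints (X := X.obj.left)
  have hne : (closedPoints X.obj.left).Nonempty := by
    by_contra hcon
    rw [Set.not_nonempty_iff_eq_empty] at hcon
    rw [hcon, closure_empty] at h
    exact Set.empty_ne_univ h
  obtain ⟨x, hx⟩ := hne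
  exact ⟨x, hx⟩

/-- `cl(X) = 1`. -/
theorem cl_genericPoint [IsAlgClosed k] (X : Var k) [IrreducibleSpace X.obj.left] :
    T.cl X (genericPoint X.obj.left) = 1 := by
  obtain ⟨x, hx⟩ := exists_closedPoint X
  set η := genericPoint X.obj.left with hη
  have hcl : closure ({η} : Set X.obj.left) = Set.univ := genericPoint_spec X.obj.left
  let i := ofClosedPoint X x hx
  have hpre : (sm i) ⁻¹' closure ({η} : Set X.obj.left) = Set.univ := by
    rw [hcl]; rfl
  have hcomp : ∀ w : (pt k).obj.left, IsCompPt ((sm i) ⁻¹' closure ({η} : Set X.obj.left)) w := by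
    intro w
    refine ⟨by rw [hpre]; trivial, fun w' _ _ => Subsingleton.elim _ _⟩
  have hmult : ∀ (w : (pt k).obj.left)
      (hw : IsCompPt ((sm i) ⁻¹' closure ({η} : Set X.obj.left)) w),
      preimMult (sm i) η w hw.1 = 1 := by
    intro w hw
    unfold preimMult
    rw [length_quot_map_eq_one (isField_stalk_pt w)]
    · rfl
    · exact RingHom.ker_ne_top _
  have h := T.cl_pull i η (fun w _ => by
      rw [pdim_of_isClosed w (by
        have : ({w} : Set (pt k).obj.left) = Set.univ := by
          rw [Set.eq_univ_iff_forall]; intro y; exact Subsingleton.elim _ _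
        rw [this]; exact isClosed_univ), pdim_genericPoint, dim_pt]
      simp) (Or.inr hmult)
  -- the sum
  obtain ⟨w0⟩ : Nonempty (pt k).obj.left := by
    show Nonempty (PrimeSpectrum k)
    infer_instance
  haveI : Unique {w : (pt k).obj.left // IsCompPt ((sm i) ⁻¹' closure ({η} : Set X.obj.left)) w} :=
    { default := ⟨w0, hcomp w0⟩
      uniq := fun a => Subtype.ext (Subsingleton.elim _ _) }
  rw [finsum_unique, hmult _ (hcomp _), cl_pt] at h
  -- `cl X η` is a multiple of `1`
  have hmem : T.cl X η ∈ T.gr X 0 := by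
    have := T.cl_mem X η
    rwa [codim_genericPoint, Nat.cast_zero, mul_zero] at this
  obtain ⟨c, hc⟩ := exists_eq_smul_one T X _ hmem
  rw [hc, map_smul, map_one] at h
  have h2 := congrArg (T.tr (pt k)) h
  rw [map_smul, tr_pt_one] at h2
  simp only [Nat.cast_one, one_smul, tr_pt_one, smul_eq_mul, mul_one] at h2
  rw [hc, h2, one_smul]

theorem sm_toPt (X : Var k) : sm (toPt k X) = X.obj.hom := rfl

/-- `Tr_X(cl(x)) = 1` for a closed point `x`. -/
theorem tr_cl_of_isClosed [IsAlgClosed k] (X : Var k) (x : X.obj.left)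
    (hx : IsClosed ({x} : Set X.obj.left)) : T.tr X (T.cl X x) = 1 := by
  have h1 : (1 : T.H (pt k)) ∈ T.gr (pt k) (2 * (pdim X.obj.left x : ℤ)) := by
    rw [pdim_of_isClosed x hx]
    exact SetLike.one_mem_graded (T.gr (pt k))
  have h := T.cl_push (toPt k X) x 1 h1
  rw [map_one, mul_one, cl_pt, mul_one, tr_pt_one, mul_one] at h
  have h2 : (sm (toPt k X)).residueDegree x = 1 :=
    residueDegree_eq_one_of_isClosed X.obj.hom x hx
  rw [h2] at h
  simpa using h

section Graph


/-- A section of a morphism has residue degree `1` everywhere. -/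
theorem residueDegree_eq_one_of_comp_eq_id {X Y : Scheme.{u}} (j : X ⟶ Y) (p : Y ⟶ X)
    (h : j ≫ p = 𝟙 X) (x : X) : j.residueDegree x = 1 := by
  have h1 := Scheme.Hom.residueFieldMap_congr h x
  rw [Scheme.residueFieldMap_comp, Scheme.residueFieldMap_id] at h1
  have hsurj : Function.Surjective (j.residueFieldMap x).hom := by
    intro y
    let e := X.residueFieldCongr (show (j ≫ p) x = (𝟙 X : X ⟶ X) x by rw [h])
    refine ⟨(p.residueFieldMap (j x)).hom (e.inv.hom y), ?_⟩
    have h2 := congrArg (fun t => t.hom (e.inv.hom y)) h1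
    have h3 : (e.hom ≫ 𝟙 (X.residueField x)).hom (e.inv.hom y) = y := by
      show (e.inv ≫ e.hom).hom y = y
      rw [Iso.inv_hom_id]; rfl
    exact h2.trans h3
  unfold Scheme.Hom.residueDegree
  letI := (j.residueFieldMap x).hom.toAlgebra
  rw [finrank_eq_one_iff_of_nonzero' (1 : X.residueField x) one_ne_zero]
  intro w
  obtain ⟨c, hc⟩ := hsurj w
  refine ⟨c, ?_⟩
  rw [Algebra.smul_def, mul_one]
  exact hc

variable {k : Type u} [Field k]

instance isSeparated_hom (X : Var k) : IsSeparated X.obj.hom := by
  obtain ⟨n, i, hi, hcomp⟩ := X.property.2.1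
  rw [← hcomp]
  infer_instance

theorem isSeparated_sm {X Y : Var k} (f : X ⟶ Y) : IsSeparated (sm f) := by
  have h : sm f ≫ Y.obj.hom = X.obj.hom := Over.w f.hom
  have : IsSeparated (sm f ≫ Y.obj.hom) := by rw [h]; infer_instance
  exact IsSeparated.of_comp (sm f) Y.obj.hom

theorem sm_comp {X Y Z : Var k} (f : X ⟶ Y) (g : Y ⟶ Z) : sm (f ≫ g) = sm f ≫ sm g := rfl

theorem sm_id (X : Var k) : sm (𝟙 X) = 𝟙 X.obj.left := rfl

theorem isClosedImmersion_of_section {X Q : Var k} (j : X ⟶ Q) (p : Q ⟶ X) (h : j ≫ p = 𝟙 X) :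
    IsClosedImmersion (sm j) := by
  have h' : sm j ≫ sm p = 𝟙 X.obj.left := by rw [← sm_comp, h, sm_id]
  haveI := isSeparated_sm p
  have : IsClosedImmersion (sm j ≫ sm p) := by rw [h']; infer_instance
  exact IsClosedImmersion.of_comp (sm j) (sm p)

theorem pdim_section {X Q : Var k} (j : X ⟶ Q) (p : Q ⟶ X) (h : j ≫ p = 𝟙 X)
    [IrreducibleSpace X.obj.left] :
    pdim Q.obj.left (sm j (genericPoint X.obj.left)) = dim X.obj.left := by
  haveI := isClosedImmersion_of_section j p h
  have hce : Topology.IsClosedEmbedding (sm j) := (sm j).isClosedEmbedding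
  have hcl : closure ({sm j (genericPoint X.obj.left)} : Set Q.obj.left) = Set.range (sm j) := by
    rw [← Set.image_singleton, hce.closure_image_eq, genericPoint_spec X.obj.left,
      Set.image_univ]
  unfold pdim dim
  rw [hcl]
  exact (natDim_congr hce.isEmbedding.toHomeomorph).symm

variable {K : Type v} [Field K] (T : TheoryOn.{u, v, w} k (IsVar k) K)

/-- The key identity for graphs: pairing with the class of the image of a section `j` is the
trace of the pull-back along `j`. -/
theorem tr_cl_section_mul [IsAlgClosed k] {X Q : Var k} (j : X ⟶ Q) (p : Q ⟶ X)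
    (h : j ≫ p = 𝟙 X) [IrreducibleSpace X.obj.left] (a : T.H Q)
    (ha : a ∈ T.gr Q (2 * (dim X.obj.left : ℤ))) :
    T.tr Q (T.cl Q (sm j (genericPoint X.obj.left)) * a) = T.tr X (T.pull j a) := by
  have h1 := T.cl_push j (genericPoint X.obj.left) a (by rwa [pdim_genericPoint])
  have h' : sm j ≫ sm p = 𝟙 X.obj.left := by rw [← sm_comp, h, sm_id]
  rw [cl_genericPoint T X, one_mul, residueDegree_eq_one_of_comp_eq_id (sm j) (sm p) h',
    Nat.cast_one, one_mul] at h1
  exact h1.symm

end Graph

end Groth.Agent.Lib.Helper20.WeilCohLib
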