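import Mathlib
import Groth.Agent.Lib.Helper20.WeilCohPt

set_option autoImplicit false
universe u v w
open CategoryTheory AlgebraicGeometry CategoryTheory.Limits
open WeilCoh

namespace Groth.Agent.Lib.Helper20.WeilCohLib

/-- the unique "component point" of the closure of a point in a T0 space is the point itself -/
theorem isCompPt_closure_singleton_iff {X : Scheme.{u}} (η w : X) :
    IsCompPt (closure ({η} : Set X)) w ↔ w = η := by
  constructor
  · rintro ⟨hw, h⟩
    exact (h η (subset_closure rfl) (specializes_iff_mem_closure.mpr hw)).symm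
  · rintro rfl
    refine ⟨subset_closure rfl, fun w' hw' hsp => ?_⟩
    exact ((specializes_iff_mem_closure.mpr hw').antisymm hsp).eq.symm

/-- multiplicity one: if `f w = ξ` and the stalk map at `w` is surjective, then `preimMult = 1`. -/
theorem preimMult_eq_one_of_surjective {X Y : Scheme.{u}} (f : X ⟶ Y) (w : X)
    (hsurj : Function.Surjective (f.stalkMap w).hom) :
    preimMult f (f w) w (subset_closure rfl) = 1 := by
  unfold preimMult
  have hker : RingHom.ker (Cyc.specMap (f w) (f w)
      (specializes_iff_mem_closure.mpr (subset_closure rfl))) =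
      IsLocalRing.maximalIdeal (Y.presheaf.stalk (f w)) := by
    unfold Cyc.specMap
    rw [TopCat.Presheaf.stalkSpecializes_refl, Category.id_comp]
    exact IsLocalRing.ker_residue
  rw [hker]
  have hmax : (Ideal.map (f.stalkMap w).hom (IsLocalRing.maximalIdeal (Y.presheaf.stalk (f w)))) =
      IsLocalRing.maximalIdeal (X.presheaf.stalk w) := by
    rcases Ideal.map_eq_top_or_isMaximal_of_surjective _ hsurj
      (IsLocalRing.maximalIdeal.isMaximal (Y.presheaf.stalk (f w))) with h | h
    · exfalso
      have hle : Ideal.map (f.stalkMap w).hom (IsLocalRing.maximalIdeal (Y.presheaf.stalk (f w))) ≤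
          IsLocalRing.maximalIdeal (X.presheaf.stalk w) :=
        ((IsLocalRing.local_hom_TFAE (f.stalkMap w).hom).out 0 2).mp (inferInstance : IsLocalHom (f.stalkMap w).hom)
      rw [h] at hle
      exact (IsLocalRing.maximalIdeal.isMaximal _).ne_top (top_le_iff.mp hle)
    · exact IsLocalRing.eq_maximalIdeal h
  rw [hmax]
  have hsimple : IsSimpleModule (X.presheaf.stalk w)
      (X.presheaf.stalk w ⧸ IsLocalRing.maximalIdeal (X.presheaf.stalk w)) := by
    rw [isSimpleModule_iff_isCoatom]  
    exact Ideal.isMaximal_def.mp (IsLocalRing.maximalIdeal.isMaximal _)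
  rw [Module.length_eq_one]
  rfl

end Groth.Agent.Lib.Helper20.WeilCohLib
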