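import Mathlib
import Groth.Agent.Lib.Helper20.WeilCohPt

set_option autoImplicit false
universe u v w
open CategoryTheory AlgebraicGeometry CategoryTheory.Limits
open WeilCoh

namespace Groth.Agent.Lib.Helper20.WeilCohLib

/-- Over an algebraically closed field, a point of a scheme locally of finite type whose residue
field is algebraic over the residue field of its image is closed. -/
theorem isClosed_of_isAlgebraic_residueField {X : Scheme.{u}} {k : Type u} [Field k] [IsAlgClosed k]
    (p : X ⟶ Spec (CommRingCat.of k)) [LocallyOfFiniteType p] (x : X)
    (h : (p.residueFieldMap x).hom.IsIntegral) : IsClosed ({x} : Set X) := by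
  haveI : JacobsonSpace X := LocallyOfFiniteType.jacobsonSpace p
  rw [isClosed_singleton_iff_locallyOfFiniteType]
  -- the composite `Spec κ(x) ⟶ Spec k`
  let ψ : CommRingCat.of k ⟶ X.residueField x := Spec.preimage (X.fromSpecResidueField x ≫ p)
  let χ : CommRingCat.of k ⟶ (Spec (CommRingCat.of k)).residueField (p x) :=
    Spec.preimage ((Spec (CommRingCat.of k)).fromSpecResidueField (p x))
  have hψ : ψ = χ ≫ p.residueFieldMap x := by
    apply Spec.map_injective
    rw [Spec.map_preimage, Spec.map_comp, Spec.map_preimage,
      Scheme.Hom.SpecMap_residueFieldMap_fromSpecResidueField]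
  have hχ : χ.hom.IsIntegral := by
    have hcl : IsClosed ({p x} : Set (Spec (CommRingCat.of k))) := by
      have : ({p x} : Set (Spec (CommRingCat.of k))) = Set.univ := by
        rw [Set.eq_univ_iff_forall]
        intro y
        exact Subsingleton.elim (α := PrimeSpectrum k) _ _
      rw [this]; exact isClosed_univ
    rw [isClosed_singleton_iff_isClosedImmersion] at hcl
    rw [← IsIntegralHom.SpecMap_iff, Spec.map_preimage]
    infer_instance
  have hψint : ψ.hom.IsIntegral := by
    rw [hψ]
    exact RingHom.IsIntegral.trans _ _ hχ h
  have hbij : Function.Bijective ψ.hom := IsAlgClosed.ringHom_bijective_of_isIntegral _ hψint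
  haveI : IsIso ψ := by
    rw [ConcreteCategory.isIso_iff_bijective]; exact hbij
  haveI : LocallyOfFiniteType (X.fromSpecResidueField x ≫ p) := by
    have : X.fromSpecResidueField x ≫ p = Spec.map ψ := (Spec.map_preimage _).symm
    rw [this]
    infer_instance
  exact locallyOfFiniteType_of_comp (X.fromSpecResidueField x) p

end Groth.Agent.Lib.Helper20.WeilCohLib
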