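import Mathlib
import Groth.Agent.Lib.Helper20.FrobScheme
import Groth.Agent.Lib.Helper20.WeilCohZero0
import Groth.Agent.Lib.Helper20.WeilCohIso0
import Groth.Agent.Lib.Helper20.DimTrdeg

/-!
# The graph of a Frobenius endomorphism meets the diagonal transversally
-/

set_option autoImplicit false
universe u
open CategoryTheory AlgebraicGeometry CategoryTheory.Limits

namespace Groth.Agent.Lib.Helper20.FrobFix

section AppLE

theorem appLE_of_eq_id {Y : Scheme.{u}} (φ : Y ⟶ Y) (h : φ = 𝟙 Y) (W : Y.Opens)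
    (e : W ≤ φ ⁻¹ᵁ W) : φ.appLE W W e = 𝟙 _ := by
  subst h
  simp only [Scheme.Hom.appLE, Scheme.Hom.id_app]
  exact Y.presheaf.map_id _

theorem appLE_congr_hom {Y Z : Scheme.{u}} {φ ψ : Y ⟶ Z} (h : φ = ψ) (U : Z.Opens) (V : Y.Opens)
    (e : V ≤ φ ⁻¹ᵁ U) : φ.appLE U V e = ψ.appLE U V (h ▸ e) := by
  subst h
  rfl

end AppLE

section Graph

variable {Y P : Scheme.{u}} (p q : P ⟶ Y) (d j : Y ⟶ P) (G : Y ⟶ Y)
  (hdp : d ≫ p = 𝟙 Y) (hdq : d ≫ q = 𝟙 Y) (hjp : j ≫ p = 𝟙 Y) (hjq : j ≫ q = G)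
  (W : Y.Opens) (e : W ≤ G ⁻¹ᵁ W)

include hdp hdq in
theorem le_d : W ≤ d ⁻¹ᵁ (p ⁻¹ᵁ W ⊓ q ⁻¹ᵁ W) := by
  intro x hx
  refine ⟨?_, ?_⟩
  · change p (d x) ∈ W
    rw [← Scheme.Hom.comp_apply, hdp]
    exact hx
  · change q (d x) ∈ W
    rw [← Scheme.Hom.comp_apply, hdq]
    exact hx

include hjp hjq e in
theorem le_j : W ≤ j ⁻¹ᵁ (p ⁻¹ᵁ W ⊓ q ⁻¹ᵁ W) := by
  intro x hx
  refine ⟨?_, ?_⟩
  · change p (j x) ∈ W
    rw [← Scheme.Hom.comp_apply, hjp]
    exact hx
  · change q (j x) ∈ W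
    rw [← Scheme.Hom.comp_apply, hjq]
    exact e hx

/-- the section `p^*(G^* b) - q^* b`, vanishing on the graph of `G`. -/
noncomputable def hsec (b : Γ(Y, W)) : Γ(P, p ⁻¹ᵁ W ⊓ q ⁻¹ᵁ W) :=
  (p.appLE W (p ⁻¹ᵁ W ⊓ q ⁻¹ᵁ W) inf_le_left).hom ((G.appLE W W e).hom b) -
    (q.appLE W (p ⁻¹ᵁ W ⊓ q ⁻¹ᵁ W) inf_le_right).hom b

include hdp hdq in
theorem d_hsec (b : Γ(Y, W)) :
    (d.appLE (p ⁻¹ᵁ W ⊓ q ⁻¹ᵁ W) W (le_d p q d hdp hdq W)).hom (hsec p q G W e b) =
      (G.appLE W W e).hom b - b := by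
  unfold hsec
  rw [map_sub]
  have h1 : p.appLE W (p ⁻¹ᵁ W ⊓ q ⁻¹ᵁ W) inf_le_left ≫
      d.appLE (p ⁻¹ᵁ W ⊓ q ⁻¹ᵁ W) W (le_d p q d hdp hdq W) = 𝟙 _ := by
    rw [Scheme.Hom.appLE_comp_appLE]
    exact appLE_of_eq_id _ hdp W _
  have h2 : q.appLE W (p ⁻¹ᵁ W ⊓ q ⁻¹ᵁ W) inf_le_right ≫
      d.appLE (p ⁻¹ᵁ W ⊓ q ⁻¹ᵁ W) W (le_d p q d hdp hdq W) = 𝟙 _ := by
    rw [Scheme.Hom.appLE_comp_appLE]
    exact appLE_of_eq_id _ hdq W _
  have h1' := fun x => congrArg (fun φ => φ.hom x) h1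
  have h2' := fun x => congrArg (fun φ => φ.hom x) h2
  simp only [CommRingCat.comp_apply, CommRingCat.id_apply] at h1' h2'
  rw [h1', h2']

include hjp hjq in
theorem j_hsec (b : Γ(Y, W)) :
    (j.appLE (p ⁻¹ᵁ W ⊓ q ⁻¹ᵁ W) W (le_j p q j G hjp hjq W e)).hom (hsec p q G W e b) = 0 := by
  unfold hsec
  rw [map_sub]
  have h1 : p.appLE W (p ⁻¹ᵁ W ⊓ q ⁻¹ᵁ W) inf_le_left ≫
      j.appLE (p ⁻¹ᵁ W ⊓ q ⁻¹ᵁ W) W (le_j p q j G hjp hjq W e) = 𝟙 _ := by
    rw [Scheme.Hom.appLE_comp_appLE]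
    exact appLE_of_eq_id _ hjp W _
  have h2 : q.appLE W (p ⁻¹ᵁ W ⊓ q ⁻¹ᵁ W) inf_le_right ≫
      j.appLE (p ⁻¹ᵁ W ⊓ q ⁻¹ᵁ W) W (le_j p q j G hjp hjq W e) = G.appLE W W e := by
    rw [Scheme.Hom.appLE_comp_appLE]
    exact appLE_congr_hom hjq W W _
  have h1' := fun x => congrArg (fun φ => φ.hom x) h1
  have h2' := fun x => congrArg (fun φ => φ.hom x) h2
  simp only [CommRingCat.comp_apply, CommRingCat.id_apply] at h1' h2'
  rw [h1', h2', sub_self]

include hjp hjq in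
/-- points of the graph are not in the non-vanishing locus of `hsec`. -/
theorem j_notMem_basicOpen (b : Γ(Y, W)) (x : Y) (hx : x ∈ W) :
    j x ∉ P.basicOpen (hsec p q G W e b) := by
  intro hmem
  have h1 : x ∈ Y.basicOpen
      ((j.appLE (p ⁻¹ᵁ W ⊓ q ⁻¹ᵁ W) W (le_j p q j G hjp hjq W e)).hom (hsec p q G W e b)) := by
    rw [Scheme.basicOpen_appLE]
    exact ⟨hx, hmem⟩
  rw [j_hsec p q j G hjp hjq W e b, Scheme.basicOpen_zero] at h1
  exact h1

include hdp hdq hjp hjq in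
theorem notMem_basicOpen (b : Γ(Y, W)) (w : Y) (hw : w ∈ W) (hdj : d w = j w) :
    w ∉ Y.basicOpen ((G.appLE W W e).hom b - b) := by
  intro hmem
  rw [← d_hsec p q d G hdp hdq W e b, Scheme.basicOpen_appLE] at hmem
  have h2 : d w ∈ P.basicOpen (hsec p q G W e b) := hmem.2
  rw [hdj] at h2
  exact j_notMem_basicOpen p q j G hjp hjq W e b w hw h2

end Graph


section Eval

open Groth.Agent.Lib.Helper20.DimTrdeg in
theorem eval_appLE {X Y : Scheme.{u}} (f : X ⟶ Y) (U : Y.Opens) (V : X.Opens) (e : V ≤ f ⁻¹ᵁ U)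
    (x : X) (hx : x ∈ V) (s : Γ(Y, U)) :
    (f.residueFieldMap x).hom ((Y.evaluation U (f x) (e hx)).hom s) =
      (X.evaluation V x hx).hom ((f.appLE U V e).hom s) := by
  have h1 := Scheme.evaluation_naturality_apply f (V := U) x (e hx) s
  have h2 := congrArg (fun φ => φ.hom ((f.app U).hom s)) (map_evaluation e x hx)
  simp only [CommRingCat.comp_apply] at h2
  rw [Scheme.Hom.appLE, CommRingCat.comp_apply, h2]
  exact h1

/-- every element of the residue field at a point of an affine open is a quotient of values. -/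
theorem exists_div {Y : Scheme.{u}} (W : Y.Opens) (hW : IsAffineOpen W) (w : Y) (hw : w ∈ W)
    (z : Y.residueField w) :
    ∃ b s : Γ(Y, W), (Y.evaluation W w hw).hom s ≠ 0 ∧
      z = (Y.evaluation W w hw).hom b / (Y.evaluation W w hw).hom s := by
  obtain ⟨x, rfl⟩ := Y.residue_surjective w z
  let _ := Y.presheaf.algebra_section_stalk ⟨w, hw⟩
  have := hW.isLocalization_stalk ⟨w, hw⟩
  obtain ⟨⟨b, s⟩, h⟩ := IsLocalization.surj (hW.primeIdealOf ⟨w, hw⟩).asIdeal.primeCompl x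
  have hu : IsUnit ((Y.presheaf.germ W w hw).hom s.1) :=
    IsLocalization.map_units (Y.presheaf.stalk w) s
  have h' : x * (Y.presheaf.germ W w hw).hom s.1 = (Y.presheaf.germ W w hw).hom b := h
  have hne : (Y.evaluation W w hw).hom s.1 ≠ 0 := by
    have : IsUnit ((Y.residue w).hom ((Y.presheaf.germ W w hw).hom s.1)) := hu.map _
    exact this.ne_zero
  refine ⟨b, s.1, hne, ?_⟩
  rw [eq_div_iff hne]
  have := congrArg (Y.residue w).hom h'
  rw [map_mul] at this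
  exact this

end Eval


section Frob

open Groth.Agent.Lib.Helper20.FrobScheme

variable {k₀ : Type u} [Field k₀] [Finite k₀] {k : Type u} [Field k] [IsAlgClosed k] [Algebra k₀ k]
  {X : Scheme.{u}} (f : X ⟶ Spec (CommRingCat.of k₀))
  (GX : X ⟶ X) (Q : ℕ) (hQ : 2 ≤ Q) (hGle : ∀ U : X.Opens, U ≤ GX ⁻¹ᵁ U)
  (hGapp : ∀ (U : X.Opens) (s : Γ(X, U)), (GX.appLE U U (hGle U)).hom s = s ^ Q)
  {Y : Scheme.{u}} (g : Y ⟶ Spec (CommRingCat.of k)) [LocallyOfFiniteType g] (π : Y ⟶ X)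
  (hπ : IsPullback π g f (Spec.map (CommRingCat.ofHom (algebraMap k₀ k))))
  (G : Y ⟶ Y) (hGg : G ≫ g = g) (hG : G ≫ π = π ≫ GX)
  {P : Scheme.{u}} (p q : P ⟶ Y) (d j : Y ⟶ P)
  (hdp : d ≫ p = 𝟙 Y) (hdq : d ≫ q = 𝟙 Y) (hjp : j ≫ p = 𝟙 Y) (hjq : j ≫ q = G)

include hGapp hG in
theorem frob_pullback_section (V : X.Opens) (a : Γ(X, V)) :
    (G.appLE (π ⁻¹ᵁ V) (π ⁻¹ᵁ V) (preimage_le GX hGle π G hG V)).hom
      ((π.appLE V (π ⁻¹ᵁ V) le_rfl).hom a) = ((π.appLE V (π ⁻¹ᵁ V) le_rfl).hom a) ^ Q := by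
  have h1 := congrArg (fun φ => φ.hom a)
    (inl_comp GX hGle π G hG V (preimage_le GX hGle π G hG V))
  simp only [CommRingCat.comp_apply] at h1
  rw [h1, hGapp V a, map_pow]

include hGapp hG hdp hdq hjp hjq in
/-- Lemma 1: at a point of the intersection of graph and diagonal, the values of functions
coming from `X` are fixed by the `Q`-th power map. -/
theorem eval_pow_eq (V : X.Opens) (a : Γ(X, V)) (w : Y) (hw : w ∈ π ⁻¹ᵁ V) (hdj : d w = j w) :
    ((Y.evaluation (π ⁻¹ᵁ V) w hw).hom ((π.appLE V (π ⁻¹ᵁ V) le_rfl).hom a)) ^ Q =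
      (Y.evaluation (π ⁻¹ᵁ V) w hw).hom ((π.appLE V (π ⁻¹ᵁ V) le_rfl).hom a) := by
  have h := notMem_basicOpen p q d j G hdp hdq hjp hjq (π ⁻¹ᵁ V) (preimage_le GX hGle π G hG V)
    ((π.appLE V (π ⁻¹ᵁ V) le_rfl).hom a) w hw hdj
  rw [← Scheme.evaluation_eq_zero_iff_notMem_basicOpen Y w hw, map_sub,
    frob_pullback_section GX Q hGle hGapp π G hG V a, map_pow, sub_eq_zero] at h
  exact h

include hπ hQ hGapp hG hdp hdq hjp hjq in
/-- Lemma 2: points of the intersection of graph and diagonal are closed. -/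
theorem isClosed_of_eq (w : Y) (hdj : d w = j w) : IsClosed ({w} : Set Y) := by
  obtain ⟨_, ⟨V, hV, rfl⟩, hxV, -⟩ :=
    X.isBasis_affineOpens.exists_subset_of_mem_open (Set.mem_univ (π w)) isOpen_univ
  have haff : IsAffineHom π :=
    MorphismProperty.IsStableUnderBaseChange.of_isPullback hπ.flip inferInstance
  have hW : IsAffineOpen (π ⁻¹ᵁ V) := hV.preimage π
  have hw : w ∈ π ⁻¹ᵁ V := hxV
  apply Groth.Agent.Lib.Helper20.WeilCohLib.isClosed_of_isAlgebraic_residueField g w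
  let _ : Algebra ((Spec (CommRingCat.of k)).residueField (g w)) (Y.residueField w) :=
    (g.residueFieldMap w).hom.toAlgebra
  -- values of sections are integral
  have hval : ∀ b : Γ(Y, π ⁻¹ᵁ V), IsIntegral ((Spec (CommRingCat.of k)).residueField (g w))
      ((Y.evaluation (π ⁻¹ᵁ V) w hw).hom b) := by
    intro b
    have h := isPushout_sections f g π hπ V hV
    algebraize [(f.appLE ⊤ V (by simp)).hom,
      ((Spec.map (CommRingCat.ofHom (algebraMap k₀ k))).appLE ⊤ ⊤ (by simp)).hom,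
      (π.appLE V (π ⁻¹ᵁ V) le_rfl).hom, (g.appLE ⊤ (π ⁻¹ᵁ V) (by simp)).hom,
      ((π.appLE V (π ⁻¹ᵁ V) le_rfl).hom).comp (f.appLE ⊤ V (by simp)).hom]
    have : IsScalarTower Γ(Spec (CommRingCat.of k₀), ⊤) Γ(Spec (CommRingCat.of k), ⊤)
        Γ(Y, π ⁻¹ᵁ V) := .of_algebraMap_eq' <| congr($(h.1.1).hom)
    have hpo : Algebra.IsPushout Γ(Spec (CommRingCat.of k₀), ⊤) Γ(X, V)
        Γ(Spec (CommRingCat.of k), ⊤) Γ(Y, π ⁻¹ᵁ V) := CommRingCat.isPushout_iff_isPushout.mp h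
    refine hpo.out.inductionOn b _ ?_ ?_ ?_ ?_
    · rw [map_zero]; exact isIntegral_zero
    · intro t
      change IsIntegral _ ((Y.evaluation (π ⁻¹ᵁ V) w hw).hom ((g.appLE ⊤ (π ⁻¹ᵁ V) (by simp)).hom t))
      rw [← eval_appLE g ⊤ (π ⁻¹ᵁ V) (by simp) w hw t]
      exact isIntegral_algebraMap
    · intro s n hn
      have hsn : s • n = (π.appLE V (π ⁻¹ᵁ V) le_rfl).hom s * n := Algebra.smul_def s n
      rw [hsn, map_mul]
      refine IsIntegral.mul ?_ hn
      refine ⟨Polynomial.X ^ Q - Polynomial.X, Polynomial.monic_X_pow_sub ?_, ?_⟩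
      · rw [Polynomial.degree_X]
        exact_mod_cast hQ
      · rw [Polynomial.eval₂_sub, Polynomial.eval₂_pow, Polynomial.eval₂_X,
          eval_pow_eq GX Q hGle hGapp π G hG p q d j hdp hdq hjp hjq V s w hw hdj, sub_self]
    · intro n₁ n₂ h₁ h₂
      rw [map_add]
      exact h₁.add h₂
  intro z
  obtain ⟨b, s, hs, rfl⟩ := exists_div (π ⁻¹ᵁ V) hW w hw z
  change IsIntegral _ _
  rw [div_eq_mul_inv]
  exact (hval b).mul (hval s).inv

end Frob

section Mult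

open Groth.Agent.Lib.Helper20.FrobScheme

theorem germ_appLE {X Y : Scheme.{u}} (f : X ⟶ Y) (U : Y.Opens) (V : X.Opens) (e : V ≤ f ⁻¹ᵁ U)
    (x : X) (hx : x ∈ V) (s : Γ(Y, U)) :
    (f.stalkMap x).hom ((Y.presheaf.germ U (f x) (e hx)).hom s) =
      (X.presheaf.germ V x hx).hom ((f.appLE U V e).hom s) := by
  have h1 := Scheme.Hom.germ_stalkMap_apply f U x (e hx) s
  rw [Scheme.Hom.appLE, CommRingCat.comp_apply]
  have h2 := TopCat.Presheaf.germ_res_apply X.presheaf (homOfLE e) x hx ((f.app U).hom s)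
  exact h1.trans h2.symm

variable {k₀ : Type u} [Field k₀] [Finite k₀] {k : Type u} [Field k] [IsAlgClosed k] [Algebra k₀ k]
  {X : Scheme.{u}} (f : X ⟶ Spec (CommRingCat.of k₀))
  (GX : X ⟶ X) (Q : ℕ) (hQ : 2 ≤ Q) (hQk : (Q : k) = 0) (hGle : ∀ U : X.Opens, U ≤ GX ⁻¹ᵁ U)
  (hGapp : ∀ (U : X.Opens) (s : Γ(X, U)), (GX.appLE U U (hGle U)).hom s = s ^ Q)
  {Y : Scheme.{u}} (g : Y ⟶ Spec (CommRingCat.of k)) [LocallyOfFiniteType g] (π : Y ⟶ X)
  (hπ : IsPullback π g f (Spec.map (CommRingCat.ofHom (algebraMap k₀ k))))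
  (G : Y ⟶ Y) (hGg : G ≫ g = g) (hG : G ≫ π = π ≫ GX)
  {P : Scheme.{u}} (p q : P ⟶ Y) (d j : Y ⟶ P)
  (hdp : d ≫ p = 𝟙 Y) (hdq : d ≫ q = 𝟙 Y) (hjp : j ≫ p = 𝟙 Y) (hjq : j ≫ q = G)

omit [IsAlgClosed k] in
/-- the value of a section at a closed point, as an element of `Γ(Spec k, ⊤)`. -/
theorem val_eq_zero_iff (σ : Spec (CommRingCat.of k) ⟶ Y) (w : Y) (hσ : ∀ x, σ x = w)
    (W : Y.Opens) (hw : w ∈ W) (b : Γ(Y, W)) :
    (σ.appLE W ⊤ (fun x _ => by change σ x ∈ W; rw [hσ x]; exact hw)).hom b = 0 ↔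
      w ∉ Y.basicOpen b := by
  have hσW : (⊤ : (Spec (CommRingCat.of k)).Opens) ≤ σ ⁻¹ᵁ W :=
    fun x _ => by change σ x ∈ W; rw [hσ x]; exact hw
  rw [← basicOpen_eq_bot_iff, Scheme.basicOpen_appLE]
  constructor
  · intro h hmem
    obtain ⟨x⟩ : Nonempty ↥(Spec (CommRingCat.of k)) := inferInstance
    have hx : x ∈ ((⊤ : (Spec (CommRingCat.of k)).Opens) ⊓ σ ⁻¹ᵁ Y.basicOpen b) := by
      refine ⟨trivial, ?_⟩
      change σ x ∈ Y.basicOpen b
      rw [hσ]; exact hmem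
    rw [h] at hx
    exact hx
  · intro h
    ext x
    simp only [TopologicalSpace.Opens.coe_inf, TopologicalSpace.Opens.coe_top, Set.univ_inter,
      TopologicalSpace.Opens.coe_bot, Set.mem_empty_iff_false, iff_false]
    intro hx
    apply h
    have : σ x ∈ Y.basicOpen b := hx
    rwa [hσ] at this

include hπ hQ hQk hGapp hGg hG hdp hdq hjp hjq in
/-- Lemma 3: the graph of the Frobenius meets the diagonal with multiplicity one. -/
theorem preimMult_eq_one (η w : Y) (h : d w ∈ closure ({j η} : Set P)) (hdj : d w = j w) :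
    WeilCoh.preimMult d (j η) w h = 1 := by
  have hsp : j η ⤳ d w := specializes_iff_mem_closure.mpr h
  have hcl : IsClosed ({w} : Set Y) :=
    isClosed_of_eq f GX Q hQ hGle hGapp g π hπ G hG p q d j hdp hdq hjp hjq w hdj
  obtain ⟨_, ⟨V, hV, rfl⟩, hxV, -⟩ :=
    X.isBasis_affineOpens.exists_subset_of_mem_open (Set.mem_univ (π w)) isOpen_univ
  have haff : IsAffineHom π :=
    MorphismProperty.IsStableUnderBaseChange.of_isPullback hπ.flip inferInstance
  have hW : IsAffineOpen (π ⁻¹ᵁ V) := hV.preimage π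
  have hw : w ∈ π ⁻¹ᵁ V := hxV
  set W : Y.Opens := π ⁻¹ᵁ V with hWdef
  have e : W ≤ G ⁻¹ᵁ W := preimage_le GX hGle π G hG V
  -- the point
  set σ : Spec (CommRingCat.of k) ⟶ Y := pointOfClosedPoint g w hcl with hσdef
  have hσg : σ ≫ g = 𝟙 _ := pointOfClosedPoint_comp g w hcl
  have hσ : ∀ x, σ x = w := fun x => pointOfClosedPoint_apply g w hcl x
  have hσW : (⊤ : (Spec (CommRingCat.of k)).Opens) ≤ σ ⁻¹ᵁ W :=
    fun x _ => by change σ x ∈ W; rw [hσ x]; exact hw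
  let val : Γ(Y, W) →+* Γ(Spec (CommRingCat.of k), ⊤) := (σ.appLE W ⊤ hσW).hom
  have hgW : W ≤ g ⁻¹ᵁ ⊤ := fun _ _ => trivial
  let cst : Γ(Spec (CommRingCat.of k), ⊤) →+* Γ(Y, W) := (g.appLE ⊤ W hgW).hom
  have hval0 : ∀ b : Γ(Y, W), val b = 0 ↔ w ∉ Y.basicOpen b :=
    fun b => val_eq_zero_iff σ w hσ W hw b
  have hvc : ∀ t, val (cst t) = t := by
    intro t
    have h1 : g.appLE ⊤ W hgW ≫ σ.appLE W ⊤ hσW = 𝟙 _ := by
      rw [Scheme.Hom.appLE_comp_appLE]
      exact appLE_of_eq_id _ hσg ⊤ _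
    have := congrArg (fun φ => φ.hom t) h1
    simpa only [CommRingCat.comp_apply, CommRingCat.id_apply] using this
  have hGc : ∀ t, (G.appLE W W e).hom (cst t) = cst t := by
    intro t
    have h1 := congrArg (fun φ => φ.hom t) (inr_comp g π G hGg V e hgW)
    simp only [CommRingCat.comp_apply] at h1
    exact h1
  -- the ideals
  unfold WeilCoh.preimMult
  set I : Ideal (P.presheaf.stalk (d w)) := RingHom.ker (Cyc.specMap (d w) (j η)
    (specializes_iff_mem_closure.mpr h)) with hI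
  set J : Ideal (Y.presheaf.stalk w) := Ideal.map (d.stalkMap w).hom I with hJ
  have hIne : I ≠ ⊤ := RingHom.ker_ne_top _
  have hJle : J ≤ IsLocalRing.maximalIdeal (Y.presheaf.stalk w) := by
    have h1 : I ≤ IsLocalRing.maximalIdeal (P.presheaf.stalk (d w)) :=
      IsLocalRing.le_maximalIdeal hIne
    refine (Ideal.map_mono h1).trans ?_
    exact ((IsLocalRing.local_hom_TFAE (d.stalkMap w).hom).out 0 2).mp
      (inferInstance : IsLocalHom (d.stalkMap w).hom)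
  -- membership of germs of `hsec`
  have hηW : η ∈ W := by
    have h1 : d w ∈ (p ⁻¹ᵁ W ⊓ q ⁻¹ᵁ W : P.Opens) := le_d p q d hdp hdq W hw
    have h2 : j η ∈ (p ⁻¹ᵁ W ⊓ q ⁻¹ᵁ W : P.Opens) := hsp.mem_open (p ⁻¹ᵁ W ⊓ q ⁻¹ᵁ W).isOpen h1
    have h3 : p (j η) ∈ W := h2.1
    rwa [← Scheme.Hom.comp_apply, hjp] at h3
  have hmemI : ∀ b : Γ(Y, W),
      (P.presheaf.germ (p ⁻¹ᵁ W ⊓ q ⁻¹ᵁ W) (d w) (le_d p q d hdp hdq W hw)).hom
        (hsec p q G W e b) ∈ I := by
    intro b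
    rw [hI, RingHom.mem_ker]
    unfold Cyc.specMap
    rw [CommRingCat.hom_comp, RingHom.comp_apply]
    have h1 := congrArg (fun φ => φ.hom (hsec p q G W e b))
      (TopCat.Presheaf.germ_stalkSpecializes P.presheaf
        (le_d p q d hdp hdq W hw) hsp)
    simp only [CommRingCat.comp_apply] at h1
    rw [h1]
    have h2 := j_notMem_basicOpen p q j G hjp hjq W e b η hηW
    rw [← Scheme.evaluation_eq_zero_iff_notMem_basicOpen P (j η)
      (le_j p q j G hjp hjq W e hηW)] at h2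
    exact h2
  have hmemJ : ∀ b : Γ(Y, W),
      (Y.presheaf.germ W w hw).hom ((G.appLE W W e).hom b - b) ∈ J := by
    intro b
    rw [← d_hsec p q d G hdp hdq W e b, ← germ_appLE d _ W (le_d p q d hdp hdq W) w hw]
    exact Ideal.mem_map_of_mem _ (hmemI b)
  -- the characteristic
  have hQ0 : (Q : Γ(Spec (CommRingCat.of k), ⊤)) = 0 := by
    have hbij := ConcreteCategory.bijective_of_isIso (Scheme.ΓSpecIso (CommRingCat.of k)).hom
    apply hbij.1
    rw [map_natCast, map_zero]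
    exact hQk
  -- germs of sections vanishing at `w`
  have hgerm_mem : ∀ b : Γ(Y, W), w ∉ Y.basicOpen b →
      (Y.presheaf.germ W w hw).hom b ∈ IsLocalRing.maximalIdeal (Y.presheaf.stalk w) := by
    intro b hb
    rw [IsLocalRing.mem_maximalIdeal, mem_nonunits_iff]
    intro hu
    exact hb ((Y.mem_basicOpen b w hw).mpr hu)
  -- the core computation
  have hcore : ∀ a : Γ(X, V), (Y.presheaf.germ W w hw).hom
      ((π.appLE V W le_rfl).hom a - cst (val ((π.appLE V W le_rfl).hom a))) ∈ J := by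
    intro a
    set x : Γ(Y, W) := (π.appLE V W le_rfl).hom a with hx
    set c : Γ(Y, W) := cst (val x) with hc
    have hGx : (G.appLE W W e).hom x = x ^ Q :=
      frob_pullback_section GX Q hGle hGapp π G hG V a
    have hvx : val x ^ Q = val x := by
      have h1 := notMem_basicOpen p q d j G hdp hdq hjp hjq W e x w hw hdj
      rw [← hval0, hGx, map_sub, map_pow, sub_eq_zero] at h1
      exact h1
    have hcQ : c ^ Q = c := by rw [hc, ← map_pow, hvx]
    set s : Γ(Y, W) := ∑ i ∈ Finset.range Q, x ^ i * c ^ (Q - 1 - i) with hs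
    have hst : s * (x - c) = x ^ Q - c ^ Q := by rw [hs]; exact geom_sum₂_mul x c Q
    have hvs : val s = 0 := by
      rw [hs, map_sum]
      have : ∀ i ∈ Finset.range Q, val (x ^ i * c ^ (Q - 1 - i)) = val x ^ (Q - 1) := by
        intro i hi
        rw [map_mul, map_pow, map_pow, hc, hvc, ← pow_add]
        congr 1
        have := Finset.mem_range.mp hi
        omega
      rw [Finset.sum_congr rfl this, Finset.sum_const, Finset.card_range, nsmul_eq_mul, hQ0,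
        zero_mul]
    have hsm : (Y.presheaf.germ W w hw).hom s ∈ IsLocalRing.maximalIdeal (Y.presheaf.stalk w) :=
      hgerm_mem s ((hval0 s).mp hvs)
    have hunit : IsUnit ((Y.presheaf.germ W w hw).hom s - 1) := by
      have h1 : IsUnit (1 - (Y.presheaf.germ W w hw).hom s) :=
        IsLocalRing.isUnit_one_sub_self_of_mem_nonunits _ hsm
      have h2 : (Y.presheaf.germ W w hw).hom s - 1 = -(1 - (Y.presheaf.germ W w hw).hom s) := by
        ring
      rw [h2]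
      exact h1.neg
    have hkey : (G.appLE W W e).hom (x - c) - (x - c) = (s - 1) * (x - c) := by
      rw [map_sub, hGx, hc, hGc, ← hc, sub_mul, hst, hcQ]
      ring
    have h3 := hmemJ (x - c)
    rw [hkey, map_mul, map_sub, map_one] at h3
    exact (Ideal.unit_mul_mem_iff_mem J hunit).mp h3
  -- pushout induction
  have hall : ∀ b : Γ(Y, W), (Y.presheaf.germ W w hw).hom (b - cst (val b)) ∈ J := by
    intro b
    have hpush := isPushout_sections f g π hπ V hV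
    algebraize [(f.appLE ⊤ V (by simp)).hom,
      ((Spec.map (CommRingCat.ofHom (algebraMap k₀ k))).appLE ⊤ ⊤ (by simp)).hom,
      (π.appLE V (π ⁻¹ᵁ V) le_rfl).hom, (g.appLE ⊤ (π ⁻¹ᵁ V) (by simp)).hom,
      ((π.appLE V (π ⁻¹ᵁ V) le_rfl).hom).comp (f.appLE ⊤ V (by simp)).hom]
    have : IsScalarTower Γ(Spec (CommRingCat.of k₀), ⊤) Γ(Spec (CommRingCat.of k), ⊤)
        Γ(Y, π ⁻¹ᵁ V) := .of_algebraMap_eq' <| congr($(hpush.1.1).hom)
    have hpo : Algebra.IsPushout Γ(Spec (CommRingCat.of k₀), ⊤) Γ(X, V)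
        Γ(Spec (CommRingCat.of k), ⊤) Γ(Y, π ⁻¹ᵁ V) :=
      CommRingCat.isPushout_iff_isPushout.mp hpush
    refine hpo.out.inductionOn b _ ?_ ?_ ?_ ?_
    · simp
    · intro t
      change (Y.presheaf.germ W w hw).hom (cst t - cst (val (cst t))) ∈ J
      rw [hvc, sub_self, map_zero]
      exact J.zero_mem
    · intro s n hn
      have hsn : s • n = (π.appLE V W le_rfl).hom s * n := Algebra.smul_def s n
      rw [hsn]
      have h1 := hcore s
      have h4 : (π.appLE V W le_rfl).hom s * n - cst (val ((π.appLE V W le_rfl).hom s * n)) =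
          (π.appLE V W le_rfl).hom s * (n - cst (val n)) +
          cst (val n) * ((π.appLE V W le_rfl).hom s - cst (val ((π.appLE V W le_rfl).hom s))) := by
        rw [map_mul, map_mul]; ring
      rw [h4, map_add, map_mul, map_mul]
      exact J.add_mem (J.mul_mem_left _ hn) (J.mul_mem_left _ h1)
    · intro n₁ n₂ h₁ h₂
      have h4 : n₁ + n₂ - cst (val (n₁ + n₂)) = (n₁ - cst (val n₁)) + (n₂ - cst (val n₂)) := by
        rw [map_add, map_add]; ring
      rw [h4, map_add]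
      exact J.add_mem h₁ h₂
  -- the maximal ideal is contained in `J`
  have hmax : IsLocalRing.maximalIdeal (Y.presheaf.stalk w) ≤ J := by
    intro x hx
    let _ := Y.presheaf.algebra_section_stalk ⟨w, hw⟩
    have := hW.isLocalization_stalk ⟨w, hw⟩
    obtain ⟨⟨b, s⟩, hbs⟩ := IsLocalization.surj (hW.primeIdealOf ⟨w, hw⟩).asIdeal.primeCompl x
    have hu : IsUnit ((Y.presheaf.germ W w hw).hom s.1) :=
      IsLocalization.map_units (Y.presheaf.stalk w) s
    have h' : x * (Y.presheaf.germ W w hw).hom s.1 = (Y.presheaf.germ W w hw).hom b := hbs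
    have hbm : (Y.presheaf.germ W w hw).hom b ∈ IsLocalRing.maximalIdeal (Y.presheaf.stalk w) := by
      rw [← h']
      exact Ideal.mul_mem_right _ _ hx
    have hbw : w ∉ Y.basicOpen b := by
      intro hmem
      have := (Y.mem_basicOpen b w hw).mp hmem
      rw [IsLocalRing.mem_maximalIdeal, mem_nonunits_iff] at hbm
      exact hbm this
    have hb0 : val b = 0 := (hval0 b).mpr hbw
    have hbJ := hall b
    rw [hb0, map_zero, sub_zero] at hbJ
    rw [← h'] at hbJ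
    exact (Ideal.mul_unit_mem_iff_mem J hu).mp hbJ
  have hJeq : J = IsLocalRing.maximalIdeal (Y.presheaf.stalk w) := le_antisymm hJle hmax
  rw [hJeq]
  have hsimple : IsSimpleModule (Y.presheaf.stalk w)
      (Y.presheaf.stalk w ⧸ IsLocalRing.maximalIdeal (Y.presheaf.stalk w)) := by
    rw [isSimpleModule_iff_isCoatom]
    exact Ideal.isMaximal_def.mp (IsLocalRing.maximalIdeal.isMaximal _)
  rw [Module.length_eq_one]
  rfl

end Mult

end Groth.Agent.Lib.Helper20.FrobFix
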