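import Mathlib
import Groth.Agent.Lib.Helper20.FrobFix
import Groth.Prelude.Def_W4c1zetahwZeta

/-!
# Residue fields fixed by a power of Frobenius, and embeddings into an algebraically closed field
-/

set_option autoImplicit false
universe u
open CategoryTheory AlgebraicGeometry CategoryTheory.Limits

namespace Groth.Agent.Lib.Helper20.FrobCount

/-- the structure map `k₀ ⟶ κ(y)`. -/
noncomputable def strMap {k₀ : Type u} [Field k₀] {X : Scheme.{u}}
    (f : X ⟶ Spec (CommRingCat.of k₀)) (y : X) : CommRingCat.of k₀ ⟶ X.residueField y :=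
  Spec.preimage (X.fromSpecResidueField y ≫ f)

section FieldLevel

theorem finite_of_forall_pow_eq {L : Type*} [Field L] (Q : ℕ) (hQ : 2 ≤ Q)
    (h : ∀ z : L, z ^ Q = z) : Finite L := by
  have hp : (Polynomial.X ^ Q - Polynomial.X : Polynomial L) ≠ 0 := by
    intro h0
    have h1 := congrArg (fun p : Polynomial L => p.coeff 1) h0
    simp only [Polynomial.coeff_sub, Polynomial.coeff_X_pow, Polynomial.coeff_X_one,
      Polynomial.coeff_zero] at h1
    rw [if_neg (by omega)] at h1
    simp at h1
  have hfin := Polynomial.finite_setOfPred_isRoot hp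
  have huniv : (Set.univ : Set L) ⊆ {x | Polynomial.IsRoot (Polynomial.X ^ Q - Polynomial.X) x} := by
    intro z _
    simp only [Set.mem_ofPred_eq, Polynomial.IsRoot, Polynomial.eval_sub, Polynomial.eval_pow,
      Polynomial.eval_X, h z, sub_self]
  exact Set.finite_univ_iff.mp (hfin.subset huniv)

variable (k₀ : Type*) [Field k₀] [Fintype k₀] (L : Type*) [Field L] [Algebra k₀ L]

theorem frobenius_pow_apply (m : ℕ) (z : L) :
    ((FiniteField.frobeniusAlgHom k₀ L) ^ m) z = z ^ (Fintype.card k₀ ^ m) := by
  rw [AlgHom.coe_pow, FiniteField.coe_frobeniusAlgHom, pow_iterate]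

theorem forall_pow_eq_iff (m : ℕ) (hm : 0 < m) :
    (∀ z : L, z ^ (Fintype.card k₀ ^ m) = z) ↔ Module.finrank k₀ L ∣ m := by
  constructor
  · intro h
    have h2 : 2 ≤ Fintype.card k₀ ^ m := by
      have h1 : 2 ≤ Fintype.card k₀ := Fintype.one_lt_card
      calc 2 ≤ Fintype.card k₀ := h1
        _ = Fintype.card k₀ ^ 1 := (pow_one _).symm
        _ ≤ Fintype.card k₀ ^ m := Nat.pow_le_pow_right (by omega) hm
    have : Finite L := finite_of_forall_pow_eq _ h2 h
    rw [← FiniteField.orderOf_frobeniusAlgHom k₀ L]
    apply orderOf_dvd_of_pow_eq_one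
    ext z
    rw [frobenius_pow_apply, h z]
    rfl
  · intro hdvd z
    have hpos : 0 < Module.finrank k₀ L := Nat.pos_of_dvd_of_pos hdvd hm
    have : Module.Finite k₀ L := Module.finite_of_finrank_pos hpos
    have : Finite L := Module.finite_of_finite k₀
    have h1 : (FiniteField.frobeniusAlgHom k₀ L) ^ m = 1 := by
      rw [← FiniteField.orderOf_frobeniusAlgHom k₀ L] at hdvd
      exact orderOf_dvd_iff_pow_eq_one.mp hdvd
    have h2 := congrArg (fun φ : L →ₐ[k₀] L => φ z) h1
    simp only [frobenius_pow_apply] at h2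
    exact h2

theorem natCard_algHom_eq_finrank (k : Type*) [Field k] [IsAlgClosed k] [Algebra k₀ k]
    (h : 0 < Module.finrank k₀ L) : Nat.card (L →ₐ[k₀] k) = Module.finrank k₀ L := by
  have : Module.Finite k₀ L := Module.finite_of_finrank_pos h
  have : Algebra.IsSeparable k₀ L := inferInstance
  exact AlgHom.natCard_of_splits k₀ L k (fun _ => IsAlgClosed.splits _)

end FieldLevel

section Degree

theorem surjective_of_isClosedImmersion_SpecMap {R S : CommRingCat.{u}} (φ : R ⟶ S)
    [IsClosedImmersion (Spec.map φ)] : Function.Surjective φ.hom := by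
  have h := (IsClosedImmersion.isAffine_surjective_of_isAffine (Spec.map φ)).2
  have h2 : φ = (Scheme.ΓSpecIso R).inv ≫ (Spec.map φ).appTop ≫ (Scheme.ΓSpecIso S).hom := by
    rw [Scheme.ΓSpecIso_naturality, Iso.inv_hom_id_assoc]
  rw [h2]
  simp only [CommRingCat.hom_comp, RingHom.coe_comp]
  exact ((ConcreteCategory.bijective_of_isIso (Scheme.ΓSpecIso S).hom).2.comp h).comp
    (ConcreteCategory.bijective_of_isIso (Scheme.ΓSpecIso R).inv).2

variable {k₀ : Type u} [Field k₀] {X : Scheme.{u}} (f : X ⟶ Spec (CommRingCat.of k₀))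

/-- the structure map of the residue field at a point of `Spec k₀`. -/
noncomputable def baseStr (s : Spec (CommRingCat.of k₀)) :
    CommRingCat.of k₀ ⟶ (Spec (CommRingCat.of k₀)).residueField s :=
  Spec.preimage ((Spec (CommRingCat.of k₀)).fromSpecResidueField s)

theorem baseStr_bijective (s : Spec (CommRingCat.of k₀)) :
    Function.Bijective (baseStr s).hom := by
  refine ⟨RingHom.injective _, ?_⟩
  have hcl : IsClosed ({s} : Set (Spec (CommRingCat.of k₀))) := by
    have : ({s} : Set (Spec (CommRingCat.of k₀))) = Set.univ := by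
      rw [Set.eq_univ_iff_forall]
      intro y
      exact Subsingleton.elim (α := PrimeSpectrum k₀) _ _
    rw [this]; exact isClosed_univ
  rw [isClosed_singleton_iff_isClosedImmersion] at hcl
  have : IsClosedImmersion (Spec.map (baseStr s)) := by
    unfold baseStr
    rw [Spec.map_preimage]
    exact hcl
  exact surjective_of_isClosedImmersion_SpecMap (baseStr s)

theorem strMap_eq (y : X) : strMap f y = baseStr (f y) ≫ f.residueFieldMap y := by
  apply Spec.map_injective
  unfold strMap baseStr
  rw [Spec.map_preimage, Spec.map_comp, Spec.map_preimage,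
    Scheme.Hom.SpecMap_residueFieldMap_fromSpecResidueField]

theorem finrank_strMap (y : X) :
    @Module.finrank k₀ (X.residueField y) _ _ (strMap f y).hom.toAlgebra.toModule =
      EGA4loc.residueDegree f y := by
  unfold EGA4loc.residueDegree
  let a1 : Algebra k₀ (X.residueField y) := (strMap f y).hom.toAlgebra
  let a2 : Algebra ((Spec (CommRingCat.of k₀)).residueField (f y)) (X.residueField y) :=
    (f.residueFieldMap y).hom.toAlgebra
  let a3 : Algebra k₀ ((Spec (CommRingCat.of k₀)).residueField (f y)) :=
    (baseStr (f y)).hom.toAlgebra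
  have : IsScalarTower k₀ ((Spec (CommRingCat.of k₀)).residueField (f y)) (X.residueField y) :=
    IsScalarTower.of_algebraMap_eq' (by
      change (strMap f y).hom = (f.residueFieldMap y).hom.comp (baseStr (f y)).hom
      rw [strMap_eq]; rfl)
  have h1 : Module.finrank k₀ ((Spec (CommRingCat.of k₀)).residueField (f y)) = 1 := by
    let e : k₀ ≃ₗ[k₀] ((Spec (CommRingCat.of k₀)).residueField (f y)) :=
      LinearEquiv.ofBijective (Algebra.linearMap k₀ _) (baseStr_bijective (f y))
    rw [← e.finrank_eq, Module.finrank_self]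
  have h2 := Module.finrank_mul_finrank k₀ ((Spec (CommRingCat.of k₀)).residueField (f y))
    (X.residueField y)
  rw [h1, one_mul] at h2
  exact h2.symm

end Degree


section FixedPts

variable {k₀ : Type u} [Field k₀] [Finite k₀] {k : Type u} [Field k] [IsAlgClosed k] [Algebra k₀ k]
  {X : Scheme.{u}} (f : X ⟶ Spec (CommRingCat.of k₀)) [LocallyOfFiniteType f]

/-- the points of `X` whose residue field is fixed by the `Q`-th power map. -/
def fixedPts (X : Scheme.{u}) (Q : ℕ) : Set X := {y | ∀ z : X.residueField y, z ^ Q = z}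

include f in
theorem isClosed_of_finite_residueField (y : X) [Finite (X.residueField y)] :
    IsClosed ({y} : Set X) := by
  have : JacobsonSpace X := LocallyOfFiniteType.jacobsonSpace f
  rw [isClosed_singleton_iff_locallyOfFiniteType]
  have h1 : LocallyOfFiniteType (X.fromSpecResidueField y ≫ f) := by
    have h2 : X.fromSpecResidueField y ≫ f = Spec.map (strMap f y) := (Spec.map_preimage _).symm
    rw [h2, HasRingHomProperty.Spec_iff (P := @LocallyOfFiniteType)]
    apply RingHom.Finite.finiteType
    let _ : Algebra k₀ (X.residueField y) := (strMap f y).hom.toAlgebra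
    change Module.Finite k₀ (X.residueField y)
    exact Module.Finite.of_finite
  exact locallyOfFiniteType_of_comp (X.fromSpecResidueField y) f

theorem mem_fixedPts_iff (m : ℕ) (hm : 0 < m) (y : X) :
    y ∈ fixedPts X (Nat.card k₀ ^ m) ↔
      IsClosed ({y} : Set X) ∧ EGA4loc.residueDegree f y ∣ m := by
  have : Fintype k₀ := Fintype.ofFinite k₀
  let _ : Algebra k₀ (X.residueField y) := (strMap f y).hom.toAlgebra
  have key := forall_pow_eq_iff k₀ (X.residueField y) m hm
  rw [finrank_strMap, ← Nat.card_eq_fintype_card] at key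
  constructor
  · intro h
    refine ⟨?_, key.mp h⟩
    have h2 : 2 ≤ Nat.card k₀ ^ m := by
      have h1 : 2 ≤ Nat.card k₀ := by
        rw [Nat.card_eq_fintype_card]; exact Fintype.one_lt_card
      calc 2 ≤ Nat.card k₀ := h1
        _ = Nat.card k₀ ^ 1 := (pow_one _).symm
        _ ≤ Nat.card k₀ ^ m := Nat.pow_le_pow_right (by omega) hm
    have : Finite (X.residueField y) := finite_of_forall_pow_eq _ h2 h
    exact isClosed_of_finite_residueField f y
  · intro h
    exact key.mpr h.2

/-- `k₀`-embeddings of the residue field into `k`. -/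
noncomputable def homEquiv (y : X) :
    {ψ : X.residueField y ⟶ CommRingCat.of k //
      strMap f y ≫ ψ = CommRingCat.ofHom (algebraMap k₀ k)} ≃
    @AlgHom k₀ (X.residueField y) k _ _ _ (strMap f y).hom.toAlgebra _ :=
  letI : Algebra k₀ (X.residueField y) := (strMap f y).hom.toAlgebra
  { toFun := fun ψ =>
      { toRingHom := ψ.1.hom
        commutes' := fun c => congrArg (fun φ => φ.hom c) ψ.2 }
    invFun := fun a => ⟨CommRingCat.ofHom a.toRingHom, by
      ext c
      exact a.commutes c⟩
    left_inv := fun ψ => rfl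
    right_inv := fun a => rfl }

theorem natCard_hom (y : X) (h : 0 < EGA4loc.residueDegree f y) :
    Nat.card {ψ : X.residueField y ⟶ CommRingCat.of k //
      strMap f y ≫ ψ = CommRingCat.ofHom (algebraMap k₀ k)} = EGA4loc.residueDegree f y := by
  have : Fintype k₀ := Fintype.ofFinite k₀
  let _ : Algebra k₀ (X.residueField y) := (strMap f y).hom.toAlgebra
  rw [Nat.card_congr (homEquiv f y), ← finrank_strMap]
  apply natCard_algHom_eq_finrank
  rw [finrank_strMap]
  exact h

end FixedPts

end Groth.Agent.Lib.Helper20.FrobCount
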