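import Mathlib
import Groth.Agent.Lib.Helper20.FrobFix
import Groth.Agent.Lib.Helper20.FrobCountA

/-!
# Counting the fixed points of a Frobenius endomorphism
-/

set_option autoImplicit false
universe u
open CategoryTheory AlgebraicGeometry CategoryTheory.Limits

namespace Groth.Agent.Lib.Helper20.FrobCount

open Groth.Agent.Lib.Helper20.FrobFix Groth.Agent.Lib.Helper20.FrobScheme

section Top

/-- In a quasi-sober Noetherian space, a closed set all of whose points are closed is finite. -/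
theorem finite_of_isClosed_of_forall_isClosed {α : Type*} [TopologicalSpace α]
    [TopologicalSpace.NoetherianSpace α] [QuasiSober α] (s : Set α) (hs : IsClosed s)
    (h : ∀ w ∈ s, IsClosed ({w} : Set α)) : s.Finite := by
  obtain ⟨S, hSf, hSc, hSi, rfl⟩ :=
    TopologicalSpace.NoetherianSpace.exists_finite_set_isClosed_irreducible hs
  refine Set.Finite.sUnion hSf fun t ht => ?_
  have hgen := (hSi t ht).isGenericPoint_genericPoint (hSc t ht)
  have hmem : (hSi t ht).genericPoint ∈ t := hgen.mem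
  have hcl := h _ (Set.mem_sUnion.mpr ⟨t, ht, hmem⟩)
  have : t = {(hSi t ht).genericPoint} := hgen.def.symm.trans hcl.closure_eq
  rw [this]
  exact Set.finite_singleton _

end Top

section Fix

variable {k₀ : Type u} [Field k₀] [Finite k₀] {k : Type u} [Field k] [IsAlgClosed k] [Algebra k₀ k]
  {X : Scheme.{u}} (f : X ⟶ Spec (CommRingCat.of k₀))
  (GX : X ⟶ X) (Q : ℕ) (hQ : 2 ≤ Q) (hGle : ∀ U : X.Opens, U ≤ GX ⁻¹ᵁ U)
  (hGapp : ∀ (U : X.Opens) (s : Γ(X, U)), (GX.appLE U U (hGle U)).hom s = s ^ Q)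
  {Y : Scheme.{u}} (g : Y ⟶ Spec (CommRingCat.of k)) [LocallyOfFiniteType g] (π : Y ⟶ X)
  (hπ : IsPullback π g f (Spec.map (CommRingCat.ofHom (algebraMap k₀ k))))
  (G : Y ⟶ Y) (hGg : G ≫ g = g) (hG : G ≫ π = π ≫ GX)
  {P : Scheme.{u}} (p q : P ⟶ Y) (hP : IsPullback p q g g) (d j : Y ⟶ P)
  (hdp : d ≫ p = 𝟙 Y) (hdq : d ≫ q = 𝟙 Y) (hjp : j ≫ p = 𝟙 Y) (hjq : j ≫ q = G)

include hdq hjq in
theorem fixed_of_eq (w : Y) (hdj : d w = j w) : G w = w := by
  have h1 : q (d w) = w := by rw [← Scheme.Hom.comp_apply, hdq]; rfl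
  have h2 : q (j w) = G w := by rw [← Scheme.Hom.comp_apply, hjq]
  rw [← h2, ← hdj, h1]

include hP hdp hdq hjp hjq in
theorem comp_d_eq_comp_j {Z : Scheme.{u}} (σ : Z ⟶ Y) (hσ : σ ≫ G = σ) : σ ≫ d = σ ≫ j := by
  apply hP.hom_ext
  · rw [Category.assoc, Category.assoc, hdp, hjp]
  · rw [Category.assoc, Category.assoc, hdq, hjq, hσ, Category.comp_id]

include hdp hjp in
theorem eq_of_mem_range (w : Y) (h : d w ∈ Set.range j) : d w = j w := by
  obtain ⟨w', hw'⟩ := h
  have h1 : p (d w) = w := by rw [← Scheme.Hom.comp_apply, hdp]; rfl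
  have h2 : p (j w') = w' := by rw [← Scheme.Hom.comp_apply, hjp]; rfl
  have : w' = w := by rw [← h2, hw', h1]
  rw [← hw', this]

include hdp hjp in
theorem setOf_eq_preimage : {w : Y | d w = j w} = d ⁻¹' (Set.range j) := by
  ext w
  constructor
  · intro h
    exact ⟨w, h.symm⟩
  · intro h
    exact eq_of_mem_range p d j hdp hjp w h

include hπ hQ hGapp hG hdp hdq hjp hjq in
theorem finite_setOf_eq [CompactSpace Y] (hjr : IsClosed (Set.range j)) :
    {w : Y | d w = j w}.Finite := by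
  have : IsLocallyNoetherian Y := by
    have : IsLocallyNoetherian (Spec (CommRingCat.of k)) := inferInstance
    exact LocallyOfFiniteType.isLocallyNoetherian g
  have : IsNoetherian Y := { }
  refine finite_of_isClosed_of_forall_isClosed _ ?_ ?_
  · rw [setOf_eq_preimage p d j hdp hjp]
    exact hjr.preimage d.continuous
  · intro w hw
    exact isClosed_of_eq f GX Q hQ hGle hGapp g π hπ G hG p q d j hdp hdq hjp hjq w hw

/-- the `k`-points fixed by `G` correspond to the points of the intersection of the graph with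
the diagonal. -/
noncomputable def pointEquiv :
    {σ : Spec (CommRingCat.of k) ⟶ Y // σ ≫ g = 𝟙 _ ∧ σ ≫ G = σ} ≃ {w : Y // d w = j w} where
  toFun σ := ⟨σ.1 (IsLocalRing.closedPoint k), by
    have h := comp_d_eq_comp_j g G p q hP d j hdp hdq hjp hjq σ.1 σ.2.2
    have h1 := congrArg (fun φ : Spec (CommRingCat.of k) ⟶ P => φ (IsLocalRing.closedPoint k)) h
    exact h1⟩
  invFun w :=
    have hcl : IsClosed ({w.1} : Set Y) :=
      isClosed_of_eq f GX Q hQ hGle hGapp g π hπ G hG p q d j hdp hdq hjp hjq w.1 w.2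
    ⟨pointOfClosedPoint g w.1 hcl, pointOfClosedPoint_comp g w.1 hcl, by
      apply ext_of_apply_closedPoint_eq g
      · rw [Category.assoc, hGg, pointOfClosedPoint_comp]
      · exact pointOfClosedPoint_comp g w.1 hcl
      · have h1 : (pointOfClosedPoint g w.1 hcl) (IsLocalRing.closedPoint k) = w.1 :=
          pointOfClosedPoint_apply g w.1 hcl _
        change G (pointOfClosedPoint g w.1 hcl _) = pointOfClosedPoint g w.1 hcl _
        exact (congrArg G h1).trans ((fixed_of_eq G q d j hdq hjq w.1 w.2).trans h1.symm)⟩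
  left_inv σ := by
    apply Subtype.ext
    apply ext_of_apply_closedPoint_eq g
    · exact pointOfClosedPoint_comp g _ _
    · exact σ.2.1
    · exact pointOfClosedPoint_apply g _ _ _
  right_inv w := by
    apply Subtype.ext
    exact pointOfClosedPoint_apply g _ _ _


include hπ hGg hG in
/-- `k`-points of `Y` fixed by `G` correspond to `k`-points of `X` (over `k₀`) fixed by `GX`. -/
noncomputable def baseChangeEquiv :
    {σ : Spec (CommRingCat.of k) ⟶ Y // σ ≫ g = 𝟙 _ ∧ σ ≫ G = σ} ≃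
      {τ : Spec (CommRingCat.of k) ⟶ X //
        τ ≫ f = Spec.map (CommRingCat.ofHom (algebraMap k₀ k)) ∧ τ ≫ GX = τ} where
  toFun σ := ⟨σ.1 ≫ π, by
    rw [Category.assoc, hπ.w, ← Category.assoc, σ.2.1, Category.id_comp], by
    rw [Category.assoc, ← hG, ← Category.assoc, σ.2.2]⟩
  invFun τ := ⟨hπ.lift τ.1 (𝟙 _) (by rw [τ.2.1, Category.id_comp]), hπ.lift_snd _ _ _, by
    apply hπ.hom_ext
    · rw [Category.assoc, hG, ← Category.assoc, hπ.lift_fst, τ.2.2]
    · rw [Category.assoc, hGg]⟩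
  left_inv σ := by
    apply Subtype.ext
    apply hπ.hom_ext
    · exact hπ.lift_fst _ _ _
    · rw [hπ.lift_snd]; exact σ.2.1.symm
  right_inv τ := by
    apply Subtype.ext
    exact hπ.lift_fst _ _ _

end Fix


section XLevel

variable {k₀ : Type u} [Field k₀] {k : Type u} [Field k] [Algebra k₀ k]
  {X : Scheme.{u}} (f : X ⟶ Spec (CommRingCat.of k₀))
  (GX : X ⟶ X) (Q : ℕ) (hGle : ∀ U : X.Opens, U ≤ GX ⁻¹ᵁ U)
  (hGapp : ∀ (U : X.Opens) (s : Γ(X, U)), (GX.appLE U U (hGle U)).hom s = s ^ Q)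

theorem fromSpecResidueField_eq (V : X.Opens) (hV : IsAffineOpen V) (y : X) (hy : y ∈ V) :
    X.fromSpecResidueField y = Spec.map (X.evaluation V y hy) ≫ hV.fromSpec := by
  rw [Scheme.fromSpecResidueField, ← hV.fromSpecStalk_eq_fromSpecStalk hy,
    IsAffineOpen.fromSpecStalk, ← Category.assoc, ← Spec.map_comp]
  rfl

theorem SpecMap_strMap (y : X) : Spec.map (strMap f y) = X.fromSpecResidueField y ≫ f :=
  Spec.map_preimage _

theorem comp_f_iff (y : X) (ψ : X.residueField y ⟶ CommRingCat.of k) :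
    (Spec.map ψ ≫ X.fromSpecResidueField y) ≫ f =
        Spec.map (CommRingCat.ofHom (algebraMap k₀ k)) ↔
      strMap f y ≫ ψ = CommRingCat.ofHom (algebraMap k₀ k) := by
  rw [Category.assoc, ← SpecMap_strMap, ← Spec.map_comp, Spec.map_inj]

include hGapp in
theorem comp_GX_iff (y : X) (ψ : X.residueField y ⟶ CommRingCat.of k) :
    (Spec.map ψ ≫ X.fromSpecResidueField y) ≫ GX = Spec.map ψ ≫ X.fromSpecResidueField y ↔
      y ∈ fixedPts X Q := by
  obtain ⟨_, ⟨V, hV, rfl⟩, hyV, -⟩ :=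
    X.isBasis_affineOpens.exists_subset_of_mem_open (Set.mem_univ y) isOpen_univ
  have hy : y ∈ V := hyV
  have hV' : IsAffineOpen V := hV
  have hnat : hV'.fromSpec ≫ GX = Spec.map (GX.appLE V V (hGle V)) ≫ hV'.fromSpec :=
    (IsAffineOpen.SpecMap_appLE_fromSpec GX hV' hV' (hGle V)).symm
  have hcomp : (Spec.map ψ ≫ X.fromSpecResidueField y) ≫ GX =
      Spec.map (GX.appLE V V (hGle V) ≫ X.evaluation V y hy ≫ ψ) ≫ hV'.fromSpec := by
    rw [fromSpecResidueField_eq V hV' y hy, Category.assoc, Category.assoc, hnat, Spec.map_comp,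
      Spec.map_comp, Category.assoc, Category.assoc]
  have hcomp' : Spec.map ψ ≫ X.fromSpecResidueField y =
      Spec.map (X.evaluation V y hy ≫ ψ) ≫ hV'.fromSpec := by
    rw [fromSpecResidueField_eq V hV' y hy, Spec.map_comp, Category.assoc]
  rw [hcomp, hcomp', cancel_mono, Spec.map_inj]
  constructor
  · intro h z
    have hval : ∀ a : Γ(X, V), ((X.evaluation V y hy).hom a) ^ Q = (X.evaluation V y hy).hom a := by
      intro a
      have h1 := congrArg (fun φ => φ.hom a) h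
      change ψ.hom ((X.evaluation V y hy).hom ((GX.appLE V V (hGle V)).hom a)) =
        ψ.hom ((X.evaluation V y hy).hom a) at h1
      rw [hGapp V a, map_pow, map_pow] at h1
      have hinj : Function.Injective ψ.hom := RingHom.injective _
      apply hinj
      rw [map_pow]
      exact h1
    obtain ⟨b, s, hs, rfl⟩ := exists_div V hV' y hy z
    rw [div_pow, hval, hval]
  · intro h
    ext a
    change ψ.hom ((X.evaluation V y hy).hom ((GX.appLE V V (hGle V)).hom a)) =
      ψ.hom ((X.evaluation V y hy).hom a)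
    rw [hGapp V a, map_pow, h]


/-- points of `X` with values in `k` correspond to pairs of a point and an embedding. -/
noncomputable def pointsEquiv :
    {τ : Spec (CommRingCat.of k) ⟶ X //
      τ ≫ f = Spec.map (CommRingCat.ofHom (algebraMap k₀ k)) ∧ τ ≫ GX = τ} ≃
    {yψ : Σ y : X, X.residueField y ⟶ CommRingCat.of k //
      yψ.1 ∈ fixedPts X Q ∧ strMap f yψ.1 ≫ yψ.2 = CommRingCat.ofHom (algebraMap k₀ k)} :=
  ((Scheme.SpecToEquivOfField k X).symm.subtypeEquiv (fun yψ => by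
    change _ ↔ ((Spec.map yψ.2 ≫ X.fromSpecResidueField yψ.1) ≫ f = _ ∧
      (Spec.map yψ.2 ≫ X.fromSpecResidueField yψ.1) ≫ GX =
        Spec.map yψ.2 ≫ X.fromSpecResidueField yψ.1)
    rw [comp_f_iff, comp_GX_iff GX Q hGle hGapp]
    exact and_comm)).symm

/-- rearranging a subtype of a sigma type. -/
def sigmaEquiv {α : Type*} (H : α → Type*) (T : Set α) (C : ∀ a, H a → Prop) :
    {a : Σ y : α, H y // a.1 ∈ T ∧ C a.1 a.2} ≃ Σ y : {y // y ∈ T}, {ψ : H y.1 // C y.1 ψ} where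
  toFun a := ⟨⟨a.1.1, a.2.1⟩, ⟨a.1.2, a.2.2⟩⟩
  invFun b := ⟨⟨b.1.1, b.2.1⟩, ⟨b.1.2, b.2.2⟩⟩
  left_inv _ := rfl
  right_inv _ := rfl

end XLevel

section Assembly

variable {k₀ : Type u} [Field k₀] [Finite k₀] {k : Type u} [Field k] [IsAlgClosed k] [Algebra k₀ k]
  {X : Scheme.{u}} (f : X ⟶ Spec (CommRingCat.of k₀)) [LocallyOfFiniteType f]
  (GX : X ⟶ X) (m : ℕ) (hm : 0 < m) (hGle : ∀ U : X.Opens, U ≤ GX ⁻¹ᵁ U)
  (hGapp : ∀ (U : X.Opens) (s : Γ(X, U)),
    (GX.appLE U U (hGle U)).hom s = s ^ (Nat.card k₀ ^ m))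
  {Y : Scheme.{u}} (g : Y ⟶ Spec (CommRingCat.of k)) [LocallyOfFiniteType g] [CompactSpace Y]
  (π : Y ⟶ X)
  (hπ : IsPullback π g f (Spec.map (CommRingCat.ofHom (algebraMap k₀ k))))
  (G : Y ⟶ Y) (hGg : G ≫ g = g) (hG : G ≫ π = π ≫ GX)
  {P : Scheme.{u}} (p q : P ⟶ Y) (hP : IsPullback p q g g) (d j : Y ⟶ P)
  (hdp : d ≫ p = 𝟙 Y) (hdq : d ≫ q = 𝟙 Y) (hjp : j ≫ p = 𝟙 Y) (hjq : j ≫ q = G)

omit [Finite k₀] [IsAlgClosed k] [Algebra k₀ k] in
theorem two_le_pow (q m : ℕ) (hm : 0 < m) (h1 : 2 ≤ q) : 2 ≤ q ^ m := by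
  calc 2 ≤ q := h1
    _ = q ^ 1 := (pow_one _).symm
    _ ≤ q ^ m := Nat.pow_le_pow_right (by omega) hm

include hm hGapp hπ hGg hG hP hdp hdq hjp hjq in
/-- the number of points of the intersection of the graph of the `q^m`-Frobenius with the
diagonal is `N_m`. -/
theorem natCard_setOf_eq (hjr : IsClosed (Set.range j)) :
    Nat.card {w : Y // d w = j w} = Zeta.nPts f m := by
  classical
  have : Fintype k₀ := Fintype.ofFinite k₀
  have hq2 : 2 ≤ Nat.card k₀ := by
    rw [Nat.card_eq_fintype_card]; exact Fintype.one_lt_card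
  have hQ : 2 ≤ Nat.card k₀ ^ m := two_le_pow _ m hm hq2
  -- finiteness
  have hfin : Finite {w : Y // d w = j w} :=
    (finite_setOf_eq f GX _ hQ hGle hGapp g π hπ G hG p q d j hdp hdq hjp hjq hjr).to_subtype
  -- the chain of equivalences
  let E := (pointEquiv f GX _ hQ hGle hGapp g π hπ G hGg hG p q hP d j hdp hdq hjp hjq).symm.trans
    ((baseChangeEquiv f GX g π hπ G hGg hG).trans
      ((pointsEquiv f GX _ hGle hGapp).trans
        (sigmaEquiv (fun y : X => X.residueField y ⟶ CommRingCat.of k) (fixedPts X (Nat.card k₀ ^ m))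
          (fun y ψ => strMap f y ≫ ψ = CommRingCat.ofHom (algebraMap k₀ k)))))
  have hE := Nat.card_congr E
  rw [hE]
  have hfinSig : Finite (Σ y : {y // y ∈ fixedPts X (Nat.card k₀ ^ m)},
      {ψ : X.residueField y.1 ⟶ CommRingCat.of k //
        strMap f y.1 ≫ ψ = CommRingCat.ofHom (algebraMap k₀ k)}) := Finite.of_equiv _ E
  -- degrees
  have hdeg : ∀ y : {y // y ∈ fixedPts X (Nat.card k₀ ^ m)},
      IsClosed ({y.1} : Set X) ∧ EGA4loc.residueDegree f y.1 ∣ m :=
    fun y => (mem_fixedPts_iff f m hm y.1).mp y.2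
  have hpos : ∀ y : {y // y ∈ fixedPts X (Nat.card k₀ ^ m)}, 0 < EGA4loc.residueDegree f y.1 :=
    fun y => Nat.pos_of_dvd_of_pos (hdeg y).2 hm
  have hcardH : ∀ y : {y // y ∈ fixedPts X (Nat.card k₀ ^ m)},
      Nat.card {ψ : X.residueField y.1 ⟶ CommRingCat.of k //
        strMap f y.1 ≫ ψ = CommRingCat.ofHom (algebraMap k₀ k)} = EGA4loc.residueDegree f y.1 :=
    fun y => natCard_hom f y.1 (hpos y)
  have hfinT : Finite {y // y ∈ fixedPts X (Nat.card k₀ ^ m)} := by
    refine Finite.of_surjective (fun a : (Σ y : {y // y ∈ fixedPts X (Nat.card k₀ ^ m)},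
      {ψ : X.residueField y.1 ⟶ CommRingCat.of k //
        strMap f y.1 ≫ ψ = CommRingCat.ofHom (algebraMap k₀ k)}) => a.1) ?_
    intro y
    have h1 := hcardH y
    have h2 : Nat.card {ψ : X.residueField y.1 ⟶ CommRingCat.of k //
        strMap f y.1 ≫ ψ = CommRingCat.ofHom (algebraMap k₀ k)} ≠ 0 := by
      rw [h1]; exact (hpos y).ne'
    obtain ⟨ψ⟩ := (Nat.card_ne_zero.mp h2).1
    exact ⟨⟨y, ψ⟩, rfl⟩
  have : Fintype {y // y ∈ fixedPts X (Nat.card k₀ ^ m)} := Fintype.ofFinite _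
  have hfinH : ∀ y : {y // y ∈ fixedPts X (Nat.card k₀ ^ m)},
      Finite {ψ : X.residueField y.1 ⟶ CommRingCat.of k //
        strMap f y.1 ≫ ψ = CommRingCat.ofHom (algebraMap k₀ k)} := by
    intro y
    apply Nat.finite_of_card_ne_zero
    rw [hcardH y]; exact (hpos y).ne'
  rw [Nat.card_sigma]
  simp_rw [hcardH]
  -- regroup by degree
  unfold Zeta.nPts
  rw [← Finset.sum_fiberwise_of_maps_to (s := Finset.univ) (t := m.divisors)
    (g := fun y : {y // y ∈ fixedPts X (Nat.card k₀ ^ m)} => EGA4loc.residueDegree f y.1)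
    (fun y _ => Nat.mem_divisors.mpr ⟨(hdeg y).2, hm.ne'⟩)]
  refine Finset.sum_congr rfl fun e he => ?_
  rw [Finset.sum_congr rfl (fun y hy => (Finset.mem_filter.mp hy).2), Finset.sum_const,
    smul_eq_mul, mul_comm]
  congr 1
  unfold Zeta.degCount
  rw [← Fintype.card_subtype, ← Nat.card_eq_fintype_card]
  refine Nat.card_congr ?_
  have hem : e ∣ m := Nat.dvd_of_mem_divisors he
  exact
    { toFun := fun y => ⟨y.1.1, (hdeg y.1).1, y.2⟩
      invFun := fun x => ⟨⟨x.1, (mem_fixedPts_iff f m hm x.1).mpr ⟨x.2.1, by rw [x.2.2]; exact hem⟩⟩, x.2.2⟩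
      left_inv := fun y => rfl
      right_inv := fun x => rfl }

include hm hGapp hπ hG hdp hdq hjp hjq in
theorem finite_setOf_eq' (hjr : IsClosed (Set.range j)) : {w : Y | d w = j w}.Finite := by
  have : Fintype k₀ := Fintype.ofFinite k₀
  have hq2 : 2 ≤ Nat.card k₀ := by
    rw [Nat.card_eq_fintype_card]; exact Fintype.one_lt_card
  exact finite_setOf_eq f GX _ (two_le_pow _ m hm hq2) hGle hGapp g π hπ G hG p q d j hdp hdq hjp hjq hjr

end Assembly

end Groth.Agent.Lib.Helper20.FrobCount
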