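import Mathlib
import Groth.Agent.Lib.Helper4.FinAcc1

/-!
# Functors on `A`-algebras preserving filtered colimits: elements come from finitely presented
algebras, hence from solutions of polynomial systems.
-/

set_option autoImplicit false
set_option linter.style.haveILetI false
universe u

namespace Groth.Agent.Lib.Helper20.FunApx

open CategoryTheory CategoryTheory.Limits MvPolynomial

variable {A : Type u} [CommRing A]

/-- Every element of `F(X)` comes from a finitely presented `A`-algebra mapping to `X`. -/
theorem exists_pfp (F : Under (CommRingCat.of A) ⥤ Type u)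
    (hF : ∀ (J : Type u) [SmallCategory J] [IsFiltered J], PreservesColimitsOfShape J F)
    (X : Under (CommRingCat.of A)) (ξ : F.obj X) :
    ∃ (X₀ : Under (CommRingCat.of A)) (_ : X₀.hom.hom.FinitePresentation) (g : X₀ ⟶ X)
      (ξ₀ : F.obj X₀), F.map g ξ₀ = ξ := by
  obtain ⟨J, _, _, pres, hp⟩ := Groth.Agent.Lib.Helper4.FinAcc.ind_pfp X
  haveI := hF J
  have hc : IsColimit (F.mapCocone (Cocone.mk _ pres.ι)) := isColimitOfPreserves F pres.isColimit
  obtain ⟨j, y, hy⟩ := Types.jointly_surjective_of_isColimit hc ξ
  exact ⟨pres.diag.obj j, hp j, pres.ι.app j, y, hy⟩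

/-- Polynomial form: every element `ξ ∈ F(X)` is controlled by a solution `b` in `X` of a finite
polynomial system `f` over `A`: any other solution `c` in `Y` which agrees with `b` in `Z` (along
`ρ : Y ⟶ Z` and `π : X ⟶ Z`) gives `η ∈ F(Y)` agreeing with `ξ` in `F(Z)`. -/
theorem exists_poly (F : Under (CommRingCat.of A) ⥤ Type u)
    (hF : ∀ (J : Type u) [SmallCategory J] [IsFiltered J], PreservesColimitsOfShape J F)
    (X : Under (CommRingCat.of A)) (ξ : F.obj X) :
    ∃ (k l : ℕ) (f : Fin l → MvPolynomial (Fin k) A) (b : Fin k → X.right),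
      (∀ i, eval₂ X.hom.hom b (f i) = 0) ∧
      ∀ (Y Z : Under (CommRingCat.of A)) (c : Fin k → Y.right)
        (_ : ∀ i, eval₂ Y.hom.hom c (f i) = 0) (ρ : Y ⟶ Z) (π : X ⟶ Z)
        (_ : ∀ j, ρ.right.hom (c j) = π.right.hom (b j)),
        ∃ η : F.obj Y, F.map ρ η = F.map π ξ := by
  classical
  obtain ⟨X₀, hfp, g, ξ₀, hξ₀⟩ := exists_pfp F hF X ξ
  letI : Algebra A X₀.right := X₀.hom.hom.toAlgebra
  have hfp' : Algebra.FinitePresentation A X₀.right := hfp
  obtain ⟨k, q, hq, S, hS⟩ := Algebra.FinitePresentation.out (R := A) (A := X₀.right)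
  have hgw : ∀ a : A, g.right.hom (X₀.hom.hom a) = X.hom.hom a := by
    intro a
    have := Under.w g
    exact congrArg (fun t => t.hom a) this
  have halg : ∀ a : A, algebraMap A X₀.right a = X₀.hom.hom a := fun a => rfl
  refine ⟨k, S.card, fun i => (S.equivFin.symm i).1, fun j => g.right.hom (q (MvPolynomial.X j)), ?_, ?_⟩
  · intro i
    have hmem : ((S.equivFin.symm i).1 : MvPolynomial (Fin k) A) ∈ RingHom.ker q.toRingHom := by
      rw [← hS]
      exact Ideal.subset_span (S.equivFin.symm i).2
    have h0 : q ((S.equivFin.symm i).1) = 0 := hmem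
    -- `eval₂ X.hom b p = g (q p)`
    have key : ∀ p : MvPolynomial (Fin k) A,
        eval₂ X.hom.hom (fun j => g.right.hom (q (MvPolynomial.X j))) p = g.right.hom (q p) := by
      intro p
      induction p using MvPolynomial.induction_on with
      | C a =>
        rw [eval₂_C, ← algebraMap_eq, q.commutes, halg, hgw]
      | add p p' hp hp' => rw [eval₂_add, hp, hp', map_add, map_add]
      | mul_X p j hp => rw [eval₂_mul, eval₂_X, hp, map_mul, map_mul]
    rw [key, h0, map_zero]
  · intro Y Z c hc ρ π hcb
    letI : Algebra A Y.right := Y.hom.hom.toAlgebra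
    -- the algebra map `X₀ → Y` defined by the solution `c`
    have hker : ∀ p ∈ RingHom.ker q.toRingHom, (aeval c : MvPolynomial (Fin k) A →ₐ[A] Y.right) p = 0 := by
      intro p hp
      rw [← hS] at hp
      refine Submodule.span_induction ?_ ?_ ?_ ?_ hp
      · intro s hs
        have := hc (S.equivFin ⟨s, hs⟩)
        simp only [Equiv.symm_apply_apply] at this
        exact this
      · exact map_zero _
      · intro x y _ _ hx hy
        rw [map_add, hx, hy, add_zero]
      · intro a x _ hx
        rw [smul_eq_mul, map_mul, hx, mul_zero]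
    let h₀ : X₀.right →ₐ[A] Y.right :=
      (Ideal.Quotient.liftₐ (RingHom.ker q.toRingHom) (aeval c) hker).comp
        (Ideal.quotientKerAlgEquivOfSurjective hq).symm.toAlgHom
    have h₀q : ∀ p, h₀ (q p) = aeval c p := by
      intro p
      have : (Ideal.quotientKerAlgEquivOfSurjective hq).symm (q p) =
          Ideal.Quotient.mk _ p := by
        rw [AlgEquiv.symm_apply_eq]
        rfl
      change (Ideal.Quotient.liftₐ (RingHom.ker q.toRingHom) (aeval c) hker)
        ((Ideal.quotientKerAlgEquivOfSurjective hq).symm (q p)) = _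
      rw [this]
      rfl
    let h : X₀ ⟶ Y := Under.homMk (CommRingCat.ofHom h₀.toRingHom) (by
      ext a
      exact h₀.commutes a)
    refine ⟨F.map h ξ₀, ?_⟩
    have hcomm : h ≫ ρ = g ≫ π := by
      apply Under.UnderMorphism.ext
      ext x
      obtain ⟨p, rfl⟩ := hq x
      change ρ.right.hom (h₀ (q p)) = π.right.hom (g.right.hom (q p))
      rw [h₀q]
      have hρw : ∀ a : A, ρ.right.hom (Y.hom.hom a) = Z.hom.hom a := fun a =>
        congrArg (fun t => t.hom a) (Under.w ρ)
      have hπw : ∀ a : A, π.right.hom (X.hom.hom a) = Z.hom.hom a := fun a =>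
        congrArg (fun t => t.hom a) (Under.w π)
      induction p using MvPolynomial.induction_on with
      | C a =>
        rw [← algebraMap_eq, AlgHom.commutes, q.commutes, halg, hgw, hπw]
        exact hρw a
      | add p p' hp hp' => rw [map_add, map_add, hp, hp', map_add, map_add, map_add]
      | mul_X p j hp =>
        rw [map_mul, map_mul, hp, aeval_X, hcb j, map_mul, map_mul, map_mul]
    rw [← hξ₀, ← Functor.map_comp_apply, ← Functor.map_comp_apply, hcomm]

end Groth.Agent.Lib.Helper20.FunApx
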