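import Mathlib
import Groth.Agent.Lib.Helper8.PO5
import Groth.Agent.Lib.Helper21.AdicNoetherian
import Groth.Prelude.Def_Smoothing
import Groth.Agent.S2043

/-!
# Étale-neighbourhood form of Artin approximation for a pair with regular completion map
-/

set_option autoImplicit false
set_option linter.style.haveILetI false
universe u

namespace Groth.Agent.Lib.Helper20.FunApx2

open MvPolynomial

/-- Let `A` be Noetherian, `I` an ideal with `A → Â` regular, and `a` a solution in `Â` of a finite
polynomial system `F`. For every `N` there are an étale `A`-algebra `A'`, a surjective `A`-algebra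
map `φ : A' → A/I^N` with kernel `I^N A'` and a solution `b` in `A'` with `φ (b i) = a i mod I^N`. -/
theorem etale_approx (A : Type u) [CommRing A] [IsNoetherianRing A]
    (I : Ideal A) (hreg : CAlg.IsRegularHom A (AdicCompletion I A)) (n m : ℕ)
    (F : Fin m → MvPolynomial (Fin n) A) (a : Fin n → (AdicCompletion I A))
    (ha : ∀ j, MvPolynomial.aeval a (F j) = 0) (N : ℕ) :
    ∃ (A' : Type u) (_ : CommRing A') (_ : Algebra A A'), Algebra.Etale A A' ∧
      ∃ φ : A' →ₐ[A] A ⧸ I ^ N, Function.Surjective φ ∧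
        RingHom.ker φ.toRingHom = (I ^ N).map (algebraMap A A') ∧
        ∃ b : Fin n → A', (∀ j, MvPolynomial.aeval b (F j) = 0) ∧
          ∀ i, φ (b i) = AdicCompletion.evalₐ I N (a i) := by
  classical
  have hIfg : I.FG := IsNoetherian.noetherian I
  haveI : IsNoetherianRing (AdicCompletion I A) :=
    Groth.Agent.Lib.Helper21.isNoetherianRing_adicCompletion_of_fg I hIfg
  have hfg : (Ideal.span (Set.range F)).FG := ⟨Finset.univ.image F, by
    rw [Finset.coe_image, Finset.coe_univ, Set.image_univ]⟩
  haveI : Algebra.FinitePresentation A (MvPolynomial (Fin n) A ⧸ Ideal.span (Set.range F)) :=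
    Algebra.FinitePresentation.quotient hfg
  let φ₀ : (MvPolynomial (Fin n) A ⧸ Ideal.span (Set.range F)) →ₐ[A] AdicCompletion I A :=
    Ideal.Quotient.liftₐ _ (MvPolynomial.aeval a) (by
      intro x hx
      have hle : Ideal.span (Set.range F) ≤ RingHom.ker (MvPolynomial.aeval a).toRingHom := by
        rw [Ideal.span_le]
        rintro _ ⟨j, rfl⟩
        exact ha j
      exact hle hx)
  obtain ⟨B, _, _, hsm, g, h, hgh⟩ :=
    Groth.Agent.Lib.Helper8.PO5.popescu A (AdicCompletion I A) hreg _ inferInstance φ₀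
  haveI := hsm
  let σ : B →ₐ[A] A ⧸ I ^ N := (AdicCompletion.evalₐ I N).comp h
  obtain ⟨A', _, _, het, hbij, τ, hτ⟩ := Groth.Agent.S2043.result (I ^ N) σ
  -- the map `A' → A / I^N`
  let e : (A ⧸ I ^ N) ≃+* (A' ⧸ (I ^ N).map (algebraMap A A')) :=
    RingEquiv.ofBijective (algebraMap (A ⧸ I ^ N) (A' ⧸ (I ^ N).map (algebraMap A A'))) hbij
  have he : ∀ x : A, e (Ideal.Quotient.mk (I ^ N) x) =
      Ideal.Quotient.mk _ (algebraMap A A' x) := fun x => rfl
  let φ : A' →ₐ[A] A ⧸ I ^ N :=
    { toRingHom := e.symm.toRingHom.comp (Ideal.Quotient.mk ((I ^ N).map (algebraMap A A')))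
      commutes' := by
        intro x
        change e.symm (Ideal.Quotient.mk _ (algebraMap A A' x)) = Ideal.Quotient.mk _ x
        rw [← he, RingEquiv.symm_apply_apply] }
  have hφ : ∀ x : A', φ x = e.symm (Ideal.Quotient.mk _ x) := fun x => rfl
  have hφτ : ∀ d : B, φ (τ d) = σ d := by
    intro d
    rw [hφ, hτ d]
    exact e.symm_apply_apply (σ d)
  let y : Fin n → B := fun i => g (Ideal.Quotient.mk _ (MvPolynomial.X i))
  refine ⟨A', inferInstance, inferInstance, het, φ, ?_, ?_, fun i => τ (y i), ?_, ?_⟩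
  · intro z
    obtain ⟨x, rfl⟩ := Ideal.Quotient.mk_surjective z
    exact ⟨algebraMap A A' x, φ.commutes x⟩
  · ext x
    rw [RingHom.mem_ker]
    change φ x = 0 ↔ _
    rw [hφ, RingEquiv.map_eq_zero_iff (f := e.symm), Ideal.Quotient.eq_zero_iff_mem]
  · intro j
    have h1 : MvPolynomial.aeval (fun i => τ (y i)) =
        (τ.comp g).comp (Ideal.Quotient.mkₐ A (Ideal.span (Set.range F))) := by
      apply MvPolynomial.algHom_ext
      intro i
      rw [MvPolynomial.aeval_X]
      rfl
    rw [h1]
    change τ (g (Ideal.Quotient.mk _ (F j))) = 0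
    rw [Ideal.Quotient.eq_zero_iff_mem.mpr (Ideal.subset_span (Set.mem_range_self j)), map_zero,
      map_zero]
  · intro i
    have hai : a i = h (y i) := by
      have : h (g (Ideal.Quotient.mk _ (MvPolynomial.X i))) =
          φ₀ (Ideal.Quotient.mk _ (MvPolynomial.X i)) := by
        rw [← hgh]
        rfl
      change a i = h (g (Ideal.Quotient.mk _ (MvPolynomial.X i)))
      rw [this]
      change a i = MvPolynomial.aeval a (MvPolynomial.X i)
      rw [MvPolynomial.aeval_X]
    rw [hφτ, hai]
    rfl

end Groth.Agent.Lib.Helper20.FunApx2
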