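import Mathlib

set_option autoImplicit false
universe u

namespace Groth.Agent.Lib.Helper20.GL2Surj

open Matrix

variable {p : ℕ} [Fact p.Prime]

/-- 2×2 matrices over `ℤ_p`. -/
abbrev M2 (p : ℕ) [Fact p.Prime] := Matrix (Fin 2) (Fin 2) ℤ_[p]

lemma isUnit_of_toZMod_ne_zero (x : ℤ_[p]) (h : PadicInt.toZMod x ≠ 0) : IsUnit x := by
  by_contra hx
  have h1 : x ∈ IsLocalRing.maximalIdeal ℤ_[p] := (IsLocalRing.mem_maximalIdeal x).2 hx
  rw [← PadicInt.ker_toZMod] at h1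
  exact h h1

lemma toZMod_p : PadicInt.toZMod ((p : ℕ) : ℤ_[p]) = 0 := by
  rw [map_natCast]; exact ZMod.natCast_self p

lemma isUnit_of_not_dvd (a : ℤ_[p]) (h : ¬ ((p : ℤ_[p]) ∣ a)) : IsUnit a := by
  by_contra hx
  have h1 : a ∈ IsLocalRing.maximalIdeal ℤ_[p] := (IsLocalRing.mem_maximalIdeal a).2 hx
  rw [PadicInt.maximalIdeal_eq_span_p, Ideal.mem_span_singleton] at h1
  exact h h1

/-- congruence lifting: `A.map toZMod = A'.map toZMod → ∃ C, A = A' + p • C`. -/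
lemma exists_eq_add_smul (A A' : M2 p)
    (h : A.map (PadicInt.toZMod (p := p)) = A'.map (PadicInt.toZMod (p := p))) :
    ∃ C : M2 p, A = A' + (p : ℤ_[p]) • C := by
  have h1 : ∀ i j, ∃ c : ℤ_[p], A i j - A' i j = (p : ℤ_[p]) * c := by
    intro i j
    have h2 : PadicInt.toZMod (A i j - A' i j) = 0 := by
      have := congrFun (congrFun h i) j
      simp only [Matrix.map_apply] at this
      rw [map_sub, this, sub_self]
    have h3 : A i j - A' i j ∈ RingHom.ker (PadicInt.toZMod (p := p)) := h2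
    rw [PadicInt.ker_toZMod, PadicInt.maximalIdeal_eq_span_p, Ideal.mem_span_singleton] at h3
    obtain ⟨c, hc⟩ := h3
    exact ⟨c, hc⟩
  choose C hC using h1
  refine ⟨Matrix.of C, ?_⟩
  ext i j
  simp only [Matrix.add_apply, Matrix.smul_apply, Matrix.of_apply, smul_eq_mul]
  rw [← hC]; ring

lemma one_add_mul_one_add (a : ℤ_[p]) (U U' : M2 p) :
    (1 + a • U) * (1 + a • U') = 1 + a • U + a • U' + (a * a) • (U * U') := by
  simp only [add_mul, mul_add, one_mul, mul_one, smul_mul_assoc, mul_smul_comm]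
  module

variable (H : Subgroup (GL (Fin 2) ℤ_[p]))

/-- `P H n X`: there is `h ∈ H` with `h ≡ 1 + pⁿ X mod p^{n+1}`. -/
def P (n : ℕ) (X : M2 p) : Prop :=
  ∃ h ∈ H, ∃ Y : M2 p, ((h : GL (Fin 2) ℤ_[p]) : M2 p) =
    1 + (p : ℤ_[p]) ^ n • X + (p : ℤ_[p]) ^ (n + 1) • Y

variable {H}

lemma P_zero (n : ℕ) : P H n (0 : M2 p) :=
  ⟨1, H.one_mem, 0, by simp⟩

lemma P_congr {n : ℕ} {X : M2 p} (h : P H n X) (Z : M2 p) : P H n (X + (p : ℤ_[p]) • Z) := by
  obtain ⟨g, hg, Y, hY⟩ := h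
  refine ⟨g, hg, Y - Z, ?_⟩
  rw [hY, pow_succ]
  module

lemma P_add {n : ℕ} (hn : 1 ≤ n) {X X' : M2 p} (h : P H n X) (h' : P H n X') :
    P H n (X + X') := by
  obtain ⟨m, rfl⟩ : ∃ m, n = m + 1 := ⟨n - 1, by omega⟩
  obtain ⟨g, hg, Y, hY⟩ := h
  obtain ⟨g', hg', Y', hY'⟩ := h'
  refine ⟨g * g', H.mul_mem hg hg', Y + Y' + (p : ℤ_[p]) ^ m •
    ((X + (p : ℤ_[p]) • Y) * (X' + (p : ℤ_[p]) • Y')), ?_⟩
  have e1 : ((g : GL (Fin 2) ℤ_[p]) : M2 p) =
      1 + (p : ℤ_[p]) ^ (m + 1) • (X + (p : ℤ_[p]) • Y) := by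
    rw [hY, pow_succ _ (m + 1)]; module
  have e2 : ((g' : GL (Fin 2) ℤ_[p]) : M2 p) =
      1 + (p : ℤ_[p]) ^ (m + 1) • (X' + (p : ℤ_[p]) • Y') := by
    rw [hY', pow_succ _ (m + 1)]; module
  rw [Units.val_mul, e1, e2, one_add_mul_one_add]
  generalize (X + (p : ℤ_[p]) • Y) * (X' + (p : ℤ_[p]) • Y') = T
  rw [pow_succ _ (m + 1), pow_succ _ m]
  module

lemma P_conj {n : ℕ} {X : M2 p} (h : P H n X) {g : GL (Fin 2) ℤ_[p]} (hg : g ∈ H) :
    P H n ((g : M2 p) * X * ((g⁻¹ : GL (Fin 2) ℤ_[p]) : M2 p)) := by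
  obtain ⟨k, hk, Y, hY⟩ := h
  refine ⟨g * k * g⁻¹, H.mul_mem (H.mul_mem hg hk) (H.inv_mem hg),
    (g : M2 p) * Y * ((g⁻¹ : GL (Fin 2) ℤ_[p]) : M2 p), ?_⟩
  rw [Units.val_mul, Units.val_mul, hY]
  have e : (g : M2 p) * ((g⁻¹ : GL (Fin 2) ℤ_[p]) : M2 p) = 1 := Units.mul_inv g
  simp only [add_mul, mul_add, mul_one, smul_mul_assoc, mul_smul_comm, e]

lemma P_nsmul {n : ℕ} (hn : 1 ≤ n) {X : M2 p} (h : P H n X) (k : ℕ) : P H n (k • X) := by
  induction k with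
  | zero => rw [zero_smul]; exact P_zero n
  | succ k ih => rw [succ_nsmul]; exact P_add hn ih h

lemma P_smul {n : ℕ} (hn : 1 ≤ n) {X : M2 p} (h : P H n X) (z : ℤ_[p]) : P H n (z • X) := by
  obtain ⟨k, -, hk⟩ := PadicInt.exists_mem_range z
  rw [PadicInt.maximalIdeal_eq_span_p, Ideal.mem_span_singleton] at hk
  obtain ⟨c, hc⟩ := hk
  have e : z • X = k • X + (p : ℤ_[p]) • (c • X) := by
    have : z = (k : ℤ_[p]) + (p : ℤ_[p]) * c := by rw [← hc]; ring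
    rw [this, add_smul, mul_smul, Nat.cast_smul_eq_nsmul]
  rw [e]
  exact P_congr (P_nsmul hn h k) _

/-- matrices congruent mod `p` -/
lemma P_of_map_eq {n : ℕ} {X X' : M2 p} (h : P H n X)
    (e : X'.map (PadicInt.toZMod (p := p)) = X.map (PadicInt.toZMod (p := p))) : P H n X' := by
  obtain ⟨C, hC⟩ := exists_eq_add_smul X' X e
  rw [hC]
  exact P_congr h C

lemma P_conj_mod {n : ℕ} {X : M2 p} (h : P H n X)
    (hi : ∀ w : GL (Fin 2) (ZMod p), ∃ h ∈ H,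
      Matrix.GeneralLinearGroup.map (PadicInt.toZMod (p := p)) h = w)
    (W W' X' : M2 p)
    (hW : W.map (PadicInt.toZMod (p := p)) * W'.map (PadicInt.toZMod (p := p)) = 1)
    (hW' : W'.map (PadicInt.toZMod (p := p)) * W.map (PadicInt.toZMod (p := p)) = 1)
    (hX' : X' = W * X * W') :
    P H n X' := by
  obtain ⟨g, hg, hgw⟩ := hi ⟨W.map PadicInt.toZMod, W'.map PadicInt.toZMod, hW, hW'⟩
  have h1 := P_conj h hg
  refine P_of_map_eq h1 ?_
  have e1 : ((g : GL (Fin 2) ℤ_[p]) : M2 p).map (PadicInt.toZMod (p := p)) =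
      W.map PadicInt.toZMod := congrArg Units.val hgw
  have e2 : ((g⁻¹ : GL (Fin 2) ℤ_[p]) : M2 p).map (PadicInt.toZMod (p := p)) =
      W'.map PadicInt.toZMod := by
    have h2 : (((Matrix.GeneralLinearGroup.map (PadicInt.toZMod (p := p)) g)⁻¹ :
        GL (Fin 2) (ZMod p)) : Matrix (Fin 2) (Fin 2) (ZMod p)) = W'.map PadicInt.toZMod := by
      rw [hgw]; rfl
    rw [← map_inv] at h2
    exact h2
  rw [hX', Matrix.map_mul, Matrix.map_mul, Matrix.map_mul, Matrix.map_mul, e1, e2]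

lemma map_mul_map_eq_one (W W' : M2 p) (h : W * W' = 1) :
    W.map (PadicInt.toZMod (p := p)) * W'.map (PadicInt.toZMod (p := p)) = 1 := by
  rw [← Matrix.map_mul, h]
  exact (RingHom.mapMatrix (PadicInt.toZMod (p := p))).map_one

lemma swap_mul_swap : (!![0, 1; 1, 0] : M2 p) * !![0, 1; 1, 0] = 1 := by
  ext i j; fin_cases i <;> fin_cases j <;> simp [Matrix.mul_apply, Fin.sum_univ_two]

lemma upper_mul : (!![1, 1; 0, 1] : M2 p) * !![1, -1; 0, 1] = 1 := by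
  ext i j; fin_cases i <;> fin_cases j <;> simp [Matrix.mul_apply, Fin.sum_univ_two]

lemma upper_mul' : (!![1, -1; 0, 1] : M2 p) * !![1, 1; 0, 1] = 1 := by
  ext i j; fin_cases i <;> fin_cases j <;> simp [Matrix.mul_apply, Fin.sum_univ_two]

lemma P_all (hi : ∀ w : GL (Fin 2) (ZMod p), ∃ h ∈ H,
      Matrix.GeneralLinearGroup.map (PadicInt.toZMod (p := p)) h = w)
    {n : ℕ} (hn : 1 ≤ n) (h11 : P H n (!![1, 0; 0, 0] : M2 p)) (X : M2 p) : P H n X := by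
  have h22 : P H n (!![0, 0; 0, 1] : M2 p) := by
    refine P_conj_mod h11 hi !![0, 1; 1, 0] !![0, 1; 1, 0] _
      (map_mul_map_eq_one _ _ swap_mul_swap) (map_mul_map_eq_one _ _ swap_mul_swap) ?_
    ext i j; fin_cases i <;> fin_cases j <;> simp [Matrix.mul_apply, Fin.sum_univ_two]
  have h1m : P H n (!![1, -1; 0, 0] : M2 p) := by
    refine P_conj_mod h11 hi !![1, 1; 0, 1] !![1, -1; 0, 1] _
      (map_mul_map_eq_one _ _ upper_mul) (map_mul_map_eq_one _ _ upper_mul') ?_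
    ext i j; fin_cases i <;> fin_cases j <;> simp [Matrix.mul_apply, Fin.sum_univ_two]
  have h12 : P H n (!![0, 1; 0, 0] : M2 p) := by
    have := P_add hn h11 (P_smul hn h1m (-1))
    convert this using 1
    ext i j; fin_cases i <;> fin_cases j <;> simp
  have h21 : P H n (!![0, 0; 1, 0] : M2 p) := by
    refine P_conj_mod h12 hi !![0, 1; 1, 0] !![0, 1; 1, 0] _
      (map_mul_map_eq_one _ _ swap_mul_swap) (map_mul_map_eq_one _ _ swap_mul_swap) ?_
    ext i j; fin_cases i <;> fin_cases j <;> simp [Matrix.mul_apply, Fin.sum_univ_two]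
  have := P_add hn (P_add hn (P_add hn (P_smul hn h11 (X 0 0)) (P_smul hn h12 (X 0 1)))
    (P_smul hn h21 (X 1 0))) (P_smul hn h22 (X 1 1))
  convert this using 1
  ext i j; fin_cases i <;> fin_cases j <;> simp

/-- successive approximation -/
theorem approx (hi : ∀ w : GL (Fin 2) (ZMod p), ∃ h ∈ H,
      Matrix.GeneralLinearGroup.map (PadicInt.toZMod (p := p)) h = w)
    (hii : ∀ n, 1 ≤ n → P H n (!![1, 0; 0, 0] : M2 p)) (n : ℕ) (hn : 1 ≤ n)
    (g : GL (Fin 2) ℤ_[p]) :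
    ∃ h ∈ H, ∃ C : M2 p, (g : M2 p) = (h : M2 p) + (p : ℤ_[p]) ^ n • C := by
  induction n, hn using Nat.le_induction with
  | base =>
    obtain ⟨h, hh, hw⟩ := hi (Matrix.GeneralLinearGroup.map (PadicInt.toZMod (p := p)) g)
    have e1 : ((g : GL (Fin 2) ℤ_[p]) : M2 p).map (PadicInt.toZMod (p := p)) =
      ((h : GL (Fin 2) ℤ_[p]) : M2 p).map (PadicInt.toZMod (p := p)) :=
      (congrArg Units.val hw).symm
    obtain ⟨C, hC⟩ := exists_eq_add_smul _ _ e1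
    exact ⟨h, hh, C, by rw [pow_one]; exact hC⟩
  | succ n hn ih =>
    obtain ⟨h, hh, C, hC⟩ := ih
    obtain ⟨h', hh', Y, hY⟩ := P_all hi hn (hii n hn)
      (C * ((h⁻¹ : GL (Fin 2) ℤ_[p]) : M2 p))
    refine ⟨h' * h, H.mul_mem hh' hh, -(Y * (h : M2 p)), ?_⟩
    have e : ((h⁻¹ : GL (Fin 2) ℤ_[p]) : M2 p) * (h : M2 p) = 1 := Units.inv_mul h
    rw [Units.val_mul, hY, hC]
    simp only [add_mul, one_mul, smul_mul_assoc, Matrix.mul_assoc, e, mul_one]
    module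

/-- `GL₂(ℤ_p) → GL₂(𝔽_p)` is surjective. -/
lemma map_surjective :
    Function.Surjective (Matrix.GeneralLinearGroup.map (n := Fin 2) (PadicInt.toZMod (p := p))) := by
  intro w
  have hs : Function.Surjective (PadicInt.toZMod (p := p)) := ZMod.ringHom_surjective _
  let A : M2 p := (w : Matrix (Fin 2) (Fin 2) (ZMod p)).map (Function.surjInv hs)
  have hA : A.map (PadicInt.toZMod (p := p)) = (w : Matrix (Fin 2) (Fin 2) (ZMod p)) := by
    ext i j
    simp only [A, Matrix.map_apply, Function.surjInv_eq hs]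
  have hdet : IsUnit A.det := by
    apply isUnit_of_toZMod_ne_zero
    have h1 : PadicInt.toZMod A.det = (w : Matrix (Fin 2) (Fin 2) (ZMod p)).det := by
      rw [RingHom.map_det, RingHom.mapMatrix_apply, hA]
    rw [h1]
    exact Matrix.GeneralLinearGroup.det_ne_zero w
  refine ⟨Matrix.GeneralLinearGroup.mk'' A hdet, ?_⟩
  apply Units.ext
  exact hA

lemma tendsto_aux (g : Fin 2 → Fin 2 → ℤ_[p]) (x : ℕ → Fin 2 → Fin 2 → ℤ_[p])
    (hx : ∀ i j, Filter.Tendsto (fun k => x k i j) Filter.atTop (nhds (g i j))) :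
    Filter.Tendsto x Filter.atTop (nhds g) := by
  rw [tendsto_pi_nhds]
  intro i
  rw [tendsto_pi_nhds]
  exact hx i

lemma tendsto_of_approx (g : M2 p) (x : ℕ → M2 p) (C : ℕ → M2 p)
    (h : ∀ k, g = x k + (p : ℤ_[p]) ^ (k + 1) • C k) :
    Filter.Tendsto x Filter.atTop (nhds g) := by
  refine tendsto_aux g x (fun i j => ?_)
  rw [tendsto_iff_norm_sub_tendsto_zero]
  have hp1 : ((p : ℝ))⁻¹ < 1 := by
    apply inv_lt_one_of_one_lt₀
    exact_mod_cast (Fact.out : p.Prime).one_lt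
  have hp0 : 0 ≤ ((p : ℝ))⁻¹ := by positivity
  have ht : Filter.Tendsto (fun k : ℕ => ((p : ℝ))⁻¹ ^ (k + 1)) Filter.atTop (nhds 0) :=
    (tendsto_pow_atTop_nhds_zero_of_lt_one hp0 hp1).comp (Filter.tendsto_add_atTop_nat 1)
  refine squeeze_zero (fun k => norm_nonneg _) (fun k => ?_) ht
  have e : x k i j - g i j = -((p : ℤ_[p]) ^ (k + 1) * C k i j) := by
    have := congrFun (congrFun (h k) i) j
    simp only [Matrix.add_apply, Matrix.smul_apply, smul_eq_mul] at this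
    rw [this]; ring
  rw [e, norm_neg, norm_mul, norm_pow, PadicInt.norm_p]
  calc ((p : ℝ))⁻¹ ^ (k + 1) * ‖C k i j‖ ≤ ((p : ℝ))⁻¹ ^ (k + 1) * 1 :=
        mul_le_mul_of_nonneg_left (PadicInt.norm_le_one _) (pow_nonneg hp0 _)
    _ = ((p : ℝ))⁻¹ ^ (k + 1) := mul_one _

theorem main (p : ℕ) [Fact p.Prime]
    (𝔊 : Type u) [Group 𝔊] [TopologicalSpace 𝔊] [CompactSpace 𝔊]
    (ϕ : 𝔊 →* GL (Fin 2) ℤ_[p])
    (hϕ : Continuous fun g => ((ϕ g : GL (Fin 2) ℤ_[p]) : Matrix (Fin 2) (Fin 2) ℤ_[p])) :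
    Function.Surjective ϕ ↔
      (Function.Surjective
          ((Matrix.GeneralLinearGroup.map (n := Fin 2) (PadicInt.toZMod (p := p))).comp ϕ) ∧
        ∀ n : ℕ, 1 ≤ n → ∃ (g : 𝔊) (a b c d : ℤ_[p]), ¬ ((p : ℤ_[p]) ∣ a) ∧
          ((ϕ g : GL (Fin 2) ℤ_[p]) : Matrix (Fin 2) (Fin 2) ℤ_[p]) =
            !![1 + (p : ℤ_[p]) ^ n * a, (p : ℤ_[p]) ^ (n + 1) * b;
               (p : ℤ_[p]) ^ (n + 1) * c, 1 + (p : ℤ_[p]) ^ (n + 1) * d]) := by
  constructor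
  · intro hsurj
    refine ⟨?_, ?_⟩
    · rw [MonoidHom.coe_comp]
      exact map_surjective.comp hsurj
    · intro n hn
      have hdet : IsUnit (!![1 + (p : ℤ_[p]) ^ n, 0; 0, 1] : M2 p).det := by
        rw [Matrix.det_fin_two_of]
        apply isUnit_of_toZMod_ne_zero
        have : PadicInt.toZMod ((1 + (p : ℤ_[p]) ^ n) * 1 - 0 * 0) = 1 := by
          simp only [mul_one, mul_zero, sub_zero, map_add, map_one, map_pow, toZMod_p]
          rw [zero_pow (by omega), add_zero]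
        rw [this]
        exact one_ne_zero
      obtain ⟨g, hg⟩ := hsurj (Matrix.GeneralLinearGroup.mk'' _ hdet)
      refine ⟨g, 1, 0, 0, 0, ?_, ?_⟩
      · intro h
        exact (PadicInt.prime_p (p := p)).not_isUnit (isUnit_of_dvd_one h)
      · rw [hg]
        show (!![1 + (p : ℤ_[p]) ^ n, 0; 0, 1] : M2 p) = _
        simp
  · rintro ⟨hi, hii⟩
    intro g
    let H : Subgroup (GL (Fin 2) ℤ_[p]) := ϕ.range
    have hi' : ∀ w : GL (Fin 2) (ZMod p), ∃ h ∈ H,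
        Matrix.GeneralLinearGroup.map (PadicInt.toZMod (p := p)) h = w := by
      intro w
      obtain ⟨x, hx⟩ := hi w
      exact ⟨ϕ x, ⟨x, rfl⟩, hx⟩
    have hii' : ∀ n, 1 ≤ n → P H n (!![1, 0; 0, 0] : M2 p) := by
      intro n hn
      obtain ⟨x, a, b, c, d, ha, hx⟩ := hii n hn
      have h1 : P H n (a • (!![1, 0; 0, 0] : M2 p)) := by
        refine ⟨ϕ x, ⟨x, rfl⟩, !![0, b; c, d], ?_⟩
        rw [hx]
        ext i j; fin_cases i <;> fin_cases j <;> simp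
      obtain ⟨u, rfl⟩ := isUnit_of_not_dvd a ha
      have h2 := P_smul hn h1 ((u⁻¹ : ℤ_[p]ˣ) : ℤ_[p])
      rw [smul_smul, Units.inv_mul, one_smul] at h2
      exact h2
    have happ : ∀ k : ℕ, ∃ x : 𝔊, ∃ C : M2 p,
        (g : M2 p) = ((ϕ x : GL (Fin 2) ℤ_[p]) : M2 p) + (p : ℤ_[p]) ^ (k + 1) • C := by
      intro k
      obtain ⟨h, ⟨x, rfl⟩, C, hC⟩ := approx hi' hii' (k + 1) (by omega) g
      exact ⟨x, C, hC⟩
    choose x C hxC using happ
    have ht := tendsto_of_approx (g : M2 p) (fun k => ((ϕ (x k) : GL (Fin 2) ℤ_[p]) : M2 p)) C hxC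
    have hcl : IsClosed (Set.range fun y => ((ϕ y : GL (Fin 2) ℤ_[p]) : M2 p)) :=
      (isCompact_range hϕ).isClosed
    have hmem := hcl.mem_of_tendsto ht (Filter.Eventually.of_forall fun k => ⟨x k, rfl⟩)
    obtain ⟨y, hy⟩ := hmem
    exact ⟨y, Units.ext hy⟩

end Groth.Agent.Lib.Helper20.GL2Surj
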