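import Mathlib

set_option autoImplicit false

namespace Groth.Agent.Lib.Helper20.GrLoc

universe u

section addhom

variable {S : Type*} [CommRing S] (f : S) {N : Type*} [AddCommGroup N] [Module S N]
  {M : Type*} [AddCommGroup M]

theorem eps_pow (ε : N →+ M) (hε : ∀ n, ε (f • n) = ε n) (k : ℕ) (n : N) :
    ε (f ^ k • n) = ε n := by
  induction k with
  | zero => simp
  | succ k ih => rw [pow_succ', mul_smul, hε, ih]

theorem eps_mem_powers (ε : N →+ M) (hε : ∀ n, ε (f • n) = ε n) (t : Submonoid.powers f) (n : N) :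
    ε (t • n) = ε n := by
  obtain ⟨k, hk⟩ := t.2
  rw [Submonoid.smul_def, ← hk]
  exact eps_pow f ε hε k n

/-- An additive map killing the difference between `n` and `f • n` extends to the localization. -/
theorem exists_addHom (ε : N →+ M) (hε : ∀ n, ε (f • n) = ε n) :
    ∃ L : LocalizedModule (Submonoid.powers f) N →+ M,
      ∀ (n : N) (t : Submonoid.powers f), L (LocalizedModule.mk n t) = ε n := by
  have hwd : ∀ (p p' : N × Submonoid.powers f), p ≈ p' → ε p.1 = ε p'.1 := by
    rintro ⟨n, t⟩ ⟨n', t'⟩ ⟨u, hu⟩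
    have h1 := congrArg ε hu
    simp only [eps_mem_powers f ε hε] at h1
    exact h1
  let L0 : LocalizedModule (Submonoid.powers f) N → M := fun x =>
    LocalizedModule.liftOn x (fun p => ε p.1) hwd
  have hL0 : ∀ (n : N) (t : Submonoid.powers f), L0 (LocalizedModule.mk n t) = ε n := by
    intro n t
    exact LocalizedModule.liftOn_mk hwd n t
  refine ⟨{ toFun := L0, map_zero' := ?_, map_add' := ?_ }, hL0⟩
  · rw [← LocalizedModule.zero_mk (1 : Submonoid.powers f), hL0, map_zero]
  · intro x y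
    induction x, y using LocalizedModule.induction_on₂ with
    | _ n n' t t' =>
      rw [LocalizedModule.mk_add_mk, hL0, hL0, hL0, map_add, eps_mem_powers f ε hε,
        eps_mem_powers f ε hε]

theorem eq_zero_of_pow_smul_eq_zero (k : ℕ) (x : LocalizedModule (Submonoid.powers f) N)
    (h : f ^ k • x = 0) : x = 0 := by
  have hinj := IsLocalizedModule.smul_injective
    (LocalizedModule.mkLinearMap (Submonoid.powers f) N) (⟨f ^ k, k, rfl⟩ : Submonoid.powers f)
  apply hinj
  change (⟨f ^ k, k, rfl⟩ : Submonoid.powers f) • x = (⟨f ^ k, k, rfl⟩ : Submonoid.powers f) • 0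
  rw [smul_zero, Submonoid.smul_def]
  exact h

theorem pow_smul_mk (k : ℕ) (n : N) :
    f ^ k • LocalizedModule.mk n (⟨f ^ k, k, rfl⟩ : Submonoid.powers f)
      = LocalizedModule.mk n (1 : Submonoid.powers f) := by
  rw [LocalizedModule.smul'_mk]
  exact LocalizedModule.mk_cancel (⟨f ^ k, k, rfl⟩ : Submonoid.powers f) n

end addhom

section degzero

variable {R S : Type*} [CommRing R] [CommRing S] [Algebra R S] (𝒜 : ℕ → Submodule R S)
  [GradedAlgebra 𝒜] {f : S} (hf : f ∈ 𝒜 1)
  {N : Type*} [AddCommGroup N] [Module S N] [Module R N] [IsScalarTower R S N]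
  (ℳ : ℕ → Submodule R N) [SetLike.GradedSMul 𝒜 ℳ]

include hf in
theorem pow_mem (k : ℕ) : f ^ k ∈ 𝒜 k := by
  have h := SetLike.pow_mem_graded k hf
  simpa using h

omit [IsScalarTower R S N] in
include hf in
theorem pow_smul_mem (k l : ℕ) (n : N) (hn : n ∈ ℳ l) : f ^ k • n ∈ ℳ (k + l) := by
  have h := SetLike.GradedSMul.smul_mem (pow_mem 𝒜 hf k) hn
  simpa using h

include hf in
theorem exists_degZero_submodule :
    ∃ Nf : Submodule R (LocalizedModule (Submonoid.powers f) N),
      ∀ x, x ∈ Nf ↔ ∃ k : ℕ, ∃ n ∈ ℳ k, f ^ k • x = LocalizedModule.mk n 1 := by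
  refine ⟨{ carrier := {x | ∃ k : ℕ, ∃ n ∈ ℳ k, f ^ k • x = LocalizedModule.mk n 1}
            add_mem' := ?_, zero_mem' := ?_, smul_mem' := ?_ }, fun x => Iff.rfl⟩
  · rintro x y ⟨k, n, hn, hx⟩ ⟨l, n', hn', hy⟩
    refine ⟨l + k, f ^ l • n + f ^ k • n', ?_, ?_⟩
    · refine Submodule.add_mem _ (pow_smul_mem 𝒜 hf ℳ l k n hn) ?_
      rw [add_comm l k]
      exact pow_smul_mem 𝒜 hf ℳ k l n' hn'
    · rw [smul_add, pow_add, mul_smul, hx, mul_comm, mul_smul, hy, LocalizedModule.smul'_mk,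
        LocalizedModule.smul'_mk, LocalizedModule.mk_add_mk]
      simp
  · exact ⟨0, 0, Submodule.zero_mem _, by simp⟩
  · rintro r x ⟨k, n, hn, hx⟩
    refine ⟨k, r • n, Submodule.smul_mem _ r hn, ?_⟩
    rw [smul_comm, hx, LocalizedModule.smul'_mk]

end degzero

end Groth.Agent.Lib.Helper20.GrLoc
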