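import Mathlib

set_option autoImplicit false

namespace Groth.Agent.Lib.Helper20.GrLoc

universe u

open Polynomial HomogeneousLocalization

variable {R R' : Type u} [CommRing R] [CommRing R'] [Algebra R R']
  {S : Type u} [CommRing S] [Algebra R S] (𝒜 : ℕ → Submodule R S) [GradedAlgebra 𝒜]
  {f : S} (hf : f ∈ 𝒜 1)

/-- The fraction `s_i / f ^ i` where `s_i` is the degree `i` component of `s`. -/
noncomputable def frac (i : ℕ) (s : S) : Away 𝒜 f :=
  Away.mk 𝒜 hf i ((DirectSum.decompose 𝒜 s i : 𝒜 i) : S)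
    (by rw [smul_eq_mul, mul_one]; exact SetLike.coe_mem _)

theorem val_frac (i : ℕ) (s : S) (hs : s ∈ 𝒜 i) :
    (frac 𝒜 hf i s).val = Localization.mk s (⟨f ^ i, i, rfl⟩ : Submonoid.powers f) := by
  rw [frac, Away.val_mk, DirectSum.decompose_of_mem_same 𝒜 hs]

theorem frac_add (i : ℕ) (a b : S) (ha : a ∈ 𝒜 i) (hb : b ∈ 𝒜 i) :
    frac 𝒜 hf i (a + b) = frac 𝒜 hf i a + frac 𝒜 hf i b := by
  apply HomogeneousLocalization.val_injective
  rw [val_add, val_frac 𝒜 hf i _ (Submodule.add_mem _ ha hb), val_frac 𝒜 hf i _ ha,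
    val_frac 𝒜 hf i _ hb, Localization.add_mk_self]

theorem frac_zero (i : ℕ) : frac 𝒜 hf i 0 = 0 := by
  apply HomogeneousLocalization.val_injective
  rw [val_zero, val_frac 𝒜 hf i _ (Submodule.zero_mem _), Localization.mk_zero]

theorem frac_mul (i j : ℕ) (a b : S) (ha : a ∈ 𝒜 i) (hb : b ∈ 𝒜 j) :
    frac 𝒜 hf (i + j) (a * b) = frac 𝒜 hf i a * frac 𝒜 hf j b := by
  apply HomogeneousLocalization.val_injective
  rw [val_mul, val_frac 𝒜 hf (i + j) _ (SetLike.mul_mem_graded ha hb), val_frac 𝒜 hf i _ ha,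
    val_frac 𝒜 hf j _ hb, Localization.mk_mul]
  congr 1
  exact Subtype.ext (pow_add f i j)

theorem frac_one : frac 𝒜 hf 0 1 = 1 := by
  apply HomogeneousLocalization.val_injective
  rw [val_one, val_frac 𝒜 hf 0 _ SetLike.GradedOne.one_mem, ← Localization.mk_one]
  congr 1
  exact Subtype.ext (pow_zero f)

include hf in
theorem pow_mem' (k : ℕ) : f ^ k ∈ 𝒜 k := by
  have h := SetLike.pow_mem_graded k hf
  simpa using h

theorem frac_pow_self (k : ℕ) : frac 𝒜 hf k (f ^ k) = 1 := by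
  apply HomogeneousLocalization.val_injective
  rw [val_one, val_frac 𝒜 hf k _ (pow_mem' 𝒜 hf k)]
  exact Localization.mk_self (⟨f ^ k, k, rfl⟩ : Submonoid.powers f)

theorem frac_surjective (a : Away 𝒜 f) : ∃ (i : ℕ) (s : S), s ∈ 𝒜 i ∧ frac 𝒜 hf i s = a := by
  obtain ⟨n, s, hs, rfl⟩ := Away.mk_surjective 𝒜 hf a
  have hs' : s ∈ 𝒜 n := by simpa using hs
  refine ⟨n, s, hs', ?_⟩
  apply HomogeneousLocalization.val_injective
  rw [val_frac 𝒜 hf n s hs', Away.val_mk]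

variable (e : Away 𝒜 f ≃+* R')

theorem frac_algebraMap
    (he : ∀ r : R, (e.symm (algebraMap R R' r)).val
      = algebraMap S (Localization.Away f) (algebraMap R S r)) (r : R) :
    e (frac 𝒜 hf 0 (algebraMap R S r)) = algebraMap R R' r := by
  have h : frac 𝒜 hf 0 (algebraMap R S r) = e.symm (algebraMap R R' r) := by
    apply HomogeneousLocalization.val_injective
    rw [he, val_frac 𝒜 hf 0 _ (SetLike.algebraMap_mem_graded 𝒜 r),
      ← Localization.mk_one_eq_algebraMap]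
    congr 1
    exact Subtype.ext (pow_zero f)
  rw [h, RingEquiv.apply_symm_apply]

/-- The graded ring homomorphism `S → R'[X]`, `s_i ↦ e (s_i / f ^ i) X ^ i`. -/
theorem exists_rho :
    ∃ ρ : S →+* R'[X], ∀ (i : ℕ) (s : S), s ∈ 𝒜 i → ρ s = monomial i (e (frac 𝒜 hf i s)) := by
  let φ : ∀ d : ℕ, 𝒜 d →+ R'[X] := fun d =>
    { toFun := fun a => monomial d (e (frac 𝒜 hf d (a : S)))
      map_zero' := by
        change monomial d (e (frac 𝒜 hf d (0 : S))) = 0
        rw [frac_zero, map_zero, map_zero]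
      map_add' := by
        intro a b
        change monomial d (e (frac 𝒜 hf d ((a : S) + (b : S)))) = _
        rw [frac_add 𝒜 hf d _ _ a.2 b.2, map_add, map_add] }
  have hone : φ 0 (@GradedMonoid.GOne.one ℕ (fun i => ↥(𝒜 i)) _ _) = 1 := by
    change monomial 0 (e (frac 𝒜 hf 0
      ((@GradedMonoid.GOne.one ℕ (fun i => ↥(𝒜 i)) _ _ : 𝒜 0) : S))) = 1
    rw [SetLike.coe_gOne, frac_one, map_one]
    rfl
  have hmul : ∀ {i j : ℕ} (ai : 𝒜 i) (aj : 𝒜 j),
      φ (i + j) (@GradedMonoid.GMul.mul ℕ (fun i => ↥(𝒜 i)) _ _ _ _ ai aj) = φ i ai * φ j aj := by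
    intro i j ai aj
    change monomial (i + j) (e (frac 𝒜 hf (i + j)
      ((@GradedMonoid.GMul.mul ℕ (fun i => ↥(𝒜 i)) _ _ _ _ ai aj : 𝒜 (i + j)) : S)))
      = monomial i (e (frac 𝒜 hf i (ai : S))) * monomial j (e (frac 𝒜 hf j (aj : S)))
    rw [SetLike.coe_gMul, frac_mul 𝒜 hf i j _ _ ai.2 aj.2, map_mul, Polynomial.monomial_mul_monomial]
  let G : S →+* R'[X] :=
    (DirectSum.toSemiring φ hone hmul).comp (DirectSum.decomposeRingEquiv 𝒜 : S →+* _)
  refine ⟨G, ?_⟩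
  intro d a ha
  change DirectSum.toSemiring φ hone hmul (DirectSum.decompose 𝒜 a) = _
  rw [DirectSum.decompose_of_mem 𝒜 ha, DirectSum.toSemiring_of]
  rfl

end Groth.Agent.Lib.Helper20.GrLoc
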