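import Mathlib
import Groth.Agent.Lib.Helper20.GrLoc1
import Groth.Agent.Lib.Helper20.GrLoc2

set_option autoImplicit false

namespace Groth.Agent.Lib.Helper20.GrLoc

universe u

open Polynomial HomogeneousLocalization

variable {R R' : Type u} [CommRing R] [CommRing R'] [Algebra R R']
  {M : Type u} [AddCommGroup M] [Module R' M] [Module R M] [IsScalarTower R R' M]
  {S : Type u} [CommRing S] [Algebra R S] (𝒜 : ℕ → Submodule R S) [GradedAlgebra 𝒜]
  {f : S} (hf : f ∈ 𝒜 1) (e : Away 𝒜 f ≃+* R')
  (ρ : S →+* R'[X]) (hρ : ∀ (i : ℕ) (s : S), s ∈ 𝒜 i → ρ s = monomial i (e (frac 𝒜 hf i s)))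
  [Module S (PolynomialModule R' M)]
  (hsmul : ∀ (s : S) (p : PolynomialModule R' M), s • p = ρ s • p)

include hρ hsmul in
theorem smul_coeff (i : ℕ) (s : S) (hs : s ∈ 𝒜 i) (p : PolynomialModule R' M) (k : ℕ) :
    (s • p).coeff k = if i ≤ k then e (frac 𝒜 hf i s) • p.coeff (k - i) else 0 := by
  rw [hsmul, hρ i s hs, PolynomialModule.monomial_smul_apply]

include hρ hsmul in
theorem smul_single (i : ℕ) (s : S) (hs : s ∈ 𝒜 i) (j : ℕ) (μ : M) :
    s • PolynomialModule.single R' j μ
      = PolynomialModule.single R' (i + j) (e (frac 𝒜 hf i s) • μ) := by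
  rw [hsmul, hρ i s hs, PolynomialModule.monomial_smul_single]

/-- The `S`-span of the degree zero generators. -/
noncomputable def Ngen {ι : Type*} (m : ι → M) : Submodule S (PolynomialModule R' M) :=
  Submodule.span S (Set.range fun j => PolynomialModule.single R' 0 (m j))

include hρ hsmul in
theorem single_coeff_mem {ι : Type*} (m : ι → M) (n : PolynomialModule R' M)
    (hn : n ∈ Ngen (S := S) (R' := R') m) (i : ℕ) :
    PolynomialModule.single R' i (n.coeff i) ∈ Ngen (S := S) (R' := R') m := by
  unfold Ngen at hn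
  induction hn using Submodule.span_induction generalizing i with
  | mem x hx =>
    obtain ⟨j, rfl⟩ := hx
    by_cases h : i = 0
    · subst h
      have h1 : (PolynomialModule.single R' 0 (m j)).coeff 0 = m j := by
        simp [PolynomialModule.coeff_single]
      rw [h1]
      exact Submodule.subset_span ⟨j, rfl⟩
    · have h1 : (PolynomialModule.single R' 0 (m j)).coeff i = 0 := by
        rw [PolynomialModule.coeff_single, Finsupp.single_apply, if_neg (Ne.symm h)]
      rw [h1, PolynomialModule.single_zero]
      exact Submodule.zero_mem _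
  | zero =>
    simp
  | add x y _ _ hx hy =>
    rw [PolynomialModule.coeff_add, Finsupp.add_apply, PolynomialModule.single_add]
    exact Submodule.add_mem _ (hx i) (hy i)
  | smul s x _ hx =>
    induction s using DirectSum.Decomposition.inductionOn 𝒜 with
    | zero => simp
    | @homogeneous d a =>
      rw [smul_coeff 𝒜 hf e ρ hρ hsmul d a a.2 x i]
      split_ifs with h
      · have h2 := smul_single 𝒜 hf e ρ hρ hsmul d a a.2 (i - d) (x.coeff (i - d))
        rw [show d + (i - d) = i by omega] at h2
        rw [← h2]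
        exact Submodule.smul_mem _ _ (hx (i - d))
      · rw [PolynomialModule.single_zero]
        exact Submodule.zero_mem _
    | add a b ha hb =>
      rw [add_smul, PolynomialModule.coeff_add, Finsupp.add_apply, PolynomialModule.single_add]
      exact Submodule.add_mem _ ha hb

include hρ hsmul in
theorem exists_single_mem {ι : Type*} (m : ι → M)
    (hm : Submodule.span R' (Set.range m) = ⊤) (μ : M) :
    ∃ k : ℕ, PolynomialModule.single R' k μ ∈ Ngen (S := S) (R' := R') m := by
  have hμ : μ ∈ Submodule.span R' (Set.range m) := by rw [hm]; trivial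
  induction hμ using Submodule.span_induction with
  | mem x hx =>
    obtain ⟨j, rfl⟩ := hx
    exact ⟨0, Submodule.subset_span ⟨j, rfl⟩⟩
  | zero => exact ⟨0, by simp⟩
  | add x y _ _ hx hy =>
    obtain ⟨k, hk⟩ := hx
    obtain ⟨l, hl⟩ := hy
    refine ⟨l + k, ?_⟩
    have h1 : f ^ l • PolynomialModule.single R' k x = PolynomialModule.single R' (l + k) x := by
      rw [smul_single 𝒜 hf e ρ hρ hsmul l (f ^ l) (pow_mem' 𝒜 hf l), frac_pow_self, map_one,
        one_smul]
    have h2 : f ^ k • PolynomialModule.single R' l y = PolynomialModule.single R' (l + k) y := by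
      rw [smul_single 𝒜 hf e ρ hρ hsmul k (f ^ k) (pow_mem' 𝒜 hf k), frac_pow_self, map_one,
        one_smul, add_comm]
    rw [PolynomialModule.single_add, ← h1, ← h2]
    exact Submodule.add_mem _ (Submodule.smul_mem _ _ hk) (Submodule.smul_mem _ _ hl)
  | smul b x _ hx =>
    obtain ⟨k, hk⟩ := hx
    obtain ⟨i, s, hs, hsb⟩ := frac_surjective 𝒜 hf (e.symm b)
    refine ⟨i + k, ?_⟩
    have h1 : s • PolynomialModule.single R' k x = PolynomialModule.single R' (i + k) (b • x) := by
      rw [smul_single 𝒜 hf e ρ hρ hsmul i s hs, hsb, RingEquiv.apply_symm_apply]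
    rw [← h1]
    exact Submodule.smul_mem _ _ hk

end Groth.Agent.Lib.Helper20.GrLoc
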