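import Mathlib
import Groth.Agent.Lib.Helper20.GrLoc1
import Groth.Agent.Lib.Helper20.GrLoc2
import Groth.Agent.Lib.Helper20.GrLoc3

set_option autoImplicit false

namespace Groth.Agent.Lib.Helper20.GrLoc

universe u

open Polynomial HomogeneousLocalization

variable {R R' : Type u} [CommRing R] [CommRing R'] [Algebra R R']
  {M : Type u} [AddCommGroup M] [Module R' M] [Module R M] [IsScalarTower R R' M]
  {S : Type u} [CommRing S] [Algebra R S] (𝒜 : ℕ → Submodule R S) [GradedAlgebra 𝒜]
  {f : S} (hf : f ∈ 𝒜 1) (e : Away 𝒜 f ≃+* R')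
  (ρ : S →+* R'[X]) (hρ : ∀ (i : ℕ) (s : S), s ∈ 𝒜 i → ρ s = monomial i (e (frac 𝒜 hf i s)))
  [Module S (PolynomialModule R' M)]
  (hsmul : ∀ (s : S) (p : PolynomialModule R' M), s • p = ρ s • p)
  [IsScalarTower R S (PolynomialModule R' M)]
  {ι : Type*} (m : ι → M)

/-- The `i`-th coefficient as an `R`-linear map on `N`. -/
noncomputable def cf (i : ℕ) : ↥(Ngen (S := S) (R' := R') m) →ₗ[R] M :=
  (Finsupp.lapply i).comp ((PolynomialModule.coeffLinearEquiv R' R).toLinearMap.comp
    ((Ngen (S := S) (R' := R') m).subtype.restrictScalars R))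

theorem cf_apply (i : ℕ) (n : ↥(Ngen (S := S) (R' := R') m)) :
    cf (R := R) m i n = (n : PolynomialModule R' M).coeff i := rfl

/-- The degree `d` part of `N`. -/
noncomputable def gr (d : ℕ) : Submodule R ↥(Ngen (S := S) (R' := R') m) where
  carrier := {n | ∀ i, i ≠ d → cf (R := R) m i n = 0}
  add_mem' := by
    intro a b ha hb i hi
    rw [map_add, ha i hi, hb i hi, add_zero]
  zero_mem' := by
    intro i _
    rw [map_zero]
  smul_mem' := by
    intro r a ha i hi
    rw [map_smul, ha i hi, smul_zero]

theorem mem_gr (d : ℕ) (n : ↥(Ngen (S := S) (R' := R') m)) :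
    n ∈ gr (R := R) m d ↔ ∀ i, i ≠ d → (n : PolynomialModule R' M).coeff i = 0 := Iff.rfl

theorem eq_single_of_mem_gr (d : ℕ) (n : ↥(Ngen (S := S) (R' := R') m))
    (hn : n ∈ gr (R := R) m d) :
    (n : PolynomialModule R' M)
      = PolynomialModule.single R' d ((n : PolynomialModule R' M).coeff d) := by
  apply PolynomialModule.coeff_injective
  ext i
  rw [PolynomialModule.coeff_single, Finsupp.single_apply]
  by_cases h : d = i
  · rw [if_pos h, h]
  · rw [if_neg h]
    exact hn i (Ne.symm h)

theorem single_mem_gr (d : ℕ) (μ : M)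
    (h : PolynomialModule.single R' d μ ∈ Ngen (S := S) (R' := R') m) :
    (⟨PolynomialModule.single R' d μ, h⟩ : ↥(Ngen (S := S) (R' := R') m)) ∈ gr (R := R) m d := by
  intro i hi
  rw [cf_apply]
  change (PolynomialModule.single R' d μ).coeff i = 0
  rw [PolynomialModule.coeff_single, Finsupp.single_apply, if_neg (Ne.symm hi)]

include hρ hsmul in
theorem gr_isInternal : DirectSum.IsInternal (gr (R := R) (S := S) (R' := R') m) := by
  apply DirectSum.isInternal_submodule_of_iSupIndep_of_iSup_eq_top
  · rw [iSupIndep_def]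
    intro d
    rw [Submodule.disjoint_def]
    intro n hn hn'
    have h0 : cf (R := R) m d n = 0 := by
      have hle : (⨆ j, ⨆ (_ : j ≠ d), gr (R := R) (S := S) (R' := R') m j)
          ≤ LinearMap.ker (cf (R := R) (S := S) (R' := R') m d) := by
        refine iSup_le fun j => iSup_le fun hj => ?_
        intro x hx
        exact hx d (Ne.symm hj)
      exact hle hn'
    apply Subtype.ext
    rw [eq_single_of_mem_gr m d n hn]
    rw [cf_apply] at h0
    rw [h0, PolynomialModule.single_zero]
    rfl
  · rw [eq_top_iff]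
    intro n _
    let c : ℕ → ↥(Ngen (S := S) (R' := R') m) := fun i =>
      ⟨PolynomialModule.single R' i ((n : PolynomialModule R' M).coeff i),
        single_coeff_mem 𝒜 hf e ρ hρ hsmul m n.1 n.2 i⟩
    have hn : n = ∑ i ∈ (n : PolynomialModule R' M).coeff.support, c i := by
      apply Subtype.ext
      rw [Submodule.coe_sum]
      apply PolynomialModule.coeff_injective
      rw [PolynomialModule.coeff_sum]
      simp only [c, PolynomialModule.coeff_single]
      exact (Finsupp.sum_single _).symm
    rw [hn]
    refine Submodule.sum_mem _ fun i _ => Submodule.mem_iSup_of_mem i ?_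
    exact single_mem_gr m i _ _

include hρ hsmul in
theorem gr_gradedSMul : SetLike.GradedSMul 𝒜 (gr (R := R) (S := S) (R' := R') m) where
  smul_mem := by
    intro i j s n hs hn k hk
    rw [cf_apply, Submodule.coe_smul, smul_coeff 𝒜 hf e ρ hρ hsmul i s hs]
    split_ifs with h
    · have h1 : k - i ≠ j := by
        intro h2
        apply hk
        rw [vadd_eq_add]
        omega
      have h2 := hn (k - i) h1
      rw [cf_apply] at h2
      rw [h2, smul_zero]
    · rfl

end Groth.Agent.Lib.Helper20.GrLoc
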