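import Mathlib
import Groth.Agent.Lib.Helper20.GrLoc1
import Groth.Agent.Lib.Helper20.GrLoc2
import Groth.Agent.Lib.Helper20.GrLoc3
import Groth.Agent.Lib.Helper20.GrLoc4

set_option autoImplicit false

namespace Groth.Agent.Lib.Helper20.GrLoc

universe u

open Polynomial HomogeneousLocalization

variable {R R' : Type u} [CommRing R] [CommRing R'] [Algebra R R']
  {M : Type u} [AddCommGroup M] [Module R' M] [Module R M] [IsScalarTower R R' M]
  {S : Type u} [CommRing S] [Algebra R S] (𝒜 : ℕ → Submodule R S) [GradedAlgebra 𝒜]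
  {f : S} (hf : f ∈ 𝒜 1) (e : Away 𝒜 f ≃+* R')
  (ρ : S →+* R'[X]) (hρ : ∀ (i : ℕ) (s : S), s ∈ 𝒜 i → ρ s = monomial i (e (frac 𝒜 hf i s)))
  [Module S (PolynomialModule R' M)]
  (hsmul : ∀ (s : S) (p : PolynomialModule R' M), s • p = ρ s • p)
  [IsScalarTower R S (PolynomialModule R' M)]
  {ι : Type*} (m : ι → M)

/-- Evaluation at `1`. -/
noncomputable def eps : ↥(Ngen (S := S) (R' := R') m) →+ M :=
  ((PolynomialModule.eval (1 : R')).toAddMonoidHom).comp
    (Ngen (S := S) (R' := R') m).subtype.toAddMonoidHom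

omit [Module R M] [IsScalarTower R R' M] in
theorem eps_apply (n : ↥(Ngen (S := S) (R' := R') m)) :
    eps m n = PolynomialModule.eval (1 : R') (n : PolynomialModule R' M) := rfl

omit [IsScalarTower R S (PolynomialModule R' M)] in
include hρ hsmul in
theorem eps_smul_homog (i : ℕ) (s : S) (hs : s ∈ 𝒜 i) (n : ↥(Ngen (S := S) (R' := R') m)) :
    eps m (s • n) = e (frac 𝒜 hf i s) • eps m n := by
  rw [eps_apply, eps_apply, Submodule.coe_smul, hsmul, hρ i s hs, PolynomialModule.eval_smul,
    Polynomial.eval_monomial, one_pow, mul_one]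

omit [IsScalarTower R S (PolynomialModule R' M)] in
include hρ hsmul in
theorem eps_f_smul (n : ↥(Ngen (S := S) (R' := R') m)) : eps m (f • n) = eps m n := by
  have h := eps_smul_homog 𝒜 hf e ρ hρ hsmul m 1 f hf n
  have h1 : frac 𝒜 hf 1 f = 1 := by
    have h2 := frac_pow_self 𝒜 hf 1
    rwa [pow_one] at h2
  rw [h, h1, map_one, one_smul]

theorem eps_smul_R (r : R) (n : ↥(Ngen (S := S) (R' := R') m)) :
    eps m (r • n) = r • eps m n := by
  rw [eps_apply, eps_apply, Submodule.coe_smul_of_tower,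
    ← algebraMap_smul R' r (n : PolynomialModule R' M), map_smul, algebraMap_smul]

omit [Module R M] [IsScalarTower R R' M] in
theorem eps_single (k : ℕ) (μ : M)
    (h : PolynomialModule.single R' k μ ∈ Ngen (S := S) (R' := R') m) :
    eps m (⟨PolynomialModule.single R' k μ, h⟩ : ↥(Ngen (S := S) (R' := R') m)) = μ := by
  rw [eps_apply]
  change PolynomialModule.eval (1 : R') (PolynomialModule.single R' k μ) = μ
  rw [PolynomialModule.eval_single, one_pow, one_smul]

include hρ hsmul in
theorem core [Finite ι] (hm : Submodule.span R' (Set.range m) = ⊤) :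
    ∃ (N : Type u) (_ : AddCommGroup N) (_ : Module S N) (_ : Module R N) (_ : IsScalarTower R S N)
      (ℳ : ℕ → Submodule R N) (_ : DirectSum.Decomposition ℳ) (_ : SetLike.GradedSMul 𝒜 ℳ)
      (Nf : Submodule R (LocalizedModule (Submonoid.powers f) N)) (e' : ↥Nf ≃ₗ[R] M),
      Module.Finite S N ∧
      (∀ x, x ∈ Nf ↔ ∃ k : ℕ, ∃ n ∈ ℳ k, f ^ k • x = LocalizedModule.mk n 1) ∧
      (∀ (a : HomogeneousLocalization.Away 𝒜 f) (x y : ↥Nf),
        a.val • (x : LocalizedModule (Submonoid.powers f) N) = y → e' y = e a • e' x) := by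
  have hεf := eps_f_smul 𝒜 hf e ρ hρ hsmul m
  obtain ⟨L, hL⟩ := exists_addHom f (eps (S := S) (R' := R') m) hεf
  have hgs : SetLike.GradedSMul 𝒜 (gr (R := R) (S := S) (R' := R') m) :=
    gr_gradedSMul 𝒜 hf e ρ hρ hsmul m
  obtain ⟨Nf, hNf⟩ := exists_degZero_submodule 𝒜 hf (gr (R := R) (S := S) (R' := R') m)
  have hLR : ∀ (r : R) (x : LocalizedModule (Submonoid.powers f) ↥(Ngen (S := S) (R' := R') m)),
      L (r • x) = r • L x := by
    intro r x
    induction x using LocalizedModule.induction_on with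
    | _ n t => rw [LocalizedModule.smul'_mk, hL, hL, eps_smul_R]
  have hLf : ∀ (k : ℕ) (x : LocalizedModule (Submonoid.powers f) ↥(Ngen (S := S) (R' := R') m)),
      L (f ^ k • x) = L x := by
    intro k x
    induction x using LocalizedModule.induction_on with
    | _ n t => rw [LocalizedModule.smul'_mk, hL, hL, eps_pow f _ hεf]
  let ℓ : ↥Nf →ₗ[R] M :=
    { toFun := fun x => L x.1
      map_add' := fun x y => by rw [Submodule.coe_add, map_add]
      map_smul' := fun r x => by rw [Submodule.coe_smul, hLR]; rfl }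
  have hℓ : ∀ x : ↥Nf, ℓ x = L x.1 := fun _ => rfl
  have hinj : Function.Injective ℓ := by
    rw [injective_iff_map_eq_zero]
    intro x hx
    rw [hℓ] at hx
    obtain ⟨k, n, hn, hk⟩ := (hNf x.1).mp x.2
    have h1 : eps m n = 0 := by
      rw [← hL n 1, ← hk, hLf, hx]
    have h2 := eq_single_of_mem_gr m k n hn
    have h3 : (n : PolynomialModule R' M).coeff k = 0 := by
      have h4 : eps m n = (n : PolynomialModule R' M).coeff k := by
        rw [eps_apply, h2, PolynomialModule.eval_single, one_pow, one_smul,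
          PolynomialModule.coeff_single, Finsupp.single_eq_same]
      rw [← h4, h1]
    have h5 : n = 0 := by
      apply Subtype.ext
      rw [h2, h3, PolynomialModule.single_zero]
      rfl
    rw [h5, LocalizedModule.zero_mk] at hk
    apply Subtype.ext
    exact eq_zero_of_pow_smul_eq_zero f k x.1 hk
  have hsurj : Function.Surjective ℓ := by
    intro μ
    obtain ⟨k, hk⟩ := exists_single_mem 𝒜 hf e ρ hρ hsmul m hm μ
    have hx : LocalizedModule.mk
        (⟨PolynomialModule.single R' k μ, hk⟩ : ↥(Ngen (S := S) (R' := R') m))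
        (⟨f ^ k, k, rfl⟩ : Submonoid.powers f) ∈ Nf := by
      rw [hNf]
      exact ⟨k, _, single_mem_gr m k μ hk, pow_smul_mk f k _⟩
    refine ⟨⟨_, hx⟩, ?_⟩
    rw [hℓ, hL, eps_single]
  refine ⟨↥(Ngen (S := S) (R' := R') m), inferInstance, inferInstance, inferInstance,
    inferInstance, gr (R := R) (S := S) (R' := R') m,
    (gr_isInternal 𝒜 hf e ρ hρ hsmul m).chooseDecomposition, hgs, Nf,
    LinearEquiv.ofBijective ℓ ⟨hinj, hsurj⟩, ?_, hNf, ?_⟩
  · exact Module.Finite.span_of_finite S (Set.finite_range _)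
  · intro a x y hxy
    change L y.1 = e a • L x.1
    rw [← hxy]
    obtain ⟨i, s, hs, rfl⟩ := frac_surjective 𝒜 hf a
    rw [val_frac 𝒜 hf i s hs]
    obtain ⟨x, hx⟩ := x
    induction x using LocalizedModule.induction_on with
    | _ n t =>
      change L (Localization.mk s _ • LocalizedModule.mk n t) = _ • L (LocalizedModule.mk n t)
      rw [LocalizedModule.mk_smul_mk, hL, hL, eps_smul_homog 𝒜 hf e ρ hρ hsmul m i s hs]

end Groth.Agent.Lib.Helper20.GrLoc
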