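import Mathlib
import Groth.Agent.Lib.Helper20.GrLoc1
import Groth.Agent.Lib.Helper20.GrLoc2
import Groth.Agent.Lib.Helper20.GrLoc3
import Groth.Agent.Lib.Helper20.GrLoc4
import Groth.Agent.Lib.Helper20.GrLoc5

set_option autoImplicit false

namespace Groth.Agent.Lib.Helper20.GrLoc

universe u

open Polynomial HomogeneousLocalization

theorem main (R R' : Type u) [CommRing R] [CommRing R']
    [Algebra R R']
    (M : Type u) [AddCommGroup M] [Module R' M] [Module R M] [IsScalarTower R R' M]
    [Module.Finite R' M]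
    (S : Type u) [CommRing S] [Algebra R S] (𝒜 : ℕ → Submodule R S) [GradedAlgebra 𝒜] (f : S)
    (hf : f ∈ 𝒜 1)
    (e : HomogeneousLocalization.Away 𝒜 f ≃+* R')
    (he : ∀ r : R, (e.symm (algebraMap R R' r)).val
      = algebraMap S (Localization.Away f) (algebraMap R S r)) :
    ∃ (N : Type u) (_ : AddCommGroup N) (_ : Module S N) (_ : Module R N) (_ : IsScalarTower R S N)
      (ℳ : ℕ → Submodule R N) (_ : DirectSum.Decomposition ℳ) (_ : SetLike.GradedSMul 𝒜 ℳ)
      (Nf : Submodule R (LocalizedModule (Submonoid.powers f) N)) (e' : ↥Nf ≃ₗ[R] M),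
      Module.Finite S N ∧
      (∀ x, x ∈ Nf ↔ ∃ k : ℕ, ∃ n ∈ ℳ k, f ^ k • x = LocalizedModule.mk n 1) ∧
      (∀ (a : HomogeneousLocalization.Away 𝒜 f) (x y : ↥Nf),
        a.val • (x : LocalizedModule (Submonoid.powers f) N) = y → e' y = e a • e' x) := by
  obtain ⟨ρ, hρ⟩ := exists_rho 𝒜 hf e
  have hρR : ∀ (r : R) (s : S), ρ (r • s) = r • ρ s := by
    intro r s
    rw [Algebra.smul_def, map_mul, hρ 0 _ (SetLike.algebraMap_mem_graded 𝒜 r),
      frac_algebraMap 𝒜 hf e he r, Algebra.smul_def, Polynomial.algebraMap_apply,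
      Polynomial.monomial_zero_left]
  let _ : Module S (PolynomialModule R' M) := Module.compHom (PolynomialModule R' M) ρ
  have hsmul : ∀ (s : S) (p : PolynomialModule R' M), s • p = ρ s • p := fun _ _ => rfl
  have htower : IsScalarTower R S (PolynomialModule R' M) := by
    constructor
    intro r s p
    rw [hsmul, hsmul, hρR, smul_assoc]
  obtain ⟨n, m, hm⟩ := Module.Finite.exists_fin (R := R') (M := M)
  exact core 𝒜 hf e ρ hρ hsmul m hm

end Groth.Agent.Lib.Helper20.GrLoc
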