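import Mathlib

set_option autoImplicit false

namespace Groth.Agent.Lib.Helper20.GrProj

open Polynomial in
/-- determinant trick: `s M ⊆ 𝔭 M`, `s ∉ 𝔭`, `M` f.g. ⇒ some `s' ∉ 𝔭` kills `M`. -/
theorem det_trick {R M : Type*} [CommRing R] [AddCommGroup M] [Module R M] [Module.Finite R M]
    (𝔭 : Ideal R) [𝔭.IsPrime] (s : R) (hs : s ∉ 𝔭)
    (h : ∀ m : M, s • m ∈ 𝔭 • (⊤ : Submodule R M)) :
    ∃ s' : R, s' ∉ 𝔭 ∧ ∀ m : M, s' • m = 0 := by
  obtain ⟨P, hmonic, -, hcoeff, hzero⟩ :=
    LinearMap.exists_monic_and_natDegree_eq_and_coeff_mem_pow_and_aeval_eq_zero R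
      (algebraMap R (Module.End R M) s) 𝔭 (by
        rintro _ ⟨m, rfl⟩
        simpa using h m)
  rw [aeval_algebraMap_apply_eq_algebraMap_eval] at hzero
  refine ⟨P.eval s, ?_, fun m => ?_⟩
  · intro hmem
    rw [eval_eq_sum_range, Finset.sum_range_succ, hmonic.coeff_natDegree, one_mul] at hmem
    have hlow : ∑ x ∈ Finset.range P.natDegree, P.coeff x * s ^ x ∈ 𝔭 := by
      refine Ideal.sum_mem _ fun i hi => Ideal.mul_mem_right _ _ ?_
      have hi' : P.natDegree - i ≠ 0 := by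
        have := Finset.mem_range.mp hi
        omega
      exact Ideal.pow_le_self hi' (hcoeff i)
    have : s ^ P.natDegree ∈ 𝔭 := by
      have := 𝔭.sub_mem hmem hlow
      simpa using this
    exact hs (Ideal.IsPrime.mem_of_pow_mem inferInstance _ this)
  · have := LinearMap.congr_fun hzero m
    simpa using this

/-- the almost-splitting endomorphism. -/
theorem split {S P κ ι : Type*} [CommRing S] [AddCommGroup P] [Module S P] [Fintype κ] [Fintype ι]
    (g : κ → P) (σ : P →ₗ[S] (κ → S)) (hσ : ∀ q, ∑ j, σ q j • g j = q)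
    (f : ι → P) (t : S) (b : κ → ι → S) (hb : ∀ j, t • g j = ∑ i, b j i • f i) :
    ∃ E : (ι → S) →ₗ[S] (ι → S), (∀ x, ∑ i, E x i • f i = 0) ∧
      (∀ x, ∑ i, x i • f i = 0 → E x = t • x) := by
  classical
  let φ : (ι → S) →ₗ[S] P := Fintype.linearCombination S f
  let ψ : (κ → S) →ₗ[S] (ι → S) := Fintype.linearCombination S b
  have hφψ : ∀ c, φ (ψ c) = t • ∑ j, c j • g j := by
    intro c
    simp only [ψ, Fintype.linearCombination_apply, map_sum, map_smul]
    rw [Finset.smul_sum]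
    refine Finset.sum_congr rfl fun j _ => ?_
    rw [smul_comm t, hb j]
    simp [φ, Fintype.linearCombination_apply]
  have hτ : ∀ q, φ (ψ (σ q)) = t • q := by
    intro q
    rw [hφψ, hσ]
  let E : (ι → S) →ₗ[S] (ι → S) := t • LinearMap.id - ψ ∘ₗ σ ∘ₗ φ
  refine ⟨E, fun x => ?_, fun x hx => ?_⟩
  · have : φ (E x) = 0 := by
      simp only [E, LinearMap.sub_apply, LinearMap.smul_apply, LinearMap.id_apply,
        LinearMap.comp_apply, map_sub, map_smul, hτ, sub_self]
    simpa [φ, Fintype.linearCombination_apply] using this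
  · have hx' : φ x = 0 := by simpa [φ, Fintype.linearCombination_apply] using hx
    simp only [E, LinearMap.sub_apply, LinearMap.smul_apply, LinearMap.id_apply,
      LinearMap.comp_apply, hx', map_zero, sub_zero]


/-- local structure of a module with a finite dual basis (projective) at a prime: a subfamily of
the generators which is a basis after inverting one element outside the prime. -/
theorem S1 {R Q κ : Type*} [CommRing R] [AddCommGroup Q] [Module R Q] [Fintype κ]
    (𝔭 : Ideal R) [𝔭.IsPrime] (g : κ → Q) (σ : Q →ₗ[R] (κ → R))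
    (hσ : ∀ q, ∑ j, σ q j • g j = q) :
    ∃ r : R, r ∉ 𝔭 ∧ ∃ (J : Finset κ),
      (∀ q, ∃ c : J → R, r • q = ∑ i, c i • g i) ∧
      (∀ c : J → R, ∑ i, c i • g i = 0 → ∀ i, r * c i = 0) := by
  classical
  let Gen : Finset κ → Prop := fun J => ∃ s : R, s ∉ 𝔭 ∧
    ∀ j, s • g j ∈ Submodule.span R (g '' J) ⊔ 𝔭 • (⊤ : Submodule R Q)
  have hex : ∃ c : ℕ, ∃ J : Finset κ, J.card = c ∧ Gen J :=
    ⟨_, Finset.univ, rfl, 1, (Ideal.ne_top_iff_one 𝔭).mp (Ideal.IsPrime.ne_top inferInstance),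
      fun j => Submodule.mem_sup_left
        (Submodule.smul_mem _ _ (Submodule.subset_span ⟨j, by simp, rfl⟩))⟩
  obtain ⟨J, hJc, s, hs, hJ⟩ := Nat.find_spec hex
  have hmin : ∀ J' : Finset κ, Gen J' → J.card ≤ J'.card :=
    fun J' h => hJc ▸ Nat.find_min' hex ⟨J', rfl, h⟩
  -- Claim 1
  have claim1 : ∀ a : J → R, ∑ i, a i • g i ∈ 𝔭 • (⊤ : Submodule R Q) → ∀ i, a i ∈ 𝔭 := by
    intro a ha i₀
    by_contra hai
    have hgen : Gen (J.erase i₀) := by
      refine ⟨s * a i₀, fun h => (Ideal.IsPrime.mem_or_mem inferInstance h).elim hs hai,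
        fun j => ?_⟩
      obtain ⟨T, hT⟩ : ∃ T : Submodule R Q,
        T = Submodule.span R (g '' ↑(J.erase ↑i₀)) ⊔ 𝔭 • (⊤ : Submodule R Q) := ⟨_, rfl⟩
      rw [← hT]
      have h1 : a i₀ • g i₀ ∈ T := by
        have := Finset.add_sum_erase Finset.univ (fun i => a i • g i) (Finset.mem_univ i₀)
        have h2 : a i₀ • g ↑i₀ =
            ∑ i, a i • g ↑i - ∑ i ∈ Finset.univ.erase i₀, a i • g ↑i := by
          rw [← this]; abel
        rw [h2, hT]
        refine Submodule.sub_mem _ (Submodule.mem_sup_right ha)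
          (Submodule.sum_mem _ fun i hi => Submodule.mem_sup_left
            (Submodule.smul_mem _ _ (Submodule.subset_span ⟨i, ?_, rfl⟩)))
        have hne : i ≠ i₀ := (Finset.mem_erase.mp hi).1
        simp only [Finset.coe_erase, Set.mem_sdiff, Finset.mem_coe, Set.mem_singleton_iff]
        exact ⟨i.2, fun h => hne (Subtype.ext h)⟩
      have h3 : ∀ u ∈ Submodule.span R (g '' ↑J), a i₀ • u ∈ T := by
        intro u hu
        induction hu using Submodule.span_induction with
        | mem x hx =>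
          obtain ⟨j', hj', rfl⟩ := hx
          by_cases hj'' : j' = i₀
          · rw [hj'']; exact h1
          · rw [hT]
            refine Submodule.mem_sup_left
              (Submodule.smul_mem _ _ (Submodule.subset_span ⟨j', ?_, rfl⟩))
            simp only [Finset.coe_erase, Set.mem_sdiff, Finset.mem_coe, Set.mem_singleton_iff]
            exact ⟨hj', hj''⟩
        | zero => simp
        | add x y _ _ hx hy => rw [smul_add]; exact T.add_mem hx hy
        | smul c x _ hx => rw [smul_comm]; exact T.smul_mem _ hx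
      obtain ⟨u, hu, v, hv, huv⟩ := Submodule.mem_sup.mp (hJ j)
      have : (s * a i₀) • g j = a i₀ • u + a i₀ • v := by
        rw [mul_comm, mul_smul, ← huv, smul_add]
      rw [this]
      refine T.add_mem (h3 u hu) ?_
      rw [hT]
      exact Submodule.mem_sup_right (Submodule.smul_mem _ _ hv)
    have := hmin _ hgen
    rw [Finset.card_erase_of_mem i₀.2] at this
    have hpos : 0 < J.card := Finset.card_pos.mpr ⟨i₀, i₀.2⟩
    omega
  -- (a)
  have hfin : Module.Finite R Q :=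
    Module.Finite.of_surjective (Fintype.linearCombination R g)
      (fun q => ⟨σ q, by simp [Fintype.linearCombination_apply, hσ]⟩)
  obtain ⟨F, hF⟩ : ∃ F : Submodule R Q, F = Submodule.span R (g '' ↑J) := ⟨_, rfl⟩
  have ha : ∃ r₁ : R, r₁ ∉ 𝔭 ∧ ∀ q, r₁ • q ∈ F := by
    have hcond : ∀ m : Q ⧸ F, s • m ∈ 𝔭 • (⊤ : Submodule R (Q ⧸ F)) := by
      intro m
      obtain ⟨q, rfl⟩ := Submodule.Quotient.mk_surjective F m
      have hq : s • q ∈ F ⊔ 𝔭 • ⊤ := by
        rw [← hσ q, Finset.smul_sum]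
        refine Submodule.sum_mem _ fun j _ => ?_
        rw [smul_comm, hF]
        exact Submodule.smul_mem _ _ (hJ j)
      obtain ⟨u, hu, v, hv, huv⟩ := Submodule.mem_sup.mp hq
      have h1 : s • (Submodule.Quotient.mk q : Q ⧸ F) = F.mkQ v := by
        rw [← Submodule.Quotient.mk_smul, ← huv, Submodule.Quotient.mk_add,
          (Submodule.Quotient.mk_eq_zero F).mpr hu, zero_add]
        rfl
      rw [h1]
      have h2 : F.mkQ v ∈ (𝔭 • (⊤ : Submodule R Q)).map F.mkQ := Submodule.mem_map_of_mem hv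
      rw [Submodule.map_smul''] at h2
      exact Submodule.smul_mono le_rfl le_top h2
    obtain ⟨r₁, hr₁, hkill⟩ := det_trick 𝔭 s hs hcond
    refine ⟨r₁, hr₁, fun q => ?_⟩
    have := hkill (Submodule.Quotient.mk q)
    rwa [← Submodule.Quotient.mk_smul, Submodule.Quotient.mk_eq_zero] at this
  obtain ⟨r₁, hr₁, hgenF⟩ := ha
  -- (b)
  have hb : ∀ j, ∃ b : J → R, r₁ • g j = ∑ i, b i • g i := fun j => by
    have := hgenF (g j)
    rw [hF] at this
    obtain ⟨c, hc⟩ := (Submodule.mem_span_image_finset_iff_exists_fun R).mp this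
    exact ⟨c, hc.symm⟩
  choose b hb using hb
  obtain ⟨E, hE1, hE2⟩ := split g σ hσ (fun i : J => g i) r₁ b hb
  have hEp : ∀ x i, E x i ∈ 𝔭 := fun x => claim1 (E x) (by rw [hE1]; exact zero_mem _)
  have hEE : ∀ x, E (E x) = r₁ • E x := fun x => hE2 _ (hE1 x)
  have hcond : ∀ l : LinearMap.range E,
      r₁ • l ∈ 𝔭 • (⊤ : Submodule R (LinearMap.range E)) := by
    rintro ⟨_, x, rfl⟩
    have : r₁ • (⟨E x, x, rfl⟩ : LinearMap.range E) =
        ∑ i, (E x i) • (⟨E (Pi.single i 1), _, rfl⟩ : LinearMap.range E) := by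
      apply Subtype.ext
      simp only [Submodule.coe_smul, AddSubmonoidClass.coe_finsetSum]
      rw [← hEE, LinearMap.pi_apply_eq_sum_univ E (E x)]
      refine Finset.sum_congr rfl fun i _ => ?_
      congr 2
      ext j
      simp [Pi.single_apply, eq_comm]
    rw [this]
    exact Submodule.sum_mem _ fun i _ => Submodule.smul_mem_smul (hEp x i) Submodule.mem_top
  obtain ⟨r₂, hr₂, hkill⟩ := det_trick 𝔭 r₁ hr₁ hcond
  refine ⟨r₂ * r₁, fun h => (Ideal.IsPrime.mem_or_mem inferInstance h).elim hr₂ hr₁, J,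
    fun q => ?_, fun c hc i => ?_⟩
  · have := hgenF q
    rw [hF] at this
    obtain ⟨c, hc⟩ := (Submodule.mem_span_image_finset_iff_exists_fun R).mp this
    refine ⟨r₂ • c, ?_⟩
    rw [mul_smul, ← hc, Finset.smul_sum]
    simp [mul_smul]
  · have h1 : E c = r₁ • c := hE2 c hc
    have h2 := hkill ⟨E c, c, rfl⟩
    have h3 : r₂ • E c = 0 := congrArg Subtype.val h2
    rw [h1] at h3
    have := congrFun h3 i
    simpa [mul_assoc] using this


/-- version of `S1` relative to a submodule. -/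
theorem S1' {R P κ : Type*} [CommRing R] [AddCommGroup P] [Module R P] [Fintype κ]
    (𝔭 : Ideal R) [𝔭.IsPrime] (N : Submodule R P) (g : κ → P) (σ₀ : P →ₗ[R] (κ → R))
    (hN : ∀ x ∈ N, σ₀ x = 0) (hσ : ∀ q, q - ∑ j, σ₀ q j • g j ∈ N) :
    ∃ r : R, r ∉ 𝔭 ∧ ∃ (m : ℕ) (u : Fin m → κ),
      (∀ q, ∃ c : Fin m → R, r • q - ∑ i, c i • g (u i) ∈ N) ∧
      (∀ c : Fin m → R, ∑ i, c i • g (u i) ∈ N → ∀ i, r * c i = 0) := by
  classical
  let σ' : (P ⧸ N) →ₗ[R] (κ → R) :=
    N.liftQ σ₀ (fun x hx => LinearMap.mem_ker.mpr (hN x hx))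
  have hσ' : ∀ q', ∑ j, σ' q' j • N.mkQ (g j) = q' := by
    intro q'
    obtain ⟨q, rfl⟩ := N.mkQ_surjective q'
    have h1 : σ' (N.mkQ q) = σ₀ q := rfl
    rw [h1]
    have h2 := (Submodule.Quotient.mk_eq_zero N).mpr (hσ q)
    have h3 : N.mkQ (q - ∑ j, σ₀ q j • g j) = 0 := h2
    rw [map_sub, sub_eq_zero, map_sum] at h3
    rw [h3]
    simp
  obtain ⟨r, hr, J, h1, h2⟩ := S1 𝔭 (fun j => N.mkQ (g j)) σ' hσ'
  let e := J.equivFin
  refine ⟨r, hr, J.card, fun i => ((e.symm i : J) : κ), fun q => ?_, fun c hc i => ?_⟩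
  · obtain ⟨c, hc⟩ := h1 (N.mkQ q)
    refine ⟨fun i => c (e.symm i), ?_⟩
    have h3 : N.mkQ (r • q - ∑ i, c (e.symm i) • g ((e.symm i : J) : κ)) = 0 := by
      rw [map_sub, map_smul, hc, sub_eq_zero, map_sum,
        ← Equiv.sum_comp e.symm (fun i' : J => c i' • N.mkQ (g (i' : κ)))]
      simp
    exact (Submodule.Quotient.mk_eq_zero N).mp h3
  · have h3 : ∑ i' : J, c (e i') • N.mkQ (g (i' : κ)) = 0 := by
      have h4 : N.mkQ (∑ i, c i • g ((e.symm i : J) : κ)) = 0 :=
        (Submodule.Quotient.mk_eq_zero N).mpr hc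
      rw [← Equiv.sum_comp e (fun i => c i • g ((e.symm i : J) : κ)), map_sum] at h4
      rw [← h4]
      refine Finset.sum_congr rfl fun i' _ => ?_
      simp
    have := h2 (fun i' => c (e i')) h3 (e.symm i)
    simpa using this

end Groth.Agent.Lib.Helper20.GrProj
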