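import Mathlib
import Groth.Agent.Lib.Helper20.GrProj1

set_option autoImplicit false
universe u v

namespace Groth.Agent.Lib.Helper20.GrProj

open MvPolynomial DirectSum

section graded

variable {R : Type u} [CommRing R] {n : ℕ}
  {P : Type v} [AddCommGroup P] [Module (MvPolynomial (Fin n) R) P] [Module R P]
  [IsScalarTower R (MvPolynomial (Fin n) R) P]
  (ℳ : (Fin n → ℤ) → Submodule R P) [DirectSum.Decomposition ℳ]

/-- the `d`-th homogeneous component as an `R`-linear endomorphism. -/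
noncomputable def comp (d : Fin n → ℤ) : P →ₗ[R] P :=
  (ℳ d).subtype ∘ₗ DirectSum.component R _ (fun i => ℳ i) d ∘ₗ
    (DirectSum.decomposeLinearEquiv ℳ).toLinearMap

theorem comp_apply (d : Fin n → ℤ) (x : P) : comp ℳ d x = (DirectSum.decompose ℳ x d : P) := rfl

theorem comp_of_mem_same {d : Fin n → ℤ} {x : P} (hx : x ∈ ℳ d) : comp ℳ d x = x :=
  DirectSum.decompose_of_mem_same ℳ hx

theorem comp_of_mem_ne {d d' : Fin n → ℤ} {x : P} (hx : x ∈ ℳ d') (h : d' ≠ d) :
    comp ℳ d x = 0 :=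
  DirectSum.decompose_of_mem_ne ℳ hx h

theorem weight_eq (m : Fin n →₀ ℕ) :
    Finsupp.weight (fun i : Fin n => (Pi.single i 1 : Fin n → ℤ)) m = fun i => (m i : ℤ) := by
  classical
  rw [Finsupp.weight_apply, Finsupp.sum_fintype _ _ (fun i => by simp)]
  ext l
  simp [Finset.sum_apply, Pi.single_apply]

variable [SetLike.GradedSMul (MvPolynomial.weightedHomogeneousSubmodule R
    (fun i : Fin n => (Pi.single i 1 : Fin n → ℤ))) ℳ]

theorem monomial_smul_mem (m : Fin n →₀ ℕ) (a : R) {e₀ : Fin n → ℤ} {g : P} (hg : g ∈ ℳ e₀) :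
    (monomial m a : MvPolynomial (Fin n) R) • g ∈ ℳ ((fun i => (m i : ℤ)) + e₀) := by
  have h1 : (monomial m a : MvPolynomial (Fin n) R) ∈
      MvPolynomial.weightedHomogeneousSubmodule R
        (fun i : Fin n => (Pi.single i 1 : Fin n → ℤ)) (fun i => (m i : ℤ)) :=
    (mem_weightedHomogeneousSubmodule R _ _ _).mpr
      (isWeightedHomogeneous_monomial _ m a (weight_eq m))
  exact SetLike.GradedSMul.smul_mem h1 hg

theorem comp_smul_homog {e₀ : Fin n → ℤ} {g : P} (hg : g ∈ ℳ e₀) (b : MvPolynomial (Fin n) R)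
    (d : Fin n → ℤ) :
    ∃ b' : MvPolynomial (Fin n) R, comp ℳ d (b • g) = b' • g ∧
      (constantCoeff b = 0 → ∑ l, d l ≤ ∑ l, e₀ l → b' = 0) := by
  classical
  refine ⟨∑ m ∈ b.support.filter (fun m => (fun i => (m i : ℤ)) + e₀ = d),
    monomial m (coeff m b), ?_, ?_⟩
  · conv_lhs => rw [← support_sum_monomial_coeff b]
    rw [Finset.sum_smul, map_sum, Finset.sum_smul, Finset.sum_filter]
    refine Finset.sum_congr rfl fun m _ => ?_
    split_ifs with h
    · exact comp_of_mem_same ℳ (h ▸ monomial_smul_mem ℳ m _ hg)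
    · exact comp_of_mem_ne ℳ (monomial_smul_mem ℳ m _ hg) h
  · intro hb hd
    refine Finset.sum_eq_zero fun m hm => ?_
    rw [Finset.mem_filter] at hm
    obtain ⟨hm1, hm2⟩ := hm
    have h1 : ∑ l, ((m l : ℤ) + e₀ l) = ∑ l, d l := by
      rw [← hm2]; rfl
    rw [Finset.sum_add_distrib] at h1
    have h2 : ∀ l, m l = 0 := by
      intro l
      have h3 : ∑ l, (m l : ℤ) ≤ 0 := by linarith
      have h4 : (m l : ℤ) ≤ ∑ l, (m l : ℤ) :=
        Finset.single_le_sum (f := fun l => (m l : ℤ)) (fun i _ => by positivity)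
          (Finset.mem_univ l)
      omega
    have h5 : m = 0 := Finsupp.ext h2
    rw [h5] at hm1
    rw [mem_support_iff, ← constantCoeff_eq] at hm1
    exact absurd hb hm1

theorem exists_homog_gens [Module.Finite (MvPolynomial (Fin n) R) P] :
    ∃ (κ : Type v) (_ : Fintype κ) (g : κ → P) (e : κ → (Fin n → ℤ)),
      (∀ j, g j ∈ ℳ (e j)) ∧ Submodule.span (MvPolynomial (Fin n) R) (Set.range g) = ⊤ := by
  classical
  obtain ⟨H, hH⟩ : ∃ H : Set P, H = {x | ∃ d, x ∈ ℳ d} := ⟨_, rfl⟩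
  have htop : Submodule.span (MvPolynomial (Fin n) R) H = ⊤ := by
    rw [eq_top_iff]
    intro x _
    rw [← DirectSum.sum_support_decompose ℳ x]
    refine Submodule.sum_mem _ fun d _ => Submodule.subset_span ?_
    rw [hH]
    exact ⟨d, (DirectSum.decompose ℳ x d).2⟩
  have hfg : (Submodule.span (MvPolynomial (Fin n) R) H).FG := by
    rw [htop]; exact Module.Finite.fg_top
  obtain ⟨s', hs', hspan⟩ := (Submodule.fg_span_iff_fg_span_finset_subset H).mp hfg
  have hdeg : ∀ j : s', ∃ d, (j : P) ∈ ℳ d := fun j => by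
    have := hs' j.2
    rw [hH] at this
    exact this
  choose e he using hdeg
  refine ⟨s', inferInstance, Subtype.val, e, he, ?_⟩
  rw [Subtype.range_coe_subtype]
  rw [← htop, hspan]
  rfl

end graded

end Groth.Agent.Lib.Helper20.GrProj
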