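import Mathlib
import Groth.Agent.Lib.Helper20.GrProj2

set_option autoImplicit false
universe u v

namespace Groth.Agent.Lib.Helper20.GrProj

open MvPolynomial DirectSum

section main

variable {R : Type u} [CommRing R] {n : ℕ}
  {P : Type v} [AddCommGroup P] [Module (MvPolynomial (Fin n) R) P] [Module R P]
  [IsScalarTower R (MvPolynomial (Fin n) R) P]

theorem C_smul' (r : R) (x : P) : (C r : MvPolynomial (Fin n) R) • x = r • x := by
  rw [← MvPolynomial.algebraMap_eq, algebraMap_smul]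

theorem mem_smul_top_exists {κ : Type*} [Fintype κ] (g : κ → P)
    (σ : P →ₗ[MvPolynomial (Fin n) R] (κ → MvPolynomial (Fin n) R))
    (hσ : ∀ q, ∑ j, σ q j • g j = q) {x : P}
    (hx : x ∈ (RingHom.ker (constantCoeff : MvPolynomial (Fin n) R →+* R)) •
      (⊤ : Submodule (MvPolynomial (Fin n) R) P)) :
    ∃ b : κ → MvPolynomial (Fin n) R, (∀ j, constantCoeff (b j) = 0) ∧ x = ∑ j, b j • g j := by
  refine Submodule.smul_induction_on hx (fun a ha y _ => ?_) (fun x y hx hy => ?_)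
  · refine ⟨fun j => a * σ y j, fun j => ?_, ?_⟩
    · rw [map_mul, RingHom.mem_ker.mp ha, zero_mul]
    · conv_lhs => rw [← hσ y]
      rw [Finset.smul_sum]
      simp [mul_smul]
  · obtain ⟨b1, h1, rfl⟩ := hx
    obtain ⟨b2, h2, rfl⟩ := hy
    exact ⟨b1 + b2, fun j => by simp [h1, h2], by simp [add_smul, Finset.sum_add_distrib]⟩

/-- saturation of a submodule with respect to powers of `C r₀`. -/
noncomputable def Good (r₀ : R) (F : Submodule (MvPolynomial (Fin n) R) P) :
    Submodule (MvPolynomial (Fin n) R) P where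
  carrier := {q | ∃ N : ℕ, (C r₀ : MvPolynomial (Fin n) R) ^ N • q ∈ F}
  add_mem' := by
    rintro a b ⟨N₁, h₁⟩ ⟨N₂, h₂⟩
    refine ⟨N₁ + N₂, ?_⟩
    rw [smul_add]
    refine F.add_mem ?_ ?_
    · rw [pow_add, mul_comm, mul_smul]; exact F.smul_mem _ h₁
    · rw [pow_add, mul_smul]; exact F.smul_mem _ h₂
  zero_mem' := ⟨0, by simp⟩
  smul_mem' := by
    rintro c x ⟨N, h⟩
    exact ⟨N, by rw [smul_comm]; exact F.smul_mem _ h⟩

theorem mem_Good {r₀ : R} {F : Submodule (MvPolynomial (Fin n) R) P} {q : P} :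
    q ∈ Good r₀ F ↔ ∃ N : ℕ, (C r₀ : MvPolynomial (Fin n) R) ^ N • q ∈ F := Iff.rfl

theorem le_Good (r₀ : R) (F : Submodule (MvPolynomial (Fin n) R) P) : F ≤ Good r₀ F :=
  fun q hq => ⟨0, by simpa using hq⟩

variable (ℳ : (Fin n → ℤ) → Submodule R P) [DirectSum.Decomposition ℳ]
  [SetLike.GradedSMul (MvPolynomial.weightedHomogeneousSubmodule R
    (fun i : Fin n => (Pi.single i 1 : Fin n → ℤ))) ℳ]

theorem gen_step {κ : Type*} [Fintype κ] (g : κ → P) (e : κ → Fin n → ℤ)
    (hg : ∀ j, g j ∈ ℳ (e j))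
    (σ : P →ₗ[MvPolynomial (Fin n) R] (κ → MvPolynomial (Fin n) R))
    (hσ : ∀ q, ∑ j, σ q j • g j = q) {m : ℕ} (u : Fin m → κ) (r₀ : R)
    (h1 : ∀ q : P, ∃ c : Fin m → R, r₀ • q - ∑ i, c i • g (u i) ∈
      (RingHom.ker (constantCoeff : MvPolynomial (Fin n) R →+* R)) •
        (⊤ : Submodule (MvPolynomial (Fin n) R) P)) :
    ∀ q : P, ∃ N₀ : ℕ, (C r₀ : MvPolynomial (Fin n) R) ^ N₀ • q ∈
      Submodule.span (MvPolynomial (Fin n) R) (Set.range (fun i => g (u i))) := by
  classical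
  obtain ⟨F, hF⟩ : ∃ F : Submodule (MvPolynomial (Fin n) R) P,
    F = Submodule.span (MvPolynomial (Fin n) R) (Set.range (fun i => g (u i))) := ⟨_, rfl⟩
  rw [← hF]
  obtain ⟨δ₀, hδ₀⟩ : ∃ δ₀ : ℤ, ∀ j, δ₀ < ∑ l, e j l := by
    refine ⟨- (∑ j, |∑ l, e j l|) - 1, fun j => ?_⟩
    have h1 : |∑ l, e j l| ≤ ∑ j, |∑ l, e j l| :=
      Finset.single_le_sum (f := fun j => |∑ l, e j l|) (fun _ _ => abs_nonneg _)
        (Finset.mem_univ j)
    have h2 := neg_abs_le (∑ l, e j l)
    linarith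
  have key : ∀ T : ℕ, ∀ j, ∑ l, e j l ≤ δ₀ + T → g j ∈ Good r₀ F := by
    intro T
    induction T with
    | zero =>
      intro j hj
      have := hδ₀ j
      simp only [Nat.cast_zero, add_zero] at hj
      omega
    | succ T ih =>
      intro j₀ hj₀
      obtain ⟨ρ, hρ⟩ := h1 (g j₀)
      obtain ⟨b, hb0, hb⟩ := mem_smul_top_exists g σ hσ hρ
      have heq : r₀ • g j₀ = ∑ i, ρ i • g (u i) + ∑ j, b j • g j := by
        rw [← hb]; abel
      have hc := congrArg (comp ℳ (e j₀)) heq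
      rw [comp_of_mem_same ℳ ((ℳ (e j₀)).smul_mem r₀ (hg j₀)), map_add, map_sum, map_sum] at hc
      have hmem : (C r₀ : MvPolynomial (Fin n) R) • g j₀ ∈ Good r₀ F := by
        rw [C_smul', hc]
        refine (Good r₀ F).add_mem (Submodule.sum_mem _ fun i _ => ?_)
          (Submodule.sum_mem _ fun j _ => ?_)
        · by_cases h : e (u i) = e j₀
          · rw [comp_of_mem_same ℳ (h ▸ (ℳ _).smul_mem _ (hg (u i))), ← C_smul' (n := n)]
            refine le_Good r₀ F (F.smul_mem _ ?_)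
            rw [hF]
            exact Submodule.subset_span ⟨i, rfl⟩
          · rw [comp_of_mem_ne ℳ ((ℳ _).smul_mem _ (hg (u i))) h]
            exact zero_mem _
        · obtain ⟨b', hb', hb'0⟩ := comp_smul_homog ℳ (hg j) (b j) (e j₀)
          rw [hb']
          by_cases h : ∑ l, e j₀ l ≤ ∑ l, e j l
          · rw [hb'0 (hb0 j) h, zero_smul]
            exact zero_mem _
          · refine (Good r₀ F).smul_mem _ (ih j ?_)
            push_cast at hj₀
            omega
      obtain ⟨N, hN⟩ := hmem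
      exact ⟨N + 1, by rw [pow_succ, mul_smul]; exact hN⟩
  intro q
  have : q ∈ Good r₀ F := by
    rw [← hσ q]
    refine Submodule.sum_mem _ fun j _ => Submodule.smul_mem _ _
      (key (∑ l, e j l - δ₀).toNat j ?_)
    have := hδ₀ j
    omega
  exact this

end main

end Groth.Agent.Lib.Helper20.GrProj
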