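import Mathlib
import Groth.Agent.Lib.Helper20.GrProj3

set_option autoImplicit false
universe u v

namespace Groth.Agent.Lib.Helper20.GrProj

open MvPolynomial DirectSum

theorem exists_X_decomp {R : Type*} [CommRing R] {n : ℕ} (y : MvPolynomial (Fin n) R)
    (hy : constantCoeff y = 0) :
    ∃ z : Fin n → MvPolynomial (Fin n) R, y = ∑ l, X l * z l := by
  have h1 : y ∈ Ideal.span (MvPolynomial.X '' (Set.univ : Set (Fin n)) :
      Set (MvPolynomial (Fin n) R)) := by
    rw [mem_ideal_span_X_image]
    intro m hm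
    by_contra hcon
    push Not at hcon
    have hm0 : m = 0 := Finsupp.ext fun i => hcon i (Set.mem_univ i)
    rw [hm0, mem_support_iff, ← constantCoeff_eq] at hm
    exact hm hy
  rw [Set.image_univ, Ideal.mem_span_range_iff_exists_fun] at h1
  obtain ⟨c, hc⟩ := h1
  exact ⟨c, by rw [← hc]; exact Finset.sum_congr rfl fun l _ => mul_comm _ _⟩

section main

variable {R : Type u} [CommRing R] {n : ℕ}
  {P : Type v} [AddCommGroup P] [Module (MvPolynomial (Fin n) R) P] [Module R P]
  [IsScalarTower R (MvPolynomial (Fin n) R) P]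

theorem ind_step {κ : Type*} [Fintype κ] (g : κ → P)
    (σ : P →ₗ[MvPolynomial (Fin n) R] (κ → MvPolynomial (Fin n) R))
    (hσ : ∀ q, ∑ j, σ q j • g j = q) {m : ℕ} (u : Fin m → κ) (r₀ : R) (N₀ : ℕ)
    (hN₀ : ∀ j, (C r₀ : MvPolynomial (Fin n) R) ^ N₀ • g j ∈
      Submodule.span (MvPolynomial (Fin n) R) (Set.range (fun i => g (u i))))
    (h2 : ∀ c : Fin m → R, ∑ i, c i • g (u i) ∈
      (RingHom.ker (constantCoeff : MvPolynomial (Fin n) R →+* R)) •
        (⊤ : Submodule (MvPolynomial (Fin n) R) P) → ∀ i, r₀ * c i = 0) :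
    ∀ c : Fin m → MvPolynomial (Fin n) R, ∑ i, c i • g (u i) = 0 →
      ∃ M : ℕ, ∀ i, (C r₀ : MvPolynomial (Fin n) R) ^ M * c i = 0 := by
  classical
  have hb : ∀ j, ∃ b : Fin m → MvPolynomial (Fin n) R,
      (C r₀ : MvPolynomial (Fin n) R) ^ N₀ • g j = ∑ i, b i • g (u i) := fun j => by
    obtain ⟨c, hc⟩ := (Submodule.mem_span_range_iff_exists_fun _).mp (hN₀ j)
    exact ⟨c, hc.symm⟩
  choose b hb using hb
  obtain ⟨E, hE1, hE2⟩ := split g σ hσ (fun i => g (u i)) ((C r₀) ^ N₀) b hb
  obtain ⟨r', hr'⟩ : ∃ r' : R, r' = r₀ ^ (N₀ + 1) := ⟨_, rfl⟩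
  -- Claim 3a
  have c3a : ∀ c : Fin m → MvPolynomial (Fin n) R, ∑ i, c i • g (u i) = 0 →
      ∀ i, r₀ * constantCoeff (c i) = 0 := by
    intro c hc
    apply h2 (fun i => constantCoeff (c i))
    have : ∑ i, constantCoeff (c i) • g (u i) =
        - ∑ i, (c i - C (constantCoeff (c i))) • g (u i) := by
      simp only [sub_smul, Finset.sum_sub_distrib, hc, C_smul']
      abel
    rw [this]
    refine Submodule.neg_mem _ (Submodule.sum_mem _ fun i _ =>
      Submodule.smul_mem_smul ?_ Submodule.mem_top)
    rw [RingHom.mem_ker]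
    simp
  -- Claim 3b
  have c3b : ∀ D : ℕ, ∀ c : Fin m → MvPolynomial (Fin n) R, ∑ i, c i • g (u i) = 0 →
      ∀ i (μ : Fin n →₀ ℕ), ∑ l, μ l < D → r' ^ D * coeff μ (c i) = 0 := by
    intro D
    induction D with
    | zero => intro c _ i μ h; omega
    | succ D ih =>
      intro c hc i μ hμ
      have hc' : ∑ i, ((C r₀ : MvPolynomial (Fin n) R) • c) i • g (u i) = 0 := by
        simp only [Pi.smul_apply, smul_eq_mul, mul_smul]
        rw [← Finset.smul_sum, hc, smul_zero]
      have hcc : ∀ i, constantCoeff (((C r₀ : MvPolynomial (Fin n) R) • c) i) = 0 := fun i => by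
        simp [c3a c hc i]
      have hy : ∀ i, ∃ z : Fin n → MvPolynomial (Fin n) R,
          ((C r₀ : MvPolynomial (Fin n) R) • c) i = ∑ l, X l * z l :=
        fun i => exists_X_decomp _ (hcc i)
      choose y hy using hy
      have hvec : (C r₀ : MvPolynomial (Fin n) R) • c =
          ∑ l, (X l : MvPolynomial (Fin n) R) • (fun i => y i l) := by
        ext i
        rw [hy i]
        simp [Finset.sum_apply]
      have hE : (C r' : MvPolynomial (Fin n) R) • c =
          ∑ l, (X l : MvPolynomial (Fin n) R) • E (fun i => y i l) := by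
        calc (C r' : MvPolynomial (Fin n) R) • c
            = (C r₀ : MvPolynomial (Fin n) R) ^ N₀ • ((C r₀ : MvPolynomial (Fin n) R) • c) := by
              rw [smul_smul, ← pow_succ, ← map_pow, hr']
          _ = E ((C r₀ : MvPolynomial (Fin n) R) • c) := (hE2 _ hc').symm
          _ = E (∑ l, (X l : MvPolynomial (Fin n) R) • (fun i => y i l)) := congrArg E hvec
          _ = ∑ l, (X l : MvPolynomial (Fin n) R) • E (fun i => y i l) := by
              simp [map_sum, map_smul]
      have hcoef : r' * coeff μ (c i) =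
          ∑ l, if l ∈ μ.support then coeff (μ - Finsupp.single l 1) (E (fun i => y i l) i)
            else 0 := by
        have h3 : (C r' : MvPolynomial (Fin n) R) * c i =
            ∑ l, X l * E (fun i => y i l) i := by
          have := congrFun hE i
          simpa [Finset.sum_apply] using this
        rw [← coeff_C_mul, h3, coeff_sum]
        simp [coeff_X_mul']
      rw [pow_succ, mul_assoc, hcoef, Finset.mul_sum]
      refine Finset.sum_eq_zero fun l _ => ?_
      split_ifs with hl
      · apply ih (E fun i => y i l) (hE1 _) i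
        have hle : ∀ l', (μ - Finsupp.single l 1 : Fin n →₀ ℕ) l' +
            (Finsupp.single l 1 : Fin n →₀ ℕ) l' = μ l' := fun l' => by
          rw [Finsupp.tsub_apply]
          apply Nat.sub_add_cancel
          rw [Finsupp.single_apply]
          split_ifs with h
          · subst h
            exact Nat.one_le_iff_ne_zero.mpr (Finsupp.mem_support_iff.mp hl)
          · exact Nat.zero_le _
        have hsum : ∑ l', (μ - Finsupp.single l 1 : Fin n →₀ ℕ) l' + 1 = ∑ l', μ l' := by
          rw [← Finset.sum_congr rfl (fun l' _ => hle l'), Finset.sum_add_distrib]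
          congr 1
          simp [Finsupp.single_apply]
        omega
      · simp
  -- conclusion
  intro c hc
  refine ⟨(N₀ + 1) * (1 + ∑ i, (c i).totalDegree), fun i => ?_⟩
  ext μ
  rw [← map_pow, coeff_C_mul, pow_mul, ← hr', coeff_zero]
  by_cases h0 : coeff μ (c i) = 0
  · rw [h0, mul_zero]
  · apply c3b _ c hc i μ
    have h1 : (μ.sum fun _ e => e) ≤ (c i).totalDegree :=
      le_totalDegree (mem_support_iff.mpr h0)
    rw [Finsupp.sum_fintype _ _ (fun _ => rfl)] at h1
    have h2 : (c i).totalDegree ≤ ∑ i, (c i).totalDegree :=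
      Finset.single_le_sum (f := fun i => (c i).totalDegree) (fun _ _ => Nat.zero_le _)
        (Finset.mem_univ i)
    omega

end main

end Groth.Agent.Lib.Helper20.GrProj
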