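import Mathlib
import Groth.Agent.Lib.Helper20.GrProj4

set_option autoImplicit false
universe u v

namespace Groth.Agent.Lib.Helper20.GrProj

open MvPolynomial DirectSum

theorem main {R : Type u} [CommRing R] (n : ℕ)
    {P : Type v} [AddCommGroup P] [Module (MvPolynomial (Fin n) R) P] [Module R P]
    [IsScalarTower R (MvPolynomial (Fin n) R) P]
    (ℳ : (Fin n → ℤ) → Submodule R P) [DirectSum.Decomposition ℳ]
    [SetLike.GradedSMul (MvPolynomial.weightedHomogeneousSubmodule R
      (fun i : Fin n => (Pi.single i 1 : Fin n → ℤ))) ℳ]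
    [Module.Finite (MvPolynomial (Fin n) R) P] [Module.Projective (MvPolynomial (Fin n) R) P]
    (𝔭 : Ideal R) [𝔭.IsPrime] :
    ∃ r : R, r ∉ 𝔭 ∧ ∃ (m : ℕ) (d : Fin m → (Fin n → ℤ)) (f : Fin m → P),
      (∀ i, f i ∈ ℳ (d i)) ∧
      (∀ q : P, ∃ (N : ℕ) (c : Fin m → MvPolynomial (Fin n) R),
        (MvPolynomial.C r : MvPolynomial (Fin n) R) ^ N • q = ∑ i, c i • f i) ∧
      (∀ c : Fin m → MvPolynomial (Fin n) R, ∑ i, c i • f i = 0 →
        ∃ N : ℕ, ∀ i, (MvPolynomial.C r : MvPolynomial (Fin n) R) ^ N * c i = 0) := by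
  classical
  obtain ⟨κ, _, g, e, hg, hspan⟩ := exists_homog_gens ℳ
  have hπ : Function.Surjective (Fintype.linearCombination (MvPolynomial (Fin n) R) g) := by
    rw [← LinearMap.range_eq_top, Fintype.range_linearCombination, hspan]
  obtain ⟨σ, hσ⟩ := Module.projective_lifting_property
    (Fintype.linearCombination (MvPolynomial (Fin n) R) g) LinearMap.id hπ
  have hσ' : ∀ q, ∑ j, σ q j • g j = q := fun q => by
    have := LinearMap.congr_fun hσ q
    simpa [Fintype.linearCombination_apply] using this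
  obtain ⟨N, hN⟩ : ∃ N : Submodule R P, N =
    ((RingHom.ker (constantCoeff : MvPolynomial (Fin n) R →+* R)) •
      (⊤ : Submodule (MvPolynomial (Fin n) R) P)).restrictScalars R := ⟨_, rfl⟩
  let σ₀ : P →ₗ[R] (κ → R) :=
    { toFun := fun q j => constantCoeff (σ q j)
      map_add' := fun x y => by ext j; simp
      map_smul' := fun r x => by
        ext j
        have : σ (r • x) = (C r : MvPolynomial (Fin n) R) • σ x := by
          rw [← map_smul, C_smul']
        simp [this] }
  have hσ₀ : ∀ q j, σ₀ q j = constantCoeff (σ q j) := fun _ _ => rfl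
  have hN0 : ∀ x ∈ N, σ₀ x = 0 := by
    intro x hx
    rw [hN, Submodule.restrictScalars_mem] at hx
    obtain ⟨b, hb0, rfl⟩ := mem_smul_top_exists g σ hσ' hx
    ext j'
    rw [hσ₀, map_sum, Finset.sum_apply, map_sum]
    refine Finset.sum_eq_zero fun j _ => ?_
    rw [map_smul, Pi.smul_apply, smul_eq_mul, map_mul, hb0 j, zero_mul]
  have hN1 : ∀ q, q - ∑ j, σ₀ q j • g j ∈ N := by
    intro q
    have h1 : q - ∑ j, σ₀ q j • g j =
        ∑ j, (σ q j - C (constantCoeff (σ q j))) • g j := by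
      calc q - ∑ j, σ₀ q j • g j = ∑ j, σ q j • g j - ∑ j, σ₀ q j • g j := by rw [hσ' q]
        _ = ∑ j, (σ q j - C (constantCoeff (σ q j))) • g j := by
          rw [← Finset.sum_sub_distrib]
          refine Finset.sum_congr rfl fun j _ => ?_
          rw [sub_smul, C_smul', hσ₀]
    rw [h1, hN, Submodule.restrictScalars_mem]
    refine Submodule.sum_mem _ fun j _ => Submodule.smul_mem_smul ?_ Submodule.mem_top
    rw [RingHom.mem_ker]
    simp
  obtain ⟨r₀, hr₀, m, u, h1, h2⟩ := S1' 𝔭 N g σ₀ hN0 hN1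
  have h1' : ∀ q : P, ∃ c : Fin m → R, r₀ • q - ∑ i, c i • g (u i) ∈
      (RingHom.ker (constantCoeff : MvPolynomial (Fin n) R →+* R)) •
        (⊤ : Submodule (MvPolynomial (Fin n) R) P) := fun q => by
    obtain ⟨c, hc⟩ := h1 q
    rw [hN, Submodule.restrictScalars_mem] at hc
    exact ⟨c, hc⟩
  have h2' : ∀ c : Fin m → R, ∑ i, c i • g (u i) ∈
      (RingHom.ker (constantCoeff : MvPolynomial (Fin n) R →+* R)) •
        (⊤ : Submodule (MvPolynomial (Fin n) R) P) → ∀ i, r₀ * c i = 0 := fun c hc => by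
    apply h2 c
    rw [hN, Submodule.restrictScalars_mem]
    exact hc
  have hgen := gen_step ℳ g e hg σ hσ' u r₀ h1'
  choose Nj hNj using fun j => hgen (g j)
  have hN₀ : ∀ j, (C r₀ : MvPolynomial (Fin n) R) ^ (∑ j, Nj j) • g j ∈
      Submodule.span (MvPolynomial (Fin n) R) (Set.range (fun i => g (u i))) := fun j => by
    have : ∑ j, Nj j = (∑ j, Nj j - Nj j) + Nj j :=
      (Nat.sub_add_cancel (Finset.single_le_sum (f := Nj) (fun _ _ => Nat.zero_le _)
        (Finset.mem_univ j))).symm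
    rw [this, pow_add, mul_smul]
    exact Submodule.smul_mem _ _ (hNj j)
  have hind := ind_step g σ hσ' u r₀ _ hN₀ h2'
  refine ⟨r₀, hr₀, m, fun i => e (u i), fun i => g (u i), fun i => hg (u i), fun q => ?_, hind⟩
  obtain ⟨N', hN'⟩ := hgen q
  obtain ⟨c, hc⟩ := (Submodule.mem_span_range_iff_exists_fun _).mp hN'
  exact ⟨N', c, hc.symm⟩

end Groth.Agent.Lib.Helper20.GrProj
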