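import Mathlib

/-!
# Veronese-type lemma for finitely generated ℕ-graded rings

If `S = ⊕ 𝒜 n` is a graded ring of finite type over `A` (with `A` mapping into degree `0`),
then there is `d₀ > 0` such that for every positive multiple `d` of `d₀`:
`𝒜 (n d) = (𝒜 d) ^ n` for `n > 0` and `𝒜 d` is finitely generated over `𝒜 0`.
(Bourbaki AC III §1.3 Prop. 3 / EGA II 2.1.6.)
-/

set_option autoImplicit false
open DirectSum

namespace Groth.Agent.Lib.Helper20.GrVeronese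

section Mon
variable {S : Type*} [CommRing S] (𝒜 : ℕ → AddSubgroup S) [GradedRing 𝒜]
variable {κ : Type*} [Fintype κ] (y : κ → S) (e : κ → ℕ)

/-- weight of an exponent vector -/
def wt (a : κ → ℕ) : ℕ := ∑ j, a j * e j

/-- monomial -/
def mon (a : κ → ℕ) : S := ∏ j, y j ^ a j

/-- graded piece as ℤ-submodule -/
abbrev Z (n : ℕ) : Submodule ℤ S := AddSubgroup.toIntSubmodule (𝒜 n)

/-- the `𝒜 0`-line through a monomial -/
def Mo (a : κ → ℕ) : Submodule ℤ S := Z 𝒜 0 * Submodule.span ℤ {mon y a}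

lemma Z_mul_le (m n : ℕ) : Z 𝒜 m * Z 𝒜 n ≤ Z 𝒜 (m + n) :=
  Submodule.mul_le.mpr (fun a ha b hb =>
    (SetLike.mul_mem_graded (A := 𝒜) (show a ∈ 𝒜 m from ha) (show b ∈ 𝒜 n from hb) :
      a * b ∈ 𝒜 (m + n)))

lemma Z_pow_le (m h : ℕ) : Z 𝒜 m ^ h ≤ Z 𝒜 (h * m) := by
  induction h with
  | zero =>
    rw [pow_zero, zero_mul, Submodule.one_le]
    exact (SetLike.GradedOne.one_mem : (1 : S) ∈ 𝒜 0)
  | succ h ih =>
    rw [pow_succ, Nat.succ_mul]
    exact (mul_le_mul' ih le_rfl).trans (Z_mul_le 𝒜 _ _)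

variable {y e}

lemma mon_mem (hy : ∀ j, y j ∈ 𝒜 (e j)) (a : κ → ℕ) : mon y a ∈ 𝒜 (wt e a) := by
  have := SetLike.prod_pow_mem_graded 𝒜 e y (F := Finset.univ) a (fun k _ => hy k)
  simpa [mon, wt, smul_eq_mul] using this

lemma mon_add (a b : κ → ℕ) : mon y (a + b) = mon y a * mon y b := by
  simp [mon, pow_add, Finset.prod_mul_distrib]

lemma wt_add (a b : κ → ℕ) : wt e (a + b) = wt e a + wt e b := by
  simp [wt, add_mul, Finset.sum_add_distrib]

lemma mon_single [DecidableEq κ] (j : κ) (c : ℕ) : mon y (Pi.single j c) = y j ^ c := by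
  rw [mon, Finset.prod_eq_single j]
  · simp
  · intro b _ hb
    simp [Pi.single_apply, hb]
  · simp

lemma wt_single [DecidableEq κ] (j : κ) (c : ℕ) : wt e (Pi.single j c) = c * e j := by
  rw [wt, Finset.sum_eq_single j]
  · simp
  · intro b _ hb
    simp [Pi.single_apply, hb]
  · simp

lemma Mo_le (hy : ∀ j, y j ∈ 𝒜 (e j)) (a : κ → ℕ) : Mo 𝒜 y a ≤ Z 𝒜 (wt e a) := by
  refine Submodule.mul_le.mpr (fun s hs m hm => ?_)
  obtain ⟨c, rfl⟩ := Submodule.mem_span_singleton.mp hm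
  have h1 : c • mon y a ∈ 𝒜 (wt e a) := (𝒜 _).zsmul_mem (mon_mem 𝒜 hy a) c
  have := SetLike.mul_mem_graded (A := 𝒜) (show s ∈ 𝒜 0 from hs) h1
  rw [zero_add] at this
  exact this

lemma Mo_mul_le (a b : κ → ℕ) : Mo 𝒜 y a * Mo 𝒜 y b ≤ Mo 𝒜 y (a + b) := by
  unfold Mo
  rw [mul_mul_mul_comm, Submodule.span_mul_span, Set.singleton_mul_singleton, ← mon_add]
  exact mul_le_mul' ((Z_mul_le 𝒜 0 0).trans (by rw [add_zero])) le_rfl

lemma mem_iSup_Mo_of_mem_zero {x : S} (hx : x ∈ 𝒜 0) : x ∈ ⨆ a, Mo 𝒜 y a := by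
  refine Submodule.mem_iSup_of_mem (0 : κ → ℕ) ?_
  have h1 : x = x * mon y 0 := by simp [mon]
  rw [h1]
  exact Submodule.mul_mem_mul hx (Submodule.mem_span_singleton_self _)

lemma iSup_Mo_eq_top {A : Type*} [CommRing A] [Algebra A S]
    (h0 : ∀ r, algebraMap A S r ∈ 𝒜 0)
    (G : Set S) (hG : Algebra.adjoin A G = ⊤) (hG' : ∀ g ∈ G, g ∈ 𝒜 0 ∨ ∃ j, g = y j) :
    (⨆ a, Mo 𝒜 y a) = ⊤ := by
  classical
  rw [eq_top_iff]
  intro x _
  have hx : x ∈ Algebra.adjoin A G := by rw [hG]; trivial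
  refine Algebra.adjoin_induction (p := fun x _ => x ∈ ⨆ a, Mo 𝒜 y a) ?_ ?_ ?_ ?_ hx
  · intro x hx
    rcases hG' x hx with h | ⟨j, rfl⟩
    · exact mem_iSup_Mo_of_mem_zero 𝒜 h
    · refine Submodule.mem_iSup_of_mem (Pi.single j 1) ?_
      have h1 : (1 : S) * mon y (Pi.single j 1) ∈ Mo 𝒜 y (Pi.single j 1) :=
        Submodule.mul_mem_mul (SetLike.GradedOne.one_mem : (1 : S) ∈ 𝒜 0)
          (Submodule.mem_span_singleton_self _)
      rwa [mon_single, one_mul, pow_one] at h1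
  · intro r
    exact mem_iSup_Mo_of_mem_zero 𝒜 (h0 r)
  · intro x z _ _ hx hz
    exact add_mem hx hz
  · intro x z _ _ hx hz
    have h1 := Submodule.mul_mem_mul hx hz
    refine (?_ : (⨆ a, Mo 𝒜 y a) * (⨆ a, Mo 𝒜 y a) ≤ ⨆ a, Mo 𝒜 y a) h1
    rw [Submodule.iSup_mul]
    refine iSup_le (fun a => ?_)
    rw [Submodule.mul_iSup]
    exact iSup_le (fun b => (Mo_mul_le 𝒜 a b).trans (le_iSup (Mo 𝒜 y) (a + b)))

lemma Z_eq_iSup (hy : ∀ j, y j ∈ 𝒜 (e j)) (htop : (⨆ a, Mo 𝒜 y a) = ⊤) (n : ℕ) :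
    Z 𝒜 n = ⨆ a : {a : κ → ℕ // wt e a = n}, Mo 𝒜 y a.1 := by
  classical
  apply le_antisymm
  · intro x hx
    have hxt : x ∈ ⨆ a, Mo 𝒜 y a := by rw [htop]; trivial
    have key : ∀ z ∈ ⨆ a, Mo 𝒜 y a, (GradedRing.proj 𝒜 n z) ∈
        ⨆ a : {a : κ → ℕ // wt e a = n}, Mo 𝒜 y a.1 := by
      intro z hz
      refine Submodule.iSup_induction (motive := fun z => GradedRing.proj 𝒜 n z ∈
        ⨆ a : {a : κ → ℕ // wt e a = n}, Mo 𝒜 y a.1) _ hz ?_ ?_ ?_
      · intro a z hz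
        have hzmem : z ∈ 𝒜 (wt e a) := Mo_le 𝒜 hy a hz
        by_cases h : wt e a = n
        · have hzn : z ∈ 𝒜 n := h ▸ hzmem
          rw [GradedRing.proj_apply, DirectSum.decompose_of_mem_same 𝒜 hzn]
          exact Submodule.mem_iSup_of_mem ⟨a, h⟩ hz
        · rw [GradedRing.proj_apply, DirectSum.decompose_of_mem_ne 𝒜 hzmem h]
          exact zero_mem _
      · simp
      · intro z w hz hw
        rw [map_add]
        exact add_mem hz hw
    have h2 := key x hxt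
    rwa [GradedRing.proj_apply, DirectSum.decompose_of_mem_same 𝒜 hx] at h2
  · refine iSup_le (fun a => ?_)
    have := Mo_le 𝒜 hy a.1
    rwa [a.2] at this

lemma step (hy : ∀ j, y j ∈ 𝒜 (e j)) (htop : (⨆ a, Mo 𝒜 y a) = ⊤)
    (q : ℕ) (hq : ∀ j, e j ∣ q) (hq0 : 0 < q) (n : ℕ) (hn : Fintype.card κ * q ≤ n) :
    Z 𝒜 (n + q) ≤ Z 𝒜 q * Z 𝒜 n := by
  classical
  rw [Z_eq_iSup 𝒜 hy htop (n + q)]
  refine iSup_le ?_
  rintro ⟨a, ha⟩
  have hex : ∃ j, q / e j ≤ a j := by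
    by_contra hcon
    push Not at hcon
    have h1 : wt e a ≤ Fintype.card κ * q := by
      unfold wt
      calc ∑ j, a j * e j ≤ ∑ _j : κ, q := Finset.sum_le_sum (fun j _ => by
            calc a j * e j ≤ (q / e j) * e j := Nat.mul_le_mul_right _ (hcon j).le
              _ ≤ q := Nat.div_mul_le_self q (e j))
        _ = Fintype.card κ * q := by simp
    omega
  obtain ⟨j, hj⟩ := hex
  have hcq : (q / e j) * e j = q := Nat.div_mul_cancel (hq j)
  let b : κ → ℕ := fun i => if i = j then a j - q / e j else a i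
  have hab : a = b + Pi.single j (q / e j) := by
    funext i
    by_cases hi : i = j
    · subst hi
      show a i = (if i = i then a i - q / e i else a i) +
        (Pi.single i (q / e i) : κ → ℕ) i
      rw [if_pos rfl, Pi.single_eq_same]
      omega
    · show a i = (if i = j then a j - q / e j else a i) +
        (Pi.single j (q / e j) : κ → ℕ) i
      rw [if_neg hi, Pi.single_eq_of_ne hi, add_zero]
  have hwtb : wt e b = n := by
    have h1 := wt_add (e := e) b (Pi.single j (q / e j))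
    rw [← hab, ha, wt_single, hcq] at h1
    omega
  have hmon : mon y a = y j ^ (q / e j) * mon y b := by
    conv_lhs => rw [hab, mon_add, mon_single, mul_comm]
  have hyq : y j ^ (q / e j) ∈ 𝒜 q := by
    have := SetLike.pow_mem_graded (q / e j) (hy j)
    rwa [smul_eq_mul, hcq] at this
  change Mo 𝒜 y a ≤ Z 𝒜 q * Z 𝒜 n
  refine Submodule.mul_le.mpr (fun s hs m hm => ?_)
  obtain ⟨c, rfl⟩ := Submodule.mem_span_singleton.mp hm
  have h2 : s * (c • mon y a) = y j ^ (q / e j) * (s * (c • mon y b)) := by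
    rw [hmon, zsmul_eq_mul, zsmul_eq_mul]
    ring
  rw [h2]
  refine Submodule.mul_mem_mul hyq ?_
  have h3 : c • mon y b ∈ 𝒜 (wt e b) := (𝒜 _).zsmul_mem (mon_mem 𝒜 hy b) c
  have h4 := SetLike.mul_mem_graded (A := 𝒜) (show s ∈ 𝒜 0 from hs) h3
  rw [zero_add, hwtb] at h4
  exact h4

lemma step_iter (hy : ∀ j, y j ∈ 𝒜 (e j)) (htop : (⨆ a, Mo 𝒜 y a) = ⊤)
    (q : ℕ) (hq : ∀ j, e j ∣ q) (hq0 : 0 < q) (n : ℕ) (hn : Fintype.card κ * q ≤ n) (h : ℕ) :
    Z 𝒜 (n + h * q) ≤ Z 𝒜 q ^ h * Z 𝒜 n := by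
  induction h with
  | zero => simp
  | succ h ih =>
    have h1 : n + (h + 1) * q = (n + h * q) + q := by ring
    rw [h1]
    refine (step 𝒜 hy htop q hq hq0 (n + h * q) (le_trans hn (Nat.le_add_right _ _))).trans ?_
    calc Z 𝒜 q * Z 𝒜 (n + h * q) ≤ Z 𝒜 q * (Z 𝒜 q ^ h * Z 𝒜 n) :=
          mul_le_mul' le_rfl ih
      _ = Z 𝒜 q ^ (h + 1) * Z 𝒜 n := by
          rw [pow_succ, mul_assoc, mul_left_comm]

/-- the conclusion for a degree `d` -/
def Good (d : ℕ) : Prop :=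
  (∀ n : ℕ, 0 < n → Z 𝒜 (n * d) = Z 𝒜 d ^ n) ∧
    ∃ T : Finset S, (↑T : Set S) ⊆ (𝒜 d : Set S) ∧ Z 𝒜 d = Z 𝒜 0 * Submodule.span ℤ (↑T : Set S)

theorem good_of (hy : ∀ j, y j ∈ 𝒜 (e j)) (he : ∀ j, 0 < e j) (htop : (⨆ a, Mo 𝒜 y a) = ⊤)
    (q : ℕ) (hq : ∀ j, e j ∣ q) (hq0 : 0 < q) (h : ℕ) (hh : Fintype.card κ ≤ h) (hh0 : 0 < h) :
    Good 𝒜 (h * q) := by
  classical
  have hdge : Fintype.card κ * q ≤ h * q := Nat.mul_le_mul_right q hh
  constructor
  · intro n hn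
    induction n, hn using Nat.le_induction with
    | base => simp
    | succ n hn ih =>
      apply le_antisymm
      · have h1 : (n + 1) * (h * q) = n * (h * q) + h * q := by ring
        rw [h1]
        have hge : Fintype.card κ * q ≤ n * (h * q) := by
          calc Fintype.card κ * q ≤ h * q := hdge
            _ = 1 * (h * q) := by ring
            _ ≤ n * (h * q) := Nat.mul_le_mul_right _ hn
        refine (step_iter 𝒜 hy htop q hq hq0 _ hge h).trans ?_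
        rw [ih, pow_succ, mul_comm]
        exact mul_le_mul' le_rfl (Z_pow_le 𝒜 q h)
      · exact Z_pow_le 𝒜 (h * q) (n + 1)
  · let T : Finset S := (Finset.univ.filter
      (fun a : κ → Fin (h * q + 1) => wt e (fun j => (a j : ℕ)) = h * q)).image
        (fun a => mon y (fun j => (a j : ℕ)))
    have hT : (↑T : Set S) ⊆ (𝒜 (h * q) : Set S) := by
      intro x hx
      simp only [T, Finset.coe_image, Set.mem_image, Finset.coe_filter, Finset.mem_univ, true_and,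
        Set.mem_ofPred_eq] at hx
      obtain ⟨a, ha, rfl⟩ := hx
      have := mon_mem 𝒜 hy (fun j => (a j : ℕ))
      rwa [ha] at this
    refine ⟨T, hT, le_antisymm ?_ ?_⟩
    · rw [Z_eq_iSup 𝒜 hy htop (h * q)]
      refine iSup_le ?_
      rintro ⟨a, ha⟩
      refine mul_le_mul' le_rfl (Submodule.span_mono ?_)
      rw [Set.singleton_subset_iff]
      have hle : ∀ j, a j < h * q + 1 := by
        intro j
        have h1 : a j * e j ≤ wt e a := by
          unfold wt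
          exact Finset.single_le_sum (f := fun j => a j * e j) (fun _ _ => Nat.zero_le _)
            (Finset.mem_univ j)
        have h2 : a j ≤ a j * e j := Nat.le_mul_of_pos_right _ (he j)
        omega
      simp only [T, Finset.coe_image, Set.mem_image, Finset.coe_filter, Finset.mem_univ, true_and,
        Set.mem_ofPred_eq]
      exact ⟨fun j => ⟨a j, hle j⟩, ha, rfl⟩
    · refine Submodule.mul_le.mpr (fun s hs m hm => ?_)
      have hm' : m ∈ Z 𝒜 (h * q) := Submodule.span_le.mpr hT hm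
      have := SetLike.mul_mem_graded (A := 𝒜) (show s ∈ 𝒜 0 from hs) (show m ∈ 𝒜 (h * q) from hm')
      rw [zero_add] at this
      exact this

end Mon

section Top
variable {A S : Type*} [CommRing A] [CommRing S] [Algebra A S] (𝒜 : ℕ → AddSubgroup S)
  [GradedRing 𝒜]

theorem exists_good (hfin : Algebra.FiniteType A S) (h0 : ∀ r, algebraMap A S r ∈ 𝒜 0) :
    ∃ d₀ : ℕ, 0 < d₀ ∧ ∀ m : ℕ, 0 < m → Good 𝒜 (m * d₀) := by
  classical
  obtain ⟨G₀, hG₀⟩ := hfin.out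
  let G : Finset S := G₀.biUnion (fun g =>
    (DFinsupp.support (decompose 𝒜 g)).image (fun i => (decompose 𝒜 g i : S)))
  have hGhom : ∀ g ∈ G, ∃ i, g ∈ 𝒜 i := by
    intro g hg
    simp only [G, Finset.mem_biUnion, Finset.mem_image] at hg
    obtain ⟨g₀, _, i, _, rfl⟩ := hg
    exact ⟨i, (decompose 𝒜 g₀ i).2⟩
  have hGadj : Algebra.adjoin A (↑G : Set S) = ⊤ := by
    rw [eq_top_iff, ← hG₀]
    refine Algebra.adjoin_le ?_
    intro g hg
    rw [← DirectSum.sum_support_decompose 𝒜 g]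
    refine Subalgebra.sum_mem _ (fun i hi => Algebra.subset_adjoin ?_)
    exact Finset.mem_coe.mpr (Finset.mem_biUnion.mpr ⟨g, hg, Finset.mem_image.mpr ⟨i, hi, rfl⟩⟩)
  let Gpos : Finset S := G.filter (fun g => g ∉ 𝒜 0)
  have hex : ∀ j : Gpos, ∃ i, (j : S) ∈ 𝒜 i :=
    fun j => hGhom j (Finset.mem_of_mem_filter _ j.2)
  choose e he using hex
  have hepos : ∀ j, 0 < e j := by
    intro j
    rcases Nat.eq_zero_or_pos (e j) with h | h
    · exfalso
      have h1 := he j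
      rw [h] at h1
      exact (Finset.mem_filter.mp j.2).2 h1
    · exact h
  have htop : (⨆ a, Mo 𝒜 (fun j : Gpos => (j : S)) a) = ⊤ :=
    iSup_Mo_eq_top 𝒜 h0 ↑G hGadj (fun g hg => by
      by_cases h : g ∈ 𝒜 0
      · exact Or.inl h
      · exact Or.inr ⟨⟨g, Finset.mem_filter.mpr ⟨hg, h⟩⟩, rfl⟩)
  have hq : ∀ j, e j ∣ ∏ j, e j := fun j => Finset.dvd_prod_of_mem e (Finset.mem_univ j)
  have hq0 : 0 < ∏ j, e j := Finset.prod_pos (fun j _ => hepos j)
  refine ⟨(Fintype.card Gpos + 1) * ∏ j, e j, Nat.mul_pos (Nat.succ_pos _) hq0, fun m hm => ?_⟩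
  have h1 : m * ((Fintype.card Gpos + 1) * ∏ j, e j) =
      (m * (Fintype.card Gpos + 1)) * ∏ j, e j := by ring
  rw [h1]
  refine good_of 𝒜 he hepos htop _ hq hq0 _ ?_ (Nat.mul_pos hm (Nat.succ_pos _))
  calc Fintype.card Gpos ≤ 1 * (Fintype.card Gpos + 1) := by omega
    _ ≤ m * (Fintype.card Gpos + 1) := Nat.mul_le_mul_right _ hm

end Top

end Groth.Agent.Lib.Helper20.GrVeronese
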