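import Mathlib

/-!
# Homogeneous slices for homogeneous derivations of positively graded algebras
-/

set_option autoImplicit false
universe u v w

namespace Groth.Agent.Lib.Helper20

open DirectSum

section
variable {k : Type u} [CommRing k] {A : Type v} [CommRing A] [Algebra k A]
  {Λ : Type w} [AddCommGroup Λ] [DecidableEq Λ]
  (𝒜 : Λ → Submodule k A) [GradedAlgebra 𝒜]

theorem coe_decompose_mul_zero_of_right_mem {v : Λ} {a n : A} (hn : n ∈ 𝒜 v) :
    (decompose 𝒜 (a * n) 0 : A) = (decompose 𝒜 a (-v) : A) * n := by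
  have := coe_decompose_mul_add_of_right_mem 𝒜 (i := -v) (a := a) hn
  rwa [neg_add_cancel] at this

theorem coe_decompose_mul_zero_eq_zero
    (hpos : ∀ w : Λ, 𝒜 w ≠ ⊥ → 𝒜 (-w) ≠ ⊥ → w = 0)
    {v : Λ} (hv : v ≠ 0) {a n : A} (hn : n ∈ 𝒜 v) :
    (decompose 𝒜 (a * n) 0 : A) = 0 := by
  rw [coe_decompose_mul_zero_of_right_mem 𝒜 hn]
  by_cases h1 : 𝒜 v = ⊥
  · rw [h1] at hn
    rw [(Submodule.mem_bot k).1 hn, mul_zero]
  · by_cases h2 : 𝒜 (-v) = ⊥
    · have : (decompose 𝒜 a (-v) : A) ∈ (⊥ : Submodule k A) := h2 ▸ (decompose 𝒜 a (-v)).2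
      rw [(Submodule.mem_bot k).1 this, zero_mul]
    · exact absurd (hpos v h1 h2) hv

theorem exists_homogeneous_slice
    (hpos : ∀ w : Λ, 𝒜 w ≠ ⊥ → 𝒜 (-w) ≠ ⊥ → w = 0)
    (δ : Derivation k A A)
    (d : Λ) (hhom : ∀ (w : Λ) (a : A), a ∈ 𝒜 w → δ a ∈ 𝒜 (w + d)) (hd : 𝒜 d = ⊥)
    (hfix : ∀ m : Ideal A, m.IsMaximal → (∀ w : Λ, w ≠ 0 → (𝒜 w : Set A) ⊆ m) →
      ¬ (Set.range δ ⊆ m)) :
    ∃ s ∈ 𝒜 (-d), δ s = 1 := by
  classical
  set S : Set A := {x | (∃ w : Λ, w ≠ 0 ∧ x ∈ 𝒜 w) ∨ x ∈ Set.range δ} with hS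
  have hJ : Ideal.span S = ⊤ := by
    by_contra hne
    obtain ⟨m, hm, hJm⟩ := Ideal.exists_le_maximal _ hne
    refine hfix m hm (fun w hw x hx => hJm (Ideal.subset_span (Or.inl ⟨w, hw, hx⟩))) ?_
    rintro x hx
    exact hJm (Ideal.subset_span (Or.inr hx))
  -- the key property
  have key : ∀ x ∈ Ideal.span S, ∀ a : A, ∃ s ∈ 𝒜 (-d), δ s = (decompose 𝒜 (a * x) 0 : A) := by
    intro x hx
    induction hx using Submodule.span_induction with
    | mem x hx =>
      rcases hx with ⟨v, hv, hxv⟩ | ⟨c, rfl⟩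
      · intro a
        exact ⟨0, zero_mem _, by rw [map_zero, coe_decompose_mul_zero_eq_zero 𝒜 hpos hv hxv]⟩
      · -- linear in `c`
        induction c using DirectSum.Decomposition.inductionOn 𝒜 with
        | zero =>
          intro a
          exact ⟨0, zero_mem _, by simp⟩
        | @homogeneous i c =>
          intro a
          have hc : δ (c : A) ∈ 𝒜 (i + d) := hhom i c c.2
          by_cases hid : i + d = 0
          · have hi : i = -d := eq_neg_of_add_eq_zero_left hid
            subst hi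
            refine ⟨(decompose 𝒜 a 0 : A) * c, ?_, ?_⟩
            · have := SetLike.GradedMul.mul_mem (decompose 𝒜 a 0).2 c.2
              rwa [zero_add] at this
            · rw [coe_decompose_mul_zero_of_right_mem 𝒜 hc, hid, neg_zero, Derivation.leibniz]
              have h0 : δ (decompose 𝒜 a 0 : A) = 0 := by
                have := hhom 0 _ (decompose 𝒜 a 0).2
                rw [zero_add, hd] at this
                exact (Submodule.mem_bot k).1 this
              rw [h0, smul_zero, add_zero, smul_eq_mul]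
          · exact ⟨0, zero_mem _, by
              rw [map_zero, coe_decompose_mul_zero_eq_zero 𝒜 hpos hid hc]⟩
        | add c c' hc hc' =>
          intro a
          obtain ⟨s, hs, hs'⟩ := hc a
          obtain ⟨t, ht, ht'⟩ := hc' a
          refine ⟨s + t, add_mem hs ht, ?_⟩
          rw [map_add, map_add, mul_add, decompose_add, hs', ht']
          rfl
    | zero =>
      intro a
      exact ⟨0, zero_mem _, by simp⟩
    | add x y _ _ hx hy =>
      intro a
      obtain ⟨s, hs, hs'⟩ := hx a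
      obtain ⟨t, ht, ht'⟩ := hy a
      refine ⟨s + t, add_mem hs ht, ?_⟩
      rw [map_add, mul_add, decompose_add, hs', ht']
      rfl
    | smul b x _ hx =>
      intro a
      obtain ⟨s, hs, hs'⟩ := hx (a * b)
      exact ⟨s, hs, by rw [hs', smul_eq_mul, mul_assoc]⟩
  obtain ⟨s, hs, hs'⟩ := key 1 (by rw [hJ]; trivial) 1
  refine ⟨s, hs, ?_⟩
  rw [hs', mul_one]
  exact decompose_of_mem_same 𝒜 SetLike.GradedOne.one_mem

end

end Groth.Agent.Lib.Helper20
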