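import Mathlib

set_option autoImplicit false

namespace Groth.Agent.Lib.Helper20.GraphLap

open Matrix Finset

variable {K : Type*} [Field K] {n : ℕ}

/-- edge type of the graph of a matrix -/
abbrev E (M : Matrix (Fin n) (Fin n) K) : Type :=
  {p : Fin n × Fin n // p.1 < p.2 ∧ M p.1 p.2 ≠ 0}

noncomputable instance (M : Matrix (Fin n) (Fin n) K) : Fintype (E M) := Fintype.ofFinite _

variable (M : Matrix (Fin n) (Fin n) K)

/-- incidence matrix -/
noncomputable def Dm : Matrix (E M) (Fin n) K :=
  fun e i => (if e.1.1 = i then 1 else 0) - (if e.1.2 = i then 1 else 0)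

lemma Dm_mulVec (u : Fin n → K) (e : E M) : (Dm M *ᵥ u) e = u e.1.1 - u e.1.2 := by
  simp [Dm, Matrix.mulVec, dotProduct, sub_mul, Finset.sum_sub_distrib]

variable {M}

lemma const_of_Dm_mulVec_eq_zero (hsymm : M.IsSymm)
    (hconn : ∀ I : Finset (Fin n), I.Nonempty → I ≠ univ → ∃ i ∈ I, ∃ j ∉ I, M i j ≠ 0)
    (u : Fin n → K) (hu : Dm M *ᵥ u = 0) (i0 i : Fin n) : u i = u i0 := by
  classical
  by_contra hne
  let I : Finset (Fin n) := univ.filter (fun j => u j = u i0)
  have hI1 : I.Nonempty := ⟨i0, by simp [I]⟩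
  have hI2 : I ≠ univ := by
    intro h
    have : i ∈ I := by rw [h]; exact mem_univ _
    simp only [I, mem_filter, mem_univ, true_and] at this
    exact hne this
  obtain ⟨a, ha, b, hb, hab⟩ := hconn I hI1 hI2
  simp only [I, mem_filter, mem_univ, true_and] at ha hb
  have hne' : a ≠ b := by
    rintro rfl
    exact hb ha
  rcases lt_or_gt_of_ne hne' with h | h
  · have := congrFun hu ⟨(a, b), h, hab⟩
    rw [Dm_mulVec] at this
    simp only [Pi.zero_apply] at this
    apply hb
    rw [← ha]
    exact (sub_eq_zero.1 this).symm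
  · have hba : M b a ≠ 0 := by rwa [hsymm.apply]
    have := congrFun hu ⟨(b, a), h, hba⟩
    rw [Dm_mulVec] at this
    simp only [Pi.zero_apply] at this
    apply hb
    rw [← ha]
    exact sub_eq_zero.1 this

lemma finrank_ker_Dm_le (hsymm : M.IsSymm)
    (hconn : ∀ I : Finset (Fin n), I.Nonempty → I ≠ univ → ∃ i ∈ I, ∃ j ∉ I, M i j ≠ 0) :
    Module.finrank K (LinearMap.ker (Dm M).mulVecLin) ≤ 1 := by
  have hle : LinearMap.ker (Dm M).mulVecLin ≤ Submodule.span K {(fun _ => 1 : Fin n → K)} := by
    intro u hu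
    rw [LinearMap.mem_ker, Matrix.mulVecLin_apply] at hu
    rcases isEmpty_or_nonempty (Fin n) with hn | ⟨⟨i0⟩⟩
    · have : u = 0 := Subsingleton.elim _ _
      rw [this]; exact Submodule.zero_mem _
    · rw [Submodule.mem_span_singleton]
      refine ⟨u i0, ?_⟩
      ext i
      simp [const_of_Dm_mulVec_eq_zero hsymm hconn u hu i0 i]
  calc Module.finrank K (LinearMap.ker (Dm M).mulVecLin)
      ≤ Module.finrank K (Submodule.span K {(fun _ => 1 : Fin n → K)}) :=
        Submodule.finrank_mono hle
    _ ≤ 1 := by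
        have := finrank_span_le_card (R := K) ({(fun _ => 1 : Fin n → K)} : Set (Fin n → K))
        simpa using this

lemma finrank_ker_transpose_le (hsymm : M.IsSymm)
    (hconn : ∀ I : Finset (Fin n), I.Nonempty → I ≠ univ → ∃ i ∈ I, ∃ j ∉ I, M i j ≠ 0) :
    Module.finrank K (LinearMap.ker (Dm M)ᵀ.mulVecLin) + n ≤ Fintype.card (E M) + 1 := by
  have h1 := LinearMap.finrank_range_add_finrank_ker (Dm M)ᵀ.mulVecLin
  have h2 := LinearMap.finrank_range_add_finrank_ker (Dm M).mulVecLin
  have h3 : Module.finrank K (LinearMap.range (Dm M)ᵀ.mulVecLin) =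
      Module.finrank K (LinearMap.range (Dm M).mulVecLin) := Matrix.rank_transpose (Dm M)
  have h4 := finrank_ker_Dm_le hsymm hconn
  rw [Module.finrank_fintype_fun_eq_card] at h1 h2
  rw [Fintype.card_fin] at h2
  omega

variable (M) (m : Fin n → K)

/-- `G a b = m a * M a b * m b * (x a / m a - x b / m b)` -/
noncomputable def G (x : Fin n → K) (a b : Fin n) : K :=
  m a * M a b * m b * (x a / m a - x b / m b)

lemma G_self (x : Fin n → K) (a : Fin n) : G M m x a a = 0 := by simp [G]

variable {M}

lemma G_antisymm (hsymm : M.IsSymm) (x : Fin n → K) (a b : Fin n) :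
    G M m x b a = - G M m x a b := by
  simp only [G, hsymm.apply a b]; ring

lemma G_eq_zero (x : Fin n → K) {a b : Fin n} (h : M a b = 0) : G M m x a b = 0 := by
  simp [G, h]

lemma G_eq (hm : ∀ i, m i ≠ 0) (x : Fin n → K) (a b : Fin n) :
    G M m x a b = x a * (M a b * m b) - m a * (M a b * x b) := by
  have h1 := hm a
  have h2 := hm b
  simp only [G]
  field_simp

variable (M)

/-- the map `x ↦ (G x e.1 e.2)_e` -/
noncomputable def Psi : (Fin n → K) →ₗ[K] (E M → K) where
  toFun x e := G M m x e.1.1 e.1.2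
  map_add' := by intro x y; ext e; simp only [G, Pi.add_apply]; ring
  map_smul' := by intro c x; ext e; simp only [G, Pi.smul_apply, smul_eq_mul, RingHom.id_apply]; ring

variable {M}

lemma sum1 (i : Fin n) (f : Fin n → Fin n → K) :
    ∑ a, ∑ b, (if a < b then (if a = i then 1 else 0) * f a b else 0) =
      ∑ b, if i < b then f i b else 0 := by
  rw [Finset.sum_eq_single i]
  · simp
  · intro a _ ha; simp [ha]
  · simp

lemma sum2 (i : Fin n) (f : Fin n → Fin n → K) :
    ∑ a, ∑ b, (if a < b then (if b = i then 1 else 0) * f a b else 0) =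
      ∑ a, if a < i then f a i else 0 := by
  refine Finset.sum_congr rfl fun a _ => ?_
  rw [Finset.sum_eq_single i]
  · simp
  · intro b _ hb; simp [hb]
  · simp

lemma transpose_mulVec_Psi (hsymm : M.IsSymm) (hm : ∀ i, m i ≠ 0) (hMm : M *ᵥ m = 0)
    (x : Fin n → K) (hx : M *ᵥ x = 0) : (Dm M)ᵀ *ᵥ (Psi M m x) = 0 := by
  classical
  ext i
  simp only [Matrix.mulVec, dotProduct, Matrix.transpose_apply, Pi.zero_apply]
  let F : Fin n × Fin n → K := fun p =>
    ((if p.1 = i then 1 else 0) - (if p.2 = i then 1 else 0)) * G M m x p.1 p.2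
  have e1 : ∑ e : E M, Dm M e i * Psi M m x e = ∑ e : E M, F e.1 := rfl
  rw [e1]
  have e2 : ∑ e : E M, F e.1 =
      ∑ p ∈ univ.filter (fun p : Fin n × Fin n => p.1 < p.2 ∧ M p.1 p.2 ≠ 0), F p :=
    (Finset.sum_subtype _ (by simp) F).symm
  rw [e2, Finset.sum_filter]
  have e3 : ∀ p : Fin n × Fin n, (if p.1 < p.2 ∧ M p.1 p.2 ≠ 0 then F p else 0) =
      if p.1 < p.2 then F p else 0 := by
    intro p
    by_cases h1 : p.1 < p.2
    · by_cases h2 : M p.1 p.2 = 0
      · simp [h1, h2, F, G_eq_zero m x h2]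
      · simp [h1, h2]
    · simp [h1]
  rw [Finset.sum_congr rfl (fun p _ => e3 p), Fintype.sum_prod_type]
  have e4 : ∀ a b : Fin n, (if a < b then F (a, b) else 0) =
      (if a < b then (if a = i then 1 else 0) * G M m x a b else 0) -
      (if a < b then (if b = i then 1 else 0) * G M m x a b else 0) := by
    intro a b
    by_cases h : a < b
    · simp only [h, if_true, F]; ring
    · simp [h]
  simp only [e4, Finset.sum_sub_distrib, sum1, sum2]
  rw [← Finset.sum_sub_distrib]
  have e5 : ∀ j : Fin n, ((if i < j then G M m x i j else 0) -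
      (if j < i then G M m x j i else 0)) = G M m x i j := by
    intro j
    rcases lt_trichotomy i j with h | h | h
    · simp [h, not_lt_of_gt h]
    · subst h; simp [G_self]
    · simp [h, not_lt_of_gt h, G_antisymm m hsymm x i j]
  rw [Finset.sum_congr rfl (fun j _ => e5 j)]
  simp only [G_eq m hm, Finset.sum_sub_distrib, ← Finset.mul_sum]
  have h1 : ∑ j, M i j * m j = 0 := by
    have := congrFun hMm i
    simpa [Matrix.mulVec, dotProduct] using this
  have h2 : ∑ j, M i j * x j = 0 := by
    have := congrFun hx i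
    simpa [Matrix.mulVec, dotProduct] using this
  rw [h1, h2]; ring

lemma finrank_comap_le {V W : Type*} [AddCommGroup V] [Module K V] [FiniteDimensional K V]
    [AddCommGroup W] [Module K W] [FiniteDimensional K W] (f : V →ₗ[K] W) (p : Submodule K W) :
    Module.finrank K (p.comap f) ≤ Module.finrank K p + Module.finrank K (LinearMap.ker f) := by
  let f' : p.comap f →ₗ[K] p := f.restrict (fun x hx => hx)
  have h := LinearMap.finrank_range_add_finrank_ker f'
  have hk : Module.finrank K (LinearMap.ker f') ≤ Module.finrank K (LinearMap.ker f) := by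
    let g : LinearMap.ker f' →ₗ[K] LinearMap.ker f :=
      LinearMap.codRestrict _ ((p.comap f).subtype.comp (LinearMap.ker f').subtype) (by
        intro x
        have hx : f' x.1 = 0 := x.2
        have : (f' x.1 : W) = 0 := by rw [hx]; rfl
        exact this)
    refine LinearMap.finrank_le_finrank_of_injective (f := g) ?_
    intro x y hxy
    have : (g x : V) = (g y : V) := by rw [hxy]
    exact Subtype.ext (Subtype.ext this)
  have hr : Module.finrank K (LinearMap.range f') ≤ Module.finrank K p := Submodule.finrank_le _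
  omega

lemma ker_Psi_le (hsymm : M.IsSymm) (hm : ∀ i, m i ≠ 0)
    (hconn : ∀ I : Finset (Fin n), I.Nonempty → I ≠ univ → ∃ i ∈ I, ∃ j ∉ I, M i j ≠ 0) :
    LinearMap.ker (Psi M m) ≤ Submodule.span K {m} := by
  intro x hx
  rw [LinearMap.mem_ker] at hx
  have hu : Dm M *ᵥ (fun i => x i / m i) = 0 := by
    ext e
    rw [Dm_mulVec]
    have he := congrFun hx e
    simp only [Psi, G, LinearMap.coe_mk, AddHom.coe_mk, Pi.zero_apply] at he
    have h1 : m e.1.1 * M e.1.1 e.1.2 * m e.1.2 ≠ 0 :=
      mul_ne_zero (mul_ne_zero (hm _) e.2.2) (hm _)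
    simpa using (mul_eq_zero.1 he).resolve_left h1
  rcases isEmpty_or_nonempty (Fin n) with hn | ⟨⟨i0⟩⟩
  · have : x = 0 := Subsingleton.elim _ _
    rw [this]; exact Submodule.zero_mem _
  · rw [Submodule.mem_span_singleton]
    refine ⟨x i0 / m i0, ?_⟩
    ext i
    have := const_of_Dm_mulVec_eq_zero hsymm hconn _ hu i0 i
    simp only [Pi.smul_apply, smul_eq_mul]
    rw [← this]
    field_simp [hm i]

theorem finrank_ker_le (hsymm : M.IsSymm) (hm : ∀ i, m i ≠ 0) (hMm : M *ᵥ m = 0)
    (hconn : ∀ I : Finset (Fin n), I.Nonempty → I ≠ univ → ∃ i ∈ I, ∃ j ∉ I, M i j ≠ 0) :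
    Module.finrank K (LinearMap.ker M.mulVecLin) + n ≤ Fintype.card (E M) + 2 := by
  have h1 : LinearMap.ker M.mulVecLin ≤
      (LinearMap.ker (Dm M)ᵀ.mulVecLin).comap (Psi M m) := by
    intro x hx
    rw [LinearMap.mem_ker, Matrix.mulVecLin_apply] at hx
    rw [Submodule.mem_comap, LinearMap.mem_ker, Matrix.mulVecLin_apply]
    exact transpose_mulVec_Psi m hsymm hm hMm x hx
  have h2 := Submodule.finrank_mono h1
  have h3 := finrank_comap_le (Psi M m) (LinearMap.ker (Dm M)ᵀ.mulVecLin)
  have h4 : Module.finrank K (LinearMap.ker (Psi M m)) ≤ 1 := by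
    calc Module.finrank K (LinearMap.ker (Psi M m))
        ≤ Module.finrank K (Submodule.span K {m}) :=
          Submodule.finrank_mono (ker_Psi_le m hsymm hm hconn)
      _ ≤ 1 := by
          have := finrank_span_le_card (R := K) ({m} : Set (Fin n → K))
          simpa using this
  have h5 := finrank_ker_transpose_le hsymm hconn
  omega

end Groth.Agent.Lib.Helper20.GraphLap
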