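import Mathlib
import Groth.Agent.Lib.Helper20.GraphLap1

set_option autoImplicit false

namespace Groth.Agent.Lib.Helper20.GraphLap

open Matrix Finset

variable {n : ℕ} {ℓ : ℕ} [Fact ℓ.Prime]

/-- reduction mod `ℓ` of an integer matrix -/
abbrev red (ℓ : ℕ) (A : Matrix (Fin n) (Fin n) ℤ) : Matrix (Fin n) (Fin n) (ZMod ℓ) :=
  A.map (Int.castRingHom (ZMod ℓ))

/-- reduction mod `ℓ` of an integer vector -/
abbrev redv (ℓ : ℕ) (y : Fin n → ℤ) : Fin n → ZMod ℓ := (Int.castRingHom (ZMod ℓ)) ∘ y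

omit [Fact ℓ.Prime] in
lemma red_mulVec (A : Matrix (Fin n) (Fin n) ℤ) (y : Fin n → ℤ) :
    red ℓ A *ᵥ redv ℓ y = redv ℓ (A *ᵥ y) := by
  ext i
  exact (RingHom.map_mulVec (Int.castRingHom (ZMod ℓ)) A y i).symm

lemma redv_eq_zero_iff (y : Fin n → ℤ) :
    redv ℓ y = 0 ↔ ∃ z : Fin n → ℤ, y = (ℓ : ℤ) • z := by
  constructor
  · intro h
    have h1 : ∀ i, ∃ c, y i = (ℓ : ℤ) * c := by
      intro i
      have := congrFun h i
      simp only [redv, Function.comp_apply, Pi.zero_apply, eq_intCast] at this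
      exact (ZMod.intCast_zmod_eq_zero_iff_dvd (y i) ℓ).1 this
    choose z hz using h1
    exact ⟨z, by ext i; simp [hz i]⟩
  · rintro ⟨z, rfl⟩
    ext i
    simp [redv]

lemma redv_mem_ker (A : Matrix (Fin n) (Fin n) ℤ) (y x : Fin n → ℤ)
    (h : A *ᵥ y = (ℓ : ℤ) • x) : redv ℓ y ∈ LinearMap.ker (red ℓ A).mulVecLin := by
  rw [LinearMap.mem_ker, Matrix.mulVecLin_apply, red_mulVec, h]
  exact (redv_eq_zero_iff _).2 ⟨x, rfl⟩

theorem card_torsion_le (A : Matrix (Fin n) (Fin n) ℤ) (m : Fin n → ℤ) (hAm : A *ᵥ m = 0) :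
    Nat.card (Submodule.torsionBy ℤ ((Fin n → ℤ) ⧸ LinearMap.range (Matrix.mulVecLin A)) (ℓ : ℤ))
      ≤ Nat.card (LinearMap.ker (red ℓ A).mulVecLin ⧸
          Submodule.span (ZMod ℓ) {(⟨redv ℓ m, redv_mem_ker A m 0 (by rw [hAm, smul_zero])⟩ :
            LinearMap.ker (red ℓ A).mulVecLin)}) := by
  have hℓ0 : (ℓ : ℤ) ≠ 0 := by exact_mod_cast (Fact.out : ℓ.Prime).ne_zero
  have hex : ∀ c : Submodule.torsionBy ℤ
      ((Fin n → ℤ) ⧸ LinearMap.range (Matrix.mulVecLin A)) (ℓ : ℤ),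
      ∃ x y : Fin n → ℤ, Submodule.Quotient.mk x = c.1 ∧ A *ᵥ y = (ℓ : ℤ) • x := by
    intro c
    obtain ⟨x, hx⟩ := Submodule.Quotient.mk_surjective _ c.1
    have hc : (ℓ : ℤ) • c.1 = 0 := (Submodule.mem_torsionBy_iff _ _).1 c.2
    rw [← hx, ← Submodule.Quotient.mk_smul, Submodule.Quotient.mk_eq_zero] at hc
    obtain ⟨y, hy⟩ := hc
    exact ⟨x, y, hx, hy⟩
  choose xf yf hx hy using hex
  let f : Submodule.torsionBy ℤ ((Fin n → ℤ) ⧸ LinearMap.range (Matrix.mulVecLin A)) (ℓ : ℤ) →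
      (LinearMap.ker (red ℓ A).mulVecLin ⧸
          Submodule.span (ZMod ℓ) {(⟨redv ℓ m, redv_mem_ker A m 0 (by rw [hAm, smul_zero])⟩ :
            LinearMap.ker (red ℓ A).mulVecLin)}) :=
    fun c => Submodule.Quotient.mk ⟨redv ℓ (yf c), redv_mem_ker A (yf c) (xf c) (hy c)⟩
  have hf : Function.Injective f := by
    intro c c' hcc
    simp only [f] at hcc
    rw [Submodule.Quotient.eq, Submodule.mem_span_singleton] at hcc
    obtain ⟨t, ht⟩ := hcc
    obtain ⟨s, rfl⟩ := ZMod.intCast_surjective t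
    have ht' : redv ℓ (yf c - yf c' - s • m) = 0 := by
      have h1 := congrArg Subtype.val ht
      simp only [Submodule.coe_smul, Submodule.coe_sub] at h1
      ext i
      have h2 := congrFun h1 i
      simp only [redv, Pi.smul_apply, Function.comp_apply, smul_eq_mul, Pi.sub_apply, eq_intCast]
        at h2
      simp only [redv, Function.comp_apply, Pi.sub_apply, Pi.smul_apply, smul_eq_mul, eq_intCast,
        Int.cast_sub, Int.cast_mul, Pi.zero_apply]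
      rw [h2]; ring
    obtain ⟨z, hz⟩ := (redv_eq_zero_iff _).1 ht'
    have e1 : A *ᵥ (yf c - yf c' - s • m) = (ℓ : ℤ) • (xf c - xf c') := by
      rw [Matrix.mulVec_sub, Matrix.mulVec_sub, Matrix.mulVec_smul, hAm, smul_zero, sub_zero,
        hy, hy, smul_sub]
    rw [hz, Matrix.mulVec_smul] at e1
    have e2 : A *ᵥ z = xf c - xf c' := by
      ext i
      have := congrFun e1 i
      simp only [Pi.smul_apply, smul_eq_mul] at this
      exact mul_left_cancel₀ hℓ0 this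
    apply Subtype.ext
    rw [← hx c, ← hx c', Submodule.Quotient.eq]
    exact ⟨z, e2⟩
  have : NeZero ℓ := ⟨(Fact.out : ℓ.Prime).ne_zero⟩
  have : Finite (LinearMap.ker (red ℓ A).mulVecLin ⧸
      Submodule.span (ZMod ℓ) {(⟨redv ℓ m, redv_mem_ker A m 0 (by rw [hAm, smul_zero])⟩ :
        LinearMap.ker (red ℓ A).mulVecLin)}) := Quotient.finite _
  exact Nat.card_le_card_of_injective f hf

theorem main {n : ℕ} (A : Matrix (Fin n) (Fin n) ℤ)
    (m : Fin n → ℤ) (hsymm : A.IsSymm) (hA : ∀ i j, i ≠ j → 0 ≤ A i j)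
    (hAm : A.mulVec m = 0)
    (hconn : ∀ I : Finset (Fin n), I.Nonempty → I ≠ univ → ∃ i ∈ I, ∃ j ∉ I, A i j ≠ 0)
    (ℓ : ℕ) (hℓ : ℓ.Prime) (hℓA : ∀ i j, A i j ≠ 0 → ¬ ((ℓ : ℤ) ∣ A i j))
    (hℓm : ∀ i, ¬ ((ℓ : ℤ) ∣ m i)) :
    Nat.card (Submodule.torsionBy ℤ ((Fin n → ℤ) ⧸ LinearMap.range (Matrix.mulVecLin A)) (ℓ : ℤ))
      ≤ ℓ ^ ((univ.filter fun p : Fin n × Fin n => p.1 < p.2 ∧ 0 < A p.1 p.2).card + 1 - n) := by
  classical
  have : Fact ℓ.Prime := ⟨hℓ⟩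
  have : NeZero ℓ := ⟨hℓ.ne_zero⟩
  rcases Nat.eq_zero_or_pos n with hn | hn
  · subst hn
    have : Subsingleton (Submodule.torsionBy ℤ
        ((Fin 0 → ℤ) ⧸ LinearMap.range (Matrix.mulVecLin A)) (ℓ : ℤ)) := by
      constructor
      intro a b
      apply Subtype.ext
      obtain ⟨x, hx⟩ := Submodule.Quotient.mk_surjective _ a.1
      obtain ⟨y, hy⟩ := Submodule.Quotient.mk_surjective _ b.1
      rw [← hx, ← hy, Subsingleton.elim x y]
    rw [Nat.card_of_subsingleton (0 : Submodule.torsionBy ℤ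
        ((Fin 0 → ℤ) ⧸ LinearMap.range (Matrix.mulVecLin A)) (ℓ : ℤ))]
    exact Nat.one_le_pow _ _ hℓ.pos
  -- facts about the reduction
  have hne : ∀ i j, A i j ≠ 0 → red ℓ A i j ≠ 0 := by
    intro i j h
    simp only [red, Matrix.map_apply, eq_intCast]
    exact fun h0 => hℓA i j h ((ZMod.intCast_zmod_eq_zero_iff_dvd _ _).1 h0)
  have hsymm' : (red ℓ A).IsSymm := hsymm.map _
  have hm' : ∀ i, redv ℓ m i ≠ 0 := by
    intro i
    simp only [redv, Function.comp_apply, eq_intCast]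
    exact fun h0 => hℓm i ((ZMod.intCast_zmod_eq_zero_iff_dvd _ _).1 h0)
  have hAm' : red ℓ A *ᵥ redv ℓ m = 0 := by
    rw [red_mulVec, hAm]; ext i; simp [redv]
  have hconn' : ∀ I : Finset (Fin n), I.Nonempty → I ≠ univ →
      ∃ i ∈ I, ∃ j ∉ I, red ℓ A i j ≠ 0 := by
    intro I h1 h2
    obtain ⟨i, hi, j, hj, hij⟩ := hconn I h1 h2
    exact ⟨i, hi, j, hj, hne i j hij⟩
  have hdim := finrank_ker_le (redv ℓ m) hsymm' hm' hAm' hconn'
  have hcardE : Fintype.card (E (red ℓ A)) =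
      (univ.filter fun p : Fin n × Fin n => p.1 < p.2 ∧ 0 < A p.1 p.2).card := by
    rw [Fintype.card_subtype]
    congr 1
    ext p
    simp only [mem_filter, mem_univ, true_and]
    constructor
    · rintro ⟨h1, h2⟩
      refine ⟨h1, lt_of_le_of_ne (hA _ _ (ne_of_lt h1)) ?_⟩
      intro h0
      apply h2
      simp [red, ← h0]
    · rintro ⟨h1, h2⟩
      exact ⟨h1, hne _ _ (ne_of_gt h2)⟩
  rw [hcardE] at hdim
  refine (card_torsion_le A m hAm).trans ?_
  rw [Module.natCard_eq_pow_finrank (K := ZMod ℓ), Nat.card_zmod]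
  apply Nat.pow_le_pow_right hℓ.pos
  have h1 := Submodule.finrank_quotient_add_finrank
    (Submodule.span (ZMod ℓ) {(⟨redv ℓ m, redv_mem_ker A m 0 (by rw [hAm, smul_zero])⟩ :
      LinearMap.ker (red ℓ A).mulVecLin)})
  have h2 : Module.finrank (ZMod ℓ) (Submodule.span (ZMod ℓ)
      {(⟨redv ℓ m, redv_mem_ker A m 0 (by rw [hAm, smul_zero])⟩ :
        LinearMap.ker (red ℓ A).mulVecLin)}) = 1 := by
    apply finrank_span_singleton
    intro h0
    have := congrArg Subtype.val h0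
    simp only [ZeroMemClass.coe_zero] at this
    exact hm' ⟨0, hn⟩ (congrFun this ⟨0, hn⟩)
  omega

end Groth.Agent.Lib.Helper20.GraphLap
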