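import Mathlib

/-!
# Idempotents, local quotients and unit components (commutative algebra for finite group schemes)
-/

set_option autoImplicit false

namespace Groth.Agent.Lib.Helper20.IdemLocal

/-- an idempotent of a local ring is `0` or `1` -/
theorem idem_local {A : Type*} [CommRing A] [IsLocalRing A] {e : A} (he : IsIdempotentElem e) :
    e = 0 ∨ e = 1 := by
  have h0 : e * (1 - e) = 0 := by rw [mul_sub, mul_one, he.eq, sub_self]
  rcases IsLocalRing.isUnit_or_isUnit_one_sub_self e with h | h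
  · right
    have : 1 - e = 0 := by
      have := congrArg (fun x => h.unit⁻¹.1 * x) h0
      simpa [← mul_assoc] using this
    exact (sub_eq_zero.mp this).symm
  · left
    have := congrArg (fun x => x * h.unit⁻¹.1) h0
    simpa [mul_assoc] using this

/-- the quotient by `J ⊔ (1 - e)` of a ring whose quotient by `(1 - e)` is local, is local as soon
as it is nontrivial -/
theorem isLocalRing_quot_sup {A : Type*} [CommRing A] (J : Ideal A) (e : A)
    [IsLocalRing (A ⧸ Ideal.span ({1 - e} : Set A))] (hne : J ⊔ Ideal.span ({1 - e} : Set A) ≠ ⊤) :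
    IsLocalRing (A ⧸ (J ⊔ Ideal.span ({1 - e} : Set A))) := by
  have : Nontrivial (A ⧸ (J ⊔ Ideal.span ({1 - e} : Set A))) := Ideal.Quotient.nontrivial_iff.mpr hne
  exact IsLocalRing.of_surjective' (Ideal.Quotient.factor (le_sup_right : _ ≤ J ⊔ _))
    (Ideal.Quotient.factor_surjective _)

/-- uniqueness of the idempotent cutting out the local component through a given point -/
theorem idem_unique {A R : Type*} [CommRing A] [CommRing R] [Nontrivial R] (J : Ideal A) (ε : A →+* R)
    (hJ : J ≤ RingHom.ker ε) (e e' : A)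
    (he : IsIdempotentElem (Ideal.Quotient.mk J e)) (he' : IsIdempotentElem (Ideal.Quotient.mk J e'))
    (hε : ε e = 1) (hε' : ε e' = 1)
    [IsLocalRing (A ⧸ (J ⊔ Ideal.span ({1 - e} : Set A)))]
    [IsLocalRing (A ⧸ (J ⊔ Ideal.span ({1 - e'} : Set A)))] :
    Ideal.Quotient.mk J e = Ideal.Quotient.mk J e' := by
  -- general step: `1 - x ∈ J ⊔ (1 - y)`
  have step : ∀ (x y : A), IsIdempotentElem (Ideal.Quotient.mk J x) → ε x = 1 → ε y = 1 →
      IsLocalRing (A ⧸ (J ⊔ Ideal.span ({1 - y} : Set A))) →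
      ∃ c : A, Ideal.Quotient.mk J (1 - x) = Ideal.Quotient.mk J c * Ideal.Quotient.mk J (1 - y) := by
    intro x y hx hεx hεy hloc
    have hK : J ⊔ Ideal.span ({1 - y} : Set A) ≤ RingHom.ker ε := by
      refine sup_le hJ ?_
      rw [Ideal.span_le, Set.singleton_subset_iff]
      change ε (1 - y) = 0
      rw [map_sub, map_one, hεy, sub_self]
    have hidem : IsIdempotentElem (Ideal.Quotient.mk (J ⊔ Ideal.span ({1 - y} : Set A)) x) := by
      have h1 : Ideal.Quotient.mk (J ⊔ Ideal.span ({1 - y} : Set A)) x =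
          Ideal.Quotient.factor (le_sup_left : J ≤ J ⊔ _) (Ideal.Quotient.mk J x) := rfl
      rw [h1]
      exact hx.map _
    rcases idem_local hidem with h0 | h1
    · exfalso
      have hx0 : x ∈ J ⊔ Ideal.span ({1 - y} : Set A) := Ideal.Quotient.eq_zero_iff_mem.mp h0
      have := hK hx0
      rw [RingHom.mem_ker, hεx] at this
      exact one_ne_zero this
    · have hmem : 1 - x ∈ J ⊔ Ideal.span ({1 - y} : Set A) := by
        rw [← Ideal.Quotient.eq_zero_iff_mem, map_sub, map_one, h1, sub_self]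
      obtain ⟨j, hj, z, hz, hjz⟩ := Submodule.mem_sup.mp hmem
      obtain ⟨c, rfl⟩ := Ideal.mem_span_singleton'.mp hz
      refine ⟨c, ?_⟩
      rw [← map_mul, ← hjz, map_add, Ideal.Quotient.eq_zero_iff_mem.mpr hj, zero_add]
  obtain ⟨c, hc⟩ := step e e' he hε hε' inferInstance
  obtain ⟨d, hd⟩ := step e' e he' hε' hε inferInstance
  have hi : IsIdempotentElem (Ideal.Quotient.mk J (1 - e)) := by
    rw [map_sub, map_one]; exact he.one_sub
  have hi' : IsIdempotentElem (Ideal.Quotient.mk J (1 - e')) := by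
    rw [map_sub, map_one]; exact he'.one_sub
  have h1 : Ideal.Quotient.mk J (1 - e) * Ideal.Quotient.mk J (1 - e') =
      Ideal.Quotient.mk J (1 - e) := by
    rw [hc, mul_assoc, hi'.eq]
  have h2 : Ideal.Quotient.mk J (1 - e') * Ideal.Quotient.mk J (1 - e) =
      Ideal.Quotient.mk J (1 - e') := by
    rw [hd, mul_assoc, hi.eq]
  have h3 : Ideal.Quotient.mk J (1 - e) = Ideal.Quotient.mk J (1 - e') := by
    rw [← h1, mul_comm, h2]
  rw [map_sub, map_sub, map_one] at h3
  exact sub_right_injective h3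

/-- restriction to unit components of a flat integral map is faithfully flat -/
theorem faithfullyFlat_components {S T : Type*} [CommRing S] [CommRing T] [Algebra S T]
    [Module.Flat S T] [Algebra.IsIntegral S T] (e'' : S) (e : T)
    (he'' : IsIdempotentElem e'') (he : IsIdempotentElem e)
    [IsLocalRing (S ⧸ Ideal.span ({1 - e''} : Set S))] [IsLocalRing (T ⧸ Ideal.span ({1 - e} : Set T))]
    (g : (S ⧸ Ideal.span ({1 - e''} : Set S)) →+* (T ⧸ Ideal.span ({1 - e} : Set T)))
    (hg : g.comp (Ideal.Quotient.mk (Ideal.span ({1 - e''} : Set S))) =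
      (Ideal.Quotient.mk (Ideal.span ({1 - e} : Set T))).comp (algebraMap S T)) :
    g.FaithfullyFlat := by
  letI : Algebra (S ⧸ Ideal.span ({1 - e''} : Set S)) (T ⧸ Ideal.span ({1 - e} : Set T)) := g.toAlgebra
  change Module.FaithfullyFlat (S ⧸ Ideal.span ({1 - e''} : Set S)) (T ⧸ Ideal.span ({1 - e} : Set T))
  have htower : IsScalarTower S (S ⧸ Ideal.span ({1 - e''} : Set S)) (T ⧸ Ideal.span ({1 - e} : Set T)) :=
    IsScalarTower.of_algebraMap_eq' (by
      rw [IsScalarTower.algebraMap_eq S T (T ⧸ Ideal.span ({1 - e} : Set T))]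
      exact hg.symm)
  have hlocT : IsLocalization.Away e (T ⧸ Ideal.span ({1 - e} : Set T)) :=
    IsLocalization.Away.quotient_of_isIdempotentElem he
  have hlocS : IsLocalization.Away e'' (S ⧸ Ideal.span ({1 - e''} : Set S)) :=
    IsLocalization.Away.quotient_of_isIdempotentElem he''
  have hflatT : Module.Flat T (T ⧸ Ideal.span ({1 - e} : Set T)) :=
    IsLocalization.flat _ (Submonoid.powers e)
  have hflatS : Module.Flat S (T ⧸ Ideal.span ({1 - e} : Set T)) := Module.Flat.trans S T _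
  have hflat : Module.Flat (S ⧸ Ideal.span ({1 - e''} : Set S)) (T ⧸ Ideal.span ({1 - e} : Set T)) :=
    (Module.flat_iff_of_isLocalization (S ⧸ Ideal.span ({1 - e''} : Set S))
      (Submonoid.powers e'') (T ⧸ Ideal.span ({1 - e} : Set T))).mpr hflatS
  have hintT : Algebra.IsIntegral S (T ⧸ Ideal.span ({1 - e} : Set T)) :=
    Algebra.IsIntegral.of_surjective (IsScalarTower.toAlgHom S T _) Ideal.Quotient.mk_surjective
  have hint : Algebra.IsIntegral (S ⧸ Ideal.span ({1 - e''} : Set S)) (T ⧸ Ideal.span ({1 - e} : Set T)) :=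
    Algebra.IsIntegral.tower_top S
  have hloc : IsLocalHom (algebraMap (S ⧸ Ideal.span ({1 - e''} : Set S))
      (T ⧸ Ideal.span ({1 - e} : Set T))) := by
    constructor
    intro a ha
    by_contra hna
    have hmax : ((IsLocalRing.maximalIdeal (T ⧸ Ideal.span ({1 - e} : Set T))).comap
        (algebraMap (S ⧸ Ideal.span ({1 - e''} : Set S)) (T ⧸ Ideal.span ({1 - e} : Set T)))).IsMaximal :=
      Ideal.isMaximal_comap_of_isIntegral_of_isMaximal _
    have h1 := IsLocalRing.eq_maximalIdeal hmax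
    have h2 : a ∈ IsLocalRing.maximalIdeal (S ⧸ Ideal.span ({1 - e''} : Set S)) :=
      (IsLocalRing.mem_maximalIdeal a).mpr hna
    rw [← h1, Ideal.mem_comap, IsLocalRing.mem_maximalIdeal] at h2
    exact h2 ha
  exact Module.FaithfullyFlat.of_flat_of_isLocalHom

open TensorProduct in
/-- tensor product of two augmented integral local algebras over a local ring is local -/
theorem isLocalRing_tensor {R A₁ A₂ : Type*} [CommRing R] [CommRing A₁] [CommRing A₂]
    [Algebra R A₁] [Algebra R A₂] [IsLocalRing R] [IsLocalRing A₁] [IsLocalRing A₂]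
    [Algebra.IsIntegral R A₁] [Algebra.IsIntegral R A₂]
    (ε₁ : A₁ →ₐ[R] R) (ε₂ : A₂ →ₐ[R] R) : IsLocalRing (A₁ ⊗[R] A₂) := by
  let s : A₁ ⊗[R] A₂ →ₐ[R] R := Algebra.TensorProduct.lift ε₁ ε₂ (fun _ _ => Commute.all _ _)
  have hs : ∀ a b, s (a ⊗ₜ b) = ε₁ a * ε₂ b := fun a b => Algebra.TensorProduct.lift_tmul _ _ _ a b
  have hT : Algebra.IsIntegral R (A₁ ⊗[R] A₂) := Algebra.IsIntegral.trans A₁
  have hnt : Nontrivial (A₁ ⊗[R] A₂) := (s : A₁ ⊗[R] A₂ →+* R).domain_nontrivial
  have hssurj : Function.Surjective s := fun r => ⟨algebraMap R _ r, s.commutes r⟩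
  set M₀ : Ideal (A₁ ⊗[R] A₂) := (IsLocalRing.maximalIdeal R).comap (s : A₁ ⊗[R] A₂ →+* R) with hM₀
  have hM₀max : M₀.IsMaximal := Ideal.comap_isMaximal_of_surjective _ hssurj
  apply IsLocalRing.of_unique_max_ideal
  refine ⟨M₀, hM₀max, fun M hM => ?_⟩
  have hMR : M.comap (algebraMap R (A₁ ⊗[R] A₂)) = IsLocalRing.maximalIdeal R :=
    IsLocalRing.eq_maximalIdeal (Ideal.isMaximal_comap_of_isIntegral_of_isMaximal M)
  -- contraction to A₁
  have h1 : M.comap (Algebra.TensorProduct.includeLeft : A₁ →ₐ[R] A₁ ⊗[R] A₂).toRingHom =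
      IsLocalRing.maximalIdeal A₁ := by
    have hprime : (M.comap (Algebra.TensorProduct.includeLeft : A₁ →ₐ[R] A₁ ⊗[R] A₂).toRingHom).IsPrime :=
      Ideal.comap_isPrime _ _
    have hc : (M.comap (Algebra.TensorProduct.includeLeft : A₁ →ₐ[R] A₁ ⊗[R] A₂).toRingHom).comap
        (algebraMap R A₁) = IsLocalRing.maximalIdeal R := by
      rw [Ideal.comap_comap, ← hMR]
      exact congrArg (fun f => Ideal.comap f M)
        (Algebra.TensorProduct.includeLeft : A₁ →ₐ[R] A₁ ⊗[R] A₂).comp_algebraMap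
    have hmax := Ideal.isMaximal_of_isIntegral_of_isMaximal_comap
      (M.comap (Algebra.TensorProduct.includeLeft : A₁ →ₐ[R] A₁ ⊗[R] A₂).toRingHom)
      (hc ▸ IsLocalRing.maximalIdeal.isMaximal R)
    exact IsLocalRing.eq_maximalIdeal hmax
  have h2 : M.comap (Algebra.TensorProduct.includeRight : A₂ →ₐ[R] A₁ ⊗[R] A₂).toRingHom =
      IsLocalRing.maximalIdeal A₂ := by
    have hprime : (M.comap (Algebra.TensorProduct.includeRight : A₂ →ₐ[R] A₁ ⊗[R] A₂).toRingHom).IsPrime :=
      Ideal.comap_isPrime _ _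
    have hc : (M.comap (Algebra.TensorProduct.includeRight : A₂ →ₐ[R] A₁ ⊗[R] A₂).toRingHom).comap
        (algebraMap R A₂) = IsLocalRing.maximalIdeal R := by
      rw [Ideal.comap_comap, ← hMR]
      exact congrArg (fun f => Ideal.comap f M)
        (Algebra.TensorProduct.includeRight : A₂ →ₐ[R] A₁ ⊗[R] A₂).comp_algebraMap
    have hmax := Ideal.isMaximal_of_isIntegral_of_isMaximal_comap
      (M.comap (Algebra.TensorProduct.includeRight : A₂ →ₐ[R] A₁ ⊗[R] A₂).toRingHom)
      (hc ▸ IsLocalRing.maximalIdeal.isMaximal R)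
    exact IsLocalRing.eq_maximalIdeal hmax
  have ha : ∀ a : A₁, a ⊗ₜ[R] (1 : A₂) - algebraMap R (A₁ ⊗[R] A₂) (ε₁ a) ∈ M := by
    intro a
    have hk : a - algebraMap R A₁ (ε₁ a) ∈ RingHom.ker ε₁ := by
      rw [RingHom.mem_ker, map_sub, AlgHom.commutes]; exact sub_self _
    have hm : a - algebraMap R A₁ (ε₁ a) ∈ IsLocalRing.maximalIdeal A₁ :=
      IsLocalRing.le_maximalIdeal (RingHom.ker_ne_top (ε₁ : A₁ →+* R)) hk
    rw [← h1, Ideal.mem_comap] at hm
    have : (Algebra.TensorProduct.includeLeft : A₁ →ₐ[R] A₁ ⊗[R] A₂).toRingHom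
        (a - algebraMap R A₁ (ε₁ a)) = a ⊗ₜ[R] (1 : A₂) - algebraMap R (A₁ ⊗[R] A₂) (ε₁ a) := by
      rw [map_sub]
      congr 1
    rwa [this] at hm
  have hb : ∀ b : A₂, (1 : A₁) ⊗ₜ[R] b - algebraMap R (A₁ ⊗[R] A₂) (ε₂ b) ∈ M := by
    intro b
    have hk : b - algebraMap R A₂ (ε₂ b) ∈ RingHom.ker ε₂ := by
      rw [RingHom.mem_ker, map_sub, AlgHom.commutes]; exact sub_self _
    have hm : b - algebraMap R A₂ (ε₂ b) ∈ IsLocalRing.maximalIdeal A₂ :=
      IsLocalRing.le_maximalIdeal (RingHom.ker_ne_top (ε₂ : A₂ →+* R)) hk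
    rw [← h2, Ideal.mem_comap] at hm
    have : (Algebra.TensorProduct.includeRight : A₂ →ₐ[R] A₁ ⊗[R] A₂).toRingHom
        (b - algebraMap R A₂ (ε₂ b)) = (1 : A₁) ⊗ₜ[R] b - algebraMap R (A₁ ⊗[R] A₂) (ε₂ b) := by
      rw [map_sub]
      congr 1
      exact (Algebra.TensorProduct.includeRight : A₂ →ₐ[R] A₁ ⊗[R] A₂).commutes _
    rwa [this] at hm
  have hall : ∀ t : A₁ ⊗[R] A₂, t - algebraMap R (A₁ ⊗[R] A₂) (s t) ∈ M := by
    intro t
    induction t with
    | zero => simp
    | tmul a b =>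
      have e1 : a ⊗ₜ[R] b - algebraMap R (A₁ ⊗[R] A₂) (s (a ⊗ₜ b)) =
          (a ⊗ₜ[R] (1 : A₂) - algebraMap R (A₁ ⊗[R] A₂) (ε₁ a)) * ((1 : A₁) ⊗ₜ[R] b) +
          algebraMap R (A₁ ⊗[R] A₂) (ε₁ a) *
            ((1 : A₁) ⊗ₜ[R] b - algebraMap R (A₁ ⊗[R] A₂) (ε₂ b)) := by
        rw [hs, map_mul, sub_mul, mul_sub, Algebra.TensorProduct.tmul_mul_tmul, mul_one, one_mul]
        ring
      rw [e1]
      exact M.add_mem (M.mul_mem_right _ (ha a)) (M.mul_mem_left _ (hb b))
    | add x y hx hy =>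
      have : x + y - algebraMap R (A₁ ⊗[R] A₂) (s (x + y)) =
          (x - algebraMap R (A₁ ⊗[R] A₂) (s x)) + (y - algebraMap R (A₁ ⊗[R] A₂) (s y)) := by
        rw [map_add, map_add]; ring
      rw [this]
      exact M.add_mem hx hy
  have hle : M₀ ≤ M := by
    intro t ht
    have h3 : algebraMap R (A₁ ⊗[R] A₂) (s t) ∈ M := by
      have : s t ∈ M.comap (algebraMap R (A₁ ⊗[R] A₂)) := by rw [hMR]; exact ht
      exact this
    have := M.add_mem (hall t) h3
    rwa [sub_add_cancel] at this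
  exact (hM₀max.eq_of_le hM.ne_top hle).symm


open Polynomial in
/-- being a henselian local ring is invariant under ring isomorphisms -/
theorem henselian_of_ringEquiv {A B : Type*} [CommRing A] [CommRing B] [HenselianLocalRing A]
    (e : A ≃+* B) : HenselianLocalRing B := by
  have hloc : IsLocalRing B := e.isLocalRing
  refine { toIsLocalRing := hloc, is_henselian := ?_ }
  intro f hf b₀ h₁ h₂
  have hmem : ∀ b : B, b ∈ IsLocalRing.maximalIdeal B ↔ e.symm b ∈ IsLocalRing.maximalIdeal A := by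
    intro b
    rw [IsLocalRing.mem_maximalIdeal, IsLocalRing.mem_maximalIdeal, mem_nonunits_iff, mem_nonunits_iff,
      isUnit_map_iff]
  have hev : ∀ (p : B[X]) (b : B), (p.map e.symm.toRingHom).eval (e.symm b) = e.symm (p.eval b) :=
    fun p b => Polynomial.eval_map_apply (f := e.symm.toRingHom) b
  obtain ⟨a, ha, haa⟩ := HenselianLocalRing.is_henselian (f.map e.symm.toRingHom) (hf.map _)
    (e.symm b₀) (by rw [hev]; exact (hmem _).mp h₁)
    (by rw [Polynomial.derivative_map, hev]; exact h₂.map e.symm)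
  refine ⟨e a, ?_, ?_⟩
  · have h3 := hev f (e a)
    rw [e.symm_apply_apply] at h3
    rw [Polynomial.IsRoot.def] at ha ⊢
    rw [ha] at h3
    exact (map_eq_zero_iff e.symm e.symm.injective).mp h3.symm
  · rw [hmem, map_sub, e.symm_apply_apply]
    exact haa

end Groth.Agent.Lib.Helper20.IdemLocal
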