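import Mathlib
import Groth.Agent.Lib.Helper20.IdemLocal

/-!
# Splitting of an extension of a connected finite group by an étale one (commutative algebra core)
-/

set_option autoImplicit false
universe u

namespace Groth.Agent.Lib.Helper20.GroupSplit

open Groth.Agent.Lib.Helper20.IdemLocal

/-- for a formally unramified augmented algebra, the augmentation ideal is idempotent -/
theorem aug_ker_sq {R C : Type u} [CommRing R] [CommRing C] [Algebra R C]
    [Algebra.FormallyUnramified R C] (s : C →ₐ[R] R) :
    RingHom.ker s ^ 2 = RingHom.ker s := by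
  set I : Ideal C := RingHom.ker s with hIdef
  refine le_antisymm (Ideal.pow_le_self two_ne_zero) ?_
  intro a ha
  let J : Ideal (C ⧸ I ^ 2) := I.map (Ideal.Quotient.mk (I ^ 2))
  have hJ : J ^ 2 = ⊥ := by
    rw [← Ideal.map_pow, Ideal.map_quotient_self]
  let g₁ : C →ₐ[R] C ⧸ I ^ 2 := Ideal.Quotient.mkₐ R (I ^ 2)
  let g₂ : C →ₐ[R] C ⧸ I ^ 2 := (Algebra.ofId R (C ⧸ I ^ 2)).comp s
  have hg : (Ideal.Quotient.mkₐ R J).comp g₁ = (Ideal.Quotient.mkₐ R J).comp g₂ := by
    refine AlgHom.ext fun x => ?_
    rw [AlgHom.comp_apply, AlgHom.comp_apply, Ideal.Quotient.mkₐ_eq_mk, Ideal.Quotient.mkₐ_eq_mk,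
      Ideal.Quotient.eq]
    have hmem : x - algebraMap R C (s x) ∈ I := by
      rw [hIdef, RingHom.mem_ker, map_sub, AlgHom.commutes]
      exact sub_self _
    have := Ideal.mem_map_of_mem (Ideal.Quotient.mk (I ^ 2)) hmem
    convert this using 1
    simp [g₁, g₂, Algebra.ofId_apply]
  have heq : g₁ = g₂ := Algebra.FormallyUnramified.comp_injective J hJ hg
  have h1 := AlgHom.congr_fun heq a
  have h2 : s a = 0 := ha
  have h3 : g₂ a = 0 := by
    change algebraMap R (C ⧸ I ^ 2) (s a) = 0
    rw [h2, map_zero]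
  rw [h3] at h1
  exact Ideal.Quotient.eq_zero_iff_mem.mp h1

/-- a local Noetherian formally unramified augmented algebra is the base ring -/
theorem aug_eq {R C : Type u} [CommRing R] [CommRing C] [Algebra R C]
    [Algebra.FormallyUnramified R C] [IsLocalRing C] [IsNoetherianRing C] (s : C →ₐ[R] R) (x : C) :
    x = algebraMap R C (s x) := by
  have hsq := aug_ker_sq s
  have hfg : (RingHom.ker s).FG := IsNoetherian.noetherian _
  have hidem : IsIdempotentElem (RingHom.ker s) := by
    rw [IsIdempotentElem, ← pow_two, hsq]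
  obtain ⟨e, he, hker⟩ := (Ideal.isIdempotentElem_iff_of_fg _ hfg).mp hidem
  have hR : Nontrivial R := (algebraMap R C).domain_nontrivial
  have he0 : e = 0 := by
    rcases idem_local he with h | h
    · exact h
    · exfalso
      have h1 : (1 : C) ∈ RingHom.ker s := by
        rw [hker, h]; exact Submodule.mem_span_singleton_self _
      rw [RingHom.mem_ker, map_one] at h1
      exact one_ne_zero h1
  have hbot : RingHom.ker s = ⊥ := by
    rw [hker, he0]; simp
  have hmem : x - algebraMap R C (s x) ∈ RingHom.ker s := by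
    rw [RingHom.mem_ker, map_sub, AlgHom.commutes]
    exact sub_self _
  rw [hbot, Ideal.mem_bot] at hmem
  exact sub_eq_zero.mp hmem

/-- the unit component of the middle term maps isomorphically to a connected quotient when the
kernel is étale -/
theorem split_bijective {R A A'' : Type u} [CommRing R] [IsNoetherianRing R]
    [CommRing A] [Algebra R A] [Module.Finite R A]
    [CommRing A''] [Algebra R A''] [Algebra A'' A] [IsScalarTower R A'' A] [Module.Flat A'' A]
    [IsLocalRing A''] (ε : A →ₐ[R] R) (ε'' : A'' →ₐ[R] R)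
    (hε : ε.comp (IsScalarTower.toAlgHom R A'' A) = ε'')
    [Algebra.Etale R (A ⧸ (RingHom.ker ε'').map (algebraMap A'' A))]
    (e : A) (he : IsIdempotentElem e) (heε : ε e = 1)
    [IsLocalRing (A ⧸ Ideal.span ({1 - e} : Set A))] :
    Function.Bijective ((Ideal.Quotient.mkₐ R (Ideal.span ({1 - e} : Set A))).comp
      (IsScalarTower.toAlgHom R A'' A)) := by
  set J : Ideal A := (RingHom.ker ε'').map (algebraMap A'' A) with hJdef
  set K : Ideal A := J ⊔ Ideal.span ({1 - e} : Set A) with hKdef
  have hJ : J ≤ RingHom.ker ε := by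
    rw [hJdef, Ideal.map_le_iff_le_comap]
    intro c hc
    rw [Ideal.mem_comap, RingHom.mem_ker]
    have h1 := AlgHom.congr_fun hε c
    rw [AlgHom.comp_apply] at h1
    have h2 : (IsScalarTower.toAlgHom R A'' A) c = algebraMap A'' A c := rfl
    rw [← h2, h1]
    exact hc
  have hK : K ≤ RingHom.ker ε := by
    refine sup_le hJ ?_
    rw [Ideal.span_le, Set.singleton_subset_iff]
    change ε (1 - e) = 0
    rw [map_sub, map_one, heε, sub_self]
  have hRnt : Nontrivial R := by
    have : Nontrivial A'' := inferInstance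
    exact (algebraMap R A'').domain_nontrivial
  have hKne : K ≠ ⊤ := by
    intro htop
    rw [htop, top_le_iff] at hK
    exact (RingHom.ker_ne_top (ε : A →+* R)) hK
  have hloc : IsLocalRing (A ⧸ K) := isLocalRing_quot_sup J e hKne
  have hnoeA : IsNoetherianRing A := Algebra.FiniteType.isNoetherianRing R A
  have hnoe : IsNoetherianRing (A ⧸ K) := inferInstance
  -- étale
  have het : Algebra.Etale R (A ⧸ K) := by
    let _ : Algebra (A ⧸ J) (A ⧸ K) := (Ideal.Quotient.factor (le_sup_left : J ≤ K)).toAlgebra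
    have : IsScalarTower R (A ⧸ J) (A ⧸ K) := IsScalarTower.of_algebraMap_eq' (by
      ext r
      rfl)
    have hē : IsIdempotentElem (Ideal.Quotient.mk J e) := he.map _
    have hker : RingHom.ker (algebraMap (A ⧸ J) (A ⧸ K)) =
        Ideal.span {1 - Ideal.Quotient.mk J e} := by
      rw [RingHom.algebraMap_toAlgebra, Ideal.Quotient.factor_ker, Ideal.map_sup,
        Ideal.map_quotient_self, bot_sup_eq, Ideal.map_span, Set.image_singleton, map_sub, map_one]
    have : IsLocalization.Away (Ideal.Quotient.mk J e) (A ⧸ K) :=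
      IsLocalization.away_of_isIdempotentElem hē hker (Ideal.Quotient.factor_surjective _)
    have : Algebra.Etale (A ⧸ J) (A ⧸ K) := Algebra.Etale.of_isLocalizationAway (Ideal.Quotient.mk J e)
    exact Algebra.Etale.comp R (A ⧸ J) (A ⧸ K)
  let s : (A ⧸ K) →ₐ[R] R := Ideal.Quotient.liftₐ K ε (fun a ha => hK ha)
  have key : ∀ a : A, a - algebraMap R A (ε a) ∈ K := by
    intro a
    have h1 := aug_eq s (Ideal.Quotient.mk K a)
    have h2 : s (Ideal.Quotient.mk K a) = ε a := rfl
    rw [h2] at h1
    rw [← Ideal.Quotient.eq]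
    exact h1
  have hI''le : RingHom.ker ε'' ≤ IsLocalRing.maximalIdeal A'' :=
    IsLocalRing.le_maximalIdeal (RingHom.ker_ne_top (ε'' : A'' →+* R))
  have hfinA'' : Module.Finite A'' A := Module.Finite.of_restrictScalars_finite R A'' A
  have hfin0 : Module.Finite A'' (A ⧸ Ideal.span ({1 - e} : Set A)) :=
    Module.Finite.of_surjective (IsScalarTower.toAlgHom A'' A _).toLinearMap
      Ideal.Quotient.mk_surjective
  have hcoe : ∀ c : A'', ((Ideal.Quotient.mkₐ R (Ideal.span ({1 - e} : Set A))).comp
      (IsScalarTower.toAlgHom R A'' A)) c = algebraMap A'' (A ⧸ Ideal.span ({1 - e} : Set A)) c :=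
    fun c => rfl
  constructor
  · -- injective
    have hlocA : IsLocalization.Away e (A ⧸ Ideal.span ({1 - e} : Set A)) :=
      IsLocalization.Away.quotient_of_isIdempotentElem he
    have hflatA : Module.Flat A (A ⧸ Ideal.span ({1 - e} : Set A)) :=
      IsLocalization.flat _ (Submonoid.powers e)
    have hflat : Module.Flat A'' (A ⧸ Ideal.span ({1 - e} : Set A)) := Module.Flat.trans A'' A _
    have hfree : Module.Free A'' (A ⧸ Ideal.span ({1 - e} : Set A)) :=
      Module.free_of_flat_of_isLocalRing
    have hinj := FaithfulSMul.algebraMap_injective A'' (A ⧸ Ideal.span ({1 - e} : Set A))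
    intro c d hcd
    rw [hcoe, hcoe] at hcd
    exact hinj hcd
  · -- surjective
    let N₀ : Submodule A'' (A ⧸ Ideal.span ({1 - e} : Set A)) :=
      LinearMap.range (Algebra.linearMap A'' (A ⧸ Ideal.span ({1 - e} : Set A)))
    have hN : (⊤ : Submodule A'' (A ⧸ Ideal.span ({1 - e} : Set A))) ≤
        N₀ ⊔ (IsLocalRing.maximalIdeal A'') • ⊤ := by
      intro x _
      obtain ⟨a, rfl⟩ := Ideal.Quotient.mk_surjective x
      obtain ⟨j, hj, z, hz, hjz⟩ := Submodule.mem_sup.mp (key a)
      have hz0 : Ideal.Quotient.mk (Ideal.span ({1 - e} : Set A)) z = 0 :=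
        Ideal.Quotient.eq_zero_iff_mem.mpr hz
      have hjm : Ideal.Quotient.mk (Ideal.span ({1 - e} : Set A)) j ∈
          (IsLocalRing.maximalIdeal A'') • (⊤ : Submodule A'' (A ⧸ Ideal.span ({1 - e} : Set A))) := by
        rw [Ideal.smul_top_eq_map]
        change _ ∈ Ideal.map (algebraMap A'' (A ⧸ Ideal.span ({1 - e} : Set A)))
          (IsLocalRing.maximalIdeal A'')
        have hle : J.map (Ideal.Quotient.mk (Ideal.span ({1 - e} : Set A))) ≤
            Ideal.map (algebraMap A'' (A ⧸ Ideal.span ({1 - e} : Set A)))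
              (IsLocalRing.maximalIdeal A'') := by
          rw [hJdef, Ideal.map_map]
          exact Ideal.map_mono hI''le
        exact hle (Ideal.mem_map_of_mem _ hj)
      have hsum : Ideal.Quotient.mk (Ideal.span ({1 - e} : Set A)) a =
          algebraMap A'' (A ⧸ Ideal.span ({1 - e} : Set A)) (algebraMap R A'' (ε a)) +
            Ideal.Quotient.mk (Ideal.span ({1 - e} : Set A)) j := by
        have h1 := congrArg (Ideal.Quotient.mk (Ideal.span ({1 - e} : Set A))) hjz
        rw [map_add, hz0, add_zero, map_sub] at h1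
        rw [h1, ← IsScalarTower.algebraMap_apply R A'' (A ⧸ Ideal.span ({1 - e} : Set A)),
          IsScalarTower.algebraMap_apply R A (A ⧸ Ideal.span ({1 - e} : Set A))]
        change _ = Ideal.Quotient.mk _ (algebraMap R A (ε a)) + _
        ring
      rw [hsum]
      exact Submodule.add_mem_sup ⟨_, rfl⟩ hjm
    have htop := Submodule.le_of_le_smul_of_le_jacobson_bot Module.Finite.fg_top
      (IsLocalRing.maximalIdeal_le_jacobson ⊥) hN
    intro x
    obtain ⟨c, hc⟩ := htop (Submodule.mem_top : x ∈ ⊤)
    exact ⟨c, hc⟩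

end Groth.Agent.Lib.Helper20.GroupSplit
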