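import Mathlib
import Groth.Prelude.Def_AlgGrp
import Groth.Prelude.Def_Grpd
import Groth.Agent.Lib.Helper24.QuotSt1

/-!
# The action groupoid of a group scheme acting on a scheme
-/

set_option autoImplicit false
set_option linter.style.haveILetI false
set_option linter.unusedSimpArgs false
set_option linter.unusedSectionVars false
universe u
open CategoryTheory CategoryTheory.Limits MonoidalCategory CartesianMonoidalCategory MonObj GrpObj
  AlgebraicGeometry

namespace Groth.Agent.Lib.Helper20.HD

open Grpd Groth.Agent.Lib.Helper24.QuotSt1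

variable {S : Scheme.{u}} {G X : Over S} [GrpObj G] (a : AlgGrp.Action G X)

/-- `g • x` on `T`-points. -/
noncomputable def smul {T : Over S} (g : T ⟶ G) (x : T ⟶ X) : T ⟶ X := lift g x ≫ a.act

theorem smul_mul {T : Over S} (g h : T ⟶ G) (x : T ⟶ X) :
    smul a (g * h) x = smul a g (smul a h x) := act_mul G a g h x

theorem one_smul {T : Over S} (x : T ⟶ X) : smul a (1 : T ⟶ G) x = x := one_act' G a x

theorem comp_smul {T T' : Over S} (f : T' ⟶ T) (g : T ⟶ G) (x : T ⟶ X) :
    f ≫ smul a g x = smul a (f ≫ g) (f ≫ x) := by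
  unfold smul
  rw [← Category.assoc, comp_lift]

theorem lift_act {T : Over S} (g : T ⟶ G) (x : T ⟶ X) : lift g x ≫ a.act = smul a g x := rfl

/-- the pullback `R ×_{s,U,t} R` as an object over `S`. -/
noncomputable abbrev PO : Over S :=
  Over.mk (pullback.fst (snd G X).left a.act.left ≫ (G ⊗ X).hom)

/-- first projection. -/
noncomputable def π₁ : PO a ⟶ G ⊗ X := Over.homMk (pullback.fst (snd G X).left a.act.left) rfl

theorem snd_over : pullback.snd (snd G X).left a.act.left ≫ (G ⊗ X).hom =
    pullback.fst (snd G X).left a.act.left ≫ (G ⊗ X).hom := by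
  calc pullback.snd (snd G X).left a.act.left ≫ (G ⊗ X).hom
      = pullback.snd (snd G X).left a.act.left ≫ a.act.left ≫ X.hom := by rw [Over.w a.act]
    _ = pullback.fst (snd G X).left a.act.left ≫ (snd G X).left ≫ X.hom := by
        rw [← Category.assoc, ← pullback.condition, Category.assoc]
    _ = _ := by rw [Over.w (snd G X)]

/-- second projection. -/
noncomputable def π₂ : PO a ⟶ G ⊗ X :=
  Over.homMk (pullback.snd (snd G X).left a.act.left) (snd_over a)

/-- composition. -/
noncomputable def cO : PO a ⟶ G ⊗ X :=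
  lift ((π₁ a ≫ fst G X) * (π₂ a ≫ fst G X)) (π₂ a ≫ snd G X)

theorem lift_s {T : Over S} (g : T ⟶ G) (x : T ⟶ X) : (lift g x).left ≫ (snd G X).left = x.left := by
  rw [← Over.comp_left, lift_snd]

theorem lift_t {T : Over S} (g : T ⟶ G) (x : T ⟶ X) :
    (lift g x).left ≫ a.act.left = (smul a g x).left := by
  rw [← Over.comp_left, lift_act]

theorem lift_c {T : Over S} (g h : T ⟶ G) (x y : T ⟶ X)
    (hc : (lift g x).left ≫ (snd G X).left = (lift h y).left ≫ a.act.left) :
    pullback.lift (lift g x).left (lift h y).left hc ≫ (cO a).left = (lift (g * h) y).left := by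
  let l : T ⟶ PO a := Over.homMk (pullback.lift (lift g x).left (lift h y).left hc) (by
    show pullback.lift (lift g x).left (lift h y).left hc ≫
      (pullback.fst (snd G X).left a.act.left ≫ (G ⊗ X).hom) = T.hom
    rw [← Category.assoc, pullback.lift_fst, Over.w])
  have h1 : l ≫ π₁ a = lift g x := by
    apply Over.OverMorphism.ext
    show pullback.lift (lift g x).left (lift h y).left hc ≫ pullback.fst _ _ = _
    rw [pullback.lift_fst]
  have h2 : l ≫ π₂ a = lift h y := by
    apply Over.OverMorphism.ext
    show pullback.lift (lift g x).left (lift h y).left hc ≫ pullback.snd _ _ = _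
    rw [pullback.lift_snd]
  have h3 : l ≫ cO a = lift (g * h) y := by
    unfold cO
    rw [comp_lift, comp_mul, ← Category.assoc, ← Category.assoc, ← Category.assoc, h1, h2, lift_fst,
      lift_fst, lift_snd]
  have := congrArg (fun f => f.left) h3
  exact this

theorem exists_pt {T : Scheme.{u}} (α : T ⟶ (G ⊗ X).left) (π : T ⟶ S)
    (hα : α ≫ (G ⊗ X).hom = π) :
    ∃ (g : Over.mk π ⟶ G) (x : Over.mk π ⟶ X), α = (lift g x).left := by
  let α' : Over.mk π ⟶ G ⊗ X := Over.homMk α hα
  refine ⟨α' ≫ fst G X, α' ≫ snd G X, ?_⟩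
  have : lift (α' ≫ fst G X) (α' ≫ snd G X) = α' := by
    apply CartesianMonoidalCategory.hom_ext
    · rw [lift_fst]
    · rw [lift_snd]
  rw [this]
  rfl

end Groth.Agent.Lib.Helper20.HD
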