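import Mathlib
import Groth.Agent.Lib.Helper20.HD1

/-!
# The action groupoid: structure
-/

set_option autoImplicit false
set_option linter.style.haveILetI false
set_option linter.unusedSimpArgs false
set_option linter.unusedSectionVars false
universe u
open CategoryTheory CategoryTheory.Limits MonoidalCategory CartesianMonoidalCategory MonObj GrpObj
  AlgebraicGeometry

namespace Groth.Agent.Lib.Helper20.HD

open Grpd Groth.Agent.Lib.Helper24.QuotSt1

variable {S : Scheme.{u}} {G X : Over S} [GrpObj G] (a : AlgGrp.Action G X)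

variable (G X) in
/-- identity. -/
noncomputable def eO : X ⟶ G ⊗ X := lift (1 : X ⟶ G) (𝟙 X)

/-- inverse. -/
noncomputable def iO : G ⊗ X ⟶ G ⊗ X := lift ((fst G X)⁻¹) a.act

theorem pt_e {T : Over S} (x : T ⟶ X) : x ≫ eO G X = lift (1 : T ⟶ G) x := by
  unfold eO
  rw [comp_lift, Category.comp_id, comp_one]

theorem pt_i {T : Over S} (g : T ⟶ G) (x : T ⟶ X) :
    lift g x ≫ iO a = lift g⁻¹ (smul a g x) := by
  unfold iO
  rw [comp_lift, comp_inv, lift_fst, lift_act]

theorem act_eq : a.act = smul a (fst G X) (snd G X) := by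
  unfold smul
  have : lift (fst G X) (snd G X) = 𝟙 (G ⊗ X) := by
    apply CartesianMonoidalCategory.hom_ext
    · rw [lift_fst, Category.id_comp]
    · rw [lift_snd, Category.id_comp]
  rw [this, Category.id_comp]

/-- composition on `T`-points. -/
noncomputable def cmp {T : Scheme.{u}} (α β : T ⟶ (G ⊗ X).left)
    (h : α ≫ (snd G X).left = β ≫ a.act.left) : T ⟶ (G ⊗ X).left :=
  pullback.lift α β h ≫ (cO a).left

theorem cmp_congr {T : Scheme.{u}} {α α' β β' : T ⟶ (G ⊗ X).left} (hα : α = α') (hβ : β = β')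
    (h : α ≫ (snd G X).left = β ≫ a.act.left) (h' : α' ≫ (snd G X).left = β' ≫ a.act.left) :
    cmp a α β h = cmp a α' β' h' := by
  subst hα; subst hβ; rfl

theorem cmp_pt {T : Over S} (g k : T ⟶ G) (x y : T ⟶ X)
    (hc : (lift g x).left ≫ (snd G X).left = (lift k y).left ≫ a.act.left) :
    cmp a (lift g x).left (lift k y).left hc = (lift (g * k) y).left := lift_c a g k x y hc

theorem eq_of_hc {T : Over S} (g k : T ⟶ G) (x y : T ⟶ X)
    (hc : (lift g x).left ≫ (snd G X).left = (lift k y).left ≫ a.act.left) :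
    x = smul a k y := by
  apply Over.OverMorphism.ext
  rw [← lift_s g x, hc, lift_t]

theorem over_of_h {T : Scheme.{u}} (α β : T ⟶ (G ⊗ X).left)
    (h : α ≫ (snd G X).left = β ≫ a.act.left) : β ≫ (G ⊗ X).hom = α ≫ (G ⊗ X).hom := by
  calc β ≫ (G ⊗ X).hom = β ≫ a.act.left ≫ X.hom := by rw [Over.w a.act]
    _ = α ≫ (snd G X).left ≫ X.hom := by rw [← Category.assoc, ← h, Category.assoc]
    _ = _ := by rw [Over.w (snd G X)]

theorem ax_comp_s {T : Scheme.{u}} (α β : T ⟶ (G ⊗ X).left)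
    (h : α ≫ (snd G X).left = β ≫ a.act.left) :
    cmp a α β h ≫ (snd G X).left = β ≫ (snd G X).left := by
  have hβ := over_of_h a α β h
  generalize hπ : α ≫ (G ⊗ X).hom = π at hβ
  obtain ⟨g, x, rfl⟩ := exists_pt α π hπ
  obtain ⟨k, y, rfl⟩ := exists_pt β π hβ
  rw [cmp_pt, lift_s, lift_s]

theorem ax_comp_t {T : Scheme.{u}} (α β : T ⟶ (G ⊗ X).left)
    (h : α ≫ (snd G X).left = β ≫ a.act.left) :
    cmp a α β h ≫ a.act.left = α ≫ a.act.left := by
  have hβ := over_of_h a α β h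
  generalize hπ : α ≫ (G ⊗ X).hom = π at hβ
  obtain ⟨g, x, rfl⟩ := exists_pt α π hπ
  obtain ⟨k, y, rfl⟩ := exists_pt β π hβ
  have hx := eq_of_hc a g k x y h
  rw [cmp_pt, lift_t, lift_t, smul_mul, ← hx]

theorem ax_assoc {T : Scheme.{u}} (α β δ : T ⟶ (G ⊗ X).left)
    (h₁ : α ≫ (snd G X).left = β ≫ a.act.left) (h₂ : β ≫ (snd G X).left = δ ≫ a.act.left) :
    cmp a (cmp a α β h₁) δ ((ax_comp_s a α β h₁).trans h₂) =
      cmp a α (cmp a β δ h₂) (h₁.trans (ax_comp_t a β δ h₂).symm) := by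
  have hβ := over_of_h a α β h₁
  have hδ := (over_of_h a β δ h₂).trans hβ
  generalize hπ : α ≫ (G ⊗ X).hom = π at hβ hδ
  obtain ⟨g, x, rfl⟩ := exists_pt α π hπ
  obtain ⟨k, y, rfl⟩ := exists_pt β π hβ
  obtain ⟨m, z, rfl⟩ := exists_pt δ π hδ
  have e1 : cmp a (lift g x).left (lift k y).left h₁ = (lift (g * k) y).left := cmp_pt a g k x y h₁
  have e2 : cmp a (lift k y).left (lift m z).left h₂ = (lift (k * m) z).left := cmp_pt a k m y z h₂
  have hc1 : (lift (g * k) y).left ≫ (snd G X).left = (lift m z).left ≫ a.act.left := by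
    rw [← e1]; exact (ax_comp_s a _ _ h₁).trans h₂
  have hc2 : (lift g x).left ≫ (snd G X).left = (lift (k * m) z).left ≫ a.act.left := by
    rw [← e2]; exact h₁.trans (ax_comp_t a _ _ h₂).symm
  rw [cmp_congr a e1 rfl _ hc1, cmp_congr a rfl e2 _ hc2, cmp_pt, cmp_pt, _root_.mul_assoc]

theorem ax_e_s : (eO G X).left ≫ (snd G X).left = 𝟙 X.left := by
  rw [← Over.comp_left]
  unfold eO
  rw [lift_snd]
  rfl

theorem ax_e_t : (eO G X).left ≫ a.act.left = 𝟙 X.left := by
  rw [← Over.comp_left]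
  unfold eO
  rw [lift_act, one_smul]
  rfl

theorem ax_i_s : (iO a).left ≫ (snd G X).left = a.act.left := by
  rw [← Over.comp_left]
  unfold iO
  rw [lift_snd]

theorem ax_i_t : (iO a).left ≫ a.act.left = (snd G X).left := by
  rw [← Over.comp_left]
  unfold iO
  rw [lift_act]
  conv_lhs => rw [act_eq a]
  rw [← smul_mul, inv_mul_cancel, one_smul]

theorem ax_comp_e {T : Scheme.{u}} (α : T ⟶ (G ⊗ X).left) :
    cmp a α (α ≫ (snd G X).left ≫ (eO G X).left)
      (by rw [Category.assoc, Category.assoc, ax_e_t, Category.comp_id]) = α := by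
  generalize hπ : α ≫ (G ⊗ X).hom = π
  obtain ⟨g, x, rfl⟩ := exists_pt α π hπ
  have e1 : (lift g x).left ≫ (snd G X).left ≫ (eO G X).left = (lift (1 : Over.mk π ⟶ G) x).left := by
    rw [← Over.comp_left, ← Over.comp_left, ← Category.assoc, lift_snd, pt_e]
  have hc : (lift g x).left ≫ (snd G X).left = (lift (1 : Over.mk π ⟶ G) x).left ≫ a.act.left := by
    rw [lift_s, lift_t, one_smul]
  rw [cmp_congr a rfl e1 _ hc, cmp_pt, _root_.mul_one]

theorem ax_e_comp {T : Scheme.{u}} (α : T ⟶ (G ⊗ X).left) :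
    cmp a (α ≫ a.act.left ≫ (eO G X).left) α
      (by rw [Category.assoc, Category.assoc, ax_e_s, Category.comp_id]) = α := by
  generalize hπ : α ≫ (G ⊗ X).hom = π
  obtain ⟨g, x, rfl⟩ := exists_pt α π hπ
  have e1 : (lift g x).left ≫ a.act.left ≫ (eO G X).left =
      (lift (1 : Over.mk π ⟶ G) (smul a g x)).left := by
    rw [← Over.comp_left, ← Over.comp_left, ← Category.assoc, lift_act, pt_e]
  have hc : (lift (1 : Over.mk π ⟶ G) (smul a g x)).left ≫ (snd G X).left =
      (lift g x).left ≫ a.act.left := by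
    rw [lift_s, lift_t]
  rw [cmp_congr a e1 rfl _ hc, cmp_pt, _root_.one_mul]

theorem ax_comp_i {T : Scheme.{u}} (α : T ⟶ (G ⊗ X).left) :
    cmp a α (α ≫ (iO a).left) (by rw [Category.assoc, ax_i_t]) =
      α ≫ a.act.left ≫ (eO G X).left := by
  generalize hπ : α ≫ (G ⊗ X).hom = π
  obtain ⟨g, x, rfl⟩ := exists_pt α π hπ
  have e1 : (lift g x).left ≫ (iO a).left = (lift g⁻¹ (smul a g x)).left := by
    rw [← Over.comp_left, pt_i]
  have e2 : (lift g x).left ≫ a.act.left ≫ (eO G X).left =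
      (lift (1 : Over.mk π ⟶ G) (smul a g x)).left := by
    rw [← Over.comp_left, ← Over.comp_left, ← Category.assoc, lift_act, pt_e]
  have hc : (lift g x).left ≫ (snd G X).left = (lift g⁻¹ (smul a g x)).left ≫ a.act.left := by
    rw [lift_s, lift_t, ← smul_mul, inv_mul_cancel, one_smul]
  rw [cmp_congr a rfl e1 _ hc, cmp_pt, mul_inv_cancel, e2]

theorem ax_i_comp {T : Scheme.{u}} (α : T ⟶ (G ⊗ X).left) :
    cmp a (α ≫ (iO a).left) α (by rw [Category.assoc, ax_i_s]) =
      α ≫ (snd G X).left ≫ (eO G X).left := by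
  generalize hπ : α ≫ (G ⊗ X).hom = π
  obtain ⟨g, x, rfl⟩ := exists_pt α π hπ
  have e1 : (lift g x).left ≫ (iO a).left = (lift g⁻¹ (smul a g x)).left := by
    rw [← Over.comp_left, pt_i]
  have e2 : (lift g x).left ≫ (snd G X).left ≫ (eO G X).left =
      (lift (1 : Over.mk π ⟶ G) x).left := by
    rw [← Over.comp_left, ← Over.comp_left, ← Category.assoc, lift_snd, pt_e]
  have hc : (lift g⁻¹ (smul a g x)).left ≫ (snd G X).left = (lift g x).left ≫ a.act.left := by
    rw [lift_s, lift_t]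
  rw [cmp_congr a e1 rfl _ hc, cmp_pt, inv_mul_cancel, e2]

/-- The action groupoid `G ×_S X ⇉ X`. -/
noncomputable def actGrpd : GroupoidScheme S where
  U := X.left
  R := (G ⊗ X).left
  pU := X.hom
  pR := (G ⊗ X).hom
  s := (snd G X).left
  t := a.act.left
  e := (eO G X).left
  i := (iO a).left
  c := (cO a).left
  s_over := Over.w (snd G X)
  t_over := Over.w a.act
  comp_s := fun α β h => ax_comp_s a α β h
  comp_t := fun α β h => ax_comp_t a α β h
  assoc := fun α β δ h₁ h₂ => ax_assoc a α β δ h₁ h₂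
  e_s := ax_e_s
  e_t := ax_e_t a
  comp_e := fun α => ax_comp_e a α
  e_comp := fun α => ax_e_comp a α
  i_s := ax_i_s a
  i_t := ax_i_t a
  comp_i := fun α => ax_comp_i a α
  i_comp := fun α => ax_i_comp a α

end Groth.Agent.Lib.Helper20.HD
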