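import Mathlib
import Groth.Agent.Lib.Helper20.HD2
import Groth.Agent.Lib.Helper20.HC5

/-!
# The action groupoid: properties (finite locally free groups, free actions, orbits in affines)
-/

set_option autoImplicit false
set_option linter.style.haveILetI false
set_option linter.unusedSimpArgs false
set_option linter.unusedSectionVars false
universe u
open CategoryTheory CategoryTheory.Limits MonoidalCategory CartesianMonoidalCategory MonObj GrpObj
  AlgebraicGeometry

namespace Groth.Agent.Lib.Helper20.HD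

open Grpd Groth.Agent.Lib.Helper24.QuotSt1

variable {S : Scheme.{u}} {G X : Over S} [GrpObj G] (a : AlgGrp.Action G X)

instance isFinite_s [IsFinite G.hom] : IsFinite (actGrpd a).s := by
  show IsFinite (pullback.snd G.hom X.hom)
  infer_instance

instance flat_s [Flat G.hom] : Flat (actGrpd a).s := by
  show Flat (pullback.snd G.hom X.hom)
  infer_instance

instance lfp_s [LocallyOfFinitePresentation G.hom] :
    LocallyOfFinitePresentation (actGrpd a).s := by
  show LocallyOfFinitePresentation (pullback.snd G.hom X.hom)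
  infer_instance

theorem mono_j (hfree : ∀ (T : Over S) (g : T ⟶ G) (x : T ⟶ X),
    lift g x ≫ a.act = x → g = toUnit T ≫ η[G]) : Mono (actGrpd a).j := by
  rw [Groth.Agent.Lib.Helper20.HC.mono_j_iff]
  intro T α β h1 h2
  obtain ⟨α', rfl⟩ : ∃ α' : T ⟶ (G ⊗ X).left, α' = α := ⟨α, rfl⟩
  obtain ⟨β', rfl⟩ : ∃ β' : T ⟶ (G ⊗ X).left, β' = β := ⟨β, rfl⟩
  have h1' : α' ≫ a.act.left = β' ≫ a.act.left := h1
  have h2' : α' ≫ (snd G X).left = β' ≫ (snd G X).left := h2
  have hβ : β' ≫ (G ⊗ X).hom = α' ≫ (G ⊗ X).hom := by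
    rw [← Over.w (snd G X), ← Category.assoc, ← h2', Category.assoc]
  generalize hπ : α' ≫ (G ⊗ X).hom = π at hβ
  obtain ⟨g, x, rfl⟩ := exists_pt α' π hπ
  obtain ⟨k, y, rfl⟩ := exists_pt β' π hβ
  have hxy : x = y := by
    apply Over.OverMorphism.ext
    rw [← lift_s g x, h2', lift_s]
  subst hxy
  have hgk : smul a g x = smul a k x := by
    apply Over.OverMorphism.ext
    rw [← lift_t, h1', lift_t]
  have h3 : smul a (k⁻¹ * g) x = x := by
    rw [smul_mul, hgk, ← smul_mul, inv_mul_cancel, one_smul]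
  have h4 : k⁻¹ * g = 1 := by
    rw [Hom.one_def]
    exact hfree _ _ x h3
  have h5 : g = k := by
    have := congrArg (fun z => k * z) h4
    simpa using this
  rw [h5]

theorem pU_t (r : (actGrpd a).R) : (actGrpd a).pU ((actGrpd a).t r) =
    (actGrpd a).pU ((actGrpd a).s r) := by
  have h1 := congrArg (fun f : (actGrpd a).R ⟶ S => f r) (actGrpd a).t_over
  have h2 := congrArg (fun f : (actGrpd a).R ⟶ S => f r) (actGrpd a).s_over
  exact h1.trans h2.symm

/-- orbits lie in affine opens when `X ⟶ S` is affine. -/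
theorem haff_of_isAffineHom [IsAffineHom X.hom] (x : (actGrpd a).U) :
    ∃ V : (actGrpd a).U.Opens, IsAffineOpen V ∧
      (actGrpd a).t.base '' ((actGrpd a).s.base ⁻¹' {x}) ⊆ (V : Set (actGrpd a).U) := by
  obtain ⟨S₀, hS₀, hx⟩ : ∃ S₀ : S.Opens, IsAffineOpen S₀ ∧ (actGrpd a).pU x ∈ S₀ := by
    obtain ⟨_, ⟨S₀, hS₀, rfl⟩, hx, -⟩ :=
      S.isBasis_affineOpens.exists_subset_of_mem_open (Set.mem_univ ((actGrpd a).pU x)) isOpen_univ
    exact ⟨S₀, hS₀, hx⟩
  refine ⟨X.hom ⁻¹ᵁ S₀, hS₀.preimage X.hom, ?_⟩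
  rintro _ ⟨r, hr, rfl⟩
  have hr' : (actGrpd a).s r = x := hr
  show (actGrpd a).pU ((actGrpd a).t r) ∈ S₀
  rw [pU_t, hr']
  exact hx

/-- orbits lie in affine opens when `X` is an open subscheme of an affine scheme. -/
theorem haff_of_isOpenImmersion [IsFinite G.hom] (R₀ : CommRingCat.{u})
    (i : X.left ⟶ Spec R₀) [IsOpenImmersion i] (x : (actGrpd a).U) :
    ∃ V : (actGrpd a).U.Opens, IsAffineOpen V ∧
      (actGrpd a).t.base '' ((actGrpd a).s.base ⁻¹' {x}) ⊆ (V : Set (actGrpd a).U) := by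
  have hfin : ((actGrpd a).t.base '' ((actGrpd a).s.base ⁻¹' {x})).Finite :=
    (Scheme.Hom.finite_preimage_singleton (actGrpd a).s x).image _
  obtain ⟨f, hf1, hf2⟩ := Groth.Agent.Lib.Helper20.HA.exists_basicOpen_of_finite
    (i '' ((actGrpd a).t.base '' ((actGrpd a).s.base ⁻¹' {x}))) (hfin.image _) i.opensRange
    (by rintro _ ⟨y, _, rfl⟩; exact ⟨y, rfl⟩)
  have haff : IsAffineOpen (X := Spec R₀) ((Spec R₀).basicOpen ((Scheme.ΓSpecIso R₀).inv f)) :=
    (isAffineOpen_top (Spec R₀)).basicOpen _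
  rw [basicOpen_eq_of_affine] at haff
  refine ⟨i ⁻¹ᵁ (PrimeSpectrum.basicOpen f), haff.preimage_of_isOpenImmersion i hf2, ?_⟩
  intro y hy
  exact hf1 ⟨y, hy, rfl⟩

set_option backward.isDefEq.respectTransparency.types false in
/-- orbits are points when `G ⟶ S` is radicial. -/
theorem haff_of_universallyInjective [UniversallyInjective G.hom] (x : (actGrpd a).U) :
    ∃ V : (actGrpd a).U.Opens, IsAffineOpen V ∧
      (actGrpd a).t.base '' ((actGrpd a).s.base ⁻¹' {x}) ⊆ (V : Set (actGrpd a).U) := by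
  obtain ⟨V, hV, hx⟩ : ∃ V : (actGrpd a).U.Opens, IsAffineOpen V ∧ x ∈ V := by
    obtain ⟨_, ⟨V, hV, rfl⟩, hx, -⟩ :=
      (actGrpd a).U.isBasis_affineOpens.exists_subset_of_mem_open (Set.mem_univ x) isOpen_univ
    exact ⟨V, hV, hx⟩
  refine ⟨V, hV, ?_⟩
  rintro _ ⟨r, hr, rfl⟩
  have hr' : (actGrpd a).s r = x := hr
  haveI : UniversallyInjective (actGrpd a).s := by
    show UniversallyInjective (pullback.snd G.hom X.hom)
    exact MorphismProperty.pullback_snd (P := @UniversallyInjective) _ _ inferInstance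
  have h1 : (actGrpd a).s ((actGrpd a).e x) = x := Groth.Agent.Lib.Helper20.HA.e_s_pt _ x
  have h2 : r = (actGrpd a).e x := (actGrpd a).s.injective (hr'.trans h1.symm)
  show (actGrpd a).t r ∈ V
  rw [h2, Groth.Agent.Lib.Helper20.HA.e_t_pt]
  exact hx

end Groth.Agent.Lib.Helper20.HD
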