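import Mathlib
import Groth.Agent.Lib.Helper20.HA10
import Groth.Agent.Lib.Helper7.Deligne

set_option autoImplicit false
set_option linter.style.haveILetI false
set_option linter.unusedSimpArgs false
set_option linter.unusedSectionVars false
universe u v
open CategoryTheory CategoryTheory.Limits TensorProduct

namespace Groth.Agent.Lib.Helper20.HF

section pushout

variable {R : Type u} [CommRing R] {A B' H : Type v} [CommRing A] [CommRing B'] [CommRing H]
  [Algebra R A] [Algebra R B'] [Algebra R H]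

theorem isPushout_map (f : A →ₐ[R] B') :
    IsPushout (CommRingCat.ofHom f.toRingHom)
      (CommRingCat.ofHom (Algebra.TensorProduct.includeLeftRingHom : A →+* A ⊗[R] H))
      (CommRingCat.ofHom (Algebra.TensorProduct.includeLeftRingHom : B' →+* B' ⊗[R] H))
      (CommRingCat.ofHom (Algebra.TensorProduct.map f (AlgHom.id R H)).toRingHom) := by
  letI : Algebra A B' := f.toRingHom.toAlgebra
  haveI : IsScalarTower R A B' := IsScalarTower.of_algebraMap_eq' f.comp_algebraMap.symm
  let e : B' ⊗[A] (A ⊗[R] H) ≃ₐ[B'] B' ⊗[R] H :=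
    Algebra.TensorProduct.cancelBaseChange R A B' B' H
  refine (CommRingCat.isPushout_tensorProduct A B' (A ⊗[R] H)).of_iso (Iso.refl _) (Iso.refl _)
    (Iso.refl _) e.toRingEquiv.toCommRingCatIso ?_ ?_ ?_ ?_
  · rfl
  · rfl
  · ext b
    show e (b ⊗ₜ[A] (1 : A ⊗[R] H)) = b ⊗ₜ[R] 1
    rw [Algebra.TensorProduct.one_def]
    simp [e]
  · apply CommRingCat.hom_ext
    apply RingHom.ext
    intro x
    induction x using TensorProduct.induction_on with
    | zero => simp
    | add x y hx hy => simp only [map_add, hx, hy]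
    | tmul a h =>
      show e ((1 : B') ⊗ₜ[A] (a ⊗ₜ[R] h)) = f a ⊗ₜ[R] h
      simp [e, Algebra.smul_def]
      rfl

end pushout


section shear

variable (R : Type u) [CommRing R] (H : Type v) [CommRing H] [HopfAlgebra R H]

open Groth.Agent.Lib.Helper7.Deligne in
theorem shear_eq : Groth.Agent.Lib.Helper7.Deligne.shear R H =
    Algebra.TensorProduct.lift Algebra.TensorProduct.includeLeft (Bialgebra.comulAlgHom R H)
      (fun _ _ => Commute.all _ _) := by
  unfold Groth.Agent.Lib.Helper7.Deligne.shear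
  congr 1
  apply AlgHom.ext
  intro c
  rw [Lp, Rp, AlgHom.convMul_apply]
  simp

/-- the shear automorphism `h ⊗ h' ↦ (h ⊗ 1) Δ(h')` of `H ⊗ H`. -/
noncomputable def shearEquiv : H ⊗[R] H ≃ₐ[R] H ⊗[R] H :=
  AlgEquiv.ofAlgHom (Groth.Agent.Lib.Helper7.Deligne.shear R H)
    (Groth.Agent.Lib.Helper7.Deligne.shearInv R H)
    (Groth.Agent.Lib.Helper7.Deligne.shear_comp_shearInv R H)
    (Groth.Agent.Lib.Helper7.Deligne.shearInv_comp_shear R H)

theorem shearEquiv_tmul_one (h : H) : shearEquiv R H (h ⊗ₜ[R] 1) = h ⊗ₜ[R] 1 := by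
  show Groth.Agent.Lib.Helper7.Deligne.shear R H (h ⊗ₜ[R] 1) = _
  rw [shear_eq]
  simp

theorem shearEquiv_one_tmul (h : H) : shearEquiv R H (1 ⊗ₜ[R] h) = Coalgebra.comul (R := R) h := by
  show Groth.Agent.Lib.Helper7.Deligne.shear R H (1 ⊗ₜ[R] h) = _
  rw [shear_eq]
  simp [← Algebra.TensorProduct.one_def]

theorem shearEquiv_tmul (h h' : H) :
    shearEquiv R H (h ⊗ₜ[R] h') = (h ⊗ₜ[R] 1) * Coalgebra.comul (R := R) h' := by
  show Groth.Agent.Lib.Helper7.Deligne.shear R H (h ⊗ₜ[R] h') = _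
  rw [shear_eq]
  simp

end shear


section data

variable (R : Type u) [CommRing R] (A : Type v) [CommRing A] [HopfAlgebra R A]
  (I : Ideal A) [I.IsHopfIdeal R]

/-- the quotient map as an algebra map -/
noncomputable abbrev qm : A →ₐ[R] A ⧸ I := Ideal.Quotient.mkₐ R I

/-- source: `a ↦ a ⊗ 1` -/
noncomputable def sA : A →ₐ[R] A ⊗[R] (A ⧸ I) := Algebra.TensorProduct.includeLeft

/-- target: `a ↦ (id ⊗ π) Δ a` -/
noncomputable def tA : A →ₐ[R] A ⊗[R] (A ⧸ I) :=
  (Algebra.TensorProduct.map (AlgHom.id R A) (qm R A I)).comp (Bialgebra.comulAlgHom R A)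

/-- identity: `a ⊗ h ↦ a ε(h)` -/
noncomputable def eA : A ⊗[R] (A ⧸ I) →ₐ[R] A :=
  Algebra.TensorProduct.lift (AlgHom.id R A)
    ((Algebra.ofId R A).comp (Bialgebra.counitAlgHom R (A ⧸ I))) (fun _ _ => Commute.all _ _)

noncomputable def p2A : A ⊗[R] (A ⧸ I) →ₐ[R] (A ⊗[R] (A ⧸ I)) ⊗[R] (A ⧸ I) :=
  Algebra.TensorProduct.includeLeft

noncomputable def p1A : A ⊗[R] (A ⧸ I) →ₐ[R] (A ⊗[R] (A ⧸ I)) ⊗[R] (A ⧸ I) :=
  Algebra.TensorProduct.map (tA R A I) (AlgHom.id R (A ⧸ I))

noncomputable def cA : A ⊗[R] (A ⧸ I) →ₐ[R] (A ⊗[R] (A ⧸ I)) ⊗[R] (A ⧸ I) :=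
  (Algebra.TensorProduct.assoc R R R A (A ⧸ I) (A ⧸ I)).symm.toAlgHom.comp
    (Algebra.TensorProduct.map (AlgHom.id R A) (Bialgebra.comulAlgHom R (A ⧸ I)))

theorem eA_sA (a : A) : eA R A I (sA R A I a) = a := by
  simp [eA, sA]

theorem counit_qm (a : A) : Coalgebra.counit (R := R) (qm R A I a) = Coalgebra.counit (R := R) a :=
  rfl

theorem comul_qm (a : A) : Coalgebra.comul (R := R) (qm R A I a) =
    TensorProduct.map (qm R A I).toLinearMap (qm R A I).toLinearMap (Coalgebra.comul (R := R) a) :=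
  rfl

theorem eA_map (y : A ⊗[R] A) :
    eA R A I (Algebra.TensorProduct.map (AlgHom.id R A) (qm R A I) y) =
      TensorProduct.rid R A (Coalgebra.counit.lTensor A y) := by
  induction y using TensorProduct.induction_on with
  | zero => simp
  | add x y hx hy => simp only [map_add, hx, hy]
  | tmul a a' =>
    simp [eA, counit_qm, Algebra.smul_def, mul_comm]

theorem eA_tA (a : A) : eA R A I (tA R A I a) = a := by
  show eA R A I (Algebra.TensorProduct.map (AlgHom.id R A) (qm R A I) (Coalgebra.comul (R := R) a)) = a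
  rw [eA_map, Coalgebra.lTensor_counit_comul]
  simp

/-- `(π ⊗ π) ⊗ π`-type map `(A ⊗ A) ⊗ A → (A ⊗ H) ⊗ H`. -/
noncomputable def F2 : (A ⊗[R] A) ⊗[R] A →ₗ[R] (A ⊗[R] (A ⧸ I)) ⊗[R] (A ⧸ I) :=
  TensorProduct.map (TensorProduct.map LinearMap.id (qm R A I).toLinearMap) (qm R A I).toLinearMap

theorem p1A_map (y : A ⊗[R] A) :
    p1A R A I (Algebra.TensorProduct.map (AlgHom.id R A) (qm R A I) y) =
      F2 R A I (Coalgebra.comul.rTensor A y) := by
  induction y using TensorProduct.induction_on with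
  | zero => simp
  | add x y hx hy => simp only [map_add, hx, hy]
  | tmul a a' =>
    simp only [Algebra.TensorProduct.map_tmul, AlgHom.coe_id, id_eq, p1A, F2,
      LinearMap.rTensor_tmul, TensorProduct.map_tmul, AlgHom.toLinearMap_apply]
    rfl

theorem cA_map_aux (a : A) (z : A ⊗[R] A) :
    (TensorProduct.assoc R A (A ⧸ I) (A ⧸ I)).symm
      (a ⊗ₜ[R] TensorProduct.map (qm R A I).toLinearMap (qm R A I).toLinearMap z) =
    F2 R A I ((TensorProduct.assoc R A A A).symm (a ⊗ₜ[R] z)) := by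
  induction z using TensorProduct.induction_on with
  | zero => simp
  | add x y hx hy => simp only [map_add, TensorProduct.tmul_add, hx, hy]
  | tmul b c => simp [F2]

theorem cA_map (y : A ⊗[R] A) :
    cA R A I (Algebra.TensorProduct.map (AlgHom.id R A) (qm R A I) y) =
      F2 R A I ((TensorProduct.assoc R A A A).symm (Coalgebra.comul.lTensor A y)) := by
  induction y using TensorProduct.induction_on with
  | zero => simp
  | add x y hx hy => simp only [map_add, hx, hy]
  | tmul a a' =>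
    have h1 : cA R A I (Algebra.TensorProduct.map (AlgHom.id R A) (qm R A I) (a ⊗ₜ[R] a')) =
        (TensorProduct.assoc R A (A ⧸ I) (A ⧸ I)).symm
          (a ⊗ₜ[R] Coalgebra.comul (R := R) (qm R A I a')) := by
      simp [cA]
      rfl
    rw [h1, comul_qm, cA_map_aux]
    simp

theorem cA_tA (a : A) : cA R A I (tA R A I a) = p1A R A I (tA R A I a) := by
  show cA R A I (Algebra.TensorProduct.map (AlgHom.id R A) (qm R A I) (Coalgebra.comul (R := R) a)) =
    p1A R A I (Algebra.TensorProduct.map (AlgHom.id R A) (qm R A I) (Coalgebra.comul (R := R) a))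
  rw [cA_map, p1A_map, Coalgebra.coassoc_symm_apply]

/-- the automorphism of `(A ⊗ H) ⊗ H` induced by the shear map of `H`. -/
noncomputable def sigma :
    (A ⊗[R] (A ⧸ I)) ⊗[R] (A ⧸ I) ≃ₐ[R] (A ⊗[R] (A ⧸ I)) ⊗[R] (A ⧸ I) :=
  ((Algebra.TensorProduct.assoc R R R A (A ⧸ I) (A ⧸ I)).trans
    (Algebra.TensorProduct.congr AlgEquiv.refl (shearEquiv R (A ⧸ I)))).trans
    (Algebra.TensorProduct.assoc R R R A (A ⧸ I) (A ⧸ I)).symm

theorem sigma_p2A (b : A ⊗[R] (A ⧸ I)) : sigma R A I (p2A R A I b) = p2A R A I b := by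
  induction b using TensorProduct.induction_on with
  | zero => simp
  | add x y hx hy => simp only [map_add, hx, hy]
  | tmul a h =>
    simp [sigma, p2A, shearEquiv_tmul_one]

theorem sigma_map_sA (b : A ⊗[R] (A ⧸ I)) :
    sigma R A I (Algebra.TensorProduct.map (sA R A I) (AlgHom.id R (A ⧸ I)) b) = cA R A I b := by
  induction b using TensorProduct.induction_on with
  | zero => simp
  | add x y hx hy => simp only [map_add, hx, hy]
  | tmul a h =>
    simp [sigma, sA, cA, shearEquiv_one_tmul]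

theorem leftAlgebra_eq :
    (Algebra.TensorProduct.includeLeftRingHom : A →+* A ⊗[R] (A ⧸ I)).toAlgebra =
      (Algebra.TensorProduct.leftAlgebra : Algebra A (A ⊗[R] (A ⧸ I))) :=
  Algebra.algebra_ext _ _ (fun _ => rfl)

/-- the groupoid data of `Spec (A/I)` acting on `Spec A` by right translation. -/
noncomputable def data [Module.Finite R (A ⧸ I)] [Module.Projective R (A ⧸ I)] :
    HA.Data A (A ⊗[R] (A ⧸ I)) ((A ⊗[R] (A ⧸ I)) ⊗[R] (A ⧸ I)) where
  s := Algebra.TensorProduct.includeLeftRingHom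
  t := (tA R A I).toRingHom
  e := (eA R A I).toRingHom
  p1 := (p1A R A I).toRingHom
  p2 := Algebra.TensorProduct.includeLeftRingHom
  c := (cA R A I).toRingHom
  es := eA_sA R A I
  et := eA_tA R A I
  sq1 := isPushout_map (H := A ⧸ I) (tA R A I)
  sq2 := by
    refine (isPushout_map (H := A ⧸ I) (sA R A I)).of_iso (Iso.refl _) (Iso.refl _) (Iso.refl _)
      (sigma R A I).toRingEquiv.toCommRingCatIso ?_ ?_ ?_ ?_
    · rfl
    · rfl
    · apply CommRingCat.hom_ext
      apply RingHom.ext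
      intro b
      exact sigma_p2A R A I b
    · apply CommRingCat.hom_ext
      apply RingHom.ext
      intro b
      exact sigma_map_sA R A I b
  ct := cA_tA R A I
  fin := by
    rw [leftAlgebra_eq]
    infer_instance
  proj := by
    rw [leftAlgebra_eq]
    infer_instance

variable [Module.Finite R (A ⧸ I)] [Module.Projective R (A ⧸ I)]

theorem map_shear_mem (x : A ⊗[R] A) :
    Algebra.TensorProduct.map (AlgHom.id R A) (qm R A I) (shearEquiv R A x) ∈
      Submodule.span A (Set.range (tA R A I)) := by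
  induction x using TensorProduct.induction_on with
  | zero => simp
  | add x y hx hy =>
    simp only [map_add]
    exact Submodule.add_mem _ hx hy
  | tmul a a' =>
    rw [shearEquiv_tmul, map_mul]
    have h1 : Algebra.TensorProduct.map (AlgHom.id R A) (qm R A I) (a ⊗ₜ[R] (1 : A)) *
        Algebra.TensorProduct.map (AlgHom.id R A) (qm R A I) (Coalgebra.comul (R := R) a') =
        a • (tA R A I) a' := by
      have h2 : ∀ y : A ⊗[R] (A ⧸ I), a • y = (a ⊗ₜ[R] (1 : A ⧸ I)) * y := by
        intro y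
        induction y using TensorProduct.induction_on with
        | zero => simp
        | add x y hx hy => rw [smul_add, mul_add, hx, hy]
        | tmul b c => simp [TensorProduct.smul_tmul']
      rw [h2]
      congr 1
    rw [h1]
    exact Submodule.smul_mem _ _ (Submodule.subset_span ⟨a', rfl⟩)

theorem gen_std : Submodule.span A (Set.range (tA R A I)) = ⊤ := by
  rw [eq_top_iff]
  intro b _
  have hsurj : Function.Surjective
      (Algebra.TensorProduct.map (AlgHom.id R A) (qm R A I)) := by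
    have := TensorProduct.map_surjective (R := R) (g := (LinearMap.id : A →ₗ[R] A))
      (g' := (qm R A I).toLinearMap) Function.surjective_id Ideal.Quotient.mk_surjective
    intro b
    obtain ⟨y, hy⟩ := this b
    exact ⟨y, hy⟩
  obtain ⟨y, rfl⟩ := hsurj b
  obtain ⟨x, rfl⟩ := (shearEquiv R A).surjective y
  exact map_shear_mem R A I x

theorem gen : (data R A I).Gen := by
  unfold HA.Data.Gen
  have h := leftAlgebra_eq R A I
  show @Submodule.span A (A ⊗[R] (A ⧸ I)) _ _ (@Algebra.toModule _ _ _ _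
    (Algebra.TensorProduct.includeLeftRingHom : A →+* A ⊗[R] (A ⧸ I)).toAlgebra)
    (Set.range (tA R A I)) = ⊤
  rw [h]
  exact gen_std R A I

theorem mem_inv_iff (a : A) : a ∈ (data R A I).inv ↔
    a ∈ AlgHom.equalizer
      ((Algebra.TensorProduct.map (AlgHom.id R A) (Ideal.Quotient.mkₐ R I)).comp
        (Bialgebra.comulAlgHom R A))
      (Algebra.TensorProduct.includeLeft : A →ₐ[R] A ⊗[R] (A ⧸ I)) := by
  rw [HA.Data.mem_inv, AlgHom.mem_equalizer]
  exact eq_comm

end data

end Groth.Agent.Lib.Helper20.HF
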