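import Mathlib
import Groth.Agent.Lib.Helper20.HF1

set_option autoImplicit false
set_option linter.style.haveILetI false
set_option linter.unusedSimpArgs false
set_option linter.unusedSectionVars false
universe u v
open CategoryTheory CategoryTheory.Limits TensorProduct

namespace Groth.Agent.Lib.Helper20.HF

section rank

theorem finrank_quotient_tensor {S : Type*} [CommRing S] (M : Type*) [AddCommGroup M] [Module S M]
    [Module.Finite S M] [Module.Flat S M] (m : Ideal S) [hm : m.IsMaximal] :
    Module.finrank (S ⧸ m) ((S ⧸ m) ⊗[S] M) = Module.rankAtStalk M ⟨m, hm.isPrime⟩ := by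
  letI : Field (S ⧸ m) := Ideal.Quotient.field m
  rw [Module.rankAtStalk_eq]
  let e : m.ResidueField ⊗[S ⧸ m] ((S ⧸ m) ⊗[S] M) ≃ₗ[m.ResidueField] m.ResidueField ⊗[S] M :=
    AlgebraTensorModule.cancelBaseChange S (S ⧸ m) m.ResidueField m.ResidueField M
  show _ = Module.finrank m.ResidueField (m.ResidueField ⊗[S] M)
  rw [← e.finrank_eq]
  exact (Module.finrank_baseChange (R := m.ResidueField) (S := S ⧸ m)
    (M' := (S ⧸ m) ⊗[S] M)).symm

attribute [local instance] Algebra.TensorProduct.rightAlgebra in
theorem rankAtStalk_trans {R E A : Type*} [CommRing R] [CommRing E] [CommRing A] [Algebra R E]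
    [Algebra E A] [Algebra R A] [IsScalarTower R E A] [Module.Finite R E] [Module.Flat R E]
    [Module.Finite E A] [Module.Flat E A] (q : PrimeSpectrum R) (n : ℕ)
    (hn : ∀ P : PrimeSpectrum E, P.comap (algebraMap R E) = q → Module.rankAtStalk A P = n) :
    Module.rankAtStalk (R := R) A q = n * Module.rankAtStalk (R := R) E q := by
  haveI : Module.Finite R A := Module.Finite.trans E A
  haveI : Module.Flat R A := Module.Flat.trans R E A
  have rk : ∀ P : MaximalSpectrum (q.asIdeal.ResidueField ⊗[R] E),
      Module.finrank ((q.asIdeal.ResidueField ⊗[R] E) ⧸ P.1)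
        (((q.asIdeal.ResidueField ⊗[R] E) ⧸ P.1) ⊗[q.asIdeal.ResidueField ⊗[R] E]
          ((q.asIdeal.ResidueField ⊗[R] E) ⊗[E] A)) = n := by
    intro P
    haveI := P.2
    rw [finrank_quotient_tensor, Module.rankAtStalk_baseChange]
    apply hn
    apply PrimeSpectrum.ext
    haveI : P.1.IsPrime := P.2.isPrime
    have h1 : P.1.LiesOver q.asIdeal := inferInstance
    have h2 := h1.over
    refine Eq.trans ?_ h2.symm
    show Ideal.comap (algebraMap R E) (Ideal.comap (algebraMap E _) P.1) = Ideal.comap _ P.1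
    rw [Ideal.comap_comap]
    congr 1
    ext r
    simp [Algebra.TensorProduct.algebraMap_apply, Algebra.algebraMap_eq_smul_one, TensorProduct.smul_tmul]
  haveI : IsArtinianRing (q.asIdeal.ResidueField ⊗[R] E) :=
    IsArtinianRing.of_finite q.asIdeal.ResidueField _
  obtain ⟨b⟩ := Module.nonempty_basis_of_flat_of_finrank_eq (q.asIdeal.ResidueField ⊗[R] E)
    ((q.asIdeal.ResidueField ⊗[R] E) ⊗[E] A) n rk
  haveI : Module.Free (q.asIdeal.ResidueField ⊗[R] E) ((q.asIdeal.ResidueField ⊗[R] E) ⊗[E] A) :=
    Module.Free.of_basis b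
  let e : ((q.asIdeal.ResidueField ⊗[R] E) ⊗[E] A) ≃ₗ[q.asIdeal.ResidueField]
      q.asIdeal.ResidueField ⊗[R] A :=
    Algebra.IsPushout.cancelBaseChange R q.asIdeal.ResidueField E _ A
  rw [Module.rankAtStalk_eq, Module.rankAtStalk_eq]
  show Module.finrank q.asIdeal.ResidueField (q.asIdeal.ResidueField ⊗[R] A) =
    n * Module.finrank q.asIdeal.ResidueField (q.asIdeal.ResidueField ⊗[R] E)
  rw [← e.finrank_eq]
  rcases subsingleton_or_nontrivial (q.asIdeal.ResidueField ⊗[R] E) with hs | hnt
  · haveI : Subsingleton ((q.asIdeal.ResidueField ⊗[R] E) ⊗[E] A) :=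
      Module.subsingleton (q.asIdeal.ResidueField ⊗[R] E) _
    rw [Module.finrank_zero_of_subsingleton, Module.finrank_zero_of_subsingleton, mul_zero]
  · have h1 : Module.finrank (q.asIdeal.ResidueField ⊗[R] E)
        ((q.asIdeal.ResidueField ⊗[R] E) ⊗[E] A) = n := by
      rw [Module.finrank_eq_card_basis b]; simp
    rw [← Module.finrank_mul_finrank q.asIdeal.ResidueField
      (q.asIdeal.ResidueField ⊗[R] E) ((q.asIdeal.ResidueField ⊗[R] E) ⊗[E] A), h1, mul_comm]

end rank

section generic

variable {A B P : Type v} [CommRing A] [CommRing B] [CommRing P] (D : HA.Data A B P)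

attribute [local instance] HA.Data.algB HA.Data.algP

theorem exists_ringEquiv (hgen : D.Gen) :
    ∃ e : A ⊗[D.inv] A ≃+* B, ∀ a a', e (a ⊗ₜ[D.inv] a') = D.s a * D.t a' := by
  refine ⟨RingEquiv.ofBijective D.mu.toRingHom (D.mu_bijective hgen), fun a a' => ?_⟩
  show D.mu (a ⊗ₜ[D.inv] a') = _
  simp [HA.Data.mu]

/-- the pushout square `A ⊗_C A ≅ B` in `CommRingCat`. -/
theorem isPushout_inv (hgen : D.Gen) :
    IsPushout (CommRingCat.ofHom (algebraMap D.inv A))
      (CommRingCat.ofHom (algebraMap D.inv A))
      (CommRingCat.ofHom D.s) (CommRingCat.ofHom D.t) := by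
  obtain ⟨e, he⟩ := exists_ringEquiv D hgen
  refine (CommRingCat.isPushout_tensorProduct D.inv A A).of_iso (Iso.refl _) (Iso.refl _)
    (Iso.refl _) e.toCommRingCatIso ?_ ?_ ?_ ?_
  · rfl
  · rfl
  · apply CommRingCat.hom_ext
    apply RingHom.ext
    intro a
    show e (a ⊗ₜ[D.inv] 1) = D.s a
    rw [he]
    simp
  · apply CommRingCat.hom_ext
    apply RingHom.ext
    intro a
    show e (1 ⊗ₜ[D.inv] a) = D.t a
    rw [he]
    simp

end generic

section

variable (R : Type u) [CommRing R] (A : Type v) [CommRing A] [HopfAlgebra R A]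
  (I : Ideal A) [I.IsHopfIdeal R] [Module.Finite R (A ⧸ I)] [Module.Projective R (A ⧸ I)]

theorem rankAtStalk_inv (q : PrimeSpectrum A) :
    Module.rankAtStalk (R := (data R A I).inv) A (q.comap (algebraMap (data R A I).inv A)) =
      Module.rankAtStalk (R := R) (A ⧸ I) (q.comap (algebraMap R A)) := by
  let D := data R A I
  haveI := D.flat_inv (gen R A I)
  haveI := D.finite_inv (gen R A I)
  have h := CommRingCat.finrank_eq_of_isPushout (isPushout_inv D (gen R A I)).flip
    ((RingHom.flat_algebraMap_iff).mpr inferInstance)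
    ((RingHom.finite_algebraMap).mpr inferInstance) q
  simp only [CommRingCat.hom_ofHom, RingHom.finrank_algebraMap] at h
  rw [← h]
  show @Module.rankAtStalk A (A ⊗[R] (A ⧸ I)) _ _
    (@Algebra.toModule _ _ _ _
      (Algebra.TensorProduct.includeLeftRingHom : A →+* A ⊗[R] (A ⧸ I)).toAlgebra) q = _
  rw [leftAlgebra_eq]
  exact Module.rankAtStalk_baseChange q

/-- the subalgebra of functions invariant under right translation by `Spec (A/I)`. -/
noncomputable abbrev invAlg : Subalgebra R A :=
  AlgHom.equalizer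
    ((Algebra.TensorProduct.map (AlgHom.id R A) (Ideal.Quotient.mkₐ R I)).comp
      (Bialgebra.comulAlgHom R A))
    (Algebra.TensorProduct.includeLeft : A →ₐ[R] A ⊗[R] (A ⧸ I))

theorem toSubring_invAlg : (invAlg R A I).toSubring = (data R A I).inv := by
  apply Subring.ext
  intro a
  rw [Subalgebra.mem_toSubring]
  exact (mem_inv_iff R A I a).symm

theorem flat_of_eq (S : Subring A) (hS : S = (data R A I).inv) : Module.Flat S A := by
  subst hS
  exact (data R A I).flat_inv (gen R A I)

theorem finite_of_eq (S : Subring A) (hS : S = (data R A I).inv) : Module.Finite S A := by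
  subst hS
  exact (data R A I).finite_inv (gen R A I)

theorem faithfullyFlat_of_eq (S : Subring A) (hS : S = (data R A I).inv) :
    Module.FaithfullyFlat S A := by
  subst hS
  exact (data R A I).faithfullyFlat_inv (gen R A I)

theorem rankAtStalk_of_eq (S : Subring A) (hS : S = (data R A I).inv) (q : PrimeSpectrum A) :
    Module.rankAtStalk (R := S) A (q.comap (algebraMap S A)) =
      Module.rankAtStalk (R := R) (A ⧸ I) (q.comap (algebraMap R A)) := by
  subst hS
  exact rankAtStalk_inv R A I q

theorem flat_invAlg : Module.Flat (invAlg R A I) A :=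
  flat_of_eq R A I (invAlg R A I).toSubring (toSubring_invAlg R A I)

theorem finite_invAlg : Module.Finite (invAlg R A I) A :=
  finite_of_eq R A I (invAlg R A I).toSubring (toSubring_invAlg R A I)

theorem faithfullyFlat_invAlg : Module.FaithfullyFlat (invAlg R A I) A :=
  faithfullyFlat_of_eq R A I (invAlg R A I).toSubring (toSubring_invAlg R A I)

theorem rankAtStalk_invAlg (q : PrimeSpectrum A) :
    Module.rankAtStalk (R := invAlg R A I) A (q.comap (algebraMap (invAlg R A I) A)) =
      Module.rankAtStalk (R := R) (A ⧸ I) (q.comap (algebraMap R A)) :=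
  rankAtStalk_of_eq R A I (invAlg R A I).toSubring (toSubring_invAlg R A I) q

/-- the rank of `A` over the invariants at any prime `P` is the rank of `A/I` over `R` at the
contraction of `P`. -/
theorem rankAtStalk_invAlg' (P : PrimeSpectrum (invAlg R A I)) :
    Module.rankAtStalk (R := invAlg R A I) A P =
      Module.rankAtStalk (R := R) (A ⧸ I) (P.comap (algebraMap R (invAlg R A I))) := by
  haveI := faithfullyFlat_invAlg R A I
  obtain ⟨q, rfl⟩ := PrimeSpectrum.comap_surjective_of_faithfullyFlat (A := invAlg R A I) (B := A) P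
  rw [rankAtStalk_invAlg]
  congr 1

end

end Groth.Agent.Lib.Helper20.HF
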