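import Mathlib
import Groth.Agent.Lib.Helper20.HF2

set_option autoImplicit false
set_option linter.style.haveILetI false
set_option linter.unusedSimpArgs false
set_option linter.unusedSectionVars false
universe u v
open CategoryTheory CategoryTheory.Limits TensorProduct

namespace Groth.Agent.Lib.Helper20.HF

/-- flatness descends to the source of a faithfully flat ring map. -/
theorem flat_of_faithfullyFlat_of_flat (R E A : Type*) [CommRing R] [CommRing E] [CommRing A]
    [Algebra R E] [Algebra E A] [Algebra R A] [IsScalarTower R E A] [Module.FaithfullyFlat E A]
    [Module.Flat R A] : Module.Flat R E := by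
  rw [Module.Flat.iff_lTensor_preserves_injective_linearMap]
  intro N P _ _ _ _ f hf
  let g : E ⊗[R] N →ₗ[E] E ⊗[R] P := f.baseChange E
  have hg : ⇑g = ⇑(LinearMap.lTensor E f) := rfl
  rw [← hg, ← Module.FaithfullyFlat.lTensor_injective_iff_injective E A]
  have hA : Function.Injective (LinearMap.lTensor A f) :=
    Module.Flat.lTensor_preserves_injective_linearMap f hf
  have key : ∀ x : A ⊗[E] (E ⊗[R] N),
      AlgebraTensorModule.cancelBaseChange R E E A P (LinearMap.lTensor A g x) =
        LinearMap.lTensor A f (AlgebraTensorModule.cancelBaseChange R E E A N x) := by
    intro x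
    induction x using TensorProduct.induction_on with
    | zero => simp
    | add x y hx hy => simp only [map_add, hx, hy]
    | tmul a y =>
      induction y using TensorProduct.induction_on with
      | zero => simp
      | add x y hx hy => simp only [map_add, TensorProduct.tmul_add, hx, hy]
      | tmul e n => simp [g]
  intro x y hxy
  apply (AlgebraTensorModule.cancelBaseChange R E E A N).injective
  apply hA
  rw [← key, ← key, hxy]

end Groth.Agent.Lib.Helper20.HF
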