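import Mathlib
import Groth.Agent.Helper19.FittLib5

/-!
# HG1: Fitting ideals of finite ring maps, base change along pushouts, kernels of pushouts
-/

set_option autoImplicit false
universe u
open CategoryTheory CategoryTheory.Limits TensorProduct

namespace Groth.Agent.Lib.Helper20.HG
open Groth.Agent.Helper19.FittLib

/-- The `r`-th Fitting ideal of the target of a ring map, seen as a module over the source. -/
noncomputable def fittHom {A B : Type u} [CommRing A] [CommRing B] (φ : A →+* B) (r : ℕ) :
    Ideal A :=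
  letI := φ.toAlgebra
  Fitt.ideal A B r

lemma fittHom_algebraMap (A B : Type u) [CommRing A] [CommRing B] [Algebra A B] (r : ℕ) :
    fittHom (algebraMap A B) r = Fitt.ideal A B r := by
  have h : (algebraMap A B).toAlgebra = ‹Algebra A B› := Algebra.algebra_ext _ _ (fun _ => rfl)
  unfold fittHom
  rw [h]

/-- Fitting ideals commute with base change, `Algebra.IsPushout` form. -/
lemma fitt_isPushout (A A' B B' : Type u) [CommRing A] [CommRing A'] [CommRing B] [CommRing B']
    [Algebra A A'] [Algebra A B] [Algebra A' B'] [Algebra B B'] [Algebra A B']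
    [IsScalarTower A A' B'] [IsScalarTower A B B'] [Algebra.IsPushout A A' B B']
    [Module.Finite A B] (r : ℕ) :
    Fitt.ideal A' B' r = (Fitt.ideal A B r).map (algebraMap A A') := by
  have hb : IsBaseChange A' (IsScalarTower.toAlgHom A B B').toLinearMap :=
    Algebra.IsPushout.out
  rw [← ideal_baseChange (R' := A') (M := B) r]
  exact (ideal_congr hb.equiv r).symm

/-- Fitting ideals commute with base change, `CommRingCat` pushout form. -/
lemma fittHom_of_isPushout {A A' B B' : CommRingCat.{u}} {α : A ⟶ A'} {φ : A ⟶ B}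
    {φ' : A' ⟶ B'} {β : B ⟶ B'} (H : IsPushout α φ φ' β) (hφ : φ.hom.Finite) (r : ℕ) :
    fittHom φ'.hom r = (fittHom φ.hom r).map α.hom := by
  algebraize [α.hom, φ.hom, φ'.hom, β.hom, (φ'.hom.comp α.hom)]
  have t1 : IsScalarTower A A' B' := IsScalarTower.of_algebraMap_eq' rfl
  have t2 : IsScalarTower A B B' := IsScalarTower.of_algebraMap_eq' (by
    change φ'.hom.comp α.hom = β.hom.comp φ.hom
    rw [← CommRingCat.hom_comp, ← CommRingCat.hom_comp, H.w])
  have hP : Algebra.IsPushout A A' B B' := CommRingCat.isPushout_iff_isPushout.mp H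
  exact fitt_isPushout A A' B B' r

/-- The kernel of the base change of a surjection is the extended ideal. -/
lemma ker_of_isPushout {A A' B B' : CommRingCat.{u}} {α : A ⟶ A'} {φ : A ⟶ B}
    {φ' : A' ⟶ B'} {β : B ⟶ B'} (H : IsPushout α φ φ' β) (hφ : Function.Surjective φ.hom) :
    RingHom.ker φ'.hom = (RingHom.ker φ.hom).map α.hom := by
  apply le_antisymm
  · -- use the universal property: map B' to A' / (ker φ) A'
    set J : Ideal A' := (RingHom.ker φ.hom).map α.hom with hJ
    -- the map B → A'/J
    have hle : RingHom.ker φ.hom ≤ RingHom.ker ((Ideal.Quotient.mk J).comp α.hom) := by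
      intro x hx
      rw [RingHom.mem_ker, RingHom.comp_apply, Ideal.Quotient.eq_zero_iff_mem]
      exact Ideal.mem_map_of_mem _ hx
    let ψ : B →+* A' ⧸ J := RingHom.liftOfSurjective φ.hom hφ ⟨_, hle⟩
    have hψ : ψ.comp φ.hom = (Ideal.Quotient.mk J).comp α.hom :=
      RingHom.liftOfSurjective_comp _ hφ _
    let d : B' ⟶ CommRingCat.of (A' ⧸ J) :=
      H.desc (CommRingCat.ofHom (Ideal.Quotient.mk J)) (CommRingCat.ofHom ψ) (by
        ext x
        exact (congrFun (congrArg DFunLike.coe hψ) x).symm)
    have hd : φ' ≫ d = CommRingCat.ofHom (Ideal.Quotient.mk J) := H.inl_desc _ _ _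
    intro x hx
    have h1 : (φ' ≫ d).hom x = 0 := by
      rw [CommRingCat.hom_comp, RingHom.comp_apply, (RingHom.mem_ker).mp hx, map_zero]
    rw [hd] at h1
    exact Ideal.Quotient.eq_zero_iff_mem.mp h1
  · rw [Ideal.map_le_iff_le_comap]
    intro x hx
    rw [Ideal.mem_comap, RingHom.mem_ker, ← RingHom.comp_apply, ← CommRingCat.hom_comp, H.w,
      CommRingCat.hom_comp, RingHom.comp_apply, (RingHom.mem_ker).mp hx, map_zero]

end Groth.Agent.Lib.Helper20.HG
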