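import Mathlib
import Groth.Agent.Lib.Helper20.HG1

/-!
# HG2: a finite module with `Fit_k = 0`, `Fit_{k+1} = 1` is locally free of rank `k+1`
-/

set_option autoImplicit false
set_option linter.style.haveILetI false
universe u
open CategoryTheory CategoryTheory.Limits TensorProduct

namespace Groth.Agent.Lib.Helper20.HG
open Groth.Agent.Helper19.FittLib

section ringLevel

variable (R M : Type u) [CommRing R] [AddCommGroup M] [Module R M] [Module.Finite R M]

/-- local bases on a basic open around any prime -/
lemma exists_basis_away (k : ℕ) (h0 : Fitt.ideal R M k = ⊥) (h1 : Fitt.ideal R M (k + 1) = ⊤)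
    (p : Ideal R) [p.IsPrime] :
    ∃ d : R, d ∉ p ∧ Nonempty (Module.Basis (Fin (k + 1)) (Localization.Away d)
      (LocalizedModule.Away d M)) := by
  obtain ⟨n, x, hx⟩ := Module.Finite.exists_fin (R := R) (M := M)
  have hnot : ¬ Fitt.ideal R M (k + 1) ≤ p := by
    rw [h1]
    intro h
    exact Ideal.IsPrime.ne_top inferInstance (top_le_iff.mp h)
  obtain ⟨z, e, hz, he, hd⟩ := exists_minor_notMem x hx (k + 1) p hnot
  refine ⟨minor z e, hd, ?_⟩
  obtain ⟨g, hg⟩ := exists_span_localized x hx (k + 1) z e hz he (Submonoid.powers (minor z e))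
    (Submonoid.mem_powers _)
  have hloc : Fitt.ideal (Localization (Submonoid.powers (minor z e)))
      (LocalizedModule (Submonoid.powers (minor z e)) M) k = ⊥ := by
    rw [ideal_localized, h0, Ideal.map_bot]
  have hli : LinearIndependent (Localization (Submonoid.powers (minor z e))) g :=
    linearIndependent_of_ideal_eq_bot g hg (Or.inr (by simpa using hloc))
  exact ⟨Module.Basis.mk hli (by rw [hg])⟩

/-- the set of `d` over which `M` becomes free of rank `k+1` -/
def freeSet (k : ℕ) : Set R :=
  {d | Nonempty (Module.Basis (Fin (k + 1)) (Localization.Away d) (LocalizedModule.Away d M))}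

lemma span_freeSet (k : ℕ) (h0 : Fitt.ideal R M k = ⊥) (h1 : Fitt.ideal R M (k + 1) = ⊤) :
    Ideal.span (freeSet R M k) = ⊤ := by
  by_contra hne
  obtain ⟨m, hm, hle⟩ := Ideal.exists_le_maximal _ hne
  haveI := hm.isPrime
  obtain ⟨d, hd, hb⟩ := exists_basis_away R M k h0 h1 m
  exact hd (hle (Ideal.subset_span hb))

theorem finitePresentation_of_fitt (k : ℕ) (h0 : Fitt.ideal R M k = ⊥)
    (h1 : Fitt.ideal R M (k + 1) = ⊤) : Module.FinitePresentation R M := by
  refine Module.FinitePresentation.of_localizationSpan (freeSet R M k) (span_freeSet R M k h0 h1) ?_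
  rintro ⟨d, ⟨b⟩⟩
  haveI : Module.Free (Localization.Away d) (LocalizedModule.Away d M) := Module.Free.of_basis b
  haveI : Module.Finite (Localization.Away d) (LocalizedModule.Away d M) := Module.Finite.of_basis b
  exact Module.finitePresentation_of_projective _ _

theorem flat_of_fitt (k : ℕ) (h0 : Fitt.ideal R M k = ⊥)
    (h1 : Fitt.ideal R M (k + 1) = ⊤) : Module.Flat R M := by
  refine Module.flat_of_localized_span R M (freeSet R M k) (span_freeSet R M k h0 h1) ?_
  rintro ⟨d, ⟨b⟩⟩
  haveI : Module.Free (Localization.Away d) (LocalizedModule.Away d M) := Module.Free.of_basis b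
  exact Module.Flat.trans R (Localization.Away d) (LocalizedModule.Away d M)

theorem rankAtStalk_of_fitt (k : ℕ) (h0 : Fitt.ideal R M k = ⊥)
    (h1 : Fitt.ideal R M (k + 1) = ⊤) (p : PrimeSpectrum R) :
    Module.rankAtStalk M p = k + 1 := by
  obtain ⟨d, hd, ⟨b⟩⟩ := exists_basis_away R M k h0 h1 p.asIdeal
  haveI := flat_of_fitt R M k h0 h1
  have hmem : p ∈ Set.range (PrimeSpectrum.comap (algebraMap R (Localization.Away d))) := by
    rw [PrimeSpectrum.localization_away_comap_range (Localization.Away d) d]
    exact hd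
  obtain ⟨P, rfl⟩ := hmem
  haveI : Module.Free (Localization.Away d) (LocalizedModule.Away d M) := Module.Free.of_basis b
  haveI : Nontrivial (Localization.Away d) := ⟨⟨0, 1, fun h => P.isPrime.ne_top
    ((Ideal.eq_top_iff_one _).mpr (h ▸ zero_mem _))⟩⟩
  rw [← Module.rankAtStalk_isBaseChange
    (IsLocalizedModule.isBaseChange (Submonoid.powers d) (Localization.Away d)
      (LocalizedModule.mkLinearMap (Submonoid.powers d) M)) P,
    Module.rankAtStalk_eq_finrank_of_free, Module.finrank_eq_card_basis b, Fintype.card_fin]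
  rfl

end ringLevel

end Groth.Agent.Lib.Helper20.HG
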