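import Mathlib
import Groth.Agent.Lib.Helper20.HG2

/-!
# HG3: the Fitting ideal sheaves of a finite morphism, and base change
-/

set_option autoImplicit false
set_option linter.style.haveILetI false
universe u
open CategoryTheory CategoryTheory.Limits AlgebraicGeometry

namespace Groth.Agent.Lib.Helper20.HG

variable {X Y X' Y' : Scheme.{u}}

/-- sections of an affine base change square form a pushout -/
lemma isPushout_app {π' : Y' ⟶ X'} {g : Y' ⟶ Y} {f : X' ⟶ X} {π : Y ⟶ X} [IsAffineHom π]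
    (H : IsPullback π' g f π) {V : X.Opens} (hV : IsAffineOpen V) {W : X'.Opens}
    (hW : IsAffineOpen W) (e : W ≤ f ⁻¹ᵁ V) :
    IsPushout (f.appLE V W e) (π.app V) (π'.app W)
      (g.appLE (π ⁻¹ᵁ V) (π' ⁻¹ᵁ W) (by
        intro x hx
        have h1 : (g ≫ π) x ∈ V := by
          rw [← H.w]
          exact e hx
        exact h1)) := by
  have hUY : π' ⁻¹ᵁ W = π' ⁻¹ᵁ W ⊓ g ⁻¹ᵁ (π ⁻¹ᵁ V) := by
    refine (inf_eq_left.mpr ?_).symm
    intro x hx
    have h1 : (g ≫ π) x ∈ V := by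
      rw [← H.w]
      exact e hx
    exact h1
  have h1 := (isIso_pushoutSection_iff H (US := V) (UT := π ⁻¹ᵁ V) (UX := W) le_rfl e
    (UY := π' ⁻¹ᵁ W) hUY).mp
    (isIso_pushoutSection_of_isAffineOpen H le_rfl e hUY hV (hV.preimage π) hW)
  rw [← Scheme.Hom.app_eq_appLE, ← Scheme.Hom.app_eq_appLE] at h1
  exact h1

/-- Fitting ideals of sections are compatible with base change. -/
lemma fittHom_app_of_isPullback {π' : Y' ⟶ X'} {g : Y' ⟶ Y} {f : X' ⟶ X} {π : Y ⟶ X}
    [IsFinite π] (H : IsPullback π' g f π) {V : X.Opens} (hV : IsAffineOpen V) {W : X'.Opens}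
    (hW : IsAffineOpen W) (e : W ≤ f ⁻¹ᵁ V) (r : ℕ) :
    fittHom (π'.app W).hom r = (fittHom (π.app V).hom r).map (f.appLE V W e).hom :=
  fittHom_of_isPushout (isPushout_app H hV hW e) (IsFinite.finite_app π V hV) r

/-- The `r`-th Fitting ideal sheaf of `π_* O_Y` for a finite morphism `π : Y ⟶ X`. -/
noncomputable def fit (π : Y ⟶ X) [IsFinite π] (r : ℕ) : X.IdealSheafData where
  ideal V := fittHom (π.app V.1).hom r
  map_ideal_basicOpen V f := by
    have H : IsPullback π (𝟙 Y) (𝟙 X) π := IsPullback.of_vert_isIso ⟨by simp⟩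
    have h1 := fittHom_app_of_isPullback H V.2 (V.2.basicOpen f)
      (show X.basicOpen f ≤ (𝟙 X) ⁻¹ᵁ V.1 from X.basicOpen_le f) r
    have h2 : (𝟙 X : X ⟶ X).appLE V.1 (X.basicOpen f) (X.basicOpen_le f) =
        X.presheaf.map (homOfLE (X.basicOpen_le f)).op := by
      simp [Scheme.Hom.appLE]
      exact Category.id_comp _
    rw [h2] at h1
    exact h1.symm

@[simp]
lemma fit_ideal (π : Y ⟶ X) [IsFinite π] (r : ℕ) (V : X.affineOpens) :
    (fit π r).ideal V = fittHom (π.app V.1).hom r := rfl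

/-- the ideal of a pulled-back ideal sheaf on small affine opens -/
lemma ideal_comap (I : X.IdealSheafData) (f : X' ⟶ X) (V : X.affineOpens) (W : X'.affineOpens)
    (e : W.1 ≤ f ⁻¹ᵁ V.1) :
    (I.comap f).ideal W = (I.ideal V).map (f.appLE V.1 W.1 e).hom := by
  have H : IsPullback (pullback.fst f I.subschemeι) (pullback.snd f I.subschemeι) f
      I.subschemeι := IsPullback.of_hasPullback _ _
  have hp := isPushout_app H V.2 W.2 e
  have hk := ker_of_isPushout hp (I.subschemeι_app_surjective V)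
  rw [Scheme.IdealSheafData.comap, Scheme.Hom.ker_apply, hk,
    Scheme.IdealSheafData.ker_subschemeι_app]

/-- small affine opens (mapping into an affine open of the target) cover the source -/
lemma iSup_small_affineOpens (f : X' ⟶ X) :
    ⨆ W : {W : X'.affineOpens // ∃ V : X.affineOpens, W.1 ≤ f ⁻¹ᵁ V.1}, (W.1.1 : X'.Opens) = ⊤ := by
  rw [eq_top_iff]
  intro x _
  obtain ⟨V, hV, hxV, -⟩ := (TopologicalSpace.Opens.isBasis_iff_nbhd.mp X.isBasis_affineOpens)
    (show f x ∈ (⊤ : X.Opens) from trivial)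
  obtain ⟨W, hW, hxW, hWV⟩ := (TopologicalSpace.Opens.isBasis_iff_nbhd.mp X'.isBasis_affineOpens)
    (show x ∈ f ⁻¹ᵁ V from hxV)
  exact TopologicalSpace.Opens.mem_iSup.mpr ⟨⟨⟨W, hW⟩, ⟨V, hV⟩, hWV⟩, hxW⟩

/-- Fitting ideal sheaves commute with base change. -/
theorem comap_fit {π' : Y' ⟶ X'} {g : Y' ⟶ Y} {f : X' ⟶ X} {π : Y ⟶ X} [IsFinite π] [IsFinite π']
    (H : IsPullback π' g f π) (r : ℕ) : (fit π r).comap f = fit π' r := by
  refine Scheme.IdealSheafData.ext_of_iSup_eq_top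
    (ι := {W : X'.affineOpens // ∃ V : X.affineOpens, W.1 ≤ f ⁻¹ᵁ V.1}) (fun W => W.1)
    (iSup_small_affineOpens f) ?_
  rintro ⟨W, V, e⟩
  rw [ideal_comap _ f V W e, fit_ideal, fit_ideal, fittHom_app_of_isPullback H V.2 W.2 e r]

end Groth.Agent.Lib.Helper20.HG
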