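import Mathlib
import Groth.Agent.Lib.Helper20.HG3
import Groth.Agent.Lib.Helper25.GrpdAlg

/-!
# HG4: invariance of the Fitting ideal sheaves of `s` under a groupoid with finite `s`
-/

set_option autoImplicit false
set_option linter.style.haveILetI false
universe u
open CategoryTheory CategoryTheory.Limits AlgebraicGeometry

namespace Groth.Agent.Lib.Helper20.HG

open Grpd Groth.Agent.Lib.Helper25.GrpdAlg

variable {S : Scheme.{u}} (G : GroupoidScheme S)

/-- `(a, b) ↦ (a, b ∘ a⁻¹)` from `R ×_{s,s} R` to `R ×_{t,s} R`. -/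
noncomputable def shearHom : pullback G.s G.s ⟶ pullback G.t G.s :=
  pullback.lift (pullback.fst G.s G.s)
    (comp G (pullback.snd G.s G.s) (pullback.fst G.s G.s ≫ G.i)
      (by rw [Category.assoc, G.i_t, pullback.condition]))
    (by rw [comp_s, Category.assoc, G.i_s])

/-- `(a, b) ↦ (a, b ∘ a)` from `R ×_{t,s} R` to `R ×_{s,s} R`. -/
noncomputable def shearInv : pullback G.t G.s ⟶ pullback G.s G.s :=
  pullback.lift (pullback.fst G.t G.s)
    (comp G (pullback.snd G.t G.s) (pullback.fst G.t G.s) pullback.condition.symm)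
    (by rw [comp_s])

@[reassoc (attr := simp)]
lemma shearHom_fst : shearHom G ≫ pullback.fst G.t G.s = pullback.fst G.s G.s :=
  pullback.lift_fst _ _ _

@[reassoc (attr := simp)]
lemma shearInv_fst : shearInv G ≫ pullback.fst G.s G.s = pullback.fst G.t G.s :=
  pullback.lift_fst _ _ _

lemma shearHom_snd : shearHom G ≫ pullback.snd G.t G.s =
    comp G (pullback.snd G.s G.s) (pullback.fst G.s G.s ≫ G.i)
      (by rw [Category.assoc, G.i_t, pullback.condition]) :=
  pullback.lift_snd _ _ _

lemma shearInv_snd : shearInv G ≫ pullback.snd G.s G.s =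
    comp G (pullback.snd G.t G.s) (pullback.fst G.t G.s) pullback.condition.symm :=
  pullback.lift_snd _ _ _

lemma shearHom_inv : shearHom G ≫ shearInv G = 𝟙 _ := by
  apply pullback.hom_ext
  · simp
  · rw [Category.assoc, shearInv_snd, precomp, Category.id_comp]
    have h1 : (pullback.fst G.s G.s ≫ G.i) ≫ G.s = pullback.fst G.s G.s ≫ G.t := by
      rw [Category.assoc, G.i_s]
    refine (comp_congr G (shearHom_snd G) (shearHom_fst G) _
      ((comp_s G _ _ _).trans h1)).trans ?_
    refine (assoc G (pullback.snd G.s G.s) (pullback.fst G.s G.s ≫ G.i) (pullback.fst G.s G.s)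
      _ h1).trans ?_
    refine (comp_congr G rfl (i_comp G (pullback.fst G.s G.s)) _
      (by rw [Category.assoc, Category.assoc, G.e_t, Category.comp_id,
        pullback.condition])).trans ?_
    refine (comp_congr G rfl (show pullback.fst G.s G.s ≫ G.s ≫ G.e =
      pullback.snd G.s G.s ≫ G.s ≫ G.e by rw [← Category.assoc, pullback.condition,
        Category.assoc]) _ (by rw [Category.assoc, Category.assoc, G.e_t,
        Category.comp_id])).trans ?_
    exact comp_e G _

lemma shearInv_hom : shearInv G ≫ shearHom G = 𝟙 _ := by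
  apply pullback.hom_ext
  · simp
  · rw [Category.assoc, shearHom_snd, precomp, Category.id_comp]
    have h1 : pullback.fst G.t G.s ≫ G.s = (pullback.fst G.t G.s ≫ G.i) ≫ G.t := by
      rw [Category.assoc, G.i_t]
    refine (comp_congr G (shearInv_snd G)
      (show shearInv G ≫ pullback.fst G.s G.s ≫ G.i = pullback.fst G.t G.s ≫ G.i by
        rw [shearInv_fst_assoc]) _
      ((comp_s G _ _ _).trans h1)).trans ?_
    refine (assoc G (pullback.snd G.t G.s) (pullback.fst G.t G.s) (pullback.fst G.t G.s ≫ G.i)
      pullback.condition.symm h1).trans ?_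
    refine (comp_congr G rfl (comp_i G (pullback.fst G.t G.s)) _
      (by rw [Category.assoc, Category.assoc, G.e_t, Category.comp_id,
        pullback.condition])).trans ?_
    refine (comp_congr G rfl (show pullback.fst G.t G.s ≫ G.t ≫ G.e =
      pullback.snd G.t G.s ≫ G.s ≫ G.e by rw [← Category.assoc, pullback.condition,
        Category.assoc]) _ (by rw [Category.assoc, Category.assoc, G.e_t,
        Category.comp_id])).trans ?_
    exact comp_e G _

/-- the shear isomorphism `R ×_{s,s} R ≅ R ×_{t,s} R` over the first projection -/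
noncomputable def shearIso : pullback G.s G.s ≅ pullback G.t G.s where
  hom := shearHom G
  inv := shearInv G
  hom_inv_id := shearHom_inv G
  inv_hom_id := shearInv_hom G

/-- `fit` is unchanged by precomposing with an isomorphism. -/
lemma fit_iso_comp {X Y Y' : Scheme.{u}} (e : Y' ≅ Y) (π : Y ⟶ X) [IsFinite π] (r : ℕ) :
    fit (e.hom ≫ π) r = fit π r := by
  have H : IsPullback (e.hom ≫ π) e.hom (𝟙 X) π := IsPullback.of_vert_isIso ⟨by simp⟩
  rw [← comap_fit H r, Scheme.IdealSheafData.comap_id]

variable [IsFinite G.s]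

/-- The Fitting ideal sheaves of `s_* O_R` are `R`-invariant. -/
theorem comap_s_eq_comap_t (r : ℕ) : (fit G.s r).comap G.s = (fit G.s r).comap G.t := by
  rw [comap_fit (IsPullback.of_hasPullback G.s G.s) r,
    comap_fit (IsPullback.of_hasPullback G.t G.s) r, ← fit_iso_comp (shearIso G)]
  congr 1
  exact (shearHom_fst G).symm

end Groth.Agent.Lib.Helper20.HG
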