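import Mathlib
import Groth.Agent.Lib.Helper20.HG4
import Groth.Prelude.Def_Mor2

/-!
# HG5: `Fit_k = 0`, `Fit_{k+1} = 1` implies finite locally free of degree `k+1`
-/

set_option autoImplicit false
set_option linter.style.haveILetI false
universe u
open CategoryTheory CategoryTheory.Limits AlgebraicGeometry

namespace Groth.Agent.Lib.Helper20.HG

section ring

variable {A B : Type u} [CommRing A] [CommRing B] (φ : A →+* B)

lemma flat_of_fittHom (hφ : φ.Finite) (k : ℕ) (h0 : fittHom φ k = ⊥)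
    (h1 : fittHom φ (k + 1) = ⊤) : φ.Flat := by
  letI := φ.toAlgebra
  haveI : Module.Finite A B := hφ
  exact flat_of_fitt A B k h0 h1

lemma finitePresentation_of_fittHom (hφ : φ.Finite) (k : ℕ) (h0 : fittHom φ k = ⊥)
    (h1 : fittHom φ (k + 1) = ⊤) : φ.FinitePresentation := by
  letI := φ.toAlgebra
  haveI : Module.Finite A B := hφ
  haveI : Module.FinitePresentation A B := finitePresentation_of_fitt A B k h0 h1
  exact Algebra.FinitePresentation.of_finitePresentation A B

lemma finrank_of_fittHom (hφ : φ.Finite) (k : ℕ) (h0 : fittHom φ k = ⊥)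
    (h1 : fittHom φ (k + 1) = ⊤) (p : PrimeSpectrum A) : φ.finrank p = k + 1 := by
  letI := φ.toAlgebra
  haveI : Module.Finite A B := hφ
  exact rankAtStalk_of_fitt A B k h0 h1 p

end ring

variable {X Y X' Y' : Scheme.{u}}

lemma comap_bot (f : X' ⟶ X) : (⊥ : X.IdealSheafData).comap f = ⊥ :=
  (Scheme.IdealSheafData.map_gc f).l_bot

/-- a ring-hom property of an affine morphism can be checked on `π.app V` for affine `V` -/
lemma of_forall_app {P : MorphismProperty Scheme.{u}}
    {Q : ∀ {R S : Type u} [CommRing R] [CommRing S], (R →+* S) → Prop}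
    [HasRingHomProperty P Q] (π : Y ⟶ X) [IsAffineHom π]
    (h : ∀ V : X.affineOpens, Q (π.app V.1).hom) : P π := by
  rw [IsZariskiLocalAtTarget.iff_of_iSup_eq_top (P := P) (fun V : X.affineOpens => V.1)
    (iSup_affineOpens_eq_top X)]
  intro V
  haveI : IsAffine (V.1 : Scheme.{u}) := V.2
  haveI : IsAffine ((π ⁻¹ᵁ V.1 : Y.Opens) : Scheme.{u}) := V.2.preimage π
  rw [HasRingHomProperty.iff_of_isAffine (P := P), ← Scheme.Hom.resLE_eq_morphismRestrict]
  have hr : (RingHom.toMorphismProperty Q).RespectsIso :=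
    RingHom.toMorphismProperty_respectsIso_iff.mp
      (HasRingHomProperty.isLocal_ringHomProperty P).respectsIso
  refine (MorphismProperty.arrow_mk_iso_iff (RingHom.toMorphismProperty Q)
    (arrowResLEAppIso π V.1 (π ⁻¹ᵁ V.1) le_rfl)).mpr ?_
  change Q (π.appLE V.1 (π ⁻¹ᵁ V.1) le_rfl).hom
  rw [← Scheme.Hom.app_eq_appLE]
  exact h V

theorem flat_of_fit (π : Y ⟶ X) [IsFinite π] (k : ℕ) (h0 : fit π k = ⊥)
    (h1 : fit π (k + 1) = ⊤) : Flat π :=
  of_forall_app (P := @Flat) π fun V =>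
    flat_of_fittHom _ (IsFinite.finite_app π V.1 V.2) k
      (congrArg (fun I : X.IdealSheafData => I.ideal V) h0)
      (congrArg (fun I : X.IdealSheafData => I.ideal V) h1)

theorem lfp_of_fit (π : Y ⟶ X) [IsFinite π] (k : ℕ) (h0 : fit π k = ⊥)
    (h1 : fit π (k + 1) = ⊤) : LocallyOfFinitePresentation π :=
  of_forall_app (P := @LocallyOfFinitePresentation) π fun V =>
    finitePresentation_of_fittHom _ (IsFinite.finite_app π V.1 V.2) k
      (congrArg (fun I : X.IdealSheafData => I.ideal V) h0)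
      (congrArg (fun I : X.IdealSheafData => I.ideal V) h1)

/-- Fitting ideals of `φ` from those of `Spec.map φ`. -/
lemma fittHom_of_fit_SpecMap {A B : CommRingCat.{u}} (φ : A ⟶ B) [IsFinite (Spec.map φ)] (r : ℕ) :
    fittHom φ.hom r =
      ((fit (Spec.map φ) r).ideal ⟨⊤, isAffineOpen_top _⟩).map (Scheme.ΓSpecIso A).hom.hom := by
  have H : IsPushout (Scheme.ΓSpecIso A).hom (Spec.map φ).appTop φ (Scheme.ΓSpecIso B).hom :=
    IsPushout.of_horiz_isIso ⟨(Scheme.ΓSpecIso_naturality φ).symm⟩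
  exact fittHom_of_isPushout H (IsFinite.finite_app (Spec.map φ) ⊤ (isAffineOpen_top _)) r

theorem finrank_of_fit (π : Y ⟶ X) [IsFinite π] (k : ℕ) (h0 : fit π k = ⊥)
    (h1 : fit π (k + 1) = ⊤) (y : X) : π.finrank y = k + 1 := by
  haveI := flat_of_fit π k h0 h1
  obtain ⟨A, g, _, y', rfl⟩ := X.exists_Spec_apply_eq y
  rw [← Scheme.Hom.finrank_pullback_snd π g]
  have H := IsPullback.of_hasPullback π g
  have e0 : fit (pullback.snd π g) k = ⊥ := by rw [← comap_fit H.flip k, h0, comap_bot]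
  have e1 : fit (pullback.snd π g) (k + 1) = ⊤ := by
    rw [← comap_fit H.flip (k + 1), h1, Scheme.IdealSheafData.comap_top]
  haveI : IsAffine (pullback π g) := isAffine_of_isAffineHom (pullback.snd π g)
  obtain ⟨φ, hφ⟩ := Spec.map_surjective ((pullback π g).isoSpec.inv ≫ pullback.snd π g)
  have hπ1 : pullback.snd π g = (pullback π g).isoSpec.hom ≫ Spec.map φ := by
    rw [hφ, Iso.hom_inv_id_assoc]
  haveI : IsFinite (Spec.map φ) := by rw [hφ]; infer_instance
  haveI : Flat (Spec.map φ) := by rw [hφ]; infer_instance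
  have hf₁ : φ.hom.Finite := (IsFinite.SpecMap_iff φ).mp inferInstance
  have hf₂ : φ.hom.Flat := (Flat.SpecMap_iff).mp inferInstance
  have e0' : fit (Spec.map φ) k = ⊥ := by
    rw [← fit_iso_comp (pullback π g).isoSpec, ← e0]
    congr 1
    exact hπ1.symm
  have e1' : fit (Spec.map φ) (k + 1) = ⊤ := by
    rw [← fit_iso_comp (pullback π g).isoSpec, ← e1]
    congr 1
    exact hπ1.symm
  have hk0 : fittHom φ.hom k = ⊥ := by
    rw [fittHom_of_fit_SpecMap, e0']
    exact Ideal.map_bot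
  have hk1 : fittHom φ.hom (k + 1) = ⊤ := by
    rw [fittHom_of_fit_SpecMap, e1']
    exact Ideal.map_top _
  have : (pullback.snd π g).finrank = (Spec.map φ).finrank := by
    rw [hπ1, Scheme.Hom.finrank_comp_left_of_isIso]
  rw [this, Scheme.Hom.finrank_SpecMap_eq_finrank hf₁ hf₂]
  exact finrank_of_fittHom φ.hom hf₁ k hk0 hk1 y'

/-- `Fit_k = 0` and `Fit_{k+1} = 1` imply finite locally free of degree `k + 1`. -/
theorem isFinLocFreeOfDeg_of_fit (π : Y ⟶ X) [IsFinite π] (k : ℕ) (h0 : fit π k = ⊥)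
    (h1 : fit π (k + 1) = ⊤) : Mor2.IsFinLocFreeOfDeg (k + 1) π :=
  ⟨⟨inferInstance, flat_of_fit π k h0 h1, lfp_of_fit π k h0 h1⟩, finrank_of_fit π k h0 h1⟩

end Groth.Agent.Lib.Helper20.HG
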