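import Mathlib
import Groth.Agent.Lib.Helper20.HG5

/-!
# HG6: basic properties of the Fitting ideal sheaves of a finite morphism
-/

set_option autoImplicit false
set_option linter.style.haveILetI false
universe u
open CategoryTheory CategoryTheory.Limits AlgebraicGeometry

namespace Groth.Agent.Lib.Helper20.HG
open Groth.Agent.Helper19.FittLib

section ring

variable {A B : Type u} [CommRing A] [CommRing B] (φ : A →+* B)

lemma fittHom_zero_of_injective (hinj : Function.Injective φ) : fittHom φ 0 = ⊥ := by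
  letI := φ.toAlgebra
  rw [eq_bot_iff]
  intro a ha
  have h1 : a ∈ Module.annihilator A B := ideal_zero_le_annihilator ha
  have h2 : a • (1 : B) = 0 := Module.mem_annihilator.mp h1 1
  rw [Algebra.smul_def, mul_one] at h2
  exact (Ideal.mem_bot).mpr (hinj (h2.trans (map_zero φ).symm))

lemma fittHom_mono (hφ : φ.Finite) {k l : ℕ} (h : k ≤ l) : fittHom φ k ≤ fittHom φ l := by
  letI := φ.toAlgebra
  haveI : Module.Finite A B := hφ
  exact ideal_mono h

lemma exists_fittHom_eq_top (hφ : φ.Finite) : ∃ n, fittHom φ n = ⊤ := by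
  letI := φ.toAlgebra
  haveI : Module.Finite A B := hφ
  obtain ⟨n, x, hx⟩ := Module.Finite.exists_fin (R := A) (M := B)
  exact ⟨n, ideal_eq_top_of_le x hx le_rfl⟩

end ring

variable {X Y : Scheme.{u}}

lemma fit_zero_of_section (π : Y ⟶ X) [IsFinite π] (σ : X ⟶ Y) (h : σ ≫ π = 𝟙 X) :
    fit π 0 = ⊥ := by
  ext V : 2
  show fittHom (π.app V.1).hom 0 = ⊥
  apply fittHom_zero_of_injective
  have h1 : π.app V.1 ≫ σ.app (π ⁻¹ᵁ V.1) = (σ ≫ π).app V.1 := (Scheme.Hom.comp_app σ π V.1).symm
  rw [Scheme.Hom.congr_app h V.1] at h1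
  have hiso : IsIso (π.app V.1 ≫ σ.app (π ⁻¹ᵁ V.1)) := by
    rw [h1]
    have i1 : IsIso ((𝟙 X : X ⟶ X).app V.1) := inferInstance
    exact @IsIso.comp_isIso _ _ _ _ _ _ _ i1 (Functor.map_isIso _ _)
  have h2 : Function.Injective (π.app V.1 ≫ σ.app (π ⁻¹ᵁ V.1)).hom :=
    (ConcreteCategory.bijective_of_isIso _).1
  rw [CommRingCat.hom_comp] at h2
  exact Function.Injective.of_comp h2

lemma fit_mono (π : Y ⟶ X) [IsFinite π] : Monotone (fit π) := by
  intro k l h V
  exact fittHom_mono _ (IsFinite.finite_app π V.1 V.2) h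

lemma iInter_support_fit (π : Y ⟶ X) [IsFinite π] :
    (⋂ r, ((fit π r).support : Set X)) = ∅ := by
  rw [Set.eq_empty_iff_forall_notMem]
  intro x hx
  obtain ⟨V, hV, hxV, -⟩ := (TopologicalSpace.Opens.isBasis_iff_nbhd.mp X.isBasis_affineOpens)
    (show x ∈ (⊤ : X.Opens) from trivial)
  obtain ⟨n, hn⟩ := exists_fittHom_eq_top (π.app V).hom (IsFinite.finite_app π V hV)
  have h1 : x ∈ (fit π n).support := Set.mem_iInter.mp hx n
  rw [Scheme.IdealSheafData.mem_support_iff_of_mem (U := ⟨V, hV⟩) hxV, fit_ideal, hn,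
    Scheme.mem_zeroLocus_iff] at h1
  have h2 := h1 1 trivial
  rw [Scheme.basicOpen_of_isUnit _ isUnit_one] at h2
  exact h2 hxV

lemma comap_subschemeι_self (I : X.IdealSheafData) : I.comap I.subschemeι = ⊥ := by
  rw [Scheme.IdealSheafData.comap]
  exact Scheme.Hom.ker_eq_bot_of_isIso _

lemma eqToHom_subschemeι {I J : X.IdealSheafData} (h : I = J) :
    eqToHom (congrArg Scheme.IdealSheafData.subscheme h) ≫ J.subschemeι = I.subschemeι := by
  subst h
  simp

/-- equal pullback ideal sheaves give isomorphic pullbacks of the closed subscheme -/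
lemma exists_iso_of_comap_eq {R : Scheme.{u}} (s t : R ⟶ X) (I : X.IdealSheafData)
    (h : I.comap s = I.comap t) :
    ∃ φ : pullback s I.subschemeι ≅ pullback t I.subschemeι,
      φ.hom ≫ pullback.fst t I.subschemeι = pullback.fst s I.subschemeι := by
  refine ⟨(I.comapIso s).symm ≪≫ eqToIso (congrArg Scheme.IdealSheafData.subscheme h) ≪≫
    I.comapIso t, ?_⟩
  simp only [Iso.trans_hom, Iso.symm_hom, eqToIso.hom, Category.assoc,
    Scheme.IdealSheafData.comapIso_hom_fst]
  rw [eqToHom_subschemeι h, Scheme.IdealSheafData.comapIso_inv_subschemeι]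

end Groth.Agent.Lib.Helper20.HG
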