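import Mathlib
import Groth.Agent.Lib.Helper20.HG6

/-!
# HG7: gluing ideal sheaves along a pairwise disjoint open cover
-/

set_option autoImplicit false
set_option linter.style.haveILetI false
universe u
open CategoryTheory CategoryTheory.Limits AlgebraicGeometry

namespace Groth.Agent.Lib.Helper20.HG

variable {X : Scheme.{u}}

/-- ideal sheaves agreeing on the members of an open cover are equal -/
lemma eq_of_comap_ι_eq {ι : Type*} (O : ι → X.Opens) (hcov : ⨆ i, O i = ⊤)
    (I J : X.IdealSheafData) (h : ∀ i, I.comap (O i).ι = J.comap (O i).ι) : I = J := by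
  refine Scheme.IdealSheafData.ext_of_iSup_eq_top
    (ι := Σ i, (O i).toScheme.affineOpens)
    (fun p => ⟨(O p.1).ι ''ᵁ p.2.1, p.2.2.image_of_isOpenImmersion _⟩) ?_ ?_
  · rw [eq_top_iff]
    intro x _
    have hx : x ∈ ⨆ i, O i := by rw [hcov]; trivial
    obtain ⟨i, hi⟩ := TopologicalSpace.Opens.mem_iSup.mp hx
    obtain ⟨V, hV, hxV, -⟩ := (TopologicalSpace.Opens.isBasis_iff_nbhd.mp
      (O i).toScheme.isBasis_affineOpens) (show (⟨x, hi⟩ : (O i).toScheme) ∈
        (⊤ : (O i).toScheme.Opens) from trivial)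
    exact TopologicalSpace.Opens.mem_iSup.mpr ⟨⟨i, ⟨V, hV⟩⟩, ⟨⟨x, hi⟩, hxV, rfl⟩⟩
  · rintro ⟨i, V⟩
    have h1 := congrArg (fun K : (O i).toScheme.IdealSheafData => K.ideal V) (h i)
    simp only [Scheme.IdealSheafData.ideal_comap_of_isOpenImmersion] at h1
    exact Ideal.comap_injective_of_surjective _
      (ConcreteCategory.bijective_of_isIso ((O i).ι.appIso V.1).inv).2 h1

/-- the complement piece -/
def compl' (O : ℕ → X.Opens) (m : ℕ) : X.Opens := ⨆ (k : ℕ) (_ : k ≠ m), O k

lemma mem_compl' (O : ℕ → X.Opens) (m : ℕ) (x : X) :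
    x ∈ compl' O m ↔ ∃ k, k ≠ m ∧ x ∈ O k := by
  simp only [compl', TopologicalSpace.Opens.mem_iSup, exists_prop]

/-- glue ideal sheaves `J m` on the pieces `O m` -/
noncomputable def glue (O : ℕ → X.Opens) (J : ℕ → X.IdealSheafData) : X.IdealSheafData :=
  ⨆ m, J m ⊓ (compl' O m).ι.ker

variable (O : ℕ → X.Opens) (J : ℕ → X.IdealSheafData)
  (hdisj : ∀ m k, m ≠ k → Disjoint (O m) (O k)) (hcov : ⨆ m, O m = ⊤)

include hdisj hcov in
lemma isClosedImmersion_compl' (m : ℕ) : IsClosedImmersion (compl' O m).ι := by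
  apply IsClosedImmersion.of_isPreimmersion
  rw [Scheme.Opens.range_ι]
  have : ((compl' O m : X.Opens) : Set X) = ((O m : X.Opens) : Set X)ᶜ := by
    ext x
    simp only [SetLike.mem_coe, Set.mem_compl_iff, mem_compl']
    constructor
    · rintro ⟨k, hk, hxk⟩ hxm
      exact ((hdisj m k (Ne.symm hk)).le_bot (show x ∈ O m ⊓ O k from ⟨hxm, hxk⟩)).elim
    · intro hxm
      have hx : x ∈ ⨆ i, O i := by rw [hcov]; trivial
      obtain ⟨k, hk⟩ := TopologicalSpace.Opens.mem_iSup.mp hx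
      exact ⟨k, fun h => hxm (h ▸ hk), hk⟩
  rw [this]
  exact (O m).isOpen.isClosed_compl

include hdisj hcov in
lemma ideal_ker_compl'_self (m : ℕ) (V : X.affineOpens) (hV : V.1 ≤ O m) :
    ((compl' O m).ι.ker).ideal V = ⊤ := by
  haveI := isClosedImmersion_compl' O hdisj hcov m
  rw [Scheme.Hom.ker_apply]
  have hbot : (compl' O m).ι ⁻¹ᵁ V.1 = ⊥ := by
    rw [eq_bot_iff]
    intro x hx
    obtain ⟨k, hk, hxk⟩ := (mem_compl' O m x.1).mp x.2
    exact ((hdisj m k (Ne.symm hk)).le_bot (show x.1 ∈ O m ⊓ O k from ⟨hV hx, hxk⟩)).elim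
  rw [eq_top_iff]
  intro a _
  rw [RingHom.mem_ker]
  have : Subsingleton Γ((compl' O m).toScheme, (compl' O m).ι ⁻¹ᵁ V.1) := by
    rw [hbot]; infer_instance
  exact Subsingleton.elim _ _

lemma ideal_ker_compl'_of_ne (m k : ℕ) (hk : k ≠ m) (V : X.affineOpens) (hV : V.1 ≤ O m) :
    ((compl' O k).ι.ker).ideal V = ⊥ := by
  rw [eq_bot_iff]
  refine (Scheme.Hom.ideal_ker_le _ V).trans ?_
  have hle : V.1 ≤ (compl' O k).ι.opensRange := by
    rw [Scheme.Opens.opensRange_ι]
    intro x hx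
    exact (mem_compl' O k x).mpr ⟨m, hk.symm, hV hx⟩
  haveI := Scheme.Hom.isIso_app (compl' O k).ι V.1 hle
  rw [le_bot_iff, ← RingHom.injective_iff_ker_eq_bot]
  exact (ConcreteCategory.bijective_of_isIso _).1

include hdisj hcov in
lemma ideal_glue (m : ℕ) (V : X.affineOpens) (hV : V.1 ≤ O m) :
    (glue O J).ideal V = (J m).ideal V := by
  unfold glue
  rw [Scheme.IdealSheafData.ideal_iSup, iSup_apply]
  apply le_antisymm
  · refine iSup_le fun k => ?_
    by_cases hk : k = m
    · subst hk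
      rw [Scheme.IdealSheafData.ideal_inf, Pi.inf_apply]
      exact inf_le_left
    · rw [Scheme.IdealSheafData.ideal_inf, Pi.inf_apply, ideal_ker_compl'_of_ne O m k hk V hV,
        inf_bot_eq]
      exact bot_le
  · refine le_trans ?_ (le_iSup _ m)
    rw [Scheme.IdealSheafData.ideal_inf, Pi.inf_apply, ideal_ker_compl'_self O hdisj hcov m V hV,
      inf_top_eq]

include hdisj hcov in
/-- the glued ideal sheaf restricts to `J m` on `O m` -/
lemma comap_ι_glue (m : ℕ) : (glue O J).comap (O m).ι = (J m).comap (O m).ι := by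
  ext V : 2
  rw [Scheme.IdealSheafData.ideal_comap_of_isOpenImmersion,
    Scheme.IdealSheafData.ideal_comap_of_isOpenImmersion,
    ideal_glue O J hdisj hcov m _ ((O m).ι_image_le V.1)]

include hdisj hcov in
/-- pulling back the glued ideal sheaf along a morphism landing in `O m` -/
lemma comap_glue_of_range {T : Scheme.{u}} (b : T ⟶ X) (m : ℕ) (hb : ∀ x, b x ∈ O m) :
    (glue O J).comap b = (J m).comap b := by
  have hr : Set.range b ⊆ Set.range (O m).ι := by
    rw [Scheme.Opens.range_ι]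
    rintro _ ⟨x, rfl⟩
    exact hb x
  have hfac : IsOpenImmersion.lift (O m).ι b hr ≫ (O m).ι = b := IsOpenImmersion.lift_fac _ _ _
  rw [← hfac, Scheme.IdealSheafData.comap_comp, Scheme.IdealSheafData.comap_comp,
    comap_ι_glue O J hdisj hcov m]

end Groth.Agent.Lib.Helper20.HG
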