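import Mathlib
import Groth.Agent.Lib.Helper20.HG7

/-!
# HG8: a thickening structure on a disjoint union of opens, glued from ideal sheaves
-/

set_option autoImplicit false
set_option linter.style.haveILetI false
universe u
open CategoryTheory CategoryTheory.Limits AlgebraicGeometry

namespace Groth.Agent.Lib.Helper20.HG

variable {U : Scheme.{u}} (Wn : ℕ → U.Opens) (F : ℕ → U.IdealSheafData)

/-- the union of the pieces -/
def WW : U.Opens := ⨆ m, Wn m

/-- the pieces as opens of the union -/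
def OO (m : ℕ) : (WW Wn).toScheme.Opens := (WW Wn).ι ⁻¹ᵁ Wn m

/-- the glued ideal sheaf on the union -/
noncomputable def thick : (WW Wn).toScheme.IdealSheafData :=
  glue (OO Wn) (fun m => (F m).comap (WW Wn).ι)

variable (hdisj : ∀ m k, m ≠ k → Disjoint (Wn m) (Wn k))

include hdisj in
lemma OO_disjoint (m k : ℕ) (h : m ≠ k) : Disjoint (OO Wn m) (OO Wn k) := by
  rw [disjoint_iff, eq_bot_iff]
  intro x hx
  exact (hdisj m k h).le_bot (show (WW Wn).ι x ∈ Wn m ⊓ Wn k from ⟨hx.1, hx.2⟩)

lemma OO_cover : ⨆ m, OO Wn m = ⊤ := by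
  rw [eq_top_iff]
  intro x _
  have hx : (WW Wn).ι x ∈ ⨆ m, Wn m := x.2
  obtain ⟨m, hm⟩ := TopologicalSpace.Opens.mem_iSup.mp hx
  exact TopologicalSpace.Opens.mem_iSup.mpr ⟨m, hm⟩

include hdisj in
/-- (T1) pulling back the thickening ideal along a map landing in the `m`-th piece -/
lemma comap_thick {T : Scheme.{u}} (b : T ⟶ (WW Wn).toScheme) (m : ℕ)
    (hb : ∀ x, (b ≫ (WW Wn).ι) x ∈ Wn m) :
    (thick Wn F).comap b = (F m).comap (b ≫ (WW Wn).ι) := by
  rw [Scheme.IdealSheafData.comap_comp]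
  exact comap_glue_of_range (OO Wn) _ (OO_disjoint Wn hdisj) (OO_cover Wn) b m hb

include hdisj in
/-- (T2) the thickening has full support -/
lemma support_thick (hsupp : ∀ m, ((Wn m : U.Opens) : Set U) ⊆ (F m).support) :
    (thick Wn F).support = ⊤ := by
  apply TopologicalSpace.Closeds.ext
  rw [TopologicalSpace.Closeds.coe_top, Set.eq_univ_iff_forall]
  intro x
  have hx : x ∈ ⨆ m, OO Wn m := by rw [OO_cover]; trivial
  obtain ⟨m, hm⟩ := TopologicalSpace.Opens.mem_iSup.mp hx
  have h1 := comap_thick Wn F hdisj (OO Wn m).ι m (fun y => y.2)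
  have h2 : (⟨x, hm⟩ : (OO Wn m).toScheme) ∈
      (((thick Wn F).comap (OO Wn m).ι).support : Set (OO Wn m).toScheme) := by
    rw [h1, Scheme.IdealSheafData.support_comap]
    exact hsupp m hm
  rw [Scheme.IdealSheafData.support_comap] at h2
  exact h2

/-- the inclusion of the thickened subscheme into `U` -/
noncomputable abbrev thickι : (thick Wn F).subscheme ⟶ U :=
  (thick Wn F).subschemeι ≫ (WW Wn).ι

lemma thickι_mem (x : (thick Wn F).subscheme) :
    ∃ m, thickι Wn F x ∈ Wn m := by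
  have hx : (WW Wn).ι ((thick Wn F).subschemeι x) ∈ ⨆ m, Wn m := ((thick Wn F).subschemeι x).2
  exact TopologicalSpace.Opens.mem_iSup.mp hx

include hdisj in
/-- (T3) the key factorisation -/
theorem exists_factor {R : Scheme.{u}} (a b : R ⟶ U) (hW : ∀ m, a ⁻¹ᵁ Wn m = b ⁻¹ᵁ Wn m)
    (hF : ∀ m, (F m).comap a = (F m).comap b) :
    ∃ q : pullback a (thickι Wn F) ⟶ (thick Wn F).subscheme,
      q ≫ thickι Wn F = pullback.fst a (thickι Wn F) ≫ b := by
  have hcond : pullback.fst a (thickι Wn F) ≫ a = pullback.snd a (thickι Wn F) ≫ thickι Wn F :=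
    pullback.condition
  have hcond_pt : ∀ p : ↥(pullback a (thickι Wn F)),
      (pullback.snd a (thickι Wn F) ≫ thickι Wn F) p = (pullback.fst a (thickι Wn F) ≫ a) p :=
    fun p => by rw [hcond]
  -- points of `P` go to some piece
  have hpt : ∀ p : ↥(pullback a (thickι Wn F)), ∃ m,
      (pullback.fst a (thickι Wn F) ≫ a) p ∈ Wn m := by
    intro p
    obtain ⟨m, hm⟩ := thickι_mem Wn F (pullback.snd a (thickι Wn F) p)
    refine ⟨m, ?_⟩
    rw [hcond]
    exact hm
  have hab : ∀ (m : ℕ) (p : ↥(pullback a (thickι Wn F))),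
      (pullback.fst a (thickι Wn F) ≫ a) p ∈ Wn m →
      (pullback.fst a (thickι Wn F) ≫ b) p ∈ Wn m := by
    intro m p hp
    have h1 : pullback.fst a (thickι Wn F) p ∈ a ⁻¹ᵁ Wn m := hp
    rw [hW m] at h1
    exact h1
  have hrange : Set.range (pullback.fst a (thickι Wn F) ≫ b) ⊆ Set.range (WW Wn).ι := by
    rw [Scheme.Opens.range_ι]
    rintro _ ⟨p, rfl⟩
    obtain ⟨m, hm⟩ := hpt p
    exact TopologicalSpace.Opens.mem_iSup.mpr ⟨m, hab m p hm⟩
  set g : pullback a (thickι Wn F) ⟶ (WW Wn).toScheme :=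
    IsOpenImmersion.lift (WW Wn).ι (pullback.fst a (thickι Wn F) ≫ b) hrange with hg
  have hgι : g ≫ (WW Wn).ι = pullback.fst a (thickι Wn F) ≫ b := IsOpenImmersion.lift_fac _ _ _
  -- the pulled back ideal vanishes
  have hzero : (thick Wn F).comap g = ⊥ := by
    refine eq_of_comap_ι_eq
      (fun m => (pullback.fst a (thickι Wn F) ≫ a) ⁻¹ᵁ Wn m) ?_ _ _ (fun m => ?_)
    · rw [eq_top_iff]
      intro p _
      obtain ⟨m, hm⟩ := hpt p
      exact TopologicalSpace.Opens.mem_iSup.mpr ⟨m, hm⟩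
    · rw [comap_bot, ← Scheme.IdealSheafData.comap_comp]
      set j := ((pullback.fst a (thickι Wn F) ≫ a) ⁻¹ᵁ Wn m).ι with hj
      have e1 : (thick Wn F).comap (j ≫ g) = (F m).comap ((j ≫ g) ≫ (WW Wn).ι) := by
        refine comap_thick Wn F hdisj (j ≫ g) m (fun x => ?_)
        rw [Category.assoc, hgι]
        exact hab m (j x) x.2
      have e2 : (thick Wn F).comap (j ≫ pullback.snd a (thickι Wn F) ≫ (thick Wn F).subschemeι) =
          (F m).comap ((j ≫ pullback.snd a (thickι Wn F) ≫ (thick Wn F).subschemeι) ≫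
            (WW Wn).ι) := by
        refine comap_thick Wn F hdisj _ m (fun x => ?_)
        have hx : (pullback.fst a (thickι Wn F) ≫ a) (j x) ∈ Wn m := x.2
        rw [← hcond_pt] at hx
        exact hx
      have e3 : (j ≫ g) ≫ (WW Wn).ι = (j ≫ pullback.fst a (thickι Wn F)) ≫ b := by
        rw [Category.assoc, hgι, Category.assoc]
      have e4 : (j ≫ pullback.snd a (thickι Wn F) ≫ (thick Wn F).subschemeι) ≫ (WW Wn).ι =
          (j ≫ pullback.fst a (thickι Wn F)) ≫ a := by
        calc (j ≫ pullback.snd a (thickι Wn F) ≫ (thick Wn F).subschemeι) ≫ (WW Wn).ι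
            = j ≫ (pullback.snd a (thickι Wn F) ≫ thickι Wn F) := by simp only [Category.assoc]
          _ = j ≫ (pullback.fst a (thickι Wn F) ≫ a) := congrArg (fun z => j ≫ z) hcond.symm
          _ = (j ≫ pullback.fst a (thickι Wn F)) ≫ a := (Category.assoc _ _ _).symm
      rw [e1, e3, Scheme.IdealSheafData.comap_comp, ← hF m, ← Scheme.IdealSheafData.comap_comp,
        ← e4, ← e2, Scheme.IdealSheafData.comap_comp, Scheme.IdealSheafData.comap_comp,
        comap_subschemeι_self, comap_bot, comap_bot]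
  have hle : (thick Wn F).subschemeι.ker ≤ g.ker := by
    rw [Scheme.IdealSheafData.ker_subschemeι, ← Scheme.IdealSheafData.map_bot,
      Scheme.IdealSheafData.le_map_iff_comap_le, hzero]
  refine ⟨IsClosedImmersion.lift (thick Wn F).subschemeι g hle, ?_⟩
  rw [← Category.assoc, IsClosedImmersion.lift_fac, hgι]

include hdisj in
/-- (T4) invariance of the thickened subscheme -/
theorem exists_iso_thick {R : Scheme.{u}} (a b : R ⟶ U) (hW : ∀ m, a ⁻¹ᵁ Wn m = b ⁻¹ᵁ Wn m)
    (hF : ∀ m, (F m).comap a = (F m).comap b) :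
    ∃ φ : pullback a (thickι Wn F) ≅ pullback b (thickι Wn F),
      φ.hom ≫ pullback.fst b (thickι Wn F) = pullback.fst a (thickι Wn F) := by
  obtain ⟨q, hq⟩ := exists_factor Wn F hdisj a b hW hF
  obtain ⟨q', hq'⟩ := exists_factor Wn F hdisj b a (fun m => (hW m).symm) (fun m => (hF m).symm)
  refine ⟨⟨pullback.lift (pullback.fst a (thickι Wn F)) q hq.symm,
    pullback.lift (pullback.fst b (thickι Wn F)) q' hq'.symm, ?_, ?_⟩, ?_⟩
  · rw [← cancel_mono (pullback.fst a (thickι Wn F)), Category.assoc, pullback.lift_fst,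
      pullback.lift_fst, Category.id_comp]
  · rw [← cancel_mono (pullback.fst b (thickι Wn F)), Category.assoc, pullback.lift_fst,
      pullback.lift_fst, Category.id_comp]
  · exact pullback.lift_fst _ _ _

/-- local version of `isFinLocFreeOfDeg_of_fit` -/
theorem isFinLocFree_of_fit_local {X Y : Scheme.{u}} (π : Y ⟶ X) [IsFinite π]
    (h : ∀ x : X, ∃ (O : X.Opens) (k : ℕ), x ∈ O ∧ (fit π k).comap O.ι = ⊥ ∧
      (fit π (k + 1)).comap O.ι = ⊤) : Mor2.IsFinLocFree π := by
  choose O k hx h0 h1 using h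
  have hcov : ⨆ x, O x = ⊤ := by
    rw [eq_top_iff]
    intro x _
    exact TopologicalSpace.Opens.mem_iSup.mpr ⟨x, hx x⟩
  have e0 : ∀ x, fit (π ∣_ O x) (k x) = ⊥ := fun x => by
    rw [← comap_fit (isPullback_morphismRestrict π (O x)) (k x), h0 x]
  have e1 : ∀ x, fit (π ∣_ O x) (k x + 1) = ⊤ := fun x => by
    rw [← comap_fit (isPullback_morphismRestrict π (O x)) (k x + 1), h1 x]
  haveI i1 : IsZariskiLocalAtTarget @Flat.{u} :=
    HasRingHomProperty.instIsZariskiLocalAtTarget (P := @Flat) (Q := RingHom.Flat)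
  haveI i2 : IsZariskiLocalAtTarget @LocallyOfFinitePresentation.{u} :=
    HasRingHomProperty.instIsZariskiLocalAtTarget (P := @LocallyOfFinitePresentation)
      (Q := RingHom.FinitePresentation)
  refine ⟨inferInstance, ?_, ?_⟩
  · rw [IsZariskiLocalAtTarget.iff_of_iSup_eq_top (P := @Flat) O hcov]
    exact fun x => flat_of_fit _ (k x) (e0 x) (e1 x)
  · rw [IsZariskiLocalAtTarget.iff_of_iSup_eq_top (P := @LocallyOfFinitePresentation) O hcov]
    exact fun x => lfp_of_fit _ (k x) (e0 x) (e1 x)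

include hdisj in
/-- (T5) the base change of a finite morphism to the thickened subscheme is finite locally
free -/
theorem isFinLocFree_thick {R : Scheme.{u}} (π : R ⟶ U) [IsFinite π]
    (hfit : ∀ k, fit π k = F k)
    (hsupp : ∀ m, Disjoint ((Wn m : U.Opens) : Set U) ((F (m + 1)).support : Set U)) :
    Mor2.IsFinLocFree (pullback.snd π (thickι Wn F)) := by
  apply isFinLocFree_of_fit_local
  intro x
  obtain ⟨m, hm⟩ := thickι_mem Wn F x
  have H := (IsPullback.of_hasPullback π (thickι Wn F)).flip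
  refine ⟨(thick Wn F).subschemeι ⁻¹ᵁ (OO Wn m), m, hm, ?_, ?_⟩
  · rw [← comap_fit H m, hfit, ← Scheme.IdealSheafData.comap_comp]
    have e2 := comap_thick Wn F hdisj
      (((thick Wn F).subschemeι ⁻¹ᵁ (OO Wn m)).ι ≫ (thick Wn F).subschemeι) m (fun y => y.2)
    rw [Category.assoc] at e2
    rw [← e2, Scheme.IdealSheafData.comap_comp, comap_subschemeι_self, comap_bot]
  · rw [← comap_fit H (m + 1), hfit, ← Scheme.IdealSheafData.comap_comp,
      ← Scheme.IdealSheafData.support_eq_bot_iff, Scheme.IdealSheafData.support_comap]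
    apply TopologicalSpace.Closeds.ext
    rw [TopologicalSpace.Closeds.coe_preimage, TopologicalSpace.Closeds.coe_bot,
      Set.eq_empty_iff_forall_notMem]
    intro y hy
    exact Set.disjoint_left.mp (hsupp m) y.2 hy

end Groth.Agent.Lib.Helper20.HG
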