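import Mathlib
import Groth.Agent.Lib.Helper20.HG8
import Groth.Agent.Lib.Helper20.HA15

/-!
# HG9: the invariant stratification pieces `W_n` of a groupoid with finite `s`, `t`
-/

set_option autoImplicit false
set_option linter.style.haveILetI false
universe u
open CategoryTheory CategoryTheory.Limits AlgebraicGeometry

namespace Groth.Agent.Lib.Helper20.HG

open Grpd Groth.Agent.Lib.Helper20.HA Groth.Agent.Lib.Helper25.GrpdAlg

variable {S : Scheme.{u}} (G : GroupoidScheme S)

/-- `R`-invariant subsets of `U` -/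
def Inv (A : Set G.U) : Prop := ∀ r : G.R, G.s r ∈ A ↔ G.t r ∈ A

/-- the saturation `t(s⁻¹ A)` -/
def sat (A : Set G.U) : Set G.U := G.t '' (G.s ⁻¹' A)

lemma subset_sat (A : Set G.U) : A ⊆ sat G A := fun x hx =>
  ⟨G.e x, by rw [Set.mem_preimage, e_s_pt]; exact hx, e_t_pt G x⟩

lemma sat_mono {A B : Set G.U} (h : A ⊆ B) : sat G A ⊆ sat G B :=
  Set.image_mono (Set.preimage_mono h)

lemma inv_sat (A : Set G.U) : Inv G (sat G A) := by
  intro r
  constructor
  · rintro ⟨r', hr', h⟩
    obtain ⟨r'', h1, h2⟩ := exists_comp_pt G r r' h.symm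
    exact ⟨r'', by rw [Set.mem_preimage, h2]; exact hr', h1⟩
  · rintro ⟨r', hr', h⟩
    obtain ⟨r'', h1, h2⟩ := exists_comp_pt G (G.i r) r' (by rw [i_s_pt]; exact h.symm)
    exact ⟨r'', by rw [Set.mem_preimage, h2]; exact hr', by rw [h1, i_t_pt]⟩

lemma isClosed_sat [IsFinite G.t] {A : Set G.U} (hA : IsClosed A) : IsClosed (sat G A) :=
  G.t.isClosedMap _ (hA.preimage G.s.continuous)

lemma Inv.compl {A : Set G.U} (h : Inv G A) : Inv G Aᶜ := fun r => not_congr (h r)

lemma Inv.union {A B : Set G.U} (hA : Inv G A) (hB : Inv G B) : Inv G (A ∪ B) :=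
  fun r => or_congr (hA r) (hB r)

lemma Inv.diff {A B : Set G.U} (hA : Inv G A) (hB : Inv G B) : Inv G (A \ B) :=
  fun r => and_congr (hA r) (not_congr (hB r))

lemma inv_empty : Inv G (∅ : Set G.U) := fun _ => Iff.rfl

/-- `i` is an involution -/
lemma i_comp_i : G.i ≫ G.i = 𝟙 G.R := by
  have h : G.i ≫ G.s = 𝟙 G.R ≫ G.t := by rw [G.i_s, Category.id_comp]
  have hc : comp G G.i (𝟙 G.R) h = G.i ≫ G.t ≫ G.e := by
    have h1 := i_comp G (𝟙 G.R)
    refine (comp_congr G (Category.id_comp _).symm rfl _ _).trans (h1.trans ?_)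
    rw [Category.id_comp, ← Category.assoc, G.i_t]
  exact (eq_inv_of_comp_eq G G.i (𝟙 G.R) h hc).symm

instance isIso_i : IsIso G.i := ⟨G.i, i_comp_i G, i_comp_i G⟩

lemma fit_congr {X Y : Scheme.{u}} {π π' : Y ⟶ X} [IsFinite π] [IsFinite π'] (h : π = π')
    (r : ℕ) : fit π r = fit π' r := by
  subst h
  rfl

lemma fit_t_eq [IsFinite G.s] [IsFinite G.t] (r : ℕ) : fit G.t r = fit G.s r := by
  rw [← fit_iso_comp (asIso G.i) G.s r]
  exact fit_congr (by rw [asIso_hom, G.i_s]) r

variable [IsFinite G.s]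

/-- the closed sets `Z_r = Supp Fit_r` -/
def Zs (r : ℕ) : Set G.U := ((fit G.s r).support : Set G.U)

lemma isClosed_Zs (r : ℕ) : IsClosed (Zs G r) := (fit G.s r).support.isClosed

lemma Zs_zero : Zs G 0 = Set.univ := by
  unfold Zs
  rw [fit_zero_of_section G.s G.e G.e_s, Scheme.IdealSheafData.support_bot]
  rfl

lemma inv_Zs (r : ℕ) : Inv G (Zs G r) := by
  intro x
  have h := congrArg (fun I : G.R.IdealSheafData => (I.support : Set G.R)) (comap_s_eq_comap_t G r)
  simp only [Scheme.IdealSheafData.support_comap, TopologicalSpace.Closeds.coe_preimage] at h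
  exact Set.ext_iff.mp h x

lemma iInter_Zs : (⋂ r, Zs G r) = ∅ := iInter_support_fit G.s

/-- the closed invariant sets removed at each stage -/
noncomputable def Kn : ℕ → Set G.U
  | 0 => ∅
  | n + 1 => Kn n ∪ sat G (closure ((Zs G (n + 1))ᶜ \ Kn n))

/-- the strata -/
noncomputable def Wset (n : ℕ) : Set G.U := (Zs G (n + 1))ᶜ \ Kn G n

lemma Kn_succ (n : ℕ) : Kn G (n + 1) = Kn G n ∪ sat G (closure (Wset G n)) := rfl

lemma inv_Kn (n : ℕ) : Inv G (Kn G n) := by
  induction n with
  | zero => exact inv_empty G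
  | succ n ih => exact ih.union G (inv_sat G _)

lemma isClosed_Kn [IsFinite G.t] (n : ℕ) : IsClosed (Kn G n) := by
  induction n with
  | zero => exact isClosed_empty
  | succ n ih => exact ih.union (isClosed_sat G isClosed_closure)

lemma Kn_mono {m n : ℕ} (h : m ≤ n) : Kn G m ⊆ Kn G n := by
  induction n, h using Nat.le_induction with
  | base => exact subset_rfl
  | succ n _ ih => exact ih.trans Set.subset_union_left

lemma Wset_subset_Kn (n : ℕ) : Wset G n ⊆ Kn G (n + 1) :=
  (subset_closure.trans (subset_sat G _)).trans Set.subset_union_right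

lemma compl_Kn_subset (n : ℕ) : (Kn G n)ᶜ ⊆ Zs G n := by
  induction n with
  | zero => rw [Zs_zero]; exact Set.subset_univ _
  | succ n ih =>
    intro x hx
    by_contra hxZ
    have hxK : x ∉ Kn G n := fun h => hx (Kn_mono G (Nat.le_succ n) h)
    exact hx (Wset_subset_Kn G n ⟨hxZ, hxK⟩)

lemma Wset_subset_Zs (n : ℕ) : Wset G n ⊆ Zs G n := fun _ hx => compl_Kn_subset G n hx.2

lemma Wset_disjoint_Zs (n : ℕ) : Disjoint (Wset G n) (Zs G (n + 1)) :=
  Set.disjoint_left.mpr fun _ hx hxZ => hx.1 hxZ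

lemma inv_Wset (n : ℕ) : Inv G (Wset G n) := ((inv_Zs G (n + 1)).compl G).diff G (inv_Kn G n)

lemma isOpen_Wset [IsFinite G.t] (n : ℕ) : IsOpen (Wset G n) :=
  (isClosed_Zs G (n + 1)).isOpen_compl.sdiff (isClosed_Kn G n)

lemma Wset_disjoint {m n : ℕ} (h : m ≠ n) : Disjoint (Wset G m) (Wset G n) := by
  wlog hlt : m < n generalizing m n
  · exact (this h.symm (lt_of_le_of_ne (not_lt.mp hlt) h.symm)).symm
  exact Set.disjoint_left.mpr fun x hxm hxn =>
    hxn.2 (Kn_mono G hlt (Wset_subset_Kn G m hxm))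

lemma Kn_subset_sat (n : ℕ) : Kn G n ⊆ sat G (closure (⋃ k, Wset G k)) := by
  induction n with
  | zero => exact Set.empty_subset _
  | succ n ih =>
    rw [Kn_succ]
    exact Set.union_subset ih (sat_mono G (closure_mono (Set.subset_iUnion _ n)))

/-- every point is a translate of a point of the closure of the union of the strata -/
lemma exists_mem_closure (u : G.U) :
    ∃ r : G.R, G.t r = u ∧ G.s r ∈ closure (⋃ k, Wset G k) := by
  suffices hu : u ∈ sat G (closure (⋃ k, Wset G k)) by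
    obtain ⟨r, hr, h⟩ := hu
    exact ⟨r, h, hr⟩
  classical
  have hex : ∃ n, u ∉ Zs G n := by
    by_contra hcon
    push Not at hcon
    have : u ∈ ⋂ r, Zs G r := Set.mem_iInter.mpr hcon
    rw [iInter_Zs] at this
    exact this
  have hn := Nat.find_spec hex
  have hn0 : Nat.find hex ≠ 0 := by
    intro h0
    rw [h0, Zs_zero] at hn
    exact hn trivial
  obtain ⟨m, hm⟩ := Nat.exists_eq_succ_of_ne_zero hn0
  rw [hm] at hn
  by_cases hK : u ∈ Kn G m
  · exact Kn_subset_sat G m hK
  · exact subset_sat G _ (subset_closure (Set.mem_iUnion.mpr ⟨m, hn, hK⟩))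

end Groth.Agent.Lib.Helper20.HG
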