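import Mathlib
import Groth.Agent.Lib.Helper20.HG9

/-!
# HG10: finite presentation of the thickening, and generic points
-/

set_option autoImplicit false
set_option linter.style.haveILetI false
universe u
open CategoryTheory CategoryTheory.Limits AlgebraicGeometry

namespace Groth.Agent.Lib.Helper20.HG
open Groth.Agent.Helper19.FittLib

section ring

lemma fg_comap_of_bijective {A B : Type u} [CommRing A] [CommRing B] (f : A →+* B)
    (hf : Function.Bijective f) (I : Ideal B) (h : I.FG) : (I.comap f).FG := by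
  have : I.comap f = I.map ((RingEquiv.ofBijective f hf).symm : B →+* A) :=
    (Ideal.map_symm (RingEquiv.ofBijective f hf)).symm
  rw [this]
  exact h.map _

lemma fittHom_fg {A B : Type u} [CommRing A] [CommRing B] (φ : A →+* B) (hφ : φ.Finite)
    (hfp : φ.FinitePresentation) (r : ℕ) : (fittHom φ r).FG := by
  letI := φ.toAlgebra
  haveI : Module.Finite A B := hφ
  haveI : Algebra.FinitePresentation A B := hfp
  haveI : Module.FinitePresentation A B := Module.FinitePresentation.of_finite_of_finitePresentation A B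
  exact ideal_fg r

/-- an element of a minimal prime is killed, up to a power, by an element outside it -/
lemma exists_mul_pow_eq_zero {B : Type u} [CommRing B] (p : Ideal B) (hp : p ∈ minimalPrimes B)
    (x : B) (hx : x ∈ p) : ∃ s : B, s ∉ p ∧ ∃ n : ℕ, s * x ^ n = 0 := by
  haveI := hp.1.1
  have h1 := IsLocalization.AtPrime.radical_map_of_mem_minimalPrimes
    (A := Localization.AtPrime p) p ⊥ hp
  rw [Ideal.map_bot] at h1
  have h2 : algebraMap B (Localization.AtPrime p) x ∈ (⊥ : Ideal (Localization.AtPrime p)).radical := by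
    rw [h1]
    exact Ideal.mem_map_of_mem _ hx
  obtain ⟨n, hn⟩ := h2
  rw [Ideal.mem_bot, ← map_pow, IsLocalization.map_eq_zero_iff p.primeCompl] at hn
  obtain ⟨s, hs⟩ := hn
  exact ⟨s.1, s.2, n, hs⟩

/-- a finitely generated ideal inside a minimal prime `p` lies in every prime of a basic open
neighbourhood of `p` -/
lemma exists_basicOpen_le_of_fg {B : Type u} [CommRing B] (p : Ideal B)
    (hp : p ∈ minimalPrimes B) (I : Ideal B) (hI : I.FG) (hIp : I ≤ p) :
    ∃ s : B, s ∉ p ∧ ∀ q : Ideal B, q.IsPrime → s ∉ q → I ≤ q := by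
  classical
  obtain ⟨T, rfl⟩ := hI
  have h : ∀ x ∈ T, ∃ s : B, s ∉ p ∧ ∃ n : ℕ, s * x ^ n = 0 := fun x hx =>
    exists_mul_pow_eq_zero p hp x (hIp (Ideal.subset_span hx))
  choose! s hs using h
  haveI := hp.1.1
  refine ⟨∏ x ∈ T, s x, ?_, ?_⟩
  · intro hmem
    obtain ⟨x, hxT, hx⟩ := (Ideal.IsPrime.prod_mem_iff).mp hmem
    exact (hs x hxT).1 hx
  · intro q hq hsq
    rw [Ideal.span_le]
    intro x hxT
    obtain ⟨n, hn⟩ := (hs x hxT).2
    have h1 : s x ∉ q := fun hmem => by
      obtain ⟨c, hc⟩ := Finset.dvd_prod_of_mem s hxT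
      exact hsq (hc ▸ q.mul_mem_right _ hmem)
    have h2 : s x * x ^ n ∈ q := by rw [hn]; exact zero_mem _
    exact hq.mem_of_pow_mem n ((hq.mem_or_mem h2).resolve_left h1)

end ring

variable {X Y : Scheme.{u}}

/-- a ring-hom property of an affine morphism can be checked on `π.app V` for a covering family
of affine opens `V` -/
lemma of_forall_app' {P : MorphismProperty Scheme.{u}}
    {Q : ∀ {R S : Type u} [CommRing R] [CommRing S], (R →+* S) → Prop}
    [HasRingHomProperty P Q] (π : Y ⟶ X) [IsAffineHom π] {ι : Type*} (V : ι → X.affineOpens)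
    (hV : ⨆ i, (V i).1 = ⊤) (h : ∀ i, Q (π.app (V i).1).hom) : P π := by
  rw [IsZariskiLocalAtTarget.iff_of_iSup_eq_top (P := P) (fun i => (V i).1) hV]
  intro i
  haveI : IsAffine ((V i).1 : Scheme.{u}) := (V i).2
  haveI : IsAffine ((π ⁻¹ᵁ (V i).1 : Y.Opens) : Scheme.{u}) := (V i).2.preimage π
  rw [HasRingHomProperty.iff_of_isAffine (P := P), ← Scheme.Hom.resLE_eq_morphismRestrict]
  have hr : (RingHom.toMorphismProperty Q).RespectsIso :=
    RingHom.toMorphismProperty_respectsIso_iff.mp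
      (HasRingHomProperty.isLocal_ringHomProperty P).respectsIso
  refine (MorphismProperty.arrow_mk_iso_iff (RingHom.toMorphismProperty Q)
    (arrowResLEAppIso π (V i).1 (π ⁻¹ᵁ (V i).1) le_rfl)).mpr ?_
  change Q (π.appLE (V i).1 (π ⁻¹ᵁ (V i).1) le_rfl).hom
  rw [← Scheme.Hom.app_eq_appLE]
  exact h i

lemma fit_ideal_fg (π : Y ⟶ X) [IsFinite π] [LocallyOfFinitePresentation π] (r : ℕ)
    (V : X.affineOpens) : ((fit π r).ideal V).FG := by
  refine fittHom_fg _ (IsFinite.finite_app π V.1 V.2) ?_ r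
  have := HasRingHomProperty.appLE (P := @LocallyOfFinitePresentation) π inferInstance V
    ⟨π ⁻¹ᵁ V.1, V.2.preimage π⟩ le_rfl
  rwa [← Scheme.Hom.app_eq_appLE] at this

/-- a closed subscheme cut out by a locally finitely generated ideal sheaf is locally of finite
presentation -/
lemma lfp_subschemeι (I : X.IdealSheafData) {ι : Type*} (V : ι → X.affineOpens)
    (hV : ⨆ i, (V i).1 = ⊤) (h : ∀ i, (I.ideal (V i)).FG) :
    LocallyOfFinitePresentation I.subschemeι :=
  of_forall_app' (P := @LocallyOfFinitePresentation) I.subschemeι V hV fun i =>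
    RingHom.FinitePresentation.of_surjective _ (I.subschemeι_app_surjective (V i))
      (by rw [Scheme.IdealSheafData.ker_subschemeι_app]; exact h i)

/-- the glued thickening is locally of finite presentation if the `F m` are locally f.g. -/
theorem lfp_thick {U : Scheme.{u}} (Wn : ℕ → U.Opens) (F : ℕ → U.IdealSheafData)
    (hdisj : ∀ m k, m ≠ k → Disjoint (Wn m) (Wn k))
    (hF : ∀ (m : ℕ) (V : U.affineOpens), ((F m).ideal V).FG) :
    LocallyOfFinitePresentation (thick Wn F).subschemeι := by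
  refine lfp_subschemeι (thick Wn F)
    (ι := Σ m, (OO Wn m).toScheme.affineOpens)
    (fun p => ⟨(OO Wn p.1).ι ''ᵁ p.2.1, p.2.2.image_of_isOpenImmersion _⟩) ?_ ?_
  · rw [eq_top_iff]
    intro x _
    have hx : x ∈ ⨆ i, OO Wn i := by rw [OO_cover]; trivial
    obtain ⟨i, hi⟩ := TopologicalSpace.Opens.mem_iSup.mp hx
    obtain ⟨V, hV, hxV, -⟩ := (TopologicalSpace.Opens.isBasis_iff_nbhd.mp
      (OO Wn i).toScheme.isBasis_affineOpens) (show (⟨x, hi⟩ : (OO Wn i).toScheme) ∈
        (⊤ : (OO Wn i).toScheme.Opens) from trivial)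
    exact TopologicalSpace.Opens.mem_iSup.mpr ⟨⟨i, ⟨V, hV⟩⟩, ⟨⟨x, hi⟩, hxV, rfl⟩⟩
  · rintro ⟨m, V⟩
    unfold thick
    rw [ideal_glue (OO Wn) _ (OO_disjoint Wn hdisj) (OO_cover Wn) m _ ((OO Wn m).ι_image_le V.1),
      Scheme.IdealSheafData.ideal_comap_of_isOpenImmersion]
    exact fg_comap_of_bijective _ (ConcreteCategory.bijective_of_isIso _) _ (hF m _)

/-- a generic point in the support of a locally finitely generated ideal sheaf has an open
neighbourhood inside the support -/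
theorem exists_open_subset_support (I : X.IdealSheafData)
    (hI : ∀ V : X.affineOpens, (I.ideal V).FG) (v : X) (hv : ∀ x : X, x ⤳ v → x = v)
    (hvI : v ∈ I.support) : ∃ N : X.Opens, v ∈ N ∧ (N : Set X) ⊆ I.support := by
  obtain ⟨V, hV, hvV, -⟩ := (TopologicalSpace.Opens.isBasis_iff_nbhd.mp X.isBasis_affineOpens)
    (show v ∈ (⊤ : X.Opens) from trivial)
  have hV' : IsAffineOpen V := hV
  have hinj : Function.Injective hV'.fromSpec := hV'.fromSpec.isOpenEmbedding.injective
  -- membership in the support in terms of primes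
  have hsupp : ∀ q : ↥(Spec Γ(X, V)), hV'.fromSpec q ∈ I.support ↔
      I.ideal ⟨V, hV⟩ ≤ PrimeSpectrum.asIdeal q := by
    intro q
    have hq : hV'.fromSpec q ∈ V := by
      rw [← SetLike.mem_coe, ← hV'.range_fromSpec]
      exact ⟨q, rfl⟩
    rw [Scheme.IdealSheafData.mem_support_iff_of_mem (U := ⟨V, hV⟩) hq]
    have h0 := Set.ext_iff.mp
      (hV'.fromSpec_preimage_zeroLocus (I.ideal ⟨V, hV⟩ : Set Γ(X, V))) q
    exact h0.trans (PrimeSpectrum.mem_zeroLocus _ _)
  set p : ↥(Spec Γ(X, V)) := hV'.primeIdealOf ⟨v, hvV⟩ with hp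
  have hpv : hV'.fromSpec p = v := hV'.fromSpec_primeIdealOf ⟨v, hvV⟩
  have hmin : PrimeSpectrum.asIdeal p ∈ minimalPrimes Γ(X, V) := by
    refine ⟨⟨PrimeSpectrum.isPrime p, bot_le⟩, fun q hq hqp => ?_⟩
    have h1 : ((⟨q, hq.1⟩ : PrimeSpectrum Γ(X, V)) : ↥(Spec Γ(X, V))) ⤳ p :=
      (PrimeSpectrum.le_iff_specializes (⟨q, hq.1⟩ : PrimeSpectrum Γ(X, V)) p).mp hqp
    have h2 := h1.map hV'.fromSpec.continuous
    rw [hpv] at h2
    have h3 := hinj ((hv _ h2).trans hpv.symm)
    rw [← h3]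
  have hIp : I.ideal ⟨V, hV⟩ ≤ PrimeSpectrum.asIdeal p := (hsupp p).mp (hpv.symm ▸ hvI)
  obtain ⟨s, hsp, hs⟩ := exists_basicOpen_le_of_fg (PrimeSpectrum.asIdeal p) hmin _
    (hI ⟨V, hV⟩) hIp
  refine ⟨X.basicOpen s, ?_, ?_⟩
  · have : p ∈ hV'.fromSpec ⁻¹ᵁ X.basicOpen s := by
      rw [hV'.fromSpec_preimage_basicOpen]
      exact hsp
    rw [← hpv]
    exact this
  · intro x hx
    have hxV : x ∈ V := X.basicOpen_le s hx
    set q : ↥(Spec Γ(X, V)) := hV'.primeIdealOf ⟨x, hxV⟩ with hq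
    have hqx : hV'.fromSpec q = x := hV'.fromSpec_primeIdealOf ⟨x, hxV⟩
    have h1 : q ∈ hV'.fromSpec ⁻¹ᵁ X.basicOpen s := by
      show hV'.fromSpec q ∈ X.basicOpen s
      rw [hqx]
      exact hx
    rw [hV'.fromSpec_preimage_basicOpen] at h1
    rw [SetLike.mem_coe, ← hqx, hsupp]
    exact hs _ (PrimeSpectrum.isPrime q) h1

section grpd

open Grpd Groth.Agent.Lib.Helper20.HA

variable {S : Scheme.{u}} (G : GroupoidScheme S) [IsFinite G.s]

lemma Zs_antitone {m n : ℕ} (h : m ≤ n) : Zs G n ⊆ Zs G m :=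
  Scheme.IdealSheafData.support_antitone (fit_mono G.s h)

lemma mem_Kn_iff (m : ℕ) (x : G.U) :
    x ∈ Kn G m ↔ ∃ j, j < m ∧ x ∈ sat G (closure (Wset G j)) := by
  induction m with
  | zero =>
    constructor
    · intro h; exact h.elim
    · rintro ⟨j, hj, -⟩; exact (Nat.not_lt_zero j hj).elim
  | succ m ih =>
    rw [Kn_succ, Set.mem_union, ih]
    constructor
    · rintro (⟨j, hj, h⟩ | h)
      · exact ⟨j, Nat.lt_succ_of_lt hj, h⟩
      · exact ⟨m, Nat.lt_succ_self m, h⟩
    · rintro ⟨j, hj, h⟩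
      rcases Nat.lt_succ_iff_lt_or_eq.mp hj with hj' | rfl
      · exact Or.inl ⟨j, hj', h⟩
      · exact Or.inr h

/-- a point whose orbit consists of generic points lies in one of the strata -/
theorem mem_Wset_of_generic [IsFinite G.t] [LocallyOfFinitePresentation G.s] (u : G.U)
    (hu : ∀ r : G.R, G.s r = u → ∀ x : G.U, x ⤳ G.t r → x = G.t r) : ∃ m, u ∈ Wset G m := by
  classical
  have hex : ∃ n, u ∉ Zs G n := by
    by_contra hcon
    push Not at hcon
    have : u ∈ ⋂ r, Zs G r := Set.mem_iInter.mpr hcon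
    rw [iInter_Zs] at this
    exact this
  have hn := Nat.find_spec hex
  have hn0 : Nat.find hex ≠ 0 := by
    intro h0
    rw [h0, Zs_zero] at hn
    exact hn trivial
  obtain ⟨m, hm⟩ := Nat.exists_eq_succ_of_ne_zero hn0
  have hmem : u ∈ Zs G m := by
    by_contra hcon
    exact Nat.find_min hex (show m < Nat.find hex by omega) hcon
  rw [hm] at hn
  refine ⟨m, hn, fun hK => ?_⟩
  obtain ⟨j, hj, r, hr, htr⟩ := (mem_Kn_iff G m u).mp hK
  -- `v = s r` is a generic point in `Zs m`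
  have hv : ∀ x : G.U, x ⤳ G.s r → x = G.s r := by
    have := hu (G.i r) (by rw [i_s_pt]; exact htr)
    rwa [i_t_pt] at this
  have hvZ : G.s r ∈ Zs G m := (inv_Zs G m r).mpr (htr ▸ hmem)
  obtain ⟨N, hvN, hN⟩ := exists_open_subset_support (fit G.s m)
    (fun V => fit_ideal_fg G.s m V) (G.s r) hv hvZ
  obtain ⟨y, hyN, hyW⟩ := mem_closure_iff.mp hr N N.isOpen hvN
  exact hyW.1 (Zs_antitone G (show j + 1 ≤ m by omega) (hN hyN))

end grpd

end Groth.Agent.Lib.Helper20.HG
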