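import Mathlib
import Groth.Agent.Lib.Helper20.HG10

/-!
# HG11: finitely many generic points of a quasi-separated scheme lie in an affine open
-/

set_option autoImplicit false
set_option linter.style.haveILetI false
universe u
open CategoryTheory CategoryTheory.Limits AlgebraicGeometry

namespace Groth.Agent.Lib.Helper20.HG

variable {X : Scheme.{u}}

/-- the prime of a generic point in an affine open is a minimal prime -/
lemma asIdeal_mem_minimalPrimes_of_generic {V : X.Opens} (hV : IsAffineOpen V) (v : X)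
    (hvV : v ∈ V) (hv : ∀ x : X, x ⤳ v → x = v) :
    PrimeSpectrum.asIdeal (hV.primeIdealOf ⟨v, hvV⟩ : ↥(Spec Γ(X, V))) ∈
      minimalPrimes Γ(X, V) := by
  have hinj : Function.Injective hV.fromSpec := hV.fromSpec.isOpenEmbedding.injective
  set p : ↥(Spec Γ(X, V)) := hV.primeIdealOf ⟨v, hvV⟩ with hp
  have hpv : hV.fromSpec p = v := hV.fromSpec_primeIdealOf ⟨v, hvV⟩
  refine ⟨⟨PrimeSpectrum.isPrime p, bot_le⟩, fun q hq hqp => ?_⟩
  have h1 : ((⟨q, hq.1⟩ : PrimeSpectrum Γ(X, V)) : ↥(Spec Γ(X, V))) ⤳ p :=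
    (PrimeSpectrum.le_iff_specializes (⟨q, hq.1⟩ : PrimeSpectrum Γ(X, V)) p).mp hqp
  have h2 := h1.map hV.fromSpec.continuous
  rw [hpv] at h2
  have h3 := hinj ((hv _ h2).trans hpv.symm)
  rw [← h3]

/-- a generic point outside a quasi-compact open has an affine open neighbourhood disjoint from
it -/
lemma exists_affine_disjoint (O : X.Opens) (hO : ∀ A : X.Opens, IsAffineOpen A →
      IsCompact ((A ⊓ O : X.Opens) : Set X))
    (η : X) (hη : ∀ x : X, x ⤳ η → x = η) (hηO : η ∉ O) :
    ∃ N : X.Opens, IsAffineOpen N ∧ η ∈ N ∧ Disjoint N O := by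
  obtain ⟨A, hA, hηA, -⟩ := (TopologicalSpace.Opens.isBasis_iff_nbhd.mp X.isBasis_affineOpens)
    (show η ∈ (⊤ : X.Opens) from trivial)
  have hA' : IsAffineOpen A := hA
  -- the preimage of `O` in `Spec Γ(A)` is compact open
  have hco : IsCompact (hA'.fromSpec ⁻¹' (O : Set X)) ∧ IsOpen (hA'.fromSpec ⁻¹' (O : Set X)) := by
    refine ⟨?_, O.isOpen.preimage hA'.fromSpec.continuous⟩
    have h1 : hA'.fromSpec ⁻¹' (O : Set X) = hA'.fromSpec ⁻¹' ((A ⊓ O : X.Opens) : Set X) := by
      ext q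
      simp only [Set.mem_preimage, TopologicalSpace.Opens.coe_inf, Set.mem_inter_iff,
        SetLike.mem_coe]
      constructor
      · intro h
        refine ⟨?_, h⟩
        rw [← SetLike.mem_coe, ← hA'.range_fromSpec]
        exact ⟨q, rfl⟩
      · exact fun h => h.2
    rw [h1]
    refine (hA'.fromSpec.isOpenEmbedding.isInducing.isCompact_preimage_iff ?_).mpr (hO A hA')
    rw [hA'.range_fromSpec]
    exact Set.inter_subset_left
  obtain ⟨I, hI, hIO⟩ := PrimeSpectrum.isCompact_isOpen_iff_ideal.mp hco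
  set p : ↥(Spec Γ(X, A)) := hA'.primeIdealOf ⟨η, hηA⟩ with hp
  have hpη : hA'.fromSpec p = η := hA'.fromSpec_primeIdealOf ⟨η, hηA⟩
  have hmin := asIdeal_mem_minimalPrimes_of_generic hA' η hηA hη
  have hIp : I ≤ PrimeSpectrum.asIdeal p := by
    have : p ∉ hA'.fromSpec ⁻¹' (O : Set X) := by
      rw [Set.mem_preimage, hpη]
      exact hηO
    rw [← hIO] at this
    have h2 : (p : PrimeSpectrum Γ(X, A)) ∈ PrimeSpectrum.zeroLocus (I : Set Γ(X, A)) := by
      by_contra h
      exact this h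
    exact (PrimeSpectrum.mem_zeroLocus _ _).mp h2
  obtain ⟨s, hsp, hs⟩ := exists_basicOpen_le_of_fg (PrimeSpectrum.asIdeal p) hmin I hI hIp
  refine ⟨X.basicOpen s, hA'.basicOpen s, ?_, ?_⟩
  · have : p ∈ hA'.fromSpec ⁻¹ᵁ X.basicOpen s := by
      rw [hA'.fromSpec_preimage_basicOpen]
      exact hsp
    rw [← hpη]
    exact this
  · rw [disjoint_iff, eq_bot_iff]
    rintro x ⟨hxs, hxO⟩
    have hxA : x ∈ A := X.basicOpen_le s hxs
    set q : ↥(Spec Γ(X, A)) := hA'.primeIdealOf ⟨x, hxA⟩ with hq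
    have hqx : hA'.fromSpec q = x := hA'.fromSpec_primeIdealOf ⟨x, hxA⟩
    have h1 : q ∈ hA'.fromSpec ⁻¹ᵁ X.basicOpen s := by
      show hA'.fromSpec q ∈ X.basicOpen s
      rw [hqx]
      exact hxs
    rw [hA'.fromSpec_preimage_basicOpen] at h1
    have h2 : I ≤ PrimeSpectrum.asIdeal q := hs _ (PrimeSpectrum.isPrime q) h1
    have h3 : q ∈ hA'.fromSpec ⁻¹' (O : Set X) := by
      rw [Set.mem_preimage, hqx]
      exact hxO
    rw [← hIO] at h3
    exact h3 ((PrimeSpectrum.mem_zeroLocus _ _).mpr h2)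

/-- finitely many generic points of a quasi-separated scheme lie in a common affine open -/
theorem exists_affine_of_generic [QuasiSeparatedSpace X] (T : Finset X)
    (hT : ∀ v ∈ T, ∀ x : X, x ⤳ v → x = v) :
    ∃ V : X.Opens, IsAffineOpen V ∧ ∀ v ∈ T, v ∈ V := by
  classical
  induction T using Finset.induction_on with
  | empty => exact ⟨⊥, isAffineOpen_bot X, fun v hv => (Finset.notMem_empty v hv).elim⟩
  | insert η T hηT ih =>
    obtain ⟨V, hV, hTV⟩ := ih (fun v hv => hT v (Finset.mem_insert_of_mem hv))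
    by_cases hηV : η ∈ V
    · exact ⟨V, hV, fun v hv => by
        rcases Finset.mem_insert.mp hv with rfl | hv
        · exact hηV
        · exact hTV v hv⟩
    · obtain ⟨N, hN, hηN, hdisj⟩ := exists_affine_disjoint V
        (fun A hA => QuasiSeparatedSpace.inter_isCompact _ _ A.isOpen hA.isCompact V.isOpen
          hV.isCompact) η (hT η (Finset.mem_insert_self η T)) hηV
      refine ⟨V ⊔ N, hV.sup_of_disjoint hN hdisj.symm, fun v hv => ?_⟩
      rcases Finset.mem_insert.mp hv with rfl | hv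
      · exact Or.inr hηN
      · exact Or.inl (hTV v hv)

end Groth.Agent.Lib.Helper20.HG
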