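import Mathlib
import Groth.Agent.Lib.Helper20.HG11

/-!
# HG12: invariant affine opens for point-level equivalence relations
-/

set_option autoImplicit false
set_option linter.style.haveILetI false
universe u
open CategoryTheory CategoryTheory.Limits AlgebraicGeometry

namespace Groth.Agent.Lib.Helper20.HG

open Groth.Agent.Lib.Helper20.HA

/-- a pair of morphisms inducing an equivalence relation on points -/
structure PtRel {U' R' : Scheme.{u}} (σ τ : R' ⟶ U') : Prop where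
  refl : ∀ x : U', ∃ r : R', σ r = x ∧ τ r = x
  symm : ∀ r : R', ∃ r' : R', σ r' = τ r ∧ τ r' = σ r
  trans : ∀ r r' : R', σ r = τ r' → ∃ r'' : R', τ r'' = τ r ∧ σ r'' = σ r'

/-- invariant affine open neighbourhoods of finite sets whose orbit lies in an affine open -/
theorem exists_invariant_affine_open' {U' R' : Scheme.{u}} (σ τ : R' ⟶ U') (h : PtRel σ τ)
    [IsFinite σ] [Flat σ] [LocallyOfFinitePresentation σ]
    (T0 : Set U') (hT0 : T0.Finite) (V : U'.Opens) (hV : IsAffineOpen V)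
    (hTV : ∀ r : R', σ r ∈ T0 → τ r ∈ V) :
    ∃ W : U'.Opens, IsAffineOpen W ∧ T0 ⊆ W ∧ σ ⁻¹ᵁ W = τ ⁻¹ᵁ W := by
  -- the orbit of `T0`
  let T : Set U' := τ '' (σ ⁻¹' T0)
  have hT : T.Finite := by
    refine Set.Finite.image _ ?_
    have : σ ⁻¹' T0 = ⋃ x ∈ T0, σ ⁻¹' {x} := by
      ext r
      simp
    rw [this]
    exact hT0.biUnion fun x _ => Scheme.Hom.finite_preimage_singleton σ x
  have hTV' : T ⊆ V := by
    rintro _ ⟨r, hr, rfl⟩
    exact hTV r hr
  -- the open set of points whose orbit lies in `V`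
  let O : U'.Opens := ⟨(σ '' ((τ ⁻¹ᵁ V : Set R')ᶜ))ᶜ,
    (σ.isClosedMap _ (τ ⁻¹ᵁ V).isOpen.isClosed_compl).isOpen_compl⟩
  have hO : ∀ x : U', x ∈ O ↔ ∀ r : R', σ r = x → τ r ∈ V := by
    intro x
    show x ∉ (σ '' ((τ ⁻¹ᵁ V : Set R')ᶜ)) ↔ _
    constructor
    · intro hx r hr
      by_contra hrV
      exact hx ⟨r, hrV, hr⟩
    · rintro hx ⟨r, hrV, hr⟩
      exact hrV (hx r hr)
  have hTO : T ⊆ O := by
    rintro _ ⟨r₀, hr₀, rfl⟩
    rw [SetLike.mem_coe, hO]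
    intro r hr
    obtain ⟨r'', h1, h2⟩ := h.trans r r₀ hr
    rw [← h1]
    exact hTV r'' (h2 ▸ hr₀)
  obtain ⟨f, hf1, hf2⟩ := exists_basicOpen_of_finite_affine hV T hT hTV' O hTO
  have hle : σ ⁻¹ᵁ (U'.basicOpen f) ≤ τ ⁻¹ᵁ V := by
    intro r hr
    exact (hO _).mp (hf2 hr) r rfl
  obtain ⟨W, hW, hWiff⟩ := exists_affine_norm_locus σ (U'.basicOpen f) (hV.basicOpen f) τ V f hle
  -- forward invariance
  have hfw : ∀ r₀ : R', σ r₀ ∈ W → τ r₀ ∈ W := by
    intro r₀ hr₀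
    rw [hWiff] at hr₀ ⊢
    refine ⟨hr₀.2 r₀ rfl, ?_⟩
    intro r hr
    obtain ⟨r'', h1, h2⟩ := h.trans r r₀ hr
    rw [← h1]
    exact hr₀.2 r'' h2
  refine ⟨W, hW, ?_, ?_⟩
  · intro u hu
    rw [SetLike.mem_coe, hWiff]
    obtain ⟨r, hr1, hr2⟩ := h.refl u
    refine ⟨hf1 ⟨r, by rw [Set.mem_preimage, hr1]; exact hu, hr2⟩, ?_⟩
    intro r' hr'
    exact hf1 ⟨r', by rw [Set.mem_preimage, hr']; exact hu, rfl⟩
  · ext r₀
    show σ r₀ ∈ W ↔ τ r₀ ∈ W
    constructor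
    · exact hfw r₀
    · intro hτ
      obtain ⟨r', h1, h2⟩ := h.symm r₀
      have := hfw r' (by rw [h1]; exact hτ)
      rwa [h2] at this

section grpd

open Grpd

variable {S : Scheme.{u}} (G : GroupoidScheme S)

/-- the restriction of a groupoid along a monomorphism-on-points `ι'` induces a point-level
equivalence relation -/
theorem ptRel_restrict {U' : Scheme.{u}} (ι' : U' ⟶ G.U) (hinj : Function.Injective ι')
    (τ : pullback G.s ι' ⟶ U') (hτ : τ ≫ ι' = pullback.fst G.s ι' ≫ G.t) :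
    PtRel (pullback.snd G.s ι') τ := by
  have hτpt : ∀ p : ↥(pullback G.s ι'), ι' (τ p) = G.t (pullback.fst G.s ι' p) := fun p =>
    congrArg (fun f : pullback G.s ι' ⟶ G.U => f p) hτ
  have hσpt : ∀ p : ↥(pullback G.s ι'), ι' (pullback.snd G.s ι' p) =
      G.s (pullback.fst G.s ι' p) := fun p =>
    (congrArg (fun f : pullback G.s ι' ⟶ G.U => f p) (pullback.condition (f := G.s) (g := ι'))).symm
  refine ⟨?_, ?_, ?_⟩
  · intro x
    obtain ⟨p, hp1, hp2⟩ := Scheme.Pullback.exists_preimage_pullback (f := G.s) (g := ι')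
      (G.e (ι' x)) x (e_s_pt G _)
    refine ⟨p, hp2, hinj ?_⟩
    rw [hτpt, hp1, e_t_pt]
  · intro p
    obtain ⟨p', hp1, hp2⟩ := Scheme.Pullback.exists_preimage_pullback (f := G.s) (g := ι')
      (G.i (pullback.fst G.s ι' p)) (τ p) (by rw [i_s_pt, hτpt])
    refine ⟨p', hp2, hinj ?_⟩
    rw [hτpt, hp1, i_t_pt, hσpt]
  · intro p p' hpp
    obtain ⟨r'', h1, h2⟩ := exists_comp_pt G (pullback.fst G.s ι' p) (pullback.fst G.s ι' p')
      (by rw [← hσpt, hpp, hτpt])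
    obtain ⟨p'', hp1, hp2⟩ := Scheme.Pullback.exists_preimage_pullback (f := G.s) (g := ι')
      r'' (pullback.snd G.s ι' p') (by rw [h2, hσpt])
    refine ⟨p'', hinj ?_, hp2⟩
    rw [hτpt, hp1, h1, hτpt]

/-- an invariant subset upstairs gives an invariant subset of `U` -/
theorem inv_image_of_inv {U' : Scheme.{u}} (ι' : U' ⟶ G.U) (hinj : Function.Injective ι')
    (τ : pullback G.s ι' ⟶ U') (hτ : τ ≫ ι' = pullback.fst G.s ι' ≫ G.t)
    (hrange : Inv G (Set.range ι'))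
    (A : Set U') (hA : ∀ p : ↥(pullback G.s ι'), pullback.snd G.s ι' p ∈ A ↔ τ p ∈ A) :
    Inv G (ι' '' A) := by
  have hτpt : ∀ p : ↥(pullback G.s ι'), ι' (τ p) = G.t (pullback.fst G.s ι' p) := fun p =>
    congrArg (fun f : pullback G.s ι' ⟶ G.U => f p) hτ
  intro r
  constructor
  · rintro ⟨w, hw, hwr⟩
    obtain ⟨p, hp1, hp2⟩ := Scheme.Pullback.exists_preimage_pullback (f := G.s) (g := ι')
      r w hwr.symm
    refine ⟨τ p, (hA p).mp (hp2 ▸ hw), ?_⟩
    rw [hτpt, hp1]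
  · rintro ⟨w, hw, hwr⟩
    -- `s r` is in the range since the range is invariant
    obtain ⟨w', hw'⟩ := (hrange r).mpr ⟨w, hwr⟩
    obtain ⟨p, hp1, hp2⟩ := Scheme.Pullback.exists_preimage_pullback (f := G.s) (g := ι')
      r w' hw'.symm
    have h1 : τ p = w := hinj (by rw [hτpt, hp1, hwr])
    refine ⟨w', ?_, hw'⟩
    rw [← hp2]
    exact (hA p).mpr (h1 ▸ hw)

end grpd

end Groth.Agent.Lib.Helper20.HG
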