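import Mathlib
import Groth.Agent.Lib.Helper20.HG12
import Groth.Agent.Lib.Helper1.AffThick

/-!
# HG13: invariant affine opens around finitely many points with generic orbits
-/

set_option autoImplicit false
set_option linter.style.haveILetI false
universe u
open CategoryTheory CategoryTheory.Limits AlgebraicGeometry

namespace Groth.Agent.Lib.Helper20.HG

open Groth.Agent.Lib.Helper20.HA

/-- an open set which is the range of a preimmersion from an affine scheme is affine -/
theorem isAffineOpen_of_range_preimmersion {X Y : Scheme.{u}} (g : X ⟶ Y) [IsPreimmersion g]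
    [IsAffine X] (V : Y.Opens) (hV : Set.range g = (V : Set Y)) : IsAffineOpen V := by
  have hr : Set.range g ⊆ Set.range V.ι := by rw [Scheme.Opens.range_ι, hV]
  set g' : X ⟶ V.toScheme := IsOpenImmersion.lift V.ι g hr with hg'
  have hfac : g' ≫ V.ι = g := IsOpenImmersion.lift_fac _ _ _
  haveI : IsPreimmersion (g' ≫ V.ι) := by rw [hfac]; infer_instance
  haveI : IsPreimmersion g' := IsPreimmersion.of_comp g' V.ι
  have hsurj : Function.Surjective g' := by
    intro y
    have hy : V.ι y ∈ Set.range g := by rw [hV]; exact y.2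
    obtain ⟨x, hx⟩ := hy
    refine ⟨x, V.ι.isOpenEmbedding.injective ?_⟩
    have : (g' ≫ V.ι) x = g x := by rw [hfac]
    exact this.trans hx
  haveI : IsClosedImmersion g' := IsClosedImmersion.of_isPreimmersion g' (by
    rw [hsurj.range_eq]; exact isClosed_univ)
  exact Groth.Agent.Lib.Helper1.AffThick.isAffine_of_thickening g' hsurj

section grpd

open Grpd

variable {S : Scheme.{u}} (G : GroupoidScheme S) [IsFinite G.s]

/-- a point whose orbit consists of generic points lies in one of the strata (version with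
locally finitely generated Fitting ideals) -/
theorem mem_Wset_of_generic' [IsFinite G.t]
    (hfg : ∀ (m : ℕ) (V : G.U.affineOpens), ((fit G.s m).ideal V).FG) (u : G.U)
    (hu : ∀ r : G.R, G.s r = u → ∀ x : G.U, x ⤳ G.t r → x = G.t r) : ∃ m, u ∈ Wset G m := by
  classical
  have hex : ∃ n, u ∉ Zs G n := by
    by_contra hcon
    push Not at hcon
    have : u ∈ ⋂ r, Zs G r := Set.mem_iInter.mpr hcon
    rw [iInter_Zs] at this
    exact this
  have hn := Nat.find_spec hex
  have hn0 : Nat.find hex ≠ 0 := by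
    intro h0
    rw [h0, Zs_zero] at hn
    exact hn trivial
  obtain ⟨m, hm⟩ := Nat.exists_eq_succ_of_ne_zero hn0
  have hmem : u ∈ Zs G m := by
    by_contra hcon
    exact Nat.find_min hex (show m < Nat.find hex by omega) hcon
  rw [hm] at hn
  refine ⟨m, hn, fun hK => ?_⟩
  obtain ⟨j, hj, r, hr, htr⟩ := (mem_Kn_iff G m u).mp hK
  have hv : ∀ x : G.U, x ⤳ G.s r → x = G.s r := by
    have := hu (G.i r) (by rw [i_s_pt]; exact htr)
    rwa [i_t_pt] at this
  have hvZ : G.s r ∈ Zs G m := (inv_Zs G m r).mpr (htr ▸ hmem)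
  obtain ⟨N, hvN, hN⟩ := exists_open_subset_support (fit G.s m) (hfg m) (G.s r) hv hvZ
  obtain ⟨y, hyN, hyW⟩ := mem_closure_iff.mp hr N N.isOpen hvN
  exact hyW.1 (Zs_antitone G (show j + 1 ≤ m by omega) (hN hyN))

/-- the strata as opens -/
noncomputable def WnO [IsFinite G.t] (n : ℕ) : G.U.Opens := ⟨Wset G n, isOpen_Wset G n⟩

lemma WnO_disjoint [IsFinite G.t] (m k : ℕ) (h : m ≠ k) : Disjoint (WnO G m) (WnO G k) := by
  rw [disjoint_iff, eq_bot_iff]
  intro x hx
  exact Set.disjoint_left.mp (Wset_disjoint G h) hx.1 hx.2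

lemma WnO_inv [IsFinite G.t] (m : ℕ) : G.s ⁻¹ᵁ WnO G m = G.t ⁻¹ᵁ WnO G m := by
  ext r
  exact inv_Wset G m r

lemma coe_WW_WnO [IsFinite G.t] : ((WW (WnO G) : G.U.Opens) : Set G.U) = ⋃ k, Wset G k := by
  unfold WW
  rw [TopologicalSpace.Opens.coe_iSup]
  rfl

/-- **Invariant affine opens around generic orbits.** -/
theorem exists_invariant_affine_of_generic [IsFinite G.t] [QuasiSeparatedSpace G.U]
    (hfg : ∀ (m : ℕ) (V : G.U.affineOpens), ((fit G.s m).ideal V).FG)
    (m : ℕ) (u : Fin m → G.U)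
    (hu : ∀ i (r : G.R), G.s r = u i → ∀ x : G.U, x ⤳ G.t r → x = G.t r) :
    ∃ V₁ : G.U.Opens, IsAffineOpen V₁ ∧ (∀ i, u i ∈ V₁) ∧ Inv G (V₁ : Set G.U) ∧
      (V₁ : Set G.U) ⊆ ⋃ k, Wset G k := by
  classical
  set F : ℕ → G.U.IdealSheafData := fun k => fit G.s k with hF
  have hdisj := WnO_disjoint G
  have hinv := WnO_inv G
  have hsub : ∀ k, ((WnO G k : G.U.Opens) : Set G.U) ⊆ (F k).support := fun k =>
    Wset_subset_Zs G k
  have hsupp' : ∀ k, Disjoint ((WnO G k : G.U.Opens) : Set G.U) ((F (k + 1)).support : Set G.U) :=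
    fun k => Wset_disjoint_Zs G k
  have hsupp := support_thick (WnO G) F hdisj hsub
  -- the inclusion `ι'`
  have hemb : Topology.IsEmbedding (thickι (WnO G) F) := Scheme.Hom.isEmbedding _
  have hinj : Function.Injective (thickι (WnO G) F) := hemb.injective
  have hrange : Set.range (thickι (WnO G) F) = ⋃ k, Wset G k := by
    rw [← coe_WW_WnO]
    have h1 : Set.range (thickι (WnO G) F) =
        (WW (WnO G)).ι '' Set.range (thick (WnO G) F).subschemeι := by
      rw [← Set.range_comp]
      rfl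
    rw [h1, Scheme.IdealSheafData.range_subschemeι, hsupp, TopologicalSpace.Closeds.coe_top,
      Set.image_univ, Scheme.Opens.range_ι]
  have hopen : Topology.IsOpenEmbedding (thickι (WnO G) F) :=
    ⟨hemb, by rw [hrange]; exact isOpen_iUnion fun k => isOpen_Wset G k⟩
  haveI : QuasiSeparatedSpace ↥(thick (WnO G) F).subscheme := hopen.quasiSeparatedSpace
  obtain ⟨τ, hτ⟩ := exists_factor (WnO G) F hdisj G.s G.t hinv (fun k => comap_s_eq_comap_t G k)
  obtain ⟨hfin, hflat, hlfp⟩ := isFinLocFree_thick (WnO G) F hdisj G.s (fun _ => rfl) hsupp'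
  have hrel := ptRel_restrict G (thickι (WnO G) F) hinj τ hτ
  have hτpt : ∀ p : ↥(pullback G.s (thickι (WnO G) F)), thickι (WnO G) F (τ p) =
      G.t (pullback.fst G.s (thickι (WnO G) F) p) := fun p =>
    congrArg (fun f : pullback G.s (thickι (WnO G) F) ⟶ G.U => f p) hτ
  have hσpt : ∀ p : ↥(pullback G.s (thickι (WnO G) F)),
      thickι (WnO G) F (pullback.snd G.s (thickι (WnO G) F) p) =
      G.s (pullback.fst G.s (thickι (WnO G) F) p) := fun p =>
    (congrArg (fun f : pullback G.s (thickι (WnO G) F) ⟶ G.U => f p)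
      (pullback.condition (f := G.s) (g := thickι (WnO G) F))).symm
  -- the points upstairs
  have hmem : ∀ i, u i ∈ Set.range (thickι (WnO G) F) := by
    intro i
    rw [hrange]
    obtain ⟨k, hk⟩ := mem_Wset_of_generic' G hfg (u i) (hu i)
    exact Set.mem_iUnion.mpr ⟨k, hk⟩
  choose u' hu' using hmem
  have hT0 : (Set.range u').Finite := Set.finite_range u'
  -- orbits consist of generic points
  have hgen : ∀ r : ↥(pullback G.s (thickι (WnO G) F)),
      pullback.snd G.s (thickι (WnO G) F) r ∈ Set.range u' →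
      ∀ x' : ↥(thick (WnO G) F).subscheme, x' ⤳ τ r → x' = τ r := by
    rintro r ⟨i, hi⟩ x' hx'
    apply hinj
    have h1 := hx'.map (thickι (WnO G) F).continuous
    rw [hτpt] at h1 ⊢
    refine hu i _ ?_ _ h1
    rw [← hσpt, ← hi, hu']
  have hT : (τ '' (pullback.snd G.s (thickι (WnO G) F) ⁻¹' Set.range u')).Finite := by
    refine Set.Finite.image _ ?_
    have : pullback.snd G.s (thickι (WnO G) F) ⁻¹' Set.range u' =
        ⋃ i : Fin m, pullback.snd G.s (thickι (WnO G) F) ⁻¹' {u' i} := by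
      ext r
      simp [eq_comm]
    rw [this]
    exact Set.finite_iUnion fun i =>
      Scheme.Hom.finite_preimage_singleton (pullback.snd G.s (thickι (WnO G) F)) (u' i)
  obtain ⟨V, hV, hTV⟩ := exists_affine_of_generic hT.toFinset (by
    intro v hv
    rw [Set.Finite.mem_toFinset] at hv
    obtain ⟨r, hr, rfl⟩ := hv
    exact hgen r hr)
  obtain ⟨V₀, hV₀, hT0V, hinvV⟩ := exists_invariant_affine_open'
    (pullback.snd G.s (thickι (WnO G) F)) τ hrel (Set.range u') hT0 V hV
    (fun r hr => hTV _ ((Set.Finite.mem_toFinset hT).mpr ⟨r, hr, rfl⟩))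
  refine ⟨⟨thickι (WnO G) F '' (V₀ : Set _), hopen.isOpenMap _ V₀.isOpen⟩, ?_, ?_, ?_, ?_⟩
  · haveI : IsAffine (V₀ : Scheme.{u}) := hV₀
    refine isAffineOpen_of_range_preimmersion (V₀.ι ≫ thickι (WnO G) F) _ ?_
    rw [Scheme.Hom.comp_base, TopCat.coe_comp, Set.range_comp, Scheme.Opens.range_ι]
    rfl
  · intro i
    exact ⟨u' i, hT0V ⟨i, rfl⟩, hu' i⟩
  · refine inv_image_of_inv G (thickι (WnO G) F) hinj τ hτ ?_ _ ?_
    · rw [hrange, ← coe_WW_WnO]
      intro r
      constructor
      · intro hr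
        obtain ⟨k, hk⟩ := TopologicalSpace.Opens.mem_iSup.mp hr
        exact TopologicalSpace.Opens.mem_iSup.mpr ⟨k, (inv_Wset G k r).mp hk⟩
      · intro hr
        obtain ⟨k, hk⟩ := TopologicalSpace.Opens.mem_iSup.mp hr
        exact TopologicalSpace.Opens.mem_iSup.mpr ⟨k, (inv_Wset G k r).mpr hk⟩
    · intro p
      have := congrArg (fun O : (pullback G.s (thickι (WnO G) F)).Opens => p ∈ O) hinvV
      exact iff_of_eq this
  · rintro _ ⟨w, -, rfl⟩
    rw [← hrange]
    exact ⟨w, rfl⟩

end grpd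

end Groth.Agent.Lib.Helper20.HG
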