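import Mathlib
import Groth.Agent.Lib.Helper20.HG13

/-!
# HG14: invariant affine thickenings around finitely many points with generic orbits
-/

set_option autoImplicit false
set_option linter.style.haveILetI false
universe u
open CategoryTheory CategoryTheory.Limits AlgebraicGeometry

namespace Groth.Agent.Lib.Helper20.HG

open Grpd

variable {S : Scheme.{u}} (G : GroupoidScheme S) [IsFinite G.s] [IsFinite G.t]

theorem exists_affine_thickening [QuasiSeparatedSpace G.U]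
    (hfg : ∀ (m : ℕ) (V : G.U.affineOpens), ((fit G.s m).ideal V).FG)
    (m : ℕ) (u : Fin m → G.U)
    (hu : ∀ i (r : G.R), G.s r = u i → ∀ x : G.U, x ⤳ G.t r → x = G.t r) :
    ∃ (V : G.U.Opens) (V' : (↑V : Scheme.{u}).IdealSheafData), IsAffineOpen V ∧
      (∀ i, u i ∈ V) ∧ G.s ⁻¹ᵁ V = G.t ⁻¹ᵁ V ∧ V'.support = ⊤ ∧
      LocallyOfFinitePresentation V'.subschemeι ∧
      (∃ φ : pullback G.s (V'.subschemeι ≫ V.ι) ≅ pullback G.t (V'.subschemeι ≫ V.ι),
        φ.hom ≫ pullback.fst G.t (V'.subschemeι ≫ V.ι) =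
          pullback.fst G.s (V'.subschemeι ≫ V.ι)) ∧
      Mor2.IsFinLocFree (pullback.snd G.s (V'.subschemeι ≫ V.ι)) ∧
      Mor2.IsFinLocFree (pullback.snd G.t (V'.subschemeι ≫ V.ι)) := by
  obtain ⟨V₁, hV₁, huV, hinvV, hsubV⟩ := exists_invariant_affine_of_generic G hfg m u hu
  set Wn : ℕ → G.U.Opens := fun k => WnO G k ⊓ V₁ with hWn
  have hWW : WW Wn = V₁ := by
    ext x
    simp only [WW, hWn, SetLike.mem_coe, TopologicalSpace.Opens.mem_iSup]
    constructor
    · rintro ⟨k, -, hx⟩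
      exact hx
    · intro hx
      obtain ⟨k, hk⟩ := Set.mem_iUnion.mp (hsubV hx)
      exact ⟨k, hk, hx⟩
  have hdisj : ∀ m k, m ≠ k → Disjoint (Wn m) (Wn k) := fun m k h =>
    (WnO_disjoint G m k h).mono inf_le_left inf_le_left
  have hinv : ∀ k, G.s ⁻¹ᵁ Wn k = G.t ⁻¹ᵁ Wn k := by
    intro k
    ext r
    exact and_congr (inv_Wset G k r) (hinvV r)
  have hsub : ∀ k, ((Wn k : G.U.Opens) : Set G.U) ⊆ (fit G.s k).support := fun k x hx =>
    Wset_subset_Zs G k hx.1
  have hsupp : ∀ k, Disjoint ((Wn k : G.U.Opens) : Set G.U)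
      ((fit G.s (k + 1)).support : Set G.U) := fun k =>
    (Wset_disjoint_Zs G k).mono_left fun x hx => hx.1
  refine ⟨WW Wn, thick Wn (fun k => fit G.s k), ?_, ?_, ?_, ?_, ?_, ?_, ?_, ?_⟩
  · rw [hWW]; exact hV₁
  · intro i; rw [hWW]; exact huV i
  · rw [hWW]
    ext r
    exact hinvV r
  · exact support_thick Wn _ hdisj hsub
  · exact lfp_thick Wn _ hdisj hfg
  · exact exists_iso_thick Wn _ hdisj G.s G.t hinv (fun k => comap_s_eq_comap_t G k)
  · exact isFinLocFree_thick Wn _ hdisj G.s (fun _ => rfl) hsupp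
  · exact isFinLocFree_thick Wn _ hdisj G.t (fun k => fit_t_eq G k) hsupp

end Groth.Agent.Lib.Helper20.HG
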