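import Mathlib
import Groth.Agent.Lib.Helper20.HG14

/-!
# HG15: invariant basic opens cut out by an ideal, affine finite locally free case
-/

set_option autoImplicit false
set_option linter.style.haveILetI false
universe u
open CategoryTheory CategoryTheory.Limits AlgebraicGeometry

namespace Groth.Agent.Lib.Helper20.HG

open Groth.Agent.Lib.Helper20.HA

section

variable {U' : Scheme.{u}} (A : Type u) [CommRing A] (j' : U' ⟶ Spec (CommRingCat.of A))

/-- the ring map `A → Γ(U')` induced by `j'` -/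
noncomputable def secMap : A →+* Γ(U', ⊤) :=
  j'.appTop.hom.comp (Scheme.ΓSpecIso (CommRingCat.of A)).inv.hom

lemma preimage_basicOpen_eq (h : A) :
    j' ⁻¹ᵁ PrimeSpectrum.basicOpen h = U'.basicOpen (secMap A j' h) := by
  rw [← basicOpen_eq_of_affine (R := CommRingCat.of A) h, Scheme.preimage_basicOpen_top]
  rfl

end

lemma app_surjective_congr {X Y : Scheme.{u}} (f : X ⟶ Y) {V W : Y.Opens} (e : V = W)
    (h : Function.Surjective (f.app V).hom) : Function.Surjective (f.app W).hom := by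
  subst e; exact h

lemma app_surjective_of_restrict {X Y : Scheme.{u}} (f : X ⟶ Y) (D : Y.Opens) (hD : IsAffineOpen D)
    [IsClosedImmersion (f ∣_ D)] : Function.Surjective (f.app D).hom := by
  haveI : IsAffine D.toScheme := hD
  have h1 := Scheme.Hom.app_surjective (f ∣_ D) ⊤ (isAffineOpen_top _)
  rw [morphismRestrict_app] at h1
  have h2 : Function.Surjective (f.app (D.ι ''ᵁ ⊤)).hom := by
    have hinj : Function.Injective ((X.presheaf.map
      (eqToHom (image_morphismRestrict_preimage f D ⊤)).op).hom) :=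
      (ConcreteCategory.bijective_of_isIso (X.presheaf.map
      (eqToHom (image_morphismRestrict_preimage f D ⊤)).op)).1
    intro b
    obtain ⟨a, ha⟩ := h1 ((X.presheaf.map
      (eqToHom (image_morphismRestrict_preimage f D ⊤)).op).hom b)
    exact ⟨a, hinj ha⟩
  exact app_surjective_congr f (by simp) h2

lemma exists_lift_of_restrict {X Y : Scheme.{u}} [IsAffine X] [IsAffine Y] (f : X ⟶ Y)
    (h0 : Γ(Y, ⊤)) [IsClosedImmersion (f ∣_ Y.basicOpen h0)] (g : Γ(X, ⊤)) :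
    ∃ (a : Γ(Y, ⊤)) (n M : ℕ),
      f.appTop.hom h0 ^ M * (g * f.appTop.hom h0 ^ n) = f.appTop.hom h0 ^ M * f.appTop.hom a := by
  have hsurj := app_surjective_of_restrict f (Y.basicOpen h0) ((isAffineOpen_top Y).basicOpen h0)
  obtain ⟨s', hs'⟩ := hsurj ((X.presheaf.map (homOfLE le_top : f ⁻¹ᵁ Y.basicOpen h0 ⟶ ⊤).op).hom g)
  haveI locY := (isAffineOpen_top Y).isLocalization_basicOpen h0
  obtain ⟨⟨a, ⟨_, n, rfl⟩⟩, ha⟩ := IsLocalization.surj (Submonoid.powers h0) s'
  refine ⟨a, n, ?_⟩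
  have hnat : ∀ y : Γ(Y, ⊤), (f.app (Y.basicOpen h0)).hom (algebraMap Γ(Y, ⊤) Γ(Y, Y.basicOpen h0) y) =
      (X.presheaf.map (homOfLE le_top : f ⁻¹ᵁ Y.basicOpen h0 ⟶ ⊤).op).hom (f.appTop.hom y) := by
    intro y
    have := Scheme.Hom.naturality f (homOfLE (Y.basicOpen_le h0) : Y.basicOpen h0 ⟶ ⊤).op
    exact congrArg (fun φ => φ.hom y) this
  have h3 := congrArg (f.app (Y.basicOpen h0)).hom ha
  simp only [map_mul, map_pow] at h3
  rw [hnat, hnat, hs', ← map_pow, ← map_mul] at h3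
  letI := (X.presheaf.map (homOfLE le_top : f ⁻¹ᵁ Y.basicOpen h0 ⟶ ⊤).op).hom.toAlgebra
  haveI locX : IsLocalization.Away (f.appTop.hom h0) Γ(X, f ⁻¹ᵁ Y.basicOpen h0) :=
    (isAffineOpen_top X).isLocalization_of_eq_basicOpen (f.appTop.hom h0) (homOfLE le_top)
      (Scheme.preimage_basicOpen_top f h0)
  obtain ⟨⟨_, M, rfl⟩, hc⟩ := (IsLocalization.exists_of_eq (M := Submonoid.powers (f.appTop.hom h0))
    (S := Γ(X, f ⁻¹ᵁ Y.basicOpen h0)) h3)
  exact ⟨M, hc⟩

theorem exists_invariant_basicOpen {U' R' : Scheme.{u}} (σ τ : R' ⟶ U') (hrel : PtRel σ τ)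
    [IsAffine U'] [IsFinite σ] [Flat σ] [LocallyOfFinitePresentation σ]
    (A : Type u) [CommRing A] (j' : U' ⟶ Spec (CommRingCat.of A)) [IsPreimmersion j']
    (I : Ideal A) (hI : ∀ x : U', j' x ∉ PrimeSpectrum.zeroLocus (I : Set A))
    (hcl : IsClosed (PrimeSpectrum.zeroLocus (I : Set A) ∪ Set.range j'))
    (T0 : Set U') (hT0 : T0.Finite) :
    ∃ h ∈ I, T0 ⊆ ((j' ⁻¹ᵁ PrimeSpectrum.basicOpen h : U'.Opens) : Set U') ∧
      σ ⁻¹ᵁ (j' ⁻¹ᵁ PrimeSpectrum.basicOpen h) = τ ⁻¹ᵁ (j' ⁻¹ᵁ PrimeSpectrum.basicOpen h) := by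
  classical
  haveI : IsAffine R' := isAffine_of_isAffineHom σ
  -- Step 1: an element of `I` not vanishing on the orbit
  let T : Set U' := τ '' (σ ⁻¹' T0)
  have hT : T.Finite := by
    refine Set.Finite.image _ ?_
    have : σ ⁻¹' T0 = ⋃ x ∈ T0, σ ⁻¹' {x} := by
      ext r
      simp
    rw [this]
    exact hT0.biUnion fun x _ => Scheme.Hom.finite_preimage_singleton σ x
  obtain ⟨f, hf1, hf2⟩ := exists_basicOpen_of_finite (A := A) (j' '' T) (hT.image _)
    ⟨(PrimeSpectrum.zeroLocus (I : Set A))ᶜ, (PrimeSpectrum.isClosed_zeroLocus _).isOpen_compl⟩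
    (by rintro _ ⟨y, -, rfl⟩; exact hI y)
  have hfrad : f ∈ I.radical := by
    rw [← PrimeSpectrum.vanishingIdeal_zeroLocus_eq_radical, PrimeSpectrum.mem_vanishingIdeal]
    intro p hp
    by_contra hfp
    exact hf2 (show p ∈ PrimeSpectrum.basicOpen f from hfp) hp
  obtain ⟨n, hn⟩ := hfrad
  have hh0 : f ^ (n + 1) ∈ I := by rw [pow_succ]; exact I.mul_mem_right _ hn
  have hD0 : PrimeSpectrum.basicOpen (f ^ (n + 1)) = PrimeSpectrum.basicOpen f :=
    PrimeSpectrum.basicOpen_pow f (n + 1) (Nat.succ_pos n)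
  set h0 : A := f ^ (n + 1) with hh0def
  set h₁ : Γ(U', ⊤) := secMap A j' h0 with hh₁
  have hD1 : ∀ y : U', y ∈ U'.basicOpen h₁ ↔ j' y ∈ PrimeSpectrum.basicOpen f := by
    intro y
    rw [← preimage_basicOpen_eq, hD0]
    rfl
  -- Step 3: the norm locus
  obtain ⟨g, hg⟩ := exists_norm_locus σ (τ.appTop h₁)
  have hg' : ∀ y : U', y ∈ U'.basicOpen g ↔ ∀ x : R', σ x = y → τ x ∈ U'.basicOpen h₁ := by
    intro y
    rw [hg]
    refine forall_congr' fun x => imp_congr_right fun _ => ?_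
    rw [← Scheme.preimage_basicOpen_top]
    rfl
  have hgle : U'.basicOpen g ≤ U'.basicOpen h₁ := by
    intro y hy
    obtain ⟨r, hr1, hr2⟩ := hrel.refl y
    have := (hg' y).mp hy r hr1
    rwa [hr2] at this
  have hfw : ∀ r₀ : R', σ r₀ ∈ U'.basicOpen g → τ r₀ ∈ U'.basicOpen g := by
    intro r₀ hr₀
    rw [hg'] at hr₀ ⊢
    intro r hr
    obtain ⟨r'', h1, h2⟩ := hrel.trans r r₀ hr
    rw [← h1]
    exact hr₀ r'' h2
  have hginv : σ ⁻¹ᵁ U'.basicOpen g = τ ⁻¹ᵁ U'.basicOpen g := by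
    ext r₀
    show σ r₀ ∈ U'.basicOpen g ↔ τ r₀ ∈ U'.basicOpen g
    constructor
    · exact hfw r₀
    · intro hτ
      obtain ⟨r', h1, h2⟩ := hrel.symm r₀
      have := hfw r' (by rw [h1]; exact hτ)
      rwa [h2] at this
  have hT0g : T0 ⊆ ((U'.basicOpen g : U'.Opens) : Set U') := by
    intro y hy
    rw [SetLike.mem_coe, hg']
    intro x hx
    rw [hD1]
    exact hf1 ⟨τ x, ⟨x, by rw [Set.mem_preimage, hx]; exact hy, rfl⟩, rfl⟩
  -- Step 5: lifting `g` up to powers of `h₁`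
  set h0t : Γ(Spec (CommRingCat.of A), ⊤) :=
    (Scheme.ΓSpecIso (CommRingCat.of A)).inv.hom h0 with hh0t
  have hDeq : (Spec (CommRingCat.of A)).basicOpen h0t = PrimeSpectrum.basicOpen h0 :=
    basicOpen_eq_of_affine (R := CommRingCat.of A) h0
  haveI : IsPreimmersion (j' ∣_ (Spec (CommRingCat.of A)).basicOpen h0t) :=
    IsZariskiLocalAtTarget.restrict ‹_› _
  haveI : IsClosedImmersion (j' ∣_ (Spec (CommRingCat.of A)).basicOpen h0t) := by
    apply IsClosedImmersion.of_isPreimmersion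
    have : Set.range (j' ∣_ (Spec (CommRingCat.of A)).basicOpen h0t) =
        (Subtype.val : ((Spec (CommRingCat.of A)).basicOpen h0t) → _) ⁻¹'
          (PrimeSpectrum.zeroLocus (I : Set A) ∪ Set.range j') := by
      ext p
      constructor
      · rintro ⟨x, hx⟩
        right
        refine ⟨x.1, ?_⟩
        have := morphismRestrict_base_coe j' _ x
        rw [hx] at this
        exact this.symm
      · rintro (hpI | ⟨y, hy⟩)
        · exfalso
          have hp : p.1 ∈ (PrimeSpectrum.basicOpen h0 : TopologicalSpace.Opens _) :=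
            hDeq ▸ p.2
          exact hp (hpI hh0)
        · have hy' : y ∈ j' ⁻¹ᵁ (Spec (CommRingCat.of A)).basicOpen h0t := by
            show j' y ∈ (Spec (CommRingCat.of A)).basicOpen h0t
            rw [hy]
            exact p.2
          refine ⟨⟨y, hy'⟩, Subtype.ext ?_⟩
          exact (morphismRestrict_base_coe j' _ ⟨y, hy'⟩).trans hy
    rw [this]
    exact hcl.preimage continuous_subtype_val
  obtain ⟨a, n', M, hlift⟩ := exists_lift_of_restrict j' h0t g
  have hh₁' : j'.appTop.hom h0t = h₁ := rfl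
  rw [hh₁'] at hlift
  -- Step 6
  set a₀ : A := (Scheme.ΓSpecIso (CommRingCat.of A)).hom.hom a with ha₀
  have hsa : secMap A j' a₀ = j'.appTop.hom a := by
    show j'.appTop.hom ((Scheme.ΓSpecIso (CommRingCat.of A)).inv.hom
      ((Scheme.ΓSpecIso (CommRingCat.of A)).hom.hom a)) = _
    congr 1
    exact congrArg (fun φ => φ.hom a) (Scheme.ΓSpecIso (CommRingCat.of A)).hom_inv_id
  refine ⟨a₀ * h0 ^ (M + 1), I.mul_mem_left _ (I.pow_mem_of_mem hh0 _ (Nat.succ_pos M)), ?_⟩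
  have hsec : secMap A j' (a₀ * h0 ^ (M + 1)) = g * h₁ ^ (M + n' + 1) := by
    rw [map_mul, map_pow, hsa, ← hh₁, pow_succ, ← mul_assoc, mul_comm (j'.appTop.hom a),
      ← hlift]
    ring
  have hfin : j' ⁻¹ᵁ PrimeSpectrum.basicOpen (a₀ * h0 ^ (M + 1)) = U'.basicOpen g := by
    rw [preimage_basicOpen_eq, hsec, Scheme.basicOpen_mul, Scheme.basicOpen_pow _ _ (Nat.succ_pos _)]
    exact inf_eq_left.mpr hgle
  rw [hfin]
  exact ⟨hT0g, hginv⟩

end Groth.Agent.Lib.Helper20.HG
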