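import Mathlib
import Groth.Agent.Lib.Helper20.HG15

/-!
# HG16: invariant affine basic opens for groupoids with generic orbits
-/

set_option autoImplicit false
set_option linter.style.haveILetI false
universe u
open CategoryTheory CategoryTheory.Limits AlgebraicGeometry

namespace Groth.Agent.Lib.Helper20.HG

open Grpd
open Groth.Agent.Lib.Helper20.HA

variable {S : Scheme.{u}} (G : GroupoidScheme S) [IsFinite G.s] [IsFinite G.t]

theorem exists_invariant_affine_basicOpen [LocallyOfFinitePresentation G.s]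
    (m : ℕ) (u : Fin m → G.U)
    (hu : ∀ i (r : G.R), G.s r = u i → ∀ x : G.U, x ⤳ G.t r → x = G.t r)
    (A : Type u) [CommRing A] (j : G.U ⟶ Spec (CommRingCat.of A)) [IsImmersion j] (I : Ideal A)
    (hI : ∀ x : G.U, j x ∉ PrimeSpectrum.zeroLocus (I : Set A))
    (hcl : IsClosed (PrimeSpectrum.zeroLocus (I : Set A) ∪ Set.range j)) :
    ∃ h ∈ I, IsAffineOpen (j ⁻¹ᵁ PrimeSpectrum.basicOpen h) ∧
      (∀ i, u i ∈ j ⁻¹ᵁ PrimeSpectrum.basicOpen h) ∧
      G.s ⁻¹ᵁ (j ⁻¹ᵁ PrimeSpectrum.basicOpen h) = G.t ⁻¹ᵁ (j ⁻¹ᵁ PrimeSpectrum.basicOpen h) := by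
  classical
  haveI : QuasiSeparatedSpace G.U := quasiSeparatedSpace_of_quasiSeparated j
  have hfg : ∀ (m : ℕ) (V : G.U.affineOpens), ((fit G.s m).ideal V).FG :=
    fun m V => fit_ideal_fg G.s m V
  obtain ⟨V₁, hV₁, huV, hinvV, hsubV⟩ := exists_invariant_affine_of_generic G hfg m u hu
  set F : ℕ → G.U.IdealSheafData := fun k => fit G.s k with hF
  set Wn : ℕ → G.U.Opens := fun k => WnO G k ⊓ V₁ with hWn
  have hWW : WW Wn = V₁ := by
    ext x
    simp only [WW, hWn, SetLike.mem_coe, TopologicalSpace.Opens.mem_iSup]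
    constructor
    · rintro ⟨k, -, hx⟩
      exact hx
    · intro hx
      obtain ⟨k, hk⟩ := Set.mem_iUnion.mp (hsubV hx)
      exact ⟨k, hk, hx⟩
  have hdisj : ∀ m k, m ≠ k → Disjoint (Wn m) (Wn k) := fun m k h =>
    (WnO_disjoint G m k h).mono inf_le_left inf_le_left
  have hinv : ∀ k, G.s ⁻¹ᵁ Wn k = G.t ⁻¹ᵁ Wn k := by
    intro k
    ext r
    exact and_congr (inv_Wset G k r) (hinvV r)
  have hsub : ∀ k, ((Wn k : G.U.Opens) : Set G.U) ⊆ (F k).support := fun k x hx =>
    Wset_subset_Zs G k hx.1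
  have hsupp : ∀ k, Disjoint ((Wn k : G.U.Opens) : Set G.U)
      ((F (k + 1)).support : Set G.U) := fun k =>
    (Wset_disjoint_Zs G k).mono_left fun x hx => hx.1
  have hsuppT := support_thick Wn F hdisj hsub
  have hemb : Topology.IsEmbedding (thickι Wn F) := Scheme.Hom.isEmbedding _
  have hinj : Function.Injective (thickι Wn F) := hemb.injective
  have hrange : Set.range (thickι Wn F) = (V₁ : Set G.U) := by
    have h1 : Set.range (thickι Wn F) =
        (WW Wn).ι '' Set.range (thick Wn F).subschemeι := by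
      rw [← Set.range_comp]
      rfl
    rw [h1, Scheme.IdealSheafData.range_subschemeι, hsuppT, TopologicalSpace.Closeds.coe_top,
      Set.image_univ, Scheme.Opens.range_ι, hWW]
  obtain ⟨τ, hτ⟩ := exists_factor Wn F hdisj G.s G.t hinv (fun k => comap_s_eq_comap_t G k)
  obtain ⟨hfin, hflat, hlfp⟩ := isFinLocFree_thick Wn F hdisj G.s (fun _ => rfl) hsupp
  have hrel := ptRel_restrict G (thickι Wn F) hinj τ hτ
  have hτpt : ∀ p : ↥(pullback G.s (thickι Wn F)), thickι Wn F (τ p) =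
      G.t (pullback.fst G.s (thickι Wn F) p) := fun p =>
    congrArg (fun f : pullback G.s (thickι Wn F) ⟶ G.U => f p) hτ
  have hσpt : ∀ p : ↥(pullback G.s (thickι Wn F)),
      thickι Wn F (pullback.snd G.s (thickι Wn F) p) =
      G.s (pullback.fst G.s (thickι Wn F) p) := fun p =>
    (congrArg (fun f : pullback G.s (thickι Wn F) ⟶ G.U => f p)
      (pullback.condition (f := G.s) (g := thickι Wn F))).symm
  -- affineness
  have hWWaff : IsAffineOpen (WW Wn) := hWW ▸ hV₁
  haveI : IsAffine (WW Wn).toScheme := hWWaff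
  haveI : IsAffine (thick Wn F).subscheme := isAffine_of_isAffineHom (thick Wn F).subschemeι
  -- the points upstairs
  have hmem : ∀ i, u i ∈ Set.range (thickι Wn F) := by
    intro i
    rw [hrange]
    exact huV i
  choose u' hu' using hmem
  have hT0 : (Set.range u').Finite := Set.finite_range u'
  -- the ideal
  set K : Ideal A := PrimeSpectrum.vanishingIdeal (j '' ((V₁ : Set G.U)ᶜ)) with hK
  have hjemb : Topology.IsEmbedding j := Scheme.Hom.isEmbedding j
  have hclK : PrimeSpectrum.zeroLocus (K : Set A) = closure (j '' ((V₁ : Set G.U)ᶜ)) :=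
    PrimeSpectrum.zeroLocus_vanishingIdeal_eq_closure _
  have hzJ : PrimeSpectrum.zeroLocus ((I ⊓ K : Ideal A) : Set A) =
      PrimeSpectrum.zeroLocus (I : Set A) ∪ closure (j '' ((V₁ : Set G.U)ᶜ)) := by
    rw [PrimeSpectrum.zeroLocus_inf, hclK]
    rfl
  have hrange' : Set.range (thickι Wn F ≫ j) = j '' (V₁ : Set G.U) := by
    rw [Scheme.Hom.comp_base, TopCat.coe_comp, Set.range_comp, hrange]
  have hnotcl : ∀ y : G.U, y ∈ V₁ → j y ∉ closure (j '' ((V₁ : Set G.U)ᶜ)) := by
    intro y hy hcon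
    have h2 : y ∈ closure ((V₁ : Set G.U)ᶜ) := by
      rw [hjemb.closure_eq_preimage_closure_image]
      exact hcon
    rw [V₁.isOpen.isClosed_compl.closure_eq] at h2
    exact h2 hy
  have hI' : ∀ x : ↥(thick Wn F).subscheme,
      (thickι Wn F ≫ j) x ∉ PrimeSpectrum.zeroLocus ((I ⊓ K : Ideal A) : Set A) := by
    intro x
    rw [hzJ]
    rintro (h1 | h1)
    · exact hI _ h1
    · refine hnotcl (thickι Wn F x) ?_ h1
      rw [← SetLike.mem_coe, ← hrange]
      exact ⟨x, rfl⟩
  have hcl' : IsClosed (PrimeSpectrum.zeroLocus ((I ⊓ K : Ideal A) : Set A) ∪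
      Set.range (thickι Wn F ≫ j)) := by
    have : PrimeSpectrum.zeroLocus ((I ⊓ K : Ideal A) : Set A) ∪ Set.range (thickι Wn F ≫ j) =
        PrimeSpectrum.zeroLocus (I : Set A) ∪ Set.range j := by
      have hzJ' : ∀ p : ↥(Spec (CommRingCat.of A)),
          p ∈ PrimeSpectrum.zeroLocus ((I ⊓ K : Ideal A) : Set A) ↔
            p ∈ PrimeSpectrum.zeroLocus (I : Set A) ∨ p ∈ closure (j '' ((V₁ : Set G.U)ᶜ)) :=
        fun p => Set.ext_iff.mp hzJ p
      have hrange'' : ∀ p : ↥(Spec (CommRingCat.of A)),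
          p ∈ Set.range (thickι Wn F ≫ j) ↔ p ∈ j '' (V₁ : Set G.U) :=
        fun p => Set.ext_iff.mp hrange' p
      apply Set.Subset.antisymm
      · rintro p (hp | hp)
        · rcases (hzJ' p).mp hp with hp | hp
          · exact Or.inl hp
          · refine closure_minimal ?_ hcl hp
            rintro _ ⟨y, -, rfl⟩
            exact Or.inr ⟨y, rfl⟩
        · obtain ⟨y, -, rfl⟩ := (hrange'' p).mp hp
          exact Or.inr ⟨y, rfl⟩
      · rintro p (hp | ⟨y, rfl⟩)
        · exact Or.inl ((hzJ' p).mpr (Or.inl hp))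
        · by_cases hy : y ∈ V₁
          · exact Or.inr ((hrange'' (j y)).mpr ⟨y, hy, rfl⟩)
          · exact Or.inl ((hzJ' (j y)).mpr (Or.inr (subset_closure ⟨y, hy, rfl⟩)))
    rw [this]
    exact hcl
  obtain ⟨h, hhJ, hT0h, hinvh⟩ := exists_invariant_basicOpen (pullback.snd G.s (thickι Wn F)) τ hrel
    A (thickι Wn F ≫ j) (I ⊓ K) hI' hcl' (Set.range u') hT0
  have hhI : h ∈ I := hhJ.1
  have hhK : h ∈ K := hhJ.2
  -- the preimage of `D(h)` lies in `V₁`
  have hsubV₁ : ∀ y : G.U, j y ∈ PrimeSpectrum.basicOpen h → y ∈ V₁ := by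
    intro y hy
    by_contra hcon
    rw [hK, PrimeSpectrum.mem_vanishingIdeal] at hhK
    exact hy (hhK (j y) ⟨y, hcon, rfl⟩)
  obtain ⟨O, hOdef⟩ : ∃ O : (thick Wn F).subscheme.Opens,
      O = (thickι Wn F ≫ j) ⁻¹ᵁ PrimeSpectrum.basicOpen h := ⟨_, rfl⟩
  rw [← hOdef] at hT0h hinvh
  have hOmem : ∀ x, x ∈ O ↔ j (thickι Wn F x) ∈ PrimeSpectrum.basicOpen h := by
    intro x
    rw [hOdef]
    rfl
  have haff : IsAffineOpen O := by
    rw [hOdef, preimage_basicOpen_eq]
    exact (isAffineOpen_top _).basicOpen _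
  clear hOdef
  have himage : ((j ⁻¹ᵁ PrimeSpectrum.basicOpen h : G.U.Opens) : Set G.U) =
      thickι Wn F '' (O : Set _) := by
    ext y
    constructor
    · intro hy
      have hyV : y ∈ Set.range (thickι Wn F) := by rw [hrange]; exact hsubV₁ y hy
      obtain ⟨x, rfl⟩ := hyV
      exact ⟨x, (hOmem x).mpr hy, rfl⟩
    · rintro ⟨x, hx, rfl⟩
      exact (hOmem x).mp hx
  refine ⟨h, hhI, ?_, ?_, ?_⟩
  · haveI : IsAffine (O : Scheme.{u}) := haff
    refine isAffineOpen_of_range_preimmersion (O.ι ≫ thickι Wn F) _ ?_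
    rw [Scheme.Hom.comp_base, TopCat.coe_comp, Set.range_comp, Scheme.Opens.range_ι, himage]
  · intro i
    have h2 := (hOmem (u' i)).mp (hT0h ⟨i, rfl⟩)
    rw [hu'] at h2
    exact h2
  · have hInv : Inv G (thickι Wn F '' (O : Set _)) := by
      refine inv_image_of_inv G (thickι Wn F) hinj τ hτ ?_ _ ?_
      · rw [hrange]
        exact hinvV
      · intro p
        have := congrArg (fun O' : (pullback G.s (thickι Wn F)).Opens => p ∈ O') hinvh
        exact iff_of_eq this
    rw [← himage] at hInv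
    ext r
    exact hInv r

end Groth.Agent.Lib.Helper20.HG
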