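import Mathlib
import Groth.Agent.Lib.Helper21.OpenNbhd2

/-!
# HH1: maximal generizations ("generic points of irreducible components"), helper20
-/

set_option autoImplicit false
universe u
open AlgebraicGeometry CategoryTheory TopologicalSpace

namespace Groth.Agent.Lib.Helper20.HH

section Top

/-- A point without proper generizations. -/
def IsMaxGen {T : Type*} [TopologicalSpace T] (η : T) : Prop := ∀ z : T, z ⤳ η → z = η

theorem isMaxGen_iff {T : Type*} [TopologicalSpace T] [QuasiSober T] [T0Space T] (η : T) :
    closure {η} ∈ irreducibleComponents T ↔ IsMaxGen η :=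
  Groth.Agent.Lib.Helper21.OpenNbhd.closure_singleton_mem_irreducibleComponents_iff η

theorem exists_isMaxGen_specializes {T : Type*} [TopologicalSpace T] [QuasiSober T] [T0Space T]
    (z : T) : ∃ η : T, IsMaxGen η ∧ η ⤳ z := by
  have hZ := irreducibleComponent_mem_irreducibleComponents z
  have hcl := isClosed_of_mem_irreducibleComponents _ hZ
  obtain ⟨η, hη⟩ := QuasiSober.sober hZ.1 hcl
  refine ⟨η, ?_, ?_⟩
  · rw [← isMaxGen_iff, hη.def]; exact hZ
  · rw [specializes_iff_mem_closure, hη.def]; exact mem_irreducibleComponent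

theorem isMaxGen_map_iff {U T : Type*} [TopologicalSpace U] [TopologicalSpace T] {j : U → T}
    (hj : Topology.IsOpenEmbedding j) (η : U) : IsMaxGen (j η) ↔ IsMaxGen η := by
  constructor
  · intro h z hz
    exact hj.injective (h (j z) (hz.map hj.continuous))
  · intro h z hz
    have hzU : z ∈ Set.range j := hz.mem_open hj.isOpen_range ⟨η, rfl⟩
    obtain ⟨z', rfl⟩ := hzU
    have : z' ⤳ η := hj.isInducing.specializes_iff.mp hz
    rw [h z' this]

theorem isMaxGen_homeomorph_iff {U T : Type*} [TopologicalSpace U] [TopologicalSpace T] {j : U → T}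
    (hj : IsHomeomorph j) (η : U) : IsMaxGen (j η) ↔ IsMaxGen η :=
  isMaxGen_map_iff hj.isOpenEmbedding η

theorem finite_isMaxGen {T : Type*} [TopologicalSpace T] [QuasiSober T] [T0Space T]
    (h : (irreducibleComponents T).Finite) : {η : T | IsMaxGen η}.Finite := by
  refine Set.Finite.of_finite_image (f := fun η => closure {η}) (h.subset ?_) ?_
  · rintro _ ⟨η, hη, rfl⟩; exact (isMaxGen_iff η).mpr hη
  · intro a _ b _ hab
    exact (inseparable_iff_closure_eq.mpr hab).eq

theorem exists_isMaxGen_of_denseRange {T Y : Type*} [TopologicalSpace T] [TopologicalSpace Y]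
    [QuasiSober T] [T0Space T] {h : T → Y} (hc : Continuous h) (hd : DenseRange h)
    (hfin : {η : T | IsMaxGen η}.Finite) (ξ : Y) (hξ : IsMaxGen ξ) :
    ∃ η : T, IsMaxGen η ∧ h η = ξ := by
  have hcl : IsClosed (⋃ η ∈ {η : T | IsMaxGen η}, closure {h η}) :=
    hfin.isClosed_biUnion fun _ _ => isClosed_closure
  have hsub : Set.range h ⊆ ⋃ η ∈ {η : T | IsMaxGen η}, closure {h η} := by
    rintro _ ⟨t, rfl⟩
    obtain ⟨η, hη, hsp⟩ := exists_isMaxGen_specializes t
    simp only [Set.mem_setOf_eq, Set.mem_iUnion, exists_prop]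
    exact ⟨η, hη, (specializes_iff_mem_closure.mp (hsp.map hc))⟩
  have h1 : closure (Set.range h) ⊆ _ := closure_minimal hsub hcl
  have h2 : ξ ∈ closure (Set.range h) := hd ξ
  have h3 := h1 h2
  simp only [Set.mem_setOf_eq, Set.mem_iUnion, exists_prop] at h3
  obtain ⟨η, hη, hmem⟩ := h3
  exact ⟨η, hη, hξ _ (specializes_iff_mem_closure.mpr hmem)⟩

/-- finiteness of maximal generizations transfers along a map injective on them into a finite set -/
theorem finite_isMaxGen_of_injOn {T X : Type*} [TopologicalSpace T] [TopologicalSpace X]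
    (f : T → X) (hX : {ξ : X | IsMaxGen ξ}.Finite)
    (hgen : ∀ η : T, IsMaxGen η → IsMaxGen (f η))
    (hinj : ∀ η η' : T, IsMaxGen η → IsMaxGen η' → f η = f η' → η = η') :
    {η : T | IsMaxGen η}.Finite := by
  refine Set.Finite.of_finite_image (f := f) (hX.subset ?_) ?_
  · rintro _ ⟨η, hη, rfl⟩; exact hgen η hη
  · intro a ha b hb hab
    exact hinj a b ha hb hab

end Top

section Sch

/-- On a reduced scheme a section whose basic open contains no maximal generization is zero. -/
theorem eq_zero_of_forall_isMaxGen_notMem {T : Scheme.{u}} [IsReduced T] {O : T.Opens}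
    (z : Γ(T, O)) (hz : ∀ η : T, IsMaxGen η → η ∉ T.basicOpen z) : z = 0 := by
  rw [← basicOpen_eq_bot_iff]
  by_contra hne
  obtain ⟨x, hx⟩ : ∃ x, x ∈ T.basicOpen z := by
    by_contra hcon
    push_neg at hcon
    apply hne
    ext x
    simp only [SetLike.mem_coe, Opens.coe_bot, Set.mem_empty_iff_false, iff_false]
    exact hcon x
  obtain ⟨η, hη, hsp⟩ := exists_isMaxGen_specializes x
  exact hz η hη (hsp.mem_open (T.basicOpen z).isOpen hx)

/-- sections of the scheme theoretic image inject into sections of the source, on all opens. -/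
theorem toImage_app_injective' {X Y : Scheme.{u}} (f : X ⟶ Y) [QuasiCompact f]
    (U : f.image.Opens) : Function.Injective (f.toImage.app U) := by
  exact TopCat.Presheaf.app_injective_of_stalkFunctor_map_injective
    (F := f.image.sheaf) f.toImage.c U
    (fun x _ => f.stalkFunctor_toImage_injective x)

end Sch

end Groth.Agent.Lib.Helper20.HH
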