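import Mathlib
import Groth.Agent.Lib.Helper20.HH1

/-!
# HH2: injectivity of the stalk maps of `toImage` (reduced source), helper20
-/

set_option autoImplicit false
universe u
open AlgebraicGeometry CategoryTheory TopologicalSpace

namespace Groth.Agent.Lib.Helper20.HH

theorem stalkMap_toImage_injective {T P : Scheme.{u}} (ψ : T ⟶ P) [QuasiCompact ψ] [IsReduced T]
    (t : T) (a : Γ(ψ.image, ⊤)) (hat : t ∈ T.basicOpen (ψ.toImage.appTop a))
    (ha : ∀ η : T, IsMaxGen η → η ∈ T.basicOpen (ψ.toImage.appTop a) → η ⤳ t) :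
    Function.Injective (ψ.toImage.stalkMap t) := by
  rw [injective_iff_map_eq_zero]
  intro c hc
  obtain ⟨U, hyU, s, rfl⟩ := TopCat.Presheaf.exists_germ_eq ψ.image.presheaf (x := ψ.toImage t) c
  rw [Scheme.Hom.germ_stalkMap_apply] at hc
  have hyU' : t ∈ ψ.toImage ⁻¹ᵁ U := hyU
  obtain ⟨N, hN, i, i', hres⟩ := TopCat.Presheaf.germ_eq T.presheaf t hyU' hyU'
    (ψ.toImage.app U s) 0 (by rw [hc, map_zero])
  rw [map_zero] at hres
  let aU : Γ(ψ.image, U) := ψ.image.presheaf.map (homOfLE le_top).op a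
  have hzero : ψ.toImage.app U (aU * s) = 0 := by
    apply eq_zero_of_forall_isMaxGen_notMem
    intro η hη hmem
    rw [map_mul, Scheme.basicOpen_mul] at hmem
    obtain ⟨h1, h2⟩ := hmem
    have hη1 : η ∈ T.basicOpen (ψ.toImage.appTop a) := by
      rw [← Scheme.preimage_basicOpen] at h1
      rw [← Scheme.preimage_basicOpen_top]
      have h3 : ψ.image.basicOpen aU ≤ ψ.image.basicOpen a := by
        rw [Scheme.basicOpen_res]; exact inf_le_right
      exact h3 h1
    have hsp := ha η hη hη1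
    have hηN : η ∈ N := hsp.mem_open N.isOpen hN
    have : η ∈ T.basicOpen (T.presheaf.map i.op (ψ.toImage.app U s)) := by
      rw [Scheme.basicOpen_res]; exact ⟨hηN, h2⟩
    rw [hres, Scheme.basicOpen_zero] at this
    exact this
  have hzero' : aU * s = 0 := toImage_app_injective' ψ U (by rw [hzero, map_zero])
  have hunit : IsUnit (ψ.image.presheaf.germ U (ψ.toImage t) hyU aU) := by
    rw [← Scheme.mem_basicOpen, Scheme.basicOpen_res]
    refine ⟨hyU, ?_⟩
    have : t ∈ ψ.toImage ⁻¹ᵁ ψ.image.basicOpen a := by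
      rw [Scheme.preimage_basicOpen_top]; exact hat
    exact this
  have hmul : ψ.image.presheaf.germ U (ψ.toImage t) hyU aU *
      ψ.image.presheaf.germ U (ψ.toImage t) hyU s = 0 := by
    rw [← map_mul, hzero', map_zero]
  exact (hunit.mul_right_eq_zero).mp hmul

end Groth.Agent.Lib.Helper20.HH
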