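import Mathlib
import Groth.Agent.Lib.Helper20.HH2

/-!
# HH3: the finite type approximation `T → Y ⊆ 𝔸ⁿ_X` and affineness of the open `W`, helper20
-/

set_option autoImplicit false
universe u
open AlgebraicGeometry CategoryTheory TopologicalSpace

namespace Groth.Agent.Lib.Helper20.HH

section Basic

theorem mem_basicOpen_pow {X : Scheme.{u}} {U : X.Opens} (s : Γ(X, U)) (n : ℕ) (x : X)
    (hx : x ∈ X.basicOpen s) : x ∈ X.basicOpen (s ^ n) := by
  have hxU : x ∈ U := X.basicOpen_le _ hx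
  rw [Scheme.mem_basicOpen _ _ _ hxU] at hx ⊢
  rw [map_pow]
  exact hx.pow n

theorem exists_mem_basicOpen_of_mem_basicOpen_sum {X : Scheme.{u}} {U : X.Opens} {ι : Type*}
    (L : Finset ι) (g : ι → Γ(X, U)) (x : X) (hx : x ∈ X.basicOpen (∑ r ∈ L, g r)) :
    ∃ r ∈ L, x ∈ X.basicOpen (g r) := by
  classical
  induction L using Finset.induction_on with
  | empty =>
    rw [Finset.sum_empty, Scheme.basicOpen_zero] at hx
    exact absurd hx (by simp)
  | insert a L ha ih =>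
    rw [Finset.sum_insert ha] at hx
    have := Scheme.basicOpen_add_le (X := X) (f := g a) (g := ∑ r ∈ L, g r) hx
    rcases this with h1 | h2
    · exact ⟨a, Finset.mem_insert_self _ _, h1⟩
    · obtain ⟨r, hr, hxr⟩ := ih h2
      exact ⟨r, Finset.mem_insert_of_mem hr, hxr⟩

end Basic

namespace Approx

variable {T X : Scheme.{u}} (f : T ⟶ X) (G : Finset Γ(T, ⊤))

/-- the morphism to affine space -/
noncomputable def ψ : T ⟶ 𝔸(↥G; X) := AffineSpace.homOfVector f (fun i : ↥G => i.1)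

lemma ψ_over : ψ f G ≫ (𝔸(↥G; X) ↘ X) = f := AffineSpace.homOfVector_over _ _

lemma ψ_appTop_coord (g : ↥G) : (ψ f G).appTop (AffineSpace.coord X g) = g.1 :=
  AffineSpace.homOfVector_appTop_coord _ _ _

instance [QuasiSeparatedSpace X] : QuasiSeparatedSpace ↥(𝔸(↥G; X)) :=
  quasiSeparatedSpace_of_quasiSeparated (𝔸(↥G; X) ↘ X)

instance [CompactSpace T] [QuasiSeparatedSpace X] : QuasiCompact (ψ f G) :=
  quasiCompact_of_compactSpace _

/-- the approximation -/
noncomputable abbrev Y : Scheme.{u} := (ψ f G).image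

noncomputable abbrev ι : Y f G ⟶ 𝔸(↥G; X) := (ψ f G).imageι

noncomputable abbrev h : T ⟶ Y f G := (ψ f G).toImage

/-- the structure morphism of the approximation -/
noncomputable def f' : Y f G ⟶ X := ι f G ≫ (𝔸(↥G; X) ↘ X)

lemma h_f' : h f G ≫ f' f G = f := by
  rw [f', ← Category.assoc, Scheme.Hom.toImage_imageι, ψ_over]

instance : LocallyOfFiniteType (f' f G) := by
  rw [f']; infer_instance

/-- coordinate sections on `Y` -/
noncomputable def ysec (g : ↥G) : Γ(Y f G, ⊤) := (ι f G).appTop (AffineSpace.coord X g)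

lemma h_appTop_ysec (g : ↥G) : (h f G).appTop (ysec f G g) = g.1 := by
  rw [ysec, ← ψ_appTop_coord f G g]
  have e : h f G ≫ ι f G = ψ f G := Scheme.Hom.toImage_imageι _
  have e2 : (h f G ≫ ι f G).appTop = (ψ f G).appTop :=
    congrArg (fun φ : T ⟶ 𝔸(↥G; X) => φ.appTop) e
  rw [Scheme.Hom.comp_appTop] at e2
  have e3 := ConcreteCategory.congr_hom e2 (AffineSpace.coord X g)
  rw [CommRingCat.comp_apply] at e3
  exact e3

variable {J : Type*} (U : J → X.Opens) (b : J → ↥G)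

/-- the affine pieces of affine space -/
noncomputable def Pj (j : J) : (𝔸(↥G; X)).Opens :=
  ((𝔸(↥G; X) ↘ X) ⁻¹ᵁ U j) ⊓ (𝔸(↥G; X)).basicOpen (AffineSpace.coord X (b j))

lemma isAffineOpen_Pj (hU : ∀ j, IsAffineOpen (U j)) (j : J) : IsAffineOpen (Pj G U b j) := by
  have h1 : IsAffineOpen ((𝔸(↥G; X) ↘ X) ⁻¹ᵁ U j) := (hU j).preimage _
  have := h1.basicOpen ((𝔸(↥G; X)).presheaf.map (homOfLE le_top).op (AffineSpace.coord X (b j)))
  rw [Scheme.basicOpen_res] at this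
  exact this

/-- the affine pieces of `Y` -/
noncomputable def Wj (j : J) : (Y f G).Opens := ι f G ⁻¹ᵁ Pj G U b j

/-- the (to be shown affine) open of `Y` -/
noncomputable def W : (Y f G).Opens := ⨆ j, Wj f G U b j

lemma isAffineOpen_Wj (hU : ∀ j, IsAffineOpen (U j)) (j : J) : IsAffineOpen (Wj f G U b j) :=
  (isAffineOpen_Pj G U b hU j).preimage _

lemma Wj_le_basicOpen (j : J) : Wj f G U b j ≤ (Y f G).basicOpen (ysec f G (b j)) := by
  rw [ysec, ← Scheme.preimage_basicOpen_top]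
  intro y hy
  exact hy.2

lemma Wj_le_preimage (j : J) : Wj f G U b j ≤ f' f G ⁻¹ᵁ U j := by
  intro y hy
  exact hy.1

lemma mem_Wj_iff (j : J) (y : Y f G) :
    y ∈ Wj f G U b j ↔ f' f G y ∈ U j ∧ y ∈ (Y f G).basicOpen (ysec f G (b j)) := by
  rw [ysec, ← Scheme.preimage_basicOpen_top]
  rfl

lemma h_preimage_Wj_le (j : J) : h f G ⁻¹ᵁ Wj f G U b j ≤ T.basicOpen (b j).1 := by
  intro t ht
  have h1 : t ∈ h f G ⁻¹ᵁ (Y f G).basicOpen (ysec f G (b j)) := Wj_le_basicOpen f G U b j ht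
  rwa [Scheme.preimage_basicOpen_top, h_appTop_ysec] at h1

lemma appLE_congr_hom {A B : Scheme.{u}} {φ φ' : A ⟶ B} (e : φ = φ') (V : B.Opens) (O : A.Opens)
    (hle : O ≤ φ ⁻¹ᵁ V) : φ.appLE V O hle = φ'.appLE V O (e ▸ hle) := by
  subst e; rfl

lemma h_app_res (O : (Y f G).Opens) (s : Γ(Y f G, ⊤)) :
    (h f G).app O ((Y f G).presheaf.map (homOfLE le_top).op s) =
      T.presheaf.map (homOfLE (le_top : h f G ⁻¹ᵁ O ≤ ⊤)).op ((h f G).appTop s) := by
  have := ConcreteCategory.congr_hom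
    (Scheme.Hom.naturality (h f G) (homOfLE (le_top : O ≤ ⊤)).op) s
  rw [CommRingCat.comp_apply, CommRingCat.comp_apply] at this
  exact this

lemma h_app_appLE (V : X.Opens) (O : (Y f G).Opens) (hle : O ≤ f' f G ⁻¹ᵁ V) (r : Γ(X, V)) :
    (h f G).app O ((f' f G).appLE V O hle r) =
      f.appLE V (h f G ⁻¹ᵁ O) (by
        intro t ht
        have : f' f G (h f G t) ∈ V := hle ht
        rw [← Scheme.Hom.comp_apply, h_f'] at this
        exact this) r := by
  have h1 := Scheme.Hom.appLE_comp_appLE (h f G) (f' f G) V O (h f G ⁻¹ᵁ O) hle le_rfl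
  rw [Scheme.Hom.appLE_eq_app] at h1
  have h2 := ConcreteCategory.congr_hom h1 r
  rw [CommRingCat.comp_apply] at h2
  rw [h2, appLE_congr_hom (h_f' f G)]

variable [CompactSpace T] [QuasiSeparatedSpace X]

lemma key (hbU : ∀ j, T.basicOpen (b j).1 ≤ f ⁻¹ᵁ U j) (j k : J)
    (L : Finset Γ(X, U j)) (c : Γ(X, U j) → ↥G) (M₁ M₂ : ℕ) (hL : ∀ r ∈ L, X.basicOpen r ≤ U k)
    (hrel : T.presheaf.map (homOfLE le_top).op ((b j).1 ^ M₁ * (b k).1 ^ M₂) =
      ∑ r ∈ L, T.presheaf.map (homOfLE le_top).op (c r).1 *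
        f.appLE (U j) (T.basicOpen (b j).1) (hbU j) r)
    (y : Y f G) (hy : y ∈ Wj f G U b j) (hyk : y ∈ (Y f G).basicOpen (ysec f G (b k))) :
    f' f G y ∈ U k := by
  set res : Γ(Y f G, ⊤) ⟶ Γ(Y f G, Wj f G U b j) :=
    (Y f G).presheaf.map (homOfLE le_top).op with hres
  set lhs : Γ(Y f G, Wj f G U b j) := res (ysec f G (b j)) ^ M₁ * res (ysec f G (b k)) ^ M₂
    with hlhs
  set rhs : Γ(Y f G, Wj f G U b j) := ∑ r ∈ L, res (ysec f G (c r)) *
    (f' f G).appLE (U j) (Wj f G U b j) (Wj_le_preimage f G U b j) r with hrhs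
  have heq : lhs = rhs := by
    apply toImage_app_injective' (ψ f G) (Wj f G U b j)
    change (h f G).app _ lhs = (h f G).app _ rhs
    have hrel' := congrArg (T.presheaf.map (homOfLE (h_preimage_Wj_le f G U b j)).op) hrel
    rw [hlhs, hrhs, map_mul, map_pow, map_pow, map_sum, hres, h_app_res, h_app_res,
      h_appTop_ysec, h_appTop_ysec]
    rw [map_sum] at hrel'
    rw [← map_pow, ← map_pow, ← map_mul]
    convert hrel' using 1
    · rw [← CommRingCat.comp_apply, ← Functor.map_comp]; rfl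
    · refine Finset.sum_congr rfl fun r _ => ?_
      rw [map_mul, map_mul, h_app_res, h_appTop_ysec, h_app_appLE]
      congr 1
      · rw [← CommRingCat.comp_apply, ← Functor.map_comp]; rfl
      · rw [← CommRingCat.comp_apply, Scheme.Hom.appLE_map]
  have hy1 : y ∈ (Y f G).basicOpen lhs := by
    rw [hlhs, Scheme.basicOpen_mul]
    refine ⟨mem_basicOpen_pow _ _ _ ?_, mem_basicOpen_pow _ _ _ ?_⟩
    · rw [hres, Scheme.basicOpen_res]; exact ⟨hy, Wj_le_basicOpen f G U b j hy⟩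
    · rw [hres, Scheme.basicOpen_res]; exact ⟨hy, hyk⟩
  rw [heq, hrhs] at hy1
  obtain ⟨r, hr, hyr⟩ := exists_mem_basicOpen_of_mem_basicOpen_sum _ _ _ hy1
  rw [Scheme.basicOpen_mul, Scheme.basicOpen_appLE] at hyr
  exact hL r hr hyr.2.2

/-- the overlap relation hypothesis -/
def OverlapRel (hbU : ∀ j, T.basicOpen (b j).1 ≤ f ⁻¹ᵁ U j) : Prop :=
  ∀ j k : J, ∃ (L : Finset Γ(X, U j)) (c : Γ(X, U j) → ↥G) (M₁ M₂ : ℕ),
    (∀ r ∈ L, X.basicOpen r ≤ U k) ∧
    T.presheaf.map (homOfLE le_top).op ((b j).1 ^ M₁ * (b k).1 ^ M₂) =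
      ∑ r ∈ L, T.presheaf.map (homOfLE le_top).op (c r).1 *
        f.appLE (U j) (T.basicOpen (b j).1) (hbU j) r

lemma W_inf_basicOpen (hbU : ∀ j, T.basicOpen (b j).1 ≤ f ⁻¹ᵁ U j)
    (hrel : OverlapRel f G U b hbU) (k : J) :
    W f G U b ⊓ (Y f G).basicOpen (ysec f G (b k)) = Wj f G U b k := by
  apply le_antisymm
  · rintro y ⟨hyW, hyk⟩
    obtain ⟨j, hyj⟩ := Opens.mem_iSup.mp hyW
    obtain ⟨L, c, M₁, M₂, hL, hr⟩ := hrel j k
    rw [mem_Wj_iff]
    exact ⟨key f G U b hbU j k L c M₁ M₂ hL hr y hyj hyk, hyk⟩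
  · exact le_inf (le_iSup (Wj f G U b) k) (Wj_le_basicOpen f G U b k)

lemma range_h_subset_W [Fintype J] (β : J → ↥G) (hsum : ∑ j, (β j).1 * (b j).1 = 1)
    (hbU : ∀ j, T.basicOpen (b j).1 ≤ f ⁻¹ᵁ U j) (t : T) : h f G t ∈ W f G U b := by
  have hspan : Ideal.span (Set.range fun j => (b j).1) = ⊤ := by
    rw [Ideal.eq_top_iff_one, ← hsum]
    exact Ideal.sum_mem _ fun j _ => Ideal.mul_mem_left _ _ (Ideal.subset_span ⟨j, rfl⟩)
  have hcov := iSup_basicOpen_of_span_eq_top (X := T) ⊤ _ hspan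
  have ht : t ∈ (⨆ i ∈ Set.range fun j => (b j).1, T.basicOpen i) := by rw [hcov]; trivial
  simp only [Opens.mem_iSup, Set.mem_range, exists_prop] at ht
  obtain ⟨_, ⟨j, rfl⟩, htj⟩ := ht
  refine Opens.mem_iSup.mpr ⟨j, ?_⟩
  rw [mem_Wj_iff]
  constructor
  · have : f t ∈ U j := hbU j htj
    rw [← Scheme.Hom.comp_apply, h_f']
    exact this
  · have : t ∈ h f G ⁻¹ᵁ (Y f G).basicOpen (ysec f G (b j)) := by
      rw [Scheme.preimage_basicOpen_top, h_appTop_ysec]; exact htj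
    exact this

theorem isAffineOpen_W [Fintype J] (hU : ∀ j, IsAffineOpen (U j)) (β : J → ↥G)
    (hsum : ∑ j, (β j).1 * (b j).1 = 1)
    (hbU : ∀ j, T.basicOpen (b j).1 ≤ f ⁻¹ᵁ U j) (hrel : OverlapRel f G U b hbU) :
    IsAffineOpen (W f G U b) := by
  set res : Γ(Y f G, ⊤) ⟶ Γ(Y f G, W f G U b) :=
    (Y f G).presheaf.map (homOfLE le_top).op with hres
  have hone : ∑ j, ysec f G (β j) * ysec f G (b j) = 1 := by
    apply toImage_app_injective' (ψ f G) ⊤
    change (h f G).appTop _ = (h f G).appTop _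
    rw [map_sum, map_one, ← hsum]
    refine Finset.sum_congr rfl fun j _ => ?_
    rw [map_mul, h_appTop_ysec, h_appTop_ysec]
  apply isAffineOpen_of_isAffineOpen_basicOpen (W f G U b)
    (Set.range fun j => res (ysec f G (b j)))
  · rw [Ideal.eq_top_iff_one]
    have : (1 : Γ(Y f G, W f G U b)) = ∑ j, res (ysec f G (β j)) * res (ysec f G (b j)) := by
      have h1 : res (∑ j, ysec f G (β j) * ysec f G (b j)) = 1 := by rw [hone, map_one]
      rw [← h1, map_sum]
      refine Finset.sum_congr rfl fun j _ => ?_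
      rw [map_mul]
    rw [this]
    exact Ideal.sum_mem _ fun j _ => Ideal.mul_mem_left _ _ (Ideal.subset_span ⟨j, rfl⟩)
  · rintro _ ⟨k, rfl⟩
    rw [hres, Scheme.basicOpen_res, W_inf_basicOpen f G U b hbU hrel k]
    exact isAffineOpen_Wj f G U b hU k

end Approx

end Groth.Agent.Lib.Helper20.HH
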