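import Mathlib
import Groth.Agent.Lib.Helper20.HH3

/-!
# HH4: existence of the overlap relations, helper20
-/

set_option autoImplicit false
universe u
open AlgebraicGeometry CategoryTheory TopologicalSpace

namespace Groth.Agent.Lib.Helper20.HH

/-- a compact open `U₁ ⊓ U₂` of an affine open `U₁` is covered by finitely many basic opens of `U₁`
contained in `U₂`. -/
theorem exists_finset_basicOpen_cover {X : Scheme.{u}} [QuasiSeparatedSpace X] {U₁ U₂ : X.Opens}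
    (hU₁ : IsAffineOpen U₁) (hU₂ : IsAffineOpen U₂) :
    ∃ L : Finset Γ(X, U₁), (∀ r ∈ L, X.basicOpen r ≤ U₂) ∧
      ∀ x : X, x ∈ U₁ → x ∈ U₂ → ∃ r ∈ L, x ∈ X.basicOpen r := by
  classical
  have hK : IsCompact ((U₁ : Set X) ∩ U₂) :=
    QuasiSeparatedSpace.inter_isCompact _ _ U₁.isOpen hU₁.isCompact U₂.isOpen hU₂.isCompact
  let ι := {r : Γ(X, U₁) // X.basicOpen r ≤ U₂}
  obtain ⟨S, hS⟩ := hK.elim_finite_subcover (fun r : ι => (X.basicOpen r.1 : Set X))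
    (fun r => (X.basicOpen r.1).isOpen) (by
      rintro x ⟨hx1, hx2⟩
      obtain ⟨r, hr1, hr2⟩ := hU₁.exists_basicOpen_le (V := U₂) ⟨x, hx2⟩ hx1
      exact Set.mem_iUnion.mpr ⟨⟨r, hr1⟩, hr2⟩)
  refine ⟨S.image Subtype.val, ?_, ?_⟩
  · intro r hr
    obtain ⟨r', _, rfl⟩ := Finset.mem_image.mp hr
    exact r'.2
  · intro x hx1 hx2
    have := hS ⟨hx1, hx2⟩
    simp only [Set.mem_iUnion, exists_prop] at this
    obtain ⟨r', hr', hxr⟩ := this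
    exact ⟨r'.1, Finset.mem_image_of_mem _ hr', hxr⟩

theorem exists_overlap_rel {T X : Scheme.{u}} (f : T ⟶ X) [IsAffine T] [QuasiSeparatedSpace X]
    {U₁ U₂ : X.Opens} (hU₁ : IsAffineOpen U₁) (hU₂ : IsAffineOpen U₂) (b₁ b₂ : Γ(T, ⊤))
    (hb₁ : T.basicOpen b₁ ≤ f ⁻¹ᵁ U₁) (hb₂ : T.basicOpen b₂ ≤ f ⁻¹ᵁ U₂) :
    ∃ (L : Finset Γ(X, U₁)) (c : Γ(X, U₁) → Γ(T, ⊤)) (M₁ M₂ : ℕ),
      (∀ r ∈ L, X.basicOpen r ≤ U₂) ∧
      T.presheaf.map (homOfLE le_top).op (b₁ ^ M₁ * b₂ ^ M₂) =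
        ∑ r ∈ L, T.presheaf.map (homOfLE le_top).op (c r) *
          f.appLE U₁ (T.basicOpen b₁) hb₁ r := by
  classical
  obtain ⟨L, hL, hcov⟩ := exists_finset_basicOpen_cover hU₁ hU₂
  have hD : IsAffineOpen (T.basicOpen b₁) := (isAffineOpen_top T).basicOpen b₁
  set φ := f.appLE U₁ (T.basicOpen b₁) hb₁ with hφ
  set ρ : Γ(T, ⊤) ⟶ Γ(T, T.basicOpen b₁) := T.presheaf.map (homOfLE le_top).op with hρ
  let I : Ideal Γ(T, T.basicOpen b₁) := Ideal.span (Set.range fun r : ↥L => φ r.1)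
  have hrad : ρ b₂ ∈ I.radical := by
    rw [← PrimeSpectrum.vanishingIdeal_zeroLocus_eq_radical, PrimeSpectrum.mem_vanishingIdeal]
    intro p hp
    by_contra hnot
    have ht1 : hD.fromSpec p ∈ T.basicOpen b₁ := by
      have : hD.fromSpec p ∈ Set.range hD.fromSpec := ⟨p, rfl⟩
      rwa [hD.range_fromSpec] at this
    have ht2 : hD.fromSpec p ∈ T.basicOpen (ρ b₂) := by
      have : p ∈ hD.fromSpec ⁻¹ᵁ T.basicOpen (ρ b₂) := by
        rw [hD.fromSpec_preimage_basicOpen]; exact hnot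
      exact this
    rw [hρ, Scheme.basicOpen_res] at ht2
    obtain ⟨r, hr, hxr⟩ := hcov (f (hD.fromSpec p)) (hb₁ ht1) (hb₂ ht2.2)
    have ht3 : hD.fromSpec p ∈ T.basicOpen (φ r) := by
      rw [hφ, Scheme.basicOpen_appLE]; exact ⟨ht1, hxr⟩
    have h4 : p ∈ hD.fromSpec ⁻¹ᵁ T.basicOpen (φ r) := ht3
    rw [hD.fromSpec_preimage_basicOpen] at h4
    exact h4 (hp (Ideal.subset_span ⟨⟨r, hr⟩, rfl⟩))
  obtain ⟨M₂, hM₂⟩ := hrad
  obtain ⟨a, ha⟩ := Ideal.mem_span_range_iff_exists_fun.mp hM₂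
  have : IsLocalization.Away b₁ Γ(T, T.basicOpen b₁) :=
    (isAffineOpen_top T).isLocalization_basicOpen b₁
  obtain ⟨⟨_, M₁, rfl⟩, hm⟩ := IsLocalization.exist_integer_multiples (Submonoid.powers b₁)
    (Finset.univ : Finset ↥L) a
  choose c hc using fun i => hm i (Finset.mem_univ i)
  have halg : ∀ x : Γ(T, ⊤), algebraMap Γ(T, ⊤) Γ(T, T.basicOpen b₁) x = ρ x := fun x => rfl
  refine ⟨L, fun r => if h : r ∈ L then c ⟨r, h⟩ else 0, M₁, M₂, hL, ?_⟩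
  rw [← Finset.sum_coe_sort L]
  have h1 : ρ (b₁ ^ M₁ * b₂ ^ M₂) = ρ (b₁ ^ M₁) * ρ b₂ ^ M₂ := by rw [map_mul, map_pow ρ.hom b₂]
  change ρ (b₁ ^ M₁ * b₂ ^ M₂) = _
  rw [h1, ← ha, Finset.mul_sum]
  refine Finset.sum_congr rfl fun i _ => ?_
  have h2 := hc i
  rw [halg, Algebra.smul_def, halg] at h2
  have h3 : (fun r => if h : r ∈ L then c ⟨r, h⟩ else 0) i.1 = c i := by
    simp only [i.2, dif_pos]
  rw [h3, h2, mul_assoc]

end Groth.Agent.Lib.Helper20.HH
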