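import Mathlib
import Groth.Agent.Lib.Helper20.HH4
import Groth.Agent.Lib.Helper20.HA15
import Groth.Agent.Lib.Helper21.OpenNbhd3
import Groth.Agent.Lib.Helper21.OpenImm2

/-!
# HH5: the covered reduced case of the affine-open theorem, helper20
-/

set_option autoImplicit false
set_option linter.style.haveILetI false
universe u
open AlgebraicGeometry CategoryTheory TopologicalSpace

namespace Groth.Agent.Lib.Helper20.HH

/-- a function which is nonzero at `t` and vanishes at all maximal generizations not specializing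
to `t`. -/
theorem exists_sep_function {T : Scheme.{u}} [IsAffine T] (hfin : {η : T | IsMaxGen η}.Finite)
    (t : T) : ∃ e : Γ(T, ⊤), t ∈ T.basicOpen e ∧
      ∀ η : T, IsMaxGen η → η ∈ T.basicOpen e → η ⤳ t := by
  have hcl : IsClosed (⋃ η ∈ {η : T | IsMaxGen η ∧ ¬ η ⤳ t}, closure ({η} : Set T)) :=
    (hfin.subset fun η hη => hη.1).isClosed_biUnion fun _ _ => isClosed_closure
  have htZ : t ∉ ⋃ η ∈ {η : T | IsMaxGen η ∧ ¬ η ⤳ t}, closure ({η} : Set T) := by
    intro hmem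
    simp only [Set.mem_iUnion, exists_prop] at hmem
    obtain ⟨η, ⟨_, hη2⟩, hmem⟩ := hmem
    exact hη2 (specializes_iff_mem_closure.mpr hmem)
  obtain ⟨e, he1, he2⟩ := (isAffineOpen_top T).exists_basicOpen_le
    (V := ⟨_, hcl.isOpen_compl⟩) ⟨t, htZ⟩ trivial
  refine ⟨e, he2, fun η hη hmem => ?_⟩
  by_contra hns
  have h1 : η ∈ (⟨_, hcl.isOpen_compl⟩ : T.Opens) := he1 hmem
  apply h1
  simp only [Set.mem_iUnion, exists_prop]
  exact ⟨η, ⟨hη, hns⟩, subset_closure rfl⟩

theorem isIso_stalkMap_of_comp {T Y X : Scheme.{u}} (h : T ⟶ Y) (f' : Y ⟶ X) (f : T ⟶ X)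
    (hf : h ≫ f' = f) (t : T) (hiso : IsIso (f.stalkMap t))
    (hinj : Function.Injective (h.stalkMap t)) : IsIso (f'.stalkMap (h t)) := by
  subst hf
  have hiso' : IsIso (f'.stalkMap (h t) ≫ h.stalkMap t) := by
    rw [← Scheme.Hom.stalkMap_comp]; exact hiso
  have hbij : Function.Bijective (h.stalkMap t) := by
    refine ⟨hinj, ?_⟩
    have h2 := (ConcreteCategory.isIso_iff_bijective _).mp hiso'
    intro y
    obtain ⟨x, hx⟩ := h2.2 y
    rw [CommRingCat.comp_apply] at hx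
    exact ⟨_, hx⟩
  have h3 : IsIso (h.stalkMap t) := (ConcreteCategory.isIso_iff_bijective _).mpr hbij
  exact IsIso.of_isIso_comp_right (f'.stalkMap (h t)) (h.stalkMap t)

/-- finishing step: from a finite type morphism with stalk isomorphisms at finitely many points of
an affine open to an affine open of the target. -/
theorem exists_affine_of_stalk_iso {Y X : Scheme.{u}} (f' : Y ⟶ X) [LocallyOfFiniteType f']
    [IsReduced X] (hX : (irreducibleComponents (X : Type u)).Finite) (W : Y.Opens)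
    (hW : IsAffineOpen W) (pts : Set Y) (hfin : pts.Finite) (hptsW : pts ⊆ W)
    (hiso : ∀ y ∈ pts, IsIso (f'.stalkMap y))
    (hinj : ∀ ξ ξ' : Y, IsMaxGen ξ → IsMaxGen ξ' → f' ξ = f' ξ' → ξ = ξ') :
    ∃ V : X.Opens, IsAffineOpen V ∧ ∀ y ∈ pts, f' y ∈ V := by
  classical
  -- neighbourhoods on which `f'` is an open immersion
  have hnb : ∀ y : Y, ∃ V : Y.Opens, (y ∈ pts → y ∈ V) ∧ IsOpenImmersion (V.ι ≫ f') := by
    intro y
    by_cases hy : y ∈ pts
    · obtain ⟨V, hyV, hV⟩ :=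
        Groth.Agent.Lib.Helper21.OpenNbhd.exists_openImmersion_nhd f' hX y (hiso y hy)
      exact ⟨V, fun _ => hyV, hV⟩
    · refine ⟨⊥, fun h => absurd h hy, ?_⟩
      have : IsEmpty ((⊥ : Y.Opens) : Type u) := by
        constructor; rintro ⟨x, hx⟩; exact hx
      have : IsEmpty (⊥ : Y.Opens).toScheme := this
      infer_instance
  choose Vn hVn1 hVn2 using hnb
  let V₀ : Y.Opens := W ⊓ ⨆ y : pts, Vn y.1
  have hV₀W : V₀ ≤ W := inf_le_left
  have hptsV₀ : pts ⊆ V₀ := fun y hy =>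
    ⟨hptsW hy, Opens.mem_iSup.mpr ⟨⟨y, hy⟩, hVn1 y hy⟩⟩
  -- `V₀ → X` is an open immersion
  haveI : IsAffine W.toScheme := hW
  haveI : V₀.toScheme.IsSeparated := by
    constructor
    rw [← Limits.terminal.comp_from (Y.homOfLE hV₀W)]
    infer_instance
  have hopen : IsOpenImmersion (V₀.ι ≫ f') := by
    apply Groth.Agent.Lib.Helper21.OpenImm.isOpenImmersion_of_separated
    · intro x
      have hx : x.1 ∈ ⨆ y : pts, Vn y.1 := x.2.2
      obtain ⟨y, hxy⟩ := Opens.mem_iSup.mp hx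
      refine ⟨V₀.ι ⁻¹ᵁ Vn y.1, hxy, ?_⟩
      have e : (V₀.ι ⁻¹ᵁ Vn y.1).ι ≫ V₀.ι ≫ f' = (V₀.ι ∣_ Vn y.1) ≫ (Vn y.1).ι ≫ f' := by
        rw [← Category.assoc, ← morphismRestrict_ι, Category.assoc]
      rw [e]
      haveI := hVn2 y.1
      infer_instance
    · intro ξ ξ' hξ hξ' hff
      rw [isMaxGen_iff] at hξ hξ'
      rw [← isMaxGen_map_iff V₀.ι.isOpenEmbedding] at hξ hξ'
      apply V₀.ι.isOpenEmbedding.injective
      exact hinj _ _ hξ hξ' hff
  -- prime avoidance
  obtain ⟨a, ha1, ha2⟩ := Groth.Agent.Lib.Helper20.HA.exists_basicOpen_of_finite_affine hW pts hfin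
    hptsW V₀ hptsV₀
  have hD : IsAffineOpen (Y.basicOpen a) := hW.basicOpen a
  haveI : IsAffine (Y.basicOpen a).toScheme := hD
  haveI : IsOpenImmersion ((Y.basicOpen a).ι ≫ f') := by
    rw [← Y.homOfLE_ι ha2, Category.assoc]
    haveI := hopen
    infer_instance
  refine ⟨((Y.basicOpen a).ι ≫ f').opensRange, isAffineOpen_opensRange _, fun y hy => ?_⟩
  exact ⟨⟨y, ha1 hy⟩, rfl⟩

open Approx in
/-- the covered, reduced case -/
theorem exists_affine_of_cover {T X : Scheme.{u}} (f : T ⟶ X) [IsAffine T] [IsReduced T]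
    [IsReduced X] [QuasiSeparatedSpace X]
    (hX : (irreducibleComponents (X : Type u)).Finite)
    (hgen : ∀ η : T, IsMaxGen η → IsMaxGen (f η))
    (hinj : ∀ η η' : T, IsMaxGen η → IsMaxGen η' → f η = f η' → η = η')
    {J : Type*} [Fintype J] (U : J → X.Opens) (hU : ∀ j, IsAffineOpen (U j))
    (b β : J → Γ(T, ⊤)) (hsum : ∑ j, β j * b j = 1)
    (hbU : ∀ j, T.basicOpen (b j) ≤ f ⁻¹ᵁ U j)
    (s : Set T) (hsfin : s.Finite) (hs : ∀ t ∈ s, IsIso (f.stalkMap t)) :
    ∃ V : X.Opens, IsAffineOpen V ∧ ∀ t ∈ s, f t ∈ V := by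
  classical
  have hfinT : {η : T | IsMaxGen η}.Finite :=
    finite_isMaxGen_of_injOn f (finite_isMaxGen hX) hgen hinj
  choose e he1 he2 using exists_sep_function hfinT
  choose L c M₁ M₂ hL hrel using fun j k =>
    exists_overlap_rel f (hU j) (hU k) (b j) (b k) (hbU j) (hbU k)
  let G : Finset Γ(T, ⊤) := Finset.univ.image b ∪ Finset.univ.image β ∪ hsfin.toFinset.image e ∪
    (Finset.univ.biUnion fun j => Finset.univ.biUnion fun k => (L j k).image (c j k)) ∪ {0}
  have hbG : ∀ j, b j ∈ G := fun j => by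
    simp only [G, Finset.mem_union, Finset.mem_image, Finset.mem_univ, true_and]
    exact Or.inl (Or.inl (Or.inl (Or.inl ⟨j, rfl⟩)))
  have hβG : ∀ j, β j ∈ G := fun j => by
    simp only [G, Finset.mem_union, Finset.mem_image, Finset.mem_univ, true_and]
    exact Or.inl (Or.inl (Or.inl (Or.inr ⟨j, rfl⟩)))
  have heG : ∀ t ∈ s, e t ∈ G := fun t ht => by
    simp only [G, Finset.mem_union, Finset.mem_image]
    exact Or.inl (Or.inl (Or.inr ⟨t, hsfin.mem_toFinset.mpr ht, rfl⟩))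
  have hcG : ∀ j k, ∀ r ∈ L j k, c j k r ∈ G := fun j k r hr => by
    simp only [G, Finset.mem_union, Finset.mem_biUnion, Finset.mem_image, Finset.mem_univ,
      true_and]
    exact Or.inl (Or.inr ⟨j, k, r, hr, rfl⟩)
  have h0G : (0 : Γ(T, ⊤)) ∈ G := by
    simp only [G, Finset.mem_union, Finset.mem_singleton]
    exact Or.inr trivial
  let b' : J → ↥G := fun j => ⟨b j, hbG j⟩
  let β' : J → ↥G := fun j => ⟨β j, hβG j⟩
  have hbU' : ∀ j, T.basicOpen (b' j).1 ≤ f ⁻¹ᵁ U j := hbU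
  have hrel' : OverlapRel f G U b' hbU' := by
    intro j k
    refine ⟨L j k, fun r => if hr : r ∈ L j k then ⟨c j k r, hcG j k r hr⟩ else ⟨0, h0G⟩,
      M₁ j k, M₂ j k, hL j k, ?_⟩
    refine (hrel j k).trans (Finset.sum_congr rfl fun r hr => ?_)
    simp only [hr, dif_pos]
    rfl
  have hW := isAffineOpen_W f G U b' hU β' hsum hbU' hrel'
  have hrange := range_h_subset_W f G U b' β' hsum hbU'
  have hfin2 : {η : T | IsMaxGen η}.Finite := hfinT
  obtain ⟨V, hV, hVpts⟩ := exists_affine_of_stalk_iso (f' f G) hX (W f G U b') hW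
    ((h f G) '' s) (hsfin.image _) (by rintro _ ⟨t, _, rfl⟩; exact hrange t)
    (by
      rintro _ ⟨t, ht, rfl⟩
      refine isIso_stalkMap_of_comp (h f G) (f' f G) f (h_f' f G) t (hs t ht) ?_
      refine stalkMap_toImage_injective (ψ f G) t (ysec f G ⟨e t, heG t ht⟩) ?_ ?_
      · rw [h_appTop_ysec]; exact he1 t
      · rw [h_appTop_ysec]; exact he2 t)
    (by
      intro ξ ξ' hξ hξ' hff
      obtain ⟨η, hη, rfl⟩ := exists_isMaxGen_of_denseRange (h f G).continuous
        (h f G).denseRange hfin2 ξ hξ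
      obtain ⟨η', hη', rfl⟩ := exists_isMaxGen_of_denseRange (h f G).continuous
        (h f G).denseRange hfin2 ξ' hξ'
      have : f η = f η' := by
        have e1 : f' f G (h f G η) = f η := by rw [← Scheme.Hom.comp_apply, h_f']
        have e2 : f' f G (h f G η') = f η' := by rw [← Scheme.Hom.comp_apply, h_f']
        rw [← e1, ← e2]; exact hff
      rw [hinj η η' hη hη' this])
  refine ⟨V, hV, fun t ht => ?_⟩
  have := hVpts _ ⟨t, ht, rfl⟩
  rwa [← Scheme.Hom.comp_apply, h_f'] at this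

end Groth.Agent.Lib.Helper20.HH
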