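import Mathlib
import Groth.Agent.Lib.Helper20.HH5

/-!
# HH6: the reduced case of the affine-open theorem (shrinking `T`), helper20
-/

set_option autoImplicit false
set_option linter.style.haveILetI false
universe u
open AlgebraicGeometry CategoryTheory TopologicalSpace

namespace Groth.Agent.Lib.Helper20.HH

theorem exists_affine_of_reduced {T X : Scheme.{u}} (f : T ⟶ X) [IsAffine T] [IsReduced T]
    [IsReduced X] [QuasiSeparatedSpace X]
    (hX : (irreducibleComponents (X : Type u)).Finite)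
    (hgen : ∀ η : T, IsMaxGen η → IsMaxGen (f η))
    (hinj : ∀ η η' : T, IsMaxGen η → IsMaxGen η' → f η = f η' → η = η')
    (s : Set T) (hsfin : s.Finite) (hs : ∀ t ∈ s, IsIso (f.stalkMap t)) :
    ∃ V : X.Opens, IsAffineOpen V ∧ ∀ t ∈ s, f t ∈ V := by
  classical
  -- affine neighbourhoods and basic opens
  have h1 : ∀ t : T, ∃ U : X.Opens, IsAffineOpen U ∧ f t ∈ U := fun t => by
    obtain ⟨U, hU, htU, -⟩ := exists_isAffineOpen_mem_and_subset (x := f t) (U := ⊤) trivial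
    exact ⟨U, hU, htU⟩
  choose U hU htU using h1
  have h2 : ∀ t : T, ∃ b : Γ(T, ⊤), T.basicOpen b ≤ f ⁻¹ᵁ U t ∧ t ∈ T.basicOpen b := fun t =>
    (isAffineOpen_top T).exists_basicOpen_le (V := f ⁻¹ᵁ U t) ⟨t, htU t⟩ trivial
  choose b hb1 hb2 using h2
  let O : T.Opens := ⨆ t : s, T.basicOpen (b t.1)
  have hsO : s ⊆ O := fun t ht => Opens.mem_iSup.mpr ⟨⟨t, ht⟩, hb2 t⟩
  obtain ⟨b₀, hb₀1, hb₀2⟩ := Groth.Agent.Lib.Helper20.HA.exists_basicOpen_of_finite_affine
    (isAffineOpen_top T) s hsfin (fun _ _ => trivial) O hsO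
  -- the shrunk scheme
  have hD : IsAffineOpen (T.basicOpen b₀) := (isAffineOpen_top T).basicOpen b₀
  haveI : IsAffine (T.basicOpen b₀).toScheme := hD
  haveI : IsReduced (T.basicOpen b₀).toScheme := isReduced_of_isOpenImmersion (T.basicOpen b₀).ι
  haveI : Fintype s := hsfin.fintype
  let j₀ := (T.basicOpen b₀).ι
  let b' : s → Γ((T.basicOpen b₀).toScheme, ⊤) := fun t => j₀.appTop (b t.1)
  have hb' : ∀ t : s, (T.basicOpen b₀).toScheme.basicOpen (b' t) = j₀ ⁻¹ᵁ T.basicOpen (b t.1) :=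
    fun t => (Scheme.preimage_basicOpen_top j₀ (b t.1)).symm
  have hspan : Ideal.span (Set.range b') = ⊤ := by
    rw [← (isAffineOpen_top (T.basicOpen b₀).toScheme).iSup_basicOpen_eq_self_iff]
    apply le_antisymm le_top
    intro x _
    have hx : x.1 ∈ O := hb₀2 x.2
    obtain ⟨t, ht⟩ := Opens.mem_iSup.mp hx
    refine Opens.mem_iSup.mpr ⟨⟨b' t, ⟨t, rfl⟩⟩, ?_⟩
    change x ∈ (T.basicOpen b₀).toScheme.basicOpen (b' t)
    rw [hb' t]
    exact ht
  obtain ⟨β, hβ⟩ := Ideal.mem_span_range_iff_exists_fun.mp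
    (hspan ▸ Submodule.mem_top : (1 : Γ((T.basicOpen b₀).toScheme, ⊤)) ∈ Ideal.span (Set.range b'))
  obtain ⟨V, hV, hVs⟩ := exists_affine_of_cover (j₀ ≫ f) hX
    (fun η hη => hgen _ ((isMaxGen_map_iff j₀.isOpenEmbedding η).mpr hη))
    (fun η η' hη hη' hff => j₀.isOpenEmbedding.injective
      (hinj _ _ ((isMaxGen_map_iff j₀.isOpenEmbedding η).mpr hη)
        ((isMaxGen_map_iff j₀.isOpenEmbedding η').mpr hη') hff))
    (fun t : s => U t.1) (fun t => hU t.1) b' β hβ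
    (fun t => by
      rw [hb' t]
      intro x hx
      exact hb1 t.1 hx)
    (j₀ ⁻¹' s) (hsfin.preimage j₀.isOpenEmbedding.injective.injOn)
    (fun t ht => by
      rw [Scheme.Hom.stalkMap_comp]
      have i1 := hs (j₀ t) ht
      have i2 : IsIso (j₀.stalkMap t) := inferInstanceAs (IsIso ((T.basicOpen b₀).ι.stalkMap t))
      exact @IsIso.comp_isIso _ _ _ _ _ _ _ i1 i2)
  refine ⟨V, hV, fun t ht => ?_⟩
  exact hVs ⟨t, hb₀1 ht⟩ ht

end Groth.Agent.Lib.Helper20.HH
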