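import Mathlib
import Groth.Agent.Lib.Helper20.HH6
import Groth.Agent.Lib.Helper1.AffThick
import Groth.Agent.Lib27.RedSch
import Groth.Agent.Lib.Helper25.RedFiber

/-!
# HH7: reduction of the affine-open theorem to the reduced case, helper20
-/

set_option autoImplicit false
set_option linter.style.haveILetI false
universe u
open AlgebraicGeometry CategoryTheory TopologicalSpace

namespace Groth.Agent.Lib.Helper20.HH

theorem finite_irreducibleComponents_of_finite_isMaxGen {T : Type*} [TopologicalSpace T]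
    [QuasiSober T] [T0Space T] (h : {η : T | IsMaxGen η}.Finite) :
    (irreducibleComponents T).Finite := by
  refine (h.image fun η => closure {η}).subset ?_
  intro Z hZ
  obtain ⟨η, hη⟩ := QuasiSober.sober hZ.1 (isClosed_of_mem_irreducibleComponents _ hZ)
  refine ⟨η, ?_, hη.def⟩
  rw [Set.mem_setOf_eq, ← isMaxGen_iff, hη.def]
  exact hZ

/-- the reduction `X_red → X` is a homeomorphism -/
theorem isHomeomorph_nilradical_subschemeι (X : Scheme.{u}) :
    IsHomeomorph X.nilradical.subschemeι := by
  have hsurj : Function.Surjective X.nilradical.subschemeι := by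
    rw [← Set.range_eq_univ, Scheme.IdealSheafData.range_subschemeι, Scheme.support_nilradical]
    rfl
  exact isHomeomorph_iff_isEmbedding_surjective.mpr ⟨X.nilradical.subschemeι.isEmbedding, hsurj⟩

/-- the kernel of the stalk maps of `T_red → T` consists of nilpotent elements -/
theorem isNilpotent_of_stalkMap_nilradical_eq_zero (T : Scheme.{u}) (t' : T.nilradical.subscheme)
    (a : T.presheaf.stalk (T.nilradical.subschemeι t'))
    (ha : T.nilradical.subschemeι.stalkMap t' a = 0) : IsNilpotent a := by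
  obtain ⟨U, hU, s, rfl⟩ :=
    TopCat.Presheaf.exists_germ_eq T.presheaf (x := T.nilradical.subschemeι t') a
  rw [Scheme.Hom.germ_stalkMap_apply] at ha
  have hU' : t' ∈ T.nilradical.subschemeι ⁻¹ᵁ U := hU
  obtain ⟨N', hN', j, j', hres⟩ := TopCat.Presheaf.germ_eq _ t' hU' hU'
    (T.nilradical.subschemeι.app U s) 0 (by rw [ha, map_zero])
  rw [map_zero] at hres
  obtain ⟨N, hN⟩ : ∃ N : T.Opens, T.nilradical.subschemeι ⁻¹ᵁ N = N' := by
    obtain ⟨N, hNo, hNe⟩ :=
      T.nilradical.subschemeι.isEmbedding.isInducing.isOpen_iff.mp N'.isOpen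
    exact ⟨⟨N, hNo⟩, Opens.ext hNe⟩
  have htN : T.nilradical.subschemeι t' ∈ N ⊓ U := by
    refine ⟨?_, hU⟩
    have : t' ∈ T.nilradical.subschemeι ⁻¹ᵁ N := hN ▸ hN'
    exact this
  obtain ⟨N₁, hN₁, htN₁, hN₁le⟩ := exists_isAffineOpen_mem_and_subset htN
  have hN₁U : N₁ ≤ U := fun x hx => (hN₁le hx).2
  have hN₁N : N₁ ≤ N := fun x hx => (hN₁le hx).1
  have hker : T.presheaf.map (homOfLE hN₁U).op s ∈
      RingHom.ker (T.nilradical.subschemeι.app N₁).hom := by
    rw [RingHom.mem_ker]
    have hnat := ConcreteCategory.congr_hom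
      (Scheme.Hom.naturality T.nilradical.subschemeι (homOfLE hN₁U).op) s
    rw [CommRingCat.comp_apply, CommRingCat.comp_apply] at hnat
    change (T.nilradical.subschemeι.app N₁) _ = 0
    rw [hnat]
    have hle : T.nilradical.subschemeι ⁻¹ᵁ N₁ ≤ N' := by
      rw [← hN]; exact fun x hx => hN₁N hx
    change (T.nilradical.subscheme.presheaf.map (j.op ≫ (homOfLE hle).op)) _ = 0
    rw [Functor.map_comp, CommRingCat.comp_apply, hres, map_zero]
  rw [Scheme.IdealSheafData.ker_subschemeι_app T.nilradical ⟨N₁, hN₁⟩] at hker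
  have hnil : IsNilpotent (T.presheaf.map (homOfLE hN₁U).op s) := by
    have : T.presheaf.map (homOfLE hN₁U).op s ∈ (⊥ : Ideal Γ(T, N₁)).radical := hker
    obtain ⟨n, hn⟩ := this
    exact ⟨n, by simpa using hn⟩
  have hgerm : T.presheaf.germ U _ hU s =
      T.presheaf.germ N₁ _ htN₁ (T.presheaf.map (homOfLE hN₁U).op s) :=
    (TopCat.Presheaf.germ_res_apply T.presheaf (homOfLE hN₁U) _ htN₁ s).symm
  rw [hgerm]
  exact hnil.map _

theorem isIso_stalkMap_reduced {T X : Scheme.{u}} (f : T ⟶ X)
    (g : T.nilradical.subscheme ⟶ X.nilradical.subscheme)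
    (hg : g ≫ X.nilradical.subschemeι = T.nilradical.subschemeι ≫ f)
    (t' : T.nilradical.subscheme)
    (hiso : IsIso (f.stalkMap (T.nilradical.subschemeι t'))) : IsIso (g.stalkMap t') := by
  haveI := Groth.Agent.Lib.Helper25.RedFiber.isReduced_nilradical_subscheme X
  obtain ⟨E, h1⟩ : ∃ E : X.presheaf.stalk (X.nilradical.subschemeι (g t')) ≅
      X.presheaf.stalk (f (T.nilradical.subschemeι t')),
      X.nilradical.subschemeι.stalkMap (g t') ≫ g.stalkMap t' =
        E.hom ≫ f.stalkMap (T.nilradical.subschemeι t') ≫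
          T.nilradical.subschemeι.stalkMap t' := by
    have h0 := Scheme.Hom.stalkMap_congr_hom _ _ hg t'
    rw [Scheme.Hom.stalkMap_comp, Scheme.Hom.stalkMap_comp] at h0
    exact ⟨_, h0⟩
  have h2 : ∀ x, g.stalkMap t' (X.nilradical.subschemeι.stalkMap (g t') x) =
      T.nilradical.subschemeι.stalkMap t' (f.stalkMap (T.nilradical.subschemeι t')
        (E.hom x)) := by
    intro x
    have := ConcreteCategory.congr_hom h1 x
    rw [CommRingCat.comp_apply, CommRingCat.comp_apply, CommRingCat.comp_apply] at this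
    exact this
  have hC : Function.Surjective (X.nilradical.subschemeι.stalkMap (g t')) :=
    X.nilradical.subschemeι.stalkMap_surjective _
  have hB : Function.Surjective (T.nilradical.subschemeι.stalkMap t') :=
    T.nilradical.subschemeι.stalkMap_surjective _
  have hA := (ConcreteCategory.isIso_iff_bijective _).mp hiso
  have hE := (ConcreteCategory.isIso_iff_bijective E.hom).mp inferInstance
  rw [ConcreteCategory.isIso_iff_bijective]
  constructor
  · rw [injective_iff_map_eq_zero]
    intro d hd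
    obtain ⟨x, rfl⟩ := hC d
    rw [h2] at hd
    have hnil := isNilpotent_of_stalkMap_nilradical_eq_zero T t' _ hd
    obtain ⟨n, hn⟩ := hnil
    have hn0 : f.stalkMap (T.nilradical.subschemeι t') (E.hom (x ^ n)) = 0 := by
      rw [map_pow, map_pow]; exact hn
    have hn' := (injective_iff_map_eq_zero _).mp hA.1 _ hn0
    have hn'' : x ^ n = 0 := (injective_iff_map_eq_zero _).mp hE.1 _ hn'
    have : IsNilpotent (X.nilradical.subschemeι.stalkMap (g t') x) := ⟨n, by
      rw [← map_pow, hn'', map_zero]⟩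
    exact this.eq_zero
  · intro y
    obtain ⟨z, rfl⟩ := hB y
    obtain ⟨w, rfl⟩ := hA.2 z
    obtain ⟨x, rfl⟩ := hE.2 w
    exact ⟨_, h2 x⟩

/-- an open of `X` is affine if the corresponding open of `X_red` is. -/
theorem isAffineOpen_of_preimage_nilradical {X : Scheme.{u}} (V : X.Opens)
    (hV : IsAffineOpen (X.nilradical.subschemeι ⁻¹ᵁ V)) : IsAffineOpen V := by
  haveI : IsAffine (X.nilradical.subschemeι ⁻¹ᵁ V).toScheme := hV
  have hsurj : Function.Surjective (X.nilradical.subschemeι ∣_ V) := by
    rintro ⟨x, hx⟩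
    obtain ⟨y, rfl⟩ := (isHomeomorph_nilradical_subschemeι X).surjective x
    refine ⟨⟨y, hx⟩, ?_⟩
    apply Subtype.ext
    exact morphismRestrict_base_coe _ _ _
  exact Groth.Agent.Lib.Helper1.AffThick.isAffine_of_thickening
    (X.nilradical.subschemeι ∣_ V) hsurj

/-- the general case (in terms of maximal generizations) -/
theorem exists_affine_general {T X : Scheme.{u}} (f : T ⟶ X) [IsAffine T]
    [QuasiSeparatedSpace X]
    (hX : (irreducibleComponents (X : Type u)).Finite)
    (hgen : ∀ η : T, IsMaxGen η → IsMaxGen (f η))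
    (hinj : ∀ η η' : T, IsMaxGen η → IsMaxGen η' → f η = f η' → η = η')
    (s : Set T) (hsfin : s.Finite) (hs : ∀ t ∈ s, IsIso (f.stalkMap t)) :
    ∃ V : X.Opens, IsAffineOpen V ∧ ∀ t ∈ s, f t ∈ V := by
  haveI := Groth.Agent.Lib.Helper25.RedFiber.isReduced_nilradical_subscheme X
  haveI := Groth.Agent.Lib.Helper25.RedFiber.isReduced_nilradical_subscheme T
  have hiX := isHomeomorph_nilradical_subschemeι X
  have hiT := isHomeomorph_nilradical_subschemeι T
  obtain ⟨g, hg⟩ := Groth.Agent.Lib27.RedSch.exists_factor_reduced (T.nilradical.subschemeι ≫ f)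
  have hpt : ∀ t', X.nilradical.subschemeι (g t') = f (T.nilradical.subschemeι t') := by
    intro t'
    rw [← Scheme.Hom.comp_apply, hg, Scheme.Hom.comp_apply]
  haveI : IsAffine T.nilradical.subscheme := isAffine_of_isAffineHom T.nilradical.subschemeι
  haveI : QuasiSeparatedSpace X.nilradical.subscheme :=
    quasiSeparatedSpace_of_quasiSeparated X.nilradical.subschemeι
  have hXr : (irreducibleComponents (X.nilradical.subscheme : Type u)).Finite := by
    apply finite_irreducibleComponents_of_finite_isMaxGen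
    refine ((finite_isMaxGen hX).preimage hiX.injective.injOn).subset ?_
    intro η hη
    exact (isMaxGen_homeomorph_iff hiX η).mpr hη
  obtain ⟨V', hV', hVs⟩ := exists_affine_of_reduced g hXr
    (fun η hη => by
      rw [← isMaxGen_homeomorph_iff hiX, hpt]
      exact hgen _ ((isMaxGen_homeomorph_iff hiT η).mpr hη))
    (fun η η' hη hη' hgg => hiT.injective
      (hinj _ _ ((isMaxGen_homeomorph_iff hiT η).mpr hη) ((isMaxGen_homeomorph_iff hiT η').mpr hη')
        (by rw [← hpt, ← hpt, hgg])))
    (T.nilradical.subschemeι ⁻¹' s) (hsfin.preimage hiT.injective.injOn)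
    (fun t' ht' => isIso_stalkMap_reduced f g hg t' (hs _ ht'))
  -- transfer the open
  let V : X.Opens := ⟨X.nilradical.subschemeι '' (V' : Set X.nilradical.subscheme),
    hiX.isOpenMap _ V'.isOpen⟩
  have hpre : X.nilradical.subschemeι ⁻¹ᵁ V = V' := by
    apply Opens.ext
    exact Set.preimage_image_eq _ hiX.injective
  refine ⟨V, isAffineOpen_of_preimage_nilradical V (hpre ▸ hV'), fun t ht => ?_⟩
  obtain ⟨t', rfl⟩ := hiT.surjective t
  rw [← hpt]
  exact ⟨g t', hVs t' ht, rfl⟩

end Groth.Agent.Lib.Helper20.HH
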