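import Mathlib
import Groth.Agent.Lib.Helper20.HH3

/-!
# HJ1: gluing functions along two closed subschemes covering a reduced scheme, helper20
-/

set_option autoImplicit false
set_option linter.style.haveILetI false
set_option linter.unusedSectionVars false
universe u
open AlgebraicGeometry CategoryTheory TopologicalSpace

namespace Groth.Agent.Lib.Helper20.HJ

section general

lemma app_eq_appLE_of_comp {A B X : Scheme.{u}} (φ : A ⟶ B) (g : B ⟶ X) (ι : A ⟶ X)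
    (h : φ ≫ g = ι) (U : X.Opens) (r : Γ(X, U)) :
    ι.app U r = φ.appLE (g ⁻¹ᵁ U) (ι ⁻¹ᵁ U) (by subst h; exact le_rfl) (g.app U r) := by
  subst h
  have h1 := Scheme.Hom.appLE_comp_appLE φ g U (g ⁻¹ᵁ U) ((φ ≫ g) ⁻¹ᵁ U) le_rfl le_rfl
  rw [Scheme.Hom.appLE_eq_app, Scheme.Hom.appLE_eq_app] at h1
  have h2 := ConcreteCategory.congr_hom h1 r
  rw [CommRingCat.comp_apply] at h2
  exact h2.symm

lemma appLE_res_top {A B : Scheme.{u}} (φ : A ⟶ B) (V : B.Opens) (O : A.Opens)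
    (hle : O ≤ φ ⁻¹ᵁ V) (a : Γ(B, ⊤)) :
    φ.appLE V O hle (B.presheaf.map (homOfLE le_top).op a) =
      A.presheaf.map (homOfLE le_top).op (φ.appTop a) := by
  have h1 := ConcreteCategory.congr_hom
    (Scheme.Hom.map_appLE φ hle (homOfLE (le_top : V ≤ ⊤)).op) a
  rw [CommRingCat.comp_apply] at h1
  rw [h1]
  rfl

lemma app_res_top {A B : Scheme.{u}} (φ : A ⟶ B) (V : B.Opens) (a : Γ(B, ⊤)) :
    φ.app V (B.presheaf.map (homOfLE le_top).op a) =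
      A.presheaf.map (homOfLE le_top).op (φ.appTop a) := by
  rw [← Scheme.Hom.appLE_eq_app, appLE_res_top]

lemma app_res {A B : Scheme.{u}} (φ : A ⟶ B) {V U : B.Opens} (i : V ⟶ U) (s : Γ(B, U)) :
    φ.app V (B.presheaf.map i.op s) =
      A.presheaf.map ((Opens.map φ.base).map i).op (φ.app U s) := by
  have := ConcreteCategory.congr_hom (Scheme.Hom.naturality φ i.op) s
  rw [CommRingCat.comp_apply, CommRingCat.comp_apply] at this
  exact this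

end general

variable {X Z₁ Z₂ : Scheme.{u}} (g₁ : Z₁ ⟶ X) (g₂ : Z₂ ⟶ X) [IsClosedImmersion g₁]
  [IsClosedImmersion g₂]

/-- the scheme theoretic intersection -/
noncomputable abbrev Z₁₂ : Scheme.{u} := (g₁.ker ⊔ g₂.ker).subscheme

noncomputable abbrev ι₁₂ : Z₁₂ g₁ g₂ ⟶ X := (g₁.ker ⊔ g₂.ker).subschemeι

noncomputable def p₁ : Z₁₂ g₁ g₂ ⟶ Z₁ :=
  IsClosedImmersion.lift g₁ (ι₁₂ g₁ g₂) (by
    rw [Scheme.IdealSheafData.ker_subschemeι]; exact le_sup_left)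

noncomputable def p₂ : Z₁₂ g₁ g₂ ⟶ Z₂ :=
  IsClosedImmersion.lift g₂ (ι₁₂ g₁ g₂) (by
    rw [Scheme.IdealSheafData.ker_subschemeι]; exact le_sup_right)

lemma p₁_fac : p₁ g₁ g₂ ≫ g₁ = ι₁₂ g₁ g₂ := IsClosedImmersion.lift_fac _ _ _

lemma p₂_fac : p₂ g₁ g₂ ≫ g₂ = ι₁₂ g₁ g₂ := IsClosedImmersion.lift_fac _ _ _

instance : IsClosedImmersion (p₁ g₁ g₂) := by
  haveI : IsClosedImmersion (p₁ g₁ g₂ ≫ g₁) := by rw [p₁_fac]; infer_instance
  exact IsClosedImmersion.of_comp (p₁ g₁ g₂) g₁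

instance : IsClosedImmersion (p₂ g₁ g₂) := by
  haveI : IsClosedImmersion (p₂ g₁ g₂ ≫ g₂) := by rw [p₂_fac]; infer_instance
  exact IsClosedImmersion.of_comp (p₂ g₁ g₂) g₂

/-- a section of a reduced scheme vanishing on both closed subschemes vanishes -/
theorem eq_zero_of_app_eq_zero [IsReduced X]
    (hcov : ∀ x : X, x ∈ Set.range g₁ ∨ x ∈ Set.range g₂) (O : X.Opens) (s : Γ(X, O))
    (h₁ : g₁.app O s = 0) (h₂ : g₂.app O s = 0) : s = 0 := by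
  rw [← basicOpen_eq_bot_iff]
  ext x
  simp only [SetLike.mem_coe, Opens.coe_bot, Set.mem_empty_iff_false, iff_false]
  intro hx
  rcases hcov x with ⟨z, rfl⟩ | ⟨z, rfl⟩
  · have : z ∈ g₁ ⁻¹ᵁ X.basicOpen s := hx
    rw [Scheme.preimage_basicOpen, h₁, Scheme.basicOpen_zero] at this
    exact this
  · have : z ∈ g₂ ⁻¹ᵁ X.basicOpen s := hx
    rw [Scheme.preimage_basicOpen, h₂, Scheme.basicOpen_zero] at this
    exact this

/-- local gluing on an affine open -/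
theorem exists_local_glue {U : X.Opens} (hU : IsAffineOpen U) (a₁ : Γ(Z₁, ⊤)) (a₂ : Γ(Z₂, ⊤))
    (hcompat : (p₁ g₁ g₂).appTop a₁ = (p₂ g₁ g₂).appTop a₂) :
    ∃ a : Γ(X, U), g₁.app U a = Z₁.presheaf.map (homOfLE le_top).op a₁ ∧
      g₂.app U a = Z₂.presheaf.map (homOfLE le_top).op a₂ := by
  obtain ⟨r₁, hr₁⟩ := g₁.app_surjective U hU (Z₁.presheaf.map (homOfLE le_top).op a₁)
  obtain ⟨r₂, hr₂⟩ := g₂.app_surjective U hU (Z₂.presheaf.map (homOfLE le_top).op a₂)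
  have h1 : (ι₁₂ g₁ g₂).app U r₁ = (ι₁₂ g₁ g₂).app U r₂ := by
    rw [app_eq_appLE_of_comp (p₁ g₁ g₂) g₁ (ι₁₂ g₁ g₂) (p₁_fac g₁ g₂) U r₁,
      app_eq_appLE_of_comp (p₂ g₁ g₂) g₂ (ι₁₂ g₁ g₂) (p₂_fac g₁ g₂) U r₂, hr₁, hr₂,
      appLE_res_top, appLE_res_top, hcompat]
  have h2 : r₁ - r₂ ∈ RingHom.ker ((ι₁₂ g₁ g₂).app U).hom := by
    rw [RingHom.mem_ker, map_sub]
    exact sub_eq_zero.mpr h1
  rw [Scheme.IdealSheafData.ker_subschemeι_app (g₁.ker ⊔ g₂.ker) ⟨U, hU⟩,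
    Scheme.IdealSheafData.ideal_sup, Pi.sup_apply, Scheme.Hom.ker_apply, Scheme.Hom.ker_apply]
    at h2
  obtain ⟨i₁, hi₁, i₂, hi₂, hsum⟩ := Submodule.mem_sup.mp h2
  refine ⟨r₁ - i₁, ?_, ?_⟩
  · rw [map_sub, hr₁, (RingHom.mem_ker.mp hi₁ : g₁.app U i₁ = 0), sub_zero]
  · have : r₁ - i₁ = r₂ + i₂ := by
      have h3 : r₁ = i₁ + i₂ + r₂ := by rw [hsum]; ring
      rw [h3]; ring
    rw [this, map_add, hr₂, (RingHom.mem_ker.mp hi₂ : g₂.app U i₂ = 0), add_zero]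

/-- global gluing -/
theorem exists_glue [IsReduced X] (hcov : ∀ x : X, x ∈ Set.range g₁ ∨ x ∈ Set.range g₂)
    (a₁ : Γ(Z₁, ⊤)) (a₂ : Γ(Z₂, ⊤))
    (hcompat : (p₁ g₁ g₂).appTop a₁ = (p₂ g₁ g₂).appTop a₂) :
    ∃ a : Γ(X, ⊤), g₁.appTop a = a₁ ∧ g₂.appTop a = a₂ := by
  choose sf hsf₁ hsf₂ using fun U : X.affineOpens => exists_local_glue g₁ g₂ U.2 a₁ a₂ hcompat
  have key : ∀ U V : X.affineOpens,
      X.presheaf.map (Opens.infLELeft U.1 V.1).op (sf U) =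
        X.presheaf.map (Opens.infLERight U.1 V.1).op (sf V) := by
    intro U V
    rw [← sub_eq_zero]
    refine eq_zero_of_app_eq_zero g₁ g₂ hcov (U.1 ⊓ V.1) _ ?_ ?_
    · rw [map_sub, sub_eq_zero]
      rw [app_res, app_res, hsf₁, hsf₁, ← CommRingCat.comp_apply, ← CommRingCat.comp_apply,
        ← Functor.map_comp, ← Functor.map_comp]
      rfl
    · rw [map_sub, sub_eq_zero]
      rw [app_res, app_res, hsf₂, hsf₂, ← CommRingCat.comp_apply, ← CommRingCat.comp_apply,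
        ← Functor.map_comp, ← Functor.map_comp]
      rfl
  have hcompatible : TopCat.Presheaf.IsCompatible X.sheaf.1 (fun U : X.affineOpens => U.1) sf :=
    fun U V => key U V
  obtain ⟨a, ha, -⟩ := X.sheaf.existsUnique_gluing' (fun U : X.affineOpens => U.1) ⊤
    (fun U => homOfLE le_top) (by rw [iSup_affineOpens_eq_top]) sf hcompatible
  refine ⟨a, ?_, ?_⟩
  · apply Z₁.sheaf.eq_of_locally_eq' (fun U : X.affineOpens => g₁ ⁻¹ᵁ U.1) ⊤
      (fun U => homOfLE le_top) (by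
        intro z _
        obtain ⟨U, hU, hzU, -⟩ := exists_isAffineOpen_mem_and_subset (x := g₁ z) (U := ⊤) trivial
        exact Opens.mem_iSup.mpr ⟨⟨U, hU⟩, hzU⟩)
    intro U
    have h1 := app_res g₁ (homOfLE (le_top : U.1 ≤ ⊤)) a
    have h2 : X.presheaf.map (homOfLE (le_top : U.1 ≤ ⊤)).op a = sf U := ha U
    rw [h2, hsf₁] at h1
    exact h1.symm
  · apply Z₂.sheaf.eq_of_locally_eq' (fun U : X.affineOpens => g₂ ⁻¹ᵁ U.1) ⊤
      (fun U => homOfLE le_top) (by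
        intro z _
        obtain ⟨U, hU, hzU, -⟩ := exists_isAffineOpen_mem_and_subset (x := g₂ z) (U := ⊤) trivial
        exact Opens.mem_iSup.mpr ⟨⟨U, hU⟩, hzU⟩)
    intro U
    have h1 := app_res g₂ (homOfLE (le_top : U.1 ≤ ⊤)) a
    have h2 : X.presheaf.map (homOfLE (le_top : U.1 ≤ ⊤)).op a = sf U := ha U
    rw [h2, hsf₂] at h1
    exact h1.symm

end Groth.Agent.Lib.Helper20.HJ
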