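import Mathlib
import Groth.Agent.Lib.Helper20.HJ1

/-!
# HJ2: a reduced scheme covered by two affine closed subschemes is affine, helper20
-/

set_option autoImplicit false
set_option linter.style.haveILetI false
set_option linter.unusedSectionVars false
universe u
open AlgebraicGeometry CategoryTheory TopologicalSpace

namespace Groth.Agent.Lib.Helper20.HJ

/-- in an affine scheme, `D(u) ≤ ⋃ D(v i)` implies `u ∈ √(v i)` -/
theorem mem_radical_span_of_basicOpen_le {Y : Scheme.{u}} [IsAffine Y] {ι : Type*} (u : Γ(Y, ⊤))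
    (v : ι → Γ(Y, ⊤)) (hle : Y.basicOpen u ≤ ⨆ i, Y.basicOpen (v i)) :
    u ∈ (Ideal.span (Set.range v)).radical := by
  have hD := isAffineOpen_top Y
  rw [← PrimeSpectrum.vanishingIdeal_zeroLocus_eq_radical, PrimeSpectrum.mem_vanishingIdeal]
  intro p hp
  by_contra hnot
  have h1 : hD.fromSpec p ∈ Y.basicOpen u := by
    have : p ∈ hD.fromSpec ⁻¹ᵁ Y.basicOpen u := by
      rw [hD.fromSpec_preimage_basicOpen]; exact hnot
    exact this
  obtain ⟨i, hi⟩ := Opens.mem_iSup.mp (hle h1)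
  have h2 : p ∈ hD.fromSpec ⁻¹ᵁ Y.basicOpen (v i) := hi
  rw [hD.fromSpec_preimage_basicOpen] at h2
  exact h2 (hp (Ideal.subset_span ⟨i, rfl⟩))

/-- criterion for affineness -/
theorem isAffine_of_basis_of_surjective (X : Scheme.{u}) [CompactSpace X]
    (H1 : ∀ (O : X.Opens) (x : X), x ∈ O → ∃ s : Γ(X, ⊤), x ∈ X.basicOpen s ∧ X.basicOpen s ≤ O)
    (H2 : Function.Surjective X.toSpecΓ) : IsAffine X := by
  haveI : X.IsQuasiAffine := by
    refine Scheme.IsQuasiAffine.of_forall_exists_mem_basicOpen X fun x => ?_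
    obtain ⟨N, hN, hxN, -⟩ := exists_isAffineOpen_mem_and_subset (x := x) (U := ⊤) trivial
    obtain ⟨s, hxs, hsN⟩ := H1 N x hxN
    refine ⟨s, ?_, hxs⟩
    have h1 := hN.basicOpen (X.presheaf.map (homOfLE (le_top : N ≤ ⊤)).op s)
    rw [Scheme.basicOpen_res] at h1
    rwa [inf_eq_right.mpr hsN] at h1
  haveI : Epi X.toSpecΓ.base := (TopCat.epi_iff_surjective _).mpr H2
  exact ⟨IsOpenImmersion.isIso _⟩

variable {X Z₁ Z₂ : Scheme.{u}} (g₁ : Z₁ ⟶ X) (g₂ : Z₂ ⟶ X) [IsClosedImmersion g₁]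
  [IsClosedImmersion g₂]

theorem appTop_surjective_left [IsReduced X] [IsAffine Z₂]
    (hcov : ∀ x : X, x ∈ Set.range g₁ ∨ x ∈ Set.range g₂) :
    Function.Surjective g₁.appTop := by
  intro a₁
  obtain ⟨a₂, ha₂⟩ := (p₂ g₁ g₂).app_surjective ⊤ (isAffineOpen_top Z₂)
    ((p₁ g₁ g₂).appTop a₁)
  obtain ⟨a, ha, -⟩ := exists_glue g₁ g₂ hcov a₁ a₂ ha₂.symm
  exact ⟨a, ha⟩

theorem exists_basicOpen_of_mem_range_left [IsReduced X] [IsAffine Z₁] [IsAffine Z₂]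
    (hcov : ∀ x : X, x ∈ Set.range g₁ ∨ x ∈ Set.range g₂) (O : X.Opens) (z : Z₁)
    (hz : g₁ z ∈ O) : ∃ s : Γ(X, ⊤), g₁ z ∈ X.basicOpen s ∧ X.basicOpen s ≤ O := by
  classical
  haveI : IsAffine (Z₁₂ g₁ g₂) := isAffine_of_isAffineHom (p₂ g₁ g₂)
  -- step a
  obtain ⟨s₁, hs₁le, hzs₁⟩ := (isAffineOpen_top Z₁).exists_basicOpen_le (V := g₁ ⁻¹ᵁ O)
    ⟨z, hz⟩ trivial
  -- step b
  set u := (p₁ g₁ g₂).appTop s₁ with hu
  have hfac : ∀ y : Z₁₂ g₁ g₂, g₁ (p₁ g₁ g₂ y) = g₂ (p₂ g₁ g₂ y) := by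
    intro y
    rw [← Scheme.Hom.comp_apply, ← Scheme.Hom.comp_apply, p₁_fac, p₂_fac]
  -- step c
  let ι := {a : Γ(Z₂, ⊤) // Z₂.basicOpen a ≤ g₂ ⁻¹ᵁ O}
  let v : ι → Γ(Z₁₂ g₁ g₂, ⊤) := fun a => (p₂ g₁ g₂).appTop a.1
  have hule : (Z₁₂ g₁ g₂).basicOpen u ≤ ⨆ a : ι, (Z₁₂ g₁ g₂).basicOpen (v a) := by
    intro y hy
    rw [hu, ← Scheme.preimage_basicOpen_top] at hy
    have h1 : g₁ (p₁ g₁ g₂ y) ∈ O := hs₁le hy
    rw [hfac] at h1
    obtain ⟨a, ha1, ha2⟩ := (isAffineOpen_top Z₂).exists_basicOpen_le (V := g₂ ⁻¹ᵁ O)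
      ⟨p₂ g₁ g₂ y, h1⟩ trivial
    refine Opens.mem_iSup.mpr ⟨⟨a, ha1⟩, ?_⟩
    change y ∈ (Z₁₂ g₁ g₂).basicOpen ((p₂ g₁ g₂).appTop a)
    rw [← Scheme.preimage_basicOpen_top]
    exact ha2
  obtain ⟨n, hn⟩ := mem_radical_span_of_basicOpen_le u v hule
  have hn' : u ^ (n + 1) ∈ Ideal.span (Set.range v) := by
    rw [pow_succ]; exact Ideal.mul_mem_right _ _ hn
  obtain ⟨c, hc⟩ := Finsupp.mem_span_range_iff_exists_finsupp.mp hn'
  have hsurj : Function.Surjective (p₂ g₁ g₂).appTop :=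
    (p₂ g₁ g₂).app_surjective ⊤ (isAffineOpen_top Z₂)
  choose lift hlift using hsurj
  let s₂ : Γ(Z₂, ⊤) := ∑ a ∈ c.support, lift (c a) * a.1
  have hs₂ : (p₂ g₁ g₂).appTop s₂ = u ^ (n + 1) := by
    rw [← hc, Finsupp.sum, map_sum]
    refine Finset.sum_congr rfl fun a _ => ?_
    rw [map_mul, hlift, smul_eq_mul]
  have hs₂le : Z₂.basicOpen s₂ ≤ g₂ ⁻¹ᵁ O := by
    intro y hy
    obtain ⟨a, _, hya⟩ := HH.exists_mem_basicOpen_of_mem_basicOpen_sum c.support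
      (fun a : ι => lift (c a) * a.1) y hy
    rw [Scheme.basicOpen_mul] at hya
    exact a.2 hya.2
  -- step d
  obtain ⟨s, hs1, hs2⟩ := exists_glue g₁ g₂ hcov (s₁ ^ (n + 1)) s₂ (by rw [map_pow, hs₂])
  refine ⟨s, ?_, ?_⟩
  · have : z ∈ g₁ ⁻¹ᵁ X.basicOpen s := by
      rw [Scheme.preimage_basicOpen_top, hs1]
      exact HH.mem_basicOpen_pow _ _ _ hzs₁
    exact this
  · intro x hx
    rcases hcov x with ⟨z', rfl⟩ | ⟨z', rfl⟩
    · have h1 : z' ∈ g₁ ⁻¹ᵁ X.basicOpen s := hx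
      rw [Scheme.preimage_basicOpen_top, hs1, Scheme.basicOpen_pow _ _ (Nat.succ_pos n)] at h1
      exact hs₁le h1
    · have h1 : z' ∈ g₂ ⁻¹ᵁ X.basicOpen s := hx
      rw [Scheme.preimage_basicOpen_top, hs2] at h1
      exact hs₂le h1

theorem exists_preimage_toSpecΓ_left [IsReduced X] [IsAffine Z₁] [IsAffine Z₂]
    (hcov : ∀ x : X, x ∈ Set.range g₁ ∨ x ∈ Set.range g₂) (p : Spec Γ(X, ⊤))
    (hK : RingHom.ker g₁.appTop.hom ≤ p.asIdeal) : ∃ x : X, X.toSpecΓ x = p := by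
  have hsurj := appTop_surjective_left g₁ g₂ hcov
  haveI : p.asIdeal.IsPrime := p.isPrime
  have hq : (Ideal.map g₁.appTop.hom p.asIdeal).IsPrime :=
    Ideal.map_isPrime_of_surjective hsurj hK
  have hcomap : Ideal.comap g₁.appTop.hom (Ideal.map g₁.appTop.hom p.asIdeal) = p.asIdeal := by
    rw [Ideal.comap_map_of_surjective _ hsurj]
    exact sup_eq_left.mpr hK
  let q : Spec Γ(Z₁, ⊤) := ⟨Ideal.map g₁.appTop.hom p.asIdeal, hq⟩
  obtain ⟨z, hz⟩ : ∃ z : Z₁, Z₁.toSpecΓ z = q :=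
    (ConcreteCategory.bijective_of_isIso Z₁.toSpecΓ.base).2 q
  refine ⟨g₁ z, ?_⟩
  have hnat := Scheme.toSpecΓ_naturality g₁
  have h1 : X.toSpecΓ (g₁ z) = Spec.map g₁.appTop (Z₁.toSpecΓ z) := by
    rw [← Scheme.Hom.comp_apply, hnat, Scheme.Hom.comp_apply]
  rw [h1, hz]
  exact PrimeSpectrum.ext hcomap

theorem isAffine_of_two_closed_cover_reduced [IsReduced X] [IsAffine Z₁] [IsAffine Z₂]
    (hcov : ∀ x : X, x ∈ Set.range g₁ ∨ x ∈ Set.range g₂) : IsAffine X := by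
  have hcov' : ∀ x : X, x ∈ Set.range g₂ ∨ x ∈ Set.range g₁ := fun x => (hcov x).symm
  haveI : CompactSpace X := by
    constructor
    have : (Set.univ : Set X) = Set.range g₁ ∪ Set.range g₂ := by
      ext x; simp only [Set.mem_univ, Set.mem_union, true_iff]; exact hcov x
    rw [this]
    exact (isCompact_range g₁.continuous).union (isCompact_range g₂.continuous)
  apply isAffine_of_basis_of_surjective
  · intro O x hx
    rcases hcov x with ⟨z, rfl⟩ | ⟨z, rfl⟩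
    · exact exists_basicOpen_of_mem_range_left g₁ g₂ hcov O z hx
    · exact exists_basicOpen_of_mem_range_left g₂ g₁ hcov' O z hx
  · intro p
    have hmul : RingHom.ker g₁.appTop.hom * RingHom.ker g₂.appTop.hom ≤ p.asIdeal := by
      refine Ideal.mul_le_inf.trans ?_
      intro s hs
      have : s = 0 := eq_zero_of_app_eq_zero g₁ g₂ hcov ⊤ s (RingHom.mem_ker.mp hs.1)
        (RingHom.mem_ker.mp hs.2)
      rw [this]; exact p.asIdeal.zero_mem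
    rcases (Ideal.IsPrime.mul_le p.isPrime).mp hmul with h | h
    · exact exists_preimage_toSpecΓ_left g₁ g₂ hcov p h
    · exact exists_preimage_toSpecΓ_left g₂ g₁ hcov' p h

end Groth.Agent.Lib.Helper20.HJ
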