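import Mathlib
import Groth.Agent.Lib.Helper20.HJ2
import Groth.Agent.Lib.Helper20.HH7

/-!
# HJ3: a scheme covered by two affine closed subschemes is affine, helper20
-/

set_option autoImplicit false
set_option linter.style.haveILetI false
set_option linter.unusedSectionVars false
universe u
open AlgebraicGeometry CategoryTheory TopologicalSpace

namespace Groth.Agent.Lib.Helper20.HJ

open Groth.Agent.Lib.Helper20.HH in
theorem isAffine_of_two_closed_cover {X Z₁ Z₂ : Scheme.{u}} (g₁ : Z₁ ⟶ X) (g₂ : Z₂ ⟶ X)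
    [IsClosedImmersion g₁] [IsClosedImmersion g₂] [IsAffine Z₁] [IsAffine Z₂]
    (hcov : ∀ x : X, x ∈ Set.range g₁ ∨ x ∈ Set.range g₂) : IsAffine X := by
  haveI := Groth.Agent.Lib.Helper25.RedFiber.isReduced_nilradical_subscheme X
  haveI := Groth.Agent.Lib.Helper25.RedFiber.isReduced_nilradical_subscheme Z₁
  haveI := Groth.Agent.Lib.Helper25.RedFiber.isReduced_nilradical_subscheme Z₂
  have hiX := isHomeomorph_nilradical_subschemeι X
  have hi₁ := isHomeomorph_nilradical_subschemeι Z₁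
  have hi₂ := isHomeomorph_nilradical_subschemeι Z₂
  obtain ⟨g₁', hg₁'⟩ := Groth.Agent.Lib27.RedSch.exists_factor_reduced
    (Z₁.nilradical.subschemeι ≫ g₁)
  obtain ⟨g₂', hg₂'⟩ := Groth.Agent.Lib27.RedSch.exists_factor_reduced
    (Z₂.nilradical.subschemeι ≫ g₂)
  haveI : IsClosedImmersion g₁' := by
    haveI : IsClosedImmersion (g₁' ≫ X.nilradical.subschemeι) := by rw [hg₁']; infer_instance
    exact IsClosedImmersion.of_comp g₁' X.nilradical.subschemeι
  haveI : IsClosedImmersion g₂' := by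
    haveI : IsClosedImmersion (g₂' ≫ X.nilradical.subschemeι) := by rw [hg₂']; infer_instance
    exact IsClosedImmersion.of_comp g₂' X.nilradical.subschemeι
  haveI : IsAffine Z₁.nilradical.subscheme := isAffine_of_isAffineHom Z₁.nilradical.subschemeι
  haveI : IsAffine Z₂.nilradical.subscheme := isAffine_of_isAffineHom Z₂.nilradical.subschemeι
  have hcov' : ∀ x : X.nilradical.subscheme, x ∈ Set.range g₁' ∨ x ∈ Set.range g₂' := by
    intro x
    rcases hcov (X.nilradical.subschemeι x) with ⟨z, hz⟩ | ⟨z, hz⟩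
    · left
      obtain ⟨z', rfl⟩ := hi₁.surjective z
      refine ⟨z', hiX.injective ?_⟩
      rw [← hz, ← Scheme.Hom.comp_apply, hg₁', Scheme.Hom.comp_apply]
    · right
      obtain ⟨z', rfl⟩ := hi₂.surjective z
      refine ⟨z', hiX.injective ?_⟩
      rw [← hz, ← Scheme.Hom.comp_apply, hg₂', Scheme.Hom.comp_apply]
  haveI : IsAffine X.nilradical.subscheme := isAffine_of_two_closed_cover_reduced g₁' g₂' hcov'
  exact Groth.Agent.Lib.Helper1.AffThick.isAffine_of_thickening X.nilradical.subschemeι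
    hiX.surjective

/-- version for an open subset -/
theorem isAffineOpen_of_two_closed_cover {X Z₁ Z₂ : Scheme.{u}} (g₁ : Z₁ ⟶ X) (g₂ : Z₂ ⟶ X)
    [IsClosedImmersion g₁] [IsClosedImmersion g₂]
    (hcov : ∀ x : X, x ∈ Set.range g₁ ∨ x ∈ Set.range g₂) (U : X.Opens)
    (h₁ : IsAffineOpen (g₁ ⁻¹ᵁ U)) (h₂ : IsAffineOpen (g₂ ⁻¹ᵁ U)) : IsAffineOpen U := by
  haveI : IsAffine (g₁ ⁻¹ᵁ U).toScheme := h₁
  haveI : IsAffine (g₂ ⁻¹ᵁ U).toScheme := h₂
  refine isAffine_of_two_closed_cover (g₁ ∣_ U) (g₂ ∣_ U) ?_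
  rintro ⟨x, hx⟩
  rcases hcov x with ⟨z, rfl⟩ | ⟨z, rfl⟩
  · left
    exact ⟨⟨z, hx⟩, Subtype.ext (morphismRestrict_base_coe _ _ _)⟩
  · right
    exact ⟨⟨z, hx⟩, Subtype.ext (morphismRestrict_base_coe _ _ _)⟩

end Groth.Agent.Lib.Helper20.HJ
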