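import Mathlib
import Groth.Agent.Lib.Helper20.HJ3
import Groth.Agent.Lib.Helper20.HA15
import Groth.Agent.Lib.Helper21.NagDvr3
import Groth.Agent.S7661

/-!
# HJ4: matching affine opens on two closed subschemes, helper20
-/

set_option autoImplicit false
set_option linter.style.haveILetI false
set_option linter.unusedSectionVars false
universe u
open AlgebraicGeometry CategoryTheory TopologicalSpace

namespace Groth.Agent.Lib.Helper20.HJ

/-- shrinking an affine open of `Y'` so that the points of `Z` over it lie in a given open -/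
theorem exists_shrink {Y Y' Z : Scheme.{u}} (g' : Y' ⟶ Y) (gZ : Z ⟶ Y) [IsClosedImmersion gZ]
    (U' : Y'.Opens) (hU' : IsAffineOpen U') (UZ : Z.Opens) (T' : Set Y') (hT' : T'.Finite)
    (hT'U : T' ⊆ U') (hT'Z : ∀ y' ∈ T', ∀ z : Z, gZ z = g' y' → z ∈ UZ) :
    ∃ f' : Γ(Y', U'), T' ⊆ Y'.basicOpen f' ∧
      ∀ y' ∈ Y'.basicOpen f', ∀ z : Z, gZ z = g' y' → z ∈ UZ := by
  have hC : IsClosed (gZ '' ((UZ : Set Z)ᶜ)) :=
    gZ.isClosedEmbedding.isClosedMap _ UZ.isOpen.isClosed_compl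
  let O : Y'.Opens := g' ⁻¹ᵁ ⟨_, hC.isOpen_compl⟩
  have hT'O : T' ⊆ O := by
    intro y' hy' hmem
    obtain ⟨z, hz, hzy⟩ := hmem
    exact hz (hT'Z y' hy' z hzy)
  obtain ⟨f', hf'1, hf'2⟩ := Groth.Agent.Lib.Helper20.HA.exists_basicOpen_of_finite_affine hU' T'
    hT' hT'U O hT'O
  refine ⟨f', hf'1, fun y' hy' z hz => ?_⟩
  by_contra hzU
  exact hf'2 hy' ⟨z, hzU, hz⟩

/-- lifting a function along a closed immersion, avoiding finitely many points -/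
theorem exists_lift_avoiding {Y' N' : Scheme.{u}} (p : N' ⟶ Y') [IsClosedImmersion p]
    (U' : Y'.Opens) (hU' : IsAffineOpen U') (T' : Set Y') (hT' : T'.Finite) (hT'U : T' ⊆ U')
    (hN : Γ(N', p ⁻¹ᵁ U')) (hTN : ∀ y : N', p y ∈ T' → y ∈ N'.basicOpen hN) :
    ∃ f : Γ(Y', U'), p.app U' f = hN ∧ T' ⊆ Y'.basicOpen f := by
  classical
  obtain ⟨f₀, hf₀⟩ := p.app_surjective U' hU' hN
  let I : Ideal Γ(Y', U') := RingHom.ker (p.app U').hom
  let T'' : Set U' := {t | t.1 ∈ T' ∧ t.1 ∉ Set.range p}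
  have hT''fin : T''.Finite := by
    refine Set.Finite.of_finite_image (f := Subtype.val) (hT'.subset ?_) Subtype.val_injective.injOn
    rintro _ ⟨t, ht, rfl⟩; exact ht.1
  let s : Finset (Ideal Γ(Y', U')) := hT''fin.toFinset.image fun t => (hU'.primeIdealOf t).asIdeal
  have hsprime : ∀ q ∈ s, q.IsPrime := by
    intro q hq
    obtain ⟨t, _, rfl⟩ := Finset.mem_image.mp hq
    exact (hU'.primeIdealOf t).isPrime
  have hsI : ∀ q ∈ s, ¬ I ≤ q := by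
    intro q hq hIq
    obtain ⟨t, ht, rfl⟩ := Finset.mem_image.mp hq
    have ht' : t ∈ T'' := hT''fin.mem_toFinset.mp ht
    have hC : IsClosed (Set.range p) := p.isClosedEmbedding.isClosed_range
    obtain ⟨g₀, hg₀1, hg₀2⟩ := hU'.exists_basicOpen_le (V := ⟨_, hC.isOpen_compl⟩)
      ⟨t.1, ht'.2⟩ t.2
    have hbot : N'.basicOpen (p.app U' g₀) = ⊥ := by
      rw [← Scheme.preimage_basicOpen]
      ext y
      simp only [SetLike.mem_coe, Opens.coe_bot, Set.mem_empty_iff_false, iff_false]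
      intro hy
      exact hg₀1 hy ⟨y, rfl⟩
    have hcomp : IsCompact ((p ⁻¹ᵁ U' : N'.Opens) : Set N') := (hU'.preimage p).isCompact
    obtain ⟨m, hm⟩ := (Scheme.isNilpotent_iff_basicOpen_eq_bot_of_isCompact hcomp _).mpr hbot
    have hmem : g₀ ^ m ∈ I := by
      rw [RingHom.mem_ker, map_pow]; exact hm
    have h1 := hIq hmem
    have h2 : g₀ ∈ (hU'.primeIdealOf t).asIdeal := (hU'.primeIdealOf t).isPrime.mem_of_pow_mem _ h1
    exact ((Groth.Agent.Lib.Helper21.NagDvr.mem_basicOpen_iff_notMem_primeIdealOf hU' g₀ t).mp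
      hg₀2) h2
  obtain ⟨g, hgI, hg⟩ := Groth.Agent.S7661.avoid_aux I f₀ s.card s rfl hsprime hsI
  refine ⟨f₀ + g, ?_, ?_⟩
  · rw [map_add, hf₀, (RingHom.mem_ker.mp hgI : p.app U' g = 0), add_zero]
  · intro t' ht'
    by_cases hr : t' ∈ Set.range p
    · obtain ⟨y, rfl⟩ := hr
      have h1 : y ∈ p ⁻¹ᵁ Y'.basicOpen (f₀ + g) := by
        rw [Scheme.preimage_basicOpen, map_add, hf₀,
          (RingHom.mem_ker.mp hgI : p.app U' g = 0), add_zero]
        exact hTN y ht'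
      exact h1
    · have hmem : (⟨t', hT'U ht'⟩ : U') ∈ T'' := ⟨ht', hr⟩
      have h1 := hg _ (Finset.mem_image_of_mem _ (hT''fin.mem_toFinset.mpr hmem))
      exact (Groth.Agent.Lib.Helper21.NagDvr.mem_basicOpen_iff_notMem_primeIdealOf hU' _
        ⟨t', hT'U ht'⟩).mpr h1

theorem exists_point_Z₁₂ {X Z₁ Z₂ : Scheme.{u}} (g₁ : Z₁ ⟶ X) (g₂ : Z₂ ⟶ X)
    [IsClosedImmersion g₁] [IsClosedImmersion g₂] (z₁ : Z₁) (z₂ : Z₂) (h : g₁ z₁ = g₂ z₂) :
    ∃ y : Z₁₂ g₁ g₂, p₁ g₁ g₂ y = z₁ ∧ p₂ g₁ g₂ y = z₂ := by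
  have hx : g₁ z₁ ∈ ((g₁.ker ⊔ g₂.ker).support : Set X) := by
    rw [Scheme.IdealSheafData.support_sup]
    refine ⟨?_, ?_⟩
    · rw [SetLike.mem_coe, ← SetLike.mem_coe, Scheme.Hom.support_ker]
      exact subset_closure ⟨z₁, rfl⟩
    · rw [SetLike.mem_coe, ← SetLike.mem_coe, Scheme.Hom.support_ker, h]
      exact subset_closure ⟨z₂, rfl⟩
  rw [← Scheme.IdealSheafData.range_subschemeι] at hx
  obtain ⟨y, hy⟩ := hx
  refine ⟨y, g₁.isClosedEmbedding.injective ?_, g₂.isClosedEmbedding.injective ?_⟩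
  · rw [← Scheme.Hom.comp_apply, p₁_fac]; exact hy
  · rw [← Scheme.Hom.comp_apply, p₂_fac, ← h]; exact hy

theorem exists_affine_open_of_match {Y Y' Z : Scheme.{u}} (g' : Y' ⟶ Y) (gZ : Z ⟶ Y)
    [IsClosedImmersion g'] [IsClosedImmersion gZ]
    (hcov : ∀ y : Y, y ∈ Set.range g' ∨ y ∈ Set.range gZ)
    (U' : Y'.Opens) (hU' : IsAffineOpen U') (UZ : Z.Opens) (hUZ : IsAffineOpen UZ)
    (T : Set Y) (hT : T.Finite)
    (hT' : ∀ y' : Y', g' y' ∈ T → y' ∈ U') (hTZ : ∀ z : Z, gZ z ∈ T → z ∈ UZ) :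
    ∃ U : Y.Opens, IsAffineOpen U ∧ T ⊆ U := by
  have hT'fin : (g' ⁻¹' T).Finite := hT.preimage g'.isClosedEmbedding.injective.injOn
  have hTZfin : (gZ ⁻¹' T).Finite := hT.preimage gZ.isClosedEmbedding.injective.injOn
  have hfac : ∀ y : Z₁₂ g' gZ, g' (p₁ g' gZ y) = gZ (p₂ g' gZ y) := by
    intro y
    rw [← Scheme.Hom.comp_apply, ← Scheme.Hom.comp_apply, p₁_fac, p₂_fac]
  -- Step 1
  obtain ⟨f', hf'1, hf'2⟩ := exists_shrink g' gZ U' hU' UZ (g' ⁻¹' T) hT'fin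
    (fun y' hy' => hT' y' hy') (fun y' hy' z hz => hTZ z (by rw [hz]; exact hy'))
  have hU'₁ : IsAffineOpen (Y'.basicOpen f') := hU'.basicOpen f'
  -- Step 2
  obtain ⟨h, hh1, hh2⟩ := exists_shrink gZ g' UZ hUZ (Y'.basicOpen f') (gZ ⁻¹' T) hTZfin
    (fun z hz => hTZ z hz)
    (fun z hz y' hy' => hf'1 (show g' y' ∈ T by rw [hy']; exact hz))
  -- Step 3
  have hNle : p₁ g' gZ ⁻¹ᵁ Y'.basicOpen f' ≤ p₂ g' gZ ⁻¹ᵁ UZ := by
    intro y hy
    exact hf'2 (p₁ g' gZ y) hy (p₂ g' gZ y) (hfac y).symm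
  obtain ⟨f, hf1, hf2⟩ := exists_lift_avoiding (p₁ g' gZ) (Y'.basicOpen f') hU'₁ (g' ⁻¹' T)
    hT'fin hf'1 ((p₂ g' gZ).appLE UZ (p₁ g' gZ ⁻¹ᵁ Y'.basicOpen f') hNle h) (by
      intro y hy
      rw [Scheme.basicOpen_appLE]
      refine ⟨hf'1 hy, ?_⟩
      exact hh1 (show gZ (p₂ g' gZ y) ∈ T by rw [← hfac]; exact hy))
  have hb : ∀ y' ∈ Y'.basicOpen f', ∀ z, gZ z = g' y' →
      (y' ∈ Y'.basicOpen f ↔ z ∈ Z.basicOpen h) := by
    intro y' hy' z hz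
    obtain ⟨y, rfl, rfl⟩ := exists_point_Z₁₂ g' gZ y' z hz.symm
    have e1 : (p₁ g' gZ y ∈ Y'.basicOpen f) ↔
        y ∈ (Z₁₂ g' gZ).basicOpen ((p₁ g' gZ).app (Y'.basicOpen f') f) := by
      rw [← Scheme.preimage_basicOpen]; rfl
    rw [e1, hf1, Scheme.basicOpen_appLE]
    constructor
    · exact fun h => h.2
    · exact fun h => ⟨hy', h⟩
  have hmatch : ∀ y' z, g' y' = gZ z → (y' ∈ Y'.basicOpen f ↔ z ∈ Z.basicOpen h) := by
    intro y' z hyz
    constructor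
    · intro hy'
      exact (hb y' (Y'.basicOpen_le f hy') z hyz.symm).mp hy'
    · intro hz
      have := hh2 z hz y' hyz
      exact (hb y' this z hyz.symm).mpr hz
  have hC1 : IsClosed (g' '' ((Y'.basicOpen f : Set Y')ᶜ)) :=
    g'.isClosedEmbedding.isClosedMap _ (Y'.basicOpen f).isOpen.isClosed_compl
  have hC2 : IsClosed (gZ '' ((Z.basicOpen h : Set Z)ᶜ)) :=
    gZ.isClosedEmbedding.isClosedMap _ (Z.basicOpen h).isOpen.isClosed_compl
  let U : Y.Opens := ⟨_, (hC1.union hC2).isOpen_compl⟩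
  have hpre' : g' ⁻¹ᵁ U = Y'.basicOpen f := by
    ext y'
    constructor
    · intro hy'
      by_contra hn
      exact hy' (Or.inl ⟨y', hn, rfl⟩)
    · intro hy' hmem
      rcases hmem with ⟨y'', hy'', he⟩ | ⟨z, hz, he⟩
      · exact hy'' (g'.isClosedEmbedding.injective he ▸ hy')
      · exact hz ((hmatch y' z he.symm).mp hy')
  have hpreZ : gZ ⁻¹ᵁ U = Z.basicOpen h := by
    ext z
    constructor
    · intro hz
      by_contra hn
      exact hz (Or.inr ⟨z, hn, rfl⟩)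
    · intro hz hmem
      rcases hmem with ⟨y', hy', he⟩ | ⟨z', hz', he⟩
      · exact hy' ((hmatch y' z he).mpr hz)
      · exact hz' (gZ.isClosedEmbedding.injective he ▸ hz)
  refine ⟨U, isAffineOpen_of_two_closed_cover g' gZ hcov U (hpre' ▸ hU'₁.basicOpen f)
    (hpreZ ▸ hUZ.basicOpen h), ?_⟩
  intro t ht hmem
  rcases hmem with ⟨y'', hy'', he⟩ | ⟨z, hz, he⟩
  · exact hy'' (hf2 (show g' y'' ∈ T from he ▸ ht))
  · exact hz (hh1 (show gZ z ∈ T from he ▸ ht))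

end Groth.Agent.Lib.Helper20.HJ
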