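import Mathlib
import Groth.Agent.Lib.Helper20.HJ4

/-!
# HJ5: affine opens from affine opens of the irreducible components (Stacks 09NM), helper20
-/

set_option autoImplicit false
set_option linter.style.haveILetI false
set_option linter.unusedSectionVars false
universe u
open AlgebraicGeometry CategoryTheory TopologicalSpace

namespace Groth.Agent.Lib.Helper20.HJ

open Scheme.IdealSheafData in
instance {X : Scheme.{u}} {I J : X.IdealSheafData} (h : I ≤ J) :
    IsClosedImmersion (Scheme.IdealSheafData.inclusion h) := by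
  haveI : IsClosedImmersion (Scheme.IdealSheafData.inclusion h ≫ I.subschemeι) := by
    rw [inclusion_subschemeι]; infer_instance
  exact IsClosedImmersion.of_comp (Scheme.IdealSheafData.inclusion h) I.subschemeι

/-- an open is affine if its preimage under a surjective closed immersion is -/
theorem isAffineOpen_of_preimage_of_surjective {Z X : Scheme.{u}} (g : Z ⟶ X)
    [IsClosedImmersion g] (hsurj : Function.Surjective g) (V : X.Opens)
    (hV : IsAffineOpen (g ⁻¹ᵁ V)) : IsAffineOpen V := by
  haveI : IsAffine (g ⁻¹ᵁ V).toScheme := hV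
  have hs : Function.Surjective (g ∣_ V) := by
    rintro ⟨x, hx⟩
    obtain ⟨y, rfl⟩ := hsurj x
    exact ⟨⟨y, hx⟩, Subtype.ext (morphismRestrict_base_coe _ _ _)⟩
  exact Groth.Agent.Lib.Helper1.AffThick.isAffine_of_thickening (g ∣_ V) hs

open Scheme.IdealSheafData in
theorem mem_range_subschemeι_vanishingIdeal {X : Scheme.{u}} (C : Closeds X) (x : X) :
    x ∈ Set.range (vanishingIdeal C).subschemeι ↔ x ∈ C := by
  rw [range_subschemeι, coe_support_vanishingIdeal]
  rfl

open Scheme.IdealSheafData in
/-- the induction on finite sets of closed subsets -/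
theorem exists_affine_open_sup {X : Scheme.{u}} (T : Set X) (hT : T.Finite)
    (S : Finset (Closeds X))
    (hS : ∀ C ∈ S, ∃ V : (vanishingIdeal C).subscheme.Opens, IsAffineOpen V ∧
      ∀ t ∈ T, t ∈ C → t ∈ (vanishingIdeal C).subschemeι '' (V : Set _)) :
    ∃ V : (vanishingIdeal (S.sup id)).subscheme.Opens, IsAffineOpen V ∧
      ∀ t ∈ T, t ∈ S.sup id → t ∈ (vanishingIdeal (S.sup id)).subschemeι '' (V : Set _) := by
  classical
  induction S using Finset.induction_on with
  | empty =>
    refine ⟨⊥, isAffineOpen_bot _, fun t _ ht => ?_⟩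
    rw [Finset.sup_empty] at ht
    exact (ht : t ∈ (∅ : Set X)).elim
  | insert C S hCS ih =>
    have ih' := ih (fun D hD => hS D (Finset.mem_insert_of_mem hD))
    rw [Finset.sup_insert, id]
    generalize S.sup id = D at ih' ⊢
    obtain ⟨U', hU', hU'T⟩ := ih'
    obtain ⟨UZ, hUZ, hUZT⟩ := hS C (Finset.mem_insert_self _ _)
    let g' : (vanishingIdeal D).subscheme ⟶ (vanishingIdeal (C ⊔ D)).subscheme :=
      inclusion (vanishingIdeal_antimono le_sup_right)
    let gZ : (vanishingIdeal C).subscheme ⟶ (vanishingIdeal (C ⊔ D)).subscheme :=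
      inclusion (vanishingIdeal_antimono le_sup_left)
    have hg' : g' ≫ (vanishingIdeal (C ⊔ D)).subschemeι = (vanishingIdeal D).subschemeι :=
      inclusion_subschemeι _
    have hgZ : gZ ≫ (vanishingIdeal (C ⊔ D)).subschemeι = (vanishingIdeal C).subschemeι :=
      inclusion_subschemeι _
    have hinjY : Function.Injective (vanishingIdeal (C ⊔ D)).subschemeι :=
      (vanishingIdeal (C ⊔ D)).subschemeι.isClosedEmbedding.injective
    have hcov : ∀ y, y ∈ Set.range g' ∨ y ∈ Set.range gZ := by
      intro y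
      have hy : (vanishingIdeal (C ⊔ D)).subschemeι y ∈ C ⊔ D :=
        (mem_range_subschemeι_vanishingIdeal _ _).mp ⟨y, rfl⟩
      rcases hy with hy | hy
      · right
        obtain ⟨z, hz⟩ := (mem_range_subschemeι_vanishingIdeal C _).mpr hy
        refine ⟨z, hinjY ?_⟩
        rw [← hz, ← hgZ, Scheme.Hom.comp_apply]
      · left
        obtain ⟨z, hz⟩ := (mem_range_subschemeι_vanishingIdeal D _).mpr hy
        refine ⟨z, hinjY ?_⟩
        rw [← hz, ← hg', Scheme.Hom.comp_apply]
    obtain ⟨U, hU, hTU⟩ := exists_affine_open_of_match g' gZ hcov U' hU' UZ hUZ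
      ((vanishingIdeal (C ⊔ D)).subschemeι ⁻¹' T) (hT.preimage hinjY.injOn)
      (by
        intro y' hy'
        have h1 : (vanishingIdeal D).subschemeι y' ∈ T := by
          rw [← hg', Scheme.Hom.comp_apply]; exact hy'
        have h2 : (vanishingIdeal D).subschemeι y' ∈ D :=
          (mem_range_subschemeι_vanishingIdeal _ _).mp ⟨y', rfl⟩
        obtain ⟨y'', hy'', he⟩ := hU'T _ h1 h2
        rw [← (vanishingIdeal D).subschemeι.isClosedEmbedding.injective he]
        exact hy'')
      (by
        intro z hz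
        have h1 : (vanishingIdeal C).subschemeι z ∈ T := by
          rw [← hgZ, Scheme.Hom.comp_apply]; exact hz
        have h2 : (vanishingIdeal C).subschemeι z ∈ C :=
          (mem_range_subschemeι_vanishingIdeal _ _).mp ⟨z, rfl⟩
        obtain ⟨z', hz', he⟩ := hUZT _ h1 h2
        rw [← (vanishingIdeal C).subschemeι.isClosedEmbedding.injective he]
        exact hz')
    refine ⟨U, hU, fun t ht htC => ?_⟩
    obtain ⟨y, rfl⟩ := (mem_range_subschemeι_vanishingIdeal (C ⊔ D) _).mpr htC
    exact ⟨y, hTU ht, rfl⟩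

open Scheme.IdealSheafData in
/-- Stacks 09NM -/
theorem exists_affine_open_of_components {X : Scheme.{u}}
    (hX : (irreducibleComponents (X : Type u)).Finite) (T : Set X) (hT : T.Finite)
    (h : ∀ (Z : Set X) (hZ : Z ∈ irreducibleComponents (X : Type u)),
      ∃ V : (vanishingIdeal
          (⟨Z, isClosed_of_mem_irreducibleComponents Z hZ⟩ : Closeds X)).subscheme.Opens,
        IsAffineOpen V ∧ ∀ t ∈ T, t ∈ Z → t ∈ (vanishingIdeal
          (⟨Z, isClosed_of_mem_irreducibleComponents Z hZ⟩ : Closeds X)).subschemeι ''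
            (V : Set _)) :
    ∃ U : X.Opens, IsAffineOpen U ∧ T ⊆ U := by
  classical
  let S : Finset (Closeds X) := hX.toFinset.attach.image fun Z =>
    ⟨Z.1, isClosed_of_mem_irreducibleComponents Z.1 (hX.mem_toFinset.mp Z.2)⟩
  have hS : ∀ C ∈ S, ∃ V : (vanishingIdeal C).subscheme.Opens, IsAffineOpen V ∧
      ∀ t ∈ T, t ∈ C → t ∈ (vanishingIdeal C).subschemeι '' (V : Set _) := by
    intro C hC
    obtain ⟨Z, _, rfl⟩ := Finset.mem_image.mp hC
    exact h Z.1 (hX.mem_toFinset.mp Z.2)
  obtain ⟨V, hV, hVT⟩ := exists_affine_open_sup T hT S hS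
  have htop : ∀ x : X, x ∈ S.sup id := by
    intro x
    have hZ := irreducibleComponent_mem_irreducibleComponents x
    have hmem : (⟨irreducibleComponent x, isClosed_of_mem_irreducibleComponents _ hZ⟩ :
        Closeds X) ∈ S :=
      Finset.mem_image.mpr ⟨⟨_, hX.mem_toFinset.mpr hZ⟩, Finset.mem_attach _ _, rfl⟩
    have hle := Finset.le_sup (f := id) hmem
    exact hle mem_irreducibleComponent
  have hsurj : Function.Surjective (vanishingIdeal (S.sup id)).subschemeι := fun x =>
    (mem_range_subschemeι_vanishingIdeal _ _).mpr (htop x)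
  have hhomeo : IsHomeomorph (vanishingIdeal (S.sup id)).subschemeι :=
    isHomeomorph_iff_isEmbedding_surjective.mpr
      ⟨(vanishingIdeal (S.sup id)).subschemeι.isEmbedding, hsurj⟩
  let U : X.Opens := ⟨(vanishingIdeal (S.sup id)).subschemeι '' (V : Set _),
    hhomeo.isOpenMap _ V.isOpen⟩
  have hpre : (vanishingIdeal (S.sup id)).subschemeι ⁻¹ᵁ U = V := by
    apply Opens.ext
    exact Set.preimage_image_eq _ hhomeo.injective
  refine ⟨U, isAffineOpen_of_preimage_of_surjective _ hsurj U (hpre ▸ hV), fun t ht => ?_⟩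
  exact hVT t ht (htop t)

end Groth.Agent.Lib.Helper20.HJ
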