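import Mathlib
import Groth.Agent.Lib.Helper20.HJ5

/-!
# HJ6: a scheme covered by finitely many affine closed subschemes is affine, helper20
-/

set_option autoImplicit false
set_option linter.style.haveILetI false
set_option linter.unusedSectionVars false
universe u v
open AlgebraicGeometry CategoryTheory TopologicalSpace

namespace Groth.Agent.Lib.Helper20.HJ

open Scheme.IdealSheafData in
theorem isAffine_of_finite_closed_cover (X : Scheme.{u}) {κ : Type v} [Finite κ]
    (Z : κ → Scheme.{u}) (ι : ∀ k, Z k ⟶ X) [∀ k, IsClosedImmersion (ι k)] [∀ k, IsAffine (Z k)]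
    (hcov : ∀ x : X, ∃ k, x ∈ Set.range (ι k)) : IsAffine X := by
  classical
  haveI := Fintype.ofFinite κ
  have hmul_le_left : ∀ I J : X.IdealSheafData, I * J ≤ I := fun I J => by
    have : I * J ≤ I * 1 := mul_le_mul_right (show J ≤ 1 from le_top) I
    simpa using this
  have hmul_le_right : ∀ I J : X.IdealSheafData, I * J ≤ J := fun I J => by
    rw [mul_comm]; exact hmul_le_left J I
  have hrange : ∀ k, ((ι k).ker.support : Set X) = Set.range (ι k) := fun k => by
    rw [Scheme.Hom.support_ker]
    exact (ι k).isClosedEmbedding.isClosed_range.closure_eq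
  have key : ∀ s : Finset κ, IsAffine (∏ k ∈ s, (ι k).ker).subscheme ∧
      ∀ x : X, (∃ k ∈ s, x ∈ Set.range (ι k)) → x ∈ (∏ k ∈ s, (ι k).ker).support := by
    intro s
    induction s using Finset.induction_on with
    | empty =>
      constructor
      · rw [Finset.prod_empty]
        haveI : IsEmpty ((1 : X.IdealSheafData).subscheme) :=
          inferInstanceAs (IsEmpty (⊤ : X.IdealSheafData).subscheme)
        exact isAffine_of_isEmpty
      · rintro x ⟨k, hk, -⟩
        exact absurd hk (Finset.notMem_empty k)
    | insert k s hk ih =>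
      obtain ⟨ih1, ih2⟩ := ih
      rw [Finset.prod_insert hk]
      generalize (∏ k ∈ s, (ι k).ker) = J at ih1 ih2 ⊢
      have hsupp : ∀ x : X, x ∈ ((ι k).ker * J).support ↔
          x ∈ Set.range (ι k) ∨ x ∈ J.support := by
        intro x
        rw [support_mul, ← hrange k]
        rfl
      constructor
      · let g' : J.subscheme ⟶ ((ι k).ker * J).subscheme := inclusion (hmul_le_right _ _)
        let gZ : Z k ⟶ ((ι k).ker * J).subscheme :=
          IsClosedImmersion.lift ((ι k).ker * J).subschemeι (ι k) (by
            rw [ker_subschemeι]; exact hmul_le_left _ _)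
        have hg' : g' ≫ ((ι k).ker * J).subschemeι = J.subschemeι := inclusion_subschemeι _
        have hgZ : gZ ≫ ((ι k).ker * J).subschemeι = ι k := IsClosedImmersion.lift_fac _ _ _
        haveI : IsClosedImmersion gZ := by
          haveI : IsClosedImmersion (gZ ≫ ((ι k).ker * J).subschemeι) := by
            rw [hgZ]; infer_instance
          exact IsClosedImmersion.of_comp gZ ((ι k).ker * J).subschemeι
        have hinjY : Function.Injective ((ι k).ker * J).subschemeι :=
          ((ι k).ker * J).subschemeι.isClosedEmbedding.injective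
        refine isAffine_of_two_closed_cover g' gZ ?_
        intro y
        have hy : ((ι k).ker * J).subschemeι y ∈ ((ι k).ker * J).support := by
          rw [← SetLike.mem_coe, ← range_subschemeι]; exact ⟨y, rfl⟩
        rcases (hsupp _).mp hy with ⟨z, hz⟩ | hy
        · right
          refine ⟨z, hinjY ?_⟩
          rw [← hz]
          exact (Scheme.Hom.comp_apply gZ _ z).symm.trans (congrArg (fun φ => φ z) hgZ)
        · left
          rw [← SetLike.mem_coe, ← range_subschemeι] at hy
          obtain ⟨z, hz⟩ := hy
          refine ⟨z, hinjY ?_⟩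
          rw [← hz, ← hg', Scheme.Hom.comp_apply]
      · rintro x ⟨k', hk', hx⟩
        rw [hsupp]
        rcases Finset.mem_insert.mp hk' with rfl | hk''
        · exact Or.inl hx
        · exact Or.inr (ih2 x ⟨k', hk'', hx⟩)
  obtain ⟨h1, h2⟩ := key Finset.univ
  have hsurj : Function.Surjective (∏ k, (ι k).ker).subschemeι := by
    intro x
    obtain ⟨k, hk⟩ := hcov x
    have := h2 x ⟨k, Finset.mem_univ k, hk⟩
    rw [← SetLike.mem_coe, ← range_subschemeι] at this
    exact this
  exact Groth.Agent.Lib.Helper1.AffThick.isAffine_of_thickening _ hsurj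

end Groth.Agent.Lib.Helper20.HJ
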