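import Mathlib
import Groth.Agent.Lib.Helper20.HH7

/-!
# HK1: local rings of dimension one in an integral separated scheme, helper20
-/

set_option autoImplicit false
set_option linter.style.haveILetI false
set_option linter.unusedSectionVars false
universe u
open AlgebraicGeometry CategoryTheory TopologicalSpace

namespace Groth.Agent.Lib.Helper20.HK

theorem isDominant_SpecMap_of_injective {R S : CommRingCat.{u}} (φ : R ⟶ S)
    (h : Function.Injective φ) : IsDominant (Spec.map φ) := by
  constructor
  change DenseRange (PrimeSpectrum.comap φ.hom)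
  rw [PrimeSpectrum.denseRange_comap_iff_ker_le_nilRadical, (RingHom.injective_iff_ker_eq_bot _).mp h]
  exact bot_le

variable {X : Scheme.{u}} [IsIntegral X]

/-- the generic point of `Spec 𝒪_{X,x}` maps to the generic point of `X` -/
theorem fromSpecStalk_bot (x : X) :
    X.fromSpecStalk x (⟨⊥, Ideal.isPrime_bot⟩ : PrimeSpectrum (X.presheaf.stalk x)) =
      genericPoint X := by
  have h1 : genericPoint X ∈ Set.range (X.fromSpecStalk x) := by
    rw [Scheme.range_fromSpecStalk]
    exact (genericPoint_spec X).specializes trivial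
  obtain ⟨q, hq⟩ := h1
  have h2 : (⟨⊥, Ideal.isPrime_bot⟩ : PrimeSpectrum (X.presheaf.stalk x)) ⤳ q :=
    (PrimeSpectrum.le_iff_specializes _ _).mp bot_le
  have h3 := h2.map (X.fromSpecStalk x).continuous
  rw [hq] at h3
  exact (h3.antisymm ((genericPoint_spec X).specializes trivial)).eq

/-- generizations of a point with local ring of dimension at most one -/
theorem eq_or_eq_of_specializes (x y : X) (hdim : ringKrullDim (X.presheaf.stalk x) ≤ 1)
    (h : y ⤳ x) : y = genericPoint X ∨ y = x := by
  have h1 : y ∈ Set.range (X.fromSpecStalk x) := by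
    rw [Scheme.range_fromSpecStalk]; exact h
  obtain ⟨q, rfl⟩ := h1
  haveI : Ring.KrullDimLE 1 (X.presheaf.stalk x) := Ring.krullDimLE_iff.mpr hdim
  by_cases hq : q.asIdeal = ⊥
  · left
    have : q = ⟨⊥, Ideal.isPrime_bot⟩ := PrimeSpectrum.ext hq
    rw [this, fromSpecStalk_bot]
  · right
    have hmax := Ring.krullDimLE_one_iff_of_noZeroDivisors.mp ‹_› q.asIdeal hq q.isPrime
    have : q = IsLocalRing.closedPoint (X.presheaf.stalk x) :=
      PrimeSpectrum.ext (IsLocalRing.eq_maximalIdeal hmax)
    rw [this, Scheme.fromSpecStalk_closedPoint]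

/-- the local ring at `x` as a subring of the function field -/
noncomputable def stalkSubring (x : X) : Subring X.functionField :=
  (algebraMap (X.presheaf.stalk x) X.functionField).range

theorem sup_stalkSubring_eq_top [X.IsSeparated] (x y : X) (hxy : x ≠ y)
    (hdx : ringKrullDim (X.presheaf.stalk x) ≤ 1) (hdy : ringKrullDim (X.presheaf.stalk y) ≤ 1) :
    stalkSubring x ⊔ stalkSubring y = ⊤ := by
  set C : Subring X.functionField := stalkSubring x ⊔ stalkSubring y with hC
  let ax : X.presheaf.stalk x →+* C :=
    (algebraMap (X.presheaf.stalk x) X.functionField).codRestrict C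
      (fun r => (le_sup_left : stalkSubring x ≤ C) ⟨r, rfl⟩)
  let ay : X.presheaf.stalk y →+* C :=
    (algebraMap (X.presheaf.stalk y) X.functionField).codRestrict C
      (fun r => (le_sup_right : stalkSubring y ≤ C) ⟨r, rfl⟩)
  let gx : Spec (CommRingCat.of C) ⟶ X := Spec.map (CommRingCat.ofHom ax) ≫ X.fromSpecStalk x
  let gy : Spec (CommRingCat.of C) ⟶ X := Spec.map (CommRingCat.ofHom ay) ≫ X.fromSpecStalk y
  let ι : Spec X.functionField ⟶ Spec (CommRingCat.of C) := Spec.map (CommRingCat.ofHom C.subtype)
  haveI : IsDominant ι := isDominant_SpecMap_of_injective _ Subtype.val_injective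
  have hιx : ι ≫ gx = X.fromSpecStalk (genericPoint X) := by
    have hcomp : CommRingCat.ofHom ax ≫ CommRingCat.ofHom C.subtype =
        X.presheaf.stalkSpecializes ((genericPoint_spec X).specializes trivial) := by
      ext r; rfl
    change Spec.map (CommRingCat.ofHom C.subtype) ≫ Spec.map (CommRingCat.ofHom ax) ≫
      X.fromSpecStalk x = _
    rw [← Category.assoc, ← Spec.map_comp, hcomp]
    exact Scheme.SpecMap_stalkSpecializes_fromSpecStalk _
  have hιy : ι ≫ gy = X.fromSpecStalk (genericPoint X) := by
    have hcomp : CommRingCat.ofHom ay ≫ CommRingCat.ofHom C.subtype =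
        X.presheaf.stalkSpecializes ((genericPoint_spec X).specializes trivial) := by
      ext r; rfl
    change Spec.map (CommRingCat.ofHom C.subtype) ≫ Spec.map (CommRingCat.ofHom ay) ≫
      X.fromSpecStalk y = _
    rw [← Category.assoc, ← Spec.map_comp, hcomp]
    exact Scheme.SpecMap_stalkSpecializes_fromSpecStalk _
  have hgg : gx = gy := ext_of_isDominant_of_isSeparated (Limits.terminal.from X)
    (Limits.terminal.hom_ext _ _) ι (hιx.trans hιy.symm)
  have hcomap : ∀ q : PrimeSpectrum C, Ideal.comap ax q.asIdeal = ⊥ := by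
    intro q
    have h1 : gx q ⤳ x := by
      have : gx q ∈ Set.range (X.fromSpecStalk x) := ⟨Spec.map (CommRingCat.ofHom ax) q, rfl⟩
      rwa [Scheme.range_fromSpecStalk] at this
    have h2 : gx q ⤳ y := by
      have : gy q ∈ Set.range (X.fromSpecStalk y) := ⟨Spec.map (CommRingCat.ofHom ay) q, rfl⟩
      rw [Scheme.range_fromSpecStalk] at this
      rw [hgg]; exact this
    have h3 : gx q = genericPoint X := by
      rcases eq_or_eq_of_specializes x _ hdx h1 with h | h
      · exact h
      · rcases eq_or_eq_of_specializes y _ hdy h2 with h' | h'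
        · exact h'
        · exact absurd (h.symm.trans h') hxy
    have h4 : Spec.map (CommRingCat.ofHom ax) q = ⟨⊥, Ideal.isPrime_bot⟩ := by
      apply (X.fromSpecStalk x).isEmbedding.injective
      rw [fromSpecStalk_bot]
      exact h3
    exact congrArg PrimeSpectrum.asIdeal h4
  have hunit : ∀ r : X.presheaf.stalk x, r ≠ 0 → IsUnit (ax r) := by
    intro r hr
    by_contra hnu
    obtain ⟨M, hM, hrM⟩ := exists_max_ideal_of_mem_nonunits hnu
    have h1 : r ∈ Ideal.comap ax M := hrM
    have h2 := hcomap ⟨M, hM.isPrime⟩
    rw [show (⟨M, hM.isPrime⟩ : PrimeSpectrum C).asIdeal = M from rfl] at h2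
    rw [h2] at h1
    exact hr h1
  rw [eq_top_iff]
  intro k _
  obtain ⟨a, b, hb, rfl⟩ := IsFractionRing.div_surjective (A := X.presheaf.stalk x) k
  have hb0 : b ≠ 0 := nonZeroDivisors.ne_zero hb
  obtain ⟨c, hc⟩ := (hunit b hb0).exists_right_inv
  have hc' : algebraMap (X.presheaf.stalk x) X.functionField b * (c : X.functionField) = 1 := by
    have := congrArg (Subtype.val : C → X.functionField) hc
    rw [Subring.coe_mul, Subring.coe_one] at this
    exact this
  have hbne : algebraMap (X.presheaf.stalk x) X.functionField b ≠ 0 := by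
    intro h0; rw [h0, zero_mul] at hc'; exact zero_ne_one hc'
  have : algebraMap (X.presheaf.stalk x) X.functionField a /
      algebraMap (X.presheaf.stalk x) X.functionField b = ((ax a * c : C) : X.functionField) := by
    rw [div_eq_iff hbne]
    change _ = (algebraMap (X.presheaf.stalk x) X.functionField a * (c : X.functionField)) * _
    rw [mul_assoc, mul_comm (c : X.functionField), hc', mul_one]
  rw [this]
  exact (ax a * c).2

end Groth.Agent.Lib.Helper20.HK
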