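import Mathlib
import Groth.Agent.Lib.Helper20.HK1
import Groth.Agent.Lib.Helper21.Glue5

/-!
# HK2: affine opens containing finitely many points with one-dimensional local rings
(integral separated case), helper20
-/

set_option autoImplicit false
set_option linter.style.haveILetI false
set_option linter.unusedSectionVars false
universe u
open AlgebraicGeometry CategoryTheory TopologicalSpace

namespace Groth.Agent.Lib.Helper20.HK

open Groth.Agent.Lib.Helper20.HH

/-- glueing morphisms along a jointly surjective family of open immersions from reduced schemes,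
agreement on overlaps being checked on a common dominant test scheme -/
theorem exists_glue_of_dominant {T X W : Scheme.{u}} [X.IsSeparated] {J : Type*}
    (U : J → Scheme.{u}) (j : ∀ i, U i ⟶ T) [∀ i, IsOpenImmersion (j i)] [∀ i, IsReduced (U i)]
    (hcov : ∀ t : T, ∃ i, t ∈ Set.range (j i))
    (φ : ∀ i, U i ⟶ X) (w : ∀ i, W ⟶ U i) [∀ i, IsDominant (w i)]
    (hwj : ∀ i i', w i ≫ j i = w i' ≫ j i')
    (hwφ : ∀ i i', w i ≫ φ i = w i' ≫ φ i') :
    ∃ f : T ⟶ X, ∀ i, j i ≫ f = φ i := by
  let 𝒰 : T.OpenCover := Scheme.Cover.mkOfCovers J U j (fun t => by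
    obtain ⟨i, y, hy⟩ := hcov t
    exact ⟨i, y, hy⟩)
  have hcompat : ∀ i i' : J, Limits.pullback.fst (𝒰.f i) (𝒰.f i') ≫ φ i =
      Limits.pullback.snd (𝒰.f i) (𝒰.f i') ≫ φ i' := by
    intro i i'
    change Limits.pullback.fst (j i) (j i') ≫ φ i = Limits.pullback.snd (j i) (j i') ≫ φ i'
    let ι : W ⟶ Limits.pullback (j i) (j i') := Limits.pullback.lift (w i) (w i') (hwj i i')
    haveI : IsDominant (ι ≫ Limits.pullback.fst (j i) (j i')) := by
      rw [Limits.pullback.lift_fst]; infer_instance
    haveI : IsDominant ι := IsDominant.of_comp_of_isOpenImmersion ι (Limits.pullback.fst (j i) (j i'))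
    haveI : IsReduced (Limits.pullback (j i) (j i')) :=
      isReduced_of_isOpenImmersion (Limits.pullback.fst (j i) (j i'))
    refine ext_of_isDominant_of_isSeparated (Limits.terminal.from X)
      (Limits.terminal.hom_ext _ _) ι ?_
    rw [← Category.assoc, Limits.pullback.lift_fst, ← Category.assoc, Limits.pullback.lift_snd]
    exact hwφ i i'
  exact ⟨𝒰.glueMorphisms φ hcompat, fun i => 𝒰.ι_glueMorphisms φ hcompat i⟩

/-- the stalk map at the closed point of `Spec R ⟶ X` coming from an isomorphism
`𝒪_{X,x} ≅ R` is an isomorphism -/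
theorem isIso_stalkMap_closedPoint {X : Scheme.{u}} {R : CommRingCat.{u}} [IsLocalRing R] (x : X)
    (ψ : X.presheaf.stalk x ⟶ R) [IsIso ψ] :
    IsIso ((Spec.map ψ ≫ X.fromSpecStalk x).stalkMap (IsLocalRing.closedPoint R)) := by
  haveI : IsLocalHom ψ.hom := isLocalHom_of_isIso ψ
  have h := (SpecToEquivOfLocalRing X R).right_inv ⟨x, ⟨ψ, inferInstance⟩⟩
  obtain ⟨h₁, h₂⟩ := SpecToEquivOfLocalRing_eq_iff.mp h
  have h₁' : (Spec.map ψ ≫ X.fromSpecStalk x) (IsLocalRing.closedPoint R) = x := h₁
  have h3 : Scheme.stalkClosedPointTo (Spec.map ψ ≫ X.fromSpecStalk x) =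
      (X.presheaf.stalkCongr (by rw [h₁']; rfl)).hom ≫ ψ := h₂
  have h4 : (Spec.map ψ ≫ X.fromSpecStalk x).stalkMap (IsLocalRing.closedPoint R) =
      Scheme.stalkClosedPointTo (Spec.map ψ ≫ X.fromSpecStalk x) ≫ (stalkClosedPointIso R).inv := by
    rw [Scheme.stalkClosedPointTo, Category.assoc, Iso.hom_inv_id, Category.comp_id]
  rw [h4, h3]
  infer_instance

theorem stalkMap_injective_of_isOpenImmersion {X Y : Scheme.{u}} (f : X ⟶ Y) [IsOpenImmersion f]
    (x : X) : Function.Injective (f.stalkMap x) :=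
  ((ConcreteCategory.isIso_iff_bijective _).mp inferInstance).1

section Stalk

variable {X : Scheme.{u}} [IsIntegral X]

theorem algebraMap_stalk_injective (x : X) :
    Function.Injective (algebraMap (X.presheaf.stalk x) X.functionField) :=
  IsFractionRing.injective _ _

/-- the local ring at `x` is isomorphic to its image in the function field -/
noncomputable def stalkEquiv (x : X) : X.presheaf.stalk x ≃+* stalkSubring x :=
  RingEquiv.ofBijective (algebraMap (X.presheaf.stalk x) X.functionField).rangeRestrict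
    ⟨fun _ _ h => algebraMap_stalk_injective x (congrArg Subtype.val h),
      RingHom.rangeRestrict_surjective _⟩

theorem coe_stalkEquiv (x : X) (a : X.presheaf.stalk x) :
    ((stalkEquiv x a : stalkSubring x) : X.functionField) =
      algebraMap (X.presheaf.stalk x) X.functionField a := rfl

instance (x : X) : IsLocalRing (stalkSubring x) := (stalkEquiv x).isLocalRing

theorem isNoetherianRing_stalkSubring (x : X) (h : IsNoetherianRing (X.presheaf.stalk x)) :
    IsNoetherianRing (stalkSubring x) :=
  isNoetherianRing_of_ringEquiv _ (stalkEquiv x)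

instance (x : X) : IsFractionRing (stalkSubring x) X.functionField := by
  apply IsFractionRing.of_field
  intro z
  obtain ⟨a, b, _, rfl⟩ := IsFractionRing.div_surjective (A := X.presheaf.stalk x) z
  exact ⟨stalkEquiv x a, stalkEquiv x b, rfl⟩

theorem finite_maximalSpectrum_of_isLocalRing (R : Type*) [CommRing R] [IsLocalRing R] :
    Finite (MaximalSpectrum R) := by
  haveI : Subsingleton (MaximalSpectrum R) := ⟨fun a b => MaximalSpectrum.ext (by
    rw [IsLocalRing.eq_maximalIdeal a.isMaximal, IsLocalRing.eq_maximalIdeal b.isMaximal])⟩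
  exact Finite.of_subsingleton

/-- if the local ring at `x` is a field then `x` is the generic point -/
theorem eq_genericPoint_of_isField (x : X) (h : IsField (X.presheaf.stalk x)) :
    x = genericPoint X := by
  have h1 : IsLocalRing.maximalIdeal (X.presheaf.stalk x) = ⊥ :=
    IsLocalRing.isField_iff_maximalIdeal_eq.mp h
  have h2 : IsLocalRing.closedPoint (X.presheaf.stalk x) = ⟨⊥, Ideal.isPrime_bot⟩ :=
    PrimeSpectrum.ext h1
  rw [← Scheme.fromSpecStalk_closedPoint (x := x), h2, fromSpecStalk_bot]

theorem ringKrullDim_stalkSubring (x : X) (hx : x ≠ genericPoint X)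
    (hd : ringKrullDim (X.presheaf.stalk x) ≤ 1) : ringKrullDim (stalkSubring x) = 1 := by
  rw [← ringKrullDim_eq_of_ringEquiv (stalkEquiv x)]
  haveI : Ring.KrullDimLE 1 (X.presheaf.stalk x) := Ring.krullDimLE_iff.mpr hd
  exact Groth.Agent.Lib.Helper21.Glue.ringKrullDim_eq_one_of_not_isField _
    (fun h => hx (eq_genericPoint_of_isField x h))

theorem isMaxGen_iff_eq_genericPoint {T : Type*} [TopologicalSpace T] [IrreducibleSpace T]
    [QuasiSober T] [T0Space T] (η : T) : IsMaxGen η ↔ η = genericPoint T := by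
  constructor
  · intro h
    exact (h _ ((genericPoint_spec T).specializes trivial)).symm
  · rintro rfl z hz
    exact (hz.antisymm ((genericPoint_spec T).specializes trivial)).eq

theorem comp_fromSpecStalk_closedPoint {X : Scheme.{u}} {R : CommRingCat.{u}} [IsLocalRing R]
    (x : X) (ψ : X.presheaf.stalk x ⟶ R) [IsLocalHom ψ.hom] :
    (Spec.map ψ ≫ X.fromSpecStalk x) (IsLocalRing.closedPoint R) = x := by
  have h := (SpecToEquivOfLocalRing X R).right_inv ⟨x, ⟨ψ, inferInstance⟩⟩
  obtain ⟨h₁, -⟩ := SpecToEquivOfLocalRing_eq_iff.mp h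
  exact h₁

theorem exists_affine_of_fin [X.IsSeparated] (r : ℕ) (x : Fin (r + 1) → X)
    (hinj : Function.Injective x) (hne : ∀ i, x i ≠ genericPoint X)
    (hN : ∀ i, IsNoetherianRing (X.presheaf.stalk (x i)))
    (hd : ∀ i, ringKrullDim (X.presheaf.stalk (x i)) ≤ 1) :
    ∃ V : X.Opens, IsAffineOpen V ∧ ∀ i, x i ∈ V := by
  let A : Fin (r + 1) → Subring X.functionField := fun i => stalkSubring (x i)
  haveI : ∀ i, IsNoetherianRing (A i) := fun i => isNoetherianRing_stalkSubring (x i) (hN i)
  haveI : ∀ i, IsFractionRing (A i) X.functionField := fun i => inferInstance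
  haveI : ∀ i, IsLocalRing (A i) := fun i => inferInstance
  have hdim : ∀ i, ringKrullDim (A i) = 1 := fun i =>
    ringKrullDim_stalkSubring (x i) (hne i) (hd i)
  have hsl : ∀ i, Finite (MaximalSpectrum (A i)) := fun i =>
    finite_maximalSpectrum_of_isLocalRing _
  have hgen : ∀ i j, i ≠ j → A i ⊔ A j = ⊤ := fun i j hij =>
    sup_stalkSubring_eq_top (x i) (x j) (fun h => hij (hinj h)) (hd i) (hd j)
  obtain ⟨-, -, -, -, hoi, hcov, -⟩ :=
    Groth.Agent.Lib.Helper21.Glue.glue_family r A hdim hsl hgen
  -- the schemes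
  let U : Fin (r + 1) → Scheme.{u} := fun i => Spec (CommRingCat.of (A i))
  let T : Scheme.{u} := Spec (CommRingCat.of ↥(⨅ i, A i))
  let j : ∀ i, U i ⟶ T := fun i =>
    Spec.map (CommRingCat.ofHom (Subring.inclusion (iInf_le A i)))
  let ψ : ∀ i, X.presheaf.stalk (x i) ⟶ CommRingCat.of (A i) := fun i =>
    (stalkEquiv (x i)).toCommRingCatIso.hom
  let φ : ∀ i, U i ⟶ X := fun i => Spec.map (ψ i) ≫ X.fromSpecStalk (x i)
  let w : ∀ i, Spec X.functionField ⟶ U i := fun i =>
    Spec.map (CommRingCat.ofHom (A i).subtype)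
  haveI : ∀ i, IsOpenImmersion (j i) := hoi
  haveI : ∀ i, IsReduced (U i) := fun i => by dsimp only [U]; infer_instance
  haveI : ∀ i, IsDominant (w i) := fun i =>
    isDominant_SpecMap_of_injective _ Subtype.val_injective
  have hcov' : ∀ t : T, ∃ i, t ∈ Set.range (j i) := by
    intro t
    have : t ∈ ⋃ i, Set.range (j i).base := by rw [hcov]; trivial
    obtain ⟨i, hi⟩ := Set.mem_iUnion.mp this
    exact ⟨i, hi⟩
  have hwj : ∀ i i', w i ≫ j i = w i' ≫ j i' := by
    have key : ∀ i, w i ≫ j i = Spec.map (CommRingCat.ofHom (⨅ i, A i).subtype) := fun i =>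
      (Spec.map_comp (CommRingCat.ofHom (Subring.inclusion (iInf_le A i)))
        (CommRingCat.ofHom (A i).subtype)).symm
    intro i i'
    exact (key i).trans (key i').symm
  have hwφ0 : ∀ i, w i ≫ φ i = X.fromSpecStalk (genericPoint X) := by
    intro i
    have hcomp : ψ i ≫ CommRingCat.ofHom (A i).subtype =
        X.presheaf.stalkSpecializes ((genericPoint_spec X).specializes trivial) := by
      ext r; rfl
    change Spec.map (CommRingCat.ofHom (A i).subtype) ≫ Spec.map (ψ i) ≫
      X.fromSpecStalk (x i) = _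
    rw [← Category.assoc, ← Spec.map_comp, hcomp]
    exact Scheme.SpecMap_stalkSpecializes_fromSpecStalk _
  have hwφ : ∀ i i', w i ≫ φ i = w i' ≫ φ i' := fun i i' => (hwφ0 i).trans (hwφ0 i').symm
  obtain ⟨f, hf⟩ := exists_glue_of_dominant U j hcov' φ w hwj hwφ
  -- the generic point
  haveI : IsIntegral T := by dsimp only [T]; infer_instance
  have hXirr : (irreducibleComponents (X : Type u)).Finite := by
    rw [irreducibleComponents_eq_singleton]; exact Set.finite_singleton _
  have hfgen : f (genericPoint T) = genericPoint X := by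
    let p : Spec X.functionField := (⟨⊥, Ideal.isPrime_bot⟩ : PrimeSpectrum X.functionField)
    have h1 : f ((w 0 ≫ j 0) p) = X.fromSpecStalk (genericPoint X) p := by
      rw [← Scheme.Hom.comp_apply, Category.assoc, hf 0, hwφ0 0]
    have h2 : X.fromSpecStalk (genericPoint X) p = genericPoint X := by
      have : X.fromSpecStalk (genericPoint X) p ∈ Set.range (X.fromSpecStalk (genericPoint X)) :=
        ⟨p, rfl⟩
      rw [Scheme.range_fromSpecStalk] at this
      exact ((this : _ ⤳ _).antisymm ((genericPoint_spec X).specializes trivial)).eq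
    have h3' : f (genericPoint T) ⤳ f ((w 0 ≫ j 0) p) :=
      ((genericPoint_spec T).specializes trivial).map f.continuous
    have h3 : f (genericPoint T) ⤳ genericPoint X := by
      rw [h1, h2] at h3'
      exact h3'
    exact (h3.antisymm ((genericPoint_spec X).specializes trivial)).eq
  have hgen' : ∀ η : T, IsMaxGen η → IsMaxGen (f η) := by
    intro η hη
    rw [isMaxGen_iff_eq_genericPoint] at hη ⊢
    rw [hη, hfgen]
  have hinj' : ∀ η η' : T, IsMaxGen η → IsMaxGen η' → f η = f η' → η = η' := by
    intro η η' hη hη' _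
    rw [isMaxGen_iff_eq_genericPoint] at hη hη'
    rw [hη, hη']
  let t : Fin (r + 1) → T := fun i => j i (IsLocalRing.closedPoint (A i))
  have hft : ∀ i, f (t i) = x i := by
    intro i
    haveI : IsLocalHom (ψ i).hom := isLocalHom_of_isIso (ψ i)
    have e1 : f (t i) = (j i ≫ f) (IsLocalRing.closedPoint (A i)) := rfl
    have e2 : (j i ≫ f) (IsLocalRing.closedPoint (A i)) = (φ i) (IsLocalRing.closedPoint (A i)) := by
      rw [hf i]
    exact e1.trans (e2.trans (comp_fromSpecStalk_closedPoint (x i) (ψ i)))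
  have hs : ∀ t' ∈ Set.range t, IsIso (f.stalkMap t') := by
    rintro _ ⟨i, rfl⟩
    refine isIso_stalkMap_of_comp (j i) f (φ i) (hf i) (IsLocalRing.closedPoint (A i)) ?_ ?_
    · exact isIso_stalkMap_closedPoint (x i) (ψ i)
    · exact stalkMap_injective_of_isOpenImmersion (j i) _
  obtain ⟨V, hV, hVs⟩ := exists_affine_general f hXirr hgen' hinj' (Set.range t)
    (Set.finite_range t) hs
  exact ⟨V, hV, fun i => hft i ▸ hVs (t i) ⟨i, rfl⟩⟩

/-- **The integral case**: in an integral separated scheme, finitely many points whose local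
rings are Noetherian of dimension at most one lie in a common affine open. -/
theorem exists_affine_of_integral [X.IsSeparated] (s : Set X) (hs : s.Finite)
    (hN : ∀ x ∈ s, IsNoetherianRing (X.presheaf.stalk x))
    (hd : ∀ x ∈ s, ringKrullDim (X.presheaf.stalk x) ≤ 1) :
    ∃ V : X.Opens, IsAffineOpen V ∧ s ⊆ V := by
  have hη : ∀ V : X.Opens, (V : Set X).Nonempty → genericPoint X ∈ V := by
    intro V hV
    refine ((genericPoint_spec X).mem_open_set_iff V.2).mpr ?_
    rwa [Set.univ_inter]
  let s' : Set X := s \ {genericPoint X}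
  have hs' : s'.Finite := hs.subset Set.sdiff_subset
  haveI : Finite ↥s' := hs'
  obtain ⟨n, ⟨e⟩⟩ := Finite.exists_equiv_fin ↥s'
  rcases n with _ | r
  · -- `s ⊆ {η}`
    obtain ⟨_, ⟨V, hV, rfl⟩, hηV, -⟩ := X.isBasis_affineOpens.exists_subset_of_mem_open
      (Set.mem_univ (genericPoint X)) isOpen_univ
    refine ⟨V, hV, fun y hy => ?_⟩
    by_cases hyη : y = genericPoint X
    · rw [hyη]; exact hηV
    · exact (e ⟨y, hy, hyη⟩).elim0
  · let x : Fin (r + 1) → X := fun i => (e.symm i : X)
    have hxs : ∀ i, x i ∈ s' := fun i => (e.symm i).2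
    have hinj : Function.Injective x := fun a b h => e.symm.injective (Subtype.ext h)
    obtain ⟨V, hV, hVx⟩ := exists_affine_of_fin r x hinj (fun i => (hxs i).2)
      (fun i => hN _ (hxs i).1) (fun i => hd _ (hxs i).1)
    refine ⟨V, hV, fun y hy => ?_⟩
    by_cases hyη : y = genericPoint X
    · rw [hyη]; exact hη V ⟨x 0, hVx 0⟩
    · have : x (e ⟨y, hy, hyη⟩) = y := by
        change ((e.symm (e ⟨y, hy, hyη⟩) : ↥s') : X) = y
        rw [Equiv.symm_apply_apply]
      rw [← this]; exact hVx _

end Stalk

end Groth.Agent.Lib.Helper20.HK
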