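import Mathlib
import Groth.Agent.Lib.Helper20.HK2
import Groth.Agent.Lib.Helper20.HJ6
import Groth.Agent.Lib.Helper21.EquiGU1

/-!
# HK3: Stacks 09NN — finitely many points with Noetherian local rings of dimension at most one
lie in a common affine open, helper20
-/

set_option autoImplicit false
set_option linter.style.haveILetI false
set_option linter.unusedSectionVars false
universe u
open AlgebraicGeometry CategoryTheory TopologicalSpace

namespace Groth.Agent.Lib.Helper20.HK

open Groth.Agent.Lib.Helper20.HH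

theorem isSeparated_of_isSeparated_hom {Y X : Scheme.{u}} (f : Y ⟶ X) [IsSeparated f]
    [X.IsSeparated] : Y.IsSeparated :=
  ⟨by rw [← Limits.terminal.comp_from f]; infer_instance⟩

theorem stalk_props_of_surjectiveOnStalks {Y X : Scheme.{u}} (f : Y ⟶ X) [SurjectiveOnStalks f]
    (y : Y) (hN : IsNoetherianRing (X.presheaf.stalk (f y)))
    (hd : ringKrullDim (X.presheaf.stalk (f y)) ≤ 1) :
    IsNoetherianRing (Y.presheaf.stalk y) ∧ ringKrullDim (Y.presheaf.stalk y) ≤ 1 :=
  ⟨isNoetherianRing_of_surjective _ _ (f.stalkMap y).hom (f.stalkMap_surjective y),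
    (ringKrullDim_le_of_surjective (f.stalkMap y).hom (f.stalkMap_surjective y)).trans hd⟩

open Scheme.IdealSheafData in
/-- the case of finitely many irreducible components -/
theorem exists_affine_of_finite_components {X : Scheme.{u}} [X.IsSeparated]
    (hX : (irreducibleComponents (X : Type u)).Finite) (s : Set X) (hs : s.Finite)
    (hN : ∀ x ∈ s, IsNoetherianRing (X.presheaf.stalk x))
    (hd : ∀ x ∈ s, ringKrullDim (X.presheaf.stalk x) ≤ 1) :
    ∃ U : X.Opens, IsAffineOpen U ∧ s ⊆ U := by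
  refine Groth.Agent.Lib.Helper20.HJ.exists_affine_open_of_components hX s hs ?_
  intro Z hZ
  generalize hC : (⟨Z, isClosed_of_mem_irreducibleComponents Z hZ⟩ : Closeds X) = C
  have hCZ : (C : Set X) = Z := by rw [← hC]; rfl
  haveI : IsIntegral (vanishingIdeal C).subscheme :=
    Groth.Agent.Lib.Helper21.EquiGU.isIntegral_subscheme_vanishingIdeal C (by rw [hCZ]; exact hZ.1)
  haveI : (vanishingIdeal C).subscheme.IsSeparated :=
    isSeparated_of_isSeparated_hom (vanishingIdeal C).subschemeι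
  obtain ⟨V, hV, hsV⟩ := exists_affine_of_integral ((vanishingIdeal C).subschemeι ⁻¹' s)
    (hs.preimage (vanishingIdeal C).subschemeι.isClosedEmbedding.injective.injOn)
    (fun y hy => (stalk_props_of_surjectiveOnStalks (vanishingIdeal C).subschemeι y
      (hN _ hy) (hd _ hy)).1)
    (fun y hy => (stalk_props_of_surjectiveOnStalks (vanishingIdeal C).subschemeι y
      (hN _ hy) (hd _ hy)).2)
  refine ⟨V, hV, fun t ht htZ => ?_⟩
  obtain ⟨y, rfl⟩ := (Groth.Agent.Lib.Helper20.HJ.mem_range_subschemeι_vanishingIdeal C t).mpr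
    (by rw [← SetLike.mem_coe, hCZ]; exact htZ)
  exact ⟨y, hsV ht, rfl⟩

/-- **Stacks 09NN** -/
theorem exists_affine_of_dim_le_one {X : Scheme.{u}} [X.IsSeparated]
    (hirr : ∀ U : X.Opens, IsCompact (U : Set X) → (irreducibleComponents (U : Set X)).Finite)
    (s : Set X) (hs : s.Finite)
    (hN : ∀ x ∈ s, IsNoetherianRing (X.presheaf.stalk x))
    (hd : ∀ x ∈ s, ringKrullDim (X.presheaf.stalk x) ≤ 1) :
    ∃ U : X.Opens, IsAffineOpen U ∧ s ⊆ U := by
  classical
  -- a quasi-compact open containing `s`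
  have hex : ∀ x : X, ∃ U : X.Opens, IsAffineOpen U ∧ x ∈ U := by
    intro x
    obtain ⟨_, ⟨U, hU, rfl⟩, hxU, -⟩ := X.isBasis_affineOpens.exists_subset_of_mem_open
      (Set.mem_univ x) isOpen_univ
    exact ⟨U, hU, hxU⟩
  choose Ux hUx hxUx using hex
  let U₀ : X.Opens := ⨆ x ∈ hs.toFinset, Ux x
  have hU₀c : IsCompact (U₀ : Set X) := by
    have : (U₀ : Set X) = ⋃ x ∈ hs.toFinset, (Ux x : Set X) := by
      simp only [U₀, Opens.coe_iSup]
    rw [this]
    exact hs.toFinset.isCompact_biUnion fun x _ => (hUx x).isCompact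
  have hsU₀ : s ⊆ U₀ := by
    intro x hx
    have : Ux x ≤ U₀ := le_iSup₂_of_le x (hs.mem_toFinset.mpr hx) le_rfl
    exact this (hxUx x)
  haveI : U₀.toScheme.IsSeparated := isSeparated_of_isSeparated_hom U₀.ι
  have hY : (irreducibleComponents (U₀.toScheme : Type u)).Finite := hirr U₀ hU₀c
  obtain ⟨V, hV, hsV⟩ := exists_affine_of_finite_components hY (U₀.ι ⁻¹' s)
    (hs.preimage U₀.ι.isOpenEmbedding.injective.injOn)
    (fun y hy => (stalk_props_of_surjectiveOnStalks U₀.ι y (hN _ hy) (hd _ hy)).1)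
    (fun y hy => (stalk_props_of_surjectiveOnStalks U₀.ι y (hN _ hy) (hd _ hy)).2)
  refine ⟨U₀.ι ''ᵁ V, hV.image_of_isOpenImmersion U₀.ι, fun x hx => ?_⟩
  exact ⟨⟨x, hsU₀ hx⟩, hsV (show U₀.ι ⟨x, hsU₀ hx⟩ ∈ s from hx), rfl⟩

end Groth.Agent.Lib.Helper20.HK
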