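import Mathlib
import Groth.Agent.Lib.Helper20.HH7

/-!
# HL1: topological and dimension lemmas for the codimension one orbit lemma, helper20
-/

set_option autoImplicit false
set_option linter.style.haveILetI false
set_option linter.unusedSectionVars false
universe u
open AlgebraicGeometry CategoryTheory TopologicalSpace

namespace Groth.Agent.Lib.Helper20.HL

open Groth.Agent.Lib.Helper20.HH

/-- in a Noetherian quasi-sober space, a point in the closure of a locally closed set is a
specialisation of a point of that set -/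
theorem exists_specializes_of_mem_closure {T : Type*} [TopologicalSpace T] [NoetherianSpace T]
    [QuasiSober T] (F G : Set T) (hF : IsClosed F) (hG : IsOpen G) (o : T)
    (ho : o ∈ closure (F ∩ G)) : ∃ a ∈ F ∩ G, a ⤳ o := by
  obtain ⟨S, hSf, hSc, hSi, hSU⟩ :=
    NoetherianSpace.exists_finite_set_isClosed_irreducible (isClosed_closure (s := F ∩ G))
  -- `F ∩ G = ⋃ (F ∩ G ∩ t)`
  have hA : F ∩ G = ⋃ t ∈ S, (t ∩ G) := by
    ext x
    simp only [Set.mem_iUnion, Set.mem_inter_iff, exists_prop]
    constructor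
    · rintro ⟨hxF, hxG⟩
      have : x ∈ ⋃₀ S := hSU ▸ subset_closure ⟨hxF, hxG⟩
      obtain ⟨t, ht, hxt⟩ := this
      exact ⟨t, ht, hxt, hxG⟩
    · rintro ⟨t, ht, hxt, hxG⟩
      have hx : x ∈ closure (F ∩ G) := hSU ▸ ⟨t, ht, hxt⟩
      exact ⟨(closure_minimal Set.inter_subset_left hF) hx, hxG⟩
  rw [hA, hSf.closure_biUnion] at ho
  obtain ⟨t, ht, hot⟩ := Set.mem_iUnion₂.mp ho
  have htne : (t ∩ G).Nonempty := by
    by_contra h
    rw [Set.not_nonempty_iff_eq_empty] at h
    rw [h, closure_empty] at hot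
    exact hot
  obtain ⟨ζ, hζ⟩ := QuasiSober.sober (hSi t ht) (hSc t ht)
  have hζG : ζ ∈ G := by
    have := (hζ.mem_open_set_iff hG).mpr htne
    exact this
  have hζt : ζ ∈ t := hζ.mem
  refine ⟨ζ, ⟨?_, hζG⟩, ?_⟩
  · have hx : ζ ∈ closure (F ∩ G) := hSU ▸ ⟨t, ht, hζt⟩
    exact (closure_minimal Set.inter_subset_left hF) hx
  · have : o ∈ t := (closure_minimal Set.inter_subset_left (hSc t ht)) hot
    rw [specializes_iff_mem_closure, hζ.def]
    exact this

/-- the same in a space with a Noetherian open neighbourhood -/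
theorem exists_specializes_of_mem_closure' {X : Type*} [TopologicalSpace X] [QuasiSober X]
    (N : Opens X) [NoetherianSpace N] (F G : Set X) (hF : IsClosed F) (hG : IsOpen G) (o : X)
    (hoN : o ∈ N) (ho : o ∈ closure (F ∩ G)) : ∃ a ∈ F ∩ G, a ⤳ o := by
  haveI : QuasiSober N := N.isOpen.isOpenEmbedding_subtypeVal.quasiSober
  have h1 : (⟨o, hoN⟩ : N) ∈ closure ((Subtype.val ⁻¹' F) ∩ (Subtype.val ⁻¹' G) : Set N) := by
    rw [← Set.preimage_inter, Topology.IsEmbedding.subtypeVal.closure_eq_preimage_closure_image,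
      Set.mem_preimage, Set.image_preimage_eq_inter_range]
    have := N.isOpen.inter_closure (t := F ∩ G) ⟨hoN, ho⟩
    have hr : Set.range (Subtype.val : N → X) = (N : Set X) := Subtype.range_coe_subtype
    rw [hr, Set.inter_comm]
    exact this
  obtain ⟨a, ⟨haF, haG⟩, hao⟩ := exists_specializes_of_mem_closure _ _
    (hF.preimage continuous_subtype_val) (hG.preimage continuous_subtype_val) _ h1
  exact ⟨a.1, ⟨haF, haG⟩, hao.map continuous_subtype_val⟩

/-- a proper generisation of a point whose local ring has dimension at most one has no proper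
generisations -/
theorem isMaxGen_of_specializes {X : Scheme.{u}} (x o : X)
    (hdim : ringKrullDim (X.presheaf.stalk o) ≤ 1) (h : x ⤳ o) (hne : x ≠ o) : IsMaxGen x := by
  haveI : Ring.KrullDimLE 1 (X.presheaf.stalk o) := Ring.krullDimLE_iff.mpr hdim
  have h1 : x ∈ Set.range (X.fromSpecStalk o) := by
    rw [Scheme.range_fromSpecStalk]; exact h
  obtain ⟨q, rfl⟩ := h1
  intro y hy
  have h2 : y ∈ Set.range (X.fromSpecStalk o) := by
    rw [Scheme.range_fromSpecStalk]; exact hy.trans h
  obtain ⟨q', rfl⟩ := h2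
  have hqq : q' ⤳ q := (X.fromSpecStalk o).isEmbedding.isInducing.specializes_iff.mp hy
  have hle : q'.asIdeal ≤ q.asIdeal := (PrimeSpectrum.le_iff_specializes q' q).mpr hqq
  have hq : q.asIdeal ∈ minimalPrimes (X.presheaf.stalk o) := by
    rcases Ring.krullDimLE_one_iff.mp ‹_› q.asIdeal q.isPrime with hmin | hmax
    · exact hmin
    · exfalso
      apply hne
      have : q = IsLocalRing.closedPoint (X.presheaf.stalk o) :=
        PrimeSpectrum.ext (IsLocalRing.eq_maximalIdeal hmax)
      rw [this, Scheme.fromSpecStalk_closedPoint]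
  have : q'.asIdeal = q.asIdeal := le_antisymm hle (hq.2 ⟨q'.isPrime, bot_le⟩ hle)
  rw [PrimeSpectrum.ext this]

end Groth.Agent.Lib.Helper20.HL
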