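import Mathlib
import Groth.Agent.Lib.Helper20.HG16

/-!
# HL2: principal invariant opens for point-level equivalence relations with finite locally free
source map, helper20
-/

set_option autoImplicit false
set_option linter.style.haveILetI false
set_option linter.unusedSectionVars false
universe u
open AlgebraicGeometry CategoryTheory CategoryTheory.Limits TopologicalSpace

namespace Groth.Agent.Lib.Helper20.HL

open Groth.Agent.Lib.Helper20.HA Groth.Agent.Lib.Helper20.HG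

/-- norm locus over an affine open `D` of the target of a finite locally free morphism `π`, as a
principal open of `D` -/
theorem exists_basicOpen_norm_locus {X Y Z : Scheme.{u}} (π : X ⟶ Y) [IsFinite π] [Flat π]
    [LocallyOfFinitePresentation π] (D : Y.Opens) (hD : IsAffineOpen D) (τ : X ⟶ Z) (V : Z.Opens)
    (f : Γ(Z, V)) (hle : π ⁻¹ᵁ D ≤ τ ⁻¹ᵁ V) :
    ∃ g : Γ(Y, D),
      ∀ y : Y, y ∈ Y.basicOpen g ↔ y ∈ D ∧ ∀ x : X, π x = y → τ x ∈ Z.basicOpen f := by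
  haveI hY' : IsAffine D.toScheme := hD
  haveI hX' : IsAffine (π ⁻¹ᵁ D).toScheme := hD.preimage π
  haveI : Flat (π ∣_ D) := inferInstance
  haveI : LocallyOfFinitePresentation (π ∣_ D) :=
    MorphismProperty.of_isPullback (P := @LocallyOfFinitePresentation)
      (isPullback_morphismRestrict π D).flip inferInstance
  let τ' : (π ⁻¹ᵁ D).toScheme ⟶ Z := (π ⁻¹ᵁ D).ι ≫ τ
  have htop : τ' ⁻¹ᵁ V = ⊤ := by
    rw [eq_top_iff]
    intro x _
    exact hle x.2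
  let h : Γ((π ⁻¹ᵁ D).toScheme, ⊤) :=
    (π ⁻¹ᵁ D).toScheme.presheaf.map (eqToHom htop.symm).op (τ'.app V f)
  have hbo : (π ⁻¹ᵁ D).toScheme.basicOpen h = τ' ⁻¹ᵁ Z.basicOpen f := by
    rw [Scheme.preimage_basicOpen]
    exact Scheme.basicOpen_res_eq _ _ _
  obtain ⟨g, hg⟩ := exists_norm_locus (π ∣_ D) h
  have hgW : D.ι ''ᵁ (D.toScheme.basicOpen g) = Y.basicOpen (D.topIso.hom g) := by
    have := Scheme.Opens.ι_image_basicOpen_topIso_inv (U := D) (D.topIso.hom g)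
    rw [← this]
    congr 2
    exact (congrArg (fun φ => φ.hom g) D.topIso.hom_inv_id).symm
  refine ⟨D.topIso.hom g, ?_⟩
  rw [← hgW]
  have hπι : ∀ x' : (π ⁻¹ᵁ D).toScheme, D.ι ((π ∣_ D) x') = π ((π ⁻¹ᵁ D).ι x') := by
    intro x'
    have h1 : ((π ∣_ D) ≫ D.ι) x' = ((π ⁻¹ᵁ D).ι ≫ π) x' := by rw [morphismRestrict_ι]
    exact h1
  have hιinj : Function.Injective D.ι := D.ι.isOpenEmbedding.injective
  intro y
  constructor
  · rintro ⟨y', hy', rfl⟩
    refine ⟨y'.2, ?_⟩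
    intro x hx
    have hxD : x ∈ π ⁻¹ᵁ D := by
      show π x ∈ D
      rw [hx]; exact y'.2
    let x' : (π ⁻¹ᵁ D).toScheme := ⟨x, hxD⟩
    have hx' : (π ∣_ D) x' = y' := by
      apply hιinj
      rw [hπι]
      exact hx
    have h2 := (hg y').mp hy' x' hx'
    rw [hbo] at h2
    exact h2
  · rintro ⟨hyD, hy⟩
    refine ⟨⟨y, hyD⟩, ?_, rfl⟩
    refine (hg ⟨y, hyD⟩).mpr ?_
    intro x' hx'
    rw [hbo]
    show τ ((π ⁻¹ᵁ D).ι x') ∈ Z.basicOpen f
    apply hy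
    rw [← hπι, hx']
    rfl

/-- invariant principal opens inside an affine open containing the orbit of a finite set -/
theorem exists_invariant_basicOpen_of_affine {U' R' : Scheme.{u}} (σ τ : R' ⟶ U')
    (h : PtRel σ τ) [IsFinite σ] [Flat σ] [LocallyOfFinitePresentation σ]
    (T0 : Set U') (hT0 : T0.Finite) (V : U'.Opens) (hV : IsAffineOpen V)
    (hTV : ∀ r : R', σ r ∈ T0 → τ r ∈ V) :
    ∃ g : Γ(U', V), T0 ⊆ U'.basicOpen g ∧
      σ ⁻¹ᵁ (U'.basicOpen g) = τ ⁻¹ᵁ (U'.basicOpen g) := by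
  -- the orbit of `T0`
  let T : Set U' := τ '' (σ ⁻¹' T0)
  have hT : T.Finite := by
    refine Set.Finite.image _ ?_
    have : σ ⁻¹' T0 = ⋃ x ∈ T0, σ ⁻¹' {x} := by
      ext r
      simp
    rw [this]
    exact hT0.biUnion fun x _ => Scheme.Hom.finite_preimage_singleton σ x
  have hTV' : T ⊆ V := by
    rintro _ ⟨r, hr, rfl⟩
    exact hTV r hr
  -- the open set of points whose orbit lies in `V`
  let O : U'.Opens := ⟨(σ '' ((τ ⁻¹ᵁ V : Set R')ᶜ))ᶜ,
    (σ.isClosedMap _ (τ ⁻¹ᵁ V).isOpen.isClosed_compl).isOpen_compl⟩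
  have hO : ∀ x : U', x ∈ O ↔ ∀ r : R', σ r = x → τ r ∈ V := by
    intro x
    show x ∉ (σ '' ((τ ⁻¹ᵁ V : Set R')ᶜ)) ↔ _
    constructor
    · intro hx r hr
      by_contra hrV
      exact hx ⟨r, hrV, hr⟩
    · rintro hx ⟨r, hrV, hr⟩
      exact hrV (hx r hr)
  have hTO : T ⊆ O := by
    rintro _ ⟨r₀, hr₀, rfl⟩
    rw [SetLike.mem_coe, hO]
    intro r hr
    obtain ⟨r'', h1, h2⟩ := h.trans r r₀ hr
    rw [← h1]
    exact hTV r'' (h2 ▸ hr₀)
  obtain ⟨f, hf1, hf2⟩ := exists_basicOpen_of_finite_affine hV T hT hTV' O hTO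
  have hle : σ ⁻¹ᵁ (U'.basicOpen f) ≤ τ ⁻¹ᵁ V := by
    intro r hr
    exact (hO _).mp (hf2 hr) r rfl
  obtain ⟨g₀, hWiff⟩ := exists_basicOpen_norm_locus σ (U'.basicOpen f) (hV.basicOpen f) τ V f hle
  obtain ⟨g, hg⟩ := hV.basicOpen_basicOpen_is_basicOpen f g₀
  rw [← hg] at hWiff
  -- forward invariance
  have hfw : ∀ r₀ : R', σ r₀ ∈ U'.basicOpen g → τ r₀ ∈ U'.basicOpen g := by
    intro r₀ hr₀
    rw [hWiff] at hr₀ ⊢
    refine ⟨hr₀.2 r₀ rfl, ?_⟩
    intro r hr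
    obtain ⟨r'', h1, h2⟩ := h.trans r r₀ hr
    rw [← h1]
    exact hr₀.2 r'' h2
  refine ⟨g, ?_, ?_⟩
  · intro u hu
    rw [SetLike.mem_coe, hWiff]
    obtain ⟨r, hr1, hr2⟩ := h.refl u
    refine ⟨hf1 ⟨r, by rw [Set.mem_preimage, hr1]; exact hu, hr2⟩, ?_⟩
    intro r' hr'
    exact hf1 ⟨r', by rw [Set.mem_preimage, hr']; exact hu, rfl⟩
  · ext r₀
    show σ r₀ ∈ U'.basicOpen g ↔ τ r₀ ∈ U'.basicOpen g
    constructor
    · exact hfw r₀
    · intro hτ
      obtain ⟨r', h1, h2⟩ := h.symm r₀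
      have := hfw r' (by rw [h1]; exact hτ)
      rwa [h2] at this

end Groth.Agent.Lib.Helper20.HL
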