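import Mathlib
import Groth.Agent.Lib.Helper20.HG16

/-!
# HL3: the locally closed strata of a finite groupoid, with their Fitting structure, helper20
-/

set_option autoImplicit false
set_option linter.style.haveILetI false
set_option linter.unusedSectionVars false
universe u
open AlgebraicGeometry CategoryTheory CategoryTheory.Limits TopologicalSpace

namespace Groth.Agent.Lib.Helper20.HL

open Groth.Agent.Lib.Helper20.HA Groth.Agent.Lib.Helper20.HG

/-- a preimmersion whose range is closed in an open set restricts to a closed immersion over it -/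
lemma isClosedImmersion_restrict_of_isClosed {X Y : Scheme.{u}} (f : X ⟶ Y) [IsPreimmersion f]
    (D : Y.Opens) (C : Set Y) (hC : IsClosed C) (h : ∀ y ∈ D, y ∈ Set.range f ↔ y ∈ C) :
    IsClosedImmersion (f ∣_ D) := by
  haveI : IsPreimmersion (f ∣_ D) := IsZariskiLocalAtTarget.restrict ‹_› _
  apply IsClosedImmersion.of_isPreimmersion
  have : Set.range (f ∣_ D) = (Subtype.val : D → Y) ⁻¹' C := by
    ext p
    constructor
    · rintro ⟨x, hx⟩
      refine (h p.1 p.2).mp ⟨x.1, ?_⟩
      have := morphismRestrict_base_coe f _ x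
      rw [hx] at this
      exact this.symm
    · intro hp
      obtain ⟨y, hy⟩ := (h p.1 p.2).mpr hp
      have hy' : y ∈ f ⁻¹ᵁ D := by
        show f y ∈ D
        rw [hy]
        exact p.2
      refine ⟨⟨y, hy'⟩, Subtype.ext ?_⟩
      exact (morphismRestrict_base_coe f _ ⟨y, hy'⟩).trans hy
  rw [this]
  exact hC.preimage continuous_subtype_val

section grpd

open Grpd

variable {S : Scheme.{u}} (G : GroupoidScheme S) [IsFinite G.s] [IsFinite G.t]

/-- the open complement of `Z_{n+1}` -/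
def Om (n : ℕ) : G.U.Opens := ⟨(Zs G (n + 1))ᶜ, (isClosed_Zs G (n + 1)).isOpen_compl⟩

/-- a single open piece -/
def Wn1 (n : ℕ) : ℕ → G.U.Opens := fun k => if k = n then Om G n else ⊥

lemma Wn1_self (n : ℕ) : Wn1 G n n = Om G n := by simp [Wn1]

lemma Wn1_ne (n k : ℕ) (h : k ≠ n) : Wn1 G n k = ⊥ := by simp [Wn1, h]

lemma Wn1_disjoint (n : ℕ) (m k : ℕ) (h : m ≠ k) : Disjoint (Wn1 G n m) (Wn1 G n k) := by
  by_cases hm : m = n
  · have hk : k ≠ n := fun hk => h (hm.trans hk.symm)
    rw [Wn1_ne G n k hk]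
    exact disjoint_bot_right
  · rw [Wn1_ne G n m hm]
    exact disjoint_bot_left

lemma WW_Wn1 (n : ℕ) : WW (Wn1 G n) = Om G n := by
  unfold WW
  apply le_antisymm
  · refine iSup_le fun k => ?_
    by_cases hk : k = n
    · rw [hk, Wn1_self]
    · rw [Wn1_ne G n k hk]; exact bot_le
  · exact le_iSup_of_le n (by rw [Wn1_self])

/-- **The stratum `Z_n ∖ Z_{n+1}`** with its Fitting structure: a scheme `E` with an immersion
into `U` onto `Z_n ∖ Z_{n+1}`, over which the groupoid restricts to a finite locally free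
point-level equivalence relation. -/
theorem exists_stratum (n : ℕ) : ∃ (E : Scheme.{u}) (ιE : E ⟶ G.U) (τ : pullback G.s ιE ⟶ E),
    IsPreimmersion ιE ∧ Set.range ιE = Zs G n ∩ (Zs G (n + 1))ᶜ ∧
    τ ≫ ιE = pullback.fst G.s ιE ≫ G.t ∧
    Mor2.IsFinLocFree (pullback.snd G.s ιE) ∧
    ∀ D : G.U.Opens, (D : Set G.U) ⊆ (Zs G (n + 1))ᶜ → IsClosedImmersion (ιE ∣_ D) := by
  set F : ℕ → G.U.IdealSheafData := fun k => fit G.s k with hF
  have hdisj := Wn1_disjoint G n
  have hinv : ∀ m, G.s ⁻¹ᵁ Wn1 G n m = G.t ⁻¹ᵁ Wn1 G n m := by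
    intro m
    by_cases hm : m = n
    · rw [hm, Wn1_self]
      ext r
      exact ((inv_Zs G (n + 1)).compl G) r
    · rw [Wn1_ne G n m hm]
      rfl
  have hsupp' : ∀ k, Disjoint ((Wn1 G n k : G.U.Opens) : Set G.U)
      ((F (k + 1)).support : Set G.U) := by
    intro k
    by_cases hk : k = n
    · rw [hk, Wn1_self]
      exact Set.disjoint_left.mpr fun x hx hx' => hx hx'
    · rw [Wn1_ne G n k hk]
      exact Set.disjoint_left.mpr fun x hx _ => hx
  obtain ⟨τ, hτ⟩ := exists_factor (Wn1 G n) F hdisj G.s G.t hinv (fun k => comap_s_eq_comap_t G k)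
  have hflf := isFinLocFree_thick (Wn1 G n) F hdisj G.s (fun _ => rfl) hsupp'
  -- the ideal sheaf
  have hthick : thick (Wn1 G n) F = (F n).comap (WW (Wn1 G n)).ι := by
    have h1 := comap_thick (Wn1 G n) F hdisj (𝟙 (WW (Wn1 G n)).toScheme) n (fun x => by
      rw [Category.id_comp, Wn1_self, ← WW_Wn1 G n]
      exact x.2)
    rw [Scheme.IdealSheafData.comap_id, Category.id_comp] at h1
    exact h1
  have hrange : Set.range (thickι (Wn1 G n) F) = Zs G n ∩ (Zs G (n + 1))ᶜ := by
    have h1 : Set.range (thickι (Wn1 G n) F) =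
        (WW (Wn1 G n)).ι '' Set.range (thick (Wn1 G n) F).subschemeι := by
      rw [← Set.range_comp]
      rfl
    rw [h1, Scheme.IdealSheafData.range_subschemeι, hthick,
      Scheme.IdealSheafData.support_comap]
    ext x
    constructor
    · rintro ⟨y, hy, rfl⟩
      refine ⟨hy, ?_⟩
      have hle : WW (Wn1 G n) ≤ Om G n := (WW_Wn1 G n).le
      exact hle y.2
    · rintro ⟨hx1, hx2⟩
      have hxW : x ∈ WW (Wn1 G n) := by rw [WW_Wn1]; exact hx2
      exact ⟨⟨x, hxW⟩, hx1, rfl⟩
  refine ⟨_, thickι (Wn1 G n) F, τ, inferInstance, hrange, hτ, hflf, ?_⟩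
  intro D hD
  refine isClosedImmersion_restrict_of_isClosed _ D (Zs G n) (isClosed_Zs G n) ?_
  intro y hy
  rw [hrange]
  exact ⟨fun h => h.1, fun h => ⟨h, hD hy⟩⟩

end grpd

end Groth.Agent.Lib.Helper20.HL
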