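import Mathlib

/-!
# HL4: an open subset of an affine open which is locally (on the affine open) affine is affine,
helper20
-/

set_option autoImplicit false
set_option linter.style.haveILetI false
set_option linter.unusedSectionVars false
universe u
open AlgebraicGeometry CategoryTheory CategoryTheory.Limits TopologicalSpace

namespace Groth.Agent.Lib.Helper20.HL

theorem isAffineOpen_of_locally {X : Scheme.{u}} (W D : X.Opens) (hD : IsAffineOpen D)
    (hWD : W ≤ D)
    (h : ∀ x ∈ D, ∃ N : X.Opens, IsAffineOpen N ∧ x ∈ N ∧ N ≤ D ∧ IsAffineOpen (N ⊓ W)) :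
    IsAffineOpen W := by
  haveI : IsAffine D.toScheme := hD
  haveI : IsAffineHom (X.homOfLE hWD) := by
    apply isAffineHom_of_forall_exists_isAffineOpen
    intro y
    obtain ⟨N, hN, hxN, hND, hNW⟩ := h y.1 y.2
    refine ⟨D.ι ⁻¹ᵁ N, hxN, ?_, ?_⟩
    · rw [← Scheme.Hom.isAffineOpen_iff_of_isOpenImmersion D.ι,
        Scheme.Hom.image_preimage_eq_opensRange_inf, Scheme.Opens.opensRange_ι,
        inf_eq_right.mpr hND]
      exact hN
    · rw [← Scheme.Hom.comp_preimage, Scheme.homOfLE_ι,
        ← Scheme.Hom.isAffineOpen_iff_of_isOpenImmersion W.ι,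
        Scheme.Hom.image_preimage_eq_opensRange_inf, Scheme.Opens.opensRange_ι, inf_comm]
      exact hNW
  exact isAffine_of_isAffineHom (X.homOfLE hWD)

end Groth.Agent.Lib.Helper20.HL
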