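import Mathlib
import Groth.Agent.Lib.Helper20.HL1
import Groth.Agent.Lib.Helper20.HL2
import Groth.Agent.Lib.Helper20.HL3
import Groth.Agent.Lib.Helper20.HL4
import Groth.Agent.Lib.Helper20.HK3

/-!
# HL5: invariant affine opens around orbits of points of codimension at most one, helper20
-/

set_option autoImplicit false
set_option linter.style.haveILetI false
set_option linter.unusedSectionVars false
universe u
open AlgebraicGeometry CategoryTheory CategoryTheory.Limits TopologicalSpace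

namespace Groth.Agent.Lib.Helper20.HL

open Groth.Agent.Lib.Helper20.HA Groth.Agent.Lib.Helper20.HG Groth.Agent.Lib.Helper20.HH

open Grpd

variable {S : Scheme.{u}} (G : GroupoidScheme S) [IsFinite G.s] [IsFinite G.t]

/-- the points all of whose orbit lies in `D` -/
def core (D : Set G.U) : Set G.U := (sat G Dᶜ)ᶜ

lemma mem_core_iff (D : Set G.U) (x : G.U) : x ∈ core G D ↔ ∀ r : G.R, G.t r = x → G.s r ∈ D := by
  unfold core sat
  constructor
  · intro hx r hr
    by_contra hD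
    exact hx ⟨r, hD, hr⟩
  · rintro hx ⟨r, hD, hr⟩
    exact hD (hx r hr)

lemma core_subset (D : Set G.U) : core G D ⊆ D := by
  intro x hx
  by_contra hD
  exact hx (subset_sat G _ hD)

lemma inv_core (D : Set G.U) : Inv G (core G D) := (inv_sat G _).compl G

lemma isOpen_core {D : Set G.U} (hD : IsOpen D) : IsOpen (core G D) :=
  (isClosed_sat G hD.isClosed_compl).isOpen_compl

lemma subset_core {A D : Set G.U} (hA : Inv G A) (hAD : A ⊆ D) : A ⊆ core G D := by
  intro x hx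
  rw [mem_core_iff]
  intro r hr
  exact hAD ((hA r).mpr (hr ▸ hx))

lemma mem_core_iff' (D : Set G.U) (x : G.U) :
    x ∈ core G D ↔ ∀ r : G.R, G.s r = x → G.t r ∈ D := by
  rw [mem_core_iff]
  constructor
  · intro h r hr
    have := h (G.i r) (by rw [i_t_pt]; exact hr)
    rwa [i_s_pt] at this
  · intro h r hr
    have := h (G.i r) (by rw [i_s_pt]; exact hr)
    rwa [i_t_pt] at this

lemma inv_inter {A B : Set G.U} (hA : Inv G A) (hB : Inv G B) : Inv G (A ∩ B) :=
  fun r => and_congr (hA r) (hB r)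

lemma inv_compl {A : Set G.U} (hA : Inv G A) : Inv G Aᶜ := fun r => not_congr (hA r)

/-- the rank stratum containing a point -/
lemma exists_rank (u : G.U) : ∃ n, u ∈ Zs G n ∧ u ∉ Zs G (n + 1) := by
  classical
  have hex : ∃ n, u ∉ Zs G n := by
    by_contra hcon
    push Not at hcon
    have : u ∈ ⋂ r, Zs G r := Set.mem_iInter.mpr hcon
    rw [iInter_Zs] at this
    exact this
  have hn := Nat.find_spec hex
  have hn0 : Nat.find hex ≠ 0 := by
    intro h0
    rw [h0, Zs_zero] at hn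
    exact hn trivial
  obtain ⟨m, hm⟩ := Nat.exists_eq_succ_of_ne_zero hn0
  have hmem : u ∈ Zs G m := by
    by_contra hcon
    exact Nat.find_min hex (show m < Nat.find hex by omega) hcon
  rw [hm] at hn
  exact ⟨m, hmem, hn⟩

variable [G.U.IsSeparated] [IsLocallyNoetherian G.U]

/-- quasi-compact opens of a locally Noetherian scheme have finitely many irreducible components -/
lemma finite_irreducibleComponents_of_isCompact {X : Scheme.{u}} [IsLocallyNoetherian X]
    (U' : X.Opens) (hU' : IsCompact (U' : Set X)) :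
    (irreducibleComponents (U' : Set X)).Finite := by
  haveI : CompactSpace U'.toScheme := isCompact_iff_compactSpace.mp hU'
  haveI : IsNoetherian U'.toScheme := {}
  exact finite_irreducibleComponents_of_isNoetherian (X := U'.toScheme)

/-- the set of generisations outside `Z_n` of the points of a finite invariant set -/
def gens (n : ℕ) (Ω O : Set G.U) : Set G.U := {x | x ∈ Ω ∧ x ∉ Zs G n ∧ ∃ o ∈ O, x ⤳ o}

lemma isMaxGen_of_mem_gens (n : ℕ) (Ω O : Set G.U) (hOn : O ⊆ Zs G n)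
    (hOdim : ∀ o ∈ O, ringKrullDim (G.U.presheaf.stalk o) ≤ 1) (x : G.U)
    (hx : x ∈ gens G n Ω O) : IsMaxGen x := by
  obtain ⟨-, hxn, o, ho, hxo⟩ := hx
  exact isMaxGen_of_specializes x o (hOdim o ho) hxo (fun h => hxn (h ▸ hOn ho))

lemma inv_gens (n : ℕ) (Ω O : Set G.U) (hΩ : Inv G Ω) (hO : Inv G O) : Inv G (gens G n Ω O) := by
  have hfw : ∀ r : G.R, G.s r ∈ gens G n Ω O → G.t r ∈ gens G n Ω O := by
    rintro r ⟨h1, h2, o, ho, hxo⟩
    refine ⟨(hΩ r).mp h1, fun h => h2 ((inv_Zs G n r).mpr h), ?_⟩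
    obtain ⟨r₀, hr₀, hsr₀⟩ := G.s.isClosedMap.specializingMap hxo
    exact ⟨G.t r₀, (hO r₀).mp (hsr₀ ▸ ho), hr₀.map G.t.continuous⟩
  intro r
  constructor
  · exact hfw r
  · intro h
    have := hfw (G.i r) (by rw [i_s_pt]; exact h)
    rwa [i_t_pt] at this

lemma finite_gens (n : ℕ) (Ω O : Set G.U) (hOn : O ⊆ Zs G n)
    (hOdim : ∀ o ∈ O, ringKrullDim (G.U.presheaf.stalk o) ≤ 1)
    (D₀ : G.U.Opens) (hD₀ : IsAffineOpen D₀) (hΩD₀ : Ω ⊆ D₀) : (gens G n Ω O).Finite := by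
  haveI : IsNoetherianRing Γ(G.U, D₀) := IsLocallyNoetherian.component_noetherian ⟨D₀, hD₀⟩
  haveI : NoetherianSpace {x // x ∈ D₀} := noetherianSpace_of_isAffineOpen D₀ hD₀
  haveI : QuasiSober {x // x ∈ D₀} := D₀.isOpen.isOpenEmbedding_subtypeVal.quasiSober
  have hfin : {η : {x // x ∈ D₀} | IsMaxGen η}.Finite :=
    finite_isMaxGen NoetherianSpace.finite_irreducibleComponents
  refine (hfin.image Subtype.val).subset ?_
  intro x hx
  have hmax := isMaxGen_of_mem_gens G n Ω O hOn hOdim x hx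
  refine ⟨⟨x, hΩD₀ hx.1⟩, ?_, rfl⟩
  exact (isMaxGen_map_iff D₀.isOpen.isOpenEmbedding_subtypeVal ⟨x, hΩD₀ hx.1⟩).mp hmax

omit [G.U.IsSeparated] [IsLocallyNoetherian G.U] in
/-- inside the flat strata, the core of a principal open is affine on affine opens -/
theorem isAffineOpen_inf_core (N : G.U.Opens) (hN : IsAffineOpen N)
    (hNW : (N : Set G.U) ⊆ ⋃ k, Wset G k)
    (D₀ : G.U.Opens) (d : Γ(G.U, D₀)) (D : G.U.Opens) (hD : G.U.basicOpen d = D)
    (hND : N ≤ D) (hDorb : ∀ r : G.R, G.s r ∈ D → G.t r ∈ D₀) :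
    IsAffineOpen (N ⊓ ⟨core G (D : Set G.U), isOpen_core G D.isOpen⟩) := by
  set F : ℕ → G.U.IdealSheafData := fun k => fit G.s k with hF
  have hdisj := WnO_disjoint G
  have hinv := WnO_inv G
  have hsub : ∀ k, ((WnO G k : G.U.Opens) : Set G.U) ⊆ (F k).support := fun k =>
    Wset_subset_Zs G k
  have hsupp' : ∀ k, Disjoint ((WnO G k : G.U.Opens) : Set G.U) ((F (k + 1)).support : Set G.U) :=
    fun k => Wset_disjoint_Zs G k
  have hsupp := support_thick (WnO G) F hdisj hsub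
  have hemb : Topology.IsEmbedding (thickι (WnO G) F) := Scheme.Hom.isEmbedding _
  have hinj : Function.Injective (thickι (WnO G) F) := hemb.injective
  have hrange : Set.range (thickι (WnO G) F) = ⋃ k, Wset G k := by
    rw [← coe_WW_WnO]
    have h1 : Set.range (thickι (WnO G) F) =
        (WW (WnO G)).ι '' Set.range (thick (WnO G) F).subschemeι := by
      rw [← Set.range_comp]
      rfl
    rw [h1, Scheme.IdealSheafData.range_subschemeι, hsupp, TopologicalSpace.Closeds.coe_top,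
      Set.image_univ, Scheme.Opens.range_ι]
  obtain ⟨hfin, hflat, hlfp⟩ := isFinLocFree_thick (WnO G) F hdisj G.s (fun _ => rfl) hsupp'
  have hσpt : ∀ p : ↥(pullback G.s (thickι (WnO G) F)),
      thickι (WnO G) F (pullback.snd G.s (thickι (WnO G) F) p) =
      G.s (pullback.fst G.s (thickι (WnO G) F) p) := fun p =>
    (congrArg (fun f : pullback G.s (thickι (WnO G) F) ⟶ G.U => f p)
      (pullback.condition (f := G.s) (g := thickι (WnO G) F))).symm
  -- the preimage of `N`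
  have hNWW : N ≤ WW (WnO G) := by
    intro x hx
    have : x ∈ ((WW (WnO G) : G.U.Opens) : Set G.U) := by rw [coe_WW_WnO]; exact hNW hx
    exact this
  have hDYaff : IsAffineOpen (thickι (WnO G) F ⁻¹ᵁ N) := by
    have h1 : IsAffineOpen ((WW (WnO G)).ι ⁻¹ᵁ N) := by
      rw [← Scheme.Hom.isAffineOpen_iff_of_isOpenImmersion (WW (WnO G)).ι,
        Scheme.Hom.image_preimage_eq_opensRange_inf, Scheme.Opens.opensRange_ι,
        inf_eq_right.mpr hNWW]
      exact hN
    exact h1.preimage (thick (WnO G) F).subschemeι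
  have hle : pullback.snd G.s (thickι (WnO G) F) ⁻¹ᵁ (thickι (WnO G) F ⁻¹ᵁ N) ≤
      (pullback.fst G.s (thickι (WnO G) F) ≫ G.t) ⁻¹ᵁ D₀ := by
    intro p hp
    have h1 : thickι (WnO G) F (pullback.snd G.s (thickι (WnO G) F) p) ∈ N := hp
    rw [hσpt] at h1
    exact hDorb _ (hND h1)
  obtain ⟨WY, hWY, hWYiff⟩ := exists_affine_norm_locus (pullback.snd G.s (thickι (WnO G) F))
    (thickι (WnO G) F ⁻¹ᵁ N) hDYaff (pullback.fst G.s (thickι (WnO G) F) ≫ G.t) D₀ d hle
  haveI : IsAffine (WY : Scheme.{u}) := hWY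
  refine isAffineOpen_of_range_preimmersion (WY.ι ≫ thickι (WnO G) F) _ ?_
  rw [Scheme.Hom.comp_base, TopCat.coe_comp, Set.range_comp, Scheme.Opens.range_ι]
  ext x
  constructor
  · rintro ⟨y, hy, rfl⟩
    have hy' := (hWYiff y).mp hy
    refine ⟨hy'.1, ?_⟩
    show thickι (WnO G) F y ∈ core G (D : Set G.U)
    rw [mem_core_iff']
    intro r hr
    obtain ⟨p, hp1, hp2⟩ := Scheme.Pullback.exists_preimage_pullback (f := G.s)
      (g := thickι (WnO G) F) r y hr
    have := hy'.2 p hp2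
    rw [hD] at this
    rw [← hp1]
    exact this
  · rintro ⟨hxN, hxc⟩
    have hxr : x ∈ Set.range (thickι (WnO G) F) := by rw [hrange]; exact hNW hxN
    obtain ⟨y, rfl⟩ := hxr
    refine ⟨y, (hWYiff y).mpr ⟨hxN, ?_⟩, rfl⟩
    intro p hp
    rw [hD]
    have hxc' : thickι (WnO G) F y ∈ core G (D : Set G.U) := hxc
    rw [mem_core_iff'] at hxc'
    have h2 : G.s (pullback.fst G.s (thickι (WnO G) F) p) = thickι (WnO G) F y := by
      rw [← hσpt, hp]
    exact hxc' _ h2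

/-- **Invariant affine opens around an orbit of points of codimension at most one.** -/
theorem exists_invariant_affine_of_dim_le_one (u : G.U)
    (hdim : ∀ r : G.R, G.s r = u → ringKrullDim (G.U.presheaf.stalk (G.t r)) ≤ 1) :
    ∃ W : G.U.Opens, IsAffineOpen W ∧ u ∈ W ∧ G.s ⁻¹ᵁ W = G.t ⁻¹ᵁ W := by
  classical
  -- Stage 0: the orbit
  set O : Set G.U := sat G {u} with hOdef
  have hOfin : O.Finite := (Scheme.Hom.finite_preimage_singleton G.s u).image _
  have hOinv : Inv G O := inv_sat G {u}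
  have huO : u ∈ O := subset_sat G {u} rfl
  have hOdim : ∀ o ∈ O, ringKrullDim (G.U.presheaf.stalk o) ≤ 1 := by
    rintro _ ⟨r, hr, rfl⟩
    exact hdim r hr
  -- Stage 1: an affine open containing the orbit
  obtain ⟨D₀, hD₀, hOD₀⟩ := Groth.Agent.Lib.Helper20.HK.exists_affine_of_dim_le_one
    (fun U' hU' => finite_irreducibleComponents_of_isCompact U' hU') O hOfin
    (fun x _ => inferInstance) hOdim
  haveI : IsNoetherianRing Γ(G.U, D₀) := IsLocallyNoetherian.component_noetherian ⟨D₀, hD₀⟩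
  haveI : NoetherianSpace {x // x ∈ D₀} := noetherianSpace_of_isAffineOpen D₀ hD₀
  -- Stage 2/3: the invariant open `Ω`
  obtain ⟨n, hun, hun'⟩ := exists_rank G u
  have hOn : O ⊆ Zs G n := by
    rintro _ ⟨r, hr, rfl⟩
    exact (inv_Zs G n r).mp (hr ▸ hun)
  have hOn' : O ⊆ (Zs G (n + 1))ᶜ := by
    rintro _ ⟨r, hr, rfl⟩ h
    exact hun' (by have := (inv_Zs G (n + 1) r).mpr h; rwa [hr] at this)
  set Ω : Set G.U := core G D₀ ∩ (Zs G (n + 1))ᶜ with hΩdef
  have hΩinv : Inv G Ω := inv_inter G (inv_core G _) (inv_compl G (inv_Zs G (n + 1)))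
  have hΩopen : IsOpen Ω := (isOpen_core G D₀.isOpen).inter (isClosed_Zs G (n + 1)).isOpen_compl
  have hΩD₀ : Ω ⊆ D₀ := fun x hx => core_subset G _ hx.1
  have hOΩ : O ⊆ Ω := fun o ho => ⟨subset_core G hOinv hOD₀ ho, hOn' ho⟩
  -- Stage 4: the generic points outside `Z_n` above the orbit
  set Ξ : Set G.U := gens G n Ω O with hΞdef
  have hΞmax : ∀ x ∈ Ξ, IsMaxGen x := isMaxGen_of_mem_gens G n Ω O hOn hOdim
  have hΞinv : Inv G Ξ := inv_gens G n Ω O hΩinv hOinv
  have hΞfin : Ξ.Finite := finite_gens G n Ω O hOn hOdim D₀ hD₀ hΩD₀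
  obtain ⟨m, ξ, hξ⟩ := hΞfin.fin_embedding
  -- Stage 5: an invariant affine open in the flat strata containing them
  have hfg : ∀ (k : ℕ) (V : G.U.affineOpens), ((fit G.s k).ideal V).FG := by
    intro k V
    haveI : IsNoetherianRing Γ(G.U, V.1) := IsLocallyNoetherian.component_noetherian V
    exact IsNoetherian.noetherian _
  obtain ⟨V₁, hV₁, hξV₁, hV₁inv, hV₁W⟩ := exists_invariant_affine_of_generic G hfg m ξ (by
    intro i r hr x hx
    have h1 : G.s r ∈ Ξ := by rw [hr, ← hξ]; exact ⟨i, rfl⟩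
    exact hΞmax _ ((hΞinv r).mp h1) x hx)
  have hΞV₁ : Ξ ⊆ V₁ := by
    intro x hx
    rw [← hξ] at hx
    obtain ⟨i, rfl⟩ := hx
    exact hξV₁ i
  -- Stage 6: shrinking `Ω`
  set A : Set G.U := (V₁ : Set G.U)ᶜ ∩ (Ω ∩ (Zs G n)ᶜ) with hAdef
  set B : Set G.U := closure A with hBdef
  have hOB : ∀ o ∈ O, o ∉ B := by
    intro o ho hoB
    obtain ⟨a, ⟨haV, haΩ, han⟩, hao⟩ := exists_specializes_of_mem_closure' D₀ _ _
      V₁.isOpen.isClosed_compl (hΩopen.inter (isClosed_Zs G n).isOpen_compl) o (hOD₀ ho) hoB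
    exact haV (hΞV₁ ⟨haΩ, han, o, ho, hao⟩)
  set Ω' : Set G.U := Ω ∩ (sat G B)ᶜ with hΩ'def
  have hΩ'inv : Inv G Ω' := inv_inter G hΩinv (inv_compl G (inv_sat G B))
  have hΩ'open : IsOpen Ω' := hΩopen.inter (isClosed_sat G isClosed_closure).isOpen_compl
  have hOΩ' : O ⊆ Ω' := by
    intro o ho
    refine ⟨hOΩ ho, ?_⟩
    rintro ⟨r, hr, hro⟩
    exact hOB _ ((hOinv r).mpr (hro ▸ ho)) hr
  have hΩ'cases : ∀ x ∈ Ω', x ∈ V₁ ∨ x ∈ Zs G n := by
    intro x hx
    by_contra hcon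
    push Not at hcon
    exact hx.2 (subset_sat G B (subset_closure ⟨hcon.1, hx.1, hcon.2⟩))
  -- Stage 7: a principal open of `D₀` inside `Ω'` containing the orbit
  obtain ⟨d₁, hOd₁, hd₁Ω'⟩ := exists_basicOpen_of_finite_affine hD₀ O hOfin hOD₀
    ⟨Ω', hΩ'open⟩ hOΩ'
  set D' : G.U.Opens := G.U.basicOpen d₁ with hD'def
  have hD'aff : IsAffineOpen D' := hD₀.basicOpen d₁
  have hD'Ω' : (D' : Set G.U) ⊆ Ω' := hd₁Ω'
  -- Stage 8: the stratum
  obtain ⟨E, ιE, τE, hpreE, hrangeE, hτE, ⟨hfinE, hflatE, hlfpE⟩, hclE⟩ := exists_stratum G n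
  have hinjE : Function.Injective ιE := ιE.isEmbedding.injective
  have hrelE := ptRel_restrict G ιE hinjE τE hτE
  have hτEpt : ∀ p : ↥(pullback G.s ιE), ιE (τE p) = G.t (pullback.fst G.s ιE p) := fun p =>
    congrArg (fun f : pullback G.s ιE ⟶ G.U => f p) hτE
  have hσEpt : ∀ p : ↥(pullback G.s ιE), ιE (pullback.snd G.s ιE p) =
      G.s (pullback.fst G.s ιE p) := fun p =>
    (congrArg (fun f : pullback G.s ιE ⟶ G.U => f p)
      (pullback.condition (f := G.s) (g := ιE))).symm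
  haveI hclD' : IsClosedImmersion (ιE ∣_ D') :=
    hclE D' (fun x hx => (hD'Ω' hx).1.2)
  have hVEaff : IsAffineOpen (ιE ⁻¹ᵁ D') := by
    haveI : IsAffine D'.toScheme := hD'aff
    exact isAffine_of_isAffineHom (ιE ∣_ D')
  have hOrange : O ⊆ Set.range ιE := by
    intro o ho
    rw [hrangeE]
    exact ⟨hOn ho, hOn' ho⟩
  have hT0fin : (ιE ⁻¹' O).Finite := hOfin.preimage hinjE.injOn
  obtain ⟨gE, hT0g, hinvg⟩ := exists_invariant_basicOpen_of_affine (pullback.snd G.s ιE) τE hrelE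
    (ιE ⁻¹' O) hT0fin (ιE ⁻¹ᵁ D') hVEaff (by
      intro p hp
      show ιE (τE p) ∈ D'
      rw [hτEpt]
      apply hOd₁
      refine (hOinv _).mp ?_
      rw [← hσEpt]
      exact hp)
  obtain ⟨b, hb⟩ := app_surjective_of_restrict ιE D' hD'aff gE
  set D : G.U.Opens := G.U.basicOpen b with hDdef
  have hDD' : D ≤ D' := G.U.basicOpen_le b
  have hDaff : IsAffineOpen D := hD'aff.basicOpen b
  have hpreD : ιE ⁻¹ᵁ D = E.basicOpen gE := by
    rw [hDdef, Scheme.preimage_basicOpen, hb]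
  have hOD : O ⊆ D := by
    intro o ho
    obtain ⟨o', rfl⟩ := hOrange ho
    have : o' ∈ E.basicOpen gE := hT0g ho
    rw [← hpreD] at this
    exact this
  have hrangeEinv : Inv G (Set.range ιE) := by
    rw [hrangeE]
    exact inv_inter G (inv_Zs G n) (inv_compl G (inv_Zs G (n + 1)))
  have hinvDE : Inv G (ιE '' (E.basicOpen gE : Set E)) :=
    inv_image_of_inv G ιE hinjE τE hτE hrangeEinv _ (fun p => by
      have := congrArg (fun O : (pullback G.s ιE).Opens => p ∈ O) hinvg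
      exact iff_of_eq this)
  have hDE : ιE '' (E.basicOpen gE : Set E) = (D : Set G.U) ∩ Zs G n := by
    ext x
    constructor
    · rintro ⟨y, hy, rfl⟩
      have hy' : y ∈ ιE ⁻¹ᵁ D := by rw [hpreD]; exact hy
      have hr : ιE y ∈ Set.range ιE := ⟨y, rfl⟩
      rw [hrangeE] at hr
      exact ⟨hy', hr.1⟩
    · rintro ⟨hxD, hxn⟩
      have hr : x ∈ Set.range ιE := by
        rw [hrangeE]
        exact ⟨hxn, (hD'Ω' (hDD' hxD)).1.2⟩
      obtain ⟨y, rfl⟩ := hr
      refine ⟨y, ?_, rfl⟩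
      have hy' : y ∈ ιE ⁻¹ᵁ D := hxD
      rw [hpreD] at hy'
      exact hy'
  rw [hDE] at hinvDE
  -- `D` as a principal open of `D₀`
  obtain ⟨d, hd⟩ := hD₀.basicOpen_basicOpen_is_basicOpen d₁ b
  -- Stage 9: the invariant open
  set Wst : G.U.Opens := ⟨core G (D : Set G.U), isOpen_core G D.isOpen⟩ with hWstdef
  have hWstD : Wst ≤ D := core_subset G _
  have hWstinv : G.s ⁻¹ᵁ Wst = G.t ⁻¹ᵁ Wst := by
    ext r
    exact inv_core G _ r
  have huWst : u ∈ Wst := subset_core G hOinv hOD huO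
  have hDZ : ∀ x ∈ D, x ∈ Zs G n → x ∈ Wst := fun x hxD hxn =>
    subset_core G hinvDE Set.inter_subset_left ⟨hxD, hxn⟩
  refine ⟨Wst, ?_, huWst, hWstinv⟩
  -- Stage 10: affineness
  refine isAffineOpen_of_locally Wst D hDaff hWstD ?_
  intro x hxD
  rcases hΩ'cases x (hD'Ω' (hDD' hxD)) with hxV | hxn
  · have hNaff : IsAffineOpen (V₁ ⊓ D) := hV₁.inf hDaff
    refine ⟨V₁ ⊓ D, hNaff, ⟨hxV, hxD⟩, inf_le_right, ?_⟩
    refine isAffineOpen_inf_core G (V₁ ⊓ D) hNaff (fun y hy => hV₁W hy.1) D₀ d D ?_ inf_le_right ?_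
    · rw [hd]
    · intro r hr
      have h1 : G.s r ∈ core G (D₀ : Set G.U) := (hD'Ω' (hDD' hr)).1.1
      exact (mem_core_iff' G _ _).mp h1 r rfl
  · obtain ⟨N, hN, hxN, hNW⟩ := (Opens.isBasis_iff_nbhd.mp G.U.isBasis_affineOpens)
      (hDZ x hxD hxn)
    exact ⟨N, hN, hxN, hNW.trans hWstD, by rw [inf_eq_left.mpr hNW]; exact hN⟩

end Groth.Agent.Lib.Helper20.HL
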