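import Mathlib
import Groth.Agent.Lib.Helper20.HM4
import Groth.Agent.Lib.Helper8.CMQ1
import Groth.Agent.Lib.Helper16.CMHeightFormula
import Groth.Agent.Lib.Helper16.CICot
import Groth.Agent.Lib.Helper23.CMMor1

/-!
# HM12: one-step slicing at ring level

In a Cohen–Macaulay local ring `F`, an ideal `𝔭F` with `dim F/𝔭F < dim F` contains a parameter
(which is then regular with Cohen–Macaulay quotient of dimension one less).  Applied to the fibre
local ring `F = B_q/𝔭B_q`, lifting through `τ : A → B` gives `f ∈ 𝔭` with `B_q/τ(f)` flat over `A`.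
-/

set_option autoImplicit false
set_option linter.style.haveILetI false
set_option linter.unusedSectionVars false
universe u
open IsLocalRing Pointwise

namespace Groth.Agent.Lib.Helper20.HM

open Groth.Agent.Lib27.LocalCore Groth.Agent.Lib.Helper23.QFFlat

/-- a parameter in the image of an ideal, from a dimension drop -/
theorem exists_regular_param {A F : Type u} [CommRing A] [CommRing F] [IsLocalRing F]
    [IsNoetherianRing F] (hCM : LocCoh.IsCohenMacaulayModule F F) (ψ : A →+* F) (𝔭 : Ideal A)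
    (hle : 𝔭.map ψ ≤ maximalIdeal F)
    (hlt : ringKrullDim (F ⧸ 𝔭.map ψ) < ringKrullDim F) :
    ∃ f ∈ 𝔭, IsSMulRegular F (ψ f) ∧
      ringKrullDim (F ⧸ Ideal.span {ψ f}) + 1 = ringKrullDim F := by
  classical
  have hfin : (minimalPrimes F).Finite := minimalPrimes.finite_of_isNoetherianRing F
  have havoid : ¬ ((𝔭 : Set A) ⊆ ⋃ P ∈ (hfin.toFinset : Set (Ideal F)),
      ((P.comap ψ : Ideal A) : Set A)) := by
    rw [Ideal.subset_union_prime (⊥ : Ideal F) ⊥ (fun P hP _ _ => by
      have : P ∈ minimalPrimes F := hfin.mem_toFinset.mp hP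
      haveI := this.1.1
      exact Ideal.comap_isPrime ψ P)]
    rintro ⟨P, hP, hPle⟩
    have hPmin : P ∈ minimalPrimes F := hfin.mem_toFinset.mp hP
    haveI := hPmin.1.1
    have hle' : 𝔭.map ψ ≤ P := Ideal.map_le_iff_le_comap.mpr hPle
    have h1 : ringKrullDim (F ⧸ P) ≤ ringKrullDim (F ⧸ 𝔭.map ψ) :=
      ringKrullDim_le_of_surjective (Ideal.Quotient.factor hle')
        (Ideal.Quotient.factor_surjective hle')
    have h2 := Groth.Agent.Lib.Helper16.CMHt.height_add_ringKrullDim_quotient_prime F hCM P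
    rw [Ideal.height_eq_zero_iff.mpr hPmin] at h2
    have h3 : ringKrullDim (F ⧸ P) = ringKrullDim F := by simpa using h2
    rw [h3] at h1
    exact absurd hlt (not_lt.mpr h1)
  rw [Set.not_subset] at havoid
  obtain ⟨f, hf𝔭, hfnot⟩ := havoid
  have hfP : ∀ P ∈ minimalPrimes F, ψ f ∉ P := by
    intro P hP hmem
    apply hfnot
    simp only [Set.mem_iUnion]
    exact ⟨P, hfin.mem_toFinset.mpr hP, hmem⟩
  have hψf : ψ f ∈ maximalIdeal F := hle (Ideal.mem_map_of_mem ψ hf𝔭)
  have hdrop := ringKrullDim_quot_span_succ_le (ψ f) hfP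
  have hxs : ∀ x ∈ [ψ f], x ∈ maximalIdeal F := by
    intro x hx
    rw [List.mem_singleton] at hx
    rw [hx]; exact hψf
  have hge := Groth.Agent.Lib.Helper16.CICot.dim_le (R := F) [ψ f] hxs
  have hof : Ideal.ofList [ψ f] = Ideal.span {ψ f} := Ideal.ofList_singleton _
  rw [hof] at hge
  have hlen : (([ψ f] : List F).length : WithBot ℕ∞) = 1 := by simp
  rw [hlen] at hge
  have hdim : ringKrullDim (F ⧸ Ideal.span {ψ f}) + 1 = ringKrullDim F := le_antisymm hdrop hge
  refine ⟨f, hf𝔭, ?_, hdim⟩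
  have hreg : RingTheory.Sequence.IsWeaklyRegular F [ψ f] := by
    rw [Groth.Agent.Lib.Helper16.CICot.isWeaklyRegular_iff_dim hCM [ψ f] hxs, hof, hlen]
    exact hdim
  rw [RingTheory.Sequence.isWeaklyRegular_cons_iff] at hreg
  exact hreg.1

set_option maxHeartbeats 1600000 in
/-- **One-step ring-level slicing.** -/
theorem exists_slice_one_step {A B : Type u} [CommRing A] [CommRing B] [Algebra A B]
    [Algebra.FinitePresentation A B] [Module.Flat A B]
    (τ : A →+* B) (𝔭 : Ideal A) (q : Ideal B) [q.IsPrime]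
    (hqτ : ∀ a ∈ 𝔭, τ a ∈ q)
    (L : Type u) [CommRing L] [Algebra B L] [Algebra A L] [IsScalarTower A B L]
    [IsLocalization.AtPrime L q]
    (hCM : LocCoh.IsCohenMacaulayLocalRing (L ⧸ fibIdeal (A := A) q L))
    (hlt : ringKrullDim ((L ⧸ fibIdeal (A := A) q L) ⧸
        𝔭.map ((Ideal.Quotient.mk (fibIdeal (A := A) q L)).comp ((algebraMap B L).comp τ))) <
      ringKrullDim (L ⧸ fibIdeal (A := A) q L)) :
    ∃ f ∈ 𝔭, Module.Flat A (L ⧸ Ideal.span {algebraMap B L (τ f)}) ∧
      LocCoh.IsCohenMacaulayLocalRing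
        (L ⧸ (fibIdeal (A := A) q L ⊔ Ideal.span {algebraMap B L (τ f)})) ∧
      ringKrullDim (L ⧸ (fibIdeal (A := A) q L ⊔ Ideal.span {algebraMap B L (τ f)})) + 1 =
        ringKrullDim (L ⧸ fibIdeal (A := A) q L) := by
  classical
  haveI : IsLocalRing L := IsLocalization.AtPrime.isLocalRing L q
  haveI : Module.Flat B L := IsLocalization.flat L q.primeCompl
  haveI : Module.Flat A L := Module.Flat.trans A B L
  set I' : Ideal L := fibIdeal (A := A) q L with hI'
  haveI hCMi : LocCoh.IsCohenMacaulayLocalRing (L ⧸ I') := hCM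
  haveI : IsLocalRing (L ⧸ I') := inferInstance
  haveI : IsNoetherianRing (L ⧸ I') := inferInstance
  have hcm := comap_mk_maximalIdeal I'
  set ψ : A →+* L ⧸ I' := (Ideal.Quotient.mk I').comp ((algebraMap B L).comp τ) with hψ
  have hle : 𝔭.map ψ ≤ maximalIdeal (L ⧸ I') := by
    rw [Ideal.map_le_iff_le_comap]
    intro a ha
    rw [Ideal.mem_comap, hψ, RingHom.comp_apply, ← Ideal.mem_comap, hcm, RingHom.comp_apply]
    exact (IsLocalization.AtPrime.to_map_mem_maximal_iff L q (τ a)).mpr (hqτ a ha)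
  obtain ⟨f, hf𝔭, hreg, hdim⟩ := exists_regular_param hCMi.supportDim_eq_depth ψ 𝔭 hle hlt
  refine ⟨f, hf𝔭, ?_, ?_, ?_⟩
  · -- flatness
    have hreg' : RingTheory.Sequence.IsWeaklyRegular (L ⧸ I' • (⊤ : Submodule L L))
        [algebraMap B L (τ f)] := by
      have h0 : RingTheory.Sequence.IsWeaklyRegular (L ⧸ I') [ψ f] := by
        rw [RingTheory.Sequence.isWeaklyRegular_cons_iff]
        refine ⟨hreg, ?_⟩
        exact RingTheory.Sequence.IsWeaklyRegular.nil _ _
      have h0' : RingTheory.Sequence.IsWeaklyRegular (L ⧸ I')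
          ([algebraMap B L (τ f)].map (algebraMap L (L ⧸ I'))) := h0
      have h1 : RingTheory.Sequence.IsWeaklyRegular (L ⧸ I') [algebraMap B L (τ f)] :=
        (RingTheory.Sequence.isWeaklyRegular_map_algebraMap_iff (L ⧸ I') (L ⧸ I')
          [algebraMap B L (τ f)]).mp h0'
      have hsm : (I' • (⊤ : Submodule L L)) = I' := by rw [smul_eq_mul, Ideal.mul_top]
      exact ((Submodule.quotEquivOfEq _ _ hsm).isWeaklyRegular_congr _).mpr h1
    have h1 := flat_quot_ofList (A := A) q L [algebraMap B L (τ f)] L hreg'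
    have hsm : (Ideal.ofList [algebraMap B L (τ f)] • (⊤ : Submodule L L)) =
        Ideal.span {algebraMap B L (τ f)} := by
      rw [smul_eq_mul, Ideal.mul_top, Ideal.ofList_singleton]
    exact Module.Flat.of_linearEquiv ((Submodule.quotEquivOfEq _ _ hsm).restrictScalars A).symm
  · -- Cohen–Macaulay
    have hψf : ψ f ∈ maximalIdeal (L ⧸ I') := hle (Ideal.mem_map_of_mem ψ hf𝔭)
    have h1 : LocCoh.IsCohenMacaulayLocalRing ((L ⧸ I') ⧸ Ideal.span {ψ f}) :=
      Groth.Agent.Lib.Helper8.CMQ.cm_local_quot (ψ f) hψf hreg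
    have hspan : Ideal.span {ψ f} =
        (Ideal.span {algebraMap B L (τ f)}).map (Ideal.Quotient.mk I') := by
      rw [Ideal.map_span, Set.image_singleton]
      rfl
    rw [hspan] at h1
    exact (Groth.Agent.Lib.Helper23.CMMor.cm_of_ringEquiv_iff
      (DoubleQuot.quotQuotEquivQuotSup I' (Ideal.span {algebraMap B L (τ f)}))).mp h1
  · have hspan : Ideal.span {ψ f} =
        (Ideal.span {algebraMap B L (τ f)}).map (Ideal.Quotient.mk I') := by
      rw [Ideal.map_span, Set.image_singleton]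
      rfl
    rw [← ringKrullDim_eq_of_ringEquiv
      (DoubleQuot.quotQuotEquivQuotSup I' (Ideal.span {algebraMap B L (τ f)})), ← hspan]
    exact hdim

end Groth.Agent.Lib.Helper20.HM
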