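import Mathlib
import Groth.Agent.Lib27.Sch.LocalCore

/-!
# HM13: the local ring of `B/J` at `q/J` is `B_q/JB_q`; flatness and the closed fibre ring of
`A_𝔭 → (B/J)_{q/J}` in terms of `B_q`
-/

set_option autoImplicit false
set_option linter.style.haveILetI false
set_option linter.unusedSectionVars false
universe u
open IsLocalRing

namespace Groth.Agent.Lib.Helper20.HM

open Groth.Agent.Lib27.LocalCore

theorem algebraMapSubmonoid_quot_primeCompl {B : Type u} [CommRing B] (q : Ideal B) [q.IsPrime]
    (J : Ideal B) (hJ : J ≤ q) (c : Ideal (B ⧸ J)) [c.IsPrime]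
    (hc : c = q.map (Ideal.Quotient.mk J)) :
    Algebra.algebraMapSubmonoid (B ⧸ J) q.primeCompl = c.primeCompl := by
  have hcomap : (q.map (Ideal.Quotient.mk J)).comap (Ideal.Quotient.mk J) = q := by
    rw [Ideal.comap_map_of_surjective _ Ideal.Quotient.mk_surjective, ← RingHom.ker_eq_comap_bot,
      Ideal.mk_ker]
    exact sup_eq_left.mpr hJ
  ext y
  constructor
  · rintro ⟨b, hb, rfl⟩
    intro hmem
    rw [hc] at hmem
    have : b ∈ (q.map (Ideal.Quotient.mk J)).comap (Ideal.Quotient.mk J) := hmem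
    rw [hcomap] at this
    exact hb this
  · intro hy
    obtain ⟨b, rfl⟩ := Ideal.Quotient.mk_surjective y
    refine ⟨b, ?_, rfl⟩
    intro hbq
    apply hy
    rw [hc]
    exact Ideal.mem_map_of_mem _ hbq

section

variable {A B : Type u} [CommRing A] [CommRing B] [Algebra A B]
  (q : Ideal B) [q.IsPrime] (J : Ideal B) (hJ : J ≤ q)
  (L : Type u) [CommRing L] [Algebra B L] [Algebra A L] [IsScalarTower A B L]
  [IsLocalization.AtPrime L q]
  (𝔭 : Ideal A) [𝔭.IsPrime] (c : Ideal (B ⧸ J)) [c.IsPrime]
  (hc : c = q.map (Ideal.Quotient.mk J))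
  (h : 𝔭 = c.comap ((Ideal.Quotient.mk J).comp (algebraMap A B)))

include hJ hc in
/-- `B_q/JB_q ≃ (B/J)_{q/J}` as `B/J`-algebras -/
noncomputable def quotLocEquiv :
    (L ⧸ J.map (algebraMap B L)) ≃ₐ[B ⧸ J] Localization.AtPrime c := by
  haveI : IsLocalization c.primeCompl (L ⧸ J.map (algebraMap B L)) := by
    rw [← algebraMapSubmonoid_quot_primeCompl q J hJ c hc]
    infer_instance
  exact IsLocalization.algEquiv c.primeCompl (L ⧸ J.map (algebraMap B L)) (Localization.AtPrime c)

include hJ hc in
theorem comap_eq_of_quot : 𝔭 = c.comap ((Ideal.Quotient.mk J).comp (algebraMap A B)) →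
    𝔭 = q.comap (algebraMap A B) := by
  intro h
  rw [h, ← Ideal.comap_comap, hc, Ideal.comap_map_of_surjective _ Ideal.Quotient.mk_surjective,
    ← RingHom.ker_eq_comap_bot, Ideal.mk_ker, sup_eq_left.mpr hJ]

include hJ hc in
/-- flatness of `A → B_q/JB_q` gives flatness of `A_𝔭 → (B/J)_{q/J}` -/
theorem localRingHom_flat_of_flat_quot
    (hfl : Module.Flat A (L ⧸ J.map (algebraMap B L))) :
    (Localization.localRingHom 𝔭 c ((Ideal.Quotient.mk J).comp (algebraMap A B)) h).Flat := by
  let e := quotLocEquiv q J hJ L c hc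
  letI algLoc : Algebra (Localization.AtPrime 𝔭) (Localization.AtPrime c) :=
    (Localization.localRingHom 𝔭 c ((Ideal.Quotient.mk J).comp (algebraMap A B)) h).toAlgebra
  haveI tower1 : IsScalarTower A (Localization.AtPrime 𝔭) (Localization.AtPrime c) := by
    refine IsScalarTower.of_algebraMap_eq (fun a => ?_)
    change _ = Localization.localRingHom 𝔭 c _ h (algebraMap A (Localization.AtPrime 𝔭) a)
    rw [Localization.localRingHom_to_map]
    rfl
  haveI tower2 : IsScalarTower A (B ⧸ J) (L ⧸ J.map (algebraMap B L)) := by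
    refine IsScalarTower.of_algebraMap_eq (fun a => ?_)
    change Ideal.Quotient.mk _ (algebraMap A L a) =
      Ideal.Quotient.mk _ (algebraMap B L (algebraMap A B a))
    rw [← IsScalarTower.algebraMap_apply]
  change Module.Flat (Localization.AtPrime 𝔭) (Localization.AtPrime c)
  rw [Module.flat_iff_of_isLocalization (Localization.AtPrime 𝔭) 𝔭.primeCompl
    (Localization.AtPrime c)]
  exact Module.Flat.of_linearEquiv ((e.toLinearEquiv.restrictScalars A).symm)

include hJ hc in
/-- the closed fibre ring of `A_𝔭 → (B/J)_{q/J}` is `B_q/(𝔭B_q + JB_q)` -/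
theorem nonempty_closedFibre_equiv :
    Nonempty ((Localization.AtPrime c ⧸ (maximalIdeal (Localization.AtPrime 𝔭)).map
        (Localization.localRingHom 𝔭 c ((Ideal.Quotient.mk J).comp (algebraMap A B)) h)) ≃+*
      L ⧸ (fibIdeal (A := A) q L ⊔ J.map (algebraMap B L))) := by
  let e := quotLocEquiv q J hJ L c hc
  have hp : 𝔭 = q.comap (algebraMap A B) := comap_eq_of_quot q J hJ 𝔭 c hc h
  have hmax : (maximalIdeal (Localization.AtPrime 𝔭)).map
      (Localization.localRingHom 𝔭 c ((Ideal.Quotient.mk J).comp (algebraMap A B)) h) =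
      𝔭.map ((algebraMap (B ⧸ J) (Localization.AtPrime c)).comp
        ((Ideal.Quotient.mk J).comp (algebraMap A B))) := by
    rw [← Localization.AtPrime.map_eq_maximalIdeal, Ideal.map_map]
    congr 1
    ext a
    exact Localization.localRingHom_to_map 𝔭 c _ h a
  have himg : (fibIdeal (A := A) q L).map (Ideal.Quotient.mk (J.map (algebraMap B L))) =
      ((maximalIdeal (Localization.AtPrime 𝔭)).map
        (Localization.localRingHom 𝔭 c ((Ideal.Quotient.mk J).comp (algebraMap A B)) h)).map
        (e.symm.toRingEquiv : Localization.AtPrime c →+* L ⧸ J.map (algebraMap B L)) := by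
    rw [hmax, Ideal.map_map, Ideal.map_map, ← hp]
    congr 1
    ext a
    change Ideal.Quotient.mk _ (algebraMap A L a) =
      e.symm (algebraMap (B ⧸ J) (Localization.AtPrime c)
        (Ideal.Quotient.mk J (algebraMap A B a)))
    rw [AlgEquiv.commutes, IsScalarTower.algebraMap_apply A B L]
    rfl
  exact ⟨(Ideal.quotientEquiv _ _ e.symm.toRingEquiv himg).trans
    ((DoubleQuot.quotQuotEquivQuotSup (J.map (algebraMap B L)) (fibIdeal (A := A) q L)).trans
      (Ideal.quotEquivOfEq (sup_comm _ _)))⟩

end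

end Groth.Agent.Lib.Helper20.HM
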