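import Mathlib

/-!
# HM14: stalk maps under open immersions on source and target, and of `Spec.map`
-/

set_option autoImplicit false
set_option linter.style.haveILetI false
set_option linter.unusedSectionVars false
universe u
open CategoryTheory CategoryTheory.Limits AlgebraicGeometry IsLocalRing

namespace Groth.Agent.Lib.Helper20.HM

/-- isomorphic arrows of local rings have isomorphic closed fibre rings -/
theorem nonempty_quot_equiv_of_arrowIso {A L A' L' : CommRingCat.{u}} [IsLocalRing A]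
    [IsLocalRing A'] {f : A ⟶ L} {g : A' ⟶ L'} (e : Arrow.mk f ≅ Arrow.mk g) :
    Nonempty ((L ⧸ (maximalIdeal A).map f.hom) ≃+* (L' ⧸ (maximalIdeal A').map g.hom)) := by
  let eA : A ≅ A' := (Arrow.leftFunc).mapIso e
  let eL : L ≅ L' := (Arrow.rightFunc).mapIso e
  have hw : f ≫ eL.hom = eA.hom ≫ g := e.hom.w.symm
  let rA : A ≃+* A' := eA.commRingCatIsoToRingEquiv
  let rL : L ≃+* L' := eL.commRingCatIsoToRingEquiv
  have hw' : (rL : L →+* L').comp f.hom = g.hom.comp (rA : A →+* A') := by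
    ext a
    exact congrArg (fun φ => φ.hom a) hw
  refine ⟨Ideal.quotientEquiv _ _ rL ?_⟩
  rw [Ideal.map_map, hw', ← Ideal.map_map]
  congr 1
  exact (IsLocalRing.map_ringEquiv_maximalIdeal rA).symm

/-- isomorphic arrows: flatness -/
theorem flat_iff_of_arrowIso {A L A' L' : CommRingCat.{u}} {f : A ⟶ L} {g : A' ⟶ L'}
    (e : Arrow.mk f ≅ Arrow.mk g) : f.hom.Flat ↔ g.hom.Flat :=
  RingHom.Flat.respectsIso.arrow_mk_iso_iff e

/-- the square of stalk maps attached to a commutative square with open immersions as vertical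
arrows -/
noncomputable def stalkArrowIso {T U Y V : Scheme.{u}} (h : T ⟶ U) (h' : Y ⟶ V) (w : Y ⟶ T)
    (j : V ⟶ U) [IsOpenImmersion w] [IsOpenImmersion j] (comm : w ≫ h = h' ≫ j) (c : Y) :
    Arrow.mk (h.stalkMap (w c)) ≅ Arrow.mk (h'.stalkMap c) :=
  Arrow.isoMk
    ((U.presheaf.stalkCongr (.of_eq (by
      change (w ≫ h) c = (h' ≫ j) c
      rw [comm]))) ≪≫ asIso (j.stalkMap (h' c)))
    (asIso (w.stalkMap c)) (by
      change (((U.presheaf.stalkCongr _).hom ≫ j.stalkMap (h' c)) ≫ h'.stalkMap c) =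
        h.stalkMap (w c) ≫ w.stalkMap c
      rw [← Scheme.Hom.stalkMap_comp, Category.assoc, ← Scheme.Hom.stalkMap_comp]
      exact (Scheme.Hom.stalkMap_congr_hom (w ≫ h) (h' ≫ j) comm c).symm)

/-- the stalk map at a point of an affine chart, in terms of localizations -/
noncomputable def stalkArrowIsoSpec {T U : Scheme.{u}} (h : T ⟶ U) {A C : CommRingCat.{u}}
    (φ : A ⟶ C) (w : Spec C ⟶ T) (j : Spec A ⟶ U) [IsOpenImmersion w] [IsOpenImmersion j]
    (comm : w ≫ h = Spec.map φ ≫ j) (c : PrimeSpectrum C) :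
    Arrow.mk (h.stalkMap (w c)) ≅ Arrow.mk (CommRingCat.ofHom (Localization.localRingHom
      (c.comap φ.hom).asIdeal c.asIdeal φ.hom rfl)) :=
  stalkArrowIso h (Spec.map φ) w j comm c ≪≫ Scheme.arrowStalkMapSpecIso φ c

theorem flat_iff_of_chart {T U : Scheme.{u}} (h : T ⟶ U) {A C : CommRingCat.{u}}
    (φ : A ⟶ C) (w : Spec C ⟶ T) (j : Spec A ⟶ U) [IsOpenImmersion w] [IsOpenImmersion j]
    (comm : w ≫ h = Spec.map φ ≫ j) (c : PrimeSpectrum C) :
    (h.stalkMap (w c)).hom.Flat ↔
      (Localization.localRingHom (c.comap φ.hom).asIdeal c.asIdeal φ.hom rfl).Flat :=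
  flat_iff_of_arrowIso (stalkArrowIsoSpec h φ w j comm c)

theorem nonempty_closedFibre_equiv_of_chart {T U : Scheme.{u}} (h : T ⟶ U) {A C : CommRingCat.{u}}
    (φ : A ⟶ C) (w : Spec C ⟶ T) (j : Spec A ⟶ U) [IsOpenImmersion w] [IsOpenImmersion j]
    (comm : w ≫ h = Spec.map φ ≫ j) (c : PrimeSpectrum C) :
    Nonempty ((T.presheaf.stalk (w c) ⧸
        (maximalIdeal (U.presheaf.stalk (h (w c)))).map (h.stalkMap (w c)).hom) ≃+*
      (Localization.AtPrime c.asIdeal ⧸
        (maximalIdeal (Localization.AtPrime (c.comap φ.hom).asIdeal)).map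
          (Localization.localRingHom (c.comap φ.hom).asIdeal c.asIdeal φ.hom rfl))) := by
  haveI : IsLocalRing ↑(CommRingCat.of (Localization.AtPrime (c.comap φ.hom).asIdeal)) :=
    inferInstanceAs (IsLocalRing (Localization.AtPrime (c.comap φ.hom).asIdeal))
  exact nonempty_quot_equiv_of_arrowIso (stalkArrowIsoSpec h φ w j comm c)

end Groth.Agent.Lib.Helper20.HM
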