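import Mathlib
import Groth.Agent.Lib.Helper20.HM10
import Groth.Agent.Lib.Helper20.HM12
import Groth.Agent.Lib.Helper20.HM13
import Groth.Agent.Lib.Helper20.HM14
import Groth.Agent.Lib.Helper20.HM15
import Groth.Agent.Lib.Helper14.FibDimComp
import Groth.Agent.Lib.Helper21.FibDim12

/-!
# HM16: one-step slicing of a groupoid scheme with Cohen–Macaulay source map
-/

set_option autoImplicit false
set_option linter.style.haveILetI false
set_option linter.unusedSectionVars false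
universe u
open CategoryTheory CategoryTheory.Limits AlgebraicGeometry

namespace Groth.Agent.Lib.Helper20.HM

open Grpd Groth.Agent.Lib27.LocalCore

theorem isInducing_comap_quot_quot_loc {B L : Type u} [CommRing B] [CommRing L] [Algebra B L]
    (M : Submonoid B) [IsLocalization M L] (I' : Ideal L) (K : Ideal (L ⧸ I')) :
    Topology.IsInducing (PrimeSpectrum.comap
      ((Ideal.Quotient.mk K).comp ((Ideal.Quotient.mk I').comp (algebraMap B L)))) := by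
  rw [PrimeSpectrum.comap_comp, PrimeSpectrum.comap_comp]
  exact ((PrimeSpectrum.localization_comap_isInducing L M).comp
    (PrimeSpectrum.comap_isInducing_of_surjective _ _ Ideal.Quotient.mk_surjective)).comp
    (PrimeSpectrum.comap_isInducing_of_surjective _ _ Ideal.Quotient.mk_surjective)

variable {S : Scheme.{u}} (G : GroupoidScheme S)

set_option maxHeartbeats 3200000 in
/-- ring-level data for the one-step slice in an affine chart -/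
theorem exists_ring_slice_one [LocallyOfFinitePresentation G.s]
    (hs : ∀ r : G.R, Grpd.IsCMAt G.s r)
    {U₀ : G.U.Opens} {R₀ : G.R.Opens} (hU₀ : IsAffineOpen U₀) (hR₀ : IsAffineOpen R₀) (u : G.U)
    (hu₀ : u ∈ U₀) (hcl : IsClosed ({⟨u, hu₀⟩} : Set ↥U₀)) (hs₀ : R₀ ≤ G.s ⁻¹ᵁ U₀)
    (ht₀ : R₀ ≤ G.t ⁻¹ᵁ U₀) (he₀ : U₀ ≤ G.e ⁻¹ᵁ R₀)
    (hd : topologicalKrullDim ↥(G.stabilizerToU.fiber u) < FlatMor.fibreDimAt G.s (G.e u)) :
    ∃ f ∈ (hU₀.primeIdealOf ⟨u, hu₀⟩).asIdeal,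
      (G.t.appLE U₀ R₀ ht₀).hom f ∈ (hR₀.primeIdealOf ⟨G.e u, he₀ hu₀⟩).asIdeal ∧
      ∀ (c : Ideal (Γ(G.R, R₀) ⧸ (Ideal.span {f}).map (G.t.appLE U₀ R₀ ht₀).hom)) [c.IsPrime],
        c = (hR₀.primeIdealOf ⟨G.e u, he₀ hu₀⟩).asIdeal.map (Ideal.Quotient.mk _) →
        (Localization.localRingHom
          (c.comap ((Ideal.Quotient.mk ((Ideal.span {f}).map (G.t.appLE U₀ R₀ ht₀).hom)).comp
            (G.s.appLE U₀ R₀ hs₀).hom)) c
          ((Ideal.Quotient.mk ((Ideal.span {f}).map (G.t.appLE U₀ R₀ ht₀).hom)).comp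
            (G.s.appLE U₀ R₀ hs₀).hom) rfl).Flat ∧
        LocCoh.IsCohenMacaulayLocalRing (Localization.AtPrime c ⧸
          (IsLocalRing.maximalIdeal (Localization.AtPrime
            (c.comap ((Ideal.Quotient.mk ((Ideal.span {f}).map (G.t.appLE U₀ R₀ ht₀).hom)).comp
              (G.s.appLE U₀ R₀ hs₀).hom)))).map
          (Localization.localRingHom
            (c.comap ((Ideal.Quotient.mk ((Ideal.span {f}).map (G.t.appLE U₀ R₀ ht₀).hom)).comp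
              (G.s.appLE U₀ R₀ hs₀).hom)) c
            ((Ideal.Quotient.mk ((Ideal.span {f}).map (G.t.appLE U₀ R₀ ht₀).hom)).comp
              (G.s.appLE U₀ R₀ hs₀).hom) rfl)) ∧
        ringKrullDim (Localization.AtPrime c ⧸
          (IsLocalRing.maximalIdeal (Localization.AtPrime
            (c.comap ((Ideal.Quotient.mk ((Ideal.span {f}).map (G.t.appLE U₀ R₀ ht₀).hom)).comp
              (G.s.appLE U₀ R₀ hs₀).hom)))).map
          (Localization.localRingHom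
            (c.comap ((Ideal.Quotient.mk ((Ideal.span {f}).map (G.t.appLE U₀ R₀ ht₀).hom)).comp
              (G.s.appLE U₀ R₀ hs₀).hom)) c
            ((Ideal.Quotient.mk ((Ideal.span {f}).map (G.t.appLE U₀ R₀ ht₀).hom)).comp
              (G.s.appLE U₀ R₀ hs₀).hom) rfl)) + 1 = FlatMor.fibreDimAt G.s (G.e u) := by
  classical
  have heuR₀ : G.e u ∈ R₀ := he₀ hu₀
  have hseu : G.s (G.e u) = u := e_s_apply G u
  have hfp : RingHom.FinitePresentation (G.s.appLE U₀ R₀ hs₀).hom :=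
    HasRingHomProperty.appLE (P := @LocallyOfFinitePresentation) G.s inferInstance ⟨U₀, hU₀⟩
      ⟨R₀, hR₀⟩ hs₀
  haveI hflat_s : Flat G.s := by
    rw [Flat.iff_flat_stalkMap]
    exact fun r => (hs r).1
  have hfl : RingHom.Flat (G.s.appLE U₀ R₀ hs₀).hom :=
    HasRingHomProperty.appLE (P := @Flat) G.s inferInstance ⟨U₀, hU₀⟩ ⟨R₀, hR₀⟩ hs₀
  algebraize [(G.s.appLE U₀ R₀ hs₀).hom]
  have hxR₀ : G.e u ∈ R₀ := heuR₀
  have hfxW : G.s (G.e u) ∈ U₀ := hs₀ hxR₀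
  letI algBL : Algebra Γ(G.R, R₀) (G.R.presheaf.stalk (G.e u)) :=
    G.R.presheaf.algebra_section_stalk ⟨(G.e u), hxR₀⟩
  haveI locL : IsLocalization.AtPrime (G.R.presheaf.stalk (G.e u))
      (hR₀.primeIdealOf ⟨(G.e u), hxR₀⟩).asIdeal := hR₀.isLocalization_stalk ⟨(G.e u), hxR₀⟩
  letI algAL : Algebra Γ(G.U, U₀) (G.R.presheaf.stalk (G.e u)) :=
    ((algebraMap Γ(G.R, R₀) (G.R.presheaf.stalk (G.e u))).comp
      (algebraMap Γ(G.U, U₀) Γ(G.R, R₀))).toAlgebra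
  haveI towerL : IsScalarTower Γ(G.U, U₀) Γ(G.R, R₀) (G.R.presheaf.stalk (G.e u)) :=
    IsScalarTower.of_algebraMap_eq (fun _ => rfl)
  have hcomp : (G.s.stalkMap (G.e u)).hom.comp (G.U.presheaf.germ U₀ (G.s (G.e u)) hfxW).hom =
      algebraMap Γ(G.U, U₀) (G.R.presheaf.stalk (G.e u)) := by
    ext a
    change G.s.stalkMap (G.e u) (G.U.presheaf.germ U₀ (G.s (G.e u)) hfxW a) =
      G.R.presheaf.germ R₀ (G.e u) hxR₀ (G.s.appLE U₀ R₀ hs₀ a)
    rw [Scheme.Hom.germ_stalkMap_apply, Scheme.Hom.appLE, CommRingCat.comp_apply,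
      G.R.presheaf.germ_res_apply]
  have hp : (hU₀.primeIdealOf ⟨G.s (G.e u), hfxW⟩).asIdeal =
      (hR₀.primeIdealOf ⟨(G.e u), hxR₀⟩).asIdeal.comap (algebraMap Γ(G.U, U₀) Γ(G.R, R₀)) :=
    congr($(IsAffineOpen.comap_primeIdealOf_appLE U₀ hU₀ R₀ hR₀ hs₀ hxR₀).1).symm
  have hJ : Ideal.map (G.s.stalkMap (G.e u)).hom
      (IsLocalRing.maximalIdeal (G.U.presheaf.stalk (G.s (G.e u)))) =
      fibIdeal (A := Γ(G.U, U₀)) (hR₀.primeIdealOf ⟨(G.e u), hxR₀⟩).asIdeal (G.R.presheaf.stalk (G.e u)) := by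
    letI := G.U.presheaf.algebra_section_stalk ⟨G.s (G.e u), hfxW⟩
    haveI := hU₀.isLocalization_stalk ⟨G.s (G.e u), hfxW⟩
    have hmax := IsLocalization.AtPrime.map_eq_maximalIdeal
      (hU₀.primeIdealOf ⟨G.s (G.e u), hfxW⟩).asIdeal (G.U.presheaf.stalk (G.s (G.e u)))
    rw [← hmax, Ideal.map_map, fibIdeal, ← hp]
    exact congrArg (fun φ => Ideal.map φ (hU₀.primeIdealOf ⟨G.s (G.e u), hfxW⟩).asIdeal) hcomp
  have hCM' : LocCoh.IsCohenMacaulayLocalRing (G.R.presheaf.stalk (G.e u) ⧸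
      fibIdeal (A := Γ(G.U, U₀)) (hR₀.primeIdealOf ⟨(G.e u), hxR₀⟩).asIdeal (G.R.presheaf.stalk (G.e u))) :=
    (Groth.Agent.Lib.Helper23.CMMor.cm_congr_ideal hJ).mp (hs (G.e u)).2
  obtain ⟨τ, hτdef⟩ : ∃ τ : Γ(G.U, U₀) →+* Γ(G.R, R₀), τ = (G.t.appLE U₀ R₀ ht₀).hom := ⟨_, rfl⟩
  obtain ⟨ē, hēdef⟩ : ∃ ē : Γ(G.R, R₀) →+* Γ(G.U, U₀), ē = (G.e.appLE R₀ U₀ he₀).hom := ⟨_, rfl⟩
  have hσ : ∀ a, ē (algebraMap Γ(G.U, U₀) Γ(G.R, R₀) a) = a := by
    intro a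
    have h1 := appLE_comp_appLE_eq_id G.s G.e G.e_s hU₀ hR₀ hs₀ he₀
    have h2 := congrArg (fun φ => φ.hom a) h1
    rw [hēdef]
    exact h2
  have hτ : ∀ a, ē (τ a) = a := by
    intro a
    have h1 := appLE_comp_appLE_eq_id G.t G.e G.e_t hU₀ hR₀ ht₀ he₀
    have h2 := congrArg (fun φ => φ.hom a) h1
    rw [hēdef, hτdef]
    exact h2
  haveI h𝔭max : (hU₀.primeIdealOf ⟨u, hu₀⟩).asIdeal.IsMaximal :=
    (Groth.Agent.Lib.Helper6.isClosed_singleton_iff_isMaximal hU₀ u hu₀).mp hcl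
  have hq : (hR₀.primeIdealOf ⟨(G.e u), hxR₀⟩).asIdeal =
      (hU₀.primeIdealOf ⟨u, hu₀⟩).asIdeal.comap ē := by
    have h1 := congr($(IsAffineOpen.comap_primeIdealOf_appLE (f := G.e) R₀ hR₀ U₀ hU₀ he₀ hu₀).1)
    rw [hēdef]
    exact h1.symm
  have hqτ : ∀ a ∈ (hU₀.primeIdealOf ⟨u, hu₀⟩).asIdeal, τ a ∈ (hR₀.primeIdealOf ⟨(G.e u), hxR₀⟩).asIdeal := by
    intro a ha
    rw [hq, Ideal.mem_comap, hτ]
    exact ha
  -- the fibre dimension of `s` at `e u`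
  obtain ⟨a, b, ha, hb, hab⟩ := Groth.Agent.Lib.Helper21.FibDim.exists_fibreDimAt_eq_add G.s (G.e u)
  have hbCF := Groth.Agent.Lib.Helper14.AS.ringKrullDim_fiber_stalk G.s (G.e u)
  have ha0 : a = 0 := by
    haveI : SurjectiveOnStalks (G.e ≫ G.s) := by rw [G.e_s]; infer_instance
    have h0 := trdeg_eq_zero_of_section G.s G.e u
    rw [h0] at ha
    exact_mod_cast ha.symm
  have hdimF : FlatMor.fibreDimAt G.s (G.e u) = ringKrullDim (G.R.presheaf.stalk (G.e u) ⧸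
      fibIdeal (A := Γ(G.U, U₀)) (hR₀.primeIdealOf ⟨G.e u, hxR₀⟩).asIdeal
        (G.R.presheaf.stalk (G.e u))) := by
    rw [hab, ha0, zero_add, ← hb, hbCF]
    exact ringKrullDim_eq_of_ringEquiv (Ideal.quotEquivOfEq hJ)
  haveI : IsLocalRing (G.R.presheaf.stalk (G.e u)) := inferInstance
  obtain ⟨q, hqdef⟩ : ∃ q : Ideal Γ(G.R, R₀), q = (hR₀.primeIdealOf ⟨G.e u, hxR₀⟩).asIdeal :=
    ⟨_, rfl⟩
  obtain ⟨𝔭, h𝔭def⟩ : ∃ 𝔭 : Ideal Γ(G.U, U₀), 𝔭 = (hU₀.primeIdealOf ⟨u, hu₀⟩).asIdeal := ⟨_, rfl⟩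
  haveI hqprime : q.IsPrime := hqdef ▸ inferInstance
  haveI h𝔭max' : 𝔭.IsMaximal := h𝔭def ▸ h𝔭max
  haveI locL' : IsLocalization.AtPrime (G.R.presheaf.stalk (G.e u)) q := hqdef ▸ locL
  rw [← hqdef, ← h𝔭def] at hq hqτ
  rw [← hqdef] at hCM' hdimF
  have hqσ : q.comap (algebraMap Γ(G.U, U₀) Γ(G.R, R₀)) = 𝔭 := by
    ext a
    rw [Ideal.mem_comap, hq, Ideal.mem_comap, hσ]
  set I' : Ideal (G.R.presheaf.stalk (G.e u)) :=
    fibIdeal (A := Γ(G.U, U₀)) q (G.R.presheaf.stalk (G.e u)) with hI'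
  have hI'eq : I' = 𝔭.map (algebraMap Γ(G.U, U₀) (G.R.presheaf.stalk (G.e u))) := by
    rw [hI', fibIdeal, hqσ]
  set ψ : Γ(G.U, U₀) →+* G.R.presheaf.stalk (G.e u) ⧸ I' :=
    (Ideal.Quotient.mk I').comp ((algebraMap Γ(G.R, R₀) (G.R.presheaf.stalk (G.e u))).comp τ)
    with hψ
  have hle_stab : ringKrullDim ((G.R.presheaf.stalk (G.e u) ⧸ I') ⧸ 𝔭.map ψ) ≤
      topologicalKrullDim ↥(G.stabilizerToU.fiber u) := by
    refine ringKrullDim_le_stab_fiber G hU₀ hR₀ u hu₀ hcl hs₀ ht₀ he₀ _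
      ((Ideal.Quotient.mk (𝔭.map ψ)).comp ((Ideal.Quotient.mk I').comp
        (algebraMap Γ(G.R, R₀) (G.R.presheaf.stalk (G.e u)))))
      (isInducing_comap_quot_quot_loc q.primeCompl I' (𝔭.map ψ)) ?_ ?_ ?_
    · intro P
      rw [← hqdef]
      intro b hb
      by_contra hbq
      have hu : IsUnit (algebraMap Γ(G.R, R₀) (G.R.presheaf.stalk (G.e u)) b) :=
        IsLocalization.map_units (G.R.presheaf.stalk (G.e u)) (⟨b, hbq⟩ : q.primeCompl)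
      rw [Ideal.mem_comap] at hb
      have hu' := (hu.map (Ideal.Quotient.mk I')).map (Ideal.Quotient.mk (𝔭.map ψ))
      exact P.isPrime.ne_top (Ideal.eq_top_of_isUnit_mem _ hb hu')
    · intro a ha
      rw [← h𝔭def] at ha
      rw [RingHom.comp_apply, RingHom.comp_apply]
      have h1 : Ideal.Quotient.mk I' (algebraMap Γ(G.R, R₀) (G.R.presheaf.stalk (G.e u))
          ((G.s.appLE U₀ R₀ hs₀).hom a)) = 0 := by
        rw [Ideal.Quotient.eq_zero_iff_mem, hI'eq]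
        exact Ideal.mem_map_of_mem _ ha
      rw [h1, map_zero]
    · intro a ha
      rw [← h𝔭def] at ha
      rw [RingHom.comp_apply, Ideal.Quotient.eq_zero_iff_mem, ← hτdef]
      exact Ideal.mem_map_of_mem ψ ha
  have hlt : ringKrullDim ((G.R.presheaf.stalk (G.e u) ⧸ I') ⧸ 𝔭.map ψ) <
      ringKrullDim (G.R.presheaf.stalk (G.e u) ⧸ I') :=
    lt_of_le_of_lt hle_stab (hd.trans_eq hdimF)
  obtain ⟨f, hf𝔭, hflat, hCMq, hdimq⟩ := exists_slice_one_step τ 𝔭 q hqτ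
    (G.R.presheaf.stalk (G.e u)) hCM' hlt
  rw [← h𝔭def, ← hqdef, ← hτdef]
  refine ⟨f, hf𝔭, hqτ f hf𝔭, ?_⟩
  obtain ⟨J, hJdef⟩ : ∃ J : Ideal Γ(G.R, R₀), J = (Ideal.span {f}).map τ := ⟨_, rfl⟩
  rw [← hJdef]
  have hJq : J ≤ q := by
    rw [hJdef, Ideal.map_span, Set.image_singleton, Ideal.span_le, Set.singleton_subset_iff]
    exact hqτ f hf𝔭
  have hJL : J.map (algebraMap Γ(G.R, R₀) (G.R.presheaf.stalk (G.e u))) =
      Ideal.span {algebraMap Γ(G.R, R₀) (G.R.presheaf.stalk (G.e u)) (τ f)} := by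
    rw [hJdef, Ideal.map_span, Set.image_singleton, Ideal.map_span, Set.image_singleton]
  rw [← hJL] at hflat hCMq hdimq
  intro c _ hc
  obtain ⟨e2⟩ := nonempty_closedFibre_equiv q J hJq (G.R.presheaf.stalk (G.e u))
    (c.comap ((Ideal.Quotient.mk J).comp (algebraMap Γ(G.U, U₀) Γ(G.R, R₀)))) c hc rfl
  refine ⟨?_, ?_, ?_⟩
  · exact localRingHom_flat_of_flat_quot q J hJq (G.R.presheaf.stalk (G.e u))
      (c.comap ((Ideal.Quotient.mk J).comp (algebraMap Γ(G.U, U₀) Γ(G.R, R₀)))) c hc rfl hflat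
  · exact (Groth.Agent.Lib.Helper23.CMMor.cm_of_ringEquiv_iff e2).mpr hCMq
  · rw [hdimF, ← hdimq]
    exact congrArg (· + 1) (ringKrullDim_eq_of_ringEquiv e2)

end Groth.Agent.Lib.Helper20.HM
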