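import Mathlib
import Groth.Agent.Lib.Helper20.HM16

/-!
# HM17: one-step slicing of a groupoid scheme: the geometric statement
-/

set_option autoImplicit false
set_option linter.style.haveILetI false
set_option linter.unusedSectionVars false
universe u
open CategoryTheory CategoryTheory.Limits AlgebraicGeometry

namespace Groth.Agent.Lib.Helper20.HM

open Grpd Groth.Agent.Lib27.LocalCore

variable {S : Scheme.{u}} (G : GroupoidScheme S)

set_option maxHeartbeats 3200000 in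
theorem exists_slice_step [LocallyOfFinitePresentation G.s]
    (hs : ∀ r : G.R, Grpd.IsCMAt G.s r) (u : G.U)
    (hu : LocallyOfFiniteType (G.U.fromSpecResidueField u))
    (hd : topologicalKrullDim ↥(G.stabilizerToU.fiber u) < FlatMor.fibreDimAt G.s (G.e u)) :
    ∃ (U' : Scheme.{u}) (_ : IsAffine U') (g : U' ⟶ G.U) (u' : U') (p : ↑(pullback g G.t)),
      IsImmersion g ∧ LocallyOfFinitePresentation g ∧ g u' = u ∧ pullback.fst g G.t p = u' ∧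
      pullback.snd g G.t p = G.e u ∧ Grpd.IsCMAt (pullback.snd g G.t ≫ G.s) p ∧
      FlatMor.fibreDimAt (pullback.snd g G.t ≫ G.s) p + 1 = FlatMor.fibreDimAt G.s (G.e u) := by
  classical
  obtain ⟨U₀, R₀, hU₀, hR₀, hu₀, hcl, hs₀, ht₀, he₀⟩ := exists_chart G u hu
  obtain ⟨f, hf𝔭, hτfq, hmain⟩ := exists_ring_slice_one G hs hU₀ hR₀ u hu₀ hcl hs₀ ht₀ he₀ hd
  obtain ⟨σ₀, hσ₀⟩ : ∃ σ₀ : Γ(G.U, U₀) ⟶ Γ(G.R, R₀), σ₀ = G.s.appLE U₀ R₀ hs₀ := ⟨_, rfl⟩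
  obtain ⟨τ₀, hτ₀⟩ : ∃ τ₀ : Γ(G.U, U₀) ⟶ Γ(G.R, R₀), τ₀ = G.t.appLE U₀ R₀ ht₀ := ⟨_, rfl⟩
  rw [← hσ₀, ← hτ₀] at hmain
  rw [← hτ₀] at hτfq
  obtain ⟨I, hIdef⟩ : ∃ I : Ideal Γ(G.U, U₀), I = Ideal.span {f} := ⟨_, rfl⟩
  rw [← hIdef] at hmain
  have hI𝔭 : I ≤ (hU₀.primeIdealOf ⟨u, hu₀⟩).asIdeal := by
    rw [hIdef, Ideal.span_le, Set.singleton_subset_iff]
    exact hf𝔭
  have hJq : I.map τ₀.hom ≤ (hR₀.primeIdealOf ⟨G.e u, he₀ hu₀⟩).asIdeal := by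
    rw [hIdef, Ideal.map_span, Set.image_singleton, Ideal.span_le, Set.singleton_subset_iff]
    exact hτfq
  have hIkill : ∀ a ∈ I, (Ideal.Quotient.mk (I.map τ₀.hom)).comp τ₀.hom a = 0 := by
    intro a ha
    rw [RingHom.comp_apply, Ideal.Quotient.eq_zero_iff_mem]
    exact Ideal.mem_map_of_mem _ ha
  have hpo := isPushout_quotient τ₀ I hIkill
  have hpb := isPullback_SpecMap_of_isPushout _ _ _ _ hpo
  obtain ⟨mkI, hmkI⟩ : ∃ mkI : Γ(G.U, U₀) ⟶ CommRingCat.of (Γ(G.U, U₀) ⧸ I),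
    mkI = CommRingCat.ofHom (Ideal.Quotient.mk I) := ⟨_, rfl⟩
  obtain ⟨φ₁, hφ₁⟩ : ∃ φ₁ : CommRingCat.of (Γ(G.U, U₀) ⧸ I) ⟶
      CommRingCat.of (Γ(G.R, R₀) ⧸ I.map τ₀.hom),
    φ₁ = CommRingCat.ofHom (Ideal.Quotient.lift I
      ((Ideal.Quotient.mk (I.map τ₀.hom)).comp τ₀.hom) hIkill) := ⟨_, rfl⟩
  rw [← hmkI, ← hφ₁] at hpb
  -- the slice
  let g₀ : Spec (CommRingCat.of (Γ(G.U, U₀) ⧸ I)) ⟶ G.U := Spec.map mkI ≫ hU₀.fromSpec
  haveI : IsClosedImmersion (Spec.map mkI) := by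
    rw [hmkI]
    exact IsClosedImmersion.spec_of_surjective _ Ideal.Quotient.mk_surjective
  haveI : LocallyOfFinitePresentation (Spec.map mkI) := by
    rw [LocallyOfFinitePresentation.SpecMap_iff, hmkI]
    refine RingHom.FinitePresentation.of_surjective _ Ideal.Quotient.mk_surjective ?_
    change (RingHom.ker (Ideal.Quotient.mk I)).FG
    rw [Ideal.mk_ker, hIdef]
    exact ⟨{f}, by simp⟩
  have hg₀imm : IsImmersion g₀ := inferInstance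
  have hg₀fp : LocallyOfFinitePresentation g₀ := inferInstance
  -- the open immersion into `T`
  have e₁ : Spec.map mkI ≫ hU₀.fromSpec = 𝟙 _ ≫ g₀ := (Category.id_comp _).symm
  have e₂ : Spec.map τ₀ ≫ hU₀.fromSpec = hR₀.fromSpec ≫ G.t := by
    rw [hτ₀]
    exact IsAffineOpen.SpecMap_appLE_fromSpec G.t hU₀ hR₀ ht₀
  let k : pullback (Spec.map mkI) (Spec.map τ₀) ⟶ T G g₀ :=
    pullback.map (Spec.map mkI) (Spec.map τ₀) g₀ G.t (𝟙 _) hR₀.fromSpec hU₀.fromSpec e₁ e₂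
  let w : Spec (CommRingCat.of (Γ(G.R, R₀) ⧸ I.map τ₀.hom)) ⟶ T G g₀ :=
    hpb.isoPullback.hom ≫ k
  haveI : IsOpenImmersion k := inferInstance
  haveI : IsOpenImmersion w := inferInstance
  have hwρ : w ≫ pullback.snd g₀ G.t =
      Spec.map (CommRingCat.ofHom (Ideal.Quotient.mk (I.map τ₀.hom))) ≫ hR₀.fromSpec := by
    change (hpb.isoPullback.hom ≫ k) ≫ pullback.snd g₀ G.t = _
    rw [Category.assoc, pullback.lift_snd, ← Category.assoc, IsPullback.isoPullback_hom_snd]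
  have hwh : w ≫ hT G g₀ =
      Spec.map (σ₀ ≫ CommRingCat.ofHom (Ideal.Quotient.mk (I.map τ₀.hom))) ≫ hU₀.fromSpec := by
    rw [← Category.assoc, hwρ, Category.assoc, Spec.map_comp, Category.assoc, hσ₀,
      IsAffineOpen.SpecMap_appLE_fromSpec G.s hU₀ hR₀ hs₀]
  -- the point
  have hkerle : RingHom.ker (Ideal.Quotient.mk (I.map τ₀.hom)) ≤
      (hR₀.primeIdealOf ⟨G.e u, he₀ hu₀⟩).asIdeal := by
    rw [Ideal.mk_ker]; exact hJq
  let c : Spec (CommRingCat.of (Γ(G.R, R₀) ⧸ I.map τ₀.hom)) :=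
    ⟨(hR₀.primeIdealOf ⟨G.e u, he₀ hu₀⟩).asIdeal.map (Ideal.Quotient.mk (I.map τ₀.hom)),
      Ideal.map_isPrime_of_surjective Ideal.Quotient.mk_surjective hkerle⟩
  have hc1 : Spec.map (CommRingCat.ofHom (Ideal.Quotient.mk (I.map τ₀.hom))) c =
      hR₀.primeIdealOf ⟨G.e u, he₀ hu₀⟩ := by
    apply PrimeSpectrum.ext
    change ((hR₀.primeIdealOf ⟨G.e u, he₀ hu₀⟩).asIdeal.map
      (Ideal.Quotient.mk (I.map τ₀.hom))).comap (Ideal.Quotient.mk (I.map τ₀.hom)) = _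
    rw [Ideal.comap_map_of_surjective _ Ideal.Quotient.mk_surjective, ← RingHom.ker_eq_comap_bot]
    exact sup_eq_left.mpr hkerle
  obtain ⟨p, hpdef⟩ : ∃ p : ↑(T G g₀), p = w c := ⟨_, rfl⟩
  have hpsnd : pullback.snd g₀ G.t p = G.e u := by
    rw [hpdef, ← Scheme.Hom.comp_apply, hwρ, Scheme.Hom.comp_apply, hc1]
    exact hR₀.fromSpec_primeIdealOf ⟨G.e u, he₀ hu₀⟩
  obtain ⟨u', hu'def⟩ : ∃ u' : ↑(Spec (CommRingCat.of (Γ(G.U, U₀) ⧸ I))),
    u' = pullback.fst g₀ G.t p := ⟨_, rfl⟩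
  have hg₀u' : g₀ u' = u := by
    rw [hu'def, ← Scheme.Hom.comp_apply, pullback.condition, Scheme.Hom.comp_apply, hpsnd]
    exact e_t_apply G u
  have hpε : p = ε G g₀ u' := by
    haveI : Mono g₀ := inferInstance
    haveI : Mono (pullback.snd g₀ G.t) := pullback.snd_of_mono
    apply Scheme.Hom.injective (pullback.snd g₀ G.t)
    rw [hpsnd, ← Scheme.Hom.comp_apply, ε_snd, Scheme.Hom.comp_apply, hg₀u']
  haveI hcprime : c.asIdeal.IsPrime := c.isPrime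
  obtain ⟨hfl, hCM, hdim⟩ := hmain c.asIdeal rfl
  have hflp := (flat_iff_of_chart (hT G g₀)
    (σ₀ ≫ CommRingCat.ofHom (Ideal.Quotient.mk (I.map τ₀.hom))) w hU₀.fromSpec hwh c).mpr hfl
  obtain ⟨e1⟩ := nonempty_closedFibre_equiv_of_chart (hT G g₀)
    (σ₀ ≫ CommRingCat.ofHom (Ideal.Quotient.mk (I.map τ₀.hom))) w hU₀.fromSpec hwh c
  have hCMp := (Groth.Agent.Lib.Helper23.CMMor.cm_of_ringEquiv_iff e1).mpr hCM
  have hdimp := ringKrullDim_eq_of_ringEquiv e1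
  rw [← hpdef] at hflp hCMp hdimp
  haveI : LocallyOfFiniteType (hT G g₀) := inferInstance
  obtain ⟨a', b', ha', hb', hab'⟩ :=
    Groth.Agent.Lib.Helper21.FibDim.exists_fibreDimAt_eq_add (hT G g₀) p
  have hbCF' := Groth.Agent.Lib.Helper14.AS.ringKrullDim_fiber_stalk (hT G g₀) p
  have ha0' : a' = 0 := by
    haveI : SurjectiveOnStalks (ε G g₀ ≫ hT G g₀) := by rw [ε_hT]; infer_instance
    have h0 := trdeg_eq_zero_of_section (hT G g₀) (ε G g₀) u'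
    rw [← hpε] at h0
    rw [h0] at ha'
    exact_mod_cast ha'.symm
  refine ⟨_, inferInstance, g₀, u', p, hg₀imm, hg₀fp, hg₀u', hu'def.symm, hpsnd, ⟨hflp, hCMp⟩, ?_⟩
  change FlatMor.fibreDimAt (hT G g₀) p + 1 = _
  rw [hab', ha0', zero_add, ← hb', hbCF', ← hdim]
  exact congrArg (· + 1) hdimp

end Groth.Agent.Lib.Helper20.HM
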