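import Mathlib
import Groth.Agent.Lib.Helper20.HM12

/-!
# HM18: multi-step slicing at ring level

In a Cohen–Macaulay local ring `F` with an ideal `𝔭F ⊂ 𝔪`, there is a sequence in (the image of)
`𝔭` which is regular, with Cohen–Macaulay quotient of dimension `dim F/𝔭F`.
-/

set_option autoImplicit false
set_option linter.style.haveILetI false
set_option linter.unusedSectionVars false
universe u
open IsLocalRing Pointwise

namespace Groth.Agent.Lib.Helper20.HM

open Groth.Agent.Lib27.LocalCore Groth.Agent.Lib.Helper23.QFFlat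

theorem exists_params_of_dim_aux (A : Type u) [CommRing A] (𝔭 : Ideal A) :
    ∀ (n : ℕ) (F : Type u) [CommRing F] [IsLocalRing F] [IsNoetherianRing F]
      (_ : LocCoh.IsCohenMacaulayLocalRing F) (ψ : A →+* F),
      ringKrullDim F ≤ n → 𝔭.map ψ ≤ maximalIdeal F →
      ∃ fs : List A, (∀ f ∈ fs, f ∈ 𝔭) ∧
        ringKrullDim (F ⧸ Ideal.ofList (fs.map ψ)) + (fs.length : WithBot ℕ∞) = ringKrullDim F ∧
        ringKrullDim (F ⧸ Ideal.ofList (fs.map ψ)) = ringKrullDim (F ⧸ 𝔭.map ψ) ∧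
        LocCoh.IsCohenMacaulayLocalRing (F ⧸ Ideal.ofList (fs.map ψ)) := by
  classical
  -- the terminal case
  have hterm : ∀ (F : Type u) [CommRing F] [IsLocalRing F] [IsNoetherianRing F]
      (_ : LocCoh.IsCohenMacaulayLocalRing F) (ψ : A →+* F),
      ¬ (ringKrullDim (F ⧸ 𝔭.map ψ) < ringKrullDim F) →
      ∃ fs : List A, (∀ f ∈ fs, f ∈ 𝔭) ∧
        ringKrullDim (F ⧸ Ideal.ofList (fs.map ψ)) + (fs.length : WithBot ℕ∞) = ringKrullDim F ∧
        ringKrullDim (F ⧸ Ideal.ofList (fs.map ψ)) = ringKrullDim (F ⧸ 𝔭.map ψ) ∧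
        LocCoh.IsCohenMacaulayLocalRing (F ⧸ Ideal.ofList (fs.map ψ)) := by
    intro F _ _ _ hCM ψ hnlt
    have hbot : Ideal.ofList (([] : List A).map ψ) = ⊥ := by
      rw [List.map_nil, Ideal.ofList_nil]
    have e : (F ⧸ Ideal.ofList (([] : List A).map ψ)) ≃+* F :=
      (Ideal.quotEquivOfEq hbot).trans (RingEquiv.quotientBot F)
    have hd : ringKrullDim (F ⧸ Ideal.ofList (([] : List A).map ψ)) = ringKrullDim F :=
      ringKrullDim_eq_of_ringEquiv e
    refine ⟨[], by simp, ?_, ?_, ?_⟩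
    · rw [hd]; simp
    · rw [hd]
      apply le_antisymm (not_lt.mp hnlt)
      exact ringKrullDim_le_of_surjective (Ideal.Quotient.mk (𝔭.map ψ))
        Ideal.Quotient.mk_surjective
    · exact (Groth.Agent.Lib.Helper23.CMMor.cm_of_ringEquiv_iff e).mpr hCM
  -- the inductive step
  have hstep : ∀ (n : ℕ), (∀ (F : Type u) [CommRing F] [IsLocalRing F] [IsNoetherianRing F]
      (_ : LocCoh.IsCohenMacaulayLocalRing F) (ψ : A →+* F),
      ringKrullDim F ≤ n → 𝔭.map ψ ≤ maximalIdeal F →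
      ∃ fs : List A, (∀ f ∈ fs, f ∈ 𝔭) ∧
        ringKrullDim (F ⧸ Ideal.ofList (fs.map ψ)) + (fs.length : WithBot ℕ∞) = ringKrullDim F ∧
        ringKrullDim (F ⧸ Ideal.ofList (fs.map ψ)) = ringKrullDim (F ⧸ 𝔭.map ψ) ∧
        LocCoh.IsCohenMacaulayLocalRing (F ⧸ Ideal.ofList (fs.map ψ))) →
      ∀ (F : Type u) [CommRing F] [IsLocalRing F] [IsNoetherianRing F]
      (_ : LocCoh.IsCohenMacaulayLocalRing F) (ψ : A →+* F),
      ringKrullDim F ≤ (n + 1 : ℕ) → 𝔭.map ψ ≤ maximalIdeal F →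
      ringKrullDim (F ⧸ 𝔭.map ψ) < ringKrullDim F →
      ∃ fs : List A, (∀ f ∈ fs, f ∈ 𝔭) ∧
        ringKrullDim (F ⧸ Ideal.ofList (fs.map ψ)) + (fs.length : WithBot ℕ∞) = ringKrullDim F ∧
        ringKrullDim (F ⧸ Ideal.ofList (fs.map ψ)) = ringKrullDim (F ⧸ 𝔭.map ψ) ∧
        LocCoh.IsCohenMacaulayLocalRing (F ⧸ Ideal.ofList (fs.map ψ)) := by
    intro n ih F _ _ _ hCM ψ hdim hle hlt
    haveI := hCM
    obtain ⟨f, hf𝔭, hreg, hdrop⟩ := exists_regular_param hCM.supportDim_eq_depth ψ 𝔭 hle hlt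
    have hψf : ψ f ∈ maximalIdeal F := hle (Ideal.mem_map_of_mem ψ hf𝔭)
    set I : Ideal F := Ideal.span {ψ f} with hI
    have hItop : I ≠ ⊤ := by
      intro h
      have : I ≤ maximalIdeal F := by
        rw [hI, Ideal.span_le, Set.singleton_subset_iff]
        exact hψf
      exact (maximalIdeal.isMaximal F).ne_top (top_le_iff.mp (h ▸ this))
    haveI hloc : IsLocalRing (F ⧸ I) := isLocalRing_quot I hItop
    have hcm := comap_mk_maximalIdeal I
    have hCM₁ : LocCoh.IsCohenMacaulayLocalRing (F ⧸ I) :=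
      Groth.Agent.Lib.Helper8.CMQ.cm_local_quot (ψ f) hψf hreg
    have hdim' : ringKrullDim (F ⧸ I) ≤ n := by
      have h1 : ringKrullDim (F ⧸ I) + 1 ≤ ((n : ℕ) : WithBot ℕ∞) + 1 := by
        rw [hdrop]
        refine hdim.trans ?_
        push_cast
        exact le_rfl
      have hnb : ringKrullDim (F ⧸ I) ≠ ⊥ := ringKrullDim_ne_bot
      obtain ⟨d, hd⟩ := WithBot.ne_bot_iff_exists.mp hnb
      rw [← hd] at h1 ⊢
      have h2 : ((d + 1 : ℕ∞) : WithBot ℕ∞) ≤ (((n : ℕ∞) + 1 : ℕ∞) : WithBot ℕ∞) := by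
        simpa using h1
      have h3 : d + 1 ≤ (n : ℕ∞) + 1 := WithBot.coe_le_coe.mp h2
      have h4 : d ≤ (n : ℕ∞) := (ENat.add_le_add_iff_right ENat.one_ne_top).mp h3
      exact_mod_cast WithBot.coe_le_coe.mpr h4
    set ψ' : A →+* F ⧸ I := (Ideal.Quotient.mk I).comp ψ with hψ'
    have hmap : 𝔭.map ψ' = (𝔭.map ψ).map (Ideal.Quotient.mk I) := by
      rw [hψ', Ideal.map_map]
    have hle' : 𝔭.map ψ' ≤ maximalIdeal (F ⧸ I) := by
      rw [hmap, Ideal.map_le_iff_le_comap, hcm]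
      exact hle
    obtain ⟨fs, hfs𝔭, hlen, hdimq, hCMq⟩ := ih (F ⧸ I) hCM₁ ψ' hdim' hle'
    -- the two ring isomorphisms
    have hofl : (Ideal.ofList (fs.map ψ)).map (Ideal.Quotient.mk I) = Ideal.ofList (fs.map ψ') := by
      rw [Ideal.map_ofList, List.map_map]
      rfl
    have e1 : ((F ⧸ I) ⧸ Ideal.ofList (fs.map ψ')) ≃+*
        (F ⧸ Ideal.ofList ((f :: fs).map ψ)) :=
      (Ideal.quotEquivOfEq hofl.symm).trans
        ((DoubleQuot.quotQuotEquivQuotSup I (Ideal.ofList (fs.map ψ))).trans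
          (Ideal.quotEquivOfEq (by rw [List.map_cons, Ideal.ofList_cons])))
    have hsup : I ⊔ 𝔭.map ψ = 𝔭.map ψ := by
      apply sup_eq_right.mpr
      rw [hI, Ideal.span_le, Set.singleton_subset_iff]
      exact Ideal.mem_map_of_mem ψ hf𝔭
    have e2 : ((F ⧸ I) ⧸ 𝔭.map ψ') ≃+* (F ⧸ 𝔭.map ψ) :=
      (Ideal.quotEquivOfEq hmap).trans
        ((DoubleQuot.quotQuotEquivQuotSup I (𝔭.map ψ)).trans (Ideal.quotEquivOfEq hsup))
    refine ⟨f :: fs, ?_, ?_, ?_, ?_⟩
    · intro g hg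
      rcases List.mem_cons.mp hg with rfl | hg
      · exact hf𝔭
      · exact hfs𝔭 g hg
    · rw [← ringKrullDim_eq_of_ringEquiv e1, ← hdrop, ← hlen, List.length_cons]
      push_cast
      rw [add_assoc]
    · rw [← ringKrullDim_eq_of_ringEquiv e1, hdimq, ringKrullDim_eq_of_ringEquiv e2]
    · exact (Groth.Agent.Lib.Helper23.CMMor.cm_of_ringEquiv_iff e1).mp hCMq
  intro n
  induction n with
  | zero =>
    intro F _ _ _ hCM ψ hdim hle
    by_cases hlt : ringKrullDim (F ⧸ 𝔭.map ψ) < ringKrullDim F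
    · exfalso
      haveI := hCM
      obtain ⟨f, hf𝔭, hreg, hdrop⟩ := exists_regular_param hCM.supportDim_eq_depth ψ 𝔭 hle hlt
      have hψf : ψ f ∈ maximalIdeal F := hle (Ideal.mem_map_of_mem ψ hf𝔭)
      have hItop : Ideal.span {ψ f} ≠ ⊤ := by
        intro h
        have : Ideal.span {ψ f} ≤ maximalIdeal F := by
          rw [Ideal.span_le, Set.singleton_subset_iff]
          exact hψf
        exact (maximalIdeal.isMaximal F).ne_top (top_le_iff.mp (h ▸ this))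
      haveI : Nontrivial (F ⧸ Ideal.span {ψ f}) := Ideal.Quotient.nontrivial_iff.mpr hItop
      have h0 : (0 : WithBot ℕ∞) ≤ ringKrullDim (F ⧸ Ideal.span {ψ f}) :=
        ringKrullDim_nonneg_of_nontrivial
      have h1 : (1 : WithBot ℕ∞) ≤ ringKrullDim F := by
        rw [← hdrop]
        calc (1 : WithBot ℕ∞) = 0 + 1 := by simp
          _ ≤ ringKrullDim (F ⧸ Ideal.span {ψ f}) + 1 := add_le_add_left h0 1
      have h2 : (1 : WithBot ℕ∞) ≤ ((0 : ℕ) : WithBot ℕ∞) := h1.trans hdim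
      have h3 : ((1 : ℕ) : WithBot ℕ∞) ≤ ((0 : ℕ) : WithBot ℕ∞) := by simpa using h2
      have h4 : (1 : ℕ) ≤ 0 := by exact_mod_cast h3
      omega
    · exact hterm F hCM ψ hlt
  | succ n ih =>
    intro F _ _ _ hCM ψ hdim hle
    by_cases hlt : ringKrullDim (F ⧸ 𝔭.map ψ) < ringKrullDim F
    · exact hstep n ih F hCM ψ hdim hle hlt
    · exact hterm F hCM ψ hlt

theorem exists_params_of_dim {A F : Type u} [CommRing A] [CommRing F] [IsLocalRing F]
    [IsNoetherianRing F] (hCM : LocCoh.IsCohenMacaulayLocalRing F) (ψ : A →+* F) (𝔭 : Ideal A)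
    (hle : 𝔭.map ψ ≤ maximalIdeal F) :
    ∃ fs : List A, (∀ f ∈ fs, f ∈ 𝔭) ∧
      ringKrullDim (F ⧸ Ideal.ofList (fs.map ψ)) + (fs.length : WithBot ℕ∞) = ringKrullDim F ∧
      ringKrullDim (F ⧸ Ideal.ofList (fs.map ψ)) = ringKrullDim (F ⧸ 𝔭.map ψ) ∧
      LocCoh.IsCohenMacaulayLocalRing (F ⧸ Ideal.ofList (fs.map ψ)) := by
  have hnb : ringKrullDim F ≠ ⊥ := ringKrullDim_ne_bot
  have hnt : ringKrullDim F ≠ ⊤ := ringKrullDim_ne_top
  obtain ⟨d, hd⟩ := WithBot.ne_bot_iff_exists.mp hnb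
  have hdt : d ≠ ⊤ := by
    intro h
    apply hnt
    rw [← hd, h]
    rfl
  obtain ⟨n, hn⟩ := ENat.ne_top_iff_exists.mp hdt
  have hdimF : ringKrullDim F = ((n : ℕ) : WithBot ℕ∞) := by
    rw [← hd, ← hn]
    rfl
  exact exists_params_of_dim_aux A 𝔭 n F hCM ψ (le_of_eq hdimF) hle

set_option maxHeartbeats 1600000 in
/-- **Multi-step ring-level slicing.** -/
theorem exists_slice_multi_step {A B : Type u} [CommRing A] [CommRing B] [Algebra A B]
    [Algebra.FinitePresentation A B] [Module.Flat A B]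
    (τ : A →+* B) (𝔭 : Ideal A) (q : Ideal B) [q.IsPrime]
    (hqτ : ∀ a ∈ 𝔭, τ a ∈ q)
    (L : Type u) [CommRing L] [Algebra B L] [Algebra A L] [IsScalarTower A B L]
    [IsLocalization.AtPrime L q]
    (hCM : LocCoh.IsCohenMacaulayLocalRing (L ⧸ fibIdeal (A := A) q L)) :
    ∃ fs : List A, (∀ f ∈ fs, f ∈ 𝔭) ∧
      Module.Flat A (L ⧸ Ideal.ofList ((fs.map τ).map (algebraMap B L))) ∧
      LocCoh.IsCohenMacaulayLocalRing
        (L ⧸ (fibIdeal (A := A) q L ⊔ Ideal.ofList ((fs.map τ).map (algebraMap B L)))) ∧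
      ringKrullDim (L ⧸ (fibIdeal (A := A) q L ⊔
          Ideal.ofList ((fs.map τ).map (algebraMap B L)))) =
        ringKrullDim ((L ⧸ fibIdeal (A := A) q L) ⧸
          𝔭.map ((Ideal.Quotient.mk (fibIdeal (A := A) q L)).comp ((algebraMap B L).comp τ))) := by
  classical
  haveI : IsLocalRing L := IsLocalization.AtPrime.isLocalRing L q
  haveI : Module.Flat B L := IsLocalization.flat L q.primeCompl
  haveI : Module.Flat A L := Module.Flat.trans A B L
  set I' : Ideal L := fibIdeal (A := A) q L with hI'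
  haveI hCMi : LocCoh.IsCohenMacaulayLocalRing (L ⧸ I') := hCM
  haveI : IsLocalRing (L ⧸ I') := inferInstance
  haveI : IsNoetherianRing (L ⧸ I') := inferInstance
  have hcm := comap_mk_maximalIdeal I'
  set ψ : A →+* L ⧸ I' := (Ideal.Quotient.mk I').comp ((algebraMap B L).comp τ) with hψ
  have hle : 𝔭.map ψ ≤ maximalIdeal (L ⧸ I') := by
    rw [Ideal.map_le_iff_le_comap]
    intro a ha
    rw [Ideal.mem_comap, hψ, RingHom.comp_apply, ← Ideal.mem_comap, hcm, RingHom.comp_apply]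
    exact (IsLocalization.AtPrime.to_map_mem_maximal_iff L q (τ a)).mpr (hqτ a ha)
  obtain ⟨fs, hfs𝔭, hlen, hdimq, hCMq⟩ := exists_params_of_dim hCMi ψ 𝔭 hle
  refine ⟨fs, hfs𝔭, ?_⟩
  obtain ⟨hs, hhs⟩ : ∃ hs : List L, hs = (fs.map τ).map (algebraMap B L) := ⟨_, rfl⟩
  have hmapψ : fs.map ψ = hs.map (algebraMap L (L ⧸ I')) := by
    rw [hhs, List.map_map, List.map_map]
    rfl
  rw [← hhs]
  have hxs : ∀ x ∈ fs.map ψ, x ∈ maximalIdeal (L ⧸ I') := by
    intro x hx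
    obtain ⟨g, hg, rfl⟩ := List.mem_map.mp hx
    exact hle (Ideal.mem_map_of_mem ψ (hfs𝔭 g hg))
  have hregF : RingTheory.Sequence.IsWeaklyRegular (L ⧸ I') (fs.map ψ) := by
    rw [Groth.Agent.Lib.Helper16.CICot.isWeaklyRegular_iff_dim hCMi.supportDim_eq_depth
      (fs.map ψ) hxs, List.length_map]
    exact hlen
  rw [hmapψ] at hregF hdimq hCMq
  have e : ((L ⧸ I') ⧸ Ideal.ofList (hs.map (algebraMap L (L ⧸ I')))) ≃+*
      (L ⧸ (I' ⊔ Ideal.ofList hs)) :=
    (Ideal.quotEquivOfEq (Ideal.map_ofList _ _).symm).trans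
      (DoubleQuot.quotQuotEquivQuotSup I' (Ideal.ofList hs))
  refine ⟨?_, ?_, ?_⟩
  · have hreg : RingTheory.Sequence.IsWeaklyRegular (L ⧸ I' • (⊤ : Submodule L L)) hs := by
      have h1 : RingTheory.Sequence.IsWeaklyRegular (L ⧸ I') hs :=
        (RingTheory.Sequence.isWeaklyRegular_map_algebraMap_iff (L ⧸ I') (L ⧸ I') hs).mp hregF
      have hsm : (I' • (⊤ : Submodule L L)) = I' := by rw [smul_eq_mul, Ideal.mul_top]
      exact ((Submodule.quotEquivOfEq _ _ hsm).isWeaklyRegular_congr hs).mpr h1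
    have h1 := flat_quot_ofList (A := A) q L hs L hreg
    have hsm : (Ideal.ofList hs • (⊤ : Submodule L L)) = Ideal.ofList hs := by
      rw [smul_eq_mul, Ideal.mul_top]
    exact Module.Flat.of_linearEquiv ((Submodule.quotEquivOfEq _ _ hsm).restrictScalars A).symm
  · exact (Groth.Agent.Lib.Helper23.CMMor.cm_of_ringEquiv_iff e).mp hCMq
  · rw [← ringKrullDim_eq_of_ringEquiv e]
    exact hdimq

end Groth.Agent.Lib.Helper20.HM
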