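import Mathlib
import Groth.Agent.Lib.Helper20.HM16
import Groth.Agent.Lib.Helper20.HM18
import Groth.Agent.Lib.Helper20.HM19
import Groth.Agent.Lib.Helper20.HM20

/-!
# HM21: ring-level data for the all-at-once slice of a groupoid with Cohen–Macaulay source map
-/

set_option autoImplicit false
set_option linter.style.haveILetI false
set_option linter.unusedSectionVars false
universe u
open CategoryTheory CategoryTheory.Limits AlgebraicGeometry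

namespace Groth.Agent.Lib.Helper20.HM

open Grpd Groth.Agent.Lib27.LocalCore

variable {S : Scheme.{u}} (G : GroupoidScheme S)

set_option maxHeartbeats 3200000 in
theorem exists_ring_slice_all [LocallyOfFinitePresentation G.s]
    (hs : ∀ r : G.R, Grpd.IsCMAt G.s r)
    {U₀ : G.U.Opens} {R₀ : G.R.Opens} (hU₀ : IsAffineOpen U₀) (hR₀ : IsAffineOpen R₀) (u : G.U)
    (hu₀ : u ∈ U₀) (hcl : IsClosed ({⟨u, hu₀⟩} : Set ↥U₀)) (hs₀ : R₀ ≤ G.s ⁻¹ᵁ U₀)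
    (ht₀ : R₀ ≤ G.t ⁻¹ᵁ U₀) (he₀ : U₀ ≤ G.e ⁻¹ᵁ R₀) :
    ∃ fs : List Γ(G.U, U₀), (∀ f ∈ fs, f ∈ (hU₀.primeIdealOf ⟨u, hu₀⟩).asIdeal) ∧
      (Ideal.ofList fs).map (G.t.appLE U₀ R₀ ht₀).hom ≤
        (hR₀.primeIdealOf ⟨G.e u, he₀ hu₀⟩).asIdeal ∧
      ∀ (c : Ideal (Γ(G.R, R₀) ⧸ (Ideal.ofList fs).map (G.t.appLE U₀ R₀ ht₀).hom)) [c.IsPrime],
        c = (hR₀.primeIdealOf ⟨G.e u, he₀ hu₀⟩).asIdeal.map (Ideal.Quotient.mk _) →
        (Localization.localRingHom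
          (c.comap ((Ideal.Quotient.mk ((Ideal.ofList fs).map (G.t.appLE U₀ R₀ ht₀).hom)).comp
            (G.s.appLE U₀ R₀ hs₀).hom)) c
          ((Ideal.Quotient.mk ((Ideal.ofList fs).map (G.t.appLE U₀ R₀ ht₀).hom)).comp
            (G.s.appLE U₀ R₀ hs₀).hom) rfl).Flat ∧
        LocCoh.IsCohenMacaulayLocalRing (Localization.AtPrime c ⧸
          (IsLocalRing.maximalIdeal (Localization.AtPrime
            (c.comap ((Ideal.Quotient.mk ((Ideal.ofList fs).map (G.t.appLE U₀ R₀ ht₀).hom)).comp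
              (G.s.appLE U₀ R₀ hs₀).hom)))).map
          (Localization.localRingHom
            (c.comap ((Ideal.Quotient.mk ((Ideal.ofList fs).map (G.t.appLE U₀ R₀ ht₀).hom)).comp
              (G.s.appLE U₀ R₀ hs₀).hom)) c
            ((Ideal.Quotient.mk ((Ideal.ofList fs).map (G.t.appLE U₀ R₀ ht₀).hom)).comp
              (G.s.appLE U₀ R₀ hs₀).hom) rfl)) ∧
        ringKrullDim (Localization.AtPrime c ⧸
          (IsLocalRing.maximalIdeal (Localization.AtPrime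
            (c.comap ((Ideal.Quotient.mk ((Ideal.ofList fs).map (G.t.appLE U₀ R₀ ht₀).hom)).comp
              (G.s.appLE U₀ R₀ hs₀).hom)))).map
          (Localization.localRingHom
            (c.comap ((Ideal.Quotient.mk ((Ideal.ofList fs).map (G.t.appLE U₀ R₀ ht₀).hom)).comp
              (G.s.appLE U₀ R₀ hs₀).hom)) c
            ((Ideal.Quotient.mk ((Ideal.ofList fs).map (G.t.appLE U₀ R₀ ht₀).hom)).comp
              (G.s.appLE U₀ R₀ hs₀).hom) rfl)) =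
          topologicalKrullDim ↥(G.stabilizerToU.fiber u) := by
  classical
  have heuR₀ : G.e u ∈ R₀ := he₀ hu₀
  have hseu : G.s (G.e u) = u := e_s_apply G u
  have hfp : RingHom.FinitePresentation (G.s.appLE U₀ R₀ hs₀).hom :=
    HasRingHomProperty.appLE (P := @LocallyOfFinitePresentation) G.s inferInstance ⟨U₀, hU₀⟩
      ⟨R₀, hR₀⟩ hs₀
  haveI hflat_s : Flat G.s := by
    rw [Flat.iff_flat_stalkMap]
    exact fun r => (hs r).1
  have hfl : RingHom.Flat (G.s.appLE U₀ R₀ hs₀).hom :=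
    HasRingHomProperty.appLE (P := @Flat) G.s inferInstance ⟨U₀, hU₀⟩ ⟨R₀, hR₀⟩ hs₀
  algebraize [(G.s.appLE U₀ R₀ hs₀).hom]
  have hxR₀ : G.e u ∈ R₀ := heuR₀
  have hfxW : G.s (G.e u) ∈ U₀ := hs₀ hxR₀
  letI algBL : Algebra Γ(G.R, R₀) (G.R.presheaf.stalk (G.e u)) :=
    G.R.presheaf.algebra_section_stalk ⟨(G.e u), hxR₀⟩
  haveI locL : IsLocalization.AtPrime (G.R.presheaf.stalk (G.e u))
      (hR₀.primeIdealOf ⟨(G.e u), hxR₀⟩).asIdeal := hR₀.isLocalization_stalk ⟨(G.e u), hxR₀⟩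
  letI algAL : Algebra Γ(G.U, U₀) (G.R.presheaf.stalk (G.e u)) :=
    ((algebraMap Γ(G.R, R₀) (G.R.presheaf.stalk (G.e u))).comp
      (algebraMap Γ(G.U, U₀) Γ(G.R, R₀))).toAlgebra
  haveI towerL : IsScalarTower Γ(G.U, U₀) Γ(G.R, R₀) (G.R.presheaf.stalk (G.e u)) :=
    IsScalarTower.of_algebraMap_eq (fun _ => rfl)
  have hcomp : (G.s.stalkMap (G.e u)).hom.comp (G.U.presheaf.germ U₀ (G.s (G.e u)) hfxW).hom =
      algebraMap Γ(G.U, U₀) (G.R.presheaf.stalk (G.e u)) := by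
    ext a
    change G.s.stalkMap (G.e u) (G.U.presheaf.germ U₀ (G.s (G.e u)) hfxW a) =
      G.R.presheaf.germ R₀ (G.e u) hxR₀ (G.s.appLE U₀ R₀ hs₀ a)
    rw [Scheme.Hom.germ_stalkMap_apply, Scheme.Hom.appLE, CommRingCat.comp_apply,
      G.R.presheaf.germ_res_apply]
  have hp : (hU₀.primeIdealOf ⟨G.s (G.e u), hfxW⟩).asIdeal =
      (hR₀.primeIdealOf ⟨(G.e u), hxR₀⟩).asIdeal.comap (algebraMap Γ(G.U, U₀) Γ(G.R, R₀)) :=
    congr($(IsAffineOpen.comap_primeIdealOf_appLE U₀ hU₀ R₀ hR₀ hs₀ hxR₀).1).symm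
  have hJ : Ideal.map (G.s.stalkMap (G.e u)).hom
      (IsLocalRing.maximalIdeal (G.U.presheaf.stalk (G.s (G.e u)))) =
      fibIdeal (A := Γ(G.U, U₀)) (hR₀.primeIdealOf ⟨(G.e u), hxR₀⟩).asIdeal (G.R.presheaf.stalk (G.e u)) := by
    letI := G.U.presheaf.algebra_section_stalk ⟨G.s (G.e u), hfxW⟩
    haveI := hU₀.isLocalization_stalk ⟨G.s (G.e u), hfxW⟩
    have hmax := IsLocalization.AtPrime.map_eq_maximalIdeal
      (hU₀.primeIdealOf ⟨G.s (G.e u), hfxW⟩).asIdeal (G.U.presheaf.stalk (G.s (G.e u)))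
    rw [← hmax, Ideal.map_map, fibIdeal, ← hp]
    exact congrArg (fun φ => Ideal.map φ (hU₀.primeIdealOf ⟨G.s (G.e u), hfxW⟩).asIdeal) hcomp
  have hCM' : LocCoh.IsCohenMacaulayLocalRing (G.R.presheaf.stalk (G.e u) ⧸
      fibIdeal (A := Γ(G.U, U₀)) (hR₀.primeIdealOf ⟨(G.e u), hxR₀⟩).asIdeal (G.R.presheaf.stalk (G.e u))) :=
    (Groth.Agent.Lib.Helper23.CMMor.cm_congr_ideal hJ).mp (hs (G.e u)).2
  obtain ⟨τ, hτdef⟩ : ∃ τ : Γ(G.U, U₀) →+* Γ(G.R, R₀), τ = (G.t.appLE U₀ R₀ ht₀).hom := ⟨_, rfl⟩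
  obtain ⟨ē, hēdef⟩ : ∃ ē : Γ(G.R, R₀) →+* Γ(G.U, U₀), ē = (G.e.appLE R₀ U₀ he₀).hom := ⟨_, rfl⟩
  have hσ : ∀ a, ē (algebraMap Γ(G.U, U₀) Γ(G.R, R₀) a) = a := by
    intro a
    have h1 := appLE_comp_appLE_eq_id G.s G.e G.e_s hU₀ hR₀ hs₀ he₀
    have h2 := congrArg (fun φ => φ.hom a) h1
    rw [hēdef]
    exact h2
  have hτ : ∀ a, ē (τ a) = a := by
    intro a
    have h1 := appLE_comp_appLE_eq_id G.t G.e G.e_t hU₀ hR₀ ht₀ he₀
    have h2 := congrArg (fun φ => φ.hom a) h1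
    rw [hēdef, hτdef]
    exact h2
  haveI h𝔭max : (hU₀.primeIdealOf ⟨u, hu₀⟩).asIdeal.IsMaximal :=
    (Groth.Agent.Lib.Helper6.isClosed_singleton_iff_isMaximal hU₀ u hu₀).mp hcl
  have hq : (hR₀.primeIdealOf ⟨(G.e u), hxR₀⟩).asIdeal =
      (hU₀.primeIdealOf ⟨u, hu₀⟩).asIdeal.comap ē := by
    have h1 := congr($(IsAffineOpen.comap_primeIdealOf_appLE (f := G.e) R₀ hR₀ U₀ hU₀ he₀ hu₀).1)
    rw [hēdef]
    exact h1.symm
  have hqτ : ∀ a ∈ (hU₀.primeIdealOf ⟨u, hu₀⟩).asIdeal, τ a ∈ (hR₀.primeIdealOf ⟨(G.e u), hxR₀⟩).asIdeal := by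
    intro a ha
    rw [hq, Ideal.mem_comap, hτ]
    exact ha
  haveI : IsLocalRing (G.R.presheaf.stalk (G.e u)) := inferInstance
  obtain ⟨q, hqdef⟩ : ∃ q : Ideal Γ(G.R, R₀), q = (hR₀.primeIdealOf ⟨G.e u, hxR₀⟩).asIdeal :=
    ⟨_, rfl⟩
  obtain ⟨𝔭, h𝔭def⟩ : ∃ 𝔭 : Ideal Γ(G.U, U₀), 𝔭 = (hU₀.primeIdealOf ⟨u, hu₀⟩).asIdeal := ⟨_, rfl⟩
  haveI hqprime : q.IsPrime := hqdef ▸ inferInstance
  haveI h𝔭max' : 𝔭.IsMaximal := h𝔭def ▸ h𝔭max
  haveI locL' : IsLocalization.AtPrime (G.R.presheaf.stalk (G.e u)) q := hqdef ▸ locL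
  rw [← hqdef, ← h𝔭def] at hq hqτ
  rw [← hqdef] at hCM'
  have hqσ : q.comap (algebraMap Γ(G.U, U₀) Γ(G.R, R₀)) = 𝔭 := by
    ext a
    rw [Ideal.mem_comap, hq, Ideal.mem_comap, hσ]
  set I' : Ideal (G.R.presheaf.stalk (G.e u)) :=
    fibIdeal (A := Γ(G.U, U₀)) q (G.R.presheaf.stalk (G.e u)) with hI'
  have hI'eq : I' = 𝔭.map (algebraMap Γ(G.U, U₀) (G.R.presheaf.stalk (G.e u))) := by
    rw [hI', fibIdeal, hqσ]
  set ψ : Γ(G.U, U₀) →+* G.R.presheaf.stalk (G.e u) ⧸ I' :=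
    (Ideal.Quotient.mk I').comp ((algebraMap Γ(G.R, R₀) (G.R.presheaf.stalk (G.e u))).comp τ)
    with hψ
  have hle_stab : ringKrullDim ((G.R.presheaf.stalk (G.e u) ⧸ I') ⧸ 𝔭.map ψ) ≤
      topologicalKrullDim ↥(G.stabilizerToU.fiber u) := by
    refine ringKrullDim_le_stab_fiber G hU₀ hR₀ u hu₀ hcl hs₀ ht₀ he₀ _
      ((Ideal.Quotient.mk (𝔭.map ψ)).comp ((Ideal.Quotient.mk I').comp
        (algebraMap Γ(G.R, R₀) (G.R.presheaf.stalk (G.e u)))))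
      (isInducing_comap_quot_quot_loc q.primeCompl I' (𝔭.map ψ)) ?_ ?_ ?_
    · intro P
      rw [← hqdef]
      intro b hb
      by_contra hbq
      have hu : IsUnit (algebraMap Γ(G.R, R₀) (G.R.presheaf.stalk (G.e u)) b) :=
        IsLocalization.map_units (G.R.presheaf.stalk (G.e u)) (⟨b, hbq⟩ : q.primeCompl)
      rw [Ideal.mem_comap] at hb
      have hu' := (hu.map (Ideal.Quotient.mk I')).map (Ideal.Quotient.mk (𝔭.map ψ))
      exact P.isPrime.ne_top (Ideal.eq_top_of_isUnit_mem _ hb hu')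
    · intro a ha
      rw [← h𝔭def] at ha
      rw [RingHom.comp_apply, RingHom.comp_apply]
      have h1 : Ideal.Quotient.mk I' (algebraMap Γ(G.R, R₀) (G.R.presheaf.stalk (G.e u))
          ((G.s.appLE U₀ R₀ hs₀).hom a)) = 0 := by
        rw [Ideal.Quotient.eq_zero_iff_mem, hI'eq]
        exact Ideal.mem_map_of_mem _ ha
      rw [h1, map_zero]
    · intro a ha
      rw [← h𝔭def] at ha
      rw [RingHom.comp_apply, Ideal.Quotient.eq_zero_iff_mem, ← hτdef]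
      exact Ideal.mem_map_of_mem ψ ha
  -- the fibre ideal of `t`
  have hJt : fibId G.t (G.e u) =
      𝔭.map ((algebraMap Γ(G.R, R₀) (G.R.presheaf.stalk (G.e u))).comp τ) := by
    have hftW : G.t (G.e u) ∈ U₀ := ht₀ hxR₀
    have hcompt : (G.t.stalkMap (G.e u)).hom.comp
        (G.U.presheaf.germ U₀ (G.t (G.e u)) hftW).hom =
        (algebraMap Γ(G.R, R₀) (G.R.presheaf.stalk (G.e u))).comp τ := by
      ext a
      change G.t.stalkMap (G.e u) (G.U.presheaf.germ U₀ (G.t (G.e u)) hftW a) =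
        G.R.presheaf.germ R₀ (G.e u) hxR₀ (τ a)
      rw [Scheme.Hom.germ_stalkMap_apply, hτdef, Scheme.Hom.appLE, CommRingCat.comp_apply,
        G.R.presheaf.germ_res_apply]
    have hpt : (hU₀.primeIdealOf ⟨G.t (G.e u), hftW⟩).asIdeal = 𝔭 := by
      have h1 := congr($(IsAffineOpen.comap_primeIdealOf_appLE (f := G.t) U₀ hU₀ R₀ hR₀ ht₀
        hxR₀).1)
      rw [← h1]
      change (hR₀.primeIdealOf ⟨G.e u, hxR₀⟩).asIdeal.comap (G.t.appLE U₀ R₀ ht₀).hom = 𝔭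
      rw [← hτdef, ← hqdef, hq]
      ext a
      rw [Ideal.mem_comap, Ideal.mem_comap, hτ]
    letI := G.U.presheaf.algebra_section_stalk ⟨G.t (G.e u), hftW⟩
    haveI := hU₀.isLocalization_stalk ⟨G.t (G.e u), hftW⟩
    have hmax := IsLocalization.AtPrime.map_eq_maximalIdeal
      (hU₀.primeIdealOf ⟨G.t (G.e u), hftW⟩).asIdeal (G.U.presheaf.stalk (G.t (G.e u)))
    change Ideal.map (G.t.stalkMap (G.e u)).hom
      (IsLocalRing.maximalIdeal (G.U.presheaf.stalk (G.t (G.e u)))) = _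
    rw [← hmax, Ideal.map_map, ← hpt]
    exact congrArg (fun φ => Ideal.map φ (hU₀.primeIdealOf ⟨G.t (G.e u), hftW⟩).asIdeal) hcompt
  haveI : LocallyOfFiniteType G.stabilizerToU := by
    rw [← stabToR_s]; infer_instance
  have hge : topologicalKrullDim ↥(G.stabilizerToU.fiber u) ≤
      ringKrullDim ((G.R.presheaf.stalk (G.e u) ⧸ I') ⧸ 𝔭.map ψ) := by
    rw [topologicalKrullDim_fiber_stab]
    refine (fibreDimAt_stab_le G u).trans (le_of_eq ?_)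
    have hJs : fibId G.s (G.e u) = I' := by
      rw [hI', hqdef]
      exact hJ
    rw [hJs, hJt]
    have hmapψ : 𝔭.map ψ = (𝔭.map ((algebraMap Γ(G.R, R₀)
        (G.R.presheaf.stalk (G.e u))).comp τ)).map (Ideal.Quotient.mk I') := by
      rw [hψ, Ideal.map_map]
    rw [hmapψ]
    exact (ringKrullDim_eq_of_ringEquiv (DoubleQuot.quotQuotEquivQuotSup I' _)).symm
  have hD : ringKrullDim ((G.R.presheaf.stalk (G.e u) ⧸ I') ⧸ 𝔭.map ψ) =
      topologicalKrullDim ↥(G.stabilizerToU.fiber u) := le_antisymm hle_stab hge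
  obtain ⟨fs, hfs𝔭, hflat, hCMq, hdimq⟩ := exists_slice_multi_step τ 𝔭 q hqτ
    (G.R.presheaf.stalk (G.e u)) hCM'
  rw [← h𝔭def, ← hqdef, ← hτdef]
  obtain ⟨J, hJdef⟩ : ∃ J : Ideal Γ(G.R, R₀), J = (Ideal.ofList fs).map τ := ⟨_, rfl⟩
  have hJq : J ≤ q := by
    rw [hJdef, Ideal.map_ofList, Ideal.ofList, Ideal.span_le]
    intro b hb
    obtain ⟨f, hf, rfl⟩ := List.mem_map.mp hb
    exact hqτ f (hfs𝔭 f hf)
  refine ⟨fs, hfs𝔭, hJdef ▸ hJq, ?_⟩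
  rw [← hJdef]
  have hJL : J.map (algebraMap Γ(G.R, R₀) (G.R.presheaf.stalk (G.e u))) =
      Ideal.ofList ((fs.map τ).map (algebraMap Γ(G.R, R₀) (G.R.presheaf.stalk (G.e u)))) := by
    rw [hJdef, Ideal.map_ofList, Ideal.map_ofList]
  rw [← hJL] at hflat hCMq hdimq
  intro c _ hc
  obtain ⟨e2⟩ := nonempty_closedFibre_equiv q J hJq (G.R.presheaf.stalk (G.e u))
    (c.comap ((Ideal.Quotient.mk J).comp (algebraMap Γ(G.U, U₀) Γ(G.R, R₀)))) c hc rfl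
  refine ⟨?_, ?_, ?_⟩
  · exact localRingHom_flat_of_flat_quot q J hJq (G.R.presheaf.stalk (G.e u))
      (c.comap ((Ideal.Quotient.mk J).comp (algebraMap Γ(G.U, U₀) Γ(G.R, R₀)))) c hc rfl hflat
  · exact (Groth.Agent.Lib.Helper23.CMMor.cm_of_ringEquiv_iff e2).mpr hCMq
  · rw [← hD, ← hdimq]
    exact ringKrullDim_eq_of_ringEquiv e2

end Groth.Agent.Lib.Helper20.HM
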