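import Mathlib
import Groth.Agent.Lib.Helper20.HM5
import Groth.Agent.Lib.Helper23.CMMor2
import Groth.Agent.Lib.Helper6.CMChart2

/-!
# HM22: homogeneity of the Cohen–Macaulay property of `h : T ⟶ U` and shrinking of the slice
-/

set_option autoImplicit false
set_option linter.style.haveILetI false
set_option linter.unusedSectionVars false
universe u
open CategoryTheory CategoryTheory.Limits AlgebraicGeometry

namespace Groth.Agent.Lib.Helper20.HM

open Grpd Groth.Agent.Lib.Helper25.GrpdAlg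

theorem isCMAt_congr {X Y : Scheme.{u}} {f f' : X ⟶ Y} (h : f = f') (x : X) :
    MoreMor.IsCMAt f x ↔ MoreMor.IsCMAt f' x := by
  subst h; rfl

variable {S : Scheme.{u}} (G : GroupoidScheme S)

/-- **Homogeneity**: if `h` is Cohen–Macaulay along the unit section, it is Cohen–Macaulay
everywhere. -/
theorem cmAt_hT_of_section [Flat G.s] [LocallyOfFiniteType G.s] [LocallyOfFiniteType G.t]
    {U' : Scheme.{u}} (g : U' ⟶ G.U) [LocallyOfFiniteType (hT G g)]
    (hε : ∀ x : U', MoreMor.IsCMAt (hT G g) (ε G g x)) (z : T G g) :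
    MoreMor.IsCMAt (hT G g) z := by
  have hfib : ∀ y, IsLocallyNoetherian ((hT G g).fiber y) := fun y =>
    Groth.Agent.Lib.Helper23.CMMor.isLocallyNoetherian_fiber_of_lft _ _
  have h1 := (Groth.Agent.Lib.Helper23.CMMor.cmAt_baseChange
    (IsPullback.of_hasPullback (hT G g) G.t) hfib (γ₀ G g z)).1
  have h2 := (Groth.Agent.Lib.Helper23.CMMor.cmAt_baseChange
    (isPullback_m G g) hfib (γ₀ G g z)).2.2
  have e1 : pullback.fst (hT G g) G.t (γ₀ G g z) = ε G g (pullback.fst g G.t z) := by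
    rw [← Scheme.Hom.comp_apply, γ₀_fst, Scheme.Hom.comp_apply]
  have e2 : m G g (γ₀ G g z) = z := by
    rw [← Scheme.Hom.comp_apply, γ₀_m]
    rfl
  rw [e1] at h1
  rw [e2] at h2
  exact h2 (Flat.stalkMap G.s _) (h1 (hε _))

section shrink

variable {U'₀ : Scheme.{u}} (g₀ : U'₀ ⟶ G.U) (V : U'₀.Opens)

/-- the open immersion of the slice over an open part of `U'₀` -/
noncomputable def kV : T G (V.ι ≫ g₀) ⟶ T G g₀ :=
  pullback.map (V.ι ≫ g₀) G.t g₀ G.t V.ι (𝟙 _) (𝟙 _) (by rw [Category.comp_id])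
    (by rw [Category.comp_id, Category.id_comp])

instance : IsOpenImmersion (kV G g₀ V) := by
  unfold kV
  infer_instance

@[reassoc]
theorem kV_snd : kV G g₀ V ≫ pullback.snd g₀ G.t = pullback.snd (V.ι ≫ g₀) G.t := by
  unfold kV
  rw [pullback.lift_snd, Category.comp_id]

@[reassoc]
theorem kV_fst : kV G g₀ V ≫ pullback.fst g₀ G.t = pullback.fst (V.ι ≫ g₀) G.t ≫ V.ι := by
  unfold kV
  rw [pullback.lift_fst]

theorem kV_hT : kV G g₀ V ≫ hT G g₀ = hT G (V.ι ≫ g₀) := by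
  rw [← Category.assoc, kV_snd]

theorem ε_kV : ε G (V.ι ≫ g₀) ≫ kV G g₀ V = V.ι ≫ ε G g₀ := by
  apply pullback.hom_ext
  · rw [Category.assoc, kV_fst, ε_fst_assoc, Category.assoc, ε_fst, Category.comp_id]
  · rw [Category.assoc, kV_snd, ε_snd, Category.assoc, Category.assoc, ε_snd]

/-- Cohen–Macaulayness at a point is insensitive to the open immersion `kV` -/
theorem cmAt_kV [LocallyOfFiniteType (hT G g₀)] [LocallyOfFiniteType (hT G (V.ι ≫ g₀))]
    (y : T G (V.ι ≫ g₀)) (h : MoreMor.IsCMAt (hT G g₀) (kV G g₀ V y)) :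
    MoreMor.IsCMAt (hT G (V.ι ≫ g₀)) y := by
  rw [← isCMAt_congr (kV_hT G g₀ V)]
  haveI : LocallyOfFiniteType (kV G g₀ V ≫ hT G g₀) := by
    rw [kV_hT]; infer_instance
  exact Groth.Agent.Lib.Helper23.CMMor.cmAt_comp (kV G g₀ V) (hT G g₀) y
    (Groth.Agent.Lib.Helper23.CMMor.isLocallyNoetherian_fiber_of_lft _ _)
    (Groth.Agent.Lib.Helper6.CMChart.isCMAt_of_locallyQuasiFinite (kV G g₀ V) y
      (Groth.Agent.Lib.Helper6.CMChart.flat_stalkMap_of_isOpenImmersion (kV G g₀ V) y)) h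

/-- shrinking: Cohen–Macaulayness of `h` along the unit section over `V` gives it on the whole
slice over `V` -/
theorem cmAt_hT_of_shrink [Flat G.s] [LocallyOfFiniteType G.s] [LocallyOfFiniteType G.t]
    [LocallyOfFiniteType (hT G g₀)] [LocallyOfFiniteType (hT G (V.ι ≫ g₀))]
    (hV : ∀ x ∈ V, MoreMor.IsCMAt (hT G g₀) (ε G g₀ x)) (z : T G (V.ι ≫ g₀)) :
    MoreMor.IsCMAt (hT G (V.ι ≫ g₀)) z := by
  refine cmAt_hT_of_section G (V.ι ≫ g₀) (fun x => ?_) z
  apply cmAt_kV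
  have h1 : kV G g₀ V (ε G (V.ι ≫ g₀) x) = ε G g₀ (V.ι x) := by
    rw [← Scheme.Hom.comp_apply, ε_kV, Scheme.Hom.comp_apply]
  rw [h1]
  exact hV _ x.2

end shrink

end Groth.Agent.Lib.Helper20.HM
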