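import Mathlib
import Groth.Agent.Lib.Helper20.HM26
import Groth.Agent.Lib.Helper25.GrpSmoothPt
import Groth.Agent.Lib.Helper25.FiberSmoothScheme2
import Groth.Agent.Lib.Helper25.OrbitSmooth

/-!
# HM27: groupoids over the spectrum of a field of characteristic zero: `s`, `t` are smooth
-/

set_option autoImplicit false
set_option linter.style.haveILetI false
set_option linter.unusedSectionVars false
universe u
open CategoryTheory CategoryTheory.Limits AlgebraicGeometry IsLocalRing

namespace Groth.Agent.Lib.Helper20.HM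

open Grpd
open Groth.Agent.Lib.Helper25.DualPoint
open Groth.Agent.Lib.Helper25.GrpTangent (dual inlC fstC mapC inlC_fstC mapC_fstC inlC_mapC mapC_comp
  mapC_id exists_of_closedPoint closedPoint_eq_of_surjective)

variable {S : Scheme.{u}} (G : GroupoidScheme S)

section calculus

variable {G}

theorem comp_lift_c {T T' : Scheme.{u}} (f : T' ⟶ T) (α β : T ⟶ G.R) (h : α ≫ G.s = β ≫ G.t) :
    f ≫ pullback.lift α β h ≫ G.c =
      pullback.lift (f ≫ α) (f ≫ β) (by rw [Category.assoc, Category.assoc, h]) ≫ G.c := by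
  rw [← Category.assoc]
  congr 1
  apply pullback.hom_ext
  · rw [Category.assoc, pullback.lift_fst, pullback.lift_fst]
  · rw [Category.assoc, pullback.lift_snd, pullback.lift_snd]

theorem lift_c_congr {T : Scheme.{u}} {α α' β β' : T ⟶ G.R} (h : α ≫ G.s = β ≫ G.t)
    (hα : α = α') (hβ : β = β') :
    pullback.lift α β h ≫ G.c = pullback.lift α' β' (by rw [← hα, ← hβ, h]) ≫ G.c := by
  subst hα hβ; rfl

end calculus

variable (k : Type u) [Field k] (eU : G.U ≅ Spec (CommRingCat.of k))

/-- the unit arrow, as a `k`-point -/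
noncomputable def εk : Spec (CommRingCat.of k) ⟶ G.R := eU.inv ≫ G.e

/-- the unit point -/
noncomputable def x₀ : G.R := (εk G k eU) (closedPoint k)

/-- the local ring at the unit point -/
noncomputable abbrev Ae : CommRingCat.{u} := G.R.presheaf.stalk (x₀ G k eU)

/-- the canonical point -/
noncomputable abbrev can : Spec (Ae G k eU) ⟶ G.R := G.R.fromSpecStalk (x₀ G k eU)

noncomputable def strS : CommRingCat.of k ⟶ Ae G k eU :=
  Spec.preimage (can G k eU ≫ G.s ≫ eU.hom)

noncomputable def strT : CommRingCat.of k ⟶ Ae G k eU :=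
  Spec.preimage (can G k eU ≫ G.t ≫ eU.hom)

theorem Spec_map_strS : Spec.map (strS G k eU) = can G k eU ≫ G.s ≫ eU.hom := Spec.map_preimage _

theorem Spec_map_strT : Spec.map (strT G k eU) = can G k eU ≫ G.t ≫ eU.hom := Spec.map_preimage _

noncomputable def augE : Ae G k eU ⟶ CommRingCat.of k :=
  (exists_of_closedPoint (εk G k eU) (x₀ G k eU) rfl).choose

theorem Spec_map_augE : Spec.map (augE G k eU) ≫ can G k eU = εk G k eU :=
  (exists_of_closedPoint (εk G k eU) (x₀ G k eU) rfl).choose_spec

theorem εk_s : εk G k eU ≫ G.s = eU.inv := by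
  rw [εk, Category.assoc, G.e_s, Category.comp_id]

theorem εk_t : εk G k eU ≫ G.t = eU.inv := by
  rw [εk, Category.assoc, G.e_t, Category.comp_id]

theorem strS_augE : strS G k eU ≫ augE G k eU = 𝟙 _ := by
  apply Spec.map_injective
  rw [Spec.map_comp, Spec_map_strS, ← Category.assoc, Spec_map_augE, ← Category.assoc, εk_s]
  simp

theorem strT_augE : strT G k eU ≫ augE G k eU = 𝟙 _ := by
  apply Spec.map_injective
  rw [Spec.map_comp, Spec_map_strT, ← Category.assoc, Spec_map_augE, ← Category.assoc, εk_t]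
  simp

/-- the point attached to a ring map out of the local ring -/
noncomputable abbrev ptE {T : CommRingCat.{u}} (φ : Ae G k eU ⟶ T) : Spec T ⟶ G.R :=
  Spec.map φ ≫ can G k eU

theorem ptE_injective {T : CommRingCat.{u}} (φ φ' : Ae G k eU ⟶ T)
    (H : ptE G k eU φ = ptE G k eU φ') : φ = φ' := by
  rw [cancel_mono] at H
  exact Spec.map_injective H

theorem ptE_s {T : CommRingCat.{u}} (φ : Ae G k eU ⟶ T) :
    ptE G k eU φ ≫ G.s = Spec.map (strS G k eU ≫ φ) ≫ eU.inv := by
  rw [Spec.map_comp, Spec_map_strS]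
  simp

theorem ptE_t {T : CommRingCat.{u}} (φ : Ae G k eU ⟶ T) :
    ptE G k eU φ ≫ G.t = Spec.map (strT G k eU ≫ φ) ≫ eU.inv := by
  rw [Spec.map_comp, Spec_map_strT]
  simp

theorem ptE_comp {T T' : CommRingCat.{u}} (φ : Ae G k eU ⟶ T) (ρ : T ⟶ T') :
    Spec.map ρ ≫ ptE G k eU φ = ptE G k eU (φ ≫ ρ) := by
  change _ = Spec.map (φ ≫ ρ) ≫ _
  rw [Spec.map_comp, Category.assoc]

theorem ptE_augE_comp {T : CommRingCat.{u}} (a : CommRingCat.of k ⟶ T) :
    ptE G k eU (augE G k eU ≫ a) = Spec.map a ≫ εk G k eU := by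
  change Spec.map (augE G k eU ≫ a) ≫ _ = _
  rw [Spec.map_comp, Category.assoc, Spec_map_augE]

theorem ptE_id : ptE G k eU (𝟙 _) = can G k eU := by
  change Spec.map (𝟙 _) ≫ _ = _
  rw [Spec.map_id, Category.id_comp]

theorem εk_t_e : εk G k eU ≫ G.t ≫ G.e = εk G k eU := by
  rw [← Category.assoc, εk_t]
  rfl

set_option maxHeartbeats 1600000 in
/-- The infinitesimal translation: for an `s`-vertical tangent vector `v` at the unit there is an
`s`-linear map `P : O_{R,e} → O_{R,e}[ε]` lifting the identity and reducing to `v`. -/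
theorem exists_sectionE (v : Ae G k eU ⟶ dual k) (hv1 : strS G k eU ≫ v = inlC k)
    (hv2 : v ≫ fstC k = augE G k eU) :
    ∃ P : Ae G k eU ⟶ dual (Ae G k eU),
      strS G k eU ≫ P = strS G k eU ≫ inlC (Ae G k eU) ∧ P ≫ fstC (Ae G k eU) = 𝟙 _ ∧
      P ≫ mapC (augE G k eU) = v := by
  let w : Ae G k eU ⟶ dual (Ae G k eU) := v ≫ mapC (strT G k eU)
  have hw : strS G k eU ≫ w = strT G k eU ≫ inlC (Ae G k eU) := by
    dsimp only [w]
    rw [← Category.assoc, hv1, inlC_mapC]
  have hcomp : ptE G k eU w ≫ G.s = ptE G k eU (inlC (Ae G k eU)) ≫ G.t := by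
    rw [ptE_s, ptE_t, hw]
  obtain ⟨p, hp⟩ : ∃ p : Spec (dual (Ae G k eU)) ⟶ G.R,
      p = pullback.lift (ptE G k eU w) (ptE G k eU (inlC (Ae G k eU))) hcomp ≫ G.c := ⟨_, rfl⟩
  -- reduction to `k`
  let ρ : dual (Ae G k eU) ⟶ CommRingCat.of k := fstC (Ae G k eU) ≫ augE G k eU
  have hρ1 : inlC (Ae G k eU) ≫ ρ = augE G k eU := by
    dsimp only [ρ]
    rw [← Category.assoc, inlC_fstC, Category.id_comp]
  have hρ2 : w ≫ ρ = augE G k eU := by
    dsimp only [w, ρ]
    rw [Category.assoc, ← Category.assoc (mapC _), mapC_fstC, Category.assoc, strT_augE,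
      Category.comp_id, hv2]
  have hp0 : Spec.map ρ ≫ p = εk G k eU := by
    rw [hp, comp_lift_c]
    have e1 : Spec.map ρ ≫ ptE G k eU w = εk G k eU ≫ G.t ≫ G.e := by
      rw [ptE_comp, hρ2, εk_t_e, ← Spec_map_augE]
    have e2 : Spec.map ρ ≫ ptE G k eU (inlC (Ae G k eU)) = εk G k eU := by
      rw [ptE_comp, hρ1, ← Spec_map_augE]
    rw [lift_c_congr _ e1 e2]
    exact G.e_comp (εk G k eU)
  have hpe : p (closedPoint (dual (Ae G k eU))) = x₀ G k eU := by
    have hsurj : Function.Surjective ρ.hom := by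
      intro c
      refine ⟨((strS G k eU ≫ inlC (Ae G k eU)).hom c), ?_⟩
      have h1 : (strS G k eU ≫ inlC (Ae G k eU)) ≫ ρ = 𝟙 _ := by
        rw [Category.assoc, hρ1, strS_augE]
      have := congrArg (fun f => f.hom c) h1
      exact this
    rw [← closedPoint_eq_of_surjective ρ hsurj]
    have h3 := congrArg (fun q : Spec (CommRingCat.of k) ⟶ G.R => q (closedPoint k)) hp0
    exact h3
  obtain ⟨P, hP⟩ := exists_of_closedPoint p (x₀ G k eU) hpe
  have hP' : ptE G k eU P = p := hP
  refine ⟨P, ?_, ?_, ?_⟩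
  · apply Spec.map_injective
    have h1 := G.comp_s _ _ hcomp
    rw [← hp, ← hP', ptE_s, ptE_s] at h1
    have h2 := congrArg (fun q => q ≫ eU.hom) h1
    simp only [Category.assoc, Iso.inv_hom_id, Category.comp_id] at h2
    exact h2
  · apply ptE_injective G k eU
    rw [← ptE_comp, hP', hp, comp_lift_c]
    have e1 : Spec.map (fstC (Ae G k eU)) ≫ ptE G k eU w = can G k eU ≫ G.t ≫ G.e := by
      rw [ptE_comp]
      have : w ≫ fstC (Ae G k eU) = augE G k eU ≫ strT G k eU := by
        dsimp only [w]
        rw [Category.assoc, mapC_fstC, ← Category.assoc, hv2]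
      rw [this, ptE_augE_comp, Spec_map_strT, εk]
      simp
    have e2 : Spec.map (fstC (Ae G k eU)) ≫ ptE G k eU (inlC (Ae G k eU)) = can G k eU := by
      rw [ptE_comp, inlC_fstC]
      exact ptE_id G k eU
    rw [lift_c_congr _ e1 e2]
    exact (G.e_comp (can G k eU)).trans (ptE_id G k eU).symm
  · apply ptE_injective G k eU
    rw [← ptE_comp, hP', hp, comp_lift_c]
    have e1 : Spec.map (mapC (augE G k eU)) ≫ ptE G k eU w = ptE G k eU v := by
      refine (ptE_comp G k eU w (mapC (augE G k eU))).trans ?_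
      congr 1
      dsimp only [w]
      rw [Category.assoc, mapC_comp, strT_augE, mapC_id, Category.comp_id]
    have e2 : Spec.map (mapC (augE G k eU)) ≫ ptE G k eU (inlC (Ae G k eU)) =
        ptE G k eU v ≫ G.s ≫ G.e := by
      refine (ptE_comp G k eU (inlC (Ae G k eU)) (mapC (augE G k eU))).trans ?_
      have h5 : inlC (Ae G k eU) ≫ mapC (augE G k eU) = augE G k eU ≫ inlC k := inlC_mapC _
      rw [h5, ptE_augE_comp, ← Category.assoc (ptE G k eU v), ptE_s, hv1, εk]
      simp
    exact (lift_c_congr _ e1 e2).trans (G.comp_e (ptE G k eU v))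

/-- The `k`-algebra structure (through `s`) on the local ring at the unit. -/
noncomputable abbrev algAe : Algebra k (Ae G k eU) := (strS G k eU).hom.toAlgebra

/-- The augmentation as an algebra homomorphism. -/
noncomputable def augAlgE : @AlgHom k (Ae G k eU) k _ _ _ (algAe G k eU) _ :=
  letI := algAe G k eU
  { (augE G k eU).hom with
    commutes' := fun c => by
      have := congrArg (fun f => f.hom c) (strS_augE G k eU)
      exact this }

/-- For every functional on the cotangent space at the unit there is an `s`-linear derivation of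
the local ring inducing it. -/
theorem exists_derivationE
    (ℓ : CotangentSpace (Ae G k eU) →ₗ[ResidueField (Ae G k eU)] ResidueField (Ae G k eU)) :
    letI := algAe G k eU
    ∃ D : Derivation k (Ae G k eU) (Ae G k eU),
      ∀ (x : Ae G k eU) (hx : x ∈ maximalIdeal (Ae G k eU)),
        residue (Ae G k eU) (D x) = ℓ ((maximalIdeal (Ae G k eU)).toCotangent ⟨x, hx⟩) := by
  let _ := algAe G k eU
  let v0 := CommRingCat.ofHom (tangentHom (augAlgE G k eU) ℓ)
  let v : Ae G k eU ⟶ dual k := v0
  have hv1 : strS G k eU ≫ v = inlC k := by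
    apply CommRingCat.hom_ext
    refine RingHom.ext fun c => ?_
    exact tangentHom_algebraMap (augAlgE G k eU) ℓ c
  have hv2 : v ≫ fstC k = augE G k eU := by
    apply CommRingCat.hom_ext
    refine RingHom.ext fun a => ?_
    exact fst_tangentHom (augAlgE G k eU) ℓ a
  obtain ⟨P, hP0, hP1, hP2⟩ := exists_sectionE G k eU v hv1 hv2
  have h1 : ∀ a : Ae G k eU, (P.hom a).fst = a := fun a => by
    have := congrArg (fun f => f.hom a) hP1
    exact this
  have h2 : ∀ c : k, P.hom (algebraMap k (Ae G k eU) c) =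
      TrivSqZeroExt.inl (algebraMap k (Ae G k eU) c) :=
    fun c => by
      have := congrArg (fun f => f.hom c) hP0
      exact this
  refine ⟨derOfSection P.hom h1 h2, fun x hx => ?_⟩
  rw [derOfSection_apply, residue_eq (augAlgE G k eU),
    ← snd_tangentHom_of_mem (augAlgE G k eU) ℓ hx]
  congr 1
  have := congrArg (fun f => (f.hom x).snd) hP2
  simp only [CommRingCat.hom_comp, RingHom.comp_apply] at this
  refine Eq.trans ?_ this
  exact (snd_selfMap _ _).symm

theorem isRegularLocalRing_stalkE [CharZero k] [IsNoetherianRing (Ae G k eU)] :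
    IsRegularLocalRing (Ae G k eU) := by
  classical
  let _ := algAe G k eU
  let b := Module.finBasis (ResidueField (Ae G k eU)) (CotangentSpace (Ae G k eU))
  choose x hx using fun j => (maximalIdeal (Ae G k eU)).toCotangent_surjective (b j)
  choose D hD using fun i => exists_derivationE G k eU (b.coord i)
  have hfun : (fun j => (maximalIdeal (Ae G k eU)).toCotangent (x j)) = ⇑b := funext hx
  have hsp : Submodule.span ((Ae G k eU) ⧸ maximalIdeal (Ae G k eU))
      (Set.range fun j => (maximalIdeal (Ae G k eU)).toCotangent (x j)) = ⊤ := by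
    rw [hfun]
    exact b.span_eq
  have hs : Ideal.span (Set.range fun j => (x j : Ae G k eU)) = maximalIdeal (Ae G k eU) :=
    Groth.Agent.Lib.Helper12.QR.span_eq_of_cotangent_span_eq_top (maximalIdeal (Ae G k eU))
      (maximalIdeal (Ae G k eU)).fg_of_isNoetherianRing (maximalIdeal_le_jacobson ⊥) x hsp
  refine Groth.Agent.Lib.Helper25.DerRegular.isRegularLocalRing_of_derivations
    (K := k) (fun j => (x j : Ae G k eU)) (fun j => (x j).2) D ?_
    (algebraMap_residueField_bijective (augAlgE G k eU)).2 hs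
  intro i j
  rw [← IsLocalRing.residue_eq_zero_iff, map_sub, hD i (x j) (x j).2, Subtype.coe_eta, hx j,
    Module.Basis.coord_apply, Module.Basis.repr_self, Finsupp.single_apply]
  by_cases h : i = j
  · subst h; simp
  · simp [h, Ne.symm h]

open Groth.Agent.Lib.Helper25.GrpTangent (τ bijective_τ isGeometricallyReduced_of_bijective) in
theorem strS_eq : strS G k eU = τ ((G.s ≫ eU.hom) (x₀ G k eU)) ≫
    (G.s ≫ eU.hom).stalkMap (x₀ G k eU) := by
  apply Spec.map_injective
  rw [Spec_map_strS, Spec.map_comp, τ, ← Spec.fromSpecStalk_eq,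
    Scheme.SpecMap_stalkMap_fromSpecStalk]

open Groth.Agent.Lib.Helper25.GrpTangent (τ bijective_τ isGeometricallyReduced_of_bijective) in
set_option maxHeartbeats 1600000 in
/-- **Cartier for groupoids**: over a field of characteristic zero, `s` is smooth at the unit. -/
theorem unit_mem_smoothLocusE [CharZero k] [LocallyOfFiniteType G.s]
    [LocallyOfFinitePresentation (G.s ≫ eU.hom)] :
    x₀ G k eU ∈ (G.s ≫ eU.hom).smoothLocus := by
  haveI : LocallyOfFiniteType (G.s ≫ eU.hom) := inferInstance
  have : IsLocallyNoetherian G.R := LocallyOfFiniteType.isLocallyNoetherian (G.s ≫ eU.hom)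
  have hN : IsNoetherianRing (Ae G k eU) := inferInstance
  have reg : IsRegularLocalRing (Ae G k eU) := isRegularLocalRing_stalkE G k eU
  let _ := algAe G k eU
  have hτ := bijective_τ ((G.s ≫ eU.hom) (x₀ G k eU))
  have hess : Algebra.EssFiniteType k (Ae G k eU) := by
    have h1 : (τ ((G.s ≫ eU.hom) (x₀ G k eU))).hom.EssFiniteType :=
      (RingHom.FiniteType.of_surjective _ hτ.2).essFiniteType
    have h2 : ((G.s ≫ eU.hom).stalkMap (x₀ G k eU)).hom.EssFiniteType :=
      LocallyOfFiniteType.stalkMap (G.s ≫ eU.hom) (x₀ G k eU)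
    have h3 := h1.comp h2
    rw [← CommRingCat.hom_comp, ← strS_eq] at h3
    exact h3
  have hgr : Algebra.IsGeometricallyReduced k (ResidueField (Ae G k eU)) :=
    isGeometricallyReduced_of_bijective (algebraMap_residueField_bijective (augAlgE G k eU))
  have adic := Groth.Agent.Lib.Helper23.CohenEq2.adic_of_regular_of_sep (k := k) reg
  have fs : Algebra.FormallySmooth k (Ae G k eU) :=
    Groth.Agent.S3436.formallySmooth_of_adic k (Ae G k eU) adic
  have fs' : (strS G k eU).hom.FormallySmooth := fs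
  rw [Scheme.Hom.mem_smoothLocus]
  have : IsIso (τ ((G.s ≫ eU.hom) (x₀ G k eU))) :=
    (ConcreteCategory.isIso_iff_bijective _).mpr hτ
  rw [strS_eq] at fs'
  exact (RingHom.FormallySmooth.respectsIso.cancel_left_isIso _ _).mp fs'

theorem ringHom_flat_of_isField {A B : Type u} [CommRing A] [CommRing B] (hA : IsField A)
    (φ : A →+* B) : φ.Flat := by
  letI := hA.toField
  letI := φ.toAlgebra
  change Module.Flat A B
  infer_instance

include eU in
set_option maxHeartbeats 1600000 in
/-- **Groupoids over the spectrum of a field of characteristic zero**: `s` and `t` are smooth. -/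
theorem smooth_st_of_field_charZero [CharZero k] [LocallyOfFiniteType G.s]
    [LocallyOfFiniteType G.t] : Smooth G.s ∧ Smooth G.t := by
  haveI hsub : Subsingleton ↥G.U := subsingleton_of_iso_spec_field k eU
  haveI : IsLocallyNoetherian G.U := by
    haveI : IsLocallyNoetherian (Spec (CommRingCat.of k)) := inferInstance
    exact isLocallyNoetherian_of_isOpenImmersion eU.hom
  haveI : LocallyOfFinitePresentation G.s := inferInstance
  haveI : LocallyOfFinitePresentation (G.s ≫ eU.hom) := inferInstance
  have hfield : ∀ y : G.U, IsField (G.U.presheaf.stalk y) := fun y =>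
    IsLocalRing.isField_iff_maximalIdeal_eq.mpr
      (maximalIdeal_stalk_eq_bot_of_iso_spec_field k eU y)
  have h0 : x₀ G k eU ∈ G.s.smoothLocus :=
    (Groth.Agent.Lib.Helper25.OrbitSmooth.mem_smoothLocus_comp_iso G.s eU.hom _).mp
      (unit_mem_smoothLocusE G k eU)
  have hsm : Smooth G.s := by
    rw [← Scheme.Hom.smoothLocus_eq_top_iff]
    refine top_le_iff.mp fun r _ => ?_
    let y₀ : G.R ⟶ pullback G.s G.t :=
      pullback.lift (G.t ≫ G.e) (𝟙 _) (by rw [Category.assoc, G.e_s, Category.comp_id,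
        Category.id_comp])
    have e1 : G.c (y₀ r) = r := by
      rw [← Scheme.Hom.comp_apply]
      have : y₀ ≫ G.c = 𝟙 _ := by
        have := G.e_comp (𝟙 G.R)
        simp only [Category.id_comp] at this
        exact this
      rw [this]
      rfl
    have e2 : pullback.fst G.s G.t (y₀ r) = x₀ G k eU := by
      rw [← Scheme.Hom.comp_apply, pullback.lift_fst, Scheme.Hom.comp_apply]
      change G.e (G.t r) = G.e (eU.inv (closedPoint k))
      rw [Subsingleton.elim (G.t r) (eU.inv (closedPoint k))]
    have e3 : pullback.snd G.s G.t (y₀ r) = r := by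
      rw [← Scheme.Hom.comp_apply, pullback.lift_snd]
      rfl
    have h1 : y₀ r ∈ (pullback.snd G.s G.t).smoothLocus := by
      apply Groth.Agent.Lib.Helper25.FiberSmoothScheme.preimage_smoothLocus_le_of_isPullback
        (IsPullback.of_hasPullback G.s G.t)
      change pullback.fst G.s G.t (y₀ r) ∈ G.s.smoothLocus
      rw [e2]
      exact h0
    have h2 := Groth.Agent.Lib.Helper25.FiberSmoothScheme.mem_smoothLocus_of_isPullback_of_flat
      (Groth.Agent.Lib.Helper25.GrpdTrans.isPullback_c_snd G) (y₀ r)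
      (ringHom_flat_of_isField (hfield _) _) h1
    rw [e1] at h2
    exact h2
  refine ⟨hsm, ?_⟩
  haveI : IsIso G.i := ⟨G.i, i_i G, i_i G⟩
  rw [← G.i_s]
  infer_instance

end Groth.Agent.Lib.Helper20.HM
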