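import Mathlib
import Groth.Agent.Lib.Helper20.HN3
import Groth.Agent.Lib.Helper10.IdComp3
import Groth.Agent.Lib.Helper1.GeomIrrSep

/-!
# HN4: over a field, the irreducible component of a groupoid scheme through the unit is
geometrically irreducible via `s` and via `t`
-/

set_option autoImplicit false
set_option linter.style.haveILetI false
set_option linter.unusedSimpArgs false
set_option linter.unusedSectionVars false
universe u
open CategoryTheory CategoryTheory.Limits AlgebraicGeometry

namespace Groth.Agent.Lib.Helper20.HN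

open Grpd Groth.Agent.Lib.Helper25.GrpdAlg Groth.Agent.Lib.Helper10.IdComp
  Groth.Agent.Lib.Helper20.HC

section General

variable {S : Scheme.{u}} (G : GroupoidScheme S)

theorem e_i : G.e ≫ G.i = G.e := by
  have h0 : G.e ≫ G.s = G.e ≫ G.t := by rw [G.e_s, G.e_t]
  have h1 : comp G G.e G.e h0 = G.e ≫ G.t ≫ G.e := by
    have h2 := comp_e G G.e
    have h3 : G.e ≫ G.s ≫ G.e = G.e := by rw [reassoc_of% G.e_s]
    have h4 : G.e ≫ G.t ≫ G.e = G.e := by rw [reassoc_of% G.e_t]
    rw [h4]
    exact (comp_congr G rfl h3.symm _ _).trans h2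
  exact (eq_inv_of_comp_eq G G.e G.e h0 h1).symm

theorem ιR_e_apply {U' : Scheme.{u}} (u : U' ⟶ G.U) (pt : U') :
    ιR G u ((restr G u).e pt) = G.e (u pt) := by
  have h4 := congrArg (fun f : U' ⟶ G.R => f pt) (eR_ιR G u)
  exact h4

end General

section Field

variable {S : Scheme.{u}} (G : GroupoidScheme S) (k : Type u) [Field k]
  (eU : G.U ≅ Spec (CommRingCat.of k))

include eU in
/-- the preimage of the component through the unit in `R ×_{s,k} k̄` is irreducible -/
theorem isIrreducible_preimage_algClosure (x : G.U) :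
    IsIrreducible ((pullback.fst G.s (uK G k eU)) ⁻¹' irreducibleComponent (G.e x)) := by
  haveI hsub : Subsingleton ↥G.U := HM.subsingleton_of_iso_spec_field k eU
  set u := uK G k eU with hu
  obtain ⟨pt⟩ : Nonempty ↥(Spec (CommRingCat.of (AlgebraicClosure k))) :=
    inferInstanceAs (Nonempty (PrimeSpectrum (AlgebraicClosure k)))
  have hsΩ : Subsingleton ↥(Spec (CommRingCat.of (AlgebraicClosure k))) :=
    inferInstanceAs (Subsingleton (PrimeSpectrum (AlgebraicClosure k)))
  have hux : u pt = x := Subsingleton.elim _ _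
  set π := pullback.fst G.s u with hπ
  have hflatu : Flat u := flat_of_iso_spec_field G k eU u
  have hintu : IsIntegralHom u := by
    rw [hu, uK]
    haveI : IsIntegralHom (Spec.map (CommRingCat.ofHom (algebraMap k (AlgebraicClosure k)))) := by
      rw [IsIntegralHom.SpecMap_iff]
      exact algebraMap_isIntegral_iff.mpr inferInstance
    infer_instance
  have hflatπ : Flat π := pr_of_stable G u @Flat hflatu
  have hintπ : IsIntegralHom π := pr_of_stable G u @IsIntegralHom hintu
  have hflatq : Flat (q G u) := q_of_stable G u @Flat hflatu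
  -- the point over the unit
  have h1 : UniqueComp ((restr G u).e pt) :=
    uniqueComp_e_of_isAlgClosed (restr G u) (AlgebraicClosure k)
      (Iso.refl (Spec (CommRingCat.of (AlgebraicClosure k)))) pt
  set e'' := q G u ((restr G u).e pt) with he''
  have hu' : UniqueComp e'' :=
    uniqueComp_descends (q G u) (q G u).continuous (Flat.generalizingMap _) _ h1
  have hπe : π e'' = G.e x := by
    have h2 : π (q G u ((restr G u).e pt)) = ιR G u ((restr G u).e pt) := by
      have h3 := congrArg (fun f : R' G u ⟶ G.R => f ((restr G u).e pt)) (q_fst G u)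
      exact h3
    rw [he'', h2, ιR_e_apply, hux]
  -- the fibre over the unit
  have hE : IsPullback (pullback.fst G.e π)
      (pullback.snd G.e π ≫ pullback.snd G.s u) (G.e ≫ G.s) u :=
    (IsPullback.of_hasPullback G.e π).paste_vert (IsPullback.of_hasPullback G.s u)
  have hiso : IsIso (G.e ≫ G.s) := by rw [G.e_s]; infer_instance
  haveI : IsIso (pullback.snd G.e π ≫ pullback.snd G.s u) := hE.isIso_snd_of_isIso hiso
  have hsE : Subsingleton ↥(pullback G.e π) :=
    (pullback.snd G.e π ≫ pullback.snd G.s u).homeomorph.injective.subsingleton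
  have hfib : ∀ w, π w = π e'' → w = e'' := by
    intro w hw'
    rw [hπe] at hw'
    obtain ⟨z, -, hz⟩ := Scheme.Pullback.exists_preimage_pullback (f := G.e) (g := π)
      x w hw'.symm
    obtain ⟨z', -, hz'⟩ := Scheme.Pullback.exists_preimage_pullback (f := G.e) (g := π)
      x e'' hπe.symm
    rw [← hz, ← hz', Subsingleton.elim z z']
  have huu : UniqueComp (π e'') := by
    rw [hπe]; exact uniqueComp_e_of_field G k eU x
  have hkey := preimage_eq_irreducibleComponent π π.continuous π.isClosedMap
    (Flat.generalizingMap π) (irreducibleComponent (G.e x))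
    (irreducibleComponent_mem_irreducibleComponents _) e''
    (hπe ▸ mem_irreducibleComponent) huu hu' hfib
  rw [hkey]
  exact isIrreducible_irreducibleComponent

include eU in
/-- geometric irreducibility via `s` -/
theorem geometricallyIrreducible_s (Z : Scheme.{u}) (ι : Z ⟶ G.R) [IsClosedImmersion ι]
    (hZ : Set.range ⇑ι ∈ irreducibleComponents ↥G.R) (x : G.U)
    (he : G.e x ∈ Set.range ⇑ι) : GeometricallyIrreducible (ι ≫ G.s ≫ eU.hom) := by
  set u := uK G k eU with hu
  set π := pullback.fst G.s u with hπ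
  set tK : Spec (CommRingCat.of (AlgebraicClosure k)) ⟶ Spec (CommRingCat.of k) :=
    Spec.map (CommRingCat.ofHom (algebraMap k (AlgebraicClosure k))) with htK
  have hrange : Set.range ⇑ι = irreducibleComponent (G.e x) :=
    (uniqueComp_e_of_field G k eU x).eq_irreducibleComponent hZ he
  have hA0 : IrreducibleSpace ↥(pullback ι π) := by
    apply irreducibleSpace_of_isInducing _ (pullback.snd ι π).isEmbedding.isInducing
    rw [Scheme.Pullback.range_snd, hrange]
    exact isIrreducible_preimage_algClosure G k eU x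
  have hA : IrreducibleSpace ↥(pullback (ι ≫ G.s) u) :=
    ((pullbackRightPullbackFstIso G.s u ι).hom.homeomorph.irreducibleSpace_iff).mp hA0
  have hut : u ≫ eU.hom = tK := by
    rw [hu, uK, Category.assoc, Iso.inv_hom_id, Category.comp_id]
  have hsq : IsPullback (pullback.fst (ι ≫ G.s) u) (pullback.snd (ι ≫ G.s) u)
      (ι ≫ G.s ≫ eU.hom) tK := by
    have h1 := IsPullback.of_hasPullback (ι ≫ G.s) u
    have h2 : IsPullback u (𝟙 _) eU.hom tK :=
      IsPullback.of_vert_isIso ⟨by rw [Category.id_comp, hut]⟩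
    have h3 := h1.paste_vert h2
    simpa only [Category.assoc, Category.comp_id] using h3
  have hB : IrreducibleSpace ↥(pullback (ι ≫ G.s ≫ eU.hom) tK) :=
    (hsq.isoPullback.hom.homeomorph.irreducibleSpace_iff).mp hA
  exact Groth.Agent.Lib.Helper1.GeomIrrSep.geometricallyIrreducible_of_sepClosed
    (ι ≫ G.s ≫ eU.hom) tK

include eU in
/-- geometric irreducibility via `t` -/
theorem geometricallyIrreducible_t (Z : Scheme.{u}) (ι : Z ⟶ G.R) [IsClosedImmersion ι]
    (hZ : Set.range ⇑ι ∈ irreducibleComponents ↥G.R) (x : G.U)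
    (he : G.e x ∈ Set.range ⇑ι) : GeometricallyIrreducible (ι ≫ G.t ≫ eU.hom) := by
  haveI : IsIso G.i := ⟨⟨G.i, Groth.Agent.Lib.Helper25.GrpdTrans.i_i G,
    Groth.Agent.Lib.Helper25.GrpdTrans.i_i G⟩⟩
  have hrange : Set.range ⇑(ι ≫ G.i) = G.i.homeomorph '' Set.range ⇑ι := by
    ext y
    constructor
    · rintro ⟨z, rfl⟩
      exact ⟨ι z, ⟨z, rfl⟩, rfl⟩
    · rintro ⟨_, ⟨z, rfl⟩, rfl⟩
      exact ⟨z, rfl⟩
  have hZ' : Set.range ⇑(ι ≫ G.i) ∈ irreducibleComponents ↥G.R := by
    rw [hrange]
    refine ⟨hZ.1.image _ G.i.homeomorph.continuous.continuousOn, ?_⟩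
    intro T hT hsub
    have h1 : IsIrreducible (G.i.homeomorph.symm '' T) :=
      hT.image _ G.i.homeomorph.symm.continuous.continuousOn
    have h2 : Set.range ⇑ι ≤ G.i.homeomorph.symm '' T := by
      intro y hy
      exact ⟨G.i.homeomorph y, hsub ⟨y, hy, rfl⟩, G.i.homeomorph.symm_apply_apply y⟩
    have h3 := hZ.2 h1 h2
    intro w hw
    exact ⟨G.i.homeomorph.symm w, h3 ⟨w, hw, rfl⟩, G.i.homeomorph.apply_symm_apply w⟩
  have he' : G.e x ∈ Set.range ⇑(ι ≫ G.i) := by
    obtain ⟨z, hz⟩ := he
    refine ⟨z, ?_⟩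
    have h1 : (ι ≫ G.i) z = G.i (ι z) := rfl
    rw [h1, hz]
    have h2 := congrArg (fun f : G.U ⟶ G.R => f x) (e_i G)
    exact h2
  have h := geometricallyIrreducible_s G k eU Z (ι ≫ G.i) hZ' x he'
  have h2 : (ι ≫ G.i) ≫ G.s ≫ eU.hom = ι ≫ G.t ≫ eU.hom := by
    rw [Category.assoc, reassoc_of% G.i_s]
  rwa [h2] at h

end Field

end Groth.Agent.Lib.Helper20.HN
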