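import Mathlib
import Groth.Agent.Lib.Helper20.HN4
import Groth.Agent.Lib.Helper25.GrpdTrans

/-!
# HN5: over a field, every point of a groupoid scheme lies on a unique irreducible component,
and every local ring has a unique minimal prime
-/

set_option autoImplicit false
set_option linter.style.haveILetI false
set_option linter.unusedSimpArgs false
set_option linter.unusedSectionVars false
universe u
open CategoryTheory CategoryTheory.Limits AlgebraicGeometry

namespace Groth.Agent.Lib.Helper20.HN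

open Grpd Groth.Agent.Lib.Helper25.GrpdAlg Groth.Agent.Lib.Helper10.IdComp
  Groth.Agent.Lib.Helper20.HC Groth.Agent.Lib.Helper25.GrpdTrans

section Stalk

/-- a point lying on a unique irreducible component has a local ring with a unique minimal
prime -/
theorem subsingleton_minimalPrimes_stalk_of_uniqueComp {X : Scheme.{u}} (r : X)
    (h : UniqueComp r) : (minimalPrimes (X.presheaf.stalk r)).Subsingleton := by
  set j := X.fromSpecStalk r with hj
  have hCcl : IsClosed (irreducibleComponent r) := isClosed_irreducibleComponent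
  obtain ⟨ξ, hξ⟩ := QuasiSober.sober (isIrreducible_irreducibleComponent (x := r)) hCcl
  have hξr : ξ ⤳ r := hξ.specializes mem_irreducibleComponent
  have hξrange : ξ ∈ Set.range j := by
    rw [hj, Scheme.range_fromSpecStalk]; exact hξr
  obtain ⟨𝔮, h𝔮⟩ : ∃ 𝔮 : PrimeSpectrum (X.presheaf.stalk r), j 𝔮 = ξ := hξrange
  have key : ∀ 𝔭 ∈ minimalPrimes (X.presheaf.stalk r), 𝔭 = 𝔮.asIdeal := by
    intro 𝔭 h𝔭
    haveI : 𝔭.IsPrime := h𝔭.1.1
    let P : PrimeSpectrum (X.presheaf.stalk r) := ⟨𝔭, inferInstance⟩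
    have h1 : j P ⤳ r := by
      have : j P ∈ Set.range j := ⟨P, rfl⟩
      rw [hj, Scheme.range_fromSpecStalk] at this
      exact this
    have h2 : closure {j P} ⊆ irreducibleComponent r :=
      h.subset_irreducibleComponent isIrreducible_singleton.closure
        (specializes_iff_mem_closure.mp h1)
    have h3 : ξ ⤳ j P := hξ.specializes (h2 (subset_closure rfl))
    rw [← h𝔮] at h3
    have h4 : 𝔮 ⤳ P := (j.isEmbedding.isInducing.specializes_iff).mp h3
    have h5 : 𝔮 ≤ P := (PrimeSpectrum.le_iff_specializes _ _).mpr h4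
    have h6 : 𝔮.asIdeal ≤ 𝔭 := h5
    exact le_antisymm (h𝔭.2 ⟨𝔮.isPrime, bot_le⟩ h6) h6
  intro 𝔭₁ h₁ 𝔭₂ h₂
  rw [key 𝔭₁ h₁, key 𝔭₂ h₂]

end Stalk

section Trans

variable {S : Scheme.{u}} (G : GroupoidScheme S) {T : Scheme.{u}} (ρ : T ⟶ G.R)

theorem rtr_cond : pullback.fst G.s (ρ ≫ G.t) ≫ G.s =
    (pullback.snd G.s (ρ ≫ G.t) ≫ ρ) ≫ G.t := by
  rw [pullback.condition, Category.assoc]

/-- right translation by `ρ`: `(α, τ) ↦ (α ∘ ρ(τ), τ)` -/
noncomputable def rtr : pullback G.s (ρ ≫ G.t) ⟶ pullback G.s (ρ ≫ G.s) :=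
  pullback.lift (comp G (pullback.fst _ _) (pullback.snd _ _ ≫ ρ) (rtr_cond G ρ))
    (pullback.snd _ _) (by rw [comp_s, Category.assoc])

theorem rtrInv_cond : pullback.fst G.s (ρ ≫ G.s) ≫ G.s =
    (pullback.snd G.s (ρ ≫ G.s) ≫ ρ ≫ G.i) ≫ G.t := by
  rw [pullback.condition, Category.assoc, Category.assoc, G.i_t]

/-- the inverse of right translation by `ρ` -/
noncomputable def rtrInv : pullback G.s (ρ ≫ G.s) ⟶ pullback G.s (ρ ≫ G.t) :=
  pullback.lift (comp G (pullback.fst _ _) (pullback.snd _ _ ≫ ρ ≫ G.i) (rtrInv_cond G ρ))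
    (pullback.snd _ _) (by rw [comp_s, Category.assoc, Category.assoc, G.i_s])

theorem rtr_fst : rtr G ρ ≫ pullback.fst _ _ =
    comp G (pullback.fst _ _) (pullback.snd _ _ ≫ ρ) (rtr_cond G ρ) := pullback.lift_fst _ _ _
theorem rtr_snd : rtr G ρ ≫ pullback.snd _ _ = pullback.snd _ _ := pullback.lift_snd _ _ _
theorem rtrInv_fst : rtrInv G ρ ≫ pullback.fst _ _ =
    comp G (pullback.fst _ _) (pullback.snd _ _ ≫ ρ ≫ G.i) (rtrInv_cond G ρ) :=
  pullback.lift_fst _ _ _
theorem rtrInv_snd : rtrInv G ρ ≫ pullback.snd _ _ = pullback.snd _ _ := pullback.lift_snd _ _ _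

theorem rtr_rtrInv : rtr G ρ ≫ rtrInv G ρ = 𝟙 _ := by
  apply pullback.hom_ext
  · rw [Category.assoc, rtrInv_fst, precomp, Category.id_comp]
    refine (comp_congr G (rtr_fst G ρ) ?_ _ ?_).trans
      (comp_comp_inv_cancel G (pullback.fst _ _) (pullback.snd _ _ ≫ ρ) (rtr_cond G ρ))
    · rw [← Category.assoc, rtr_snd, Category.assoc]
    · simp only [comp_s, Category.assoc, G.i_t]
  · rw [Category.assoc, rtrInv_snd, rtr_snd, Category.id_comp]

theorem rtrInv_rtr : rtrInv G ρ ≫ rtr G ρ = 𝟙 _ := by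
  apply pullback.hom_ext
  · rw [Category.assoc, rtr_fst, precomp, Category.id_comp]
    have hc : pullback.fst G.s (ρ ≫ G.s) ≫ G.s = (pullback.snd G.s (ρ ≫ G.s) ≫ ρ) ≫ G.s := by
      rw [pullback.condition, Category.assoc]
    refine (comp_congr G ((rtrInv_fst G ρ).trans (comp_congr G rfl ?_ _ ?_)) ?_ _ ?_).trans
      (comp_inv_comp_cancel G (pullback.fst _ _) (pullback.snd _ _ ≫ ρ) hc)
    · rw [Category.assoc]
    · rw [Category.assoc, G.i_t, hc]
    · rw [← Category.assoc, rtrInv_snd]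
    · rw [comp_s, Category.assoc, G.i_s]
  · rw [Category.assoc, rtr_snd, rtrInv_snd, Category.id_comp]

instance : IsIso (rtr G ρ) := ⟨⟨rtrInv G ρ, rtr_rtrInv G ρ, rtrInv_rtr G ρ⟩⟩

/-- the point `(e(t ρ τ), τ)` -/
noncomputable def ptA : T ⟶ pullback G.s (ρ ≫ G.t) :=
  pullback.lift (ρ ≫ G.t ≫ G.e) (𝟙 T)
    (by rw [Category.assoc, Category.assoc, G.e_s, Category.comp_id, Category.id_comp])

theorem ptA_fst : ptA G ρ ≫ pullback.fst _ _ = ρ ≫ G.t ≫ G.e := pullback.lift_fst _ _ _
theorem ptA_snd : ptA G ρ ≫ pullback.snd _ _ = 𝟙 T := pullback.lift_snd _ _ _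

theorem ptA_rtr_fst : ptA G ρ ≫ rtr G ρ ≫ pullback.fst _ _ = ρ := by
  rw [rtr_fst, precomp]
  refine (comp_congr G (ptA_fst G ρ) ?_ _ ?_).trans (e_comp G ρ)
  · rw [← Category.assoc, ptA_snd, Category.id_comp]
  · rw [Category.assoc, Category.assoc, G.e_s, Category.comp_id]

end Trans

section Field

variable {S : Scheme.{u}} (G : GroupoidScheme S) (k : Type u) [Field k]
  (eU : G.U ≅ Spec (CommRingCat.of k))

include eU in
theorem isIrreducible_preimage_of_field (L : Type u) [Field L]
    (a : Spec (CommRingCat.of L) ⟶ G.U) (x : G.U) :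
    IsIrreducible ((pullback.fst G.s a) ⁻¹' irreducibleComponent (G.e x)) := by
  obtain ⟨Z, ι, hcl, hr, hirr⟩ := exists_closedSubscheme (irreducibleComponent (G.e x))
    isClosed_irreducibleComponent isIrreducible_irreducibleComponent
  have hgi : GeometricallyIrreducible (ι ≫ G.s ≫ eU.hom) :=
    geometricallyIrreducible_s G k eU Z ι
      (hr ▸ irreducibleComponent_mem_irreducibleComponents _) x (hr ▸ mem_irreducibleComponent)
  set π := pullback.fst G.s a with hπ
  have hsq : IsPullback (pullback.fst (ι ≫ G.s) a) (pullback.snd (ι ≫ G.s) a)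
      (ι ≫ G.s ≫ eU.hom) (a ≫ eU.hom) := by
    have h1 := IsPullback.of_hasPullback (ι ≫ G.s) a
    have h2 : IsPullback a (𝟙 _) eU.hom (a ≫ eU.hom) :=
      IsPullback.of_vert_isIso ⟨by rw [Category.id_comp]⟩
    have h3 := h1.paste_vert h2
    simpa only [Category.assoc, Category.comp_id] using h3
  have hA : IrreducibleSpace ↥(pullback (ι ≫ G.s) a) :=
    GeometricallyIrreducible.geometrically_irreducibleSpace (f := ι ≫ G.s ≫ eU.hom)
      (a ≫ eU.hom) _ _ hsq
  have hA0 : IrreducibleSpace ↥(pullback ι π) :=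
    ((pullbackRightPullbackFstIso G.s a ι).hom.homeomorph.irreducibleSpace_iff).mpr hA
  have h4 : IsIrreducible (Set.range (pullback.snd ι π)) :=
    isIrreducible_range_of_irreducibleSpace _
  rwa [Scheme.Pullback.range_snd, hr] at h4

include eU in
/-- **Over a field every point of a groupoid scheme lies on a unique irreducible component.** -/
theorem uniqueComp_of_field (r : G.R) : UniqueComp r := by
  haveI hsub : Subsingleton ↥G.U := HM.subsingleton_of_iso_spec_field k eU
  set ρ : Spec (CommRingCat.of (G.R.residueField r)) ⟶ G.R := G.R.fromSpecResidueField r with hρ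
  obtain ⟨τ⟩ : Nonempty ↥(Spec (CommRingCat.of (G.R.residueField r))) :=
    inferInstanceAs (Nonempty (PrimeSpectrum (G.R.residueField r)))
  have hρτ : ρ τ = r := by
    have : ρ τ ∈ Set.range (G.R.fromSpecResidueField r) := ⟨τ, rfl⟩
    rw [Scheme.range_fromSpecResidueField] at this
    exact this
  -- the point over the unit
  set π₁ := pullback.fst G.s (ρ ≫ G.t) with hπ₁
  have hflat₁ : Flat π₁ := pr_of_stable G _ @Flat (flat_of_iso_spec_field G k eU _)
  have hπ₁e : π₁ (ptA G ρ τ) = G.e ((ρ ≫ G.t) τ) := by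
    have h1 := congrArg (fun f : Spec (CommRingCat.of (G.R.residueField r)) ⟶ G.R => f τ)
      (ptA_fst G ρ)
    exact h1
  have hua : UniqueComp (ptA G ρ τ) := by
    apply uniqueComp_of_isIrreducible_preimage π₁ π₁.continuous (Flat.generalizingMap _)
    · rw [hπ₁e]; exact uniqueComp_e_of_field G k eU _
    · rw [hπ₁e]
      exact isIrreducible_preimage_of_field G k eU (G.R.residueField r) (ρ ≫ G.t) _
  have h2 := uniqueComp_of_homeomorph (rtr G ρ).homeomorph _ hua
  set π₂ := pullback.fst G.s (ρ ≫ G.s) with hπ₂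
  have hflat₂ : Flat π₂ := pr_of_stable G _ @Flat (flat_of_iso_spec_field G k eU _)
  have h3 := uniqueComp_descends π₂ π₂.continuous (Flat.generalizingMap _) _ h2
  have h4 : π₂ ((rtr G ρ).homeomorph (ptA G ρ τ)) = r := by
    have h5 := congrArg (fun f : Spec (CommRingCat.of (G.R.residueField r)) ⟶ G.R => f τ)
      (ptA_rtr_fst G ρ)
    exact h5.trans hρτ
  rwa [h4] at h3

include eU in
/-- **Over a field every local ring of a groupoid scheme has a unique minimal prime.** -/
theorem subsingleton_minimalPrimes_stalk_of_field (r : G.R) :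
    (minimalPrimes (G.R.presheaf.stalk r)).Subsingleton :=
  subsingleton_minimalPrimes_stalk_of_uniqueComp r (uniqueComp_of_field G k eU r)

end Field

end Groth.Agent.Lib.Helper20.HN
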