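import Mathlib
import Groth.Agent.Lib.Helper20.HP1
import Groth.Agent.Lib.Helper20.HN5
import Groth.Agent.Lib.Helper6.EtLocFibre

/-!
# HP2: finite fibres of the source map of a groupoid scheme along orbits
-/

set_option autoImplicit false
set_option linter.style.haveILetI false
set_option linter.unusedSimpArgs false
set_option linter.unusedSectionVars false
universe u
open CategoryTheory CategoryTheory.Limits AlgebraicGeometry

namespace Groth.Agent.Lib.Helper20.HP

open Grpd Groth.Agent.Lib.Helper25.GrpdAlg Groth.Agent.Lib.Helper20.HN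

variable {S : Scheme.{u}} (G : GroupoidScheme S)

theorem s_e_apply (u : G.U) : G.s (G.e u) = u := by
  have h := congrArg (fun f : G.U ⟶ G.U => f u) G.e_s
  exact h

theorem t_e_apply (u : G.U) : G.t (G.e u) = u := by
  have h := congrArg (fun f : G.U ⟶ G.U => f u) G.e_t
  exact h

theorem s_i_apply (r : G.R) : G.s (G.i r) = G.t r := by
  have h := congrArg (fun f : G.R ⟶ G.U => f r) G.i_s
  exact h

theorem t_i_apply (r : G.R) : G.t (G.i r) = G.s r := by
  have h := congrArg (fun f : G.R ⟶ G.U => f r) G.i_t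
  exact h

theorem pU_s_apply (r : G.R) : G.pU (G.s r) = G.pR r := by
  have h := congrArg (fun f : G.R ⟶ S => f r) G.s_over
  exact h

theorem pU_t_apply (r : G.R) : G.pU (G.t r) = G.pR r := by
  have h := congrArg (fun f : G.R ⟶ S => f r) G.t_over
  exact h

/-- composing composable points -/
theorem exists_comp_point (r₁ r₀ : G.R) (h : G.s r₁ = G.t r₀) :
    ∃ r₂ : G.R, G.s r₂ = G.s r₀ ∧ G.t r₂ = G.t r₁ := by
  obtain ⟨z, hz1, hz2⟩ := Scheme.Pullback.exists_preimage_pullback (f := G.s) (g := G.t) r₁ r₀ h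
  refine ⟨G.c z, ?_, ?_⟩
  · have h1 := congrArg (fun f : pullback G.s G.t ⟶ G.U => f z)
      (Groth.Agent.Lib.Helper25.GrpdTrans.c_s G)
    have h2 : (pullback.snd G.s G.t ≫ G.s) z = G.s (pullback.snd G.s G.t z) := rfl
    rw [← hz2, ← h2]
    exact h1
  · have h1 := congrArg (fun f : pullback G.s G.t ⟶ G.U => f z)
      (Groth.Agent.Lib.Helper25.GrpdTrans.c_t G)
    have h2 : (pullback.fst G.s G.t ≫ G.t) z = G.t (pullback.fst G.s G.t z) := rfl
    rw [← hz1, ← h2]
    exact h1

/-- if the fibre of `s` over `s r₀` is finite, so is the fibre over `t r₀` -/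
theorem finite_preimage_t [LocallyOfFiniteType G.s] (r₀ : G.R)
    (hfin : (G.s ⁻¹' {G.s r₀}).Finite) : (G.s ⁻¹' {G.t r₀}).Finite := by
  set u := G.s r₀ with hu
  set ρ := G.R.fromSpecResidueField r₀ with hρ
  set φ := G.s.residueFieldMap r₀ with hφ
  have hρs : Spec.map φ ≫ G.U.fromSpecResidueField u = ρ ≫ G.s :=
    Scheme.Hom.SpecMap_residueFieldMap_fromSpecResidueField G.s r₀
  set F := G.s.fiberToSpecResidueField u with hF
  haveI : Finite ↥(G.s ⁻¹' {u}) := hfin.to_subtype
  haveI : Finite ↑(G.s.fiber u) := Finite.of_equiv _ (G.s.fiberHomeo u).symm.toEquiv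
  haveI : LocallyOfFiniteType F :=
    Groth.Agent.Lib.Helper6.EtLoc.locallyOfFiniteType_fiberToSpecResidueField G.s u
  haveI hlqf : LocallyQuasiFinite F :=
    LocallyQuasiFinite.of_finite_preimage_singleton _ fun _ => Set.toFinite _
  haveI : CompactSpace ↑(G.s.fiber u) := Finite.compactSpace
  haveI : QuasiCompact F := inferInstance
  have hfin1 : Finite ↑(pullback F (Spec.map φ)) := by
    have h1 := Scheme.Hom.finite_preimage_singleton (pullback.snd F (Spec.map φ))
      (IsLocalRing.closedPoint (G.R.residueField r₀))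
    haveI : Subsingleton ↥(Spec (G.R.residueField r₀)) :=
      inferInstanceAs (Subsingleton (PrimeSpectrum (G.R.residueField r₀)))
    refine Set.finite_univ_iff.mp (h1.subset fun z _ => ?_)
    exact Subsingleton.elim (α := ↥(Spec (G.R.residueField r₀))) _ _
  let e1 : pullback F (Spec.map φ) ≅ pullback G.s (Spec.map φ ≫ G.U.fromSpecResidueField u) :=
    pullbackLeftPullbackSndIso G.s (G.U.fromSpecResidueField u) (Spec.map φ)
  let e2 : pullback G.s (Spec.map φ ≫ G.U.fromSpecResidueField u) ≅ pullback G.s (ρ ≫ G.s) :=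
    pullback.congrHom rfl hρs
  let e3 : pullback G.s (ρ ≫ G.s) ≅ pullback G.s (ρ ≫ G.t) := (asIso (rtr G ρ)).symm
  haveI hfin2 : Finite ↑(pullback G.s (ρ ≫ G.t)) :=
    Finite.of_equiv _ (e1 ≪≫ e2 ≪≫ e3).hom.homeomorph.toEquiv
  have hrange : Set.range (pullback.fst G.s (ρ ≫ G.t)) = G.s ⁻¹' {G.t r₀} := by
    rw [Scheme.Pullback.range_fst]
    congr 1
    have h3 : Set.range (ρ ≫ G.t) = G.t '' Set.range ρ := by
      ext y
      constructor
      · rintro ⟨z, rfl⟩
        exact ⟨ρ z, ⟨z, rfl⟩, rfl⟩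
      · rintro ⟨_, ⟨z, rfl⟩, rfl⟩
        exact ⟨z, rfl⟩
    rw [h3, hρ, Scheme.range_fromSpecResidueField, Set.image_singleton]
  rw [← hrange]
  exact Set.finite_range _

end Groth.Agent.Lib.Helper20.HP
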