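import Mathlib
import Groth.Agent.Lib.Helper20.HP2

/-!
# HP3: the finite orbit data at a point with finite source fibre
-/

set_option autoImplicit false
set_option linter.style.haveILetI false
set_option linter.unusedSimpArgs false
set_option linter.unusedSectionVars false
universe u
open CategoryTheory CategoryTheory.Limits AlgebraicGeometry

namespace Groth.Agent.Lib.Helper20.HP

open Grpd Groth.Agent.Lib.Helper25.GrpdAlg Groth.Agent.Lib.Helper20.HN

variable {S : Scheme.{u}} (G : GroupoidScheme S)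

/-- the orbit of `u`: `t(s⁻¹ u)` -/
def T0 (u : G.U) : Set G.U := G.t '' (G.s ⁻¹' {u})

/-- the arrows with source in the orbit -/
def Fall (u : G.U) : Set G.R := G.s ⁻¹' (T0 G u)

theorem mem_T0 (u : G.U) : u ∈ T0 G u := ⟨G.e u, s_e_apply G u, t_e_apply G u⟩

theorem fibre_subset_Fall (u : G.U) : G.s ⁻¹' {u} ⊆ Fall G u := by
  intro r hr
  change G.s r ∈ T0 G u
  rw [hr]
  exact mem_T0 G u

theorem e_mem_Fall (u : G.U) : G.e u ∈ Fall G u := fibre_subset_Fall G u (s_e_apply G u)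

theorem t_mem_T0_of_mem_Fall (u : G.U) (r : G.R) (hr : r ∈ Fall G u) : G.t r ∈ T0 G u := by
  obtain ⟨r₀, hr₀, hr₀t⟩ := hr
  obtain ⟨r₂, h1, h2⟩ := exists_comp_point G r r₀ hr₀t.symm
  exact ⟨r₂, h1.trans hr₀, h2⟩

theorem s_mem_T0_of_mem_Fall (u : G.U) (r : G.R) (hr : r ∈ Fall G u) : G.s r ∈ T0 G u := hr

theorem finite_T0 (u : G.U) (hfin : (G.s ⁻¹' {u}).Finite) : (T0 G u).Finite := hfin.image _

theorem finite_fibre_of_mem_T0 [LocallyOfFiniteType G.s] (u : G.U)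
    (hfin : (G.s ⁻¹' {u}).Finite) (y : G.U) (hy : y ∈ T0 G u) : (G.s ⁻¹' {y}).Finite := by
  obtain ⟨r₀, hr₀, rfl⟩ := hy
  apply finite_preimage_t G r₀
  have : G.s r₀ = u := hr₀
  rw [this]
  exact hfin

theorem finite_Fall [LocallyOfFiniteType G.s] (u : G.U) (hfin : (G.s ⁻¹' {u}).Finite) :
    (Fall G u).Finite := by
  have h1 : Fall G u = ⋃ y ∈ T0 G u, G.s ⁻¹' {y} := by
    ext r
    simp only [Fall, Set.mem_preimage, Set.mem_iUnion, Set.mem_singleton_iff, exists_prop,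
      exists_eq_right']
  rw [h1]
  exact (finite_T0 G u hfin).biUnion fun y hy => finite_fibre_of_mem_T0 G u hfin y hy

theorem pU_of_mem_T0 (u : G.U) (y : G.U) (hy : y ∈ T0 G u) : G.pU y = G.pU u := by
  obtain ⟨r₀, hr₀, rfl⟩ := hy
  have : G.s r₀ = u := hr₀
  rw [pU_t_apply, ← pU_s_apply, this]

theorem pR_of_mem_Fall (u : G.U) (r : G.R) (hr : r ∈ Fall G u) : G.pR r = G.pU u := by
  rw [← pU_s_apply]
  exact pU_of_mem_T0 G u _ hr

section QF

variable [LocallyOfFiniteType G.pU] [Flat G.s] [LocallyOfFinitePresentation G.s] [Flat G.t]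
  [LocallyOfFinitePresentation G.t]

theorem quasiFiniteAt_pU_of_mem_T0 (u : G.U) (hqf : G.pU.QuasiFiniteAt u)
    (hfin : (G.s ⁻¹' {u}).Finite) (y : G.U) (hy : y ∈ T0 G u) : G.pU.QuasiFiniteAt y := by
  obtain ⟨r₀, hr₀, rfl⟩ := hy
  have hr₀' : G.s r₀ = u := hr₀
  have h1 : G.s.QuasiFiniteAt r₀ :=
    Groth.Agent.Lib.Helper6.EtLoc.quasiFiniteAt_of_finite_fiber G.s u hfin r₀ hr₀'
  have h2 : (G.s ≫ G.pU).QuasiFiniteAt r₀ :=
    quasiFiniteAt_comp G.s G.pU r₀ h1 (by rw [hr₀']; exact hqf)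
  have h3 : (G.t ≫ G.pU).QuasiFiniteAt r₀ := by
    rw [G.t_over, ← G.s_over]; exact h2
  exact quasiFiniteAt_of_isOpenMap G.t G.pU G.t.isOpenMap r₀ h3

theorem quasiFiniteAt_pR_of_mem_Fall (u : G.U) (hqf : G.pU.QuasiFiniteAt u)
    (hfin : (G.s ⁻¹' {u}).Finite) (r : G.R) (hr : r ∈ Fall G u) : G.pR.QuasiFiniteAt r := by
  have h1 : G.s.QuasiFiniteAt r :=
    Groth.Agent.Lib.Helper6.EtLoc.quasiFiniteAt_of_finite_fiber G.s (G.s r)
      (finite_fibre_of_mem_T0 G u hfin _ hr) r rfl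
  have h2 : G.pU.QuasiFiniteAt (G.s r) := quasiFiniteAt_pU_of_mem_T0 G u hqf hfin _ hr
  have h3 := quasiFiniteAt_comp G.s G.pU r h1 h2
  rwa [G.s_over] at h3

end QF

end Groth.Agent.Lib.Helper20.HP
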