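import Mathlib
import Groth.Agent.Lib.Helper20.HP3

/-!
# HP4: base change of the source and target maps of a groupoid scheme
-/

set_option autoImplicit false
set_option linter.style.haveILetI false
set_option linter.unusedSimpArgs false
set_option linter.unusedSectionVars false
universe u
open CategoryTheory CategoryTheory.Limits AlgebraicGeometry

namespace Groth.Agent.Lib.Helper20.HP

open Grpd

variable {S : Scheme.{u}} (G : GroupoidScheme S) {S' : Scheme.{u}} (g : S' ⟶ S)

/-- the base change of `s` -/
noncomputable abbrev sB : pullback G.pR g ⟶ pullback G.pU g :=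
  pullback.map G.pR g G.pU g G.s (𝟙 S') (𝟙 S) ((Category.comp_id _).trans G.s_over.symm)
    ((Category.comp_id _).trans (Category.id_comp _).symm)

/-- the base change of `t` -/
noncomputable abbrev tB : pullback G.pR g ⟶ pullback G.pU g :=
  pullback.map G.pR g G.pU g G.t (𝟙 S') (𝟙 S) ((Category.comp_id _).trans G.t_over.symm)
    ((Category.comp_id _).trans (Category.id_comp _).symm)

theorem sB_fst : sB G g ≫ pullback.fst G.pU g = pullback.fst G.pR g ≫ G.s :=
  pullback.lift_fst _ _ _
theorem sB_snd : sB G g ≫ pullback.snd G.pU g = pullback.snd G.pR g := by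
  rw [sB, pullback.map, pullback.lift_snd, Category.comp_id]
theorem tB_fst : tB G g ≫ pullback.fst G.pU g = pullback.fst G.pR g ≫ G.t :=
  pullback.lift_fst _ _ _
theorem tB_snd : tB G g ≫ pullback.snd G.pU g = pullback.snd G.pR g := by
  rw [tB, pullback.map, pullback.lift_snd, Category.comp_id]

theorem sB_fst_apply (r : ↑(pullback G.pR g)) :
    pullback.fst G.pU g (sB G g r) = G.s (pullback.fst G.pR g r) := by
  have h := congrArg (fun f : pullback G.pR g ⟶ G.U => f r) (sB_fst G g)
  exact h
theorem sB_snd_apply (r : ↑(pullback G.pR g)) :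
    pullback.snd G.pU g (sB G g r) = pullback.snd G.pR g r := by
  have h := congrArg (fun f : pullback G.pR g ⟶ S' => f r) (sB_snd G g)
  exact h
theorem tB_fst_apply (r : ↑(pullback G.pR g)) :
    pullback.fst G.pU g (tB G g r) = G.t (pullback.fst G.pR g r) := by
  have h := congrArg (fun f : pullback G.pR g ⟶ G.U => f r) (tB_fst G g)
  exact h
theorem tB_snd_apply (r : ↑(pullback G.pR g)) :
    pullback.snd G.pU g (tB G g r) = pullback.snd G.pR g r := by
  have h := congrArg (fun f : pullback G.pR g ⟶ S' => f r) (tB_snd G g)
  exact h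

theorem isPullback_tB :
    IsPullback (pullback.fst G.pR g) (tB G g) G.t (pullback.fst G.pU g) := by
  have hbig : IsPullback (pullback.fst G.pR g) (tB G g ≫ pullback.snd G.pU g)
      (G.t ≫ G.pU) g := by
    rw [tB_snd, G.t_over]
    exact IsPullback.of_hasPullback G.pR g
  exact IsPullback.of_bot hbig (tB_fst G g).symm (IsPullback.of_hasPullback G.pU g)

theorem isPullback_sB :
    IsPullback (pullback.fst G.pR g) (sB G g) G.s (pullback.fst G.pU g) := by
  have hbig : IsPullback (pullback.fst G.pR g) (sB G g ≫ pullback.snd G.pU g)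
      (G.s ≫ G.pU) g := by
    rw [sB_snd, G.s_over]
    exact IsPullback.of_hasPullback G.pR g
  exact IsPullback.of_bot hbig (sB_fst G g).symm (IsPullback.of_hasPullback G.pU g)

instance [Flat G.t] [LocallyOfFinitePresentation G.t] : UniversallyOpen (tB G g) :=
  MorphismProperty.of_isPullback (P := @UniversallyOpen) (isPullback_tB G g) inferInstance

instance [Flat G.s] [LocallyOfFinitePresentation G.s] : UniversallyOpen (sB G g) :=
  MorphismProperty.of_isPullback (P := @UniversallyOpen) (isPullback_sB G g) inferInstance

end Groth.Agent.Lib.Helper20.HP
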