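import Mathlib
import Groth.Agent.Lib.Helper20.HP4
import Groth.Agent.Lib.Helper6.EtLocUnion

/-!
# HP5: the finite part of a groupoid scheme over an étale neighbourhood, from a finite
clopen piece of the arrows
-/

set_option autoImplicit false
set_option linter.style.haveILetI false
set_option linter.unusedSimpArgs false
set_option linter.unusedSectionVars false
universe u
open CategoryTheory CategoryTheory.Limits AlgebraicGeometry

namespace Groth.Agent.Lib.Helper20.HP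

open Grpd

variable {S : Scheme.{u}} (G : GroupoidScheme S) {S' : Scheme.{u}} (g : S' ⟶ S)
  (R₁ : (pullback G.pR g).Opens)

section Defs

variable [Flat G.t] [LocallyOfFinitePresentation G.t]

/-- the image of `R₁` under the base change of `t` -/
noncomputable def UB : (pullback G.pU g).Opens :=
  ⟨tB G g '' (R₁ : Set ↑(pullback G.pR g)), (tB G g).isOpenMap _ R₁.2⟩

/-- the part of `R₁` with source in `UB` -/
noncomputable def RB : (pullback G.pR g).Opens := R₁ ⊓ (sB G g) ⁻¹ᵁ (UB G g R₁)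

theorem mem_UB_iff (x : ↑(pullback G.pU g)) :
    x ∈ UB G g R₁ ↔ ∃ r ∈ R₁, tB G g r = x := Iff.rfl

theorem mem_RB_iff (r : ↑(pullback G.pR g)) :
    r ∈ RB G g R₁ ↔ r ∈ R₁ ∧ sB G g r ∈ UB G g R₁ := Iff.rfl

theorem sB_image_RB : sB G g '' (RB G g R₁ : Set ↑(pullback G.pR g)) ⊆ UB G g R₁ := by
  rintro _ ⟨r, hr, rfl⟩
  exact hr.2

theorem tB_image_RB : tB G g '' (RB G g R₁ : Set ↑(pullback G.pR g)) ⊆ UB G g R₁ := by
  rintro _ ⟨r, hr, rfl⟩
  exact ⟨r, hr.1, rfl⟩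

end Defs

section Finite

variable [Flat G.t] [LocallyOfFinitePresentation G.t] [LocallyOfFiniteType G.pU]
  [IsSeparated G.pU] [hfinR : IsFinite (R₁.ι ≫ pullback.snd G.pR g)]

include hfinR in
theorem universallyClosed_ι_tB : UniversallyClosed (R₁.ι ≫ tB G g) := by
  haveI : UniversallyClosed ((R₁.ι ≫ tB G g) ≫ pullback.snd G.pU g) := by
    rw [Category.assoc, tB_snd]; infer_instance
  exact UniversallyClosed.of_comp_of_isSeparated (R₁.ι ≫ tB G g) (pullback.snd G.pU g)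

include hfinR in
theorem isClosed_UB : IsClosed (UB G g R₁ : Set ↑(pullback G.pU g)) := by
  haveI := universallyClosed_ι_tB G g R₁
  have h1 : Set.range (R₁.ι ≫ tB G g) = (UB G g R₁ : Set ↑(pullback G.pU g)) := by
    ext x
    constructor
    · rintro ⟨r, rfl⟩
      exact ⟨R₁.ι r, r.2, rfl⟩
    · rintro ⟨r, hr, rfl⟩
      exact ⟨⟨r, hr⟩, rfl⟩
  rw [← h1]
  exact (R₁.ι ≫ tB G g).isClosedMap.isClosed_range

include hfinR in
theorem isFinite_UB : IsFinite ((UB G g R₁).ι ≫ pullback.snd G.pU g) := by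
  have hrange : Set.range (R₁.ι ≫ tB G g) ⊆ Set.range (UB G g R₁).ι := by
    rintro _ ⟨r, rfl⟩
    rw [Scheme.Opens.range_ι]
    exact ⟨R₁.ι r, r.2, rfl⟩
  set τ := IsOpenImmersion.lift (UB G g R₁).ι (R₁.ι ≫ tB G g) hrange with hτ
  have hτfac : τ ≫ (UB G g R₁).ι = R₁.ι ≫ tB G g := IsOpenImmersion.lift_fac _ _ _
  set h := (UB G g R₁).ι ≫ pullback.snd G.pU g with hh
  have hτh : τ ≫ h = R₁.ι ≫ pullback.snd G.pR g := by
    rw [hh, ← Category.assoc, hτfac, Category.assoc, tB_snd]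
  haveI hsurj : Surjective τ := by
    refine ⟨fun y => ?_⟩
    obtain ⟨r, hr, hry⟩ := y.2
    refine ⟨⟨r, hr⟩, ?_⟩
    apply (UB G g R₁).ι.isOpenEmbedding.injective
    have h1 := congrArg (fun f : (R₁ : Scheme.{u}) ⟶ pullback G.pU g => f ⟨r, hr⟩) hτfac
    exact h1.trans hry
  haveI hfin' : IsFinite (τ ≫ h) := by rw [hτh]; exact hfinR
  haveI : UniversallyClosed (τ ≫ h) := inferInstance
  haveI : UniversallyClosed h := UniversallyClosed.of_comp_surjective τ h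
  haveI : IsProper h := { }
  haveI : LocallyQuasiFinite h := by
    apply LocallyQuasiFinite.of_finite_preimage_singleton
    intro y
    have h1 : (τ ≫ h) ⁻¹' {y} = τ ⁻¹' (h ⁻¹' {y}) := rfl
    have h2 := Scheme.Hom.finite_preimage_singleton (τ ≫ h) y
    rw [h1] at h2
    have h3 : h ⁻¹' {y} = τ '' (τ ⁻¹' (h ⁻¹' {y})) :=
      (Set.image_preimage_eq _ τ.surjective).symm
    rw [h3]
    exact h2.image _
  exact IsFinite.of_isProper_of_locallyQuasiFinite h

include hfinR in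
theorem isFinite_RB [Flat G.s] [LocallyOfFinitePresentation G.s]
    (hcl : IsClosed (R₁ : Set ↑(pullback G.pR g))) :
    IsClosed (RB G g R₁ : Set ↑(pullback G.pR g)) ∧
      IsFinite ((RB G g R₁).ι ≫ pullback.snd G.pR g) := by
  have h1 : IsClosed (RB G g R₁ : Set ↑(pullback G.pR g)) :=
    hcl.inter ((isClosed_UB G g R₁).preimage (sB G g).continuous)
  exact ⟨h1, Groth.Agent.Lib.Helper6.EtLoc.isFinite_of_le_of_isClosed (pullback.snd G.pR g)
    (inf_le_left : RB G g R₁ ≤ R₁) h1⟩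

end Finite

section Fibre

variable [Flat G.t] [LocallyOfFinitePresentation G.t]
  (u : G.U) (p' : S') (hgp : g p' = G.pU u)
  (hbij : Function.Bijective (g.residueFieldMap p'))
  (hF1 : ∀ r' : ↑(pullback G.pR g), pullback.snd G.pR g r' = p' →
    pullback.fst G.pR g r' ∈ Fall G u → r' ∈ R₁)
  (hF2 : ∀ r' ∈ R₁, pullback.snd G.pR g r' = p' → pullback.fst G.pR g r' ∈ Fall G u)

include hgp hbij hF1 hF2 in
theorem mem_UB_fibre_iff (x : ↑(pullback G.pU g)) (hx : pullback.snd G.pU g x = p') :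
    x ∈ UB G g R₁ ↔ pullback.fst G.pU g x ∈ T0 G u := by
  constructor
  · rintro ⟨r', hr', rfl⟩
    rw [tB_snd_apply] at hx
    rw [tB_fst_apply]
    exact t_mem_T0_of_mem_Fall G u _ (hF2 r' hr' hx)
  · rintro ⟨r₀, hr₀, hr₀t⟩
    have hr₀' : G.s r₀ = u := hr₀
    have h1 : G.pR r₀ = g p' := by rw [hgp, ← pU_s_apply, hr₀']
    obtain ⟨r', hr'1, hr'2⟩ := exists_point_over G.pR g r₀ p' h1
    have h2 : r' ∈ R₁ := hF1 r' hr'2 (by rw [hr'1]; exact fibre_subset_Fall G u hr₀)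
    refine ⟨r', h2, ?_⟩
    apply eq_of_fst_eq_of_snd_eq G.pU g p' hbij
    · rw [tB_snd_apply, hr'2]
    · exact hx
    · rw [tB_fst_apply, hr'1, hr₀t]

include hgp hbij hF1 hF2 in
theorem exists_point_UB :
    ∃ u' : ↑(pullback G.pU g), u' ∈ UB G g R₁ ∧ pullback.fst G.pU g u' = u ∧
      pullback.snd G.pU g u' = p' := by
  obtain ⟨u', h1, h2⟩ := exists_point_over G.pU g u p' hgp.symm
  refine ⟨u', ?_, h1, h2⟩
  rw [mem_UB_fibre_iff G g R₁ u p' hgp hbij hF1 hF2 u' h2, h1]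
  exact mem_T0 G u

include hgp hbij hF1 hF2 in
theorem fibre_UB_eq (u' : ↑(pullback G.pU g)) (h1 : pullback.fst G.pU g u' = u)
    (h2 : pullback.snd G.pU g u' = p') :
    {x : ↑(pullback G.pU g) | x ∈ UB G g R₁ ∧ pullback.snd G.pU g x = p'} =
      tB G g '' (sB G g ⁻¹' {u'}) := by
  ext x
  constructor
  · rintro ⟨hxU, hx⟩
    rw [mem_UB_fibre_iff G g R₁ u p' hgp hbij hF1 hF2 x hx] at hxU
    obtain ⟨r₀, hr₀, hr₀t⟩ := hxU
    have hr₀' : G.s r₀ = u := hr₀
    have h3 : G.pR r₀ = g p' := by rw [hgp, ← pU_s_apply, hr₀']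
    obtain ⟨r', hr'1, hr'2⟩ := exists_point_over G.pR g r₀ p' h3
    refine ⟨r', ?_, ?_⟩
    · apply eq_of_fst_eq_of_snd_eq G.pU g p' hbij
      · rw [sB_snd_apply, hr'2]
      · exact h2
      · rw [sB_fst_apply, hr'1, hr₀', h1]
    · apply eq_of_fst_eq_of_snd_eq G.pU g p' hbij
      · rw [tB_snd_apply, hr'2]
      · exact hx
      · rw [tB_fst_apply, hr'1, hr₀t]
  · rintro ⟨r', hr', rfl⟩
    have hr'' : sB G g r' = u' := hr'
    have h3 : pullback.snd G.pR g r' = p' := by rw [← sB_snd_apply, hr'', h2]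
    have h4 : G.s (pullback.fst G.pR g r') = u := by rw [← sB_fst_apply, hr'', h1]
    have h5 : r' ∈ R₁ := hF1 r' h3 (fibre_subset_Fall G u h4)
    exact ⟨⟨r', h5, rfl⟩, by rw [tB_snd_apply, h3]⟩

include hgp hbij hF1 hF2 in
theorem fibre_RB_eq :
    {r : ↑(pullback G.pR g) | r ∈ RB G g R₁ ∧ pullback.snd G.pR g r = p'} =
      sB G g ⁻¹' {x | x ∈ UB G g R₁ ∧ pullback.snd G.pU g x = p'} := by
  ext r
  constructor
  · rintro ⟨hr, hr2⟩
    exact ⟨hr.2, by rw [sB_snd_apply, hr2]⟩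
  · rintro ⟨hr1, hr2⟩
    have h3 : pullback.snd G.pR g r = p' := by rw [← sB_snd_apply]; exact hr2
    have h4 := (mem_UB_fibre_iff G g R₁ u p' hgp hbij hF1 hF2 _ hr2).mp hr1
    rw [sB_fst_apply] at h4
    exact ⟨⟨hF1 r h3 h4, hr1⟩, h3⟩

end Fibre

end Groth.Agent.Lib.Helper20.HP
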