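import Mathlib
import Groth.Agent.Lib.Helper20.HP5

/-!
# HP6: base change of `j = (t, s)` and closedness of images in the base
-/

set_option autoImplicit false
set_option linter.style.haveILetI false
set_option linter.unusedSimpArgs false
set_option linter.unusedSectionVars false
universe u
open CategoryTheory CategoryTheory.Limits AlgebraicGeometry

namespace Groth.Agent.Lib.Helper20.HP

open Grpd

variable {S : Scheme.{u}} (G : GroupoidScheme S) {S' : Scheme.{u}} (g : S' ⟶ S)

/-- `U_{S'} ×_{S'} U_{S'} ⟶ U ×_S U` -/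
noncomputable def κB : pullback (pullback.snd G.pU g) (pullback.snd G.pU g) ⟶ pullback G.pU G.pU :=
  pullback.map _ _ _ _ (pullback.fst G.pU g) (pullback.fst G.pU g) g
    pullback.condition.symm pullback.condition.symm

theorem κB_fst : κB G g ≫ pullback.fst G.pU G.pU =
    pullback.fst _ _ ≫ pullback.fst G.pU g := pullback.lift_fst _ _ _
theorem κB_snd : κB G g ≫ pullback.snd G.pU G.pU =
    pullback.snd _ _ ≫ pullback.fst G.pU g := pullback.lift_snd _ _ _

theorem isPullback_κB :
    IsPullback (κB G g) (pullback.fst (pullback.snd G.pU g) (pullback.snd G.pU g) ≫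
      pullback.snd G.pU g) (pullback.fst G.pU G.pU ≫ G.pU) g := by
  refine ⟨⟨?_⟩, ⟨PullbackCone.IsLimit.mk _ ?_ ?_ ?_ ?_⟩⟩
  · rw [← Category.assoc, κB_fst, Category.assoc, Category.assoc, pullback.condition]
  · intro c
    have h1 : (c.fst ≫ pullback.fst G.pU G.pU) ≫ G.pU = c.snd ≫ g := by
      rw [Category.assoc]; exact c.condition
    have h2 : (c.fst ≫ pullback.snd G.pU G.pU) ≫ G.pU = c.snd ≫ g := by
      rw [Category.assoc, ← pullback.condition]; exact c.condition
    exact pullback.lift (pullback.lift (c.fst ≫ pullback.fst G.pU G.pU) c.snd h1)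
      (pullback.lift (c.fst ≫ pullback.snd G.pU G.pU) c.snd h2)
      (by rw [pullback.lift_snd, pullback.lift_snd])
  · intro c
    apply pullback.hom_ext
    · rw [Category.assoc, κB_fst, pullback.lift_fst_assoc, pullback.lift_fst]
    · rw [Category.assoc, κB_snd, pullback.lift_snd_assoc, pullback.lift_fst]
  · intro c
    rw [pullback.lift_fst_assoc, pullback.lift_snd]
  · intro c m hfst hsnd
    apply pullback.hom_ext
    · apply pullback.hom_ext
      · rw [pullback.lift_fst, pullback.lift_fst, Category.assoc, ← κB_fst, ← Category.assoc,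
          hfst]
      · rw [pullback.lift_fst, pullback.lift_snd, Category.assoc]; exact hsnd
    · apply pullback.hom_ext
      · rw [pullback.lift_snd, pullback.lift_fst, Category.assoc, ← κB_snd, ← Category.assoc,
          hfst]
      · rw [pullback.lift_snd, pullback.lift_snd, Category.assoc, ← pullback.condition,
          ← Category.assoc]; exact hsnd

/-- the base change of `j` -/
noncomputable def jB : pullback G.pR g ⟶ pullback (pullback.snd G.pU g) (pullback.snd G.pU g) :=
  pullback.lift (tB G g) (sB G g) (by rw [tB_snd, sB_snd])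

theorem jB_fst : jB G g ≫ pullback.fst _ _ = tB G g := pullback.lift_fst _ _ _
theorem jB_snd : jB G g ≫ pullback.snd _ _ = sB G g := pullback.lift_snd _ _ _

theorem isPullback_jB : IsPullback (pullback.fst G.pR g) (jB G g) G.j (κB G g) := by
  have hbig : IsPullback (pullback.fst G.pR g)
      (jB G g ≫ pullback.fst (pullback.snd G.pU g) (pullback.snd G.pU g) ≫ pullback.snd G.pU g)
      (G.j ≫ pullback.fst G.pU G.pU ≫ G.pU) g := by
    have e1 : jB G g ≫ pullback.fst (pullback.snd G.pU g) (pullback.snd G.pU g) ≫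
        pullback.snd G.pU g = pullback.snd G.pR g := by
      rw [← Category.assoc, jB_fst, tB_snd]
    have e2 : G.j ≫ pullback.fst G.pU G.pU ≫ G.pU = G.pR := by
      rw [← Category.assoc, GroupoidScheme.j, pullback.lift_fst, G.t_over]
    rw [e1, e2]
    exact IsPullback.of_hasPullback G.pR g
  refine IsPullback.of_bot hbig ?_ (isPullback_κB G g)
  apply pullback.hom_ext
  · rw [Category.assoc, Category.assoc, GroupoidScheme.j, pullback.lift_fst, κB_fst,
      ← Category.assoc, jB_fst, tB_fst]
  · rw [Category.assoc, Category.assoc, GroupoidScheme.j, pullback.lift_snd, κB_snd,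
      ← Category.assoc, jB_snd, sB_fst]

instance [UniversallyClosed G.j] : UniversallyClosed (jB G g) :=
  MorphismProperty.of_isPullback (P := @UniversallyClosed) (isPullback_jB G g) inferInstance

section Closed

variable [UniversallyClosed G.j] [Flat G.t] [LocallyOfFinitePresentation G.t]
  [LocallyOfFiniteType G.pU] [IsSeparated G.pU] (R₁ : (pullback G.pR g).Opens)
  [hfinR : IsFinite (R₁.ι ≫ pullback.snd G.pR g)]

include hfinR in
/-- the image in the base of a closed set of arrows with source and target in the finite part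
is closed -/
theorem isClosed_image_snd (E : Set ↑(pullback G.pR g)) (hE : IsClosed E)
    (hEs : E ⊆ sB G g ⁻¹' (UB G g R₁ : Set ↑(pullback G.pU g)))
    (hEt : E ⊆ tB G g ⁻¹' (UB G g R₁ : Set ↑(pullback G.pU g))) :
    IsClosed (pullback.snd G.pR g '' E) := by
  set sU := pullback.snd G.pU g with hsU
  set h := (UB G g R₁).ι ≫ sU with hh
  haveI : IsFinite h := isFinite_UB G g R₁
  set C := jB G g '' E with hC
  have hCcl : IsClosed C := (jB G g).isClosedMap _ hE
  set ω := pullback.map sU h sU sU (𝟙 _) (UB G g R₁).ι (𝟙 _)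
    (by rw [Category.comp_id, Category.id_comp]) (by rw [Category.comp_id]) with hω
  have hωfst : ω ≫ pullback.fst sU sU = pullback.fst sU h := by
    rw [hω, pullback.map, pullback.lift_fst, Category.comp_id]
  have hrange : Set.range ω = pullback.snd sU sU ⁻¹' (UB G g R₁ : Set ↑(pullback G.pU g)) := by
    rw [hω, Scheme.Pullback.range_map]
    have h1 : Set.range (𝟙 (pullback G.pU g) : pullback G.pU g ⟶ pullback G.pU g) =
        Set.univ := by
      apply Set.eq_univ_of_forall
      intro x; exact ⟨x, rfl⟩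
    rw [h1, Set.preimage_univ, Set.univ_inter, Scheme.Opens.range_ι]
  have hCsub : C ⊆ Set.range ω := by
    rintro _ ⟨r, hr, rfl⟩
    rw [hrange]
    change pullback.snd sU sU (jB G g r) ∈ (UB G g R₁ : Set ↑(pullback G.pU g))
    have h2 := congrArg (fun f : pullback G.pR g ⟶ pullback G.pU g => f r) (jB_snd G g)
    have h3 : pullback.snd sU sU (jB G g r) = sB G g r := h2
    rw [h3]
    exact hEs hr
  -- first projection
  have h4 : IsClosed (pullback.fst sU h '' (ω ⁻¹' C)) :=
    (pullback.fst sU h).isClosedMap _ (hCcl.preimage ω.continuous)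
  have h5 : pullback.fst sU h '' (ω ⁻¹' C) = tB G g '' E := by
    ext x
    constructor
    · rintro ⟨z, hz, rfl⟩
      obtain ⟨r, hr, hrz⟩ := hz
      refine ⟨r, hr, ?_⟩
      have e1 := congrArg (fun f : pullback sU h ⟶ pullback G.pU g => f z) hωfst
      have e2 : pullback.fst sU sU (ω z) = pullback.fst sU h z := e1
      rw [← e2, ← hrz]
      have e3 := congrArg (fun f : pullback G.pR g ⟶ pullback G.pU g => f r) (jB_fst G g)
      exact e3.symm
    · rintro ⟨r, hr, rfl⟩
      obtain ⟨z, hz⟩ := hCsub ⟨r, hr, rfl⟩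
      refine ⟨z, ⟨r, hr, hz.symm⟩, ?_⟩
      have e1 := congrArg (fun f : pullback sU h ⟶ pullback G.pU g => f z) hωfst
      have e2 : pullback.fst sU sU (ω z) = pullback.fst sU h z := e1
      rw [← e2, hz]
      have e3 := congrArg (fun f : pullback G.pR g ⟶ pullback G.pU g => f r) (jB_fst G g)
      exact e3
  rw [h5] at h4
  -- push to the base
  have h6 : IsClosed (h '' ((UB G g R₁).ι ⁻¹' (tB G g '' E))) :=
    h.isClosedMap _ (h4.preimage (UB G g R₁).ι.continuous)
  have h7 : h '' ((UB G g R₁).ι ⁻¹' (tB G g '' E)) = pullback.snd G.pR g '' E := by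
    ext y
    constructor
    · rintro ⟨x, ⟨r, hr, hrx⟩, rfl⟩
      refine ⟨r, hr, ?_⟩
      have e1 : h x = sU ((UB G g R₁).ι x) := rfl
      rw [e1, ← hrx, hsU, tB_snd_apply]
    · rintro ⟨r, hr, rfl⟩
      have hmem : tB G g r ∈ UB G g R₁ := hEt hr
      refine ⟨⟨tB G g r, hmem⟩, ⟨r, hr, rfl⟩, ?_⟩
      have e1 : h ⟨tB G g r, hmem⟩ = sU ((UB G g R₁).ι ⟨tB G g r, hmem⟩) := rfl
      rw [e1]
      have e2 : (UB G g R₁).ι ⟨tB G g r, hmem⟩ = tB G g r := rfl
      rw [e2, hsU, tB_snd_apply]
  rwa [h7] at h6

end Closed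

end Groth.Agent.Lib.Helper20.HP
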