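import Mathlib
import Groth.Agent.Lib.Helper20.HP6

/-!
# HP7: shrinking the étale neighbourhood
-/

set_option autoImplicit false
set_option linter.style.haveILetI false
set_option linter.unusedSimpArgs false
set_option linter.unusedSectionVars false
universe u
open CategoryTheory CategoryTheory.Limits AlgebraicGeometry

namespace Groth.Agent.Lib.Helper20.HP

open Grpd

variable {S : Scheme.{u}} (G : GroupoidScheme S) {S' S'' : Scheme.{u}} (g : S' ⟶ S) (k : S'' ⟶ S')

noncomputable def θR : pullback G.pR (k ≫ g) ⟶ pullback G.pR g :=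
  pullback.lift (pullback.fst _ _) (pullback.snd _ _ ≫ k)
    (by rw [pullback.condition, Category.assoc])

noncomputable def θU : pullback G.pU (k ≫ g) ⟶ pullback G.pU g :=
  pullback.lift (pullback.fst _ _) (pullback.snd _ _ ≫ k)
    (by rw [pullback.condition, Category.assoc])

theorem θR_fst : θR G g k ≫ pullback.fst G.pR g = pullback.fst G.pR (k ≫ g) :=
  pullback.lift_fst _ _ _
theorem θR_snd : θR G g k ≫ pullback.snd G.pR g = pullback.snd G.pR (k ≫ g) ≫ k :=
  pullback.lift_snd _ _ _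
theorem θU_fst : θU G g k ≫ pullback.fst G.pU g = pullback.fst G.pU (k ≫ g) :=
  pullback.lift_fst _ _ _
theorem θU_snd : θU G g k ≫ pullback.snd G.pU g = pullback.snd G.pU (k ≫ g) ≫ k :=
  pullback.lift_snd _ _ _

theorem θR_fst_apply (r : ↑(pullback G.pR (k ≫ g))) :
    pullback.fst G.pR g (θR G g k r) = pullback.fst G.pR (k ≫ g) r := by
  have h := congrArg (fun f : pullback G.pR (k ≫ g) ⟶ G.R => f r) (θR_fst G g k)
  exact h
theorem θR_snd_apply (r : ↑(pullback G.pR (k ≫ g))) :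
    pullback.snd G.pR g (θR G g k r) = k (pullback.snd G.pR (k ≫ g) r) := by
  have h := congrArg (fun f : pullback G.pR (k ≫ g) ⟶ S' => f r) (θR_snd G g k)
  exact h

theorem isPullback_θR :
    IsPullback (θR G g k) (pullback.snd G.pR (k ≫ g)) (pullback.snd G.pR g) k := by
  have hbig : IsPullback (θR G g k ≫ pullback.fst G.pR g) (pullback.snd G.pR (k ≫ g)) G.pR
      (k ≫ g) := by
    rw [θR_fst]; exact IsPullback.of_hasPullback _ _
  exact IsPullback.of_right hbig (θR_snd G g k) (IsPullback.of_hasPullback G.pR g)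

theorem θR_sB : θR G g k ≫ sB G g = sB G (k ≫ g) ≫ θU G g k := by
  apply pullback.hom_ext
  · rw [Category.assoc, sB_fst, ← Category.assoc, θR_fst, Category.assoc, θU_fst, sB_fst]
  · rw [Category.assoc, sB_snd, θR_snd, Category.assoc, θU_snd, ← Category.assoc, sB_snd]

theorem θR_tB : θR G g k ≫ tB G g = tB G (k ≫ g) ≫ θU G g k := by
  apply pullback.hom_ext
  · rw [Category.assoc, tB_fst, ← Category.assoc, θR_fst, Category.assoc, θU_fst, tB_fst]
  · rw [Category.assoc, tB_snd, θR_snd, Category.assoc, θU_snd, ← Category.assoc, tB_snd]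

theorem θR_sB_apply (r : ↑(pullback G.pR (k ≫ g))) :
    sB G g (θR G g k r) = θU G g k (sB G (k ≫ g) r) := by
  have h := congrArg (fun f : pullback G.pR (k ≫ g) ⟶ pullback G.pU g => f r) (θR_sB G g k)
  exact h

theorem θR_tB_apply (r : ↑(pullback G.pR (k ≫ g))) :
    tB G g (θR G g k r) = θU G g k (tB G (k ≫ g) r) := by
  have h := congrArg (fun f : pullback G.pR (k ≫ g) ⟶ pullback G.pU g => f r) (θR_tB G g k)
  exact h

variable (R₁ : (pullback G.pR g).Opens)

/-- the transported finite piece -/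
noncomputable def R₁T : (pullback G.pR (k ≫ g)).Opens := (θR G g k) ⁻¹ᵁ R₁

theorem mem_R₁T_iff (r : ↑(pullback G.pR (k ≫ g))) : r ∈ R₁T G g k R₁ ↔ θR G g k r ∈ R₁ :=
  Iff.rfl

theorem isClosed_R₁T (hcl : IsClosed (R₁ : Set ↑(pullback G.pR g))) :
    IsClosed (R₁T G g k R₁ : Set ↑(pullback G.pR (k ≫ g))) :=
  hcl.preimage (θR G g k).continuous

theorem isFinite_R₁T [IsFinite (R₁.ι ≫ pullback.snd G.pR g)] :
    IsFinite ((R₁T G g k R₁).ι ≫ pullback.snd G.pR (k ≫ g)) := by
  have h1 : IsPullback (θR G g k ∣_ R₁) ((R₁T G g k R₁).ι ≫ pullback.snd G.pR (k ≫ g))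
      (R₁.ι ≫ pullback.snd G.pR g) k :=
    (isPullback_morphismRestrict (θR G g k) R₁).paste_vert (isPullback_θR G g k)
  exact MorphismProperty.of_isPullback (P := @IsFinite) h1 inferInstance

section Fibre

variable (u : G.U) (p' : S') (p'' : S'') (hk : k p'' = p')
  (hF1 : ∀ r' : ↑(pullback G.pR g), pullback.snd G.pR g r' = p' →
    pullback.fst G.pR g r' ∈ Fall G u → r' ∈ R₁)
  (hF2 : ∀ r' ∈ R₁, pullback.snd G.pR g r' = p' → pullback.fst G.pR g r' ∈ Fall G u)

include hk hF1 in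
theorem hF1_R₁T : ∀ r' : ↑(pullback G.pR (k ≫ g)), pullback.snd G.pR (k ≫ g) r' = p'' →
    pullback.fst G.pR (k ≫ g) r' ∈ Fall G u → r' ∈ R₁T G g k R₁ := by
  intro r' h1 h2
  rw [mem_R₁T_iff]
  apply hF1
  · rw [θR_snd_apply, h1, hk]
  · rw [θR_fst_apply]; exact h2

include hk hF2 in
theorem hF2_R₁T : ∀ r' ∈ R₁T G g k R₁, pullback.snd G.pR (k ≫ g) r' = p'' →
    pullback.fst G.pR (k ≫ g) r' ∈ Fall G u := by
  intro r' hr' h1
  rw [← θR_fst_apply]
  apply hF2 _ hr'
  rw [θR_snd_apply, h1, hk]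

end Fibre

section Full

variable [Flat G.t] [LocallyOfFinitePresentation G.t]

theorem θU_mem_UB (x : ↑(pullback G.pU (k ≫ g))) (hx : x ∈ UB G (k ≫ g) (R₁T G g k R₁)) :
    θU G g k x ∈ UB G g R₁ := by
  obtain ⟨r, hr, rfl⟩ := hx
  exact ⟨θR G g k r, hr, θR_tB_apply G g k r⟩

/-- after shrinking so that the bad set disappears, the finite piece is the full restriction -/
theorem RB_eq_of_disjoint
    (hdis : ∀ r : ↑(pullback G.pR g), sB G g r ∈ UB G g R₁ → tB G g r ∈ UB G g R₁ → r ∉ R₁ →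
      pullback.snd G.pR g r ∉ Set.range k) :
    (RB G (k ≫ g) (R₁T G g k R₁) : Set ↑(pullback G.pR (k ≫ g))) =
      sB G (k ≫ g) ⁻¹' (UB G (k ≫ g) (R₁T G g k R₁) : Set ↑(pullback G.pU (k ≫ g))) ∩
      tB G (k ≫ g) ⁻¹' (UB G (k ≫ g) (R₁T G g k R₁) : Set ↑(pullback G.pU (k ≫ g))) := by
  ext r
  constructor
  · rintro ⟨hr1, hr2⟩
    exact ⟨hr2, ⟨r, hr1, rfl⟩⟩
  · rintro ⟨hs, ht⟩
    refine ⟨?_, hs⟩
    rw [SetLike.mem_coe, mem_R₁T_iff]
    by_contra hnot
    have h1 : sB G g (θR G g k r) ∈ UB G g R₁ := by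
      rw [θR_sB_apply]; exact θU_mem_UB G g k R₁ _ hs
    have h2 : tB G g (θR G g k r) ∈ UB G g R₁ := by
      rw [θR_tB_apply]; exact θU_mem_UB G g k R₁ _ ht
    apply hdis _ h1 h2 hnot
    rw [θR_snd_apply]
    exact ⟨_, rfl⟩

end Full

theorem bijective_residueFieldMap_comp [IsOpenImmersion k] (p'' : S'')
    (hbij : Function.Bijective (g.residueFieldMap (k p''))) :
    Function.Bijective ((k ≫ g).residueFieldMap p'') := by
  rw [Scheme.residueFieldMap_comp]
  have h1 : Function.Bijective (k.residueFieldMap p'') :=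
    (ConcreteCategory.isIso_iff_bijective _).mp inferInstance
  exact h1.comp hbij

end Groth.Agent.Lib.Helper20.HP
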