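import Mathlib

/-!
# HQ4: two pieces of polynomial algebra used for `Grpd.invariants_baseChange`

* `sum_idem_comp_pow`: if the coefficients of `ρ` are orthogonal idempotents summing to one with
  `ρ.coeff 0 = 0`, then `∑ r, C (ρ.coeff r) * (ρ.comp Y) ^ (d! / r) = Y ^ d!`.
* `Phi : A ⊗[C] C'[X] →ₐ[C] (A ⊗[C] C')[X]`.
-/

set_option autoImplicit false
universe u

namespace Groth.Agent.Lib.Helper20.HQ

open Polynomial TensorProduct

section fin

variable {R : Type u} [CommRing R]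

theorem sum_idem_comp_pow (ρ : R[X])
    (horth : ∀ r s, ρ.coeff r * ρ.coeff s = if r = s then ρ.coeff r else 0)
    (h1 : eval 1 ρ = 1) (h0 : ρ.coeff 0 = 0) (Y : R[X]) :
    ∑ r ∈ Finset.range (ρ.natDegree + 1),
      C (ρ.coeff r) * (ρ.comp Y) ^ (ρ.natDegree.factorial / r) = Y ^ ρ.natDegree.factorial := by
  obtain ⟨d, hd⟩ : ∃ d, d = ρ.natDegree := ⟨_, rfl⟩
  obtain ⟨Z, hZ⟩ : ∃ Z, Z = ρ.comp Y := ⟨_, rfl⟩
  rw [← hd, ← hZ]
  have hZsum : Z = ∑ k ∈ Finset.range (d + 1), C (ρ.coeff k) * Y ^ k := by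
    rw [hZ, hd, Polynomial.comp, Polynomial.eval₂_eq_sum_range]
  have step1 : ∀ r, C (ρ.coeff r) * Z = C (ρ.coeff r) * Y ^ r := by
    intro r
    rw [hZsum, Finset.mul_sum]
    by_cases hr : r ∈ Finset.range (d + 1)
    · rw [Finset.sum_eq_single r]
      · rw [← mul_assoc, ← C_mul, horth, if_pos rfl]
      · intro k _ hk
        rw [← mul_assoc, ← C_mul, horth, if_neg (Ne.symm hk), C_0, zero_mul]
      · intro h; exact absurd hr h
    · have : ρ.coeff r = 0 := by
        apply Polynomial.coeff_eq_zero_of_natDegree_lt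
        rw [← hd]
        simp only [Finset.mem_range, not_lt] at hr
        omega
      simp [this]
  have step2 : ∀ r m, C (ρ.coeff r) * Z ^ m = C (ρ.coeff r) * Y ^ (r * m) := by
    intro r m
    induction m with
    | zero => simp
    | succ m ih =>
      rw [pow_succ, ← mul_assoc, ih, mul_assoc, mul_comm (Y ^ (r * m)) Z, ← mul_assoc, step1,
        mul_assoc, ← pow_add, Nat.mul_succ, add_comm]
  have step3 : ∀ r ∈ Finset.range (d + 1),
      C (ρ.coeff r) * Z ^ (d.factorial / r) = C (ρ.coeff r) * Y ^ d.factorial := by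
    intro r hr
    rcases Nat.eq_zero_or_pos r with rfl | hpos
    · rw [h0, C_0, zero_mul, zero_mul]
    · rw [step2]
      have hle : r ≤ d := by
        simp only [Finset.mem_range] at hr
        omega
      rw [Nat.mul_div_cancel' (Nat.dvd_factorial hpos hle)]
  rw [Finset.sum_congr rfl step3, ← Finset.sum_mul, ← map_sum]
  have : ∑ r ∈ Finset.range (d + 1), ρ.coeff r = 1 := by
    rw [← h1, Polynomial.eval_eq_sum_range, ← hd]
    simp
  rw [this, C_1, one_mul]

end fin

section Phi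

variable {C A C' : Type u} [CommRing C] [CommRing A] [CommRing C'] [Algebra C A] [Algebra C C']

/-- the comparison map `A ⊗[C] C'[X] → (A ⊗[C] C')[X]`. -/
noncomputable def Phi : A ⊗[C] C'[X] →ₐ[C] (A ⊗[C] C')[X] :=
  Algebra.TensorProduct.lift
    ((CAlgHom : (A ⊗[C] C') →ₐ[C] (A ⊗[C] C')[X]).comp Algebra.TensorProduct.includeLeft)
    (mapAlgHom (Algebra.TensorProduct.includeRight : C' →ₐ[C] A ⊗[C] C'))
    (fun _ _ => Commute.all _ _)

theorem Phi_tmul (a : A) (p : C'[X]) :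
    Phi (C := C) (a ⊗ₜ[C] p) = Polynomial.C (a ⊗ₜ[C] (1 : C')) *
      p.map (Algebra.TensorProduct.includeRight : C' →ₐ[C] A ⊗[C] C').toRingHom := by
  unfold Phi
  rw [Algebra.TensorProduct.lift_tmul]
  rfl

theorem Phi_includeRight (p : C'[X]) :
    Phi (C := C) ((Algebra.TensorProduct.includeRight : C'[X] →ₐ[C] A ⊗[C] C'[X]) p) =
      p.map (Algebra.TensorProduct.includeRight : C' →ₐ[C] A ⊗[C] C').toRingHom := by
  rw [Algebra.TensorProduct.includeRight_apply, Phi_tmul]
  have : ((1 : A) ⊗ₜ[C] (1 : C')) = (1 : A ⊗[C] C') := rfl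
  rw [this, Polynomial.C_1, one_mul]

theorem Phi_includeLeft (a : A) :
    Phi (C := C) ((Algebra.TensorProduct.includeLeftRingHom : A →+* A ⊗[C] C'[X]) a) =
      Polynomial.C ((Algebra.TensorProduct.includeLeftRingHom : A →+* A ⊗[C] C') a) := by
  show Phi (C := C) (a ⊗ₜ[C] (1 : C'[X])) = _
  rw [Phi_tmul, Polynomial.map_one, mul_one]
  rfl

theorem Phi_one_tmul_X :
    Phi (C := C) ((1 : A) ⊗ₜ[C] (X : C'[X])) = (X : (A ⊗[C] C')[X]) := by
  rw [Phi_tmul, Polynomial.map_X]
  have : ((1 : A) ⊗ₜ[C] (1 : C')) = (1 : A ⊗[C] C') := rfl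
  rw [this, Polynomial.C_1, one_mul]

theorem Phi_map_C (f : A ⊗[C] C') :
    Phi (C := C) (Algebra.TensorProduct.map (AlgHom.id C A)
      (CAlgHom : C' →ₐ[C] C'[X]) f) = Polynomial.C f := by
  induction f using TensorProduct.induction_on with
  | zero => simp
  | tmul a c =>
    rw [Algebra.TensorProduct.map_tmul, Phi_tmul]
    simp only [AlgHom.coe_id, id_eq, CAlgHom_apply, Polynomial.map_C, AlgHom.toRingHom_eq_coe,
      RingHom.coe_coe, Algebra.TensorProduct.includeRight_apply]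
    rw [← Polynomial.C_mul, Algebra.TensorProduct.tmul_mul_tmul, mul_one, one_mul]
  | add x y hx hy => rw [map_add, map_add, hx, hy, Polynomial.C_add]

end Phi

end Groth.Agent.Lib.Helper20.HQ
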