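import Mathlib
import Groth.Agent.Lib.Helper20.HP1
import Groth.Agent.Lib.Helper25.GrpdTrans

/-!
# HR21: points of the stabilizer of a groupoid scheme: unit, inverse, composition, functoriality
-/

set_option autoImplicit false
set_option linter.style.haveILetI false
set_option linter.unusedSectionVars false
set_option maxHeartbeats 4000000
universe u
open CategoryTheory CategoryTheory.Limits AlgebraicGeometry

namespace Groth.Agent.Lib.Helper20.HR

open Grpd Groth.Agent.Lib.Helper25.GrpdAlg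

variable {S : Scheme.{u}} (G : GroupoidScheme S)

/-- the arrow of a point of the stabilizer -/
noncomputable def stabR : G.stabilizer ⟶ G.R := pullback.fst G.j G.diag

theorem stabR_t : stabR G ≫ G.t = G.stabilizerToU := by
  have h := congrArg (· ≫ pullback.fst G.pU G.pU) (pullback.condition (f := G.j) (g := G.diag))
  simp only [Category.assoc] at h
  unfold GroupoidScheme.j GroupoidScheme.diag at h
  rw [pullback.lift_fst, pullback.lift_fst, Category.comp_id] at h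
  exact h

theorem stabR_s : stabR G ≫ G.s = G.stabilizerToU := by
  have h := congrArg (· ≫ pullback.snd G.pU G.pU) (pullback.condition (f := G.j) (g := G.diag))
  simp only [Category.assoc] at h
  unfold GroupoidScheme.j GroupoidScheme.diag at h
  rw [pullback.lift_snd, pullback.lift_snd, Category.comp_id] at h
  exact h

/-- constructor of `T`-points of the stabilizer -/
noncomputable def stabLift {T : Scheme.{u}} (ρ : T ⟶ G.R) (x : T ⟶ G.U) (hs : ρ ≫ G.s = x)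
    (ht : ρ ≫ G.t = x) : T ⟶ G.stabilizer :=
  pullback.lift ρ x (by
    unfold GroupoidScheme.j GroupoidScheme.diag
    apply pullback.hom_ext
    · rw [Category.assoc, Category.assoc, pullback.lift_fst, pullback.lift_fst, Category.comp_id, ht]
    · rw [Category.assoc, Category.assoc, pullback.lift_snd, pullback.lift_snd, Category.comp_id, hs])

theorem stabLift_R {T : Scheme.{u}} (ρ : T ⟶ G.R) (x : T ⟶ G.U) (hs : ρ ≫ G.s = x)
    (ht : ρ ≫ G.t = x) : stabLift G ρ x hs ht ≫ stabR G = ρ := pullback.lift_fst _ _ _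

theorem stabLift_U {T : Scheme.{u}} (ρ : T ⟶ G.R) (x : T ⟶ G.U) (hs : ρ ≫ G.s = x)
    (ht : ρ ≫ G.t = x) : stabLift G ρ x hs ht ≫ G.stabilizerToU = x := pullback.lift_snd _ _ _

theorem stab_unit_mem (x : G.U) : ∃ g : G.stabilizer, G.stabilizerToU g = x ∧ stabR G g = G.e x := by
  refine ⟨stabLift G G.e (𝟙 _) G.e_s G.e_t x, ?_, ?_⟩
  · change (stabLift G G.e (𝟙 _) G.e_s G.e_t ≫ G.stabilizerToU) x = x
    rw [stabLift_U]; rfl
  · change (stabLift G G.e (𝟙 _) G.e_s G.e_t ≫ stabR G) x = _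
    rw [stabLift_R]

theorem stab_inv_mem (g : G.stabilizer) :
    ∃ g' : G.stabilizer, G.stabilizerToU g' = G.stabilizerToU g ∧ stabR G g' = G.i (stabR G g) := by
  have hs : (stabR G ≫ G.i) ≫ G.s = G.stabilizerToU := by rw [Category.assoc, G.i_s, stabR_t]
  have ht : (stabR G ≫ G.i) ≫ G.t = G.stabilizerToU := by rw [Category.assoc, G.i_t, stabR_s]
  refine ⟨stabLift G (stabR G ≫ G.i) G.stabilizerToU hs ht g, ?_, ?_⟩
  · change (stabLift G (stabR G ≫ G.i) G.stabilizerToU hs ht ≫ G.stabilizerToU) g = _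
    rw [stabLift_U]
  · change (stabLift G (stabR G ≫ G.i) G.stabilizerToU hs ht ≫ stabR G) g = _
    rw [stabLift_R]
    rfl

theorem stab_mul_mem (z : ↑(pullback G.s G.t)) (g₁ g₂ : G.stabilizer)
    (h1 : pullback.fst G.s G.t z = stabR G g₁) (h2 : pullback.snd G.s G.t z = stabR G g₂) :
    ∃ g₃ : G.stabilizer, G.stabilizerToU g₃ = G.stabilizerToU g₁ ∧ stabR G g₃ = G.c z := by
  obtain ⟨Y₁, q₁, a₁, c1, hex1⟩ : ∃ (Y₁ : Scheme.{u}) (q₁ : Y₁ ⟶ pullback G.s G.t)
      (a₁ : Y₁ ⟶ G.stabilizer), q₁ ≫ pullback.fst G.s G.t = a₁ ≫ stabR G ∧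
      ∀ (z : ↑(pullback G.s G.t)) (g : G.stabilizer), pullback.fst G.s G.t z = stabR G g →
        ∃ y : Y₁, q₁ y = z ∧ a₁ y = g :=
    ⟨pullback (pullback.fst G.s G.t) (stabR G), pullback.fst _ _, pullback.snd _ _,
      pullback.condition, fun z g h => Scheme.Pullback.exists_preimage_pullback z g h⟩
  obtain ⟨Y₂, q₂, b, c2, hex2⟩ : ∃ (Y₂ : Scheme.{u}) (q₂ : Y₂ ⟶ Y₁)
      (b : Y₂ ⟶ G.stabilizer), q₂ ≫ q₁ ≫ pullback.snd G.s G.t = b ≫ stabR G ∧
      ∀ (y : Y₁) (g : G.stabilizer), (q₁ ≫ pullback.snd G.s G.t) y = stabR G g →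
        ∃ y' : Y₂, q₂ y' = y ∧ b y' = g :=
    ⟨pullback (q₁ ≫ pullback.snd G.s G.t) (stabR G), pullback.fst _ _, pullback.snd _ _,
      pullback.condition, fun y g h => Scheme.Pullback.exists_preimage_pullback y g h⟩
  obtain ⟨y₁, hy₁a, hy₁b⟩ := hex1 z g₁ h1
  obtain ⟨y₂, hy₂a, hy₂b⟩ := hex2 y₁ g₂ (by
    change pullback.snd G.s G.t (q₁ y₁) = _
    rw [hy₁a, h2])
  obtain ⟨ζ, hζ⟩ : ∃ ζ : Y₂ ⟶ pullback G.s G.t, ζ = q₂ ≫ q₁ := ⟨_, rfl⟩
  obtain ⟨a, ha⟩ : ∃ a : Y₂ ⟶ G.stabilizer, a = q₂ ≫ a₁ := ⟨_, rfl⟩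
  have hζ1 : ζ ≫ pullback.fst G.s G.t = a ≫ stabR G := by
    rw [hζ, ha, Category.assoc, c1, Category.assoc]
  have hζ2 : ζ ≫ pullback.snd G.s G.t = b ≫ stabR G := by
    rw [hζ, Category.assoc, c2]
  have hab : a ≫ G.stabilizerToU = b ≫ G.stabilizerToU := by
    have := congrArg (fun f => ζ ≫ f) (pullback.condition (f := G.s) (g := G.t))
    simp only [← Category.assoc] at this
    rw [hζ1, hζ2, Category.assoc, Category.assoc, stabR_s, stabR_t] at this
    exact this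
  have hs : (ζ ≫ G.c) ≫ G.s = a ≫ G.stabilizerToU := by
    rw [Category.assoc, Groth.Agent.Lib.Helper25.GrpdTrans.c_s, ← Category.assoc, hζ2,
      Category.assoc, stabR_s, hab]
  have ht : (ζ ≫ G.c) ≫ G.t = a ≫ G.stabilizerToU := by
    rw [Category.assoc, Groth.Agent.Lib.Helper25.GrpdTrans.c_t, ← Category.assoc, hζ1,
      Category.assoc, stabR_t]
  refine ⟨stabLift G (ζ ≫ G.c) (a ≫ G.stabilizerToU) hs ht y₂, ?_, ?_⟩
  · change (stabLift G (ζ ≫ G.c) (a ≫ G.stabilizerToU) hs ht ≫ G.stabilizerToU) y₂ = _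
    rw [stabLift_U, ha]
    change G.stabilizerToU (a₁ (q₂ y₂)) = _
    rw [hy₂a, hy₁b]
  · change (stabLift G (ζ ≫ G.c) (a ≫ G.stabilizerToU) hs ht ≫ stabR G) y₂ = _
    rw [stabLift_R, hζ]
    change G.c (q₁ (q₂ y₂)) = _
    rw [hy₂a, hy₁a]

variable {G}

theorem stab_map_mem {G' : GroupoidScheme S} (φ : GroupoidScheme.Hom G' G) (g' : G'.stabilizer) :
    ∃ g : G.stabilizer, G.stabilizerToU g = φ.fU (G'.stabilizerToU g') ∧
      stabR G g = φ.fR (stabR G' g') := by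
  have hs : (stabR G' ≫ φ.fR) ≫ G.s = G'.stabilizerToU ≫ φ.fU := by
    rw [Category.assoc, φ.comm_s, ← Category.assoc, stabR_s]
  have ht : (stabR G' ≫ φ.fR) ≫ G.t = G'.stabilizerToU ≫ φ.fU := by
    rw [Category.assoc, φ.comm_t, ← Category.assoc, stabR_t]
  refine ⟨stabLift G (stabR G' ≫ φ.fR) (G'.stabilizerToU ≫ φ.fU) hs ht g', ?_, ?_⟩
  · change (stabLift G (stabR G' ≫ φ.fR) (G'.stabilizerToU ≫ φ.fU) hs ht ≫ G.stabilizerToU) g' = _
    rw [stabLift_U]
    rfl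
  · change (stabLift G (stabR G' ≫ φ.fR) (G'.stabilizerToU ≫ φ.fU) hs ht ≫ stabR G) g' = _
    rw [stabLift_R]
    rfl

end Groth.Agent.Lib.Helper20.HR
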