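import Mathlib

set_option autoImplicit false

/-!
# Hand-made directed colimits of algebras and descent of finite data to a finite stage
-/

namespace Groth.Agent.Lib.Helper20.HandColim

universe u v

open TensorProduct

/-- A "hand-made directed colimit" of `B`-algebras, with a class `Tr` of transition maps. -/
structure HC (B : Type v) [CommRing B] {ι : Type u} (P : ι → Type u) [∀ i, CommRing (P i)]
    [∀ i, Algebra B (P i)] (Q : Type u) [CommRing Q] [Algebra B Q] (g : ∀ i, P i →ₐ[B] Q)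
    (Tr : ∀ i j, (P i →ₐ[B] P j) → Prop) : Prop where
  surj : ∀ q : Q, ∃ i, ∃ x : P i, g i x = q
  compat : ∀ i j (τ : P i →ₐ[B] P j), Tr i j τ → ∀ x, g j (τ x) = g i x
  comp : ∀ i j k (τ : P i →ₐ[B] P j) (τ' : P j →ₐ[B] P k), Tr i j τ → Tr j k τ' →
    Tr i k (τ'.comp τ)
  dir : ∀ i j, ∃ k, ∃ (τ₁ : P i →ₐ[B] P k) (τ₂ : P j →ₐ[B] P k), Tr i k τ₁ ∧ Tr j k τ₂
  ker : ∀ i (x : P i), g i x = 0 → ∃ k, ∃ τ : P i →ₐ[B] P k, Tr i k τ ∧ τ x = 0

namespace HC

variable {B : Type v} [CommRing B] {ι : Type u} {P : ι → Type u} [∀ i, CommRing (P i)]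
    [∀ i, Algebra B (P i)] {Q : Type u} [CommRing Q] [Algebra B Q] {g : ∀ i, P i →ₐ[B] Q}
    {Tr : ∀ i j, (P i →ₐ[B] P j) → Prop}

theorem exists_index (h : HC B P Q g Tr) : Nonempty ι := by
  obtain ⟨i, -, -⟩ := h.surj 0
  exact ⟨i⟩

theorem exists_self_tr (h : HC B P Q g Tr) (i : ι) : ∃ k, ∃ τ : P i →ₐ[B] P k, Tr i k τ := by
  obtain ⟨k, τ₁, -, h₁, -⟩ := h.dir i i
  exact ⟨k, τ₁, h₁⟩

theorem exists_lift_finset (h : HC B P Q g Tr) {κ : Type*} (s : Finset κ) (q : κ → Q) :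
    ∃ i, ∀ l ∈ s, ∃ x : P i, g i x = q l := by
  classical
  induction s using Finset.induction_on with
  | empty =>
    obtain ⟨i⟩ := h.exists_index
    exact ⟨i, by simp⟩
  | insert a s _ ih =>
    obtain ⟨i, hi⟩ := ih
    obtain ⟨j, y, hy⟩ := h.surj (q a)
    obtain ⟨k, τ₁, τ₂, h₁, h₂⟩ := h.dir i j
    refine ⟨k, ?_⟩
    intro l hl
    rw [Finset.mem_insert] at hl
    rcases hl with rfl | hl
    · exact ⟨τ₂ y, by rw [h.compat j k τ₂ h₂, hy]⟩
    · obtain ⟨x, hx⟩ := hi l hl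
      exact ⟨τ₁ x, by rw [h.compat i k τ₁ h₁, hx]⟩

theorem exists_lift (h : HC B P Q g Tr) {κ : Type*} [Finite κ] (q : κ → Q) :
    ∃ i, ∃ x : κ → P i, ∀ l, g i (x l) = q l := by
  classical
  haveI := Fintype.ofFinite κ
  obtain ⟨i, hi⟩ := h.exists_lift_finset (Finset.univ : Finset κ) q
  choose x hx using fun l => hi l (Finset.mem_univ l)
  exact ⟨i, x, hx⟩

theorem exists_lift_above (h : HC B P Q g Tr) {κ : Type*} [Finite κ] (i : ι) (q : κ → Q) :
    ∃ k, ∃ τ : P i →ₐ[B] P k, Tr i k τ ∧ ∃ x : κ → P k, ∀ l, g k (x l) = q l := by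
  obtain ⟨j, x, hx⟩ := h.exists_lift q
  obtain ⟨k, τ₁, τ₂, h₁, h₂⟩ := h.dir i j
  exact ⟨k, τ₁, h₁, fun l => τ₂ (x l), fun l => by rw [h.compat j k τ₂ h₂, hx]⟩

theorem exists_kill_finset (h : HC B P Q g Tr) {κ : Type*} (s : Finset κ) (i : ι) (x : κ → P i)
    (hx : ∀ l ∈ s, g i (x l) = 0) :
    ∃ k, ∃ τ : P i →ₐ[B] P k, Tr i k τ ∧ ∀ l ∈ s, τ (x l) = 0 := by
  classical
  induction s using Finset.induction_on with
  | empty =>
    obtain ⟨k, τ, hτ⟩ := h.exists_self_tr i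
    exact ⟨k, τ, hτ, by simp⟩
  | insert a s _ ih =>
    obtain ⟨k, τ, hτ, hk⟩ := ih (fun l hl => hx l (Finset.mem_insert_of_mem hl))
    have h0 : g k (τ (x a)) = 0 := by
      rw [h.compat i k τ hτ]; exact hx a (Finset.mem_insert_self a s)
    obtain ⟨k', τ', hτ', hk'⟩ := h.ker k _ h0
    refine ⟨k', τ'.comp τ, h.comp i k k' τ τ' hτ hτ', ?_⟩
    intro l hl
    rw [Finset.mem_insert] at hl
    rcases hl with rfl | hl
    · exact hk'
    · rw [AlgHom.comp_apply, hk l hl, map_zero]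

theorem exists_kill (h : HC B P Q g Tr) {κ : Type*} [Finite κ] (i : ι) (x : κ → P i)
    (hx : ∀ l, g i (x l) = 0) :
    ∃ k, ∃ τ : P i →ₐ[B] P k, Tr i k τ ∧ ∀ l, τ (x l) = 0 := by
  classical
  haveI := Fintype.ofFinite κ
  obtain ⟨k, τ, hτ, hk⟩ := h.exists_kill_finset (Finset.univ : Finset κ) i x (fun l _ => hx l)
  exact ⟨k, τ, hτ, fun l => hk l (Finset.mem_univ l)⟩

end HC

/-- The hand-made colimit in the form used in the statements. -/
theorem HC.of_directed {ι : Type u} [Preorder ι] [IsDirected ι (· ≤ ·)]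
    (A₀ : Type v) [CommRing A₀] (G : ι → Type u) [∀ i, CommRing (G i)] [∀ i, Algebra A₀ (G i)]
    (f : ∀ i j, i ≤ j → (G i →ₐ[A₀] G j)) (A : Type u) [CommRing A] [Algebra A₀ A]
    (g : ∀ i, G i →ₐ[A₀] A) (hg : ∀ i j (h : i ≤ j), (g j).comp (f i j h) = g i)
    (hsurj : ∀ a : A, ∃ i, ∃ x : G i, g i x = a)
    (hker : ∀ i (x : G i), g i x = 0 → ∃ j, ∃ h : i ≤ j, f i j h x = 0) :
    HC A₀ G A g (fun i j τ => ∀ x, g j (τ x) = g i x) where
  surj := hsurj
  compat := fun _ _ _ hτ => hτ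
  comp := fun i j k τ τ' hτ hτ' x => by rw [AlgHom.comp_apply, hτ', hτ]
  dir := fun i j => by
    obtain ⟨k, hik, hjk⟩ := exists_ge_ge i j
    exact ⟨k, f i k hik, f j k hjk, fun x => AlgHom.congr_fun (hg i k hik) x,
      fun x => AlgHom.congr_fun (hg j k hjk) x⟩
  ker := fun i x hx => by
    obtain ⟨j, hij, hj⟩ := hker i x hx
    exact ⟨j, f i j hij, fun x => AlgHom.congr_fun (hg i j hij) x, hj⟩

section Poly

variable {B : Type v} [CommRing B] {ι : Type u} {P : ι → Type u} [∀ i, CommRing (P i)]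
    [∀ i, Algebra B (P i)] {Q : Type u} [CommRing Q] [Algebra B Q] {g : ∀ i, P i →ₐ[B] Q}
    {Tr : ∀ i j, (P i →ₐ[B] P j) → Prop}

theorem HC.mvPolynomial (h : HC B P Q g Tr) (σ : Type) :
    HC B (fun i => MvPolynomial σ (P i)) (MvPolynomial σ Q)
      (fun i => MvPolynomial.mapAlgHom (g i))
      (fun i j τ' => ∃ τ, Tr i j τ ∧ τ' = MvPolynomial.mapAlgHom τ) where
  surj := by
    intro q
    induction q using MvPolynomial.induction_on with
    | C a =>
      obtain ⟨i, x, hx⟩ := h.surj a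
      exact ⟨i, MvPolynomial.C x, by simp [MvPolynomial.mapAlgHom_apply, hx]⟩
    | add p q hp hq =>
      obtain ⟨i, x, hx⟩ := hp
      obtain ⟨j, y, hy⟩ := hq
      obtain ⟨k, τ₁, τ₂, h₁, h₂⟩ := h.dir i j
      refine ⟨k, MvPolynomial.map τ₁ x + MvPolynomial.map τ₂ y, ?_⟩
      rw [map_add, ← hx, ← hy]
      simp only [MvPolynomial.mapAlgHom_apply, MvPolynomial.map_map]
      have e₁ : ((g k : P k →+* Q)).comp (τ₁ : P i →+* P k) = (g i : P i →+* Q) :=
        RingHom.ext (h.compat i k τ₁ h₁)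
      have e₂ : ((g k : P k →+* Q)).comp (τ₂ : P j →+* P k) = (g j : P j →+* Q) :=
        RingHom.ext (h.compat j k τ₂ h₂)
      rw [e₁, e₂]
    | mul_X p n hp =>
      obtain ⟨i, x, hx⟩ := hp
      exact ⟨i, x * MvPolynomial.X n, by
        rw [map_mul, hx]; simp [MvPolynomial.mapAlgHom_apply]⟩
  compat := by
    rintro i j _ ⟨τ, hτ, rfl⟩ x
    simp only [MvPolynomial.mapAlgHom_apply, MvPolynomial.map_map]
    have e₁ : ((g j : P j →+* Q)).comp (τ : P i →+* P j) = (g i : P i →+* Q) :=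
      RingHom.ext (h.compat i j τ hτ)
    rw [e₁]
  comp := by
    rintro i j k _ _ ⟨τ, hτ, rfl⟩ ⟨τ', hτ', rfl⟩
    refine ⟨τ'.comp τ, h.comp _ _ _ _ _ hτ hτ', ?_⟩
    apply AlgHom.ext
    intro x
    simp only [AlgHom.comp_apply, MvPolynomial.mapAlgHom_apply, MvPolynomial.map_map]
    rfl
  dir := fun i j => by
    obtain ⟨k, τ₁, τ₂, h₁, h₂⟩ := h.dir i j
    exact ⟨k, _, _, ⟨τ₁, h₁, rfl⟩, ⟨τ₂, h₂, rfl⟩⟩
  ker := by
    intro i x hx
    have hc : ∀ m : x.support, g i (x.coeff m) = 0 := by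
      intro m
      have := congrArg (MvPolynomial.coeff m.1) hx
      simpa [MvPolynomial.mapAlgHom_apply, MvPolynomial.coeff_map] using this
    obtain ⟨k, τ, hτ, hk⟩ := h.exists_kill i (fun m : x.support => x.coeff m) hc
    refine ⟨k, _, ⟨τ, hτ, rfl⟩, ?_⟩
    ext m
    rw [MvPolynomial.mapAlgHom_apply, MvPolynomial.coeff_map, MvPolynomial.coeff_zero]
    by_cases hm : m ∈ x.support
    · exact hk ⟨m, hm⟩
    · rw [MvPolynomial.notMem_support_iff.mp hm]; exact map_zero _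

end Poly

section Tensor

variable {A₀ : Type u} [CommRing A₀] {ι : Type u} {G : ι → Type u} [∀ i, CommRing (G i)]
    [∀ i, Algebra A₀ (G i)] {A : Type u} [CommRing A] [Algebra A₀ A] {g : ∀ i, G i →ₐ[A₀] A}
    {Tr : ∀ i j, (G i →ₐ[A₀] G j) → Prop}

/-- Tensoring with a module commutes with hand-made directed colimits: kernel elements die. -/
theorem HC.lTensor_ker (h : HC A₀ G A g Tr) (M : Type u) [AddCommGroup M] [Module A₀ M] (i : ι)
    (z : M ⊗[A₀] G i) (hz : (g i).toLinearMap.lTensor M z = 0) :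
    ∃ k, ∃ τ : G i →ₐ[A₀] G k, Tr i k τ ∧ τ.toLinearMap.lTensor M z = 0 := by
  classical
  obtain ⟨r, m, x, rfl⟩ := TensorProduct.exists_sum_tmul_eq z
  simp only [map_sum, LinearMap.lTensor_tmul, AlgHom.toLinearMap_apply] at hz
  let M' : Submodule A₀ M := Submodule.span A₀ (Set.range m)
  have hM' : M'.FG := Submodule.fg_span (Set.finite_range m)
  let m' : Fin r → M' := fun l => ⟨m l, Submodule.subset_span ⟨l, rfl⟩⟩
  let t : M' ⊗[A₀] A := ∑ l, m' l ⊗ₜ g i (x l)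
  have ht : LinearMap.rTensor A M'.subtype t = 0 := by
    simp only [t, map_sum, LinearMap.rTensor_tmul, Submodule.subtype_apply, m']
    exact hz
  obtain ⟨Q, hPQ, hQ, hQ0⟩ := TensorProduct.eq_zero_of_fg_of_subtype_eq_zero hM' ht
  haveI : Module.Finite A₀ Q := Module.Finite.iff_fg.mpr hQ
  obtain ⟨s, q, hq⟩ := Module.Finite.exists_fin (R := A₀) (M := Q)
  let mm : Fin r ⊕ Fin s → Q := Sum.elim (fun l => Submodule.inclusion hPQ (m' l)) q
  let nn : Fin r ⊕ Fin s → A := Sum.elim (fun l => g i (x l)) (fun _ => 0)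
  have hspan : Submodule.span A₀ (Set.range mm) = ⊤ := by
    rw [eq_top_iff, ← hq]
    apply Submodule.span_mono
    rintro _ ⟨c, rfl⟩
    exact ⟨Sum.inr c, rfl⟩
  have hsum : ∑ c, mm c ⊗ₜ[A₀] nn c = 0 := by
    rw [Fintype.sum_sum_type]
    simp only [mm, nn, Sum.elim_inl, Sum.elim_inr, tmul_zero, Finset.sum_const_zero, add_zero]
    simpa [t] using hQ0
  obtain ⟨κ, a, y, h1, h2⟩ := vanishesTrivially_of_sum_tmul_eq_zero A₀ hspan hsum
  obtain ⟨k, τ, hτ, y', hy'⟩ := h.exists_lift_above i y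
  let w : Fin r ⊕ Fin s → G k :=
    Sum.elim (fun l => τ (x l) - ∑ j, a (Sum.inl l) j • y' j) (fun c => ∑ j, a (Sum.inr c) j • y' j)
  have hw : ∀ c, g k (w c) = 0 := by
    rintro (l | c)
    · have := h1 (Sum.inl l)
      simp only [nn, Sum.elim_inl] at this
      simp only [w, Sum.elim_inl, map_sub, map_sum, map_smul, hy', h.compat i k τ hτ, this,
        sub_self]
    · have := h1 (Sum.inr c)
      simp only [nn, Sum.elim_inr] at this
      simp only [w, Sum.elim_inr, map_sum, map_smul, hy', ← this]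
  obtain ⟨k', τ', hτ', hk'⟩ := h.exists_kill k w hw
  refine ⟨k', τ'.comp τ, h.comp i k k' τ τ' hτ hτ', ?_⟩
  let mmM : Fin r ⊕ Fin s → M := fun c => (mm c : M)
  let nn' : Fin r ⊕ Fin s → G k' := Sum.elim (fun l => τ' (τ (x l))) (fun _ => 0)
  have hv : VanishesTrivially A₀ mmM nn' := by
    refine ⟨κ, a, fun j => τ' (y' j), ?_, ?_⟩
    · rintro (l | c)
      · have := hk' (Sum.inl l)
        simp only [w, Sum.elim_inl, map_sub, map_sum, map_smul, sub_eq_zero] at this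
        simpa [nn'] using this
      · have := hk' (Sum.inr c)
        simp only [w, Sum.elim_inr, map_sum, map_smul] at this
        simpa [nn'] using this.symm
    · intro j
      have := congrArg Q.subtype (h2 j)
      simpa [mmM] using this
  have := sum_tmul_eq_zero_of_vanishesTrivially A₀ hv
  rw [Fintype.sum_sum_type] at this
  simp only [mmM, nn', mm, Sum.elim_inl, Sum.elim_inr, tmul_zero, Finset.sum_const_zero,
    add_zero, Submodule.coe_inclusion, m'] at this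
  simpa [map_sum] using this

theorem map_id_eq_lTensor {B₀ : Type u} [CommRing B₀] [Algebra A₀ B₀] {X Y : Type u} [CommRing X]
    [CommRing Y] [Algebra A₀ X] [Algebra A₀ Y] (φ : X →ₐ[A₀] Y) (z : B₀ ⊗[A₀] X) :
    Algebra.TensorProduct.map (AlgHom.id B₀ B₀) φ z = φ.toLinearMap.lTensor B₀ z := by
  induction z using TensorProduct.induction_on with
  | zero => simp
  | tmul b x => simp
  | add p q hp hq => simp only [map_add, hp, hq]

theorem HC.tensor_map_compat (h : HC A₀ G A g Tr) (B₀ : Type u) [CommRing B₀] [Algebra A₀ B₀]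
    {i j : ι} (τ : G i →ₐ[A₀] G j) (hτ : Tr i j τ) (x : B₀ ⊗[A₀] G i) :
    Algebra.TensorProduct.map (AlgHom.id B₀ B₀) (g j)
      (Algebra.TensorProduct.map (AlgHom.id B₀ B₀) τ x) =
    Algebra.TensorProduct.map (AlgHom.id B₀ B₀) (g i) x := by
  induction x using TensorProduct.induction_on with
  | zero => simp
  | tmul b x => simp [h.compat i j τ hτ]
  | add p q hp hq => simp only [map_add, hp, hq]

theorem HC.tensor (h : HC A₀ G A g Tr) (B₀ : Type u) [CommRing B₀] [Algebra A₀ B₀] :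
    HC B₀ (fun i => B₀ ⊗[A₀] G i) (B₀ ⊗[A₀] A)
      (fun i => Algebra.TensorProduct.map (AlgHom.id B₀ B₀) (g i))
      (fun i j τ' => ∃ τ, Tr i j τ ∧ τ' = Algebra.TensorProduct.map (AlgHom.id B₀ B₀) τ) where
  surj := by
    intro q
    induction q using TensorProduct.induction_on with
    | zero =>
      obtain ⟨i⟩ := h.exists_index
      exact ⟨i, 0, map_zero _⟩
    | tmul b a =>
      obtain ⟨i, x, hx⟩ := h.surj a
      exact ⟨i, b ⊗ₜ x, by simp [hx]⟩
    | add p q hp hq =>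
      obtain ⟨i, x, hx⟩ := hp
      obtain ⟨j, y, hy⟩ := hq
      obtain ⟨k, τ₁, τ₂, h₁, h₂⟩ := h.dir i j
      refine ⟨k, Algebra.TensorProduct.map (AlgHom.id B₀ B₀) τ₁ x +
        Algebra.TensorProduct.map (AlgHom.id B₀ B₀) τ₂ y, ?_⟩
      rw [map_add, ← hx, ← hy, h.tensor_map_compat B₀ τ₁ h₁, h.tensor_map_compat B₀ τ₂ h₂]
  compat := by
    rintro i j _ ⟨τ, hτ, rfl⟩ x
    exact h.tensor_map_compat B₀ τ hτ x
  comp := by
    rintro i j k _ _ ⟨τ, hτ, rfl⟩ ⟨τ', hτ', rfl⟩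
    refine ⟨τ'.comp τ, h.comp _ _ _ _ _ hτ hτ', ?_⟩
    apply AlgHom.ext
    intro x
    induction x using TensorProduct.induction_on with
    | zero => simp
    | tmul b x => simp
    | add p q hp hq => simp only [map_add, hp, hq]
  dir := fun i j => by
    obtain ⟨k, τ₁, τ₂, h₁, h₂⟩ := h.dir i j
    exact ⟨k, _, _, ⟨τ₁, h₁, rfl⟩, ⟨τ₂, h₂, rfl⟩⟩
  ker := by
    intro i z hz
    rw [map_id_eq_lTensor] at hz
    obtain ⟨k, τ, hτ, hk⟩ := h.lTensor_ker B₀ i z hz
    exact ⟨k, _, ⟨τ, hτ, rfl⟩, by rw [map_id_eq_lTensor]; exact hk⟩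

end Tensor

section Descent

variable {B : Type v} [CommRing B] {ι : Type u} {P : ι → Type u} [∀ i, CommRing (P i)]
    [∀ i, Algebra B (P i)] {Q : Type u} [CommRing Q] [Algebra B Q] {g : ∀ i, P i →ₐ[B] Q}
    {Tr : ∀ i j, (P i →ₐ[B] P j) → Prop} {σ : Type}

/-- The extension of an ideal of `B[X]` to `T[X]`. -/
noncomputable def extIdeal (J : Ideal (MvPolynomial σ B)) (T : Type u) [CommRing T] [Algebra B T] :
    Ideal (MvPolynomial σ T) :=
  J.map (MvPolynomial.map (algebraMap B T))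

theorem map_mem_extIdeal {J : Ideal (MvPolynomial σ B)} {T T' : Type u} [CommRing T] [CommRing T']
    [Algebra B T] [Algebra B T'] (φ : T →ₐ[B] T') {x : MvPolynomial σ T}
    (hx : x ∈ extIdeal J T) : MvPolynomial.map (φ : T →+* T') x ∈ extIdeal J T' := by
  have e : (extIdeal J T).map (MvPolynomial.map (φ : T →+* T')) = extIdeal J T' := by
    unfold extIdeal
    rw [Ideal.map_map]
    congr 1
    apply RingHom.ext
    intro p
    rw [RingHom.comp_apply, MvPolynomial.map_map, φ.comp_algebraMap]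
  rw [← e]
  exact Ideal.mem_map_of_mem _ hx

theorem extIdeal_span (s : Set (MvPolynomial σ B)) (T : Type u) [CommRing T] [Algebra B T] :
    extIdeal (Ideal.span s) T = Ideal.span (MvPolynomial.map (algebraMap B T) '' s) := by
  unfold extIdeal
  rw [Ideal.map_span]

theorem extIdeal_pow (J : Ideal (MvPolynomial σ B)) (n : ℕ) (T : Type u) [CommRing T]
    [Algebra B T] : extIdeal (J ^ n) T = (extIdeal J T) ^ n := by
  unfold extIdeal
  rw [Ideal.map_pow]

theorem HC.exists_map_mem_extIdeal (h : HC B P Q g Tr) (J : Ideal (MvPolynomial σ B)) (i : ι)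
    (z : MvPolynomial σ (P i)) (hz : MvPolynomial.map (g i : P i →+* Q) z ∈ extIdeal J Q) :
    ∃ k, ∃ τ : P i →ₐ[B] P k, Tr i k τ ∧
      MvPolynomial.map (τ : P i →+* P k) z ∈ extIdeal J (P k) := by
  classical
  have hp := h.mvPolynomial σ
  unfold extIdeal at hz
  rw [Ideal.map, Ideal.span, Submodule.mem_span_image_iff_exists_fun] at hz
  obtain ⟨t, ht, c, hc⟩ := hz
  obtain ⟨k, _, ⟨τ, hτ, rfl⟩, c', hc'⟩ := hp.exists_lift_above i c
  let w : MvPolynomial σ (P k) :=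
    MvPolynomial.map (τ : P i →+* P k) z - ∑ b : t, c' b * MvPolynomial.map (algebraMap B (P k)) b.1
  have hw : MvPolynomial.mapAlgHom (g k) w = 0 := by
    simp only [w, map_sub, map_sum, map_mul, hc']
    have e1 : MvPolynomial.mapAlgHom (g k) (MvPolynomial.map (τ : P i →+* P k) z) =
        MvPolynomial.map (g i : P i →+* Q) z :=
      hp.compat i k _ ⟨τ, hτ, rfl⟩ z
    have e2 : ∀ b : t, MvPolynomial.mapAlgHom (g k) (MvPolynomial.map (algebraMap B (P k)) b.1) =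
        MvPolynomial.map (algebraMap B Q) b.1 := by
      intro b
      rw [MvPolynomial.mapAlgHom_apply, MvPolynomial.map_map, (g k).comp_algebraMap]
    rw [e1, ← hc, sub_eq_zero]
    apply Finset.sum_congr rfl
    intro b _
    rw [e2, smul_eq_mul]
  obtain ⟨k', _, ⟨τ', hτ', rfl⟩, hk'⟩ := hp.ker k w hw
  refine ⟨k', τ'.comp τ, h.comp i k k' τ τ' hτ hτ', ?_⟩
  have e3 : MvPolynomial.map ((τ'.comp τ : P i →ₐ[B] P k') : P i →+* P k') z =
      ∑ b : t, MvPolynomial.map (τ' : P k →+* P k') (c' b) *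
        MvPolynomial.map (algebraMap B (P k')) b.1 := by
    rw [MvPolynomial.mapAlgHom_apply] at hk'
    simp only [w, map_sub, map_sum, map_mul, sub_eq_zero, MvPolynomial.map_map] at hk'
    rw [show ((τ'.comp τ : P i →ₐ[B] P k') : P i →+* P k') =
      (τ' : P k →+* P k').comp (τ : P i →+* P k) from rfl, hk']
    apply Finset.sum_congr rfl
    intro b _
    rw [τ'.comp_algebraMap]
  rw [e3]
  apply Ideal.sum_mem
  intro b _
  exact Ideal.mul_mem_left _ _ (Ideal.mem_map_of_mem _ (ht b.2))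

theorem HC.exists_map_mem_extIdeal_finset (h : HC B P Q g Tr) {γ : Type*} (s : Finset γ)
    (J : γ → Ideal (MvPolynomial σ B)) (i : ι) (z : γ → MvPolynomial σ (P i))
    (hz : ∀ c ∈ s, MvPolynomial.map (g i : P i →+* Q) (z c) ∈ extIdeal (J c) Q) :
    ∃ k, ∃ τ : P i →ₐ[B] P k, Tr i k τ ∧
      ∀ c ∈ s, MvPolynomial.map (τ : P i →+* P k) (z c) ∈ extIdeal (J c) (P k) := by
  classical
  induction s using Finset.induction_on with
  | empty =>
    obtain ⟨k, τ, hτ⟩ := h.exists_self_tr i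
    exact ⟨k, τ, hτ, by simp⟩
  | insert a s _ ih =>
    obtain ⟨k, τ, hτ, hk⟩ := ih (fun c hc => hz c (Finset.mem_insert_of_mem hc))
    have h0 : MvPolynomial.map (g k : P k →+* Q) (MvPolynomial.map (τ : P i →+* P k) (z a)) ∈
        extIdeal (J a) Q := by
      have e1 : MvPolynomial.mapAlgHom (g k) (MvPolynomial.map (τ : P i →+* P k) (z a)) =
          MvPolynomial.map (g i : P i →+* Q) (z a) :=
        (h.mvPolynomial σ).compat i k _ ⟨τ, hτ, rfl⟩ (z a)
      rw [MvPolynomial.mapAlgHom_apply] at e1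
      rw [e1]
      exact hz a (Finset.mem_insert_self a s)
    obtain ⟨k', τ', hτ', hk'⟩ := h.exists_map_mem_extIdeal (J a) k _ h0
    refine ⟨k', τ'.comp τ, h.comp i k k' τ τ' hτ hτ', ?_⟩
    intro c hc
    have e : MvPolynomial.map ((τ'.comp τ : P i →ₐ[B] P k') : P i →+* P k') (z c) =
        MvPolynomial.map (τ' : P k →+* P k') (MvPolynomial.map (τ : P i →+* P k) (z c)) := by
      rw [MvPolynomial.map_map]; rfl
    rw [e]
    rw [Finset.mem_insert] at hc
    rcases hc with rfl | hc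
    · exact hk'
    · exact map_mem_extIdeal τ' (hk c hc)

/-- A natural expression in a family of polynomials. -/
structure NatExpr (B : Type v) [CommRing B] (σ : Type) (κ : Type) where
  E : ∀ (T : Type u) [CommRing T] [Algebra B T], (κ → MvPolynomial σ T) → MvPolynomial σ T
  nat : ∀ (T T' : Type u) [CommRing T] [CommRing T'] [Algebra B T] [Algebra B T']
    (φ : T →ₐ[B] T') (x : κ → MvPolynomial σ T),
    E T' (fun l => MvPolynomial.map (φ : T →+* T') (x l)) = MvPolynomial.map (φ : T →+* T') (E T x)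

/-- **Descent of finite polynomial data to a finite stage.** -/
theorem HC.descent (h : HC B P Q g Tr) {κ γ : Type} [Finite κ] [Finite γ]
    (E : γ → NatExpr B σ κ) (J : γ → Ideal (MvPolynomial σ B)) (x : κ → MvPolynomial σ Q)
    (hx : ∀ c, (E c).E Q x ∈ extIdeal (J c) Q) :
    ∃ i, ∃ y : κ → MvPolynomial σ (P i), ∀ c, (E c).E (P i) y ∈ extIdeal (J c) (P i) := by
  classical
  have := Fintype.ofFinite γ
  have hp := h.mvPolynomial σ
  obtain ⟨i₀, y₀, hy₀⟩ := hp.exists_lift x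
  have hz : ∀ c ∈ (Finset.univ : Finset γ),
      MvPolynomial.map (g i₀ : P i₀ →+* Q) ((E c).E (P i₀) y₀) ∈ extIdeal (J c) Q := by
    intro c _
    rw [← (E c).nat (P i₀) Q (g i₀) y₀]
    have : (fun l => MvPolynomial.map (g i₀ : P i₀ →+* Q) (y₀ l)) = x := funext hy₀
    rw [this]
    exact hx c
  obtain ⟨k, τ, -, hk⟩ := h.exists_map_mem_extIdeal_finset Finset.univ J i₀
    (fun c => (E c).E (P i₀) y₀) hz
  refine ⟨k, fun l => MvPolynomial.map (τ : P i₀ →+* P k) (y₀ l), ?_⟩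
  intro c
  rw [(E c).nat (P i₀) (P k) τ y₀]
  exact hk c (Finset.mem_univ c)

end Descent

section Pointed

/-- The ring `G`, regarded as an algebra over `ℤ[Y₁,…,Y_N]` via `Y_l ↦ c l`. -/
def Pt {G : Type u} [CommRing G] {N : ℕ} (_c : Fin N → G) : Type u := G

instance {G : Type u} [CommRing G] {N : ℕ} (c : Fin N → G) : CommRing (Pt c) :=
  inferInstanceAs (CommRing G)

noncomputable instance {G : Type u} [CommRing G] {N : ℕ} (c : Fin N → G) :
    Algebra (MvPolynomial (Fin N) ℤ) (Pt c) :=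
  (MvPolynomial.aeval (R := ℤ) (S₁ := G) c).toRingHom.toAlgebra

theorem Pt.algebraMap_apply {G : Type u} [CommRing G] {N : ℕ} (c : Fin N → G)
    (p : MvPolynomial (Fin N) ℤ) :
    algebraMap (MvPolynomial (Fin N) ℤ) (Pt c) p = MvPolynomial.aeval (R := ℤ) (S₁ := G) c p :=
  rfl

/-- A ring hom compatible with the marked points is an algebra hom. -/
noncomputable def Pt.algHom {G G' : Type u} [CommRing G] [CommRing G'] {N : ℕ} (c : Fin N → G)
    (c' : Fin N → G') (ρ : G →+* G') (hρ : ∀ l, ρ (c l) = c' l) :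
    Pt c →ₐ[MvPolynomial (Fin N) ℤ] Pt c' :=
  { ρ with
    commutes' := by
      intro p
      change ρ (MvPolynomial.aeval (R := ℤ) (S₁ := G) c p) =
        MvPolynomial.aeval (R := ℤ) (S₁ := G') c' p
      have : ρ.comp (MvPolynomial.aeval (R := ℤ) (S₁ := G) c).toRingHom =
          (MvPolynomial.aeval (R := ℤ) (S₁ := G') c').toRingHom := by
        apply MvPolynomial.ringHom_ext
        · intro n; simp
        · intro l; simp [hρ]
      exact RingHom.congr_fun this p }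

@[simp] theorem Pt.algHom_apply {G G' : Type u} [CommRing G] [CommRing G'] {N : ℕ}
    (c : Fin N → G) (c' : Fin N → G') (ρ : G →+* G') (hρ : ∀ l, ρ (c l) = c' l) (x : Pt c) :
    Pt.algHom c c' ρ hρ x = ρ x := rfl

variable {ι : Type u} {G : ι → Type u} [∀ i, CommRing (G i)] {A : Type u} [CommRing A]
    {g : ∀ i, G i →ₐ[ℤ] A} {Tr : ∀ i j, (G i →ₐ[ℤ] G j) → Prop}

/-- Mark finitely many points of the colimit: the system of all stages together with lifts of the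
marked points is again a hand-made directed colimit, now over `ℤ[Y₁,…,Y_N]`. -/
theorem HC.pointed (h : HC ℤ G A g Tr) {N : ℕ} (a : Fin N → A) :
    HC (MvPolynomial (Fin N) ℤ)
      (fun j : (Σ k, {c : Fin N → G k // ∀ l, g k (c l) = a l}) => Pt j.2.1) (Pt a)
      (fun j => Pt.algHom j.2.1 a (g j.1 : G j.1 →+* A) j.2.2)
      (fun j j' τ => ∃ ρ : G j.1 →ₐ[ℤ] G j'.1, Tr j.1 j'.1 ρ ∧ ∀ x, τ x = ρ x) where
  surj := by
    intro q
    obtain ⟨j, x, hx⟩ := h.surj q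
    obtain ⟨k₀, c₀, hc₀⟩ := h.exists_lift a
    obtain ⟨k, ρ₁, ρ₂, h₁, h₂⟩ := h.dir k₀ j
    exact ⟨⟨k, fun l => ρ₁ (c₀ l), fun l => by rw [h.compat k₀ k ρ₁ h₁, hc₀]⟩, ρ₂ x, by
      change g k (ρ₂ x) = q
      rw [h.compat j k ρ₂ h₂, hx]⟩
  compat := by
    rintro j j' τ ⟨ρ, hρ, hτ⟩ x
    change g j'.1 (τ x) = g j.1 x
    rw [hτ, h.compat j.1 j'.1 ρ hρ]
  comp := by
    rintro j j' j'' τ τ' ⟨ρ, hρ, hτ⟩ ⟨ρ', hρ', hτ'⟩
    exact ⟨ρ'.comp ρ, h.comp _ _ _ ρ ρ' hρ hρ', fun x => by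
      rw [AlgHom.comp_apply, hτ', hτ]; rfl⟩
  dir := by
    rintro ⟨k₁, c₁, hc₁⟩ ⟨k₂, c₂, hc₂⟩
    obtain ⟨k, ρ₁, ρ₂, h₁, h₂⟩ := h.dir k₁ k₂
    have h0 : ∀ l, g k (ρ₁ (c₁ l) - ρ₂ (c₂ l)) = 0 := by
      intro l
      rw [map_sub, h.compat k₁ k ρ₁ h₁, h.compat k₂ k ρ₂ h₂, hc₁, hc₂, sub_self]
    obtain ⟨k', ρ, hρ, hk'⟩ := h.exists_kill k (fun l => ρ₁ (c₁ l) - ρ₂ (c₂ l)) h0
    have hk'' : ∀ l, ρ (ρ₂ (c₂ l)) = ρ (ρ₁ (c₁ l)) := by
      intro l
      have := hk' l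
      rw [map_sub, sub_eq_zero] at this
      exact this.symm
    refine ⟨⟨k', fun l => ρ (ρ₁ (c₁ l)), fun l => by
      rw [h.compat k k' ρ hρ, h.compat k₁ k ρ₁ h₁, hc₁]⟩,
      Pt.algHom c₁ _ ((ρ.comp ρ₁ : G k₁ →ₐ[ℤ] G k') : G k₁ →+* G k') (fun l => rfl),
      Pt.algHom c₂ _ ((ρ.comp ρ₂ : G k₂ →ₐ[ℤ] G k') : G k₂ →+* G k') (fun l => hk'' l),
      ⟨ρ.comp ρ₁, h.comp _ _ _ ρ₁ ρ h₁ hρ, fun x => rfl⟩,
      ⟨ρ.comp ρ₂, h.comp _ _ _ ρ₂ ρ h₂ hρ, fun x => rfl⟩⟩
  ker := by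
    rintro ⟨k, c, hc⟩ x hx
    obtain ⟨k', ρ, hρ, hk'⟩ := h.ker k x hx
    exact ⟨⟨k', fun l => ρ (c l), fun l => by rw [h.compat k k' ρ hρ, hc]⟩,
      Pt.algHom c _ (ρ : G k →+* G k') (fun l => rfl), ⟨ρ, hρ, fun x => rfl⟩, hk'⟩

end Pointed

end Groth.Agent.Lib.Helper20.HandColim
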