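import Mathlib
import Groth.Agent.Lib.Helper20.HandColim

set_option autoImplicit false

/-!
# Finite polynomial witnesses for properties of finitely generated algebras
-/

namespace Groth.Agent.Lib.Helper20.HandColimProps

universe u v w

open TensorProduct MvPolynomial

section Witness

variable {T : Type u} [CommRing T] {S : Type w} [CommRing S] [Algebra T S] {ι : Type}
  (π : MvPolynomial ι T →ₐ[T] S) (K : Ideal (MvPolynomial ι T))

theorem eq_algebraMap_eval (hK : ∀ p, p ∈ K ↔ π p = 0) (t : ι → T)
    (ht : ∀ j, X j - C (t j) ∈ K) (p : MvPolynomial ι T) :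
    π p = algebraMap T S (MvPolynomial.eval t p) := by
  have e : π = (Algebra.ofId T S).comp (MvPolynomial.aeval t) := by
    apply MvPolynomial.algHom_ext
    intro j
    have := (hK _).mp (ht j)
    rw [map_sub, sub_eq_zero] at this
    rw [this, AlgHom.comp_apply, aeval_X, ← MvPolynomial.algebraMap_eq, AlgHom.commutes]
    rfl
  rw [e, AlgHom.comp_apply, MvPolynomial.aeval_def, MvPolynomial.eval₂_eq_eval_map]
  simp [Algebra.ofId_apply]

theorem surjective_iff_witness (hπ : Function.Surjective π) (hK : ∀ p, p ∈ K ↔ π p = 0) :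
    Function.Surjective (algebraMap T S) ↔ ∃ t : ι → T, ∀ j, X j - C (t j) ∈ K := by
  constructor
  · intro h
    choose t ht using fun j => h (π (X j))
    refine ⟨t, fun j => ?_⟩
    rw [hK, map_sub, ← MvPolynomial.algebraMap_eq, AlgHom.commutes, ht, sub_self]
  · rintro ⟨t, ht⟩ s
    obtain ⟨p, rfl⟩ := hπ s
    exact ⟨_, (eq_algebraMap_eval π K hK t ht p).symm⟩

theorem bijective_iff_witness (hπ : Function.Surjective π) (hK : ∀ p, p ∈ K ↔ π p = 0)
    {σ : Type*} (rel : σ → MvPolynomial ι T) (hrel : K = Ideal.span (Set.range rel)) :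
    Function.Bijective (algebraMap T S) ↔
      ∃ t : ι → T, (∀ j, X j - C (t j) ∈ K) ∧ ∀ k, MvPolynomial.eval t (rel k) = 0 := by
  constructor
  · rintro ⟨hinj, hsurj⟩
    obtain ⟨t, ht⟩ := (surjective_iff_witness π K hπ hK).mp hsurj
    refine ⟨t, ht, fun k => ?_⟩
    apply hinj
    rw [← eq_algebraMap_eval π K hK t ht, map_zero, ← hK, hrel]
    exact Ideal.subset_span ⟨k, rfl⟩
  · rintro ⟨t, ht, hrel0⟩
    refine ⟨?_, (surjective_iff_witness π K hπ hK).mpr ⟨t, ht⟩⟩
    rw [injective_iff_map_eq_zero]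
    intro a ha
    have h1 : (C a : MvPolynomial ι T) ∈ K := by
      rw [hK, ← MvPolynomial.algebraMap_eq, AlgHom.commutes, ha]
    have h2 : K ≤ RingHom.ker (MvPolynomial.eval t) := by
      rw [hrel, Ideal.span_le]
      rintro _ ⟨k, rfl⟩
      exact hrel0 k
    have := h2 h1
    rwa [RingHom.mem_ker, eval_C] at this

end Witness

section WitnessFinite

variable {T : Type u} [CommRing T] {S : Type w} [CommRing S] [Algebra T S] {ι : Type}
  (π : MvPolynomial ι T →ₐ[T] S) (K : Ideal (MvPolynomial ι T))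

theorem finite_iff_witness [Finite ι] (hπ : Function.Surjective π)
    (hK : ∀ p, p ∈ K ↔ π p = 0) :
    Module.Finite T S ↔ ∃ d : ℕ, ∃ a : ι → Fin d → T,
      ∀ j, X j ^ d + ∑ e : Fin d, C (a j e) * X j ^ (e : ℕ) ∈ K := by
  classical
  have := Fintype.ofFinite ι
  constructor
  · intro hfin
    rcases subsingleton_or_nontrivial T with hT | hT
    · refine ⟨0, fun _ => Fin.elim0, fun j => ?_⟩
      rw [Subsingleton.elim (X j ^ 0 + ∑ e : Fin 0, C (Fin.elim0 e) * X j ^ (e : ℕ) :
        MvPolynomial ι T) 0]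
      exact K.zero_mem
    have hint : ∀ j, IsIntegral T (π (X j)) := fun j => Algebra.IsIntegral.isIntegral _
    choose p hpm hp0 using hint
    let d : ℕ := ∑ j, (p j).natDegree
    have hd : ∀ j, (p j).natDegree ≤ d := fun j =>
      Finset.single_le_sum (f := fun j => (p j).natDegree) (fun _ _ => Nat.zero_le _)
        (Finset.mem_univ j)
    let p' : ι → Polynomial T := fun j => p j * Polynomial.X ^ (d - (p j).natDegree)
    have hp'm : ∀ j, (p' j).Monic := fun j => (hpm j).mul (Polynomial.monic_X_pow _)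
    have hp'd : ∀ j, (p' j).natDegree = d := by
      intro j
      rw [(hpm j).natDegree_mul (Polynomial.monic_X_pow _), Polynomial.natDegree_X_pow]
      have := hd j
      omega
    refine ⟨d, fun j e => (p' j).coeff e, fun j => ?_⟩
    have e1 : (X j ^ d + ∑ e : Fin d, C ((p' j).coeff e) * X j ^ (e : ℕ) : MvPolynomial ι T) =
        Polynomial.aeval (X j : MvPolynomial ι T) (p' j) := by
      conv_rhs => rw [(hp'm j).as_sum, hp'd j]
      rw [map_add, map_pow, Polynomial.aeval_X, map_sum,
        Fin.sum_univ_eq_sum_range (fun e => C ((p' j).coeff e) * X j ^ e) d]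
      congr 1
      apply Finset.sum_congr rfl
      intro e _
      rw [map_mul, map_pow, Polynomial.aeval_X, Polynomial.aeval_C, MvPolynomial.algebraMap_eq]
    rw [e1, hK, ← Polynomial.aeval_algHom_apply]
    simp only [p', map_mul, map_pow, Polynomial.aeval_X]
    have : Polynomial.aeval (π (X j)) (p j) = 0 := hp0 j
    rw [this, zero_mul]
  · rintro ⟨d, a, ha⟩
    have hint : ∀ j, IsIntegral T (π (X j)) := by
      intro j
      refine ⟨Polynomial.X ^ d + ∑ e : Fin d, Polynomial.C (a j e) * Polynomial.X ^ (e : ℕ),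
        Polynomial.monic_X_pow_add (Polynomial.degree_sum_fin_lt _), ?_⟩
      have := (hK _).mp (ha j)
      rw [← Polynomial.aeval_def]
      simp only [map_add, map_pow, map_sum, map_mul, Polynomial.aeval_X, Polynomial.aeval_C]
      simp only [map_add, map_pow, map_sum, map_mul, ← MvPolynomial.algebraMap_eq,
        AlgHom.commutes] at this
      exact this
    have htop : Algebra.adjoin T (Set.range fun j => π (X j)) = ⊤ := by
      have h1 : (Set.range fun j => π (X j)) = π '' Set.range (X : ι → MvPolynomial ι T) := by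
        rw [← Set.range_comp]; rfl
      rw [h1, ← AlgHom.map_adjoin, MvPolynomial.adjoin_range_X, Algebra.map_top]
      exact (AlgHom.range_eq_top π).mpr hπ
    have hfg := fg_adjoin_of_finite (R := T) (Set.finite_range fun j => π (X j))
      (by rintro _ ⟨j, rfl⟩; exact hint j)
    rw [htop, Algebra.top_toSubmodule] at hfg
    exact Module.finite_def.mpr hfg

end WitnessFinite

section WitnessSmooth

variable {T : Type u} [CommRing T] {S : Type w} [CommRing S] [Algebra T S] {ι : Type}
  (π : MvPolynomial ι T →ₐ[T] S) (K : Ideal (MvPolynomial ι T))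

theorem formallySmooth_iff_witness (hπ : Function.Surjective π)
    (hK : ∀ p, p ∈ K ↔ π p = 0) {σ : Type*} (rel : σ → MvPolynomial ι T)
    (hrel : K = Ideal.span (Set.range rel)) :
    Algebra.FormallySmooth T S ↔ ∃ g : ι → MvPolynomial ι T,
      (∀ j, g j - X j ∈ K) ∧ ∀ k, MvPolynomial.aeval g (rel k) ∈ K ^ 2 := by
  have hker : RingHom.ker π.toRingHom = K := by
    ext p
    rw [RingHom.mem_ker, hK]
    rfl
  constructor
  · intro h
    obtain ⟨s, hs⟩ := (Algebra.FormallySmooth.iff_split_surjection π hπ).mp h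
    have hsur : ∀ j, ∃ q : MvPolynomial ι T,
        Ideal.Quotient.mk (RingHom.ker π.toRingHom ^ 2) q = s (π (X j)) :=
      fun j => Ideal.Quotient.mk_surjective _
    choose g hg using hsur
    have h1 : ∀ j, π (g j) = π (X j) := by
      intro j
      have := AlgHom.congr_fun hs (π (X j))
      rw [AlgHom.comp_apply, ← hg j] at this
      exact this
    refine ⟨g, fun j => ?_, fun k => ?_⟩
    · rw [hK, map_sub, h1, sub_self]
    · have e : (Ideal.Quotient.mkₐ T (RingHom.ker π.toRingHom ^ 2)).comp (MvPolynomial.aeval g) =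
          s.comp π := by
        apply MvPolynomial.algHom_ext
        intro j
        rw [AlgHom.comp_apply, AlgHom.comp_apply, aeval_X, ← hg j]
        rfl
      have h2 := AlgHom.congr_fun e (rel k)
      rw [AlgHom.comp_apply, AlgHom.comp_apply] at h2
      have h3 : π (rel k) = 0 := by
        rw [← hK, hrel]
        exact Ideal.subset_span ⟨k, rfl⟩
      rw [h3, map_zero] at h2
      rw [← hker]
      exact Ideal.Quotient.eq_zero_iff_mem.mp h2
  · rintro ⟨g, hg1, hg2⟩
    let φ : MvPolynomial ι T →ₐ[T] MvPolynomial ι T ⧸ RingHom.ker π.toRingHom ^ 2 :=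
      (Ideal.Quotient.mkₐ T _).comp (MvPolynomial.aeval g)
    have H : RingHom.ker π.toRingHom ≤ RingHom.ker φ.toRingHom := by
      have hle : RingHom.ker π.toRingHom ≤ Ideal.span (Set.range rel) := by
        rw [hker, hrel]
      refine hle.trans ?_
      rw [Ideal.span_le]
      rintro _ ⟨k, rfl⟩
      change φ (rel k) = 0
      simp only [φ, AlgHom.comp_apply]
      apply Ideal.Quotient.eq_zero_iff_mem.mpr
      rw [hker]
      exact hg2 k
    let s : S →ₐ[T] MvPolynomial ι T ⧸ RingHom.ker π.toRingHom ^ 2 :=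
      AlgHom.liftOfSurjective π hπ φ H
    apply Algebra.FormallySmooth.of_split π s
    apply AlgHom.ext
    intro x
    obtain ⟨p, rfl⟩ := hπ x
    rw [AlgHom.comp_apply, AlgHom.liftOfSurjective_apply]
    simp only [φ, AlgHom.comp_apply]
    change π (MvPolynomial.aeval g p) = π p
    have e : π.comp (MvPolynomial.aeval g) = π := by
      apply MvPolynomial.algHom_ext
      intro j
      rw [AlgHom.comp_apply, aeval_X]
      have := (hK _).mp (hg1 j)
      rwa [map_sub, sub_eq_zero] at this
    exact AlgHom.congr_fun e p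

end WitnessSmooth

section WitnessUnram

variable {T : Type u} [CommRing T] {S : Type w} [CommRing S] [Algebra T S] {ι : Type}

theorem formallyUnramified_iff_witness [DecidableEq ι] (G : Algebra.Generators T S ι) :
    Algebra.FormallyUnramified T S ↔ ∃ h : ι → MvPolynomial ι T,
      (∀ j, h j ∈ G.ker) ∧ ∀ j l, pderiv l (h j) - (if j = l then 1 else 0) ∈ G.ker := by
  constructor
  · intro hunr
    have hsurj : ∀ y : G.toExtension.CotangentSpace, ∃ c, G.toExtension.cotangentComplex c = y := by
      intro y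
      have h0 : G.toExtension.toKaehler y = 0 := Subsingleton.elim _ _
      exact (G.toExtension.exact_cotangentComplex_toKaehler y).mp h0
    have hex : ∀ j, ∃ x : G.ker, G.toExtension.cotangentComplex (Algebra.Extension.Cotangent.mk x) =
        G.cotangentSpaceBasis j := by
      intro j
      obtain ⟨c, hc⟩ := hsurj (G.cotangentSpaceBasis j)
      obtain ⟨x, rfl⟩ := Algebra.Extension.Cotangent.mk_surjective c
      exact ⟨x, hc⟩
    choose x hx using hex
    refine ⟨fun j => (x j).1, fun j => (x j).2, fun j l => ?_⟩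
    have h1 := congrArg (fun y => G.cotangentSpaceBasis.repr y l) (hx j)
    simp only [Algebra.Extension.cotangentComplex_mk, Algebra.Generators.cotangentSpaceBasis_repr_one_tmul,
      Module.Basis.repr_self] at h1
    have hmem : ∀ q : MvPolynomial ι T, q ∈ G.ker ↔ aeval G.val q = 0 := by
      intro q
      rw [Algebra.Generators.ker_eq_ker_aeval_val, RingHom.mem_ker]
    rw [hmem, map_sub]
    change aeval G.val (pderiv l (x j).1) - _ = 0
    rw [h1, Finsupp.single_apply]
    split_ifs <;> simp
  · rintro ⟨h, hmem, hder⟩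
    have hcc : ∀ j, G.toExtension.cotangentComplex (Algebra.Extension.Cotangent.mk ⟨h j, hmem j⟩) =
        G.cotangentSpaceBasis j := by
      intro j
      apply G.cotangentSpaceBasis.repr.injective
      ext l
      rw [Algebra.Extension.cotangentComplex_mk, Algebra.Generators.cotangentSpaceBasis_repr_one_tmul,
        Module.Basis.repr_self, Finsupp.single_apply]
      have hmem' : ∀ q : MvPolynomial ι T, q ∈ G.ker ↔ aeval G.val q = 0 := by
        intro q
        rw [Algebra.Generators.ker_eq_ker_aeval_val, RingHom.mem_ker]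
      have := hder j l
      rw [hmem', map_sub, sub_eq_zero] at this
      rw [this]
      split_ifs <;> simp
    have hrange : LinearMap.range G.toExtension.cotangentComplex = ⊤ := by
      rw [_root_.eq_top_iff, ← G.cotangentSpaceBasis.span_eq, Submodule.span_le]
      rintro _ ⟨j, rfl⟩
      exact ⟨_, hcc j⟩
    refine ⟨⟨fun a b => ?_⟩⟩
    have key : ∀ ω : Ω[S⁄T], ω = 0 := by
      intro ω
      obtain ⟨y, rfl⟩ := G.toExtension.toKaehler_surjective ω
      obtain ⟨c, rfl⟩ := LinearMap.range_eq_top.mp hrange y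
      exact G.toExtension.exact_cotangentComplex_toKaehler.apply_apply_eq_zero c
    rw [key a, key b]

end WitnessUnram

open Groth.Agent.Lib.Helper20.HandColim

section Exprs

variable {B : Type v} [CommRing B] {σ κ : Type}

/-- `q ↦ X j - C (constantCoeff (q l))` -/
noncomputable def exprXsubC (j : σ) (l : κ) : NatExpr B σ κ where
  E := fun _ _ _ q => X j - C (constantCoeff (q l))
  nat := by
    intro T T' _ _ _ _ φ x
    simp only [map_sub, map_X, map_C, constantCoeff_map]

/-- `q ↦ C (aeval (constantCoeff ∘ q ∘ l) r)` -/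
noncomputable def exprEvalRel (r : MvPolynomial σ B) (l : σ → κ) : NatExpr B σ κ where
  E := fun _ _ _ q => C (aeval (fun j => constantCoeff (q (l j))) r)
  nat := by
    intro T T' _ _ _ _ φ x
    simp only [map_C, constantCoeff_map]
    congr 1
    exact (comp_aeval_apply _ φ r).symm

/-- `q ↦ X j ^ d + ∑ e, C (constantCoeff (q (l e))) * X j ^ e` -/
noncomputable def exprMonic (j : σ) (d : ℕ) (l : Fin d → κ) : NatExpr B σ κ where
  E := fun _ _ _ q => X j ^ d + ∑ e : Fin d, C (constantCoeff (q (l e))) * X j ^ (e : ℕ)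
  nat := by
    intro T T' _ _ _ _ φ x
    simp only [map_add, map_pow, map_X, map_sum, map_mul, map_C, constantCoeff_map]

/-- `q ↦ q l - X j` -/
noncomputable def exprSubX (j : σ) (l : κ) : NatExpr B σ κ where
  E := fun _ _ _ q => q l - X j
  nat := by
    intro T T' _ _ _ _ φ x
    simp only [map_sub, map_X]

/-- `q ↦ aeval (q ∘ l) r` -/
noncomputable def exprAevalRel (r : MvPolynomial σ B) (l : σ → κ) : NatExpr B σ κ where
  E := fun _ _ _ q => aeval (fun j => q (l j)) r
  nat := by
    intro T T' _ _ _ _ φ x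
    exact (comp_aeval_apply _ (MvPolynomial.mapAlgHom φ) r).symm

/-- `q ↦ q l` -/
noncomputable def exprProj (l : κ) : NatExpr B σ κ where
  E := fun _ _ _ q => q l
  nat := by
    intro T T' _ _ _ _ φ x
    rfl

/-- `q ↦ pderiv j (q l) - (if b then 1 else 0)` -/
noncomputable def exprPderiv (j : σ) (l : κ) (b : Prop) [Decidable b] : NatExpr B σ κ where
  E := fun _ _ _ q => pderiv j (q l) - (if b then 1 else 0)
  nat := by
    intro T T' _ _ _ _ φ x
    rw [map_sub, pderiv_map]
    split_ifs <;> simp

end Exprs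

section Setup

variable {B₀ : Type v} [CommRing B₀] {C₀ : Type w} [CommRing C₀] [Algebra B₀ C₀] {n : ℕ}
  {σ : Type*} (P : Algebra.Presentation B₀ C₀ (Fin n) σ)

theorem ker_baseChange (T : Type u) [CommRing T] [Algebra B₀ T] :
    (P.baseChange T).ker = extIdeal (Ideal.span (Set.range P.relation)) T := by
  rw [← (P.baseChange T).span_range_relation_eq_ker, extIdeal_span, ← Set.range_comp]
  rfl

theorem mem_extIdeal_iff (T : Type u) [CommRing T] [Algebra B₀ T]
    (p : MvPolynomial (Fin n) T) :
    p ∈ extIdeal (Ideal.span (Set.range P.relation)) T ↔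
      aeval (P.baseChange T).val p = 0 := by
  rw [← ker_baseChange, Algebra.Generators.ker_eq_ker_aeval_val, RingHom.mem_ker]

theorem extIdeal_eq_span (T : Type u) [CommRing T] [Algebra B₀ T] :
    extIdeal (Ideal.span (Set.range P.relation)) T =
      Ideal.span (Set.range fun k => MvPolynomial.map (algebraMap B₀ T) (P.relation k)) := by
  rw [extIdeal_span, ← Set.range_comp]
  rfl

end Setup

section DescentThms

variable {B₀ : Type v} [CommRing B₀] {C₀ : Type w} [CommRing C₀] [Algebra B₀ C₀] {n : ℕ}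
  {ι : Type u} {R : ι → Type u} [∀ i, CommRing (R i)] [∀ i, Algebra B₀ (R i)] {Rl : Type u}
  [CommRing Rl] [Algebra B₀ Rl] {g : ∀ i, R i →ₐ[B₀] Rl} {Tr : ∀ i j, (R i →ₐ[B₀] R j) → Prop}

/-- Strong form of descent: the witnesses exist at every later stage. -/
theorem descent' (hc : HC B₀ R Rl g Tr) {σ κ γ : Type} [Finite κ] [Finite γ]
    (E : γ → NatExpr B₀ σ κ) (J : γ → Ideal (MvPolynomial σ B₀)) (x : κ → MvPolynomial σ Rl)
    (hx : ∀ c, (E c).E Rl x ∈ extIdeal (J c) Rl) :
    ∃ i, ∀ k (τ : R i →ₐ[B₀] R k), Tr i k τ →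
      ∃ y : κ → MvPolynomial σ (R k), ∀ c, (E c).E (R k) y ∈ extIdeal (J c) (R k) := by
  obtain ⟨i, y, hy⟩ := hc.descent E J x hx
  refine ⟨i, fun k τ _ => ⟨fun l => MvPolynomial.map (τ : R i →+* R k) (y l), fun c => ?_⟩⟩
  rw [(E c).nat (R i) (R k) τ y]
  exact map_mem_extIdeal τ (hy c)

theorem extIdeal_bot {σ : Type} (T : Type u) [CommRing T] [Algebra B₀ T] :
    extIdeal (⊥ : Ideal (MvPolynomial σ B₀)) T = ⊥ := Ideal.map_bot

theorem descent_surjective {σ : Type*} (P : Algebra.Presentation B₀ C₀ (Fin n) σ)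
    (hc : HC B₀ R Rl g Tr) (h : Function.Surjective (algebraMap Rl (Rl ⊗[B₀] C₀))) :
    ∃ i, ∀ k (τ : R i →ₐ[B₀] R k), Tr i k τ →
      Function.Surjective (algebraMap (R k) (R k ⊗[B₀] C₀)) := by
  obtain ⟨t, ht⟩ := (surjective_iff_witness (aeval (P.baseChange Rl).val) _
    (P.baseChange Rl).aeval_val_surjective (mem_extIdeal_iff P Rl)).mp h
  obtain ⟨i, hi⟩ := descent' hc (σ := Fin n) (κ := Fin n) (γ := Fin n)
    (fun j => exprXsubC j j) (fun _ => Ideal.span (Set.range P.relation)) (fun l => C (t l))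
    (fun j => by simpa [exprXsubC] using ht j)
  refine ⟨i, fun k τ hτ => ?_⟩
  obtain ⟨y, hy⟩ := hi k τ hτ
  exact (surjective_iff_witness (aeval (P.baseChange (R k)).val) _
    (P.baseChange (R k)).aeval_val_surjective (mem_extIdeal_iff P (R k))).mpr
    ⟨fun j => constantCoeff (y j), hy⟩

theorem descent_finite {σ : Type*} (P : Algebra.Presentation B₀ C₀ (Fin n) σ)
    (hc : HC B₀ R Rl g Tr) (h : Module.Finite Rl (Rl ⊗[B₀] C₀)) :
    ∃ i, ∀ k (τ : R i →ₐ[B₀] R k), Tr i k τ → Module.Finite (R k) (R k ⊗[B₀] C₀) := by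
  obtain ⟨d, a, ha⟩ := (finite_iff_witness (aeval (P.baseChange Rl).val) _
    (P.baseChange Rl).aeval_val_surjective (mem_extIdeal_iff P Rl)).mp h
  obtain ⟨i, hi⟩ := descent' hc (σ := Fin n) (κ := Fin n × Fin d) (γ := Fin n)
    (fun j => exprMonic j d (fun e => (j, e))) (fun _ => Ideal.span (Set.range P.relation))
    (fun l => C (a l.1 l.2)) (fun j => by simpa [exprMonic] using ha j)
  refine ⟨i, fun k τ hτ => ?_⟩
  obtain ⟨y, hy⟩ := hi k τ hτ
  exact (finite_iff_witness (aeval (P.baseChange (R k)).val) _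
    (P.baseChange (R k)).aeval_val_surjective (mem_extIdeal_iff P (R k))).mpr
    ⟨d, fun j e => constantCoeff (y (j, e)), hy⟩

theorem descent_bijective {m : ℕ} (P : Algebra.Presentation B₀ C₀ (Fin n) (Fin m))
    (hc : HC B₀ R Rl g Tr) (h : Function.Bijective (algebraMap Rl (Rl ⊗[B₀] C₀))) :
    ∃ i, ∀ k (τ : R i →ₐ[B₀] R k), Tr i k τ →
      Function.Bijective (algebraMap (R k) (R k ⊗[B₀] C₀)) := by
  obtain ⟨t, ht1, ht2⟩ := (bijective_iff_witness (aeval (P.baseChange Rl).val) _
    (P.baseChange Rl).aeval_val_surjective (mem_extIdeal_iff P Rl)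
    (fun k => MvPolynomial.map (algebraMap B₀ Rl) (P.relation k)) (extIdeal_eq_span P Rl)).mp h
  obtain ⟨i, hi⟩ := descent' hc (σ := Fin n) (κ := Fin n) (γ := Fin n ⊕ Fin m)
    (Sum.elim (fun j => exprXsubC j j) (fun k => exprEvalRel (P.relation k) id))
    (Sum.elim (fun _ => Ideal.span (Set.range P.relation)) (fun _ => ⊥))
    (fun l => C (t l)) (by
      rintro (j | k)
      · simpa [exprXsubC] using ht1 j
      · have := ht2 k
        rw [MvPolynomial.eval_map, ← MvPolynomial.aeval_def] at this
        change C (aeval (fun j => constantCoeff (C (t (id j)) : MvPolynomial (Fin n) Rl))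
          (P.relation k)) ∈ extIdeal ⊥ Rl
        simp only [constantCoeff_C, id]
        rw [this, map_zero]
        exact Ideal.zero_mem _)
  refine ⟨i, fun k τ hτ => ?_⟩
  obtain ⟨y, hy⟩ := hi k τ hτ
  refine (bijective_iff_witness (aeval (P.baseChange (R k)).val) _
    (P.baseChange (R k)).aeval_val_surjective (mem_extIdeal_iff P (R k))
    (fun k' => MvPolynomial.map (algebraMap B₀ (R k)) (P.relation k'))
    (extIdeal_eq_span P (R k))).mpr
    ⟨fun j => constantCoeff (y j), fun j => hy (Sum.inl j), fun k' => ?_⟩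
  have := hy (Sum.inr k')
  simp only [Sum.elim_inr, exprEvalRel, extIdeal_bot, Ideal.mem_bot, id] at this
  rw [MvPolynomial.eval_map, ← MvPolynomial.aeval_def]
  exact MvPolynomial.C_injective _ _ (by rw [this, map_zero])

theorem descent_formallySmooth {m : ℕ} (P : Algebra.Presentation B₀ C₀ (Fin n) (Fin m))
    (hc : HC B₀ R Rl g Tr) (h : Algebra.FormallySmooth Rl (Rl ⊗[B₀] C₀)) :
    ∃ i, ∀ k (τ : R i →ₐ[B₀] R k), Tr i k τ →
      Algebra.FormallySmooth (R k) (R k ⊗[B₀] C₀) := by
  obtain ⟨gg, hg1, hg2⟩ := (formallySmooth_iff_witness (aeval (P.baseChange Rl).val) _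
    (P.baseChange Rl).aeval_val_surjective (mem_extIdeal_iff P Rl)
    (fun k => MvPolynomial.map (algebraMap B₀ Rl) (P.relation k)) (extIdeal_eq_span P Rl)).mp h
  obtain ⟨i, hi⟩ := descent' hc (σ := Fin n) (κ := Fin n) (γ := Fin n ⊕ Fin m)
    (Sum.elim (fun j => exprSubX j j) (fun k => exprAevalRel (P.relation k) id))
    (Sum.elim (fun _ => Ideal.span (Set.range P.relation))
      (fun _ => Ideal.span (Set.range P.relation) ^ 2))
    gg (by
      rintro (j | k)
      · simpa [exprSubX] using hg1 j
      · have := hg2 k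
        rw [MvPolynomial.aeval_map_algebraMap] at this
        simpa [exprAevalRel, extIdeal_pow] using this)
  refine ⟨i, fun k τ hτ => ?_⟩
  obtain ⟨y, hy⟩ := hi k τ hτ
  refine (formallySmooth_iff_witness (aeval (P.baseChange (R k)).val) _
    (P.baseChange (R k)).aeval_val_surjective (mem_extIdeal_iff P (R k))
    (fun k' => MvPolynomial.map (algebraMap B₀ (R k)) (P.relation k'))
    (extIdeal_eq_span P (R k))).mpr ⟨y, fun j => hy (Sum.inl j), fun k' => ?_⟩
  have := hy (Sum.inr k')
  simp only [Sum.elim_inr, exprAevalRel, extIdeal_pow, id] at this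
  rw [MvPolynomial.aeval_map_algebraMap]
  exact this

theorem descent_formallyUnramified {σ : Type*} (P : Algebra.Presentation B₀ C₀ (Fin n) σ)
    (hc : HC B₀ R Rl g Tr) (h : Algebra.FormallyUnramified Rl (Rl ⊗[B₀] C₀)) :
    ∃ i, ∀ k (τ : R i →ₐ[B₀] R k), Tr i k τ →
      Algebra.FormallyUnramified (R k) (R k ⊗[B₀] C₀) := by
  obtain ⟨hh, h1, h2⟩ :=
    (formallyUnramified_iff_witness (P.baseChange Rl).toGenerators).mp h
  obtain ⟨i, hi⟩ := descent' hc (σ := Fin n) (κ := Fin n) (γ := Fin n ⊕ Fin n × Fin n)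
    (Sum.elim (fun j => exprProj j) (fun jl => exprPderiv jl.2 jl.1 (jl.1 = jl.2)))
    (fun _ => Ideal.span (Set.range P.relation)) hh (by
      rintro (j | ⟨j, l⟩)
      · have := h1 j
        rw [ker_baseChange] at this
        simpa [exprProj] using this
      · have := h2 j l
        rw [ker_baseChange] at this
        simpa [exprPderiv] using this)
  refine ⟨i, fun k τ hτ => ?_⟩
  obtain ⟨y, hy⟩ := hi k τ hτ
  refine (formallyUnramified_iff_witness (P.baseChange (R k)).toGenerators).mpr
    ⟨y, fun j => ?_, fun j l => ?_⟩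
  · have := hy (Sum.inl j)
    rw [ker_baseChange]
    simpa [exprProj] using this
  · have := hy (Sum.inr (j, l))
    rw [ker_baseChange]
    simpa [exprPderiv] using this

end DescentThms

/-- A presentation (with possibly infinitely many relations) of a finite type algebra. -/
theorem exists_presentation_of_finiteType (B₀ C₀ : Type u) [CommRing B₀] [CommRing C₀]
    [Algebra B₀ C₀] [Algebra.FiniteType B₀ C₀] :
    ∃ (n : ℕ) (σ : Type u), Nonempty (Algebra.Presentation B₀ C₀ (Fin n) σ) := by
  obtain ⟨n, ⟨Gen⟩⟩ := Algebra.FiniteType.iff_exists_generators.mp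
    (inferInstance : Algebra.FiniteType B₀ C₀)
  refine ⟨n, Gen.ker, ⟨?_⟩⟩
  exact
    { toGenerators := Gen
      relation := Subtype.val
      span_range_relation_eq_ker := by
        rw [Subtype.range_coe]; exact Ideal.span_eq _ }

end Groth.Agent.Lib.Helper20.HandColimProps
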