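import Mathlib
import Groth.Agent.Lib.Helper20.HandColimProps

set_option autoImplicit false

/-!
# Models of finitely presented algebras at a finite stage of a hand-made directed colimit
-/

namespace Groth.Agent.Lib.Helper20.HandColimModel

universe u v

open TensorProduct MvPolynomial CategoryTheory Limits
open Groth.Agent.Lib.Helper20.HandColim Groth.Agent.Lib.Helper20.HandColimProps

/-- A filtered colimit in `CommRingCat` is a hand-made directed colimit. -/
theorem HC.of_isColimit {J : Type u} [SmallCategory J] [IsFiltered J] (F : J ⥤ CommRingCat.{u})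
    (c : Cocone F) (hc : IsColimit c) :
    HC ℤ (fun j => F.obj j) c.pt
      (fun j => (CommRingCat.Hom.hom (show F.obj j ⟶ c.pt from c.ι.app j)).toIntAlgHom)
      (fun i j τ => ∃ a : i ⟶ j, τ = ((F.map a).hom : F.obj i →+* F.obj j).toIntAlgHom) where
  surj := fun x => Concrete.isColimit_exists_rep F hc x
  compat := by
    rintro i j _ ⟨a, rfl⟩ x
    exact ConcreteCategory.congr_hom (c.w a) x
  comp := by
    rintro i j k _ _ ⟨a, rfl⟩ ⟨b, rfl⟩
    refine ⟨a ≫ b, ?_⟩
    rw [F.map_comp]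
    rfl
  dir := fun i j => ⟨IsFiltered.max i j, _, _, ⟨IsFiltered.leftToMax i j, rfl⟩,
    ⟨IsFiltered.rightToMax i j, rfl⟩⟩
  ker := by
    intro i x hx
    have h0 : c.ι.app i x = c.ι.app i (0 : F.obj i) := by
      rw [map_zero]; exact hx
    obtain ⟨k, f, g, hfg⟩ := Concrete.isColimit_exists_of_rep_eq F hc x (0 : F.obj i) h0
    refine ⟨k, _, ⟨f, rfl⟩, ?_⟩
    rw [map_zero] at hfg
    exact hfg

/-- The finitely generated `ℤ`-subalgebras of a ring form a hand-made directed colimit. -/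
theorem HC.of_fg_subalgebras (R : Type u) [CommRing R] :
    HC ℤ (fun s : Finset R => Algebra.adjoin ℤ (s : Set R)) R
      (fun s => (Algebra.adjoin ℤ (s : Set R)).val) (fun _ _ τ => ∀ x, (τ x : R) = x) where
  surj := fun x => ⟨{x}, ⟨x, Algebra.subset_adjoin (by simp)⟩, rfl⟩
  compat := fun _ _ _ hτ x => hτ x
  comp := fun _ _ _ τ τ' hτ hτ' x => by rw [AlgHom.comp_apply, hτ', hτ]
  dir := by
    classical
    intro s t
    exact ⟨s ∪ t, Subalgebra.inclusion (Algebra.adjoin_mono (by simp)),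
      Subalgebra.inclusion (Algebra.adjoin_mono (by simp)), fun _ => rfl, fun _ => rfl⟩
  ker := fun s x hx => ⟨s, AlgHom.id ℤ _, fun _ => rfl, Subtype.ext hx⟩

instance instAlgebraPt {A : Type u} {B : Type v} [CommRing A] [CommRing B] [Algebra A B] {N : ℕ}
    (a : Fin N → A) : Algebra (Pt a) B := inferInstanceAs (Algebra A B)

/-- A finitely presented `A`-algebra is the base change of a finitely presented algebra over
`ℤ[Y₁,…,Y_N]` along a map `ℤ[Y] → A`. -/
theorem exists_pointed_model (A : Type u) (B : Type v) [CommRing A] [CommRing B] [Algebra A B]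
    [Algebra.FinitePresentation A B] :
    ∃ (N : ℕ) (a : Fin N → A) (C₀ : Type) (_ : CommRing C₀)
      (_ : Algebra (MvPolynomial (Fin N) ℤ) C₀)
      (_ : Algebra.FinitePresentation (MvPolynomial (Fin N) ℤ) C₀),
      Nonempty ((Pt a) ⊗[MvPolynomial (Fin N) ℤ] C₀ ≃ₐ[Pt a] B) := by
  classical
  let P := Algebra.Presentation.ofFinitePresentation A B
  have hfin : P.coeffs.Finite := P.finite_coeffs
  obtain ⟨N, a, ha⟩ : ∃ N : ℕ, ∃ a : Fin N → A, Set.range a = P.coeffs := by
    have := hfin.fintype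
    refine ⟨Fintype.card P.coeffs, fun l => ((Fintype.equivFin P.coeffs).symm l).1, ?_⟩
    ext x
    constructor
    · rintro ⟨l, rfl⟩
      exact ((Fintype.equivFin P.coeffs).symm l).2
    · intro hx
      exact ⟨Fintype.equivFin P.coeffs ⟨x, hx⟩, by simp⟩
  letI : Algebra (MvPolynomial (Fin N) ℤ) B :=
    ((algebraMap (Pt a) B).comp (algebraMap (MvPolynomial (Fin N) ℤ) (Pt a))).toAlgebra
  haveI : IsScalarTower (MvPolynomial (Fin N) ℤ) (Pt a) B :=
    IsScalarTower.of_algebraMap_eq (fun _ => rfl)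
  let P' : Algebra.Presentation (Pt a) B _ _ := P
  haveI : P'.HasCoeffs (MvPolynomial (Fin N) ℤ) := by
    refine ⟨?_⟩
    intro x hx
    have hx' : x ∈ Set.range a := by rw [ha]; exact hx
    obtain ⟨l, rfl⟩ := hx'
    exact ⟨MvPolynomial.X l, by rw [Pt.algebraMap_apply, MvPolynomial.aeval_X]⟩
  exact ⟨N, a, P'.ModelOfHasCoeffs (MvPolynomial (Fin N) ℤ), inferInstance, inferInstance,
    inferInstance, ⟨P'.tensorModelOfHasCoeffsEquiv (MvPolynomial (Fin N) ℤ)⟩⟩

theorem nonempty_equiv_tensor_stage (Gk A B : Type u) [CommRing Gk] [CommRing A] [CommRing B]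
    [Algebra A B] (gk : Gk →+* A) (B₀ : Type) [CommRing B₀] [Algebra B₀ Gk] [Algebra B₀ A]
    (hcompat : ∀ p, gk (algebraMap B₀ Gk p) = algebraMap B₀ A p)
    (C₀ : Type) [CommRing C₀] [Algebra B₀ C₀] (e : A ⊗[B₀] C₀ ≃ₐ[A] B) :
    letI : Algebra Gk A := gk.toAlgebra
    Nonempty (B ≃ₐ[A] A ⊗[Gk] (Gk ⊗[B₀] C₀)) := by
  letI : Algebra Gk A := gk.toAlgebra
  haveI : IsScalarTower B₀ Gk A := IsScalarTower.of_algebraMap_eq (fun p => (hcompat p).symm)
  exact ⟨e.symm.trans (Algebra.TensorProduct.cancelBaseChange B₀ Gk A A C₀).symm⟩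

section Stage

variable {ι : Type u} {G : ι → Type u} [∀ i, CommRing (G i)]
    {A : Type u} [CommRing A] {g : ∀ i, G i →ₐ[ℤ] A} {Tr : ∀ i j, (G i →ₐ[ℤ] G j) → Prop}

/-- **Finite-stage models.** A finitely presented algebra `B` over a hand-made directed colimit
`A = colim G i` with a property `Q` that descends to finite stages comes from a finitely presented
`G i`-algebra with property `Q`, for some `i`. -/
theorem exists_stage_model (hc : HC ℤ G A g Tr) (B : Type u) [CommRing B] [Algebra A B]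
    [Algebra.FinitePresentation A B]
    (Q : ∀ (T : Type u) [CommRing T] (S : Type u) [CommRing S] [Algebra T S], Prop)
    (hQiso : ∀ (T : Type u) [CommRing T] (S S' : Type u) [CommRing S] [CommRing S']
      [Algebra T S] [Algebra T S'], (S ≃ₐ[T] S') → Q T S → Q T S')
    (hQdesc : ∀ (N : ℕ) (C₀ : Type) [CommRing C₀] [Algebra (MvPolynomial (Fin N) ℤ) C₀]
      [Algebra.FinitePresentation (MvPolynomial (Fin N) ℤ) C₀] {ι' : Type u} {R : ι' → Type u}
      [∀ i, CommRing (R i)] [∀ i, Algebra (MvPolynomial (Fin N) ℤ) (R i)] {Rl : Type u}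
      [CommRing Rl] [Algebra (MvPolynomial (Fin N) ℤ) Rl]
      {g' : ∀ i, R i →ₐ[MvPolynomial (Fin N) ℤ] Rl}
      {Tr' : ∀ i j, (R i →ₐ[MvPolynomial (Fin N) ℤ] R j) → Prop},
      HC (MvPolynomial (Fin N) ℤ) R Rl g' Tr' → Q Rl (Rl ⊗[MvPolynomial (Fin N) ℤ] C₀) →
      ∃ i, ∀ k (τ : R i →ₐ[MvPolynomial (Fin N) ℤ] R k), Tr' i k τ →
        Q (R k) (R k ⊗[MvPolynomial (Fin N) ℤ] C₀))
    (hB : Q A B) :
    ∃ (i : ι) (Bi : Type u) (_ : CommRing Bi) (_ : Algebra (G i) Bi),
      Algebra.FinitePresentation (G i) Bi ∧ Q (G i) Bi ∧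
      letI : Algebra (G i) A := (g i : G i →+* A).toAlgebra
      Nonempty (B ≃ₐ[A] A ⊗[G i] Bi) := by
  obtain ⟨N, a, C₀, _, _, _, ⟨e⟩⟩ := exists_pointed_model A B
  have hcP := hc.pointed a
  have hQ1 : Q (Pt a) ((Pt a) ⊗[MvPolynomial (Fin N) ℤ] C₀) :=
    hQiso (Pt a) B _ e.symm hB
  obtain ⟨i, hi⟩ := hQdesc N C₀ hcP hQ1
  obtain ⟨⟨k, c, hck⟩, τ, hτ⟩ := hcP.exists_self_tr i
  have hQk := hi _ τ hτ
  exact ⟨k, (Pt c) ⊗[MvPolynomial (Fin N) ℤ] C₀, inferInstance,
    (inferInstance : Algebra (Pt c) ((Pt c) ⊗[MvPolynomial (Fin N) ℤ] C₀)),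
    (inferInstance : Algebra.FinitePresentation (Pt c) ((Pt c) ⊗[MvPolynomial (Fin N) ℤ] C₀)),
    hQk,
    nonempty_equiv_tensor_stage (Pt c) (Pt a) B (g k : G k →+* A) (MvPolynomial (Fin N) ℤ)
      (fun p => (Pt.algHom c a (g k : G k →+* A) hck).commutes p) C₀ e⟩

end Stage

section Henselian

variable {ι : Type u} {G : ι → Type u} [∀ i, CommRing (G i)]
    {A : Type u} [CommRing A] {g : ∀ i, G i →ₐ[ℤ] A} {Tr : ∀ i j, (G i →ₐ[ℤ] G j) → Prop}

theorem isUnit_of_isUnit_map (hc : HC ℤ G A g Tr)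
    (hloc : ∀ i j (τ : G i →ₐ[ℤ] G j), Tr i j τ → IsLocalHom τ) (i : ι) (x : G i)
    (hx : IsUnit (g i x)) : IsUnit x := by
  obtain ⟨y, hy⟩ := hx.exists_right_inv
  obtain ⟨j, y', rfl⟩ := hc.surj y
  obtain ⟨k, τ₁, τ₂, h₁, h₂⟩ := hc.dir i j
  have h0 : g k (τ₁ x * τ₂ y' - 1) = 0 := by
    rw [map_sub, map_mul, hc.compat i k τ₁ h₁, hc.compat j k τ₂ h₂, hy, map_one, sub_self]
  obtain ⟨k', τ', hτ', hk'⟩ := hc.ker k _ h0
  rw [map_sub, map_mul, map_one, sub_eq_zero] at hk'
  have hu : IsUnit ((τ'.comp τ₁) x) := IsUnit.of_mul_eq_one _ hk'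
  haveI := hloc i k' _ (hc.comp i k k' τ₁ τ' h₁ hτ')
  exact IsLocalHom.map_nonunit x hu

/-- A hand-made directed colimit of henselian local rings along local homomorphisms is a henselian
local ring. -/
theorem henselianLocalRing_of_hc (hc : HC ℤ G A g Tr) (hH : ∀ i, HenselianLocalRing (G i))
    (hloc : ∀ i j (τ : G i →ₐ[ℤ] G j), Tr i j τ → IsLocalHom τ) : HenselianLocalRing A := by
  have hunit := isUnit_of_isUnit_map hc hloc
  have hnt : Nontrivial A := by
    refine ⟨⟨0, 1, fun h01 => ?_⟩⟩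
    obtain ⟨i⟩ := hc.exists_index
    have h0 : g i 1 = 0 := by rw [map_one]; exact h01.symm
    obtain ⟨k, τ, hτ, hk⟩ := hc.ker i 1 h0
    rw [map_one] at hk
    exact one_ne_zero hk
  have hlocal : IsLocalRing A := by
    refine IsLocalRing.of_isUnit_or_isUnit_one_sub_self (fun a => ?_)
    obtain ⟨i, x, rfl⟩ := hc.surj a
    rcases IsLocalRing.isUnit_or_isUnit_one_sub_self x with h | h
    · exact Or.inl (h.map (g i))
    · right
      have := h.map (g i)
      rwa [map_sub, map_one] at this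
  have hmem : ∀ i (x : G i), g i x ∈ IsLocalRing.maximalIdeal A ↔
      x ∈ IsLocalRing.maximalIdeal (G i) := by
    intro i x
    rw [IsLocalRing.mem_maximalIdeal, IsLocalRing.mem_maximalIdeal, mem_nonunits_iff,
      mem_nonunits_iff, not_iff_not]
    exact ⟨hunit i x, fun h => h.map (g i)⟩
  refine { hlocal with is_henselian := ?_ }
  intro f hf a₀ h1 h2
  classical
  obtain ⟨n, hn⟩ : ∃ n : ℕ, n = f.natDegree := ⟨_, rfl⟩
  obtain ⟨i, x, hx⟩ := hc.exists_lift
    (fun o : Option (Fin n) => o.elim a₀ (fun e => f.coeff e))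
  let fi : Polynomial (G i) := Polynomial.X ^ n +
    ∑ e : Fin n, Polynomial.C (x (some e)) * Polynomial.X ^ (e : ℕ)
  have hfi : fi.Monic := Polynomial.monic_X_pow_add (Polynomial.degree_sum_fin_lt _)
  have hmap : fi.map (g i : G i →+* A) = f := by
    conv_rhs => rw [hf.as_sum, ← hn]
    simp only [fi, Polynomial.map_add, Polynomial.map_pow, Polynomial.map_X, Polynomial.map_sum,
      Polynomial.map_mul, Polynomial.map_C]
    congr 1
    rw [← Fin.sum_univ_eq_sum_range (fun e => Polynomial.C (f.coeff e) * Polynomial.X ^ e) n]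
    apply Finset.sum_congr rfl
    intro e _
    have := hx (some e)
    simp only [Option.elim] at this
    rw [RingHom.coe_coe, this]
  have ha : g i (x none) = a₀ := hx none
  have e1 : g i (fi.eval (x none)) = f.eval a₀ := by
    rw [← hmap, ← ha]
    exact (Polynomial.eval_map_apply (g i : G i →+* A) (x none)).symm
  have e2 : g i (fi.derivative.eval (x none)) = f.derivative.eval a₀ := by
    rw [← hmap, ← ha, Polynomial.derivative_map]
    exact (Polynomial.eval_map_apply (g i : G i →+* A) (x none)).symm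
  have h1' : fi.eval (x none) ∈ IsLocalRing.maximalIdeal (G i) := by
    rw [← hmem, e1]; exact h1
  have h2' : IsUnit (fi.derivative.eval (x none)) := by
    apply hunit
    rw [e2]; exact h2
  obtain ⟨a', ha'1, ha'2⟩ := (hH i).is_henselian fi hfi (x none) h1' h2'
  refine ⟨g i a', ?_, ?_⟩
  · rw [Polynomial.IsRoot, ← hmap]
    have := Polynomial.eval_map_apply (p := fi) (g i : G i →+* A) a'
    rw [RingHom.coe_coe] at this
    rw [this, ha'1, map_zero]
  · rw [← ha, ← map_sub, hmem]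
    exact ha'2

end Henselian

end Groth.Agent.Lib.Helper20.HandColimModel
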