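import Mathlib
import Groth.Agent.Lib.Helper20.HandColimModel

set_option autoImplicit false

/-!
# Surjective endomorphisms of finitely presented algebras via Noetherian approximation
-/

namespace Groth.Agent.Lib.Helper20.HandColimEndo

universe u v w

open TensorProduct MvPolynomial
open Groth.Agent.Lib.Helper20.HandColim Groth.Agent.Lib.Helper20.HandColimProps
  Groth.Agent.Lib.Helper20.HandColimModel

section DescentLift

variable {B : Type v} [CommRing B] {ι : Type u} {P : ι → Type u} [∀ i, CommRing (P i)]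
    [∀ i, Algebra B (P i)] {Q : Type u} [CommRing Q] [Algebra B Q] {g : ∀ i, P i →ₐ[B] Q}
    {Tr : ∀ i j, (P i →ₐ[B] P j) → Prop} {σ : Type}

/-- Descent of finite polynomial data to a finite stage, remembering that the data at the finite
stage lifts the given data. -/
theorem descent_lift (h : HC B P Q g Tr) {κ γ : Type} [Finite κ] [Finite γ]
    (E : γ → NatExpr B σ κ) (J : γ → Ideal (MvPolynomial σ B)) (x : κ → MvPolynomial σ Q)
    (hx : ∀ c, (E c).E Q x ∈ extIdeal (J c) Q) :
    ∃ i, ∃ y : κ → MvPolynomial σ (P i),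
      (∀ l, MvPolynomial.map (g i : P i →+* Q) (y l) = x l) ∧
      ∀ c, (E c).E (P i) y ∈ extIdeal (J c) (P i) := by
  classical
  have := Fintype.ofFinite γ
  have hp := h.mvPolynomial σ
  obtain ⟨i₀, y₀, hy₀⟩ := hp.exists_lift x
  have hz : ∀ c ∈ (Finset.univ : Finset γ),
      MvPolynomial.map (g i₀ : P i₀ →+* Q) ((E c).E (P i₀) y₀) ∈ extIdeal (J c) Q := by
    intro c _
    rw [← (E c).nat (P i₀) Q (g i₀) y₀]
    have : (fun l => MvPolynomial.map (g i₀ : P i₀ →+* Q) (y₀ l)) = x := funext hy₀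
    rw [this]
    exact hx c
  obtain ⟨k, τ, hτ, hk⟩ := h.exists_map_mem_extIdeal_finset Finset.univ J i₀
    (fun c => (E c).E (P i₀) y₀) hz
  refine ⟨k, fun l => MvPolynomial.map (τ : P i₀ →+* P k) (y₀ l), ?_, ?_⟩
  · intro l
    have e1 : MvPolynomial.mapAlgHom (g k) (MvPolynomial.map (τ : P i₀ →+* P k) (y₀ l)) =
        MvPolynomial.mapAlgHom (g i₀) (y₀ l) :=
      hp.compat i₀ k _ ⟨τ, hτ, rfl⟩ (y₀ l)
    rw [MvPolynomial.mapAlgHom_apply, MvPolynomial.mapAlgHom_apply] at e1
    rw [e1]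
    exact hy₀ l
  · intro c
    rw [(E c).nat (P i₀) (P k) τ y₀]
    exact hk c (Finset.mem_univ c)

end DescentLift

/-- A surjective ring endomorphism of a Noetherian ring is injective. -/
theorem injective_of_surjective_of_isNoetherianRing {S : Type*} [CommRing S] [IsNoetherianRing S]
    (α : S →+* S) (hα : Function.Surjective α) : Function.Injective α := by
  let I : ℕ →o Ideal S :=
    { toFun := fun n => RingHom.ker (α ^ n)
      monotone' := by
        apply monotone_nat_of_le_succ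
        intro n x hx
        rw [RingHom.mem_ker, RingHom.coe_pow] at hx ⊢
        rw [Function.iterate_succ_apply', hx, map_zero] }
  obtain ⟨n, hn⟩ := monotone_stabilizes_iff_noetherian.mpr inferInstance I
  rw [injective_iff_map_eq_zero]
  intro x hx
  obtain ⟨y, rfl⟩ := (hα.iterate n) x
  have h1 : y ∈ I (n + 1) := by
    change y ∈ RingHom.ker (α ^ (n + 1))
    rw [RingHom.mem_ker, RingHom.coe_pow, Function.iterate_succ_apply']
    exact hx
  rw [← hn (n + 1) (Nat.le_succ n)] at h1
  change y ∈ RingHom.ker (α ^ n) at h1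
  rwa [RingHom.mem_ker, RingHom.coe_pow] at h1

section Endo

variable {T : Type u} [CommRing T] {S : Type w} [CommRing S] [Algebra T S] {ι : Type}
  (π : MvPolynomial ι T →ₐ[T] S) (K : Ideal (MvPolynomial ι T))

/-- substitution respects the kernel once it does so on generators -/
theorem aeval_mem_of_rel (a : ι → MvPolynomial ι T) {σ : Type*} (rel : σ → MvPolynomial ι T)
    (hrel : K = Ideal.span (Set.range rel)) (ha : ∀ k, aeval a (rel k) ∈ K)
    {p : MvPolynomial ι T} (hp : p ∈ K) : aeval a p ∈ K := by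
  have : K ≤ K.comap (aeval a : MvPolynomial ι T →ₐ[T] MvPolynomial ι T) := by
    conv_lhs => rw [hrel]
    rw [Ideal.span_le]
    rintro _ ⟨k, rfl⟩
    exact ha k
  exact this hp

/-- the endomorphism defined by a substitution -/
theorem exists_endo (hπ : Function.Surjective π) (hK : ∀ p, p ∈ K ↔ π p = 0)
    (a : ι → MvPolynomial ι T) (ha : ∀ p ∈ K, aeval a p ∈ K) :
    ∃ α : S →ₐ[T] S, ∀ p, α (π p) = π (aeval a p) := by
  have H : RingHom.ker π.toRingHom ≤ RingHom.ker (π.comp (aeval a)).toRingHom := by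
    intro p hp
    have hp' : p ∈ K := (hK p).mpr hp
    exact (hK _).mp (ha p hp')
  exact ⟨AlgHom.liftOfSurjective π hπ (π.comp (aeval a)) H, fun p => by
    rw [AlgHom.liftOfSurjective_apply]; rfl⟩

/-- every endomorphism is defined by a substitution -/
theorem exists_subst_of_endo (hπ : Function.Surjective π) (hK : ∀ p, p ∈ K ↔ π p = 0)
    (α : S →ₐ[T] S) :
    ∃ a : ι → MvPolynomial ι T, (∀ p, α (π p) = π (aeval a p)) ∧ ∀ p ∈ K, aeval a p ∈ K := by
  choose a ha using fun j => hπ (α (π (X j)))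
  have h1 : ∀ p, α (π p) = π (aeval a p) := by
    have e : α.comp π = π.comp (aeval a) := by
      apply MvPolynomial.algHom_ext
      intro j
      rw [AlgHom.comp_apply, AlgHom.comp_apply, aeval_X, ha]
    exact fun p => AlgHom.congr_fun e p
  refine ⟨a, h1, fun p hp => ?_⟩
  rw [hK, ← h1, (hK p).mp hp, map_zero]

theorem pi_aeval_comp (hK : ∀ p, p ∈ K ↔ π p = 0) (a c : ι → MvPolynomial ι T)
    (h : ∀ j, aeval c (a j) - X j ∈ K) (p : MvPolynomial ι T) :
    π (aeval c (aeval a p)) = π p := by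
  have e : (π.comp (aeval c)).comp (aeval a) = π := by
    apply MvPolynomial.algHom_ext
    intro j
    rw [AlgHom.comp_apply, AlgHom.comp_apply, aeval_X]
    have := (hK _).mp (h j)
    rwa [map_sub, sub_eq_zero] at this
  exact AlgHom.congr_fun e p

theorem surjective_iff_witness_endo (hπ : Function.Surjective π) (hK : ∀ p, p ∈ K ↔ π p = 0)
    (a : ι → MvPolynomial ι T) (α : S →ₐ[T] S) (hα : ∀ p, α (π p) = π (aeval a p)) :
    Function.Surjective α ↔ ∃ b : ι → MvPolynomial ι T, ∀ j, aeval a (b j) - X j ∈ K := by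
  constructor
  · intro hs
    have : ∀ j, ∃ q, α (π q) = π (X j) := by
      intro j
      obtain ⟨s, hs'⟩ := hs (π (X j))
      obtain ⟨q, rfl⟩ := hπ s
      exact ⟨q, hs'⟩
    choose b hb using this
    refine ⟨b, fun j => ?_⟩
    rw [hK, map_sub, ← hα, hb, sub_self]
  · rintro ⟨b, hb⟩ s
    obtain ⟨p, rfl⟩ := hπ s
    exact ⟨π (aeval b p), by rw [hα, pi_aeval_comp π K hK b a hb]⟩

theorem bijective_of_witness_endo (hπ : Function.Surjective π) (hK : ∀ p, p ∈ K ↔ π p = 0)
    (a c : ι → MvPolynomial ι T) (hc : ∀ p ∈ K, aeval c p ∈ K)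
    (h1 : ∀ j, aeval c (a j) - X j ∈ K) (h2 : ∀ j, aeval a (c j) - X j ∈ K)
    (α : S →ₐ[T] S) (hα : ∀ p, α (π p) = π (aeval a p)) : Function.Bijective α := by
  obtain ⟨β, hβ⟩ := exists_endo π K hπ hK c hc
  rw [Function.bijective_iff_has_inverse]
  refine ⟨β, fun s => ?_, fun s => ?_⟩
  · obtain ⟨p, rfl⟩ := hπ s
    rw [hα, hβ, pi_aeval_comp π K hK a c h1]
  · obtain ⟨p, rfl⟩ := hπ s
    rw [hβ, hα, pi_aeval_comp π K hK c a h2]

theorem witness_of_bijective_endo (hπ : Function.Surjective π) (hK : ∀ p, p ∈ K ↔ π p = 0)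
    (a : ι → MvPolynomial ι T) (α : S →ₐ[T] S) (hα : ∀ p, α (π p) = π (aeval a p))
    (hbij : Function.Bijective α) :
    ∃ c : ι → MvPolynomial ι T, (∀ p ∈ K, aeval c p ∈ K) ∧
      (∀ j, aeval c (a j) - X j ∈ K) ∧ ∀ j, aeval a (c j) - X j ∈ K := by
  let e : S ≃ₐ[T] S := AlgEquiv.ofBijective α hbij
  obtain ⟨c, hc1, hc2⟩ := exists_subst_of_endo π K hπ hK (e.symm : S →ₐ[T] S)
  refine ⟨c, hc2, fun j => ?_, fun j => ?_⟩
  · rw [hK, map_sub, ← hc1, sub_eq_zero]
    have : π (a j) = α (π (X j)) := by rw [hα, aeval_X]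
    rw [this]
    exact e.symm_apply_apply (π (X j))
  · rw [hK, map_sub, ← hα, sub_eq_zero]
    have : π (c j) = e.symm (π (X j)) := by
      have := hc1 (X j)
      rw [aeval_X] at this
      exact this.symm
    rw [this]
    exact e.apply_symm_apply (π (X j))

end Endo

/-- `q ↦ aeval (q ∘ l₁) (q l₂) - X j` -/
noncomputable def exprBindSubX {B : Type v} [CommRing B] {σ κ : Type} (l₁ : σ → κ) (l₂ : κ)
    (j : σ) : NatExpr B σ κ where
  E := fun _ _ _ q => aeval (fun j' => q (l₁ j')) (q l₂) - X j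
  nat := by
    intro T T' _ _ _ _ φ x
    rw [map_sub, map_X, aeval_eq_bind₁, aeval_eq_bind₁, map_bind₁]

theorem map_aeval_eq {T T' : Type u} [CommRing T] [CommRing T'] {σ : Type} (φ : T →+* T')
    (c : σ → MvPolynomial σ T) (p : MvPolynomial σ T) :
    MvPolynomial.map φ (aeval c p) = aeval (fun j => MvPolynomial.map φ (c j)) (MvPolynomial.map φ p) := by
  rw [aeval_eq_bind₁, aeval_eq_bind₁, map_bind₁]

section Main

variable {B₀ : Type v} [CommRing B₀] {C₀ : Type w} [CommRing C₀] [Algebra B₀ C₀] {n m : ℕ}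
  {ι : Type u} {R : ι → Type u} [∀ i, CommRing (R i)] [∀ i, Algebra B₀ (R i)] {Rl : Type u}
  [CommRing Rl] [Algebra B₀ Rl] {g : ∀ i, R i →ₐ[B₀] Rl} {Tr : ∀ i j, (R i →ₐ[B₀] R j) → Prop}

theorem descent_endo_bijective (P : Algebra.Presentation B₀ C₀ (Fin n) (Fin m))
    (hc : HC B₀ R Rl g Tr) (hN : ∀ i, IsNoetherianRing (R i ⊗[B₀] C₀))
    (α : Rl ⊗[B₀] C₀ →ₐ[Rl] Rl ⊗[B₀] C₀) (hα : Function.Surjective α) :
    Function.Bijective α := by
  have hπ := (P.baseChange Rl).aeval_val_surjective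
  have hK := mem_extIdeal_iff P Rl
  obtain ⟨a, ha1, ha2⟩ := exists_subst_of_endo (aeval (P.baseChange Rl).val) _ hπ hK α
  obtain ⟨b, hb⟩ := (surjective_iff_witness_endo (aeval (P.baseChange Rl).val) _ hπ hK a α
    ha1).mp hα
  have hrel : ∀ (T : Type u) [CommRing T] [Algebra B₀ T] (k : Fin m),
      MvPolynomial.map (algebraMap B₀ T) (P.relation k) ∈
        extIdeal (Ideal.span (Set.range P.relation)) T := by
    intro T _ _ k
    rw [extIdeal_eq_span]
    exact Ideal.subset_span ⟨k, rfl⟩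
  obtain ⟨i, y, hy1, hy2⟩ := descent_lift hc (σ := Fin n) (κ := Fin n ⊕ Fin n)
    (γ := Fin m ⊕ Fin n)
    (Sum.elim (fun k => exprAevalRel (P.relation k) Sum.inl)
      (fun j => exprBindSubX Sum.inl (Sum.inr j) j))
    (fun _ => Ideal.span (Set.range P.relation)) (Sum.elim a b) (by
      rintro (k | j)
      · have := ha2 _ (hrel Rl k)
        rw [MvPolynomial.aeval_map_algebraMap] at this
        exact this
      · exact hb j)
  have hπi := (P.baseChange (R i)).aeval_val_surjective
  have hKi := mem_extIdeal_iff P (R i)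
  have ha' : ∀ p ∈ extIdeal (Ideal.span (Set.range P.relation)) (R i),
      aeval (fun j => y (Sum.inl j)) p ∈ extIdeal (Ideal.span (Set.range P.relation)) (R i) := by
    intro p hp
    refine aeval_mem_of_rel _ _ (fun k => MvPolynomial.map (algebraMap B₀ (R i)) (P.relation k))
      (extIdeal_eq_span P (R i)) (fun k => ?_) hp
    have := hy2 (Sum.inl k)
    rw [MvPolynomial.aeval_map_algebraMap]
    exact this
  obtain ⟨αi, hαi⟩ := exists_endo (aeval (P.baseChange (R i)).val) _ hπi hKi _ ha'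
  have hsurj : Function.Surjective αi :=
    (surjective_iff_witness_endo (aeval (P.baseChange (R i)).val) _ hπi hKi _ αi hαi).mpr
      ⟨fun j => y (Sum.inr j), fun j => hy2 (Sum.inr j)⟩
  haveI := hN i
  have hinj : Function.Injective αi :=
    injective_of_surjective_of_isNoetherianRing αi.toRingHom hsurj
  have hbij : Function.Bijective αi := ⟨hinj, hsurj⟩
  obtain ⟨c', hc'1, hc'2, hc'3⟩ :=
    witness_of_bijective_endo (aeval (P.baseChange (R i)).val) _ hπi hKi _ αi hαi hbij
  have hya : ∀ j, MvPolynomial.map (g i : R i →+* Rl) (y (Sum.inl j)) = a j :=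
    fun j => hy1 (Sum.inl j)
  refine bijective_of_witness_endo (aeval (P.baseChange Rl).val) _ hπ hK a
    (fun j => MvPolynomial.map (g i : R i →+* Rl) (c' j)) ?_ ?_ ?_ α ha1
  · intro p hp
    refine aeval_mem_of_rel _ _ (fun k => MvPolynomial.map (algebraMap B₀ Rl) (P.relation k))
      (extIdeal_eq_span P Rl) (fun k => ?_) hp
    have h1 := hc'1 _ (hrel (R i) k)
    have h2 := map_mem_extIdeal (g i) h1
    rw [map_aeval_eq, MvPolynomial.map_map, (g i).comp_algebraMap] at h2
    exact h2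
  · intro j
    have h2 := map_mem_extIdeal (g i) (hc'2 j)
    rw [map_sub, map_X, map_aeval_eq, hya] at h2
    exact h2
  · intro j
    have h2 := map_mem_extIdeal (g i) (hc'3 j)
    rw [map_sub, map_X, map_aeval_eq] at h2
    simp only [hya] at h2
    exact h2

end Main

end Groth.Agent.Lib.Helper20.HandColimEndo
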