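import Mathlib

set_option autoImplicit false
open Polynomial BigOperators
open scoped Classical

set_option linter.unusedSectionVars false

namespace Groth.Agent.Lib.Helper20.HasseDav

variable {F : Type} [Field F] [Fintype F] {R : Type} [CommRing R]
  (χ : MulChar F R) (ψ : AddChar F R)

/-- The multiplicative function on monic polynomials attached to `(χ, ψ)`. -/
noncomputable def lam (f : F[X]) : R :=
  ψ (-f.nextCoeff) * χ ((-1) ^ f.natDegree * f.coeff 0)

theorem lam_one : lam χ ψ (1 : F[X]) = 1 := by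
  simp [lam, nextCoeff]

theorem lam_mul {f g : F[X]} (hf : f.Monic) (hg : g.Monic) :
    lam χ ψ (f * g) = lam χ ψ f * lam χ ψ g := by
  unfold lam
  rw [Polynomial.Monic.nextCoeff_mul hf hg, Polynomial.Monic.natDegree_mul hf hg,
    Polynomial.mul_coeff_zero, neg_add, AddChar.map_add_eq_mul]
  have h : (-1 : F) ^ (f.natDegree + g.natDegree) * (f.coeff 0 * g.coeff 0)
      = ((-1) ^ f.natDegree * f.coeff 0) * ((-1) ^ g.natDegree * g.coeff 0) := by ring
  rw [h, map_mul]
  ring

theorem lam_pow {f : F[X]} (hf : f.Monic) (r : ℕ) :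
    lam χ ψ (f ^ r) = lam χ ψ f ^ r := by
  induction r with
  | zero => simp [lam_one]
  | succ r ih => rw [pow_succ, lam_mul χ ψ (hf.pow r) hf, ih, pow_succ]

theorem finite_monic (d : ℕ) : {f : F[X] | f.Monic ∧ f.natDegree = d}.Finite := by
  have hfin : Finite (Polynomial.degreeLT F (d + 1)) :=
    Finite.of_equiv _ (Polynomial.degreeLTEquiv F (d + 1)).symm.toEquiv
  refine Set.Finite.subset
    (Set.toFinite ((Polynomial.degreeLT F (d + 1) : Submodule F F[X]) : Set F[X])) ?_
  intro f hf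
  rw [SetLike.mem_coe, Polynomial.mem_degreeLT]
  calc f.degree ≤ (f.natDegree : WithBot ℕ) := Polynomial.degree_le_natDegree
    _ = (d : WithBot ℕ) := by rw [hf.2]
    _ < ((d + 1 : ℕ) : WithBot ℕ) := by exact_mod_cast Nat.lt_succ_self d

/-- The finset of monic polynomials of degree `d`. -/
noncomputable def Mon (d : ℕ) : Finset F[X] := (finite_monic (F := F) d).toFinset

theorem mem_Mon {d : ℕ} {f : F[X]} : f ∈ (Mon d : Finset F[X]) ↔ f.Monic ∧ f.natDegree = d := by
  simp [Mon]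

/-- The coefficients of the `L`-function. -/
noncomputable def S (d : ℕ) : R := ∑ f ∈ (Mon d : Finset F[X]), lam χ ψ f

theorem Mon_zero : (Mon 0 : Finset F[X]) = {1} := by
  ext f
  rw [mem_Mon, Finset.mem_singleton]
  constructor
  · rintro ⟨h1, h2⟩
    exact Polynomial.eq_one_of_monic_natDegree_zero h1 h2
  · rintro rfl
    exact ⟨monic_one, natDegree_one⟩

theorem S_zero : S χ ψ 0 = 1 := by
  rw [S, Mon_zero, Finset.sum_singleton, lam_one]

theorem Mon_one : (Mon 1 : Finset F[X]) = Finset.univ.image (fun a : F => X - C a) := by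
  ext f
  rw [mem_Mon, Finset.mem_image]
  constructor
  · rintro ⟨h1, h2⟩
    refine ⟨-f.coeff 0, Finset.mem_univ _, ?_⟩
    have h := Polynomial.Monic.eq_X_add_C h1 h2
    rw [h]
    simp
  · rintro ⟨a, -, rfl⟩
    exact ⟨monic_X_sub_C a, natDegree_X_sub_C a⟩

theorem lam_X_sub_C (a : F) : lam χ ψ (X - C a) = χ a * ψ a := by
  unfold lam
  rw [nextCoeff_X_sub_C, natDegree_X_sub_C]
  simp [mul_comm]

theorem S_one : S χ ψ 1 = ∑ a : F, χ a * ψ a := by
  rw [S, Mon_one, Finset.sum_image]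
  · exact Finset.sum_congr rfl (fun a _ => lam_X_sub_C χ ψ a)
  · intro a _ b _ h
    simpa using h

theorem shift_mem {d : ℕ} (hd : 1 ≤ d) {f : F[X]} (hf : f ∈ (Mon d : Finset F[X])) (c : F) :
    f + C c * X ^ (d - 1) ∈ (Mon d : Finset F[X]) := by
  rw [mem_Mon] at hf ⊢
  obtain ⟨h1, h2⟩ := hf
  have hlt : (C c * X ^ (d - 1) : F[X]).natDegree < f.natDegree := by
    calc (C c * X ^ (d - 1) : F[X]).natDegree ≤ d - 1 := natDegree_C_mul_X_pow_le c (d - 1)
      _ < f.natDegree := by omega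
  have hdeg : (C c * X ^ (d - 1) : F[X]).degree < f.degree :=
    Polynomial.degree_lt_degree hlt
  refine ⟨Polynomial.Monic.add_of_left h1 hdeg, ?_⟩
  rw [Polynomial.natDegree_add_eq_left_of_natDegree_lt hlt, h2]

theorem lam_shift {d : ℕ} (hd : 2 ≤ d) {f : F[X]} (hf : f ∈ (Mon d : Finset F[X])) (c : F) :
    lam χ ψ (f + C c * X ^ (d - 1)) = ψ (-c) * lam χ ψ f := by
  have hg := shift_mem (by omega : 1 ≤ d) hf c
  rw [mem_Mon] at hf hg
  obtain ⟨h1, h2⟩ := hf
  obtain ⟨g1, g2⟩ := hg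
  unfold lam
  rw [g2, h2]
  have hn1 : (f + C c * X ^ (d - 1)).nextCoeff = f.nextCoeff + c := by
    rw [Polynomial.nextCoeff_of_natDegree_pos (by omega), g2,
      Polynomial.nextCoeff_of_natDegree_pos (by omega), h2, coeff_add, coeff_C_mul_X_pow]
    simp
  have hn2 : (f + C c * X ^ (d - 1)).coeff 0 = f.coeff 0 := by
    rw [coeff_add, coeff_C_mul_X_pow]
    have : ¬ (0 = d - 1) := by omega
    simp [this]
  rw [hn1, hn2, neg_add, AddChar.map_add_eq_mul]
  ring

theorem S_eq_zero [IsDomain R] (hψ : ψ ≠ 1) {d : ℕ} (hd : 2 ≤ d) : S χ ψ d = 0 := by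
  obtain ⟨b, hb⟩ := (AddChar.ne_one_iff).mp hψ
  have hS : S χ ψ d = ψ (-b) * S χ ψ d := by
    unfold S
    rw [Finset.mul_sum]
    rw [← Finset.sum_congr rfl (fun f hf => lam_shift χ ψ hd hf b)]
    symm
    refine Finset.sum_nbij' (fun f => f + C b * X ^ (d - 1)) (fun f => f + C (-b) * X ^ (d - 1))
      ?_ ?_ ?_ ?_ ?_
    · intro f hf
      exact shift_mem (by omega) hf b
    · intro f hf
      exact shift_mem (by omega) hf (-b)
    · intro f _
      simp
    · intro f _
      simp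
    · intro f _
      rfl
  have h1 : (1 - ψ (-b)) * S χ ψ d = 0 := by
    rw [sub_mul, one_mul, ← hS, sub_self]
  rcases mul_eq_zero.mp h1 with h | h
  · exfalso
    apply hb
    have h2 : ψ (-b) = 1 := (sub_eq_zero.mp h).symm
    have h3 : ψ b * ψ (-b) = 1 := by
      rw [← AddChar.map_add_eq_mul, add_neg_cancel, AddChar.map_zero_eq_one]
    rw [h2, mul_one] at h3
    exact h3
  · exact h

end Groth.Agent.Lib.Helper20.HasseDav
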