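import Mathlib
import Groth.Agent.Lib.Helper20.HasseDav1

set_option autoImplicit false
open Polynomial BigOperators UniqueFactorizationMonoid
open scoped Classical

set_option linter.unusedSectionVars false

namespace Groth.Agent.Lib.Helper20.HasseDav

variable {F : Type} [Field F] [Fintype F] {R : Type} [CommRing R]
  (χ : MulChar F R) (ψ : AddChar F R)

theorem sum_filter_dvd {Q : F[X]} (hQ : Q.Monic) (m : ℕ) :
    ∑ f ∈ (Mon m : Finset F[X]).filter (fun f => Q ∣ f), lam χ ψ f
      = if Q.natDegree ≤ m then lam χ ψ Q * S χ ψ (m - Q.natDegree) else 0 := by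
  split_ifs with h
  · have himg : (Mon m : Finset F[X]).filter (fun f => Q ∣ f)
        = (Mon (m - Q.natDegree) : Finset F[X]).image (fun g => Q * g) := by
      ext f
      rw [Finset.mem_filter, mem_Mon, Finset.mem_image]
      constructor
      · rintro ⟨⟨h1, h2⟩, ⟨g, rfl⟩⟩
        refine ⟨g, ?_, rfl⟩
        rw [mem_Mon]
        have hg : g.Monic := Polynomial.Monic.of_mul_monic_left hQ h1
        refine ⟨hg, ?_⟩
        rw [Polynomial.Monic.natDegree_mul hQ hg] at h2
        omega
      · rintro ⟨g, hg, rfl⟩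
        rw [mem_Mon] at hg
        refine ⟨⟨Polynomial.Monic.mul hQ hg.1, ?_⟩, dvd_mul_right _ _⟩
        rw [Polynomial.Monic.natDegree_mul hQ hg.1, hg.2]
        omega
    rw [himg, Finset.sum_image, S, Finset.mul_sum]
    · refine Finset.sum_congr rfl (fun g hg => ?_)
      exact lam_mul χ ψ hQ (mem_Mon.mp hg).1
    · intro a _ b _ hab
      exact mul_left_cancel₀ (Polynomial.Monic.ne_zero hQ) hab
  · refine Finset.sum_eq_zero (fun f hf => ?_)
    rw [Finset.mem_filter, mem_Mon] at hf
    exfalso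
    have h3 := Polynomial.natDegree_le_of_dvd hf.2 (Polynomial.Monic.ne_zero hf.1.1)
    omega

/-- Monic irreducible polynomials of degree at most `M`. -/
noncomputable def IrrLE (M : ℕ) : Finset F[X] :=
  ((Finset.range (M + 1)).biUnion (fun d => (Mon d : Finset F[X]))).filter Irreducible

theorem mem_IrrLE {M : ℕ} {P : F[X]} :
    P ∈ (IrrLE M : Finset F[X]) ↔ P.Monic ∧ Irreducible P ∧ P.natDegree ≤ M := by
  rw [IrrLE, Finset.mem_filter, Finset.mem_biUnion]
  constructor
  · rintro ⟨⟨d, hd, hP⟩, hirr⟩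
    rw [mem_Mon] at hP
    rw [Finset.mem_range] at hd
    exact ⟨hP.1, hirr, by omega⟩
  · rintro ⟨h1, h2, h3⟩
    exact ⟨⟨P.natDegree, Finset.mem_range.mpr (by omega), mem_Mon.mpr ⟨h1, rfl⟩⟩, h2⟩

theorem count_pow_dvd {f P : F[X]} (hf : f ≠ 0) (hP : Irreducible P) (hPm : P.Monic)
    (M : ℕ) (hM : f.natDegree ≤ M) :
    ∑ r ∈ Finset.Icc 1 M, (if P ^ r ∣ f then 1 else 0)
      = Multiset.count P (normalizedFactors f) := by
  obtain ⟨c, hc0⟩ : ∃ c, c = Multiset.count P (normalizedFactors f) := ⟨_, rfl⟩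
  rw [← hc0]
  have hdvd : ∀ r, P ^ r ∣ f ↔ r ≤ c := by
    intro r
    rw [pow_dvd_iff_le_emultiplicity,
      UniqueFactorizationMonoid.emultiplicity_eq_count_normalizedFactors hP hf,
      Polynomial.Monic.normalize_eq_self hPm, ← hc0]
    exact_mod_cast Iff.rfl
  have hc : c ≤ M := by
    have h1 : P ^ c ∣ f := (hdvd c).mpr le_rfl
    have h2 := Polynomial.natDegree_le_of_dvd h1 hf
    rw [Polynomial.Monic.natDegree_pow hPm] at h2
    have h3 : 1 ≤ P.natDegree := hP.natDegree_pos
    calc c ≤ c * P.natDegree := Nat.le_mul_of_pos_right c h3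
      _ ≤ f.natDegree := h2
      _ ≤ M := hM
  rw [Finset.sum_boole]
  simp only [hdvd]
  have h4 : (Finset.Icc 1 M).filter (fun r => r ≤ c) = Finset.Icc 1 c := by
    ext r
    simp only [Finset.mem_filter, Finset.mem_Icc]
    omega
  rw [h4, Nat.card_Icc]
  simp

theorem sum_deg {m M : ℕ} (hmM : m ≤ M) {f : F[X]} (hf : f ∈ (Mon m : Finset F[X])) :
    ∑ P ∈ (IrrLE M : Finset F[X]), ∑ r ∈ Finset.Icc 1 M,
      (if P ^ r ∣ f then P.natDegree else 0) = m := by
  rw [mem_Mon] at hf
  obtain ⟨h1, h2⟩ := hf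
  have hf0 : f ≠ 0 := Polynomial.Monic.ne_zero h1
  obtain ⟨s, hs⟩ : ∃ s, s = normalizedFactors f := ⟨_, rfl⟩
  have hmon : ∀ P ∈ s, P.Monic := fun P hP => by
    rw [hs] at hP
    have h := normalize_normalized_factor P hP
    rw [← h]
    exact Polynomial.monic_normalize (ne_zero_of_mem_normalizedFactors hP)
  have hirr : ∀ P ∈ s, Irreducible P := fun P hP => by
    rw [hs] at hP
    exact irreducible_of_normalized_factor P hP
  have hprod : s.prod = f := by
    have hm : s.prod.Monic := by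
      have h := Polynomial.monic_multiset_prod_of_monic s id (by simpa using hmon)
      simpa using h
    refine Polynomial.eq_of_monic_of_associated hm h1 ?_
    rw [hs]
    exact prod_normalizedFactors hf0
  have hdeg : (s.map natDegree).sum = m := by
    rw [← Polynomial.natDegree_multiset_prod_of_monic s hmon, hprod, h2]
  rw [Finset.sum_multiset_map_count] at hdeg
  have hsub : s.toFinset ⊆ (IrrLE M : Finset F[X]) := by
    intro P hP
    rw [Multiset.mem_toFinset] at hP
    rw [mem_IrrLE]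
    refine ⟨hmon P hP, hirr P hP, ?_⟩
    have hdv : P ∣ f := by
      rw [hs] at hP
      exact dvd_of_mem_normalizedFactors hP
    have := Polynomial.natDegree_le_of_dvd hdv hf0
    omega
  have hterm : ∀ P ∈ (IrrLE M : Finset F[X]),
      ∑ r ∈ Finset.Icc 1 M, (if P ^ r ∣ f then P.natDegree else 0)
        = Multiset.count P s • P.natDegree := by
    intro P hP
    rw [mem_IrrLE] at hP
    have h3 := count_pow_dvd hf0 hP.2.1 hP.1 M (by omega)
    rw [smul_eq_mul, hs, ← h3, Finset.sum_mul]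
    refine Finset.sum_congr rfl (fun r _ => ?_)
    split_ifs <;> simp
  rw [Finset.sum_congr rfl hterm, ← hdeg]
  symm
  refine Finset.sum_subset hsub ?_
  intro P _ hPs
  rw [Multiset.mem_toFinset] at hPs
  rw [Multiset.count_eq_zero.mpr hPs, zero_smul]

/-- Truncated von Mangoldt sums. -/
noncomputable def NN (M i : ℕ) : R :=
  ∑ P ∈ (IrrLE M : Finset F[X]), ∑ r ∈ Finset.Icc 1 M,
    if P.natDegree * r = i then (P.natDegree : R) * lam χ ψ P ^ r else 0

theorem recursion {m M : ℕ} (hm : 1 ≤ m) (hmM : m ≤ M) :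
    (m : R) * S χ ψ m = ∑ i ∈ Finset.Icc 1 m, NN χ ψ M i * S χ ψ (m - i) := by
  have hL : (m : R) * S χ ψ m = ∑ P ∈ (IrrLE M : Finset F[X]), ∑ r ∈ Finset.Icc 1 M,
      (P.natDegree : R) * (if r * P.natDegree ≤ m then
        lam χ ψ P ^ r * S χ ψ (m - r * P.natDegree) else 0) := by
    have h1 : (m : R) * S χ ψ m = ∑ f ∈ (Mon m : Finset F[X]),
        (∑ P ∈ (IrrLE M : Finset F[X]), ∑ r ∈ Finset.Icc 1 M,
          if P ^ r ∣ f then (P.natDegree : R) else 0) * lam χ ψ f := by
      rw [S, Finset.mul_sum]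
      refine Finset.sum_congr rfl (fun f hf => ?_)
      congr 1
      have h := sum_deg hmM hf
      rw [← h]
      push_cast
      rfl
    rw [h1]
    simp_rw [Finset.sum_mul]
    rw [Finset.sum_comm]
    refine Finset.sum_congr rfl (fun P hP => ?_)
    rw [Finset.sum_comm]
    refine Finset.sum_congr rfl (fun r hr => ?_)
    have hPm : P.Monic := (mem_IrrLE.mp hP).1
    have h2 := sum_filter_dvd χ ψ (Polynomial.Monic.pow hPm r) m
    rw [Polynomial.Monic.natDegree_pow hPm, lam_pow χ ψ hPm] at h2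
    rw [← h2, Finset.mul_sum, Finset.sum_filter]
    refine Finset.sum_congr rfl (fun f _ => ?_)
    split_ifs <;> simp
  have hR : ∑ i ∈ Finset.Icc 1 m, NN χ ψ M i * S χ ψ (m - i)
      = ∑ P ∈ (IrrLE M : Finset F[X]), ∑ r ∈ Finset.Icc 1 M,
      (P.natDegree : R) * (if r * P.natDegree ≤ m then
        lam χ ψ P ^ r * S χ ψ (m - r * P.natDegree) else 0) := by
    unfold NN
    simp_rw [Finset.sum_mul]
    rw [Finset.sum_comm]
    refine Finset.sum_congr rfl (fun P hP => ?_)
    rw [Finset.sum_comm]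
    refine Finset.sum_congr rfl (fun r hr => ?_)
    have hPd : 1 ≤ P.natDegree := (mem_IrrLE.mp hP).2.1.natDegree_pos
    have hr1 : 1 ≤ r := (Finset.mem_Icc.mp hr).1
    have h3 : ∀ i ∈ Finset.Icc 1 m,
        (if P.natDegree * r = i then (P.natDegree : R) * lam χ ψ P ^ r else 0) * S χ ψ (m - i)
        = if P.natDegree * r = i then
            (P.natDegree : R) * lam χ ψ P ^ r * S χ ψ (m - P.natDegree * r) else 0 := by
      intro i _
      split_ifs with h
      · rw [h]
      · rw [zero_mul]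
    rw [Finset.sum_congr rfl h3, Finset.sum_ite_eq]
    have hpos : 1 ≤ P.natDegree * r := Nat.mul_pos hPd hr1
    by_cases h4 : r * P.natDegree ≤ m
    · rw [if_pos h4, if_pos (Finset.mem_Icc.mpr ⟨hpos, by rw [mul_comm]; exact h4⟩),
        mul_comm P.natDegree r]
      ring
    · rw [if_neg h4, if_neg, mul_zero]
      intro h5
      apply h4
      rw [mul_comm]
      exact (Finset.mem_Icc.mp h5).2
  rw [hL, hR]

theorem NN_closed [IsDomain R] (hψ : ψ ≠ 1) {M : ℕ} :
    ∀ m, 1 ≤ m → m ≤ M → NN χ ψ M m = -(-(∑ a : F, χ a * ψ a)) ^ m := by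
  intro m hm
  induction m, hm using Nat.le_induction with
  | base =>
    intro hM
    have h := recursion χ ψ (le_refl 1) hM
    rw [Finset.Icc_self, Finset.sum_singleton, Nat.sub_self, S_zero, S_one] at h
    rw [pow_one, neg_neg, ← mul_one (NN χ ψ M 1), ← h]
    simp
  | succ m hm ih =>
    intro hM
    have h := recursion χ ψ (by omega : 1 ≤ m + 1) hM
    rw [S_eq_zero χ ψ hψ (by omega : 2 ≤ m + 1), mul_zero] at h
    rw [Finset.sum_eq_add_of_mem (m + 1) m (Finset.mem_Icc.mpr ⟨by omega, le_rfl⟩)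
      (Finset.mem_Icc.mpr ⟨hm, by omega⟩) (by omega)] at h
    · rw [Nat.sub_self, S_zero, Nat.add_sub_cancel_left, S_one, ih (by omega)] at h
      rw [pow_succ]
      linear_combination (-1 : R) * h
    · intro c hc hne
      rw [Finset.mem_Icc] at hc
      rw [S_eq_zero χ ψ hψ (by omega : 2 ≤ m + 1 - c), mul_zero]

end Groth.Agent.Lib.Helper20.HasseDav
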