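import Mathlib
import Groth.Agent.Lib.Helper20.HasseDav2

set_option autoImplicit false
open Polynomial BigOperators IntermediateField
open scoped Classical

set_option linter.unusedSectionVars false

namespace Groth.Agent.Lib.Helper20.HasseDav

variable {F F' : Type} [Field F] [Fintype F] [Field F'] [Fintype F'] [Algebra F F']
  {R : Type} [CommRing R] (χ : MulChar F R) (ψ : AddChar F R)

theorem term_eq (x : F') :
    χ (Algebra.norm F x) * ψ (Algebra.trace F F' x)
      = lam χ ψ (minpoly F x) ^ Module.finrank F⟮x⟯ F' := by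
  have hx : IsIntegral F x := IsIntegral.of_finite F x
  have hN : Algebra.norm F x
      = ((-1) ^ (minpoly F x).natDegree * (minpoly F x).coeff 0) ^ Module.finrank F⟮x⟯ F' := by
    rw [Algebra.norm_eq_norm_adjoin F x]
    congr 1
    have h := Algebra.PowerBasis.norm_gen_eq_coeff_zero_minpoly
      (IntermediateField.adjoin.powerBasis hx)
    rw [IntermediateField.adjoin.powerBasis_gen, IntermediateField.adjoin.powerBasis_dim,
      IntermediateField.minpoly_gen] at h
    exact h
  have hT : Algebra.trace F F' x
      = Module.finrank F⟮x⟯ F' • (-(minpoly F x).nextCoeff) := by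
    rw [trace_eq_finrank_mul_minpoly_nextCoeff, nsmul_eq_mul]
  rw [hN, hT, map_pow, AddChar.map_nsmul_eq_pow, ← mul_pow]
  unfold lam
  rw [mul_comm]

theorem deg_mul (x : F') :
    (minpoly F x).natDegree * Module.finrank F⟮x⟯ F' = Module.finrank F F' := by
  have hx : IsIntegral F x := IsIntegral.of_finite F x
  rw [← IntermediateField.adjoin.finrank hx]
  exact Module.finrank_mul_finrank F F⟮x⟯ F'

theorem minpoly_mem (x : F') :
    minpoly F x ∈ (IrrLE (Module.finrank F F') : Finset F[X]) := by
  have hx : IsIntegral F x := IsIntegral.of_finite F x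
  rw [mem_IrrLE]
  exact ⟨minpoly.monic hx, minpoly.irreducible hx, minpoly.natDegree_le x⟩

theorem card_fibre {P : F[X]} (hP : P.Monic) (hirr : Irreducible P)
    (hd : P.natDegree ∣ Module.finrank F F') :
    (Finset.univ.filter (fun x : F' => minpoly F x = P)).card = P.natDegree := by
  have h1 : P ∣ X ^ Nat.card F ^ Module.finrank F F' - X :=
    hirr.natDegree_dvd_iff_dvd_X_pow_card_pow_sub_X.mp hd
  have hcard : Nat.card F ^ Module.finrank F F' = Fintype.card F' := by
    rw [Nat.card_eq_fintype_card, ← Module.card_eq_pow_finrank]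
  rw [hcard] at h1
  have h2 : P.map (algebraMap F F') ∣ (X ^ Fintype.card F' - X : F'[X]) := by
    have h := Polynomial.map_dvd (algebraMap F F') h1
    simpa using h
  have hq : 1 < Fintype.card F' := Fintype.one_lt_card
  have hne : (X ^ Fintype.card F' - X : F'[X]) ≠ 0 := FiniteField.X_pow_card_sub_X_ne_zero F' hq
  have hroots := FiniteField.roots_X_pow_card_sub_X F'
  have hsplit : (X ^ Fintype.card F' - X : F'[X]).Splits := by
    rw [Polynomial.splits_iff_card_roots, hroots, FiniteField.X_pow_card_sub_X_natDegree_eq F' hq]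
    simp
  have hQs : (P.map (algebraMap F F')).Splits := Polynomial.Splits.of_dvd hsplit hne h2
  have hQ0 : P.map (algebraMap F F') ≠ 0 := (Polynomial.Monic.map _ hP).ne_zero
  have hnd : (P.map (algebraMap F F')).roots.Nodup := by
    refine Multiset.nodup_of_le (Polynomial.roots.le_of_dvd hne h2) ?_
    rw [hroots]
    exact Finset.univ.nodup
  have hfib : Finset.univ.filter (fun x : F' => minpoly F x = P)
      = (P.map (algebraMap F F')).roots.toFinset := by
    ext x
    rw [Finset.mem_filter, Multiset.mem_toFinset, Polynomial.mem_roots hQ0, Polynomial.IsRoot.def,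
      Polynomial.eval_map_algebraMap]
    constructor
    · rintro ⟨-, h⟩
      rw [← h]
      exact minpoly.aeval F x
    · intro h
      exact ⟨Finset.mem_univ _, (minpoly.eq_of_irreducible_of_monic hirr h hP).symm⟩
  rw [hfib, Multiset.toFinset_card_of_nodup hnd, ← Polynomial.Splits.natDegree_eq_card_roots hQs,
    Polynomial.natDegree_map]

theorem sum_eq_NN :
    ∑ x : F', χ (Algebra.norm F x) * ψ (Algebra.trace F F' x)
      = NN χ ψ (Module.finrank F F') (Module.finrank F F') := by
  obtain ⟨n, hn⟩ : ∃ n, n = Module.finrank F F' := ⟨_, rfl⟩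
  have hnpos : 1 ≤ n := by
    rw [hn]
    exact Module.finrank_pos
  rw [Finset.sum_congr rfl (fun x _ => term_eq χ ψ x)]
  rw [← Finset.sum_fiberwise_of_maps_to (g := fun x : F' => minpoly F x)
    (t := (IrrLE (Module.finrank F F') : Finset F[X])) (fun x _ => minpoly_mem x)]
  unfold NN
  rw [← hn]
  refine Finset.sum_congr rfl (fun P hP => ?_)
  rw [mem_IrrLE] at hP
  obtain ⟨hPm, hPi, hPn⟩ := hP
  have hPd : 1 ≤ P.natDegree := hPi.natDegree_pos
  by_cases hdvd : P.natDegree ∣ n
  · obtain ⟨r0, hr0⟩ := hdvd
    have hr0pos : 1 ≤ r0 := by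
      rcases Nat.eq_zero_or_pos r0 with h | h
      · rw [h, mul_zero] at hr0
        omega
      · exact h
    have hr0le : r0 ≤ n := by
      calc r0 = 1 * r0 := (one_mul r0).symm
        _ ≤ P.natDegree * r0 := Nat.mul_le_mul_right r0 hPd
        _ = n := hr0.symm
    rw [Finset.sum_eq_single r0]
    · rw [if_pos hr0.symm]
      have hconst : ∀ x ∈ Finset.univ.filter (fun x : F' => minpoly F x = P),
          lam χ ψ (minpoly F x) ^ Module.finrank F⟮x⟯ F' = lam χ ψ P ^ r0 := by
        intro x hx
        rw [Finset.mem_filter] at hx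
        have h1 := deg_mul (F := F) x
        rw [hx.2, ← hn, hr0] at h1
        have h2 : Module.finrank F⟮x⟯ F' = r0 := Nat.eq_of_mul_eq_mul_left hPd h1
        rw [hx.2, h2]
      rw [Finset.sum_congr rfl hconst, Finset.sum_const, nsmul_eq_mul,
        card_fibre hPm hPi (by rw [← hn, hr0]; exact dvd_mul_right _ _)]
    · intro r _ hne
      rw [if_neg]
      intro h
      apply hne
      rw [hr0] at h
      exact Nat.eq_of_mul_eq_mul_left hPd h
    · intro h
      exfalso
      exact h (Finset.mem_Icc.mpr ⟨hr0pos, hr0le⟩)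
  · have hempty : Finset.univ.filter (fun x : F' => minpoly F x = P) = ∅ := by
      rw [Finset.filter_eq_empty_iff]
      intro x _ hx
      apply hdvd
      have h1 := deg_mul (F := F) x
      rw [hx, ← hn] at h1
      exact ⟨_, h1.symm⟩
    rw [hempty, Finset.sum_empty]
    symm
    refine Finset.sum_eq_zero (fun r _ => ?_)
    rw [if_neg]
    intro h
    exact hdvd ⟨r, h.symm⟩

theorem main [IsDomain R] (hψ : ψ ≠ 1) :
    -(∑ x : F', χ (Algebra.norm F x) * ψ (Algebra.trace F F' x))
      = (-(∑ x : F, χ x * ψ x)) ^ Module.finrank F F' := by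
  rw [sum_eq_NN, NN_closed χ ψ hψ _ Module.finrank_pos le_rfl, neg_neg]

end Groth.Agent.Lib.Helper20.HasseDav
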