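import Mathlib
import Groth.Agent.Lib.Helper20.SmoothForm
import Groth.Agent.Helper19.HilbPlane

/-!
# Hilbert function of a homogeneous complete intersection in a polynomial ring (helper20)
-/

set_option autoImplicit false

namespace Groth.Agent.Lib.Helper20.HilbCI

universe u

open MvPolynomial IsLocalRing
open Groth.Agent.Lib.Helper20.SmoothForm (m0 mem_m0_iff)

theorem ringKrullDim_quotient_map_le {R A : Type*} [CommRing R] [CommRing A] [Algebra R A]
    (M : Submonoid R) [IsLocalization M A] (I : Ideal R) :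
    ringKrullDim (A ⧸ I.map (algebraMap R A)) ≤ ringKrullDim (R ⧸ I) := by
  let ψ : R ⧸ I →+* A ⧸ I.map (algebraMap R A) :=
    Ideal.quotientMap _ (algebraMap R A) Ideal.le_comap_map
  have hψ : ψ.comp (Ideal.Quotient.mk I) =
      (Ideal.Quotient.mk (I.map (algebraMap R A))).comp (algebraMap R A) :=
    Ideal.quotientMap_comp_mk _
  refine Order.krullDim_le_of_strictMono (f := PrimeSpectrum.comap ψ) ?_
  intro q1 q2 hlt
  refine lt_of_le_of_ne ?_ ?_
  · intro x hx
    exact hlt.le hx
  · intro heq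
    apply hlt.ne
    apply PrimeSpectrum.ext
    apply Ideal.comap_injective_of_surjective (Ideal.Quotient.mk (I.map (algebraMap R A)))
      Ideal.Quotient.mk_surjective
    have h1 : ∀ q : PrimeSpectrum (A ⧸ I.map (algebraMap R A)),
        Ideal.comap (algebraMap R A) (Ideal.comap (Ideal.Quotient.mk _) q.asIdeal) =
        Ideal.comap (Ideal.Quotient.mk I) (PrimeSpectrum.comap ψ q).asIdeal := by
      intro q
      rw [PrimeSpectrum.comap_asIdeal, Ideal.comap_comap, Ideal.comap_comap, hψ]
    have h2 := (h1 q1).trans ((congrArg (fun q => Ideal.comap (Ideal.Quotient.mk I)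
      q.asIdeal) heq).trans (h1 q2).symm)
    rw [← IsLocalization.map_under M A (Ideal.comap (Ideal.Quotient.mk _) q1.asIdeal),
      ← IsLocalization.map_under M A (Ideal.comap (Ideal.Quotient.mk _) q2.asIdeal)]
    exact congrArg (Ideal.map (algebraMap R A)) h2

open Pointwise in
theorem isWeaklyRegular_map {k : Type u} [Field k] (n : ℕ)
    (f : ℕ → MvPolynomial (Fin (n + 1)) k) (hf0 : ∀ i, f i ∈ m0 k (n + 1))
    (hdim : ringKrullDim (MvPolynomial (Fin (n + 1)) k ⧸ Ideal.span (f '' Set.Iio n)) ≤ 1) :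
    RingTheory.Sequence.IsWeaklyRegular (Localization.AtPrime (m0 k (n + 1)))
      ((List.range n).map fun i =>
        algebraMap (MvPolynomial (Fin (n + 1)) k) (Localization.AtPrime (m0 k (n + 1))) (f i)) := by
  classical
  let A := Localization.AtPrime (m0 k (n + 1))
  let φ : MvPolynomial (Fin (n + 1)) k →+* A := algebraMap _ A
  have CM : LocCoh.IsCohenMacaulayRing (MvPolynomial (Fin (n + 1)) k) :=
    Groth.Agent.Lib.Helper16.PDR.isCohenMacaulayRing_of_isRegularRing _
  have hCM : LocCoh.IsCohenMacaulayModule A A :=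
    (CM.isCohenMacaulayLocalRing_localization (m0 k (n + 1))).supportDim_eq_depth
  set xs : List A := (List.range n).map (fun i => φ (f i)) with hxs
  have hmax : ∀ x ∈ xs, x ∈ maximalIdeal A := by
    intro x hx
    rw [hxs, List.mem_map] at hx
    obtain ⟨i, -, rfl⟩ := hx
    exact (IsLocalization.AtPrime.to_map_mem_maximal_iff A (m0 k (n + 1)) (f i)).mpr (hf0 i)
  have hofList : Ideal.ofList xs = Ideal.map φ (Ideal.span (f '' Set.Iio n)) := by
    rw [Ideal.map_span]
    unfold Ideal.ofList
    congr 1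
    ext r
    simp only [Set.mem_ofPred_eq, Set.mem_image, hxs, List.mem_map, List.mem_range, Set.mem_Iio]
    constructor
    · rintro ⟨i, hi, rfl⟩
      exact ⟨f i, ⟨i, hi, rfl⟩, rfl⟩
    · rintro ⟨_, ⟨i, hi, rfl⟩, rfl⟩
      exact ⟨i, hi, rfl⟩
  have hlen : xs.length = n := by rw [hxs, List.length_map, List.length_range]
  have hdimA : ringKrullDim A = ((n + 1 : ℕ) : WithBot ℕ∞) := by
    rw [IsLocalization.AtPrime.ringKrullDim_eq_height (m0 k (n + 1)) A,
      Groth.Agent.Lib.Helper7.DimFT.height_eq_of_isMaximal_mvPolynomial k (n + 1) (m0 k (n + 1))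
        inferInstance]
    rfl
  have key := (Groth.Agent.Lib.Helper18.CM.isWeaklyRegular_iff_supportDim_and_isCohenMacaulayModule
    xs hmax A hCM).1
  rw [key]
  have hle := Groth.Agent.Lib.Helper18.CM.supportDim_le_quot_ofList_add_length xs hmax A
  have e : (A ⧸ (Ideal.ofList xs • (⊤ : Submodule A A))) ≃ₗ[A] A ⧸ Ideal.ofList xs :=
    Submodule.quotEquivOfEq _ _ (by rw [smul_eq_mul, Ideal.mul_top])
  have hq : Module.supportDim A (A ⧸ (Ideal.ofList xs • (⊤ : Submodule A A))) ≤ 1 := by
    rw [Module.supportDim_eq_of_equiv e, Module.supportDim_quotient_eq_ringKrullDim, hofList]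
    exact (ringKrullDim_quotient_map_le (m0 k (n + 1)).primeCompl _).trans hdim
  rw [Module.supportDim_self_eq_ringKrullDim, hdimA, hlen] at hle ⊢
  apply le_antisymm _ hle
  calc Module.supportDim A (A ⧸ (Ideal.ofList xs • (⊤ : Submodule A A))) + (n : WithBot ℕ∞)
      ≤ 1 + (n : WithBot ℕ∞) := add_le_add hq le_rfl
    _ = ((n + 1 : ℕ) : WithBot ℕ∞) := by push_cast; rw [add_comm]

section graded

attribute [local instance] MvPolynomial.gradedAlgebra

variable {σ : Type*} {R : Type*} [CommSemiring R]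

theorem coe_decompose (φ : MvPolynomial σ R) (i : ℕ) :
    (DirectSum.decompose (homogeneousSubmodule σ R) φ i : MvPolynomial σ R) =
      homogeneousComponent i φ :=
  decomposition.decompose'_apply φ i

theorem homogeneousComponent_mul_of_left {a b : MvPolynomial σ R} {i : ℕ}
    (ha : a.IsHomogeneous i) (m : ℕ) (h : i ≤ m) :
    homogeneousComponent m (a * b) = a * homogeneousComponent (m - i) b := by
  rw [← coe_decompose, ← coe_decompose]
  exact DirectSum.coe_decompose_mul_of_left_mem_of_le (homogeneousSubmodule σ R)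
    ((mem_homogeneousSubmodule _ _).mpr ha) h

theorem homogeneousComponent_mul_of_left_of_lt {a b : MvPolynomial σ R} {i : ℕ}
    (ha : a.IsHomogeneous i) (m : ℕ) (h : m < i) :
    homogeneousComponent m (a * b) = 0 := by
  rw [← coe_decompose]
  exact DirectSum.coe_decompose_mul_of_left_mem_of_not_le (homogeneousSubmodule σ R)
    ((mem_homogeneousSubmodule _ _).mpr ha) (not_le.mpr h)

theorem homogeneousComponent_mul_of_right {a b : MvPolynomial σ R} {i : ℕ}
    (hb : b.IsHomogeneous i) (m : ℕ) (h : i ≤ m) :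
    homogeneousComponent m (a * b) = homogeneousComponent (m - i) a * b := by
  rw [← coe_decompose, ← coe_decompose]
  exact DirectSum.coe_decompose_mul_of_right_mem_of_le (homogeneousSubmodule σ R)
    ((mem_homogeneousSubmodule _ _).mpr hb) h

theorem isHomogeneous_span_image {S : Type*} [CommRing S] {ι : Type*}
    (f : ι → MvPolynomial σ S) (d : ι → ℕ)
    (hf : ∀ i, (f i).IsHomogeneous (d i)) (s : Set ι) :
    (Ideal.span (f '' s)).IsHomogeneous (homogeneousSubmodule σ S) := by
  apply Ideal.homogeneous_span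
  rintro _ ⟨i, -, rfl⟩
  exact ⟨d i, (mem_homogeneousSubmodule _ _).mpr (hf i)⟩

end graded

attribute [local instance] MvPolynomial.gradedAlgebra in
theorem mem_m0_of_isHomogeneous {k : Type u} [Field k] {N : ℕ} {p : MvPolynomial (Fin N) k}
    {e : ℕ} (hp : p.IsHomogeneous e) (he : 1 ≤ e) : p ∈ m0 k N := by
  rw [mem_m0_iff]
  exact hp.coeff_eq_zero (d := 0) (by simp; omega)

attribute [local instance] MvPolynomial.gradedAlgebra in
/-- if `s` has nonzero constant term, `g` is homogeneous and `s * g` lies in a homogeneous ideal,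
then so does `g`. -/
theorem mem_of_mul_mem_of_not_mem_m0 {k : Type u} [Field k] {N : ℕ}
    {I : Ideal (MvPolynomial (Fin N) k)}
    (hI : I.IsHomogeneous (homogeneousSubmodule (Fin N) k))
    {s g : MvPolynomial (Fin N) k} (hs : s ∉ m0 k N) {e : ℕ} (hg : g.IsHomogeneous e)
    (h : s * g ∈ I) : g ∈ I := by
  have h1 := MvPolynomial.homogeneousComponent_mem_of_mem hI h e
  rw [homogeneousComponent_mul_of_right hg e le_rfl, Nat.sub_self,
    homogeneousComponent_zero] at h1
  have hc : coeff 0 s ≠ 0 := by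
    intro h0
    exact hs ((mem_m0_iff s).mpr h0)
  have h2 := I.mul_mem_left (C (coeff 0 s)⁻¹) h1
  rwa [← mul_assoc, ← C_mul, inv_mul_cancel₀ hc, C_1, one_mul] at h2

attribute [local instance] MvPolynomial.gradedAlgebra in
open Pointwise in
theorem mem_of_mul_mem {k : Type u} [Field k] (n : ℕ)
    (f : ℕ → MvPolynomial (Fin (n + 1)) k) (d : ℕ → ℕ) (hd : ∀ i, 1 ≤ d i)
    (hf : ∀ i, (f i).IsHomogeneous (d i))
    (hdim : ringKrullDim (MvPolynomial (Fin (n + 1)) k ⧸ Ideal.span (f '' Set.Iio n)) ≤ 1)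
    (j : ℕ) (hj : j < n) {g : MvPolynomial (Fin (n + 1)) k} {e : ℕ} (hg : g.IsHomogeneous e)
    (h : f j * g ∈ Ideal.span (f '' Set.Iio j)) : g ∈ Ideal.span (f '' Set.Iio j) := by
  classical
  let A := Localization.AtPrime (m0 k (n + 1))
  let φ : MvPolynomial (Fin (n + 1)) k →+* A := algebraMap _ A
  have hreg := isWeaklyRegular_map n f (fun i => mem_m0_of_isHomogeneous (hf i) (hd i)) hdim
  have hlen : ((List.range n).map fun i => φ (f i)).length = n := by
    rw [List.length_map, List.length_range]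
  have hr := hreg.regular_mod_prev j (by rw [hlen]; exact hj)
  have htake : ((List.range n).map fun i => φ (f i)).take j = (List.range j).map fun i => φ (f i) := by
    rw [← List.map_take, List.take_range, min_eq_left hj.le]
  have hget : ((List.range n).map fun i => φ (f i))[j]'(by rw [hlen]; exact hj) = φ (f j) := by
    rw [List.getElem_map, List.getElem_range]
  have hofList : Ideal.ofList ((List.range j).map fun i => φ (f i)) =
      Ideal.map φ (Ideal.span (f '' Set.Iio j)) := by
    rw [Ideal.map_span]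
    unfold Ideal.ofList
    congr 1
    ext r
    simp only [Set.mem_ofPred_eq, Set.mem_image, List.mem_map, List.mem_range, Set.mem_Iio]
    constructor
    · rintro ⟨i, hi, rfl⟩
      exact ⟨f i, ⟨i, hi, rfl⟩, rfl⟩
    · rintro ⟨_, ⟨i, hi, rfl⟩, rfl⟩
      exact ⟨i, hi, rfl⟩
  rw [hget, htake] at hr
  have h0 : φ (f j) • (Submodule.Quotient.mk (φ g) :
      A ⧸ (Ideal.ofList ((List.range j).map fun i => φ (f i)) • (⊤ : Submodule A A))) = 0 := by
    rw [← Submodule.Quotient.mk_smul, Submodule.Quotient.mk_eq_zero, smul_eq_mul, Ideal.mul_top,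
      hofList, smul_eq_mul, ← map_mul]
    exact Ideal.mem_map_of_mem _ h
  have h1 := hr (by rw [h0, smul_zero] : φ (f j) • (Submodule.Quotient.mk (φ g) :
      A ⧸ (Ideal.ofList ((List.range j).map fun i => φ (f i)) • (⊤ : Submodule A A))) =
      φ (f j) • 0)
  rw [Submodule.Quotient.mk_eq_zero, smul_eq_mul, Ideal.mul_top, hofList] at h1
  obtain ⟨⟨⟨a', ha'⟩, ⟨s, hs⟩⟩, hsa⟩ :=
    (IsLocalization.mem_map_algebraMap_iff (m0 k (n + 1)).primeCompl A).mp h1
  simp only at hsa
  rw [← map_mul] at hsa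
  obtain ⟨⟨c, hc⟩, hceq⟩ := (IsLocalization.eq_iff_exists (m0 k (n + 1)).primeCompl A).mp hsa
  simp only at hceq
  have hcs : c * s ∉ m0 k (n + 1) := (m0 k (n + 1)).primeCompl.mul_mem hc hs
  refine mem_of_mul_mem_of_not_mem_m0 (isHomogeneous_span_image f d hf _) hcs hg ?_
  have : c * s * g = c * a' := by rw [← hceq]; ring
  rw [this]
  exact Ideal.mul_mem_left _ _ ha'

section step

attribute [local instance] MvPolynomial.gradedAlgebra

variable {k : Type u} [Field k] {N : ℕ}

theorem inf_sup_span_eq_of_lt (I : Ideal (MvPolynomial (Fin N) k))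
    (hI : I.IsHomogeneous (homogeneousSubmodule (Fin N) k)) {f : MvPolynomial (Fin N) k} {d : ℕ}
    (hf : f.IsHomogeneous d) {m : ℕ} (hm : m < d) :
    (I ⊔ Ideal.span {f}).restrictScalars k ⊓ homogeneousSubmodule (Fin N) k m =
      I.restrictScalars k ⊓ homogeneousSubmodule (Fin N) k m := by
  apply le_antisymm
  · rintro h ⟨h1, h2⟩
    obtain ⟨a, ha, b, hb, rfl⟩ := Submodule.mem_sup.mp h1
    obtain ⟨g, rfl⟩ := Ideal.mem_span_singleton'.mp hb
    refine ⟨?_, h2⟩
    have h3 : homogeneousComponent m (a + g * f) = a + g * f := by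
      rw [homogeneousComponent_of_mem h2, if_pos rfl]
    rw [map_add, mul_comm g f, homogeneousComponent_mul_of_left_of_lt hf m hm, add_zero] at h3
    show a + g * f ∈ I
    rw [mul_comm g f, ← h3]
    exact homogeneousComponent_mem_of_mem hI ha m
  · rintro x ⟨hx1, hx2⟩
    exact ⟨Ideal.mem_sup_left hx1, hx2⟩

theorem finrank_step (I : Ideal (MvPolynomial (Fin N) k))
    (hI : I.IsHomogeneous (homogeneousSubmodule (Fin N) k)) {f : MvPolynomial (Fin N) k} {d : ℕ}
    (hf : f.IsHomogeneous d) (hf0 : f ≠ 0)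
    (hreg : ∀ (e : ℕ) (g : MvPolynomial (Fin N) k), g.IsHomogeneous e → f * g ∈ I → g ∈ I)
    {m : ℕ} (hm : d ≤ m) :
    Module.finrank k ↥((I ⊔ Ideal.span {f}).restrictScalars k ⊓
        homogeneousSubmodule (Fin N) k m) +
      Module.finrank k ↥(I.restrictScalars k ⊓ homogeneousSubmodule (Fin N) k (m - d)) =
    Module.finrank k ↥(I.restrictScalars k ⊓ homogeneousSubmodule (Fin N) k m) +
      Module.finrank k ↥(homogeneousSubmodule (Fin N) k (m - d)) := by
  classical
  let μ : MvPolynomial (Fin N) k →ₗ[k] MvPolynomial (Fin N) k := LinearMap.mulLeft k f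
  have hμ : Function.Injective μ := fun a b hab => mul_left_cancel₀ hf0 hab
  have hμapp : ∀ x, μ x = f * x := fun x => rfl
  have hV : (I ⊔ Ideal.span {f}).restrictScalars k ⊓ homogeneousSubmodule (Fin N) k m =
      (I.restrictScalars k ⊓ homogeneousSubmodule (Fin N) k m) ⊔
        (homogeneousSubmodule (Fin N) k (m - d)).map μ := by
    apply le_antisymm
    · rintro h ⟨h1, h2⟩
      obtain ⟨a, ha, b, hb, rfl⟩ := Submodule.mem_sup.mp h1
      obtain ⟨g, rfl⟩ := Ideal.mem_span_singleton'.mp hb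
      have h3 : homogeneousComponent m (a + g * f) = a + g * f := by
        rw [homogeneousComponent_of_mem h2, if_pos rfl]
      rw [map_add, mul_comm g f, homogeneousComponent_mul_of_left hf m hm] at h3
      rw [mul_comm g f, ← h3]
      apply Submodule.add_mem_sup
      · exact ⟨homogeneousComponent_mem_of_mem hI ha m, homogeneousComponent_mem m a⟩
      · exact Submodule.mem_map.mpr ⟨_, homogeneousComponent_mem (m - d) g, rfl⟩
    · apply sup_le
      · rintro x ⟨hx1, hx2⟩
        exact ⟨Ideal.mem_sup_left hx1, hx2⟩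
      · rintro _ ⟨g, hg, rfl⟩
        refine ⟨?_, ?_⟩
        · show μ g ∈ I ⊔ Ideal.span {f}
          rw [hμapp]
          exact Ideal.mem_sup_right (Ideal.mul_mem_right _ _ (Ideal.mem_span_singleton_self f))
        · rw [hμapp]
          have := hf.mul ((mem_homogeneousSubmodule _ _).mp hg)
          rwa [Nat.add_sub_cancel' hm] at this
  have hUW : (I.restrictScalars k ⊓ homogeneousSubmodule (Fin N) k m) ⊓
        (homogeneousSubmodule (Fin N) k (m - d)).map μ =
      (I.restrictScalars k ⊓ homogeneousSubmodule (Fin N) k (m - d)).map μ := by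
    apply le_antisymm
    · rintro _ ⟨⟨hx1, -⟩, ⟨g, hg, rfl⟩⟩
      refine Submodule.mem_map.mpr ⟨g, ⟨?_, hg⟩, rfl⟩
      exact hreg (m - d) g ((mem_homogeneousSubmodule _ _).mp hg) hx1
    · rintro _ ⟨g, ⟨hg1, hg2⟩, rfl⟩
      refine ⟨⟨?_, ?_⟩, Submodule.mem_map.mpr ⟨g, hg2, rfl⟩⟩
      · show μ g ∈ I
        rw [hμapp]
        exact Ideal.mul_mem_left _ _ hg1
      · rw [hμapp]
        have := hf.mul ((mem_homogeneousSubmodule _ _).mp hg2)
        rwa [Nat.add_sub_cancel' hm] at this
  haveI : ∀ e, Module.Finite k ↥(homogeneousSubmodule (Fin N) k e) :=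
    fun e => Groth.Agent.Helper19.HilbPlane.finite_homogeneousSubmodule e
  have h1 := Submodule.finrank_sup_add_finrank_inf_eq
    (I.restrictScalars k ⊓ homogeneousSubmodule (Fin N) k m)
    ((homogeneousSubmodule (Fin N) k (m - d)).map μ)
  rw [← hV, hUW] at h1
  rw [LinearEquiv.finrank_eq (Submodule.equivMapOfInjective μ hμ _).symm,
    LinearEquiv.finrank_eq (Submodule.equivMapOfInjective μ hμ _).symm] at h1
  exact h1

end step

section series

open PowerSeries in
theorem one_sub_X_pow_mul_mk_one (d : ℕ) :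
    ((1 : PowerSeries ℤ) - PowerSeries.X ^ d) * PowerSeries.mk 1 =
      ∑ e ∈ Finset.range d, PowerSeries.X ^ e := by
  have := geom_sum_mul_neg (PowerSeries.X : PowerSeries ℤ) d
  rw [← this, mul_assoc, mul_comm (1 - PowerSeries.X), PowerSeries.mk_one_mul_one_sub_eq_one,
    mul_one]

theorem coeff_prod_eq (n : ℕ) (d : ℕ → ℕ) :
    ∃ m₀, ∀ m, m₀ ≤ m →
      PowerSeries.coeff m ((∏ i ∈ Finset.range n, ((1 : PowerSeries ℤ) - PowerSeries.X ^ (d i))) *
        (PowerSeries.mk 1) ^ (n + 1)) = ∏ i ∈ Finset.range n, (d i : ℤ) := by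
  classical
  let Qp : Polynomial ℤ := ∏ i ∈ Finset.range n, ∑ e ∈ Finset.range (d i), Polynomial.X ^ e
  have hQ : (∏ i ∈ Finset.range n, ((1 : PowerSeries ℤ) - PowerSeries.X ^ (d i))) *
        (PowerSeries.mk 1) ^ (n + 1) = (Qp : PowerSeries ℤ) * PowerSeries.mk 1 := by
    rw [pow_succ, ← mul_assoc]
    congr 1
    have h1 : (PowerSeries.mk 1 : PowerSeries ℤ) ^ n =
        ∏ i ∈ Finset.range n, (PowerSeries.mk 1 : PowerSeries ℤ) := by
      rw [Finset.prod_const, Finset.card_range]
    rw [h1, ← Finset.prod_mul_distrib]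
    rw [← Polynomial.coeToPowerSeries.ringHom_apply, map_prod]
    apply Finset.prod_congr rfl
    intro i _
    rw [one_sub_X_pow_mul_mk_one, map_sum]
    apply Finset.sum_congr rfl
    intro e _
    rw [map_pow, Polynomial.coeToPowerSeries.ringHom_apply, Polynomial.coe_X]
  refine ⟨Qp.natDegree, fun m hm => ?_⟩
  rw [hQ, PowerSeries.coeff_mul, Finset.Nat.sum_antidiagonal_eq_sum_range_succ_mk]
  have h2 : Qp.eval 1 = ∑ a ∈ Finset.range m.succ, Qp.coeff a * 1 ^ a :=
    Polynomial.eval_eq_sum_range' (Nat.lt_succ_of_le hm) 1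
  have h3 : Qp.eval 1 = ∏ i ∈ Finset.range n, (d i : ℤ) := by
    rw [Polynomial.eval_prod]
    apply Finset.prod_congr rfl
    intro i _
    rw [Polynomial.eval_geom_sum]
    simp
  rw [← h3, h2]
  apply Finset.sum_congr rfl
  intro a _
  rw [Polynomial.coeff_coe, PowerSeries.coeff_mk, Pi.one_apply, one_pow]

end series

section main

attribute [local instance] MvPolynomial.gradedAlgebra

variable {k : Type u} [Field k]

theorem span_image_Iio_succ {R : Type*} [CommRing R] (f : ℕ → R) (j : ℕ) :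
    Ideal.span (f '' Set.Iio (j + 1)) = Ideal.span (f '' Set.Iio j) ⊔ Ideal.span {f j} := by
  rw [← Ideal.span_union]
  congr 1
  ext x
  simp only [Set.mem_image, Set.mem_Iio, Set.mem_union, Set.mem_singleton_iff]
  constructor
  · rintro ⟨i, hi, rfl⟩
    rcases Nat.lt_succ_iff_lt_or_eq.mp hi with h | h
    · exact Or.inl ⟨i, h, rfl⟩
    · exact Or.inr (by rw [h])
  · rintro (⟨i, hi, rfl⟩ | rfl)
    · exact ⟨i, Nat.lt_succ_of_lt hi, rfl⟩
    · exact ⟨j, Nat.lt_succ_self j, rfl⟩

theorem hilbert_coeff (n : ℕ)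
    (f : ℕ → MvPolynomial (Fin (n + 1)) k) (d : ℕ → ℕ) (hd : ∀ i, 1 ≤ d i)
    (hf : ∀ i, (f i).IsHomogeneous (d i))
    (hdim : ringKrullDim (MvPolynomial (Fin (n + 1)) k ⧸ Ideal.span (f '' Set.Iio n)) ≤ 1)
    (j : ℕ) (hj : j ≤ n) (m : ℕ) :
    (Module.finrank k ↥(homogeneousSubmodule (Fin (n + 1)) k m) : ℤ) -
      (Module.finrank k ↥((Ideal.span (f '' Set.Iio j)).restrictScalars k ⊓
        homogeneousSubmodule (Fin (n + 1)) k m) : ℤ) =
    PowerSeries.coeff m ((∏ i ∈ Finset.range j, ((1 : PowerSeries ℤ) - PowerSeries.X ^ (d i))) *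
        (PowerSeries.mk 1) ^ (n + 1)) := by
  classical
  induction j generalizing m with
  | zero =>
    have h0 : (Ideal.span (f '' Set.Iio 0)).restrictScalars k ⊓
        homogeneousSubmodule (Fin (n + 1)) k m = ⊥ := by
      rw [show Set.Iio 0 = (∅ : Set ℕ) from Set.eq_empty_of_forall_notMem (fun x hx => by
        simp at hx), Set.image_empty, Ideal.span_empty]
      rw [eq_bot_iff]
      rintro x ⟨hx, -⟩
      exact hx
    rw [h0, finrank_bot, Finset.range_zero, Finset.prod_empty, one_mul,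
      PowerSeries.mk_one_pow_eq_mk_choose_add, PowerSeries.coeff_mk,
      Groth.Agent.Helper19.HilbPlane.finrank_homogeneousSubmodule, Fintype.card_fin]
    simp only [Nat.cast_zero, sub_zero, Nat.cast_inj]
    rw [Nat.add_right_comm, Nat.add_sub_cancel, Nat.choose_symm_add]
  | succ j ih =>
    have hjn : j < n := hj
    have ihj := ih hjn.le
    have hIhom := isHomogeneous_span_image f d hf (Set.Iio j)
    have hreg : ∀ (e : ℕ) (g : MvPolynomial (Fin (n + 1)) k), g.IsHomogeneous e →
        f j * g ∈ Ideal.span (f '' Set.Iio j) → g ∈ Ideal.span (f '' Set.Iio j) :=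
      fun e g hg h => mem_of_mul_mem n f d hd hf hdim j hjn hg h
    have hIle : Ideal.span (f '' Set.Iio j) ≤ m0 k (n + 1) := by
      rw [Ideal.span_le]
      rintro _ ⟨i, -, rfl⟩
      exact mem_m0_of_isHomogeneous (hf i) (hd i)
    have hf0 : f j ≠ 0 := by
      intro h0
      have h1 : (1 : MvPolynomial (Fin (n + 1)) k) ∈ Ideal.span (f '' Set.Iio j) :=
        hreg 0 1 (isHomogeneous_one _ _) (by rw [h0, zero_mul]; exact zero_mem _)
      have h2 := hIle h1
      exact (m0 k (n + 1)).ne_top_iff_one.mp (Ideal.IsMaximal.ne_top inferInstance) h2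
    rw [Finset.prod_range_succ, mul_right_comm, mul_sub, mul_one, map_sub,
      PowerSeries.coeff_mul_X_pow', span_image_Iio_succ]
    by_cases hm : d j ≤ m
    · rw [if_pos hm, ← ihj m, ← ihj (m - d j)]
      have hstep := finrank_step _ hIhom (hf j) hf0 hreg hm
      have hstep' : (Module.finrank k ↥((Ideal.span (f '' Set.Iio j) ⊔
          Ideal.span {f j}).restrictScalars k ⊓ homogeneousSubmodule (Fin (n + 1)) k m) : ℤ) +
          (Module.finrank k ↥((Ideal.span (f '' Set.Iio j)).restrictScalars k ⊓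
            homogeneousSubmodule (Fin (n + 1)) k (m - d j)) : ℤ) =
          (Module.finrank k ↥((Ideal.span (f '' Set.Iio j)).restrictScalars k ⊓
            homogeneousSubmodule (Fin (n + 1)) k m) : ℤ) +
          (Module.finrank k ↥(homogeneousSubmodule (Fin (n + 1)) k (m - d j)) : ℤ) := by
        exact_mod_cast hstep
      linarith
    · rw [if_neg hm, sub_zero, ← ihj m, inf_sup_span_eq_of_lt _ hIhom (hf j) (not_le.mp hm)]

end main

theorem ringKrullDim_quotient_map_atPrime_le {P : Type*} [CommRing P] (I : Ideal P)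
    (q : Ideal (P ⧸ I)) [q.IsPrime] (R : Type*) [CommRing R] [Algebra P R]
    [IsLocalization.AtPrime R (q.comap (Ideal.Quotient.mk I))] :
    ringKrullDim (R ⧸ I.map (algebraMap P R)) ≤ q.height := by
  let q' := q.comap (Ideal.Quotient.mk I)
  let ψ : P ⧸ I →+* R ⧸ I.map (algebraMap P R) :=
    Ideal.quotientMap _ (algebraMap P R) Ideal.le_comap_map
  have hψ : ψ.comp (Ideal.Quotient.mk I) =
      (Ideal.Quotient.mk (I.map (algebraMap P R))).comp (algebraMap P R) :=
    Ideal.quotientMap_comp_mk _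
  have hψ' : ∀ x : P, ψ (Ideal.Quotient.mk I x) =
      Ideal.Quotient.mk (I.map (algebraMap P R)) (algebraMap P R x) := fun x =>
    congrArg (fun g => g x) hψ
  let Q : PrimeSpectrum (P ⧸ I) := ⟨q, inferInstance⟩
  have hle : ∀ p : PrimeSpectrum (R ⧸ I.map (algebraMap P R)), PrimeSpectrum.comap ψ p ≤ Q := by
    intro p y hy
    obtain ⟨x, rfl⟩ := Ideal.Quotient.mk_surjective y
    show Ideal.Quotient.mk I x ∈ q
    by_contra hx
    have hx' : x ∈ q'.primeCompl := hx
    have hu : IsUnit (algebraMap P R x) := IsLocalization.map_units R (⟨x, hx'⟩ : q'.primeCompl)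
    have hu' : IsUnit (ψ (Ideal.Quotient.mk I x)) := by
      rw [hψ']
      exact hu.map _
    exact p.2.ne_top (Ideal.eq_top_of_isUnit_mem _ hy hu')
  let F : PrimeSpectrum (R ⧸ I.map (algebraMap P R)) → Set.Iic Q :=
    fun p => ⟨PrimeSpectrum.comap ψ p, hle p⟩
  have hF : StrictMono F := by
    intro p1 p2 hlt
    refine lt_of_le_of_ne ?_ ?_
    · show PrimeSpectrum.comap ψ p1 ≤ PrimeSpectrum.comap ψ p2
      intro x hx
      exact hlt.le hx
    · intro heq
      have heq' : PrimeSpectrum.comap ψ p1 = PrimeSpectrum.comap ψ p2 := congrArg Subtype.val heq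
      apply hlt.ne
      apply PrimeSpectrum.ext
      apply Ideal.comap_injective_of_surjective (Ideal.Quotient.mk (I.map (algebraMap P R)))
        Ideal.Quotient.mk_surjective
      have h1 : ∀ p : PrimeSpectrum (R ⧸ I.map (algebraMap P R)),
          Ideal.comap (algebraMap P R) (Ideal.comap (Ideal.Quotient.mk _) p.asIdeal) =
          Ideal.comap (Ideal.Quotient.mk I) (PrimeSpectrum.comap ψ p).asIdeal := by
        intro p
        rw [PrimeSpectrum.comap_asIdeal, Ideal.comap_comap, Ideal.comap_comap, hψ]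
      have h2 := (h1 p1).trans ((congrArg (fun p => Ideal.comap (Ideal.Quotient.mk I)
        p.asIdeal) heq').trans (h1 p2).symm)
      rw [← IsLocalization.map_under q'.primeCompl R
          (Ideal.comap (Ideal.Quotient.mk _) p1.asIdeal),
        ← IsLocalization.map_under q'.primeCompl R
          (Ideal.comap (Ideal.Quotient.mk _) p2.asIdeal)]
      exact congrArg (Ideal.map (algebraMap P R)) h2
  have h1 := Order.krullDim_le_of_strictMono F hF
  have h2 : (q.height : WithBot ℕ∞) = Order.krullDim (Set.Iic Q) := by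
    rw [← Order.height_eq_krullDim_Iic, ← PrimeSpectrum.height_eq_orderHeight]
  rw [h2]
  exact h1

end Groth.Agent.Lib.Helper20.HilbCI
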