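import Mathlib
import Groth.Prelude.Def_LefMon
import Groth.Agent.S0101
import Groth.Agent.Lib.Helper22.EtLoc.HpullComp
import Groth.Agent.Lib.Helper20.AdjCoh

set_option autoImplicit false
universe u

open CategoryTheory CategoryTheory.Limits Opposite AlgebraicGeometry Abelian

namespace Groth.Agent.Lib.Helper20.HmapComp

variable {X Y Y' : Scheme.{u}}

set_option backward.isDefEq.respectTransparency.types false in
lemma compat (f : Y' ⟶ Y) (t : Y ⟶ X) (F : EtCoh.Ab Y') :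
    (EtCore.gsec X).map ((EtCoh.pushComp t f).hom.app F) ≫ (EtCore.pushGsecIso (f ≫ t)).hom.app F =
      (EtCore.pushGsecIso t).hom.app ((EtCoh.push f).obj F) ≫ (EtCore.pushGsecIso f).hom.app F := by
  simp [EtCore.pushGsecIso, EtCoh.pushComp]
  have hT : IsTerminal ((EtCoh.bc f).obj ((EtCoh.bc t).obj (EtCoh.top X))) :=
    IsTerminal.ofIso (EtCore.topIsTerminal Y')
      ((EtCoh.bc f).mapIso (EtCore.bcTopIso t) ≪≫ EtCore.bcTopIso f).symm
  have key : ∀ (a : (EtCoh.bc (f ≫ t)).obj (EtCoh.top X) ⟶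
      (EtCoh.bc f).obj ((EtCoh.bc t).obj (EtCoh.top X))),
      F.obj.map a.op ≫ F.obj.map (EtCore.bcTopIso (f ≫ t)).inv.op =
      F.obj.map ((EtCoh.bc f).map (EtCore.bcTopIso t).inv).op ≫
        F.obj.map (EtCore.bcTopIso f).inv.op := by
    intro a
    rw [← F.obj.map_comp, ← F.obj.map_comp, ← op_comp, ← op_comp]
    congr 2
    exact hT.hom_ext _ _
  exact key _

/-- coherence: `pullConst` is compatible with composition of pullbacks -/
lemma pullConst_comp (f : Y' ⟶ Y) (t : Y ⟶ X) (M : Type) [AddCommGroup M] :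
    (EtCore.pullComp f t).hom.app (EtCoh.const X M) ≫
      (EtCoh.pull f).map (EtCore.pullConst t M).hom ≫ (EtCore.pullConst f M).hom =
    (EtCore.pullConst (f ≫ t) M).hom :=
  Groth.Agent.Lib.Helper20.AdjCoh.leftAdjointUniq_comp_coherence
    (EtCore.constAdj X) (EtCore.constAdj Y) (EtCore.constAdj Y')
    (EtCoh.pullPushAdj t) (EtCoh.pullPushAdj f) (EtCoh.pullPushAdj (f ≫ t))
    (EtCore.pushGsecIso t) (EtCore.pushGsecIso f) (EtCore.pushGsecIso (f ≫ t))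
    (EtCoh.pushComp t f) (compat f t) (AddCommGrpCat.of (ULift.{u+1} M))

attribute [local instance] Groth.Agent.S0101.result

lemma Hmap_apply (ℓ : ℕ) (f : Y ⟶ X) (hf : PreservesFiniteLimits (EtCoh.pull f)) (i ν : ℕ)
    (x : EtAdic.Hmod X ℓ i ν) :
    EtAdic.Hmap ℓ f hf i ν x =
      (EtCore.Hpull f (EtCoh.const X (ZMod (ℓ ^ ν))) i x).comp
        (Ext.mk₀ (EtCore.pullConst f (ZMod (ℓ ^ ν))).hom) (add_zero i) := rfl

theorem Hmap_comp (ℓ : ℕ) (f : Y' ⟶ Y) (t : Y ⟶ X)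
    (hf : PreservesFiniteLimits (EtCoh.pull f)) (ht : PreservesFiniteLimits (EtCoh.pull t))
    (h₀ : PreservesFiniteLimits (EtCoh.pull (f ≫ t))) (i ν : ℕ) (x : EtAdic.Hmod X ℓ i ν) :
    EtAdic.Hmap ℓ (f ≫ t) h₀ i ν x = EtAdic.Hmap ℓ f hf i ν (EtAdic.Hmap ℓ t ht i ν x) := by
  rw [Hmap_apply, Hmap_apply, Hmap_apply,
    ← Groth.Agent.Lib.Helper22.EtLoc.HpullVia_Hpull f t (f ≫ t) rfl,
    Groth.Agent.Lib.Helper22.EtLoc.HpullVia_apply,
    Groth.Agent.Lib.Helper22.EtLoc.Hpull_naturality,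
    Ext.comp_assoc_of_third_deg_zero, Ext.comp_assoc_of_third_deg_zero,
    Ext.mk₀_comp_mk₀, Ext.mk₀_comp_mk₀]
  congr 2
  rw [← pullConst_comp f t]
  simp [Groth.Agent.Lib.Helper22.EtLoc.εIso, EtCore.pullCongr]

end Groth.Agent.Lib.Helper20.HmapComp
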