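import Mathlib

set_option autoImplicit false
universe u v w

namespace Groth.Agent.Lib.Helper20.Intertw

open Polynomial Module

variable {K : Type u} [Field K]

section Basic

variable {V₁ : Type v} {V₂ : Type w} [AddCommGroup V₁] [Module K V₁]
  [AddCommGroup V₂] [Module K V₂]

/-- The space of intertwiners `h` with `h ∘ π₁ = π₂ ∘ h`. -/
def Inter (π₁ : Module.End K V₁) (π₂ : Module.End K V₂) : Submodule K (V₁ →ₗ[K] V₂) :=
  LinearMap.ker (LinearMap.lcomp K V₂ π₁ - LinearMap.llcomp K V₁ V₂ V₂ π₂ :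
    (V₁ →ₗ[K] V₂) →ₗ[K] (V₁ →ₗ[K] V₂))

lemma mem_Inter {π₁ : Module.End K V₁} {π₂ : Module.End K V₂} {h : V₁ →ₗ[K] V₂} :
    h ∈ Inter π₁ π₂ ↔ ∀ x, h (π₁ x) = π₂ (h x) := by
  rw [Inter, LinearMap.mem_ker, LinearMap.sub_apply, sub_eq_zero]
  constructor
  · intro e x
    have := LinearMap.congr_fun e x
    simpa using this
  · intro e
    ext x
    simpa using e x

lemma Inter_aeval {π₁ : Module.End K V₁} {π₂ : Module.End K V₂} {h : V₁ →ₗ[K] V₂}
    (hh : h ∈ Inter π₁ π₂) (q : K[X]) (x : V₁) : h (aeval π₁ q x) = aeval π₂ q (h x) := by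
  rw [mem_Inter] at hh
  induction q using Polynomial.induction_on' generalizing x with
  | add p q hp hq => simp [hp, hq]
  | monomial n a =>
    simp only [aeval_monomial, Module.End.mul_apply, Module.algebraMap_end_apply, map_smul]
    congr 1
    induction n generalizing x with
    | zero => simp
    | succ n ih =>
      rw [pow_succ π₁, pow_succ π₂, Module.End.mul_apply, Module.End.mul_apply, ih, hh]

end Basic

section Transport

variable {V₁ : Type v} {V₂ : Type w} [AddCommGroup V₁] [Module K V₁]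
  [AddCommGroup V₂] [Module K V₂]
variable {V₁' : Type v} {V₂' : Type w} [AddCommGroup V₁'] [Module K V₁']
  [AddCommGroup V₂'] [Module K V₂']

/-- Transport of intertwiner spaces along equivariant linear equivalences. -/
noncomputable def interCongr {π₁ : Module.End K V₁} {π₂ : Module.End K V₂}
    {π₁' : Module.End K V₁'} {π₂' : Module.End K V₂'}
    (e₁ : V₁ ≃ₗ[K] V₁') (e₂ : V₂ ≃ₗ[K] V₂')
    (h₁ : ∀ x, e₁ (π₁ x) = π₁' (e₁ x)) (h₂ : ∀ x, e₂ (π₂ x) = π₂' (e₂ x)) :
    Inter π₁ π₂ ≃ₗ[K] Inter π₁' π₂' where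
  toFun h := ⟨e₂.toLinearMap ∘ₗ h.1 ∘ₗ e₁.symm.toLinearMap, by
    rw [mem_Inter]
    intro x
    have hh := mem_Inter.mp h.2
    simp only [LinearMap.comp_apply, LinearEquiv.coe_coe]
    have : e₁.symm (π₁' x) = π₁ (e₁.symm x) := by
      apply e₁.injective
      rw [h₁]; simp
    rw [this, hh, h₂]⟩
  invFun h := ⟨e₂.symm.toLinearMap ∘ₗ h.1 ∘ₗ e₁.toLinearMap, by
    rw [mem_Inter]
    intro x
    have hh := mem_Inter.mp h.2
    simp only [LinearMap.comp_apply, LinearEquiv.coe_coe]
    rw [h₁, hh]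
    apply e₂.injective
    rw [h₂]; simp⟩
  map_add' a b := by ext x; simp
  map_smul' c a := by ext x; simp
  left_inv h := by ext x; simp
  right_inv h := by ext x; simp

end Transport

section Prod

variable {V₁ : Type v} {V₂ : Type w} [AddCommGroup V₁] [Module K V₁]
  [AddCommGroup V₂] [Module K V₂]

/-- Intertwiners into a product. -/
noncomputable def interProdRight {A B : Type w} [AddCommGroup A] [Module K A] [AddCommGroup B]
    [Module K B] (π₁ : Module.End K V₁) (f : Module.End K A) (g : Module.End K B) :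
    Inter π₁ (f.prodMap g) ≃ₗ[K] (Inter π₁ f × Inter π₁ g) where
  toFun h := (⟨LinearMap.fst K A B ∘ₗ h.1, by
      rw [mem_Inter]; intro x
      have hh := mem_Inter.mp h.2 x
      simp only [LinearMap.comp_apply, hh, LinearMap.fst_apply, LinearMap.prodMap_apply]⟩,
    ⟨LinearMap.snd K A B ∘ₗ h.1, by
      rw [mem_Inter]; intro x
      have hh := mem_Inter.mp h.2 x
      simp only [LinearMap.comp_apply, hh, LinearMap.snd_apply, LinearMap.prodMap_apply]⟩)
  invFun ab := ⟨ab.1.1.prod ab.2.1, by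
      rw [mem_Inter]; intro x
      have h1 := mem_Inter.mp ab.1.2 x
      have h2 := mem_Inter.mp ab.2.2 x
      change ((ab.1.1 (π₁ x), ab.2.1 (π₁ x)) : A × B) = (f (ab.1.1 x), g (ab.2.1 x))
      rw [h1, h2]⟩
  map_add' a b := by ext x <;> simp
  map_smul' c a := by ext x <;> simp
  left_inv h := by ext x <;> simp
  right_inv h := by ext x <;> simp

/-- Intertwiners out of a product. -/
noncomputable def interProdLeft {A B : Type v} [AddCommGroup A] [Module K A] [AddCommGroup B]
    [Module K B] (f : Module.End K A) (g : Module.End K B) (π₂ : Module.End K V₂) :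
    Inter (f.prodMap g) π₂ ≃ₗ[K] (Inter f π₂ × Inter g π₂) where
  toFun h := (⟨h.1 ∘ₗ LinearMap.inl K A B, by
      rw [mem_Inter]; intro x
      have hh := mem_Inter.mp h.2 (x, 0)
      simp only [LinearMap.comp_apply, LinearMap.inl_apply]
      rw [← hh]; simp⟩,
    ⟨h.1 ∘ₗ LinearMap.inr K A B, by
      rw [mem_Inter]; intro x
      have hh := mem_Inter.mp h.2 (0, x)
      simp only [LinearMap.comp_apply, LinearMap.inr_apply]
      rw [← hh]; simp⟩)
  invFun ab := ⟨ab.1.1.coprod ab.2.1, by
      rw [mem_Inter]; intro x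
      have h1 := mem_Inter.mp ab.1.2 x.1
      have h2 := mem_Inter.mp ab.2.2 x.2
      simp only [LinearMap.coprod_apply, LinearMap.prodMap_apply, h1, h2, map_add]⟩
  map_add' a b := by ext x <;> simp
  map_smul' c a := by ext x <;> simp
  left_inv h := by
    ext x
    · simp
    · simp
  right_inv h := by ext x <;> simp

end Prod

end Groth.Agent.Lib.Helper20.Intertw
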