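import Mathlib
import Groth.Agent.Lib.Helper20.Intertw1

set_option autoImplicit false
universe u v w

namespace Groth.Agent.Lib.Helper20.Intertw

open Polynomial Module

variable {K : Type u} [Field K]

section Cyclic

variable {V₁ : Type v} {V₂ : Type w} [AddCommGroup V₁] [Module K V₁]
  [AddCommGroup V₂] [Module K V₂]

/-- The orbit map `q ↦ q(π) v`. -/
noncomputable def orb (π : Module.End K V₁) (v : V₁) : K[X] →ₗ[K] V₁ :=
  (LinearMap.applyₗ v : (V₁ →ₗ[K] V₁) →ₗ[K] V₁) ∘ₗ (aeval π).toLinearMap

@[simp] lemma orb_apply (π : Module.End K V₁) (v : V₁) (q : K[X]) : orb π v q = aeval π q v := rfl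

/-- `v` is a cyclic vector for `π`. -/
def IsCyc (π : Module.End K V₁) (v : V₁) : Prop := Function.Surjective (orb π v)

lemma aeval_eq_zero_of_cyc {π : Module.End K V₁} {v : V₁} (hv : IsCyc π v) {q : K[X]}
    (hq : aeval π q v = 0) : aeval π q = 0 := by
  ext x
  obtain ⟨r, rfl⟩ := hv x
  rw [orb_apply, ← Module.End.mul_apply, ← map_mul, mul_comm, map_mul, Module.End.mul_apply, hq,
    map_zero, LinearMap.zero_apply]

/-- Evaluation at a cyclic vector identifies the intertwiners with `ker (μ₁(π₂))`. -/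
theorem finrank_Inter_of_cyc [FiniteDimensional K V₁] [FiniteDimensional K V₂]
    {π₁ : Module.End K V₁} (π₂ : Module.End K V₂) {v : V₁} (hv : IsCyc π₁ v) :
    finrank K (Inter π₁ π₂) = finrank K (LinearMap.ker (aeval π₂ (minpoly K π₁))) := by
  -- evaluation map
  let ev : Inter π₁ π₂ →ₗ[K] V₂ :=
    (LinearMap.applyₗ v : (V₁ →ₗ[K] V₂) →ₗ[K] V₂) ∘ₗ (Inter π₁ π₂).subtype
  have hev : ∀ h : Inter π₁ π₂, ev h = h.1 v := fun h => rfl
  have hinj : Function.Injective ev := by
    rw [← LinearMap.ker_eq_bot, LinearMap.ker_eq_bot']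
    intro h hh
    rw [hev] at hh
    ext x
    obtain ⟨r, rfl⟩ := hv x
    rw [orb_apply, Inter_aeval h.2, hh, map_zero]
    simp
  have hrange : LinearMap.range ev = LinearMap.ker (aeval π₂ (minpoly K π₁)) := by
    apply le_antisymm
    · rintro _ ⟨h, rfl⟩
      rw [LinearMap.mem_ker, hev, ← Inter_aeval h.2, minpoly.aeval, LinearMap.zero_apply, map_zero]
    · intro w hw
      rw [LinearMap.mem_ker] at hw
      have hsurj : LinearMap.range (orb π₁ v) = ⊤ := LinearMap.range_eq_top.mpr hv
      obtain ⟨g, hg⟩ := LinearMap.exists_rightInverse_of_surjective (orb π₁ v) hsurj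
      have hker : ∀ q : K[X], orb π₁ v q = 0 → orb π₂ w q = 0 := by
        intro q hq
        rw [orb_apply] at hq
        have h0 := aeval_eq_zero_of_cyc hv hq
        obtain ⟨r, rfl⟩ := minpoly.dvd K π₁ h0
        rw [orb_apply, mul_comm, map_mul, Module.End.mul_apply, hw, map_zero]
      have hfac : ∀ q : K[X], orb π₂ w (g (orb π₁ v q)) = orb π₂ w q := by
        intro q
        have : orb π₁ v (g (orb π₁ v q) - q) = 0 := by
          rw [map_sub]
          have := LinearMap.congr_fun hg (orb π₁ v q)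
          simp only [LinearMap.comp_apply, LinearMap.id_apply] at this
          rw [this, sub_self]
        have := hker _ this
        rwa [map_sub, sub_eq_zero] at this
      let h : V₁ →ₗ[K] V₂ := orb π₂ w ∘ₗ g
      have hmem : h ∈ Inter π₁ π₂ := by
        rw [mem_Inter]
        intro x
        obtain ⟨r, rfl⟩ := hv x
        have e1 : π₁ (orb π₁ v r) = orb π₁ v (X * r) := by
          simp only [orb_apply, map_mul, aeval_X, Module.End.mul_apply]
        rw [e1]
        change orb π₂ w (g (orb π₁ v (X * r))) = π₂ (orb π₂ w (g (orb π₁ v r)))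
        rw [hfac, hfac]
        simp only [orb_apply, map_mul, aeval_X, Module.End.mul_apply]
      refine ⟨⟨h, hmem⟩, ?_⟩
      rw [hev]
      change orb π₂ w (g v) = w
      have hv1 : v = orb π₁ v 1 := by simp
      rw [hv1, hfac]
      simp
  rw [← hrange, LinearMap.finrank_range_of_inj hinj]

end Cyclic

end Groth.Agent.Lib.Helper20.Intertw
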