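import Mathlib
import Groth.Agent.Lib.Helper20.Intertw1
import Groth.Agent.Lib.Helper20.Intertw2

set_option autoImplicit false
universe u v w

namespace Groth.Agent.Lib.Helper20.Intertw

open Polynomial Module

variable {K : Type u} [Field K]

section Simple

variable {V : Type v} [AddCommGroup V] [Module K V]

/-- `π` is simple: `V ≠ 0` and the only invariant subspaces are `⊥` and `⊤`. -/
def IsSimpleEnd (π : Module.End K V) : Prop :=
  Nontrivial V ∧ ∀ p ∈ π.invtSubmodule, p = ⊥ ∨ p = ⊤

lemma ker_aeval_mem_invt (π : Module.End K V) (q : K[X]) :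
    LinearMap.ker (aeval π q) ∈ π.invtSubmodule := by
  rw [Module.End.mem_invtSubmodule]
  intro x hx
  rw [Submodule.mem_comap, LinearMap.mem_ker] at *
  have : aeval π q (π x) = π (aeval π q x) := by
    rw [← Module.End.mul_apply, ← Module.End.mul_apply]
    congr 1
    have h1 : aeval π (q * X) = aeval π (X * q) := by rw [mul_comm]
    simpa [map_mul] using h1
  rw [this, hx, map_zero]

lemma range_orb_mem_invt (π : Module.End K V) (v : V) :
    LinearMap.range (orb π v) ∈ π.invtSubmodule := by
  rw [Module.End.mem_invtSubmodule]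
  rintro _ ⟨q, rfl⟩
  rw [Submodule.mem_comap]
  refine ⟨X * q, ?_⟩
  simp only [orb_apply, map_mul, aeval_X, Module.End.mul_apply]

lemma IsSimpleEnd.isCyc {π : Module.End K V} (h : IsSimpleEnd π) {v : V} (hv : v ≠ 0) :
    IsCyc π v := by
  rcases h.2 _ (range_orb_mem_invt π v) with h0 | h1
  · exfalso
    have : v ∈ LinearMap.range (orb π v) := ⟨1, by simp⟩
    rw [h0, Submodule.mem_bot] at this
    exact hv this
  · exact LinearMap.range_eq_top.mp h1

variable [FiniteDimensional K V]

lemma IsSimpleEnd.irreducible_minpoly {π : Module.End K V} (h : IsSimpleEnd π) :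
    Irreducible (minpoly K π) := by
  have _ := h.1
  rw [irreducible_iff]
  refine ⟨minpoly.not_isUnit K π, ?_⟩
  intro a b hab
  have hne : minpoly K π ≠ 0 := minpoly.ne_zero (LinearMap.isIntegral π)
  have ha0 : a ≠ 0 := by rintro rfl; rw [zero_mul] at hab; exact hne hab
  have hb0 : b ≠ 0 := by rintro rfl; rw [mul_zero] at hab; exact hne hab
  rcases h.2 _ (ker_aeval_mem_invt π a) with h0 | h1
  · -- `a(π)` injective, hence `b(π) = 0`
    left
    have hb : aeval π b = 0 := by
      ext x
      have : aeval π a (aeval π b x) = 0 := by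
        rw [← Module.End.mul_apply, ← map_mul, ← hab, minpoly.aeval, LinearMap.zero_apply]
      have hmem : aeval π b x ∈ LinearMap.ker (aeval π a) := this
      rw [h0, Submodule.mem_bot] at hmem
      rw [hmem, LinearMap.zero_apply]
    obtain ⟨c, hc⟩ := minpoly.dvd K π hb
    -- μ = a b = a μ c ⇒ a c = 1
    have : minpoly K π * 1 = minpoly K π * (a * c) := by
      rw [mul_one]
      conv_lhs => rw [hab, hc]
      ring
    have h1 := mul_left_cancel₀ hne this
    exact IsUnit.of_mul_eq_one _ h1.symm
  · right
    have ha : aeval π a = 0 := by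
      ext x
      have hmem : x ∈ LinearMap.ker (aeval π a) := by rw [h1]; trivial
      rw [LinearMap.mem_ker.mp hmem, LinearMap.zero_apply]
    obtain ⟨c, hc⟩ := minpoly.dvd K π ha
    have : minpoly K π * 1 = minpoly K π * (b * c) := by
      rw [mul_one]
      conv_lhs => rw [hab, hc]
      ring
    have h1 := mul_left_cancel₀ hne this
    exact IsUnit.of_mul_eq_one _ h1.symm

lemma IsSimpleEnd.finrank_eq {π : Module.End K V} (h : IsSimpleEnd π) :
    finrank K V = (minpoly K π).natDegree := by
  have _ := h.1
  obtain ⟨v, hv⟩ := exists_ne (0 : V)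
  have hcyc := h.isCyc hv
  have hker : LinearMap.ker (orb π v)
      = (Ideal.span {minpoly K π}).restrictScalars K := by
    ext q
    rw [LinearMap.mem_ker, orb_apply, Submodule.restrictScalars_mem, Ideal.mem_span_singleton]
    constructor
    · intro hq
      exact minpoly.dvd K π (aeval_eq_zero_of_cyc hcyc hq)
    · rintro ⟨c, rfl⟩
      rw [map_mul, minpoly.aeval, zero_mul, LinearMap.zero_apply]
  have e := (orb π v).quotKerEquivOfSurjective hcyc
  rw [← e.finrank_eq]
  have e2 : (K[X] ⧸ LinearMap.ker (orb π v)) ≃ₗ[K]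
      (K[X] ⧸ (Ideal.span {minpoly K π}).restrictScalars K) :=
    Submodule.quotEquivOfEq _ _ hker
  have e3 : (K[X] ⧸ (Ideal.span {minpoly K π}).restrictScalars K) ≃ₗ[K]
      (K[X] ⧸ Ideal.span {minpoly K π}) :=
    Submodule.Quotient.restrictScalarsEquiv K (Ideal.span {minpoly K π})
  rw [e2.finrank_eq, e3.finrank_eq, finrank_quotient_span_eq_natDegree]

lemma IsSimpleEnd.charpoly_eq {π : Module.End K V} (h : IsSimpleEnd π) :
    LinearMap.charpoly π = minpoly K π := by
  apply Polynomial.eq_of_monic_of_dvd_of_natDegree_le (minpoly.monic (LinearMap.isIntegral π))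
    (LinearMap.charpoly_monic π) (LinearMap.minpoly_dvd_charpoly π)
  rw [LinearMap.charpoly_natDegree, h.finrank_eq]

end Simple

end Groth.Agent.Lib.Helper20.Intertw
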