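import Mathlib
import Groth.Agent.Lib.Helper20.Intertw1
import Groth.Agent.Lib.Helper20.Intertw2
import Groth.Agent.Lib.Helper20.Intertw3

set_option autoImplicit false
universe u v w
open scoped Classical

namespace Groth.Agent.Lib.Helper20.Intertw

open Polynomial Module UniqueFactorizationMonoid

variable {K : Type u} [Field K]

/-- The count pairing of two multisets of polynomials. -/
noncomputable def R (m₁ m₂ : Multiset K[X]) : ℕ :=
  ∑ P ∈ m₁.toFinset, m₁.count P * m₂.count P * P.natDegree

lemma R_eq_sum_of_subset (m₁ m₂ : Multiset K[X]) (s : Finset K[X]) (hs : m₁.toFinset ⊆ s) :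
    R m₁ m₂ = ∑ P ∈ s, m₁.count P * m₂.count P * P.natDegree := by
  unfold R
  apply Finset.sum_subset hs
  intro P _ hP
  rw [Multiset.mem_toFinset] at hP
  rw [Multiset.count_eq_zero_of_notMem hP, zero_mul, zero_mul]

lemma R_add_left (a b m : Multiset K[X]) : R (a + b) m = R a m + R b m := by
  rw [R_eq_sum_of_subset a m (a + b).toFinset (by
        intro P hP; rw [Multiset.mem_toFinset] at *; exact Multiset.mem_add.mpr (Or.inl hP)),
    R_eq_sum_of_subset b m (a + b).toFinset (by
        intro P hP; rw [Multiset.mem_toFinset] at *; exact Multiset.mem_add.mpr (Or.inr hP)),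
    ← Finset.sum_add_distrib]
  unfold R
  refine Finset.sum_congr rfl fun P _ => ?_
  rw [Multiset.count_add]
  ring

lemma R_add_right (m a b : Multiset K[X]) : R m (a + b) = R m a + R m b := by
  unfold R
  rw [← Finset.sum_add_distrib]
  refine Finset.sum_congr rfl fun P _ => ?_
  rw [Multiset.count_add]
  ring

lemma R_zero_left (m : Multiset K[X]) : R 0 m = 0 := by
  unfold R; simp

lemma R_zero_right (m : Multiset K[X]) : R m 0 = 0 := by
  unfold R; simp

lemma R_singleton (P Q : K[X]) :
    R ({P} : Multiset K[X]) {Q} = if P = Q then P.natDegree else 0 := by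
  unfold R
  simp only [Multiset.toFinset_singleton, Finset.sum_singleton, Multiset.count_singleton_self,
    one_mul]
  by_cases h : P = Q
  · subst h
    simp
  · rw [if_neg h, Multiset.count_singleton, if_neg h, zero_mul]

section SS

variable {V₁ : Type v} {V₂ : Type w} [AddCommGroup V₁] [Module K V₁] [FiniteDimensional K V₁]
  [AddCommGroup V₂] [Module K V₂] [FiniteDimensional K V₂]

/-- The target identity. -/
def Tprop (π₁ : Module.End K V₁) (π₂ : Module.End K V₂) : Prop :=
  finrank K (Inter π₁ π₂) =
    R (normalizedFactors (LinearMap.charpoly π₁)) (normalizedFactors (LinearMap.charpoly π₂))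

lemma nf_charpoly_of_simple {π : Module.End K V₁} (h : IsSimpleEnd π) :
    normalizedFactors (LinearMap.charpoly π) = {LinearMap.charpoly π} := by
  have hirr : Irreducible (LinearMap.charpoly π) := by
    rw [h.charpoly_eq]; exact h.irreducible_minpoly
  rw [normalizedFactors_irreducible hirr, (LinearMap.charpoly_monic π).normalize_eq_self]

theorem Tprop_simple_simple {π₁ : Module.End K V₁} {π₂ : Module.End K V₂}
    (h₁ : IsSimpleEnd π₁) (h₂ : IsSimpleEnd π₂) : Tprop π₁ π₂ := by
  have _ := h₁.1
  unfold Tprop
  rw [nf_charpoly_of_simple h₁, nf_charpoly_of_simple h₂, R_singleton]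
  obtain ⟨v, hv⟩ := exists_ne (0 : V₁)
  rw [finrank_Inter_of_cyc π₂ (h₁.isCyc hv)]
  by_cases hc : LinearMap.charpoly π₁ = LinearMap.charpoly π₂
  · rw [if_pos hc]
    have hμ : minpoly K π₁ = minpoly K π₂ := by rw [← h₁.charpoly_eq, ← h₂.charpoly_eq, hc]
    have : LinearMap.ker (aeval π₂ (minpoly K π₁)) = ⊤ := by
      rw [hμ, minpoly.aeval, LinearMap.ker_zero]
    rw [this, finrank_top, h₂.finrank_eq, hc, h₂.charpoly_eq]
  · rw [if_neg hc]
    rcases h₂.2 _ (ker_aeval_mem_invt π₂ (minpoly K π₁)) with h0 | h1
    · rw [h0, finrank_bot]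
    · exfalso
      have hz : aeval π₂ (minpoly K π₁) = 0 := by
        ext x
        have hmem : x ∈ LinearMap.ker (aeval π₂ (minpoly K π₁)) := by rw [h1]; trivial
        rw [LinearMap.mem_ker.mp hmem, LinearMap.zero_apply]
      have hdvd := minpoly.dvd K π₂ hz
      have hass := h₂.irreducible_minpoly.associated_of_dvd h₁.irreducible_minpoly hdvd
      have heq := Polynomial.eq_of_monic_of_associated (minpoly.monic (LinearMap.isIntegral π₂))
        (minpoly.monic (LinearMap.isIntegral π₁)) hass
      apply hc
      rw [h₁.charpoly_eq, h₂.charpoly_eq, heq]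

end SS

end Groth.Agent.Lib.Helper20.Intertw
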