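import Mathlib
import Groth.Agent.Lib.Helper20.Intertw1
import Groth.Agent.Lib.Helper20.Intertw2
import Groth.Agent.Lib.Helper20.Intertw3
import Groth.Agent.Lib.Helper20.Intertw4

set_option autoImplicit false
universe u v w
open scoped Classical

namespace Groth.Agent.Lib.Helper20.Intertw

open Polynomial Module UniqueFactorizationMonoid

variable {K : Type u} [Field K]

section Dec

variable {V : Type v} [AddCommGroup V] [Module K V] [FiniteDimensional K V]

/-- A semisimple endomorphism of a nonzero space has a simple invariant summand. -/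
theorem exists_simple_summand {π : Module.End K V} (hss : π.IsSemisimple) [Nontrivial V] :
    ∃ (A B : Submodule K V) (hA : A ∈ π.invtSubmodule) (hB : B ∈ π.invtSubmodule),
      IsCompl A B ∧ IsSimpleEnd (π.restrict hA) ∧ finrank K B < finrank K V := by
  have hex : ∃ n : ℕ, ∃ p ∈ π.invtSubmodule, p ≠ ⊥ ∧ finrank K p = n :=
    ⟨_, ⊤, Module.End.invtSubmodule.top_mem π, top_ne_bot, rfl⟩
  obtain ⟨A, hA, hA0, hAn⟩ := Nat.find_spec hex
  have hmin : ∀ p ∈ π.invtSubmodule, p ≠ ⊥ → finrank K A ≤ finrank K p := by
    intro p hp hp0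
    rw [hAn]
    exact Nat.find_min' hex ⟨p, hp, hp0, rfl⟩
  obtain ⟨B, hB, hAB⟩ := (Module.End.isSemisimple_iff.mp hss) A hA
  refine ⟨A, B, hA, hB, hAB, ⟨?_, ?_⟩, ?_⟩
  · exact Submodule.nontrivial_iff_ne_bot.mpr hA0
  · intro q hq
    by_cases hq0 : q = ⊥
    · exact Or.inl hq0
    right
    have hq' : q.map A.subtype ∈ π.invtSubmodule := by
      rw [Module.End.mem_invtSubmodule]
      rintro _ ⟨y, hy, rfl⟩
      rw [Submodule.mem_comap]
      refine ⟨(π.restrict hA) y, ?_, rfl⟩
      rw [Module.End.mem_invtSubmodule] at hq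
      exact hq hy
    have hq'0 : q.map A.subtype ≠ ⊥ := by
      intro h
      apply hq0
      apply Submodule.map_injective_of_injective A.subtype_injective
      rw [h, Submodule.map_bot]
    have hle : q.map A.subtype ≤ A := by
      rintro _ ⟨y, _, rfl⟩
      exact y.2
    have hfr : finrank K (q.map A.subtype) = finrank K q :=
      (Submodule.equivMapOfInjective A.subtype A.subtype_injective q).finrank_eq.symm
    have heq : q.map A.subtype = A := by
      apply Submodule.eq_of_le_of_finrank_le hle
      exact hmin _ hq' hq'0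
    rw [eq_top_iff]
    rintro x -
    have hx : (x : V) ∈ q.map A.subtype := by rw [heq]; exact x.2
    obtain ⟨y, hy, hyx⟩ := hx
    have : y = x := Subtype.ext hyx
    rwa [← this]
  · have h1 := Submodule.finrank_add_eq_of_isCompl hAB
    have h2 : 0 < finrank K A :=
      Module.finrank_pos_iff.mpr (Submodule.nontrivial_iff_ne_bot.mpr hA0)
    omega

end Dec

section Model

variable {V : Type v} [AddCommGroup V] [Module K V] [FiniteDimensional K V]

lemma prodEquiv_intertwine {π : Module.End K V} {A B : Submodule K V}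
    (hA : A ∈ π.invtSubmodule) (hB : B ∈ π.invtSubmodule) (hAB : IsCompl A B)
    (x : A × B) :
    Submodule.prodEquivOfIsCompl A B hAB (((π.restrict hA).prodMap (π.restrict hB)) x)
      = π (Submodule.prodEquivOfIsCompl A B hAB x) := by
  simp only [Submodule.coe_prodEquivOfIsCompl', LinearMap.prodMap_apply, map_add]
  rfl

lemma charpoly_of_isCompl {π : Module.End K V} {A B : Submodule K V}
    (hA : A ∈ π.invtSubmodule) (hB : B ∈ π.invtSubmodule) (hAB : IsCompl A B) :
    LinearMap.charpoly π
      = LinearMap.charpoly (π.restrict hA) * LinearMap.charpoly (π.restrict hB) := by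
  rw [← LinearMap.charpoly_prodMap,
    ← LinearEquiv.charpoly_conj (Submodule.prodEquivOfIsCompl A B hAB)]
  congr 1
  ext x
  rw [LinearEquiv.conj_apply_apply, prodEquiv_intertwine, LinearEquiv.apply_symm_apply]

end Model

end Groth.Agent.Lib.Helper20.Intertw
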