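import Mathlib
import Groth.Agent.Lib.Helper20.Intertw1
import Groth.Agent.Lib.Helper20.Intertw2
import Groth.Agent.Lib.Helper20.Intertw3
import Groth.Agent.Lib.Helper20.Intertw4
import Groth.Agent.Lib.Helper20.Intertw5

set_option autoImplicit false
universe u v w
open scoped Classical

namespace Groth.Agent.Lib.Helper20.Intertw

open Polynomial Module UniqueFactorizationMonoid

variable {K : Type u} [Field K]

section Additivity

variable {V₁ : Type v} {V₂ : Type w} [AddCommGroup V₁] [Module K V₁] [FiniteDimensional K V₁]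
  [AddCommGroup V₂] [Module K V₂] [FiniteDimensional K V₂]

lemma finrank_Inter_right {π₁ : Module.End K V₁} {π : Module.End K V₂} {A B : Submodule K V₂}
    (hA : A ∈ π.invtSubmodule) (hB : B ∈ π.invtSubmodule) (hAB : IsCompl A B) :
    finrank K (Inter π₁ π) =
      finrank K (Inter π₁ (π.restrict hA)) + finrank K (Inter π₁ (π.restrict hB)) := by
  have e1 : Inter π₁ ((π.restrict hA).prodMap (π.restrict hB)) ≃ₗ[K] Inter π₁ π :=
    interCongr (LinearEquiv.refl K V₁) (Submodule.prodEquivOfIsCompl A B hAB)
      (fun x => rfl) (prodEquiv_intertwine hA hB hAB)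
  have : Module.Free K (Inter π₁ (π.restrict hA)) :=
    @Module.Free.of_divisionRing K _ _ (Submodule.addCommGroup _) (Submodule.module _)
  have : Module.Free K (Inter π₁ (π.restrict hB)) :=
    @Module.Free.of_divisionRing K _ _ (Submodule.addCommGroup _) (Submodule.module _)
  have : Module.Finite K (Inter π₁ (π.restrict hA)) :=
    inferInstanceAs (Module.Finite K (LinearMap.ker _))
  have : Module.Finite K (Inter π₁ (π.restrict hB)) :=
    inferInstanceAs (Module.Finite K (LinearMap.ker _))
  rw [← e1.finrank_eq, (interProdRight π₁ (π.restrict hA) (π.restrict hB)).finrank_eq,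
    Module.finrank_prod]

lemma finrank_Inter_left {π : Module.End K V₁} {π₂ : Module.End K V₂} {A B : Submodule K V₁}
    (hA : A ∈ π.invtSubmodule) (hB : B ∈ π.invtSubmodule) (hAB : IsCompl A B) :
    finrank K (Inter π π₂) =
      finrank K (Inter (π.restrict hA) π₂) + finrank K (Inter (π.restrict hB) π₂) := by
  have e1 : Inter ((π.restrict hA).prodMap (π.restrict hB)) π₂ ≃ₗ[K] Inter π π₂ :=
    interCongr (Submodule.prodEquivOfIsCompl A B hAB) (LinearEquiv.refl K V₂)
      (prodEquiv_intertwine hA hB hAB) (fun x => rfl)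
  have : Module.Free K (Inter (π.restrict hA) π₂) :=
    @Module.Free.of_divisionRing K _ _ (Submodule.addCommGroup _) (Submodule.module _)
  have : Module.Free K (Inter (π.restrict hB) π₂) :=
    @Module.Free.of_divisionRing K _ _ (Submodule.addCommGroup _) (Submodule.module _)
  have : Module.Finite K (Inter (π.restrict hA) π₂) :=
    inferInstanceAs (Module.Finite K (LinearMap.ker _))
  have : Module.Finite K (Inter (π.restrict hB) π₂) :=
    inferInstanceAs (Module.Finite K (LinearMap.ker _))
  rw [← e1.finrank_eq, (interProdLeft (π.restrict hA) (π.restrict hB) π₂).finrank_eq,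
    Module.finrank_prod]

lemma Tprop_right {π₁ : Module.End K V₁} {π : Module.End K V₂} {A B : Submodule K V₂}
    (hA : A ∈ π.invtSubmodule) (hB : B ∈ π.invtSubmodule) (hAB : IsCompl A B)
    (h1 : Tprop π₁ (π.restrict hA)) (h2 : Tprop π₁ (π.restrict hB)) : Tprop π₁ π := by
  unfold Tprop at *
  rw [finrank_Inter_right hA hB hAB, h1, h2, charpoly_of_isCompl hA hB hAB,
    normalizedFactors_mul (LinearMap.charpoly_monic _).ne_zero (LinearMap.charpoly_monic _).ne_zero,
    R_add_right]

lemma Tprop_left {π : Module.End K V₁} {π₂ : Module.End K V₂} {A B : Submodule K V₁}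
    (hA : A ∈ π.invtSubmodule) (hB : B ∈ π.invtSubmodule) (hAB : IsCompl A B)
    (h1 : Tprop (π.restrict hA) π₂) (h2 : Tprop (π.restrict hB) π₂) : Tprop π π₂ := by
  unfold Tprop at *
  rw [finrank_Inter_left hA hB hAB, h1, h2, charpoly_of_isCompl hA hB hAB,
    normalizedFactors_mul (LinearMap.charpoly_monic _).ne_zero (LinearMap.charpoly_monic _).ne_zero,
    R_add_left]

lemma charpoly_eq_one_of_subsingleton {V : Type*} [AddCommGroup V] [Module K V]
    [FiniteDimensional K V] [Subsingleton V] (π : Module.End K V) : LinearMap.charpoly π = 1 := by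
  apply Polynomial.eq_one_of_monic_natDegree_zero (LinearMap.charpoly_monic π)
  rw [LinearMap.charpoly_natDegree, Module.finrank_zero_of_subsingleton]

lemma Tprop_of_subsingleton_right (π₁ : Module.End K V₁) (π₂ : Module.End K V₂)
    [Subsingleton V₂] : Tprop π₁ π₂ := by
  unfold Tprop
  rw [charpoly_eq_one_of_subsingleton π₂, normalizedFactors_one, R_zero_right]
  have : Subsingleton (V₁ →ₗ[K] V₂) := ⟨fun a b => by ext x; exact Subsingleton.elim _ _⟩
  exact Module.finrank_zero_of_subsingleton

lemma Tprop_of_subsingleton_left (π₁ : Module.End K V₁) (π₂ : Module.End K V₂)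
    [Subsingleton V₁] : Tprop π₁ π₂ := by
  unfold Tprop
  rw [charpoly_eq_one_of_subsingleton π₁, normalizedFactors_one, R_zero_left]
  have : Subsingleton (V₁ →ₗ[K] V₂) := ⟨fun a b => by
    ext x; rw [Subsingleton.elim x 0, map_zero, map_zero]⟩
  exact Module.finrank_zero_of_subsingleton

end Additivity

section Induction

theorem Tprop_simple_left {V₁ : Type v} [AddCommGroup V₁] [Module K V₁] [FiniteDimensional K V₁]
    {π₁ : Module.End K V₁} (h₁ : IsSimpleEnd π₁) :
    ∀ (n : ℕ) (V₂ : Type w) [AddCommGroup V₂] [Module K V₂] [FiniteDimensional K V₂]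
      (π₂ : Module.End K V₂), π₂.IsSemisimple → finrank K V₂ = n → Tprop π₁ π₂ := by
  intro n
  induction n using Nat.strong_induction_on with
  | _ n ih =>
    intro V₂ _ _ _ π₂ hss hn
    rcases subsingleton_or_nontrivial V₂ with hs | hnt
    · exact Tprop_of_subsingleton_right π₁ π₂
    · obtain ⟨A, B, hA, hB, hAB, hsimple, hlt⟩ := exists_simple_summand hss
      exact Tprop_right hA hB hAB (Tprop_simple_simple h₁ hsimple)
        (ih (finrank K B) (hn ▸ hlt) B (π₂.restrict hB) (hss.restrict hB) rfl)

theorem Tprop_semisimple {V₂ : Type w} [AddCommGroup V₂] [Module K V₂] [FiniteDimensional K V₂]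
    {π₂ : Module.End K V₂} (h₂ : π₂.IsSemisimple) :
    ∀ (n : ℕ) (V₁ : Type v) [AddCommGroup V₁] [Module K V₁] [FiniteDimensional K V₁]
      (π₁ : Module.End K V₁), π₁.IsSemisimple → finrank K V₁ = n → Tprop π₁ π₂ := by
  intro n
  induction n using Nat.strong_induction_on with
  | _ n ih =>
    intro V₁ _ _ _ π₁ hss hn
    rcases subsingleton_or_nontrivial V₁ with hs | hnt
    · exact Tprop_of_subsingleton_left π₁ π₂
    · obtain ⟨A, B, hA, hB, hAB, hsimple, hlt⟩ := exists_simple_summand hss
      exact Tprop_left hA hB hAB (Tprop_simple_left hsimple _ V₂ π₂ h₂ rfl)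
        (ih (finrank K B) (hn ▸ hlt) B (π₁.restrict hB) (hss.restrict hB) rfl)

end Induction

open UniqueFactorizationMonoid in
/-- Main theorem (statement form of S16837). -/
theorem main (K : Type u) [Field K]
    (V₁ : Type v) (V₂ : Type w) [AddCommGroup V₁] [Module K V₁] [FiniteDimensional K V₁]
    [AddCommGroup V₂] [Module K V₂] [FiniteDimensional K V₂]
    (π₁ : Module.End K V₁) (π₂ : Module.End K V₂) (h₁ : π₁.IsSemisimple) (h₂ : π₂.IsSemisimple) :
    Module.finrank K (LinearMap.ker (LinearMap.lcomp K V₂ π₁ - LinearMap.llcomp K V₁ V₂ V₂ π₂ :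
        (V₁ →ₗ[K] V₂) →ₗ[K] (V₁ →ₗ[K] V₂))) =
      ∑ P ∈ (normalizedFactors π₁.charpoly).toFinset,
        (normalizedFactors π₁.charpoly).count P * (normalizedFactors π₂.charpoly).count P * P.natDegree :=
  Tprop_semisimple h₂ _ V₁ π₁ h₁ rfl

end Groth.Agent.Lib.Helper20.Intertw
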