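import Mathlib
import Groth.Agent.S18890

set_option autoImplicit false

/-!
# Rings of invariants of a finite group of invertible order commute with base change
-/

namespace Groth.Agent.Lib.Helper20.InvBaseChange

open TensorProduct

section NoethInv

/-- Invariants of a finite group acting on a finite type algebra over a Noetherian ring are of
finite presentation (E. Noether / Artin–Tate). -/
theorem finitePresentation_fixedPoints_of_isNoetherianRing (R₀ S₀ : Type*) [CommRing R₀]
    [CommRing S₀] [Algebra R₀ S₀] [IsNoetherianRing R₀] [Algebra.FiniteType R₀ S₀]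
    (G : Type*) [Group G] [Finite G] [MulSemiringAction G S₀] [SMulCommClass G R₀ S₀] :
    Algebra.FinitePresentation R₀ (FixedPoints.subalgebra R₀ S₀ G) := by
  haveI : Algebra.IsInvariant (FixedPoints.subalgebra R₀ S₀ G) S₀ G :=
    ⟨fun b hb => ⟨⟨b, hb⟩, rfl⟩⟩
  haveI : Algebra.IsIntegral (FixedPoints.subalgebra R₀ S₀ G) S₀ :=
    Algebra.IsInvariant.isIntegral (FixedPoints.subalgebra R₀ S₀ G) S₀ G
  haveI : Algebra.FiniteType (FixedPoints.subalgebra R₀ S₀ G) S₀ :=
    Algebra.FiniteType.of_restrictScalars_finiteType R₀ _ S₀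
  haveI : Module.Finite (FixedPoints.subalgebra R₀ S₀ G) S₀ := Algebra.IsIntegral.finite
  have hfg : (⊤ : Subalgebra R₀ (FixedPoints.subalgebra R₀ S₀ G)).FG :=
    fg_of_fg_of_fg R₀ (FixedPoints.subalgebra R₀ S₀ G) S₀
      (Algebra.FiniteType.out) (Module.Finite.fg_top) Subtype.val_injective
  haveI : Algebra.FiniteType R₀ (FixedPoints.subalgebra R₀ S₀ G) := ⟨hfg⟩
  exact Algebra.FinitePresentation.of_finiteType.mp inferInstance

end NoethInv

section BaseChange

variable {R₀ : Type*} [CommRing R₀] {S₀ : Type*} [CommRing S₀] [Algebra R₀ S₀]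
  {G : Type*} [Group G] [Finite G] [MulSemiringAction G S₀] [SMulCommClass G R₀ S₀]
  {R : Type*} [CommRing R] [Algebra R₀ R] {A : Type*} [CommRing A] [Algebra R A] [Algebra R₀ A]
  [IsScalarTower R₀ R A] [MulSemiringAction G A] [SMulCommClass G R A]

/-- Invariants commute with base change when the order of the group is invertible: finite
presentation of the invariants passes from a model to its base change. -/
theorem finitePresentation_fixedPoints_of_baseChange (hG : IsUnit ((Nat.card G : ℕ) : R₀))
    (φ : S₀ →ₐ[R₀] A) (hφ : ∀ (g : G) (s : S₀), φ (g • s) = g • φ s)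
    (hbij : Function.Bijective
      (Algebra.TensorProduct.lift (Algebra.ofId R A) φ (fun _ _ => Commute.all _ _) :
        R ⊗[R₀] S₀ →ₐ[R] A))
    [hfp : Algebra.FinitePresentation R₀ (FixedPoints.subalgebra R₀ S₀ G)] :
    Algebra.FinitePresentation R (FixedPoints.subalgebra R A G) := by
  classical
  let ρ : Representation R₀ G S₀ := DistribMulAction.toModuleEnd R₀ S₀
  let B := FixedPoints.subalgebra R₀ S₀ G
  let Θ : R ⊗[R₀] S₀ →ₐ[R] A :=
    Algebra.TensorProduct.lift (Algebra.ofId R A) φ (fun _ _ => Commute.all _ _)
  have hΘ : ∀ (r : R) (s : S₀), Θ (r ⊗ₜ s) = algebraMap R A r * φ s := by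
    intro r s
    simp [Θ, Algebra.ofId_apply]
  -- the map on invariants
  let φB : B →ₐ[R₀] FixedPoints.subalgebra R A G :=
    { toFun := fun b => ⟨φ b.1, fun g => by rw [← hφ, b.2 g]⟩
      map_one' := Subtype.ext (map_one φ)
      map_mul' := fun x y => Subtype.ext (map_mul φ _ _)
      map_zero' := Subtype.ext (map_zero φ)
      map_add' := fun x y => Subtype.ext (map_add φ _ _)
      commutes' := fun r => Subtype.ext (by
        change φ (algebraMap R₀ S₀ r) = algebraMap R₀ A r
        exact φ.commutes r) }
  let Ψ : R ⊗[R₀] B →ₐ[R] FixedPoints.subalgebra R A G :=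
    Algebra.TensorProduct.lift (Algebra.ofId R _) φB (fun _ _ => Commute.all _ _)
  have hΨ : ∀ (r : R) (b : B), ((Ψ (r ⊗ₜ b) : FixedPoints.subalgebra R A G) : A) =
      algebraMap R A r * φ b.1 := by
    intro r b
    simp [Ψ, φB, Algebra.ofId_apply]
  -- linear algebra
  obtain ⟨hinj, hrange⟩ := Groth.Agent.S18890.result (N := R) hG ρ
  let toInv : B ≃ₗ[R₀] ρ.invariants :=
    { toFun := fun b => ⟨b.1, fun g => b.2 g⟩
      invFun := fun v => ⟨v.1, fun g => v.2 g⟩
      map_add' := fun _ _ => rfl
      map_smul' := fun _ _ => rfl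
      left_inv := fun _ => rfl
      right_inv := fun _ => rfl }
  -- the composite linear map
  let L : R ⊗[R₀] B →ₗ[R₀] A :=
    (Θ.toLinearMap.restrictScalars R₀) ∘ₗ (TensorProduct.comm R₀ S₀ R).toLinearMap ∘ₗ
      (LinearMap.rTensor R ρ.invariants.subtype) ∘ₗ (LinearMap.rTensor R toInv.toLinearMap) ∘ₗ
      (TensorProduct.comm R₀ R B).toLinearMap
  have hL : ∀ t, L t = ((Ψ t : FixedPoints.subalgebra R A G) : A) := by
    intro t
    induction t using TensorProduct.induction_on with
    | zero => simp
    | tmul r b =>
      rw [hΨ]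
      simp only [L, LinearMap.comp_apply, LinearEquiv.coe_coe, TensorProduct.comm_tmul,
        LinearMap.rTensor_tmul, LinearMap.coe_restrictScalars, AlgHom.toLinearMap_apply]
      exact hΘ r b.1
    | add x y hx hy =>
      rw [map_add, map_add, hx, hy]; rfl
  have hLinj : Function.Injective L := by
    simp only [L, LinearMap.coe_comp, LinearEquiv.coe_coe, LinearMap.coe_restrictScalars]
    refine hbij.1.comp ((TensorProduct.comm R₀ S₀ R).injective.comp (hinj.comp ?_))
    refine Function.Injective.comp ?_ (TensorProduct.comm R₀ R B).injective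
    exact (LinearEquiv.rTensor R toInv).injective
  -- equivariance of Θ
  have hΘeq : ∀ (g : G) (t : R ⊗[R₀] S₀),
      Θ (LinearMap.lTensor R (ρ g) t) = g • Θ t := by
    intro g t
    induction t using TensorProduct.induction_on with
    | zero => simp
    | tmul r s =>
      rw [LinearMap.lTensor_tmul, hΘ, hΘ, smul_mul', smul_algebraMap]
      congr 1
      exact hφ g s
    | add x y hx hy => rw [map_add, map_add, hx, hy, map_add, smul_add]
  have hΨbij : Function.Bijective Ψ := by
    constructor
    · intro x y hxy
      apply hLinj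
      rw [hL, hL, hxy]
    · intro x
      obtain ⟨t, ht⟩ := hbij.2 x.1
      -- `t` is invariant
      have htinv : (TensorProduct.comm R₀ S₀ R).symm t ∈
          (ρ.tprod (Representation.trivial R₀ G R)).invariants := by
        intro g
        apply (TensorProduct.comm R₀ S₀ R).injective
        apply hbij.1
        rw [LinearEquiv.apply_symm_apply]
        have e1 : (TensorProduct.comm R₀ S₀ R) ((ρ.tprod (Representation.trivial R₀ G R)) g
            ((TensorProduct.comm R₀ S₀ R).symm t)) = LinearMap.lTensor R (ρ g) t := by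
          generalize t = t'
          induction t' using TensorProduct.induction_on with
          | zero => simp
          | tmul r s => simp [Representation.tprod_apply]
          | add x y hx hy => simp only [map_add, hx, hy]
        rw [e1]
        change Θ _ = Θ t
        rw [hΘeq, ht]
        exact x.2 g
      rw [← hrange] at htinv
      obtain ⟨t', ht'⟩ := htinv
      let t'' : R ⊗[R₀] B := (TensorProduct.comm R₀ R B).symm
        ((LinearEquiv.rTensor R toInv).symm t')
      refine ⟨t'', Subtype.ext ?_⟩
      rw [← hL]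
      simp only [L, t'', LinearMap.comp_apply, LinearEquiv.coe_coe, LinearEquiv.apply_symm_apply,
        LinearMap.coe_restrictScalars, AlgHom.toLinearMap_apply]
      have e2 : (LinearMap.rTensor R toInv.toLinearMap) ((LinearEquiv.rTensor R toInv).symm t') = t' :=
        (LinearEquiv.rTensor R toInv).apply_symm_apply t'
      rw [e2, ht', LinearEquiv.apply_symm_apply]
      exact ht
  exact Algebra.FinitePresentation.equiv (AlgEquiv.ofBijective Ψ hΨbij)

end BaseChange

end Groth.Agent.Lib.Helper20.InvBaseChange
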