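import Mathlib
import Groth.Agent.Lib.Helper20.HandColimEndo

set_option autoImplicit false

/-!
# Descent of a finite group action on a finitely presented algebra to a finite stage
-/

namespace Groth.Agent.Lib.Helper20.InvDescent

universe u v w

open TensorProduct MvPolynomial
open Groth.Agent.Lib.Helper20.HandColim Groth.Agent.Lib.Helper20.HandColimProps
  Groth.Agent.Lib.Helper20.HandColimModel Groth.Agent.Lib.Helper20.HandColimEndo

/-- `q ↦ aeval (fun j' => q (l₁ j')) (q l₂) - q l₃` -/
noncomputable def exprBindSub {B : Type v} [CommRing B] {σ κ : Type} (l₁ : σ → κ) (l₂ l₃ : κ) :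
    NatExpr B σ κ where
  E := fun _ _ _ q => aeval (fun j' => q (l₁ j')) (q l₂) - q l₃
  nat := by
    intro T T' _ _ _ _ φ x
    rw [map_sub, aeval_eq_bind₁, aeval_eq_bind₁, map_bind₁]

/-- `q ↦ d * q l - 1` -/
noncomputable def exprNatMulSubOne {B : Type v} [CommRing B] {σ κ : Type} (d : ℕ) (l : κ) :
    NatExpr B σ κ where
  E := fun T _ _ q => (d : MvPolynomial σ T) * q l - 1
  nat := by
    intro T T' _ _ _ _ φ x
    rw [map_sub, map_mul, map_natCast, map_one]

section Nat

variable {B₀ : Type v} [CommRing B₀] {C₀ : Type w} [CommRing C₀] [Algebra B₀ C₀] {n : ℕ}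
  {σ : Type*} (P : Algebra.Presentation B₀ C₀ (Fin n) σ)

/-- naturality of the base-changed presentations -/
theorem map_aeval_baseChange {T T' : Type u} [CommRing T] [CommRing T'] [Algebra B₀ T]
    [Algebra B₀ T'] (φ : T →ₐ[B₀] T') (q : MvPolynomial (Fin n) T) :
    Algebra.TensorProduct.map φ (AlgHom.id B₀ C₀) (aeval (P.baseChange T).val q) =
      aeval (P.baseChange T').val (MvPolynomial.map (φ : T →+* T') q) := by
  induction q using MvPolynomial.induction_on with
  | C r =>
    rw [aeval_C, map_C, aeval_C, Algebra.TensorProduct.algebraMap_apply,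
      Algebra.TensorProduct.algebraMap_apply, Algebra.TensorProduct.map_tmul]
    simp
  | add p q hp hq => rw [map_add, map_add, map_add, map_add, hp, hq]
  | mul_X p j hp =>
    rw [map_mul, map_mul, map_mul, map_mul, hp, aeval_X, map_X, aeval_X]
    congr 1
    change Algebra.TensorProduct.map φ (AlgHom.id B₀ C₀) (1 ⊗ₜ P.val j) = 1 ⊗ₜ P.val j
    rw [Algebra.TensorProduct.map_tmul, map_one]
    rfl

end Nat

section Main

variable {B₀ : Type v} [CommRing B₀] {C₀ : Type w} [CommRing C₀] [Algebra B₀ C₀] {n m : ℕ}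
  {ι : Type u} {R : ι → Type u} [∀ i, CommRing (R i)] [∀ i, Algebra B₀ (R i)] {Rl : Type u}
  [CommRing Rl] [Algebra B₀ Rl] {g : ∀ i, R i →ₐ[B₀] Rl} {Tr : ∀ i j, (R i →ₐ[B₀] R j) → Prop}

/-- **Descent of a finite group action.** A finite family of endomorphisms of the base change
`Rl ⊗ C₀` of a finitely presented algebra, closed under a multiplication law, descends to a finite
stage, together with the invertibility of a natural number. -/
theorem descent_action (P : Algebra.Presentation B₀ C₀ (Fin n) (Fin m))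
    (hc : HC B₀ R Rl g Tr) {Γ : Type} [Finite Γ] (mul : Γ → Γ → Γ) (one : Γ)
    (ρ : Γ → (Rl ⊗[B₀] C₀ →ₐ[Rl] Rl ⊗[B₀] C₀))
    (hmul : ∀ x y, ρ (mul x y) = (ρ x).comp (ρ y)) (hone : ρ one = AlgHom.id _ _)
    (d : ℕ) (hd : IsUnit (d : Rl)) :
    ∃ i, ∃ ρi : Γ → (R i ⊗[B₀] C₀ →ₐ[R i] R i ⊗[B₀] C₀),
      (∀ x y, ρi (mul x y) = (ρi x).comp (ρi y)) ∧ ρi one = AlgHom.id _ _ ∧
      (∀ x s, Algebra.TensorProduct.map (g i) (AlgHom.id B₀ C₀) (ρi x s) =
        ρ x (Algebra.TensorProduct.map (g i) (AlgHom.id B₀ C₀) s)) ∧ IsUnit (d : R i) := by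
  classical
  have hπ := (P.baseChange Rl).aeval_val_surjective
  have hK := mem_extIdeal_iff P Rl
  choose a ha1 ha2 using fun x =>
    exists_subst_of_endo (aeval (P.baseChange Rl).val) _ hπ hK (ρ x)
  obtain ⟨u, hu⟩ := hd.exists_right_inv
  have hrel : ∀ (T : Type u) [CommRing T] [Algebra B₀ T] (k : Fin m),
      MvPolynomial.map (algebraMap B₀ T) (P.relation k) ∈
        extIdeal (Ideal.span (Set.range P.relation)) T := by
    intro T _ _ k
    rw [extIdeal_eq_span]
    exact Ideal.subset_span ⟨k, rfl⟩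
  obtain ⟨i, y, hy1, hy2⟩ := descent_lift hc (σ := Fin n) (κ := (Γ × Fin n) ⊕ Unit)
    (γ := (Γ × Fin m) ⊕ (Γ × Γ × Fin n) ⊕ Fin n ⊕ Unit)
    (Sum.elim (fun c => exprAevalRel (P.relation c.2) (fun j => Sum.inl (c.1, j)))
      (Sum.elim (fun c => exprBindSub (fun j => Sum.inl (c.1, j)) (Sum.inl (c.2.1, c.2.2))
          (Sum.inl (mul c.1 c.2.1, c.2.2)))
        (Sum.elim (fun j => exprSubX j (Sum.inl (one, j)))
          (fun _ => exprNatMulSubOne d (Sum.inr ())))))
    (Sum.elim (fun _ => Ideal.span (Set.range P.relation))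
      (Sum.elim (fun _ => Ideal.span (Set.range P.relation))
        (Sum.elim (fun _ => Ideal.span (Set.range P.relation)) (fun _ => ⊥))))
    (Sum.elim (fun c => a c.1 c.2) (fun _ => C u)) (by
      rintro (c | c | j | _)
      · have := ha2 c.1 _ (hrel Rl c.2)
        rw [MvPolynomial.aeval_map_algebraMap] at this
        exact this
      · obtain ⟨x, z, j⟩ := c
        change aeval (a x) (a z j) - a (mul x z) j ∈ extIdeal (Ideal.span (Set.range P.relation)) Rl
        rw [hK, map_sub, sub_eq_zero, ← ha1 x]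
        have e1 : aeval (P.baseChange Rl).val (a z j) = ρ z (aeval (P.baseChange Rl).val (X j : MvPolynomial (Fin n) Rl)) := by
          rw [ha1 z, aeval_X]
        have e2 : aeval (P.baseChange Rl).val (a (mul x z) j) =
            ρ (mul x z) (aeval (P.baseChange Rl).val (X j : MvPolynomial (Fin n) Rl)) := by
          rw [ha1 (mul x z), aeval_X]
        rw [e1, e2, hmul]
        rfl
      · change a one j - X j ∈ extIdeal (Ideal.span (Set.range P.relation)) Rl
        rw [hK, map_sub, sub_eq_zero]
        have e2 : aeval (P.baseChange Rl).val (a one j) =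
            ρ one (aeval (P.baseChange Rl).val (X j : MvPolynomial (Fin n) Rl)) := by
          rw [ha1 one, aeval_X]
        rw [e2, hone]
        rfl
      · change (d : MvPolynomial (Fin n) Rl) * C u - 1 ∈ extIdeal ⊥ Rl
        have : (d : MvPolynomial (Fin n) Rl) * C u - 1 = 0 := by
          rw [← map_natCast (C : Rl →+* MvPolynomial (Fin n) Rl), ← map_mul, hu, map_one, sub_self]
        rw [this]
        exact Ideal.zero_mem _)
  have hπi := (P.baseChange (R i)).aeval_val_surjective
  have hKi := mem_extIdeal_iff P (R i)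
  have hya : ∀ x j, MvPolynomial.map (g i : R i →+* Rl) (y (Sum.inl (x, j))) = a x j :=
    fun x j => hy1 (Sum.inl (x, j))
  have ha' : ∀ x, ∀ p ∈ extIdeal (Ideal.span (Set.range P.relation)) (R i),
      aeval (fun j => y (Sum.inl (x, j))) p ∈
        extIdeal (Ideal.span (Set.range P.relation)) (R i) := by
    intro x p hp
    refine aeval_mem_of_rel _ _ (fun k => MvPolynomial.map (algebraMap B₀ (R i)) (P.relation k))
      (extIdeal_eq_span P (R i)) (fun k => ?_) hp
    have := hy2 (Sum.inl (x, k))
    rw [MvPolynomial.aeval_map_algebraMap]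
    exact this
  choose ρi hρi using fun x =>
    exists_endo (aeval (P.baseChange (R i)).val) _ hπi hKi _ (ha' x)
  refine ⟨i, ρi, ?_, ?_, ?_, ?_⟩
  · intro x z
    apply AlgHom.ext
    intro s
    obtain ⟨p, rfl⟩ := hπi s
    rw [AlgHom.comp_apply, hρi, hρi, hρi]
    have e : (aeval (P.baseChange (R i)).val).comp (aeval (fun j => y (Sum.inl (mul x z, j)))) =
        ((aeval (P.baseChange (R i)).val).comp (aeval (fun j => y (Sum.inl (x, j))))).comp
          (aeval (fun j => y (Sum.inl (z, j)))) := by
      apply MvPolynomial.algHom_ext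
      intro j
      rw [AlgHom.comp_apply, AlgHom.comp_apply, AlgHom.comp_apply, aeval_X, aeval_X]
      have := (hKi _).mp (hy2 (Sum.inr (Sum.inl (x, z, j))))
      change aeval (P.baseChange (R i)).val (aeval (fun j' => y (Sum.inl (x, j')))
        (y (Sum.inl (z, j))) - y (Sum.inl (mul x z, j))) = 0 at this
      rw [map_sub, sub_eq_zero] at this
      exact this.symm
    exact AlgHom.congr_fun e p
  · apply AlgHom.ext
    intro s
    obtain ⟨p, rfl⟩ := hπi s
    rw [hρi, AlgHom.id_apply]
    have e : (aeval (P.baseChange (R i)).val).comp (aeval (fun j => y (Sum.inl (one, j)))) =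
        aeval (P.baseChange (R i)).val := by
      apply MvPolynomial.algHom_ext
      intro j
      rw [AlgHom.comp_apply, aeval_X]
      have := (hKi _).mp (hy2 (Sum.inr (Sum.inr (Sum.inl j))))
      change aeval (P.baseChange (R i)).val (y (Sum.inl (one, j)) - X j) = 0 at this
      rw [map_sub, sub_eq_zero] at this
      exact this
    exact AlgHom.congr_fun e p
  · intro x s
    obtain ⟨p, rfl⟩ := hπi s
    rw [hρi, map_aeval_baseChange, map_aeval_baseChange, ha1, map_aeval_eq]
    simp only [hya]
  · have h0 := hy2 (Sum.inr (Sum.inr (Sum.inr ())))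
    change (d : MvPolynomial (Fin n) (R i)) * y (Sum.inr ()) - 1 ∈ extIdeal ⊥ (R i) at h0
    rw [extIdeal_bot, Ideal.mem_bot, sub_eq_zero] at h0
    have h1 := congrArg constantCoeff h0
    rw [map_mul, map_natCast, map_one] at h1
    exact IsUnit.of_mul_eq_one _ h1

end Main

end Groth.Agent.Lib.Helper20.InvDescent
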