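import Mathlib
import Groth.Prelude.Def_LambdaRing
import Groth.Prelude.Def_W4bkmilneecrracsp2Inv
import Groth.Agent.Lib27.Adams
import Groth.Agent.Lib27.Lam

set_option autoImplicit false
universe u
open LambdaRing LambdaRing.LambdaOps Finset

namespace Groth.Agent.Lib.Helper20.LamSplit

open Groth.Agent.Lib27.Lam

variable {K : Type u} [CommRing K] [LambdaOps K]

/-- In a λ-ring with positive structure, `λ^k(1) = 0` for `k ≥ 2`. -/
theorem lam_one_eq_zero (P : PosStructure K) (k : ℕ) (hk : 2 ≤ k) : lam k (1 : K) = 0 := by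
  have h1 : (1 : K) ∈ P.pos := by
    have := P.natCast_mem 1 Nat.one_pos
    simpa using this
  refine P.lam_eq_zero 1 h1 k ?_
  rw [map_one]
  exact_mod_cast hk

/-- `γ^{i+1}(y - 1) = γ^{i+1}(y) - γ^i(y)`. -/
theorem gamma_sub_one (h1 : ∀ k : ℕ, 2 ≤ k → lam k (1 : K) = 0) (i : ℕ) (y : K) :
    gamma (i + 1) (y - 1) = gamma (i + 1) y - gamma i y := by
  rw [gamma_eq_lam h1, gamma_eq_lam h1, gamma_eq_lam h1]
  have e1 : y + ((i + 1 : ℕ) : K) - 1 = (y - 1 + ((i + 1 : ℕ) : K) - 1) + 1 := by ring
  have e2 : y + ((i : ℕ) : K) - 1 = y - 1 + ((i + 1 : ℕ) : K) - 1 := by push_cast; ring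
  rw [e1, lam_add_one h1, e2]
  ring

/-- The γ/λ polynomial identity, for every element `x` and every `m`. -/
theorem gamma_lam_poly (h1 : ∀ k : ℕ, 2 ≤ k → lam k (1 : K) = 0) (x : K) (m : ℕ) :
    (∑ i ∈ range (m + 1), Polynomial.C (gamma i (x - (m : K))) * Polynomial.X ^ (m - i)) =
      ∑ i ∈ range (m + 1), Polynomial.C (lam i x) * (Polynomial.X - 1) ^ (m - i) := by
  induction m with
  | zero => simp [gamma, lam_zero]
  | succ m ih =>
    -- right-hand side recursion
    have hR : (∑ i ∈ range (m + 1 + 1), Polynomial.C (lam i x) * (Polynomial.X - 1) ^ (m + 1 - i)) =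
        (Polynomial.X - 1) * (∑ i ∈ range (m + 1), Polynomial.C (lam i x) * (Polynomial.X - 1) ^ (m - i))
          + Polynomial.C (lam (m + 1) x) := by
      rw [Finset.sum_range_succ, Nat.sub_self, pow_zero, mul_one, Finset.mul_sum]
      congr 1
      refine Finset.sum_congr rfl fun i hi => ?_
      rw [Finset.mem_range] at hi
      have : m + 1 - i = (m - i) + 1 := by omega
      rw [this, pow_succ]
      ring
    -- left-hand side recursion
    have hL : (∑ i ∈ range (m + 1 + 1),
        Polynomial.C (gamma i (x - ((m + 1 : ℕ) : K))) * Polynomial.X ^ (m + 1 - i)) =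
        (Polynomial.X - 1) * (∑ i ∈ range (m + 1), Polynomial.C (gamma i (x - (m : K))) * Polynomial.X ^ (m - i))
          + Polynomial.C (gamma (m + 1) (x - (m : K))) := by
      have hx : x - ((m + 1 : ℕ) : K) = (x - (m : K)) - 1 := by push_cast; ring
      rw [hx]
      set y := x - (m : K) with hy
      -- split off i = 0
      rw [Finset.sum_range_succ']
      have h0 : gamma 0 (y - 1) = 1 := by simp [gamma]
      simp_rw [gamma_sub_one h1]
      rw [h0]
      have hs1 : ∑ i ∈ range (m + 1), Polynomial.C (gamma (i + 1) y - gamma i y) *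
          Polynomial.X ^ (m + 1 - (i + 1)) =
          ∑ i ∈ range (m + 1), Polynomial.C (gamma (i + 1) y) * Polynomial.X ^ (m - i) -
          ∑ i ∈ range (m + 1), Polynomial.C (gamma i y) * Polynomial.X ^ (m - i) := by
        rw [← Finset.sum_sub_distrib]
        refine Finset.sum_congr rfl fun i _ => ?_
        rw [Nat.add_sub_add_right, map_sub, sub_mul]
      rw [hs1]
      -- shift the first sum
      have hs2 : ∑ i ∈ range (m + 1), Polynomial.C (gamma (i + 1) y) * Polynomial.X ^ (m - i) =
          Polynomial.X * (∑ i ∈ range (m + 1), Polynomial.C (gamma i y) * Polynomial.X ^ (m - i))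
            - Polynomial.X ^ (m + 1) + Polynomial.C (gamma (m + 1) y) := by
        rw [Finset.sum_range_succ (fun i => Polynomial.C (gamma (i + 1) y) * Polynomial.X ^ (m - i)),
          Nat.sub_self, pow_zero, mul_one]
        rw [Finset.sum_range_succ' (fun i => Polynomial.C (gamma i y) * Polynomial.X ^ (m - i)),
          mul_add]
        have h00 : gamma 0 y = 1 := by simp [gamma]
        rw [h00, Finset.mul_sum]
        have : ∑ i ∈ range m, Polynomial.X * (Polynomial.C (gamma (i + 1) y) * Polynomial.X ^ (m - (i + 1))) =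
            ∑ i ∈ range m, Polynomial.C (gamma (i + 1) y) * Polynomial.X ^ (m - i) := by
          refine Finset.sum_congr rfl fun i hi => ?_
          rw [Finset.mem_range] at hi
          have : m - i = (m - (i + 1)) + 1 := by omega
          rw [this, pow_succ]
          ring
        rw [this]
        simp
        ring
      rw [hs2]
      simp
      ring
    rw [hL, hR, ih]
    congr 2
    rw [gamma_eq_lam h1]
    congr 1
    push_cast
    ring

/-! ### Multisets of line-like elements -/

/-- `v` is line-like: `λ^j v = 0` for `j ≥ 2`. -/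
def IsLineLike (v : K) : Prop := ∀ j : ℕ, 2 ≤ j → lam j v = 0

theorem isLineLike_of_isLine (P : PosStructure K) {v : K} (hv : P.IsLine v) : IsLineLike v := by
  intro j hj
  refine P.lam_eq_zero v hv.1 j ?_
  rw [hv.2]
  exact_mod_cast hj

theorem lam_cons_sum (a : K) (ha : IsLineLike a) (t : Multiset K) (k : ℕ) :
    lam (k + 1) (a ::ₘ t).sum = lam (k + 1) t.sum + lam k t.sum * a := by
  rw [Multiset.sum_cons, add_comm a t.sum, lam_add_line a ha]

theorem lam_sum_eq_zero (s : Multiset K) (hs : ∀ v ∈ s, IsLineLike v) :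
    ∀ k : ℕ, Multiset.card s < k → lam k s.sum = 0 := by
  induction s using Multiset.induction_on with
  | empty =>
    intro k hk
    rw [Multiset.sum_zero]
    exact lam_zero_arg k (by rw [Multiset.card_zero] at hk; omega)
  | cons a t ih =>
    intro k hk
    rw [Multiset.card_cons] at hk
    obtain ⟨k, rfl⟩ : ∃ k', k = k' + 1 := ⟨k - 1, by omega⟩
    have ht : ∀ v ∈ t, IsLineLike v := fun v hv => hs v (Multiset.mem_cons_of_mem hv)
    rw [lam_cons_sum a (hs a (Multiset.mem_cons_self a t)), ih ht (k + 1) (by omega),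
      ih ht k (by omega), zero_mul, add_zero]

/-- the augmentation of `λ^i` of a sum of line elements -/
theorem aug_lam_sum (P : PosStructure K) (s : Multiset K) (hs : ∀ v ∈ s, P.IsLine v) :
    ∀ i : ℕ, P.aug (lam i s.sum) = ((Multiset.card s).choose i : ℤ) := by
  induction s using Multiset.induction_on with
  | empty =>
    intro i
    rw [Multiset.sum_zero, Multiset.card_zero]
    rcases i with _ | i
    · simp [lam_zero]
    · rw [lam_zero_arg _ (by omega)]; simp
  | cons a t ih =>
    intro i
    have ht : ∀ v ∈ t, P.IsLine v := fun v hv => hs v (Multiset.mem_cons_of_mem hv)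
    have ha := hs a (Multiset.mem_cons_self a t)
    rcases i with _ | i
    · simp [lam_zero]
    · rw [lam_cons_sum a (isLineLike_of_isLine P ha), map_add, map_mul, ih ht, ih ht, ha.2,
        Multiset.card_cons, Nat.choose_succ_succ]
      push_cast
      ring

theorem aug_sum (P : PosStructure K) (s : Multiset K) (hs : ∀ v ∈ s, P.IsLine v) :
    P.aug s.sum = (Multiset.card s : ℤ) := by
  induction s using Multiset.induction_on with
  | empty => simp
  | cons a t ih =>
    have ht : ∀ v ∈ t, P.IsLine v := fun v hv => hs v (Multiset.mem_cons_of_mem hv)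
    rw [Multiset.sum_cons, map_add, ih ht, (hs a (Multiset.mem_cons_self a t)).2, Multiset.card_cons]
    push_cast
    ring

/-- duality for sums of invertible line-like elements -/
theorem lam_sum_dual (g : K → K) (s : Multiset K) (hs : ∀ v ∈ s, IsLineLike v)
    (hgs : ∀ v ∈ s, IsLineLike (g v)) (hg : ∀ v ∈ s, g v * v = 1) :
    ∀ i : ℕ, i ≤ Multiset.card s →
      lam i s.sum = lam (Multiset.card s - i) (s.map g).sum * lam (Multiset.card s) s.sum := by
  induction s using Multiset.induction_on with
  | empty =>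
    intro i hi
    have : i = 0 := by simpa using hi
    subst this
    simp [lam_zero]
  | cons a t ih =>
    intro i hi
    have ht : ∀ v ∈ t, IsLineLike v := fun v hv => hs v (Multiset.mem_cons_of_mem hv)
    have hgt : ∀ v ∈ t, IsLineLike (g v) := fun v hv => hgs v (Multiset.mem_cons_of_mem hv)
    have hgt' : ∀ v ∈ t.map g, IsLineLike v := by
      intro v hv
      obtain ⟨w, hw, rfl⟩ := Multiset.mem_map.mp hv
      exact hgt w hw
    have hg1 : ∀ v ∈ t, g v * v = 1 := fun v hv => hg v (Multiset.mem_cons_of_mem hv)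
    have ha := hs a (Multiset.mem_cons_self a t)
    have hga := hgs a (Multiset.mem_cons_self a t)
    have hba := hg a (Multiset.mem_cons_self a t)
    have IH := ih ht hgt hg1
    rw [Multiset.card_cons] at hi ⊢
    rw [Multiset.map_cons]
    set n := Multiset.card t with hn
    have hcardg : Multiset.card (t.map g) = n := by rw [Multiset.card_map]
    have htop : lam (n + 1) (a ::ₘ t).sum = lam n t.sum * a := by
      rw [lam_cons_sum a ha, lam_sum_eq_zero t ht (n + 1) (by omega), zero_add]
    rw [htop]
    rcases i with _ | j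
    · -- i = 0
      rw [lam_zero, Nat.sub_zero, lam_cons_sum (g a) hga,
        lam_sum_eq_zero (t.map g) hgt' (n + 1) (by omega), zero_add]
      have h0 := IH 0 (Nat.zero_le _)
      rw [lam_zero, Nat.sub_zero] at h0
      calc (1 : K) = lam n (t.map g).sum * lam n t.sum := h0
        _ = lam n (t.map g).sum * g a * (lam n t.sum * a) := by
            rw [mul_mul_mul_comm, hba, mul_one]
    · have hj : j ≤ n := by omega
      rw [lam_cons_sum a ha, Nat.add_sub_add_right]
      rcases Nat.eq_zero_or_pos (n - j) with h0 | hpos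
      · have hjn : j = n := by omega
        rw [h0, lam_zero, one_mul, hjn, lam_sum_eq_zero t ht (n + 1) (by omega), zero_add]
      · obtain ⟨r, hr⟩ : ∃ r, n - j = r + 1 := ⟨n - j - 1, by omega⟩
        rw [hr, lam_cons_sum (g a) hga]
        have e1 := IH j hj
        have e2 := IH (j + 1) (by omega)
        have hr2 : n - (j + 1) = r := by omega
        rw [hr] at e1
        rw [hr2] at e2
        rw [e1, e2]
        have : (lam (r + 1) (t.map g).sum + lam r (t.map g).sum * g a) * (lam n t.sum * a) =
            lam (r + 1) (t.map g).sum * lam n t.sum * a +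
              lam r (t.map g).sum * lam n t.sum * (g a * a) := by ring
        rw [this, hba, mul_one]
        ring

/-! ### Splittings -/

/-- Data of a splitting of a positive element in an extension. -/
theorem exists_split_of_hasSplitting (P : PosStructure K) (hK : HasSplitting K P) (e : K)
    (he : e ∈ P.pos) :
    ∃ (L : PosLambdaRing.{u}) (f : K →+* L.carrier), IsExtension P L.posStr f ∧
      ∃ s : Multiset L.carrier, (∀ v ∈ s, L.posStr.IsLine v) ∧ s.sum = f e := by
  obtain ⟨C, hC, hsplit⟩ := hK
  obtain ⟨L', _, f, hf, s, hs, hsum⟩ := hsplit ⟨K, P⟩ hC e he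
  exact ⟨L', f, hf, s, hs, hsum⟩

/-- In a λ-ring with positive structure having the splitting property, for a positive element
`e` the augmentation of `λ^i(e)` is the binomial coefficient `C(ε(e), i)`. -/
theorem aug_lam_eq_choose (P : PosStructure K) (hK : HasSplitting K P) (e : K) (he : e ∈ P.pos)
    (i : ℕ) : P.aug (lam i e) = ((P.aug e).toNat.choose i : ℤ) := by
  obtain ⟨L, f, hf, s, hs, hsum⟩ := exists_split_of_hasSplitting P hK e he
  have h1 : P.aug (lam i e) = L.posStr.aug (lam i s.sum) := by
    rw [hsum, ← hf.isLambdaHom, hf.aug_comp]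
  have h2 : P.aug e = (Multiset.card s : ℤ) := by
    rw [← hf.aug_comp, ← hsum, aug_sum L.posStr s hs]
  rw [h1, aug_lam_sum L.posStr s hs, h2, Int.toNat_natCast]

/-! ### Involutions -/

theorem inv_multiset_sum {L : Type u} [CommRing L] [LambdaOps L] (PL : PosStructure L)
    (inv' : L → L) (hV : IsInvolution PL inv') (s : Multiset L) :
    inv' s.sum = (s.map inv').sum := by
  have h0 : inv' 0 = 0 := by
    have := hV.map_add 0 0
    rw [add_zero] at this
    have h2 : inv' 0 + inv' 0 = inv' 0 + 0 := by rw [add_zero]; exact this.symm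
    exact add_left_cancel h2
  induction s using Multiset.induction_on with
  | empty => simpa using h0
  | cons a t ih => rw [Multiset.sum_cons, hV.map_add, ih, Multiset.map_cons, Multiset.sum_cons]

/-- Data of a splitting compatible with an involution. -/
theorem lam_eq_lam_inv_mul_lam_aug (P : PosStructure K)
    (inv : K → K) (hS : HasInvSplitting P inv)
    (e : K) (he : e ∈ P.pos) (i : ℕ) (hi : i ≤ (P.aug e).toNat) :
    lam i e = lam ((P.aug e).toNat - i) (inv e) * lam (P.aug e).toNat e := by
  obtain ⟨L, inv', f, hf, hV', hcomm, s, hs, hsum⟩ := hS e he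
  apply hf.injective
  have hcard : (P.aug e).toNat = Multiset.card s := by
    rw [← hf.aug_comp, ← hsum, aug_sum L.posStr s hs, Int.toNat_natCast]
  rw [map_mul, hf.isLambdaHom, hf.isLambdaHom, hf.isLambdaHom, hcomm, ← hsum,
    inv_multiset_sum L.posStr inv' hV' s, hcard]
  rw [hcard] at hi
  exact lam_sum_dual inv' s (fun v hv => isLineLike_of_isLine L.posStr (hs v hv))
    (fun v hv => isLineLike_of_isLine L.posStr (hV'.inv_line v (hs v hv)))
    (fun v hv => hV'.inv_mul_self v (hs v hv)) i hi

/-- `γ^m(x - m) = Σ_{i ≤ m} (-1)^(m-i) λ^i(x)`. -/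
theorem gamma_top (h1 : ∀ k : ℕ, 2 ≤ k → lam k (1 : K) = 0) (x : K) (m : ℕ) :
    gamma m (x - (m : K)) = ∑ i ∈ range (m + 1), (-1 : K) ^ (m - i) * lam i x := by
  have h := congrArg (Polynomial.eval (0 : K)) (gamma_lam_poly h1 x m)
  rw [Polynomial.eval_finset_sum, Polynomial.eval_finset_sum] at h
  rw [Finset.sum_eq_single m] at h
  · simp only [Polynomial.eval_mul, Polynomial.eval_C, Polynomial.eval_pow, Polynomial.eval_X,
      Nat.sub_self, pow_zero, mul_one, Polynomial.eval_sub, Polynomial.eval_one, zero_sub] at h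
    rw [h]
    exact Finset.sum_congr rfl fun i _ => mul_comm _ _
  · intro i hi him
    rw [Finset.mem_range] at hi
    have : m - i ≠ 0 := by omega
    simp [this]
  · intro hm
    exact absurd (Finset.mem_range.mpr (Nat.lt_succ_self m)) hm

/-- `γ^m(e - m) = λ_{-1}(e^∨) · λ^m(e)` for a positive `e` of augmentation `m`. -/
theorem gamma_aug_sub_eq (P : PosStructure K)
    (inv : K → K) (hS : HasInvSplitting P inv) (e : K) (he : e ∈ P.pos) :
    gamma (P.aug e).toNat (e - ((P.aug e).toNat : K)) =
      (∑ i ∈ range ((P.aug e).toNat + 1), (-1 : K) ^ i * lam i (inv e)) * lam (P.aug e).toNat e := by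
  rw [gamma_top (lam_one_eq_zero P), Finset.sum_mul, ← Finset.sum_range_reflect]
  refine Finset.sum_congr rfl fun i hi => ?_
  rw [Finset.mem_range] at hi
  have e1 : (P.aug e).toNat + 1 - 1 - i = (P.aug e).toNat - i := by omega
  rw [e1, lam_eq_lam_inv_mul_lam_aug P inv hS e he ((P.aug e).toNat - i) (Nat.sub_le _ _)]
  have e2 : (P.aug e).toNat - ((P.aug e).toNat - i) = i := by omega
  rw [e2, mul_assoc]

/-- `λ^i(e^∨) = λ^{m-i}(e) · λ^m(e^∨)` for a positive `e` of augmentation `m` and `i ≤ m`. -/
theorem lam_inv_eq_lam_mul_lam_aug_inv (P : PosStructure K)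
    (inv : K → K) (hS : HasInvSplitting P inv)
    (e : K) (he : e ∈ P.pos) (i : ℕ) (hi : i ≤ (P.aug e).toNat) :
    lam i (inv e) = lam ((P.aug e).toNat - i) e * lam (P.aug e).toNat (inv e) := by
  obtain ⟨L, inv', f, hf, hV', hcomm, s, hs, hsum⟩ := hS e he
  apply hf.injective
  have hcard : (P.aug e).toNat = Multiset.card s := by
    rw [← hf.aug_comp, ← hsum, aug_sum L.posStr s hs, Int.toNat_natCast]
  have hcard' : Multiset.card (s.map inv') = Multiset.card s := Multiset.card_map _ _
  have hmm : (s.map inv').map inv' = s := by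
    rw [Multiset.map_map]
    conv_rhs => rw [← Multiset.map_id s]
    refine Multiset.map_congr rfl fun v _ => ?_
    simp [hV'.inv_inv]
  rw [map_mul, hf.isLambdaHom, hf.isLambdaHom, hf.isLambdaHom, hcomm, ← hsum,
    inv_multiset_sum L.posStr inv' hV' s, hcard]
  rw [hcard] at hi
  have hlines' : ∀ v ∈ s.map inv', L.posStr.IsLine v := by
    intro v hv
    obtain ⟨w, hw, rfl⟩ := Multiset.mem_map.mp hv
    exact hV'.inv_line w (hs w hw)
  have h := lam_sum_dual inv' (s.map inv')
    (fun v hv => isLineLike_of_isLine L.posStr (hlines' v hv))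
    (fun v hv => isLineLike_of_isLine L.posStr (hV'.inv_line v (hlines' v hv)))
    (fun v hv => by
      obtain ⟨w, hw, rfl⟩ := Multiset.mem_map.mp hv
      rw [hV'.inv_inv, mul_comm]
      exact hV'.inv_mul_self w (hs w hw)) i (by rw [hcard']; exact hi)
  rw [hmm, hcard'] at h
  exact h

/-- `ε(λ^m(e^∨)) = 1` for a positive `e` of augmentation `m`. -/
theorem aug_lam_aug_inv (P : PosStructure K)
    (inv : K → K) (hS : HasInvSplitting P inv) (e : K) (he : e ∈ P.pos) :
    P.aug (lam (P.aug e).toNat (inv e)) = 1 := by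
  obtain ⟨L, inv', f, hf, hV', hcomm, s, hs, hsum⟩ := hS e he
  have hcard : (P.aug e).toNat = Multiset.card s := by
    rw [← hf.aug_comp, ← hsum, aug_sum L.posStr s hs, Int.toNat_natCast]
  have hlines' : ∀ v ∈ s.map inv', L.posStr.IsLine v := by
    intro v hv
    obtain ⟨w, hw, rfl⟩ := Multiset.mem_map.mp hv
    exact hV'.inv_line w (hs w hw)
  rw [← hf.aug_comp, hf.isLambdaHom, hcomm, ← hsum, inv_multiset_sum L.posStr inv' hV' s,
    aug_lam_sum L.posStr _ hlines', Multiset.card_map, hcard, Nat.choose_self]
  rfl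

theorem gamma_mem_gammaFiltration (P : PosStructure K) (d : ℕ) (x : K) (hx : P.aug x = 0) :
    gamma d x ∈ gammaFiltration P d := by
  unfold gammaFiltration
  split_ifs with h
  · trivial
  · refine AddSubgroup.subset_closure ⟨[(d, x)], ?_, ?_, ?_⟩
    · intro p hp
      rw [List.mem_singleton] at hp
      rw [hp]; exact hx
    · simp
    · simp

theorem mem_gammaFiltration_one (P : PosStructure K) (x : K) (hx : P.aug x = 0) :
    x ∈ gammaFiltration P 1 := by
  have h := gamma_mem_gammaFiltration P 1 x hx
  have h1 : gamma 1 x = x := by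
    simp [gamma, Finset.sum_range_succ, lam_one]
  rwa [h1] at h

end Groth.Agent.Lib.Helper20.LamSplit
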