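import Mathlib
import Groth.Prelude.Def_LambdaRing
import Groth.Agent.Lib.Helper20.LamSplit
import Groth.Agent.S3287
import Groth.Agent.S3791

set_option autoImplicit false
universe u
open LambdaRing LambdaRing.LambdaOps Finset

namespace Groth.Agent.Lib.Helper20.LamAdams

open Groth.Agent.Lib.Helper20.LamSplit

variable {K : Type u} [CommRing K] [LambdaOps K]

/-- `λ_{-t}(x)` -/
noncomputable def negLam (x : K) : PowerSeries K := PowerSeries.rescale (-1 : K) (lamSeries x)

theorem constantCoeff_negLam (x : K) : PowerSeries.constantCoeff (negLam x) = ((1 : Kˣ) : K) := by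
  rw [negLam, ← PowerSeries.coeff_zero_eq_constantCoeff_apply, PowerSeries.coeff_rescale]
  simp [lamSeries, lam_zero]

theorem negLam_add (x y : K) : negLam (x + y) = negLam x * negLam y := by
  rw [negLam, Groth.Agent.S3791.lamSeries_add, map_mul]
  rfl

theorem negLam_mul_inv (x : K) : negLam x * (negLam x).invOfUnit 1 = 1 :=
  PowerSeries.mul_invOfUnit _ 1 (constantCoeff_negLam x)

theorem inv_unique {R : Type*} [CommRing R] {c z w : R} (hz : c * z = 1) (hw : c * w = 1) : z = w := by
  calc z = z * (c * w) := by rw [hw, mul_one]
    _ = (c * z) * w := by ring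
    _ = w := by rw [hz, one_mul]

/-- the logarithmic derivative of `λ_{-t}(x)` -/
noncomputable def logD (x : K) : PowerSeries K :=
  PowerSeries.derivative K (negLam x) * (negLam x).invOfUnit 1

theorem logD_add (x y : K) : logD (x + y) = logD x + logD y := by
  unfold logD
  have hinv : (negLam (x + y)).invOfUnit 1 = (negLam x).invOfUnit 1 * (negLam y).invOfUnit 1 := by
    refine inv_unique (negLam_mul_inv (x + y)) ?_
    rw [negLam_add]
    calc negLam x * negLam y * ((negLam x).invOfUnit 1 * (negLam y).invOfUnit 1)
        = (negLam x * (negLam x).invOfUnit 1) * (negLam y * (negLam y).invOfUnit 1) := by ring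
      _ = 1 := by rw [negLam_mul_inv, negLam_mul_inv, one_mul]
  rw [hinv, negLam_add, Derivation.leibniz, smul_eq_mul, smul_eq_mul]
  have hx := negLam_mul_inv x
  have hy := negLam_mul_inv y
  linear_combination (PowerSeries.derivative K (negLam y) * (negLam y).invOfUnit 1) * hx +
    (PowerSeries.derivative K (negLam x) * (negLam x).invOfUnit 1) * hy

theorem adamsSeries_eq (P : PosStructure K) (x : K) :
    adamsSeries P x = PowerSeries.C (P.aug x : K) - PowerSeries.X * logD x := by
  unfold adamsSeries logD negLam
  rw [mul_assoc]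

theorem adamsSeries_add (P : PosStructure K) (x y : K) :
    adamsSeries P (x + y) = adamsSeries P x + adamsSeries P y := by
  rw [adamsSeries_eq, adamsSeries_eq, adamsSeries_eq, logD_add, map_add, Int.cast_add, map_add]
  ring

theorem adams_add (P : PosStructure K) (j : ℕ) (x y : K) :
    adams P j (x + y) = adams P j x + adams P j y := by
  unfold adams
  rw [adamsSeries_add, map_add]

theorem adams_zero (P : PosStructure K) (j : ℕ) : adams P j (0 : K) = 0 := by
  have h := adams_add P j (0 : K) 0
  rw [add_zero] at h
  have h2 : adams P j (0 : K) + adams P j 0 = adams P j 0 + 0 := by rw [add_zero]; exact h.symm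
  exact add_left_cancel h2

theorem adams_neg (P : PosStructure K) (j : ℕ) (x : K) : adams P j (-x) = -adams P j x := by
  have h := adams_add P j x (-x)
  rw [add_neg_cancel, adams_zero] at h
  exact (neg_eq_of_add_eq_zero_right h.symm).symm

theorem adams_sub (P : PosStructure K) (j : ℕ) (x y : K) :
    adams P j (x - y) = adams P j x - adams P j y := by
  rw [sub_eq_add_neg, adams_add, adams_neg, sub_eq_add_neg]

theorem adams_multiset_sum (P : PosStructure K) (j : ℕ) (s : Multiset K) :
    adams P j s.sum = (s.map (adams P j)).sum := by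
  induction s using Multiset.induction_on with
  | empty => simpa using adams_zero P j
  | cons a t ih => rw [Multiset.sum_cons, adams_add, ih, Multiset.map_cons, Multiset.sum_cons]

theorem adams_sum_lines (P : PosStructure K) (j : ℕ) (s : Multiset K) (hs : ∀ v ∈ s, P.IsLine v) :
    adams P j s.sum = (s.map (fun v => v ^ j)).sum := by
  rw [adams_multiset_sum]
  congr 1
  refine Multiset.map_congr rfl fun v hv => ?_
  exact Groth.Agent.S3287.result K P v (hs v hv) j

theorem adams_one (P : PosStructure K) (j : ℕ) : adams P j (1 : K) = 1 := by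
  rw [Groth.Agent.S3287.result K P 1 (Groth.Agent.S3791.isLine_one P) j, one_pow]

/-! ### Compatibility with extensions -/

section Ext

variable {L : Type u} [CommRing L] [LambdaOps L] (P : PosStructure K) (PL : PosStructure L)
  (f : K →+* L) (hf : IsExtension P PL f)

include hf

theorem map_lamSeries (x : K) : PowerSeries.map f (lamSeries x) = lamSeries (f x) := by
  ext n
  rw [PowerSeries.coeff_map, lamSeries, lamSeries, PowerSeries.coeff_mk, PowerSeries.coeff_mk,
    hf.isLambdaHom]

theorem map_negLam (x : K) : PowerSeries.map f (negLam x) = negLam (f x) := by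
  unfold negLam
  rw [← PowerSeries.rescale_map, map_lamSeries P PL f hf, map_neg, map_one]

theorem map_inv_negLam (x : K) :
    PowerSeries.map f ((negLam x).invOfUnit 1) = (negLam (f x)).invOfUnit 1 := by
  refine inv_unique (c := negLam (f x)) ?_ (negLam_mul_inv (f x))
  rw [← map_negLam P PL f hf, ← map_mul, negLam_mul_inv, map_one]

theorem map_derivative (g : PowerSeries K) :
    PowerSeries.map f (PowerSeries.derivative K g) = PowerSeries.derivative L (PowerSeries.map f g) := by
  ext n
  simp only [PowerSeries.coeff_map, PowerSeries.coeff_derivative, map_mul, map_add, map_natCast,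
    map_one]

theorem map_logD (x : K) : PowerSeries.map f (logD x) = logD (f x) := by
  unfold logD
  rw [map_mul, map_derivative P PL f hf, map_negLam P PL f hf, map_inv_negLam P PL f hf]

theorem map_adamsSeries (x : K) : PowerSeries.map f (adamsSeries P x) = adamsSeries PL (f x) := by
  rw [adamsSeries_eq, adamsSeries_eq, map_sub, map_mul, map_logD P PL f hf, PowerSeries.map_C,
    PowerSeries.map_X, map_intCast, hf.aug_comp]

theorem map_adams (j : ℕ) (x : K) : f (adams P j x) = adams PL j (f x) := by
  unfold adams
  rw [← map_adamsSeries P PL f hf, PowerSeries.coeff_map]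

theorem isLine_map {u : K} (hu : P.IsLine u) : PL.IsLine (f u) :=
  ⟨hf.pos_subset u hu.1, by rw [hf.aug_comp, hu.2]⟩

end Ext

/-! ### Splitting classes -/

/-- A class of λ-rings with positive structure closed under splitting. -/
def IsSplitClass (C : Set PosLambdaRing.{u}) : Prop :=
  ∀ L ∈ C, ∀ e ∈ L.posStr.pos, ∃ L' ∈ C, ∃ f : L.carrier →+* L'.carrier,
    IsExtension L.posStr L'.posStr f ∧
    ∃ s : Multiset L'.carrier, (∀ u ∈ s, L'.posStr.IsLine u) ∧ s.sum = f e

theorem hasSplitting_of_mem {C : Set PosLambdaRing.{u}} (hC : IsSplitClass C)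
    (L : PosLambdaRing.{u}) (hL : L ∈ C) : HasSplitting L.carrier L.posStr :=
  ⟨C, hL, hC⟩

/-- A splitting of a positive element, in an extension which still has the splitting property. -/
theorem exists_split' (P : PosStructure K) (hK : HasSplitting K P) (e : K) (he : e ∈ P.pos) :
    ∃ (L : PosLambdaRing.{u}) (f : K →+* L.carrier), HasSplitting L.carrier L.posStr ∧
      IsExtension P L.posStr f ∧
      ∃ s : Multiset L.carrier, (∀ v ∈ s, L.posStr.IsLine v) ∧ s.sum = f e := by
  obtain ⟨C, hC, hsplit⟩ := hK
  obtain ⟨L', hL', f, hf, s, hs, hsum⟩ := hsplit ⟨K, P⟩ hC e he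
  exact ⟨L', f, hasSplitting_of_mem hsplit L' hL', hf, s, hs, hsum⟩

theorem sum_mul_eq {R : Type*} [CommRing R] (s : Multiset R) (c : R) :
    s.sum * c = (s.map fun u => u * c).sum := by
  rw [Multiset.sum_map_mul_right, Multiset.map_id']

theorem mul_sum_eq {R : Type*} [CommRing R] (s : Multiset R) (c : R) :
    c * s.sum = (s.map fun u => c * u).sum := by
  rw [Multiset.sum_map_mul_left, Multiset.map_id']

/-- `ψ^j(x v) = ψ^j(x) v^j` for a line element `v`. -/
theorem adams_mul_line (P : PosStructure K) (hK : HasSplitting K P) (j : ℕ) (v : K)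
    (hv : P.IsLine v) (x : K) : adams P j (x * v) = adams P j x * v ^ j := by
  -- positive case
  have hpos : ∀ e ∈ P.pos, adams P j (e * v) = adams P j e * v ^ j := by
    intro e he
    obtain ⟨L, f, hf, s, hs, hsum⟩ := exists_split_of_hasSplitting P hK e he
    apply hf.injective
    have hfv := isLine_map P L.posStr f hf hv
    rw [map_mul, map_adams P L.posStr f hf, map_adams P L.posStr f hf, map_mul, map_pow, ← hsum,
      sum_mul_eq s (f v), adams_sum_lines L.posStr j s hs]
    rw [adams_sum_lines L.posStr j _ (by
      intro w hw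
      obtain ⟨u, hu, rfl⟩ := Multiset.mem_map.mp hw
      exact Groth.Agent.S3791.isLine_mul L.posStr (hs u hu) hfv)]
    rw [Multiset.map_map, sum_mul_eq, Multiset.map_map]
    congr 1
    refine Multiset.map_congr rfl fun u _ => ?_
    simp [mul_pow]
  obtain ⟨e, e', he, he', rfl⟩ := P.exists_sub x
  rw [sub_mul, adams_sub, adams_sub, hpos e he, hpos e' he', sub_mul]

/-- The Adams operations are multiplicative. -/
theorem adams_mul (P : PosStructure K) (hK : HasSplitting K P) (j : ℕ) (x y : K) :
    adams P j (x * y) = adams P j x * adams P j y := by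
  have hpos : ∀ e ∈ P.pos, adams P j (x * e) = adams P j x * adams P j e := by
    intro e he
    obtain ⟨L, f, hL, hf, s, hs, hsum⟩ := exists_split' P hK e he
    apply hf.injective
    rw [map_mul, map_adams P L.posStr f hf, map_adams P L.posStr f hf, map_adams P L.posStr f hf,
      map_mul, ← hsum, mul_sum_eq s (f x), adams_multiset_sum, Multiset.map_map,
      adams_sum_lines L.posStr j s hs, mul_sum_eq, Multiset.map_map]
    congr 1
    refine Multiset.map_congr rfl fun u hu => ?_
    exact adams_mul_line L.posStr hL j u (hs u hu) (f x)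
  obtain ⟨e, e', he, he', rfl⟩ := P.exists_sub y
  rw [mul_sub, adams_sub, adams_sub, hpos e he, hpos e' he', mul_sub]

/-- The Adams operation `ψ^j` as a ring homomorphism. -/
noncomputable def adamsHom (P : PosStructure K) (hK : HasSplitting K P) (j : ℕ) : K →+* K where
  toFun := adams P j
  map_one' := adams_one P j
  map_mul' := adams_mul P hK j
  map_zero' := adams_zero P j
  map_add' := adams_add P j

@[simp] theorem adamsHom_apply (P : PosStructure K) (hK : HasSplitting K P) (j : ℕ) (x : K) :
    adamsHom P hK j x = adams P j x := rfl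

/-- `ψ^i ∘ ψ^j = ψ^{ij}`. -/
theorem adams_adams (P : PosStructure K) (hK : HasSplitting K P) (i j : ℕ) (x : K) :
    adams P i (adams P j x) = adams P (i * j) x := by
  have hpos : ∀ e ∈ P.pos, adams P i (adams P j e) = adams P (i * j) e := by
    intro e he
    obtain ⟨L, f, hf, s, hs, hsum⟩ := exists_split_of_hasSplitting P hK e he
    apply hf.injective
    rw [map_adams P L.posStr f hf, map_adams P L.posStr f hf, map_adams P L.posStr f hf, ← hsum,
      adams_sum_lines L.posStr j s hs, adams_sum_lines L.posStr (i * j) s hs,
      adams_sum_lines L.posStr i _ (by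
        intro w hw
        obtain ⟨u, hu, rfl⟩ := Multiset.mem_map.mp hw
        exact Groth.Agent.S3791.isLine_pow L.posStr (hs u hu) j), Multiset.map_map]
    congr 1
    refine Multiset.map_congr rfl fun u _ => ?_
    simp only [Function.comp_apply]
    rw [← pow_mul, mul_comm]
  obtain ⟨e, e', he, he', rfl⟩ := P.exists_sub x
  rw [adams_sub, adams_sub, adams_sub, hpos e he, hpos e' he']

end Groth.Agent.Lib.Helper20.LamAdams
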