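import Mathlib
import Groth.Prelude.Def_LambdaRing
import Groth.Agent.Lib.Helper20.LamSplit
import Groth.Agent.S3291

set_option autoImplicit false
universe u
open LambdaRing LambdaRing.LambdaOps Finset

namespace Groth.Agent.Lib.Helper20.LamFil

open Groth.Agent.Lib.Helper20.LamSplit

variable {K : Type u} [CommRing K] [LambdaOps K]

theorem smul_mem (P : PosStructure K) (n : ℕ) (a x : K) (hx : x ∈ gammaFiltration P n) :
    a * x ∈ gammaFiltration P n := (Groth.Agent.S3291.result K P).1 n a x hx

theorem mul_mem (P : PosStructure K) (m n : ℕ) (x y : K) (hx : x ∈ gammaFiltration P m)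
    (hy : y ∈ gammaFiltration P n) : x * y ∈ gammaFiltration P (m + n) :=
  (Groth.Agent.S3291.result K P).2 m n x y hx hy

/-- `λ_{-1}(q) = (-1)^d γ^d(q - d)` -/
theorem lamAlt_eq (P : PosStructure K) (q : K) (d : ℕ) :
    (∑ i ∈ range (d + 1), (-1 : K) ^ i * lam i q) = (-1 : K) ^ d * gamma d (q - (d : K)) := by
  rw [gamma_top (lam_one_eq_zero P), Finset.mul_sum]
  refine Finset.sum_congr rfl fun i hi => ?_
  rw [Finset.mem_range] at hi
  rw [← mul_assoc, ← pow_add]
  congr 1
  have : d + (d - i) = i + 2 * (d - i) := by omega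
  rw [this, pow_add, pow_mul]
  simp

/-- `λ_{-1}(q) ∈ F^d` for `q` positive of augmentation `d`. -/
theorem lamAlt_mem (P : PosStructure K) (q : K) (hq : q ∈ P.pos) :
    (∑ i ∈ range ((P.aug q).toNat + 1), (-1 : K) ^ i * lam i q) ∈
      gammaFiltration P (P.aug q).toNat := by
  rw [lamAlt_eq P]
  refine smul_mem P _ _ _ (gamma_mem_gammaFiltration P _ _ ?_)
  rw [map_sub, map_natCast, Int.toNat_of_nonneg (le_of_lt (P.aug_pos q hq)), sub_self]

theorem gamma_map {L : Type u} [CommRing L] [LambdaOps L] (g : K →+* L) (hg : IsLambdaHom g)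
    (k : ℕ) (y : K) : g (gamma k y) = gamma k (g y) := by
  unfold gamma
  split_ifs with h
  · exact map_one g
  · rw [map_sum]
    refine Finset.sum_congr rfl fun j _ => ?_
    rw [map_mul, map_natCast]
    split_ifs with hj
    · rw [map_zero]
    · rw [hg]

/-- A surjective λ-homomorphism compatible with augmentations maps `F^m` onto `F^m`. -/
theorem exists_preimage_mem {L : Type u} [CommRing L] [LambdaOps L] (P : PosStructure K)
    (PL : PosStructure L) (g : K →+* L) (hg : IsLambdaHom g) (hgaug : ∀ y : K, PL.aug (g y) = P.aug y)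
    (hgsurj : Function.Surjective g) (m : ℕ) (x : L) (hx : x ∈ gammaFiltration PL m) :
    ∃ y ∈ gammaFiltration P m, g y = x := by
  unfold gammaFiltration at hx ⊢
  split_ifs at hx ⊢ with hm
  · obtain ⟨y, hy⟩ := hgsurj x
    exact ⟨y, trivial, hy⟩
  · induction hx using AddSubgroup.closure_induction with
    | mem x hx =>
      obtain ⟨l, hl0, hlsum, rfl⟩ := hx
      let l' : List (ℕ × K) := l.map fun p => (p.1, Function.surjInv hgsurj p.2)
      refine ⟨(l'.map fun p => gamma p.1 p.2).prod, AddSubgroup.subset_closure ⟨l', ?_, ?_, rfl⟩, ?_⟩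
      · intro p hp
        obtain ⟨p0, hp0, rfl⟩ := List.mem_map.mp hp
        show P.aug (Function.surjInv hgsurj p0.2) = 0
        rw [← hgaug, Function.surjInv_eq hgsurj, hl0 p0 hp0]
      · have : l'.map Prod.fst = l.map Prod.fst := by
          simp only [l', List.map_map]
          rfl
        rw [this]; exact hlsum
      · rw [map_list_prod, List.map_map, List.map_map]
        congr 1
        refine List.map_congr_left fun p _ => ?_
        simp only [Function.comp_apply]
        rw [gamma_map g hg, Function.surjInv_eq hgsurj]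
    | zero => exact ⟨0, AddSubgroup.zero_mem _, map_zero g⟩
    | add a b _ _ iha ihb =>
      obtain ⟨ya, hya, rfl⟩ := iha
      obtain ⟨yb, hyb, rfl⟩ := ihb
      exact ⟨ya + yb, AddSubgroup.add_mem _ hya hyb, map_add g ya yb⟩
    | neg a _ iha =>
      obtain ⟨ya, hya, rfl⟩ := iha
      exact ⟨-ya, AddSubgroup.neg_mem _ hya, map_neg g ya⟩

end Groth.Agent.Lib.Helper20.LamFil
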