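import Mathlib
import Groth.Prelude.Def_LambdaRing
import Groth.Prelude.Def_KRR
import Groth.Agent.Lib.Helper20.LamSplit

set_option autoImplicit false
universe u
open LambdaRing LambdaRing.LambdaOps Finset

namespace Groth.Agent.Lib.Helper20.LamSigma

open Groth.Agent.Lib.Helper20.LamSplit

variable {K : Type u} [CommRing K] [LambdaOps K]

/-- `(1 + X)^m` has binomial coefficients. -/
theorem coeff_one_add_X_pow (m i : ℕ) :
    PowerSeries.coeff i ((1 + PowerSeries.X : PowerSeries ℤ) ^ m) = (m.choose i : ℤ) := by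
  have h : ((1 + Polynomial.X : Polynomial ℤ) ^ m : Polynomial ℤ) = ((1 + PowerSeries.X : PowerSeries ℤ) ^ m) := by
    rw [Polynomial.coe_pow, Polynomial.coe_add, Polynomial.coe_one, Polynomial.coe_X]
  rw [← h, Polynomial.coeff_coe, Polynomial.coeff_one_add_X_pow]

theorem rescale_one_add_X_pow (m : ℕ) :
    PowerSeries.rescale (-1 : ℤ) ((1 + PowerSeries.X : PowerSeries ℤ) ^ m) =
      (1 - PowerSeries.X) ^ m := by
  rw [map_pow, map_add, map_one, PowerSeries.rescale_X]
  congr 1
  simp [sub_eq_add_neg]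

theorem coeff_one_sub_X_pow (m i : ℕ) :
    PowerSeries.coeff i ((1 - PowerSeries.X : PowerSeries ℤ) ^ m) = (-1 : ℤ) ^ i * (m.choose i : ℤ) := by
  rw [← rescale_one_add_X_pow, PowerSeries.coeff_rescale, coeff_one_add_X_pow]

/-- The augmentation of `σ_t(e)` is `(1 - t)^{-(r+1)}`. -/
theorem map_aug_sigmaSeries (P : PosStructure K) (hK : HasSplitting K P) (e : K) (he : e ∈ P.pos)
    (r : ℕ) (hr : P.aug e = r + 1) :
    PowerSeries.map P.aug (KRR.sigmaSeries e) = (PowerSeries.mk 1 : PowerSeries ℤ) ^ (r + 1) := by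
  have hm : (P.aug e).toNat = r + 1 := by rw [hr]; exact_mod_cast Int.toNat_natCast (r + 1)
  set B : PowerSeries K := PowerSeries.rescale (-1 : K) (LambdaRing.lamSeries e) with hB
  have hconst : PowerSeries.constantCoeff B = ((1 : Kˣ) : K) := by
    rw [hB, ← PowerSeries.coeff_zero_eq_constantCoeff_apply, PowerSeries.coeff_rescale]
    simp [LambdaRing.lamSeries, LambdaRing.LambdaOps.lam_zero]
  have hσB : KRR.sigmaSeries e * B = 1 := PowerSeries.invOfUnit_mul B 1 hconst
  have hmapB : PowerSeries.map P.aug B =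
      PowerSeries.rescale (-1 : ℤ) ((1 + PowerSeries.X : PowerSeries ℤ) ^ (r + 1)) := by
    ext i
    rw [PowerSeries.coeff_map, hB, PowerSeries.coeff_rescale, PowerSeries.coeff_rescale,
      coeff_one_add_X_pow, map_mul, map_pow, map_neg, map_one]
    congr 1
    rw [LambdaRing.lamSeries, PowerSeries.coeff_mk, aug_lam_eq_choose P hK e he i, hm]
  have h1 : PowerSeries.map P.aug (KRR.sigmaSeries e) * (1 - PowerSeries.X) ^ (r + 1) = 1 := by
    rw [← rescale_one_add_X_pow, ← hmapB, ← map_mul, hσB, map_one]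
  have h2 : (PowerSeries.mk 1 : PowerSeries ℤ) ^ (r + 1) * (1 - PowerSeries.X) ^ (r + 1) = 1 := by
    rw [← mul_pow, PowerSeries.mk_one_mul_one_sub_eq_one, one_pow]
  calc PowerSeries.map P.aug (KRR.sigmaSeries e)
      = PowerSeries.map P.aug (KRR.sigmaSeries e) *
          ((PowerSeries.mk 1 : PowerSeries ℤ) ^ (r + 1) * (1 - PowerSeries.X) ^ (r + 1)) := by
        rw [h2, mul_one]
    _ = (PowerSeries.map P.aug (KRR.sigmaSeries e) * (1 - PowerSeries.X) ^ (r + 1)) *
          (PowerSeries.mk 1 : PowerSeries ℤ) ^ (r + 1) := by ring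
    _ = (PowerSeries.mk 1 : PowerSeries ℤ) ^ (r + 1) := by rw [h1, one_mul]

theorem aug_sigma (P : PosStructure K) (hK : HasSplitting K P) (e : K) (he : e ∈ P.pos)
    (r : ℕ) (hr : P.aug e = r + 1) (j : ℕ) :
    P.aug (KRR.sigma j e) = ((r + j).choose r : ℤ) := by
  have h4 := congrArg (PowerSeries.coeff j) (map_aug_sigmaSeries P hK e he r hr)
  rw [PowerSeries.coeff_map, PowerSeries.mk_one_pow_eq_mk_choose_add, PowerSeries.coeff_mk] at h4
  exact h4

/-- `Σ_m (-1)^(r-m) C(r,m) C(r+m,r) = 1`. -/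
theorem sum_choose_identity (r : ℕ) :
    ∑ m ∈ range (r + 1), (-1 : ℤ) ^ (r - m) * (r.choose m : ℤ) * ((r + m).choose r : ℤ) = 1 := by
  have h1 : ((1 - PowerSeries.X : PowerSeries ℤ) ^ r) * (PowerSeries.mk 1 : PowerSeries ℤ) ^ (r + 1) =
      PowerSeries.mk 1 := by
    rw [pow_succ, ← mul_assoc, ← mul_pow, mul_comm (1 - PowerSeries.X),
      PowerSeries.mk_one_mul_one_sub_eq_one, one_pow, one_mul]
  have h2 := congrArg (PowerSeries.coeff r) h1
  rw [PowerSeries.coeff_mul, PowerSeries.coeff_mk, Pi.one_apply,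
    Finset.Nat.sum_antidiagonal_eq_sum_range_succ_mk, ← Finset.sum_range_reflect] at h2
  refine Eq.trans (Finset.sum_congr rfl fun m hm => ?_) h2
  rw [Finset.mem_range] at hm
  have e1 : r.succ - 1 - m = r - m := by omega
  have e2 : r - (r - m) = m := by omega
  simp only
  rw [e1, e2, coeff_one_sub_X_pow, PowerSeries.mk_one_pow_eq_mk_choose_add, PowerSeries.coeff_mk,
    Nat.choose_symm (by omega : m ≤ r)]

end Groth.Agent.Lib.Helper20.LamSigma
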