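import Mathlib
import Groth.Prelude.Def_LambdaRing
import Groth.Agent.Lib.Helper20.LamAdams
import Groth.Agent.Lib.Helper20.LamFil
import Groth.Agent.Lib.Helper20.LamSigma
import Groth.Agent.S3289

/-!
# The determinant `det : K → Kˣ` of a λ-ring with positive structure, and `Gr^1`

* `topLam P e = λ^{ε(e)}(e)`, multiplicative on positive elements;
* `det P x`, with `det (e - f) · topLam f = topLam e`; additive-to-multiplicative, `det u = u` on lines,
  compatible with extensions;
* `multiSplit`: simultaneous splitting of a list of positive elements;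
* `det_eq_one_of_mem_two`: `det = 1` on `F^2` (splitting property);
* `gammaFiltration_antitone`.
-/

set_option autoImplicit false
universe u
open LambdaRing LambdaRing.LambdaOps Finset

namespace Groth.Agent.Lib.Helper20.LamDet

open Groth.Agent.Lib.Helper20.LamSplit Groth.Agent.Lib.Helper20.LamAdams Groth.Agent.Lib.Helper20.LamFil

variable {K : Type u} [CommRing K] [LambdaOps K]

/-- `λ^{ε(e)}(e)`. -/
def topLam (P : PosStructure K) (e : K) : K := lam (P.aug e).toNat e

theorem isUnit_topLam (P : PosStructure K) (e : K) (he : e ∈ P.pos) : IsUnit (topLam P e) :=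
  P.isUnit_lam e he

theorem topLam_add (P : PosStructure K) (e g : K) (he : e ∈ P.pos) (hg : g ∈ P.pos) :
    topLam P (e + g) = topLam P e * topLam P g := by
  have hr := P.aug_pos e he
  have hs := P.aug_pos g hg
  obtain ⟨r, hr'⟩ := Int.eq_ofNat_of_zero_le hr.le
  obtain ⟨s, hs'⟩ := Int.eq_ofNat_of_zero_le hs.le
  have h1 : (P.aug (e + g)).toNat = r + s := by rw [map_add, hr', hs']; exact_mod_cast Int.toNat_natCast (r + s)
  have h2 : (P.aug e).toNat = r := by rw [hr']; exact Int.toNat_natCast r
  have h3 : (P.aug g).toNat = s := by rw [hs']; exact Int.toNat_natCast s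
  rw [topLam, topLam, topLam, h1, h2, h3, lam_add, Finset.sum_eq_single r]
  · rw [Nat.add_sub_cancel_left]
  · intro i hi hir
    rw [Finset.mem_range] at hi
    rcases Nat.lt_or_gt_of_ne hir with h | h
    · rw [P.lam_eq_zero g hg (r + s - i) (by rw [hs']; exact_mod_cast (by omega : s < r + s - i)), mul_zero]
    · rw [P.lam_eq_zero e he i (by rw [hr']; exact_mod_cast h), zero_mul]
  · intro h
    exact absurd (Finset.mem_range.mpr (by omega)) h

/-- The determinant: `det (e - f) = λ^top(e) / λ^top(f)`. -/
noncomputable def det (P : PosStructure K) (x : K) : K :=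
  topLam P (Classical.choose (P.exists_sub x)) *
    Ring.inverse (topLam P (Classical.choose (Classical.choose_spec (P.exists_sub x))))

theorem det_mul_topLam (P : PosStructure K) (x e f : K) (he : e ∈ P.pos) (hf : f ∈ P.pos)
    (hx : x = e - f) : det P x * topLam P f = topLam P e := by
  obtain ⟨he0, hf0, hx0⟩ := Classical.choose_spec (Classical.choose_spec (P.exists_sub x))
  set e0 := Classical.choose (P.exists_sub x) with he0'
  set f0 := Classical.choose (Classical.choose_spec (P.exists_sub x)) with hf0'
  have h1 : e + f0 = e0 + f := by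
    have : e - f = e0 - f0 := by rw [← hx, ← hx0]
    linear_combination this
  have h2 : topLam P e * topLam P f0 = topLam P e0 * topLam P f := by
    rw [← topLam_add P e f0 he hf0, ← topLam_add P e0 f he0 hf, h1]
  have hu := isUnit_topLam P f0 hf0
  show topLam P e0 * Ring.inverse (topLam P f0) * topLam P f = topLam P e
  calc topLam P e0 * Ring.inverse (topLam P f0) * topLam P f
      = (topLam P e0 * topLam P f) * Ring.inverse (topLam P f0) := by ring
    _ = topLam P e * (topLam P f0 * Ring.inverse (topLam P f0)) := by rw [← h2]; ring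
    _ = topLam P e := by rw [Ring.mul_inverse_cancel _ hu, mul_one]

theorem isUnit_det (P : PosStructure K) (x : K) : IsUnit (det P x) := by
  obtain ⟨e, f, he, hf, hx⟩ := P.exists_sub x
  have h := det_mul_topLam P x e f he hf hx
  have hu : IsUnit (det P x * topLam P f) := by rw [h]; exact isUnit_topLam P e he
  exact isUnit_of_mul_isUnit_left hu

theorem det_add (P : PosStructure K) (x y : K) : det P (x + y) = det P x * det P y := by
  obtain ⟨e, f, he, hf, hx⟩ := P.exists_sub x
  obtain ⟨e', f', he', hf', hy⟩ := P.exists_sub y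
  have h1 := det_mul_topLam P x e f he hf hx
  have h2 := det_mul_topLam P y e' f' he' hf' hy
  have h3 := det_mul_topLam P (x + y) (e + e') (f + f') (P.add_mem _ _ he he') (P.add_mem _ _ hf hf')
    (by rw [hx, hy]; ring)
  rw [topLam_add P e e' he he', topLam_add P f f' hf hf'] at h3
  have hu : IsUnit (topLam P f * topLam P f') := (isUnit_topLam P f hf).mul (isUnit_topLam P f' hf')
  refine hu.mul_right_cancel ?_
  rw [h3, ← h1, ← h2]
  ring

theorem det_zero (P : PosStructure K) : det P (0 : K) = 1 := by
  have h := det_add P 0 0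
  rw [add_zero] at h
  have hu := isUnit_det P (0 : K)
  exact (hu.mul_left_cancel (by rw [mul_one]; exact h)).symm

theorem det_neg_mul (P : PosStructure K) (x : K) : det P (-x) * det P x = 1 := by
  rw [← det_add, neg_add_cancel, det_zero]

theorem det_sub_mul (P : PosStructure K) (x y : K) : det P (x - y) * det P y = det P x := by
  rw [← det_add, sub_add_cancel]

theorem one_mem_pos (P : PosStructure K) : (1 : K) ∈ P.pos := by
  have := P.natCast_mem 1 Nat.one_pos
  simpa using this

theorem topLam_line (P : PosStructure K) (v : K) (hv : P.IsLine v) : topLam P v = v := by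
  rw [topLam, hv.2]
  exact lam_one v

theorem det_line (P : PosStructure K) (v : K) (hv : P.IsLine v) : det P v = v := by
  have h := det_mul_topLam P v (v + 1) 1 (P.add_mem _ _ hv.1 (one_mem_pos P)) (one_mem_pos P) (by ring)
  rw [topLam_add P v 1 hv.1 (one_mem_pos P), topLam_line P v hv] at h
  exact (isUnit_topLam P 1 (one_mem_pos P)).mul_right_cancel h

section Ext

variable {L : Type u} [CommRing L] [LambdaOps L] (P : PosStructure K) (PL : PosStructure L)
  (f : K →+* L) (hf : IsExtension P PL f)

include hf

theorem topLam_map (e : K) : f (topLam P e) = topLam PL (f e) := by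
  rw [topLam, topLam, hf.isLambdaHom, hf.aug_comp]

theorem det_map (x : K) : f (det P x) = det PL (f x) := by
  obtain ⟨e, g, he, hg, hx⟩ := P.exists_sub x
  have h1 := det_mul_topLam P x e g he hg hx
  have h2 := det_mul_topLam PL (f x) (f e) (f g) (hf.pos_subset e he) (hf.pos_subset g hg)
    (by rw [hx, map_sub])
  have h3 := congrArg f h1
  rw [map_mul, topLam_map P PL f hf, topLam_map P PL f hf] at h3
  exact (isUnit_topLam PL (f g) (hf.pos_subset g hg)).mul_right_cancel (h3.trans h2.symm)

end Ext

/-! ### Products of `(line - 1)` -/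

/-- `w · Π_{v ∈ ws} (v - 1)` for lines `w`, `v ∈ ws`, `|ws| = n`. -/
def lineProd (P : PosStructure K) (n : ℕ) : Set K :=
  {y | ∃ (w : K) (ws : List K), P.IsLine w ∧ (∀ v ∈ ws, P.IsLine v) ∧ ws.length = n ∧
    y = w * (ws.map fun v => v - 1).prod}

/-- The additive span of `lineProd P n`. -/
def II (P : PosStructure K) (n : ℕ) : AddSubgroup K := AddSubgroup.closure (lineProd P n)

theorem II_mul (P : PosStructure K) (m n : ℕ) (x y : K) (hx : x ∈ II P m) (hy : y ∈ II P n) :
    x * y ∈ II P (m + n) := by
  unfold II at hx hy ⊢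
  induction hx using AddSubgroup.closure_induction with
  | mem x hx =>
    induction hy using AddSubgroup.closure_induction with
    | mem y hy =>
      obtain ⟨w, ws, hw, hws, hl, rfl⟩ := hx
      obtain ⟨w', ws', hw', hws', hl', rfl⟩ := hy
      refine AddSubgroup.subset_closure ⟨w * w', ws ++ ws', Groth.Agent.S3791.isLine_mul P hw hw', ?_, ?_, ?_⟩
      · intro v hv
        rcases List.mem_append.mp hv with h | h
        · exact hws v h
        · exact hws' v h
      · rw [List.length_append, hl, hl']
      · rw [List.map_append, List.prod_append]; ring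
    | zero => rw [mul_zero]; exact AddSubgroup.zero_mem _
    | add y z _ _ h1 h2 => rw [mul_add]; exact AddSubgroup.add_mem _ h1 h2
    | neg y _ h => rw [mul_neg]; exact AddSubgroup.neg_mem _ h
  | zero => rw [zero_mul]; exact AddSubgroup.zero_mem _
  | add x z _ _ h1 h2 => rw [add_mul]; exact AddSubgroup.add_mem _ h1 h2
  | neg x _ h => rw [neg_mul]; exact AddSubgroup.neg_mem _ h

theorem one_mem_II_zero (P : PosStructure K) : (1 : K) ∈ II P 0 :=
  AddSubgroup.subset_closure ⟨1, [], Groth.Agent.S3791.isLine_one P, by simp, rfl, by simp⟩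

/-- The key computation: `det (w · Π (v - 1))` does not depend on the line `w` (for nonempty lists), and is `1`
for lists of length at least two. -/
theorem det_lineProd_aux (P : PosStructure K) (ws : List K) (hws : ∀ v ∈ ws, P.IsLine v) (hne : ws ≠ []) :
    ∃ c : K, (∀ w : K, P.IsLine w → det P (w * (ws.map fun v => v - 1).prod) = c) ∧
      (2 ≤ ws.length → c = 1) := by
  induction ws with
  | nil => exact absurd rfl hne
  | cons v ws ih =>
    have hv : P.IsLine v := hws v (List.mem_cons_self)
    have hws' : ∀ v ∈ ws, P.IsLine v := fun v' h => hws v' (List.mem_cons_of_mem _ h)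
    by_cases hnil : ws = []
    · subst hnil
      refine ⟨v, fun w hw => ?_, fun h => by simp at h⟩
      simp only [List.map_cons, List.map_nil, List.prod_cons, List.prod_nil, mul_one]
      have h1 := det_sub_mul P (w * v) w
      rw [det_line P w hw, det_line P (w * v) (Groth.Agent.S3791.isLine_mul P hw hv)] at h1
      have hu : IsUnit w := Groth.Agent.S3791.isUnit_of_isLine P hw
      refine hu.mul_right_cancel ?_
      have e : w * (v - 1) = w * v - w := by ring
      rw [e, h1, mul_comm]
    · obtain ⟨c, hc, _⟩ := ih hws' hnil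
      refine ⟨1, fun w hw => ?_, fun _ => rfl⟩
      have h1 := det_sub_mul P ((w * v) * (ws.map fun v => v - 1).prod) (w * (ws.map fun v => v - 1).prod)
      rw [hc w hw, hc (w * v) (Groth.Agent.S3791.isLine_mul P hw hv)] at h1
      have hcu : IsUnit c := by rw [← hc w hw]; exact isUnit_det P _
      have h2 : w * ((v :: ws).map fun v => v - 1).prod =
          (w * v) * (ws.map fun v => v - 1).prod - w * (ws.map fun v => v - 1).prod := by
        rw [List.map_cons, List.prod_cons]; ring
      rw [h2]
      exact hcu.mul_right_cancel (by rw [h1, one_mul])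

theorem det_eq_one_of_mem_II (P : PosStructure K) (n : ℕ) (hn : 2 ≤ n) (x : K) (hx : x ∈ II P n) :
    det P x = 1 := by
  unfold II at hx
  induction hx using AddSubgroup.closure_induction with
  | mem x hx =>
    obtain ⟨w, ws, hw, hws, hl, rfl⟩ := hx
    obtain ⟨c, hc, hc1⟩ := det_lineProd_aux P ws hws (by rintro rfl; simp at hl; omega)
    rw [hc w hw, hc1 (by omega)]
  | zero => exact det_zero P
  | add x y _ _ h1 h2 => rw [det_add, h1, h2, mul_one]
  | neg x _ h =>
    have := det_neg_mul P x
    rwa [h, mul_one] at this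

/-! ### Elements all of whose `γ^r` lie in `II r` -/

theorem gamma_zero' (y : K) : gamma 0 y = 1 := by simp [gamma]

theorem gamma_one' (y : K) : gamma 1 y = y := by
  simp [gamma, Finset.sum_range_succ, lam_one]

theorem gamma_line (P : PosStructure K) (v : K) (hv : P.IsLine v) (k : ℕ) (hk : 1 ≤ k) : gamma k v = v := by
  unfold gamma
  rw [if_neg (by omega), Finset.sum_eq_single 1]
  · simp [lam_one]
  · intro j _ hj1
    by_cases hj0 : j = 0
    · simp [hj0]
    · rw [if_neg hj0, isLineLike_of_isLine P hv j (by omega), mul_zero]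
  · intro h
    exact absurd (Finset.mem_range.mpr (by omega)) h

theorem gamma_of_zero (k : ℕ) (hk : 1 ≤ k) : gamma k (0 : K) = 0 := by
  unfold gamma
  rw [if_neg (by omega)]
  refine Finset.sum_eq_zero fun j _ => ?_
  by_cases hj0 : j = 0
  · simp [hj0]
  · rw [if_neg hj0]
    have h := congrArg (PowerSeries.coeff j) (Groth.Agent.S3791.lamSeries_zero (K := K))
    rw [lamSeries, PowerSeries.coeff_mk, PowerSeries.coeff_one, if_neg hj0] at h
    rw [h, mul_zero]

/-- Elements all of whose `γ^r` lie in `II r`. -/
def JJ (P : PosStructure K) : Set K := {y | ∀ r : ℕ, gamma r y ∈ II P r}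

theorem zero_mem_JJ (P : PosStructure K) : (0 : K) ∈ JJ P := by
  intro r
  rcases Nat.eq_zero_or_pos r with h | h
  · subst h; rw [gamma_zero']; exact one_mem_II_zero P
  · rw [gamma_of_zero r h]; exact AddSubgroup.zero_mem _

theorem add_mem_JJ (P : PosStructure K) (y z : K) (hy : y ∈ JJ P) (hz : z ∈ JJ P) : y + z ∈ JJ P := by
  intro r
  rw [Groth.Agent.S3289.result K r y z]
  refine AddSubgroup.sum_mem _ fun i hi => ?_
  have hi' := Finset.mem_range.mp hi
  have := II_mul P i (r - i) _ _ (hy i) (hz (r - i))
  rwa [show i + (r - i) = r by omega] at this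

theorem line_sub_one_mem_JJ (P : PosStructure K) (v : K) (hv : P.IsLine v) : v - 1 ∈ JJ P := by
  intro r
  rcases r with _ | _ | r
  · rw [gamma_zero']; exact one_mem_II_zero P
  · rw [gamma_one']
    exact AddSubgroup.subset_closure ⟨1, [v], Groth.Agent.S3791.isLine_one P, by simpa using hv, rfl, by simp⟩
  · rw [gamma_sub_one (lam_one_eq_zero P), gamma_line P v hv _ (by omega), gamma_line P v hv _ (by omega), sub_self]
    exact AddSubgroup.zero_mem _

theorem gamma_one_sub_line (P : PosStructure K) (v : K) (hv : P.IsLine v) (r : ℕ) :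
    gamma r (1 - v) = (1 - v) ^ r := by
  induction r with
  | zero => rw [gamma_zero', pow_zero]
  | succ r ih =>
    have h := Groth.Agent.S3289.result K (r + 1) (1 - v) (v - 1)
    rw [show (1 - v) + (v - 1) = (0 : K) by ring, gamma_of_zero (r + 1) (by omega),
      Finset.sum_range_succ, Finset.sum_range_succ, Nat.sub_self, gamma_zero', mul_one,
      show r + 1 - r = 1 by omega, gamma_one', ih] at h
    have hz : ∑ x ∈ range r, gamma x (1 - v) * gamma (r + 1 - x) (v - 1) = 0 := by
      refine Finset.sum_eq_zero fun i hi => ?_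
      have hi' := Finset.mem_range.mp hi
      obtain ⟨k, hk⟩ : ∃ k, r + 1 - i = k + 2 := ⟨r + 1 - i - 2, by omega⟩
      rw [hk, gamma_sub_one (lam_one_eq_zero P), gamma_line P v hv _ (by omega),
        gamma_line P v hv _ (by omega), sub_self, mul_zero]
    rw [hz, zero_add] at h
    rw [pow_succ]
    linear_combination -h

theorem one_sub_line_mem_JJ (P : PosStructure K) (v : K) (hv : P.IsLine v) : 1 - v ∈ JJ P := by
  intro r
  rw [gamma_one_sub_line P v hv]
  have h1 : (v - 1) ^ r ∈ II P r := by
    refine AddSubgroup.subset_closure ⟨1, List.replicate r v, Groth.Agent.S3791.isLine_one P, ?_, ?_, ?_⟩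
    · intro w hw
      rw [List.eq_of_mem_replicate hw]; exact hv
    · simp
    · simp
  have h2 : (1 - v) ^ r = (-1 : K) ^ r * (v - 1) ^ r := by rw [← mul_pow]; congr 1; ring
  rw [h2]
  rcases neg_one_pow_eq_or K r with h | h
  · rw [h, one_mul]; exact h1
  · rw [h, neg_one_mul]; exact AddSubgroup.neg_mem _ h1

theorem sum_sub_card_mem_JJ (P : PosStructure K) (s : Multiset K) (hs : ∀ v ∈ s, P.IsLine v) :
    s.sum - (Multiset.card s : K) ∈ JJ P := by
  induction s using Multiset.induction_on with
  | empty => simpa using zero_mem_JJ P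
  | cons a s ih =>
    have h1 := line_sub_one_mem_JJ P a (hs a (Multiset.mem_cons_self a s))
    have h2 := ih fun v hv => hs v (Multiset.mem_cons_of_mem hv)
    have := add_mem_JJ P _ _ h1 h2
    rw [Multiset.sum_cons, Multiset.card_cons]
    push_cast
    convert this using 1
    ring

theorem card_sub_sum_mem_JJ (P : PosStructure K) (s : Multiset K) (hs : ∀ v ∈ s, P.IsLine v) :
    (Multiset.card s : K) - s.sum ∈ JJ P := by
  induction s using Multiset.induction_on with
  | empty => simpa using zero_mem_JJ P
  | cons a s ih =>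
    have h1 := one_sub_line_mem_JJ P a (hs a (Multiset.mem_cons_self a s))
    have h2 := ih fun v hv => hs v (Multiset.mem_cons_of_mem hv)
    have := add_mem_JJ P _ _ h1 h2
    rw [Multiset.sum_cons, Multiset.card_cons]
    push_cast
    convert this using 1
    ring

theorem prod_gamma_mem_II (P : PosStructure K) (l : List (ℕ × K)) (hl : ∀ p ∈ l, p.2 ∈ JJ P) :
    (l.map fun p => gamma p.1 p.2).prod ∈ II P (l.map Prod.fst).sum := by
  induction l with
  | nil => simpa using one_mem_II_zero P
  | cons p l ih =>
    simp only [List.map_cons, List.prod_cons, List.sum_cons]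
    exact II_mul P _ _ _ _ (hl p List.mem_cons_self p.1) (ih fun q hq => hl q (List.mem_cons_of_mem _ hq))

/-! ### Simultaneous splitting -/

theorem isExtension_id (P : PosStructure K) : IsExtension P P (RingHom.id K) :=
  ⟨fun _ _ => rfl, fun _ _ h => h, fun _ => rfl, fun _ h => h⟩

theorem isExtension_comp {L M : Type u} [CommRing L] [LambdaOps L] [CommRing M] [LambdaOps M]
    (P : PosStructure K) (PL : PosStructure L) (PM : PosStructure M) (f : K →+* L) (g : L →+* M)
    (hf : IsExtension P PL f) (hg : IsExtension PL PM g) : IsExtension P PM (g.comp f) :=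
  ⟨fun i x => by rw [RingHom.comp_apply, hf.isLambdaHom, hg.isLambdaHom]; rfl,
    hg.injective.comp hf.injective,
    fun x => by rw [RingHom.comp_apply, hg.aug_comp, hf.aug_comp],
    fun e he => hg.pos_subset _ (hf.pos_subset e he)⟩

theorem multiSplit_aux (n : ℕ) : ∀ (L0 : PosLambdaRing.{u}) (_ : HasSplitting L0.carrier L0.posStr)
    (l : List L0.carrier), l.length = n → (∀ e ∈ l, e ∈ L0.posStr.pos) →
    ∃ (L : PosLambdaRing.{u}) (f : L0.carrier →+* L.carrier), HasSplitting L.carrier L.posStr ∧
      IsExtension L0.posStr L.posStr f ∧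
      ∀ e ∈ l, ∃ s : Multiset L.carrier, (∀ v ∈ s, L.posStr.IsLine v) ∧ s.sum = f e := by
  induction n with
  | zero =>
    intro L0 hL0 l hl _
    refine ⟨L0, RingHom.id _, hL0, isExtension_id _, ?_⟩
    intro e he
    rw [List.length_eq_zero_iff.mp hl] at he
    simp at he
  | succ n ih =>
    intro L0 hL0 l hl hpos
    obtain ⟨e, l', rfl⟩ := List.exists_cons_of_length_eq_add_one hl
    obtain ⟨L1, f1, hL1, hf1, s, hs, hsum⟩ := exists_split' L0.posStr hL0 e (hpos e List.mem_cons_self)
    obtain ⟨L2, f2, hL2, hf2, hall⟩ := ih L1 hL1 (l'.map f1) (by simpa using hl) (by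
      intro x hx
      obtain ⟨y, hy, rfl⟩ := List.mem_map.mp hx
      exact hf1.pos_subset y (hpos y (List.mem_cons_of_mem _ hy)))
    refine ⟨L2, f2.comp f1, hL2, isExtension_comp _ _ _ f1 f2 hf1 hf2, ?_⟩
    intro x hx
    rcases List.mem_cons.mp hx with rfl | hx'
    · refine ⟨s.map f2, ?_, ?_⟩
      · intro v hv
        obtain ⟨w, hw, rfl⟩ := Multiset.mem_map.mp hv
        exact isLine_map L1.posStr L2.posStr f2 hf2 (hs w hw)
      · rw [← map_multiset_sum, hsum]; rfl
    · exact hall (f1 x) (List.mem_map_of_mem hx')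

theorem multiSplit (P : PosStructure K) (hK : HasSplitting K P) (l : List K) (hl : ∀ e ∈ l, e ∈ P.pos) :
    ∃ (L : PosLambdaRing.{u}) (f : K →+* L.carrier), HasSplitting L.carrier L.posStr ∧
      IsExtension P L.posStr f ∧
      ∀ e ∈ l, ∃ s : Multiset L.carrier, (∀ v ∈ s, L.posStr.IsLine v) ∧ s.sum = f e :=
  multiSplit_aux l.length ⟨K, P⟩ hK l rfl hl

/-! ### `det = 1` on `F^2` -/

/-- In an extension splitting `E x` and `F x` with `x = E x - F x`, `ε(x) = 0`, the image of `x` lies in `JJ`. -/
theorem map_mem_JJ {L : Type u} [CommRing L] [LambdaOps L] (P : PosStructure K) (PL : PosStructure L)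
    (f : K →+* L) (hf : IsExtension P PL f) (x e g : K) (hx : x = e - g) (hx0 : P.aug x = 0)
    (s t : Multiset L) (hs : ∀ v ∈ s, PL.IsLine v) (ht : ∀ v ∈ t, PL.IsLine v)
    (hse : s.sum = f e) (htg : t.sum = f g) : f x ∈ JJ PL := by
  have h1 : (Multiset.card s : ℤ) = Multiset.card t := by
    rw [← aug_sum PL s hs, ← aug_sum PL t ht, hse, htg, hf.aug_comp, hf.aug_comp]
    have : P.aug e - P.aug g = 0 := by rw [← map_sub, ← hx, hx0]
    linarith
  have h1' : Multiset.card s = Multiset.card t := by exact_mod_cast h1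
  have h2 : f x = (s.sum - (Multiset.card s : L)) + ((Multiset.card t : L) - t.sum) := by
    rw [hx, map_sub, hse, htg, h1']; ring
  rw [h2]
  exact add_mem_JJ PL _ _ (sum_sub_card_mem_JJ PL s hs) (card_sub_sum_mem_JJ PL t ht)

theorem det_eq_one_of_mem_two (P : PosStructure K) (hK : HasSplitting K P) (x : K)
    (hx : x ∈ gammaFiltration P 2) : det P x = 1 := by
  unfold gammaFiltration at hx
  rw [if_neg (by omega)] at hx
  induction hx using AddSubgroup.closure_induction with
  | mem x hx =>
    obtain ⟨l, hl0, hlsum, rfl⟩ := hx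
    let E : K → K := fun x => Classical.choose (P.exists_sub x)
    let F : K → K := fun x => Classical.choose (Classical.choose_spec (P.exists_sub x))
    have hEF : ∀ x, E x ∈ P.pos ∧ F x ∈ P.pos ∧ x = E x - F x := fun x =>
      Classical.choose_spec (Classical.choose_spec (P.exists_sub x))
    obtain ⟨L, φ, hL, hφ, hall⟩ := multiSplit P hK (l.map (fun p => E p.2) ++ l.map (fun p => F p.2)) (by
      intro e he
      rcases List.mem_append.mp he with h | h
      · obtain ⟨p, _, rfl⟩ := List.mem_map.mp h; exact (hEF p.2).1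
      · obtain ⟨p, _, rfl⟩ := List.mem_map.mp h; exact (hEF p.2).2.1)
    apply hφ.injective
    rw [det_map P L.posStr φ hφ, map_one, map_list_prod, List.map_map]
    have h1 : (l.map (φ ∘ fun p => gamma p.1 p.2)) =
        ((l.map fun p => (p.1, φ p.2)).map fun p => gamma p.1 p.2) := by
      rw [List.map_map]
      refine List.map_congr_left fun p _ => ?_
      simp only [Function.comp_apply]
      exact gamma_map φ hφ.isLambdaHom p.1 p.2
    rw [h1]
    refine det_eq_one_of_mem_II L.posStr _ ?_ _ (prod_gamma_mem_II L.posStr _ ?_)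
    · rw [List.map_map]
      exact hlsum
    · intro q hq
      obtain ⟨p, hp, rfl⟩ := List.mem_map.mp hq
      obtain ⟨s, hs, hse⟩ := hall (E p.2) (List.mem_append_left _ (List.mem_map_of_mem (f := fun p => E p.2) hp))
      obtain ⟨t, ht, htg⟩ := hall (F p.2) (List.mem_append_right _ (List.mem_map_of_mem (f := fun p => F p.2) hp))
      exact map_mem_JJ P L.posStr φ hφ p.2 (E p.2) (F p.2) (hEF p.2).2.2 (hl0 p hp) s t hs ht hse htg
  | zero => exact det_zero P
  | add x y _ _ h1 h2 => rw [det_add, h1, h2, mul_one]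
  | neg x _ h =>
    have := det_neg_mul P x
    rwa [h, mul_one] at this

theorem gammaFiltration_antitone (P : PosStructure K) {m n : ℕ} (h : m ≤ n) :
    gammaFiltration P n ≤ gammaFiltration P m := by
  unfold gammaFiltration
  by_cases hm : m = 0
  · rw [if_pos hm]; exact le_top
  · rw [if_neg hm, if_neg (by omega)]
    refine AddSubgroup.closure_mono ?_
    rintro y ⟨l, hl0, hlsum, rfl⟩
    exact ⟨l, hl0, h.trans hlsum, rfl⟩

/-- `λ^m(x) = Σ_{i ≤ m} γ^i(x - m)`. -/
theorem lam_eq_sum_gamma (P : PosStructure K) (x : K) (m : ℕ) :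
    lam m x = ∑ i ∈ range (m + 1), gamma i (x - (m : K)) := by
  have h := congrArg (Polynomial.eval (1 : K)) (gamma_lam_poly (lam_one_eq_zero P) x m)
  rw [Polynomial.eval_finset_sum, Polynomial.eval_finset_sum] at h
  rw [Finset.sum_eq_single m (s := range (m + 1))
    (f := fun i => Polynomial.eval 1 (Polynomial.C (lam i x) * (Polynomial.X - 1) ^ (m - i)))] at h
  · simp only [Polynomial.eval_mul, Polynomial.eval_C, Polynomial.eval_pow, Polynomial.eval_X,
      Nat.sub_self, pow_zero, mul_one, one_pow] at h
    exact h.symm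
  · intro i hi him
    rw [Finset.mem_range] at hi
    have : m - i ≠ 0 := by omega
    simp [this]
  · intro hm
    exact absurd (Finset.mem_range.mpr (Nat.lt_succ_self m)) hm

/-- `topLam e - 1 ≡ e - ε(e)` modulo `F^2`. -/
theorem topLam_sub_one_sub_mem (P : PosStructure K) (e : K) (he : e ∈ P.pos) :
    (topLam P e - 1) - (e - ((P.aug e).toNat : K)) ∈ gammaFiltration P 2 := by
  have haug : P.aug (e - ((P.aug e).toNat : K)) = 0 := by
    rw [map_sub, map_natCast, Int.toNat_of_nonneg (P.aug_pos e he).le, sub_self]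
  have hm : 1 ≤ (P.aug e).toNat := by
    have := P.aug_pos e he
    omega
  obtain ⟨m, hm'⟩ : ∃ m, (P.aug e).toNat = m + 1 := ⟨(P.aug e).toNat - 1, by omega⟩
  rw [topLam, lam_eq_sum_gamma P e, hm', Finset.sum_range_succ', Finset.sum_range_succ', gamma_zero', gamma_one']
  have : (∑ k ∈ range m, gamma (k + 1 + 1) (e - ((m + 1 : ℕ) : K)) + (e - ((m + 1 : ℕ) : K)) + 1 - 1) -
      (e - ((m + 1 : ℕ) : K)) = ∑ k ∈ range m, gamma (k + 1 + 1) (e - ((m + 1 : ℕ) : K)) := by ring
  rw [this]
  refine AddSubgroup.sum_mem _ fun k _ => ?_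
  refine gammaFiltration_antitone P (by omega : 2 ≤ k + 1 + 1) (gamma_mem_gammaFiltration P _ _ ?_)
  rw [← hm']; exact haug

/-! ### `F^n ⊆ Ker ε` for `n ≥ 1` -/

theorem map_aug_lamSeries_pos (P : PosStructure K) (hK : HasSplitting K P) (e : K) (he : e ∈ P.pos) :
    PowerSeries.map P.aug (lamSeries e) = (1 + PowerSeries.X : PowerSeries ℤ) ^ (P.aug e).toNat := by
  ext j
  rw [PowerSeries.coeff_map, lamSeries, PowerSeries.coeff_mk, aug_lam_eq_choose P hK e he j,
    Groth.Agent.Lib.Helper20.LamSigma.coeff_one_add_X_pow]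

theorem map_aug_lamSeries_of_aug_zero (P : PosStructure K) (hK : HasSplitting K P) (x : K)
    (hx : P.aug x = 0) : PowerSeries.map P.aug (lamSeries x) = 1 := by
  obtain ⟨e, f, he, hf, hxe⟩ := P.exists_sub x
  have h1 : lamSeries e = lamSeries x * lamSeries f := by
    rw [← Groth.Agent.S3791.lamSeries_add, hxe, sub_add_cancel]
  have h2 := congrArg (PowerSeries.map P.aug) h1
  have haug : P.aug e = P.aug f := by
    have : P.aug e - P.aug f = 0 := by rw [← map_sub, ← hxe, hx]
    linarith
  rw [map_mul, map_aug_lamSeries_pos P hK e he, map_aug_lamSeries_pos P hK f hf, haug] at h2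
  have hne : (1 + PowerSeries.X : PowerSeries ℤ) ^ (P.aug f).toNat ≠ 0 := by
    refine pow_ne_zero _ ?_
    intro h0
    have := congrArg (PowerSeries.coeff 0) h0
    simp at this
  exact (mul_right_cancel₀ hne (by rw [one_mul]; exact h2)).symm

theorem aug_lam_of_aug_zero (P : PosStructure K) (hK : HasSplitting K P) (x : K)
    (hx : P.aug x = 0) (j : ℕ) (hj : 1 ≤ j) : P.aug (lam j x) = 0 := by
  have h := congrArg (PowerSeries.coeff j) (map_aug_lamSeries_of_aug_zero P hK x hx)
  rw [PowerSeries.coeff_map, lamSeries, PowerSeries.coeff_mk, PowerSeries.coeff_one, if_neg (by omega)] at h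
  exact h

theorem aug_gamma_of_aug_zero (P : PosStructure K) (hK : HasSplitting K P) (x : K)
    (hx : P.aug x = 0) (r : ℕ) (hr : 1 ≤ r) : P.aug (gamma r x) = 0 := by
  unfold gamma
  rw [if_neg (by omega), map_sum]
  refine Finset.sum_eq_zero fun j _ => ?_
  rw [map_mul]
  by_cases hj : j = 0
  · rw [if_pos hj, map_zero, mul_zero]
  · rw [if_neg hj, aug_lam_of_aug_zero P hK x hx j (by omega), mul_zero]

theorem aug_eq_zero_of_mem (P : PosStructure K) (hK : HasSplitting K P) (n : ℕ) (hn : 1 ≤ n) (x : K)
    (hx : x ∈ gammaFiltration P n) : P.aug x = 0 := by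
  unfold gammaFiltration at hx
  rw [if_neg (by omega)] at hx
  induction hx using AddSubgroup.closure_induction with
  | mem x hx =>
    obtain ⟨l, hl0, hlsum, rfl⟩ := hx
    have hex : ∃ p ∈ l, 1 ≤ p.1 := by
      by_contra hcon
      push Not at hcon
      have : (l.map Prod.fst).sum = 0 := by
        refine List.sum_eq_zero fun r hr => ?_
        obtain ⟨p, hp, rfl⟩ := List.mem_map.mp hr
        have := hcon p hp
        omega
      omega
    obtain ⟨p, hp, hp1⟩ := hex
    rw [map_list_prod, List.map_map]
    refine List.prod_eq_zero ?_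
    rw [List.mem_map]
    exact ⟨p, hp, by simp only [Function.comp_apply]; exact aug_gamma_of_aug_zero P hK p.2 (hl0 p hp) p.1 hp1⟩
  | zero => exact map_zero _
  | add x y _ _ h1 h2 => rw [map_add, h1, h2, add_zero]
  | neg x _ h => rw [map_neg, h, neg_zero]

end Groth.Agent.Lib.Helper20.LamDet
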