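import Mathlib
import Groth.Agent.Lib27.SymmPoly

/-!
# Polynomial side of `ψ^j ≡ j^r` on `Gr^r`

With `q_a = (1 + X_a)^j - 1`, the symmetric polynomial `D_r = e_r(q) - j^r e_r(X)` lies in `𝔪^{r+1}` and hence
is a polynomial in the elementary symmetric polynomials all of whose monomials have weight `≥ r + 1`.
-/

set_option autoImplicit false
open MvPolynomial Finset

namespace Groth.Agent.Lib.Helper20.LamPsiPoly

variable (m j r : ℕ)

/-- `(1 + X_a)^j - 1`. -/
noncomputable def qq (a : Fin m) : MvPolynomial (Fin m) ℤ := (1 + X a) ^ j - 1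

/-- `Σ_{k<j} (1 + X_a)^k`. -/
noncomputable def gg (a : Fin m) : MvPolynomial (Fin m) ℤ := ∑ k ∈ range j, (1 + X a) ^ k

theorem qq_eq (a : Fin m) : qq m j a = X a * gg m j a := by
  have h := geom_sum_mul (1 + X a : MvPolynomial (Fin m) ℤ) j
  rw [qq, gg, ← h]
  ring

/-- `D_r = e_r(q) - j^r e_r`. -/
noncomputable def DD : MvPolynomial (Fin m) ℤ :=
  aeval (qq m j) (esymm (Fin m) ℤ r) - C ((j : ℤ) ^ r) * esymm (Fin m) ℤ r

theorem DD_isSymmetric : (DD m j r).IsSymmetric := by
  intro e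
  rw [DD, map_sub, map_mul, rename_C, esymm_isSymmetric (Fin m) ℤ r e, comp_aeval_apply]
  congr 1
  have h1 : (fun i => rename e (qq m j i)) = (qq m j) ∘ e := by
    funext i
    simp [qq, rename_X]
  rw [h1, ← aeval_rename, esymm_isSymmetric (Fin m) ℤ r e]

theorem mem_idealOfVars_of_constantCoeff (p : MvPolynomial (Fin m) ℤ) (h : constantCoeff p = 0) :
    p ∈ idealOfVars (Fin m) ℤ := by
  have := (mem_pow_idealOfVars_iff' (σ := Fin m) (R := ℤ) 1 p).mpr (by
    intro x hx
    have hx0 : x = 0 := by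
      have : x.degree = 0 := by omega
      exact (Finsupp.degree_eq_zero_iff x).mp this
    rw [hx0]
    exact h)
  rwa [pow_one] at this

theorem X_mem_idealOfVars (a : Fin m) : (X a : MvPolynomial (Fin m) ℤ) ∈ idealOfVars (Fin m) ℤ :=
  Ideal.subset_span ⟨a, rfl⟩

theorem DD_mem : DD m j r ∈ idealOfVars (Fin m) ℤ ^ (r + 1) := by
  have h1 : DD m j r = ∑ t ∈ powersetCard r (univ : Finset (Fin m)),
      (∏ i ∈ t, X i) * ((∏ i ∈ t, gg m j i) - C ((j : ℤ) ^ r)) := by
    rw [DD, esymm, map_sum, Finset.mul_sum, ← Finset.sum_sub_distrib]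
    refine Finset.sum_congr rfl fun t _ => ?_
    rw [map_prod]
    simp only [aeval_X]
    rw [Finset.prod_congr rfl (fun i _ => qq_eq m j i), Finset.prod_mul_distrib]
    ring
  rw [h1]
  refine Ideal.sum_mem _ fun t ht => ?_
  rw [pow_succ]
  refine Ideal.mul_mem_mul ?_ ?_
  · have hc : t.card = r := (Finset.mem_powersetCard.mp ht).2
    have := Ideal.prod_mem_prod (ι := Fin m) (s := t) (I := fun _ => idealOfVars (Fin m) ℤ)
      (x := fun i => (X i : MvPolynomial (Fin m) ℤ)) (fun i _ => X_mem_idealOfVars m i)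
    rwa [Finset.prod_const, hc] at this
  · refine mem_idealOfVars_of_constantCoeff m _ ?_
    have hc : t.card = r := (Finset.mem_powersetCard.mp ht).2
    rw [map_sub, map_prod, constantCoeff_C]
    have : ∀ i ∈ t, constantCoeff (gg m j i) = (j : ℤ) := by
      intro i _
      simp [gg]
    rw [Finset.prod_congr rfl this, Finset.prod_const, hc, sub_self]

/-- The weights `k ↦ k + 1` on `Fin m`. -/
def wt : Fin m → ℕ := fun k => (k : ℕ) + 1

theorem exists_Q : ∃ Q : MvPolynomial (Fin m) ℤ,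
    aeval (fun k : Fin m => esymm (Fin m) ℤ ((k : ℕ) + 1)) Q = DD m j r ∧
      ∀ μ ∈ Q.support, r + 1 ≤ Finsupp.weight (wt m) μ := by
  classical
  obtain ⟨Q₀, hQ₀⟩ := (esymmAlgHom_fin_bijective (R := ℤ) m).2 ⟨DD m j r, DD_isSymmetric m j r⟩
  have h0 : aeval (fun k : Fin m => esymm (Fin m) ℤ ((k : ℕ) + 1)) Q₀ = DD m j r := by
    rw [← esymmAlgHom_apply, hQ₀]
  refine ⟨Q₀ - ∑ d ∈ range (r + 1), weightedHomogeneousComponent (wt m) d Q₀, ?_, ?_⟩
  · rw [map_sub, map_sum, h0]
    have hz : ∀ d ∈ range (r + 1), aeval (fun k : Fin m => esymm (Fin m) ℤ ((k : ℕ) + 1))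
        (weightedHomogeneousComponent (wt m) d Q₀) = 0 := by
      intro d hd
      have hd' := Finset.mem_range.mp hd
      rw [← Groth.Agent.Lib27.SymmPoly.homogeneousComponent_aeval (wt m)
        (fun k : Fin m => esymm (Fin m) ℤ ((k : ℕ) + 1))
        (fun k => Groth.Agent.Lib27.SymmPoly.esymm_isHomogeneous _ _) d Q₀, h0]
      ext x
      rw [coeff_homogeneousComponent, coeff_zero]
      split_ifs with hx
      · exact (mem_pow_idealOfVars_iff' (r + 1) (DD m j r)).mp (DD_mem m j r) x (by omega)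
      · rfl
    rw [Finset.sum_eq_zero hz, sub_zero]
  · intro μ hμ
    by_contra hlt
    push Not at hlt
    rw [mem_support_iff] at hμ
    apply hμ
    rw [coeff_sub, coeff_sum]
    rw [Finset.sum_eq_single (Finsupp.weight (wt m) μ)]
    · rw [coeff_weightedHomogeneousComponent, if_pos rfl, sub_self]
    · intro d _ hd
      rw [coeff_weightedHomogeneousComponent, if_neg (Ne.symm hd)]
    · intro h
      exact absurd (Finset.mem_range.mpr (by omega)) h

end Groth.Agent.Lib.Helper20.LamPsiPoly
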