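import Mathlib
import Groth.Prelude.Def_LambdaRing
import Groth.Agent.Lib.Helper20.LamDet
import Groth.Agent.Lib.Helper20.LamPsiPoly

/-!
# `ψ^j ≡ j^n` on `Gr^n` of the γ-filtration
-/

set_option autoImplicit false
universe u
open LambdaRing LambdaRing.LambdaOps Finset

namespace Groth.Agent.Lib.Helper20.LamPsiGr

open Groth.Agent.Lib.Helper20.LamSplit Groth.Agent.Lib.Helper20.LamAdams Groth.Agent.Lib.Helper20.LamFil
  Groth.Agent.Lib.Helper20.LamDet Groth.Agent.Lib.Helper20.LamPsiPoly

variable {K : Type u} [CommRing K] [LambdaOps K]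

/-! ### Products in the filtration -/

theorem one_mem_zero (P : PosStructure K) : (1 : K) ∈ gammaFiltration P 0 := by
  unfold gammaFiltration; rw [if_pos rfl]; trivial

theorem mem_zero (P : PosStructure K) (x : K) : x ∈ gammaFiltration P 0 := by
  unfold gammaFiltration; rw [if_pos rfl]; trivial

theorem pow_mem (P : PosStructure K) (a : ℕ) (x : K) (hx : x ∈ gammaFiltration P a) (k : ℕ) :
    x ^ k ∈ gammaFiltration P (k * a) := by
  induction k with
  | zero => rw [pow_zero, Nat.zero_mul]; exact one_mem_zero P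
  | succ k ih =>
    rw [pow_succ, Nat.succ_mul]
    exact mul_mem P _ _ _ _ ih hx

theorem prod_mem {ι : Type*} (P : PosStructure K) (s : Finset ι) (x : ι → K) (a : ι → ℕ)
    (h : ∀ i ∈ s, x i ∈ gammaFiltration P (a i)) : ∏ i ∈ s, x i ∈ gammaFiltration P (∑ i ∈ s, a i) := by
  classical
  induction s using Finset.induction_on with
  | empty => simpa using one_mem_zero P
  | insert i s hi ih =>
    rw [Finset.prod_insert hi, Finset.sum_insert hi]
    exact mul_mem P _ _ _ _ (h i (Finset.mem_insert_self i s)) (ih fun k hk => h k (Finset.mem_insert_of_mem hk))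

/-- Evaluating a polynomial all of whose monomials have weight `≥ n` at the `γ^{k+1}(y)` lands in `F^n`. -/
theorem aeval_gamma_mem (P : PosStructure K) (y : K) (hy : P.aug y = 0) (m n : ℕ)
    (Q : MvPolynomial (Fin m) ℤ) (hQ : ∀ μ ∈ Q.support, n ≤ Finsupp.weight (wt m) μ) :
    MvPolynomial.aeval (fun k : Fin m => gamma ((k : ℕ) + 1) y) Q ∈ gammaFiltration P n := by
  rw [MvPolynomial.aeval_def, MvPolynomial.eval₂_eq']
  refine AddSubgroup.sum_mem _ fun μ hμ => ?_
  refine smul_mem P n _ _ ?_
  have h1 := prod_mem P (Finset.univ : Finset (Fin m)) (fun i => gamma ((i : ℕ) + 1) y ^ μ i)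
    (fun i => μ i * ((i : ℕ) + 1))
    (fun i _ => pow_mem P _ _ (gamma_mem_gammaFiltration P _ y hy) (μ i))
  refine gammaFiltration_antitone P ?_ h1
  refine (hQ μ hμ).trans (le_of_eq ?_)
  rw [Finsupp.weight_apply, Finsupp.sum_fintype _ _ (fun i => by simp)]
  rfl

/-! ### `γ` of a sum of lines as elementary symmetric functions -/

theorem multiset_esymm_cons {R : Type*} [CommRing R] (a : R) (s : Multiset R) (n : ℕ) :
    (a ::ₘ s).esymm (n + 1) = s.esymm (n + 1) + a * s.esymm n := by
  unfold Multiset.esymm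
  rw [Multiset.powersetCard_cons, Multiset.map_add, Multiset.sum_add, Multiset.map_map]
  congr 1
  have : (Multiset.prod ∘ Multiset.cons a) = fun t => a * Multiset.prod t := by
    funext t; simp
  rw [this, Multiset.sum_map_mul_left]

theorem multiset_esymm_zero' {R : Type*} [CommRing R] (s : Multiset R) : s.esymm 0 = 1 := by
  simp [Multiset.esymm]

theorem gamma_line_sub_one (P : PosStructure K) (v : K) (hv : P.IsLine v) (r : ℕ) (hr : 2 ≤ r) :
    gamma r (v - 1) = 0 := by
  obtain ⟨k, rfl⟩ : ∃ k, r = k + 2 := ⟨r - 2, by omega⟩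
  rw [gamma_sub_one (lam_one_eq_zero P), gamma_line P v hv _ (by omega), gamma_line P v hv _ (by omega), sub_self]

theorem gamma_sum_sub_card (P : PosStructure K) (s : Multiset K) (hs : ∀ v ∈ s, P.IsLine v) (i : ℕ) :
    gamma i (s.sum - (Multiset.card s : K)) = (s.map fun v => v - 1).esymm i := by
  induction s using Multiset.induction_on generalizing i with
  | empty =>
    rcases Nat.eq_zero_or_pos i with rfl | hi
    · simp [gamma_zero', multiset_esymm_zero']
    · simp only [Multiset.sum_zero, Multiset.card_zero, Nat.cast_zero, sub_zero, Multiset.map_zero]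
      rw [gamma_of_zero i hi]
      obtain ⟨k, rfl⟩ : ∃ k, i = k + 1 := ⟨i - 1, by omega⟩
      simp [Multiset.esymm]
  | cons a s ih =>
    have ha := hs a (Multiset.mem_cons_self a s)
    have hs' : ∀ v ∈ s, P.IsLine v := fun v hv => hs v (Multiset.mem_cons_of_mem hv)
    have e1 : (a ::ₘ s).sum - (Multiset.card (a ::ₘ s) : K) = (a - 1) + (s.sum - (Multiset.card s : K)) := by
      rw [Multiset.sum_cons, Multiset.card_cons]; push_cast; ring
    rw [e1, Multiset.map_cons]
    rcases Nat.eq_zero_or_pos i with rfl | hi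
    · rw [gamma_zero', multiset_esymm_zero']
    · obtain ⟨k, rfl⟩ : ∃ k, i = k + 1 := ⟨i - 1, by omega⟩
      have key : gamma (k + 1) ((a - 1) + (s.sum - (Multiset.card s : K))) =
          gamma (k + 1) (s.sum - (Multiset.card s : K)) + (a - 1) * gamma k (s.sum - (Multiset.card s : K)) := by
        rw [Groth.Agent.S3289.result K (k + 1), Finset.sum_range_succ', gamma_zero', one_mul,
          Nat.sub_zero, Finset.sum_range_succ', gamma_one']
        have hz : ∑ x ∈ range k, gamma (x + 1 + 1) (a - 1) *
            gamma (k + 1 - (x + 1 + 1)) (s.sum - (Multiset.card s : K)) = 0 := by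
          refine Finset.sum_eq_zero fun x _ => ?_
          rw [gamma_line_sub_one P a ha _ (by omega), zero_mul]
        rw [hz, zero_add]
        simp only [Nat.zero_add, Nat.add_sub_cancel]
        ring
      rw [key, multiset_esymm_cons, ih hs' (k + 1), ih hs' k]

theorem exists_fin_enum {R : Type*} (s : Multiset R) (m : ℕ) (hm : Multiset.card s = m) :
    ∃ u : Fin m → R, (Finset.univ : Finset (Fin m)).val.map u = s := by
  subst hm
  obtain ⟨l, rfl⟩ := Quot.exists_rep s
  refine ⟨fun a => l.get a, ?_⟩
  rw [Fin.univ_val_map]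
  show ((List.ofFn l.get : List R) : Multiset R) = (l : Multiset R)
  rw [List.ofFn_get]

/-! ### The core congruence for positive elements -/

theorem ringHom_aeval {A B : Type*} [CommRing A] [CommRing B] {m : ℕ} (f : A →+* B) (U : Fin m → A)
    (p : MvPolynomial (Fin m) ℤ) :
    f (MvPolynomial.aeval U p) = MvPolynomial.aeval (fun a => f (U a)) p :=
  MvPolynomial.comp_aeval_apply (f := U) f.toIntAlgHom p

theorem adams_gamma_pos (P : PosStructure K) (hK : HasSplitting K P) (e : K) (he : e ∈ P.pos)
    (j r : ℕ) :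
    adams P j (gamma r (e - ((P.aug e).toNat : K))) - (j : K) ^ r * gamma r (e - ((P.aug e).toNat : K)) ∈
      gammaFiltration P (r + 1) := by
  set m := (P.aug e).toNat with hm
  have haug : P.aug (e - (m : K)) = 0 := by
    rw [map_sub, map_natCast, hm, Int.toNat_of_nonneg (P.aug_pos e he).le, sub_self]
  obtain ⟨L, φ, hL, hφ, s, hs, hsum⟩ := exists_split' P hK e he
  have hcard : Multiset.card s = m := by
    have h1 := aug_sum L.posStr s hs
    rw [hsum, hφ.aug_comp] at h1
    have h2 : (P.aug e) = (m : ℤ) := by rw [hm, Int.toNat_of_nonneg (P.aug_pos e he).le]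
    rw [h2] at h1
    exact_mod_cast h1.symm
  obtain ⟨u, hu⟩ := exists_fin_enum s m hcard
  have hlines : ∀ a, L.posStr.IsLine (u a) := by
    intro a
    refine hs _ ?_
    rw [← hu]
    exact Multiset.mem_map_of_mem u (Finset.mem_univ_val a)
  set U : Fin m → L.carrier := fun a => u a - 1 with hU
  -- (K1)
  have hφy : φ (e - (m : K)) = s.sum - (Multiset.card s : L.carrier) := by
    rw [map_sub, map_natCast, hsum, hcard]
  have hK1 : ∀ i, φ (gamma i (e - (m : K))) = MvPolynomial.aeval U (MvPolynomial.esymm (Fin m) ℤ i) := by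
    intro i
    rw [gamma_map φ hφ.isLambdaHom, hφy, gamma_sum_sub_card L.posStr s hs,
      MvPolynomial.aeval_esymm_eq_multiset_esymm, ← hu, Multiset.map_map]
    rfl
  -- (K2)
  have hK2 : ∀ a, adams L.posStr j (U a) = MvPolynomial.aeval U (qq m j a) := by
    intro a
    rw [hU]
    simp only [qq, map_sub, map_pow, map_add, map_one, MvPolynomial.aeval_X]
    rw [adams_sub, adams_one, Groth.Agent.S3287.result _ L.posStr (u a) (hlines a) j]
    congr 2
    ring
  obtain ⟨Q, hQ1, hQ2⟩ := exists_Q m j r
  -- the identity in `K`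
  have hid : adams P j (gamma r (e - (m : K))) - (j : K) ^ r * gamma r (e - (m : K)) =
      MvPolynomial.aeval (fun k : Fin m => gamma ((k : ℕ) + 1) (e - (m : K))) Q := by
    apply hφ.injective
    rw [map_sub, map_mul, map_pow, map_natCast, map_adams P L.posStr φ hφ, hK1 r, ringHom_aeval φ]
    simp only [hK1]
    have h3 : MvPolynomial.aeval (fun a : Fin m => MvPolynomial.aeval U (MvPolynomial.esymm (Fin m) ℤ ((a : ℕ) + 1))) Q =
        MvPolynomial.aeval U (MvPolynomial.aeval (fun k : Fin m => MvPolynomial.esymm (Fin m) ℤ ((k : ℕ) + 1)) Q) :=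
      (MvPolynomial.comp_aeval_apply (f := fun k : Fin m => MvPolynomial.esymm (Fin m) ℤ ((k : ℕ) + 1))
        (MvPolynomial.aeval U) Q).symm
    rw [h3, hQ1, DD, map_sub, map_mul]
    congr 1
    · rw [← adamsHom_apply L.posStr hL, ringHom_aeval (adamsHom L.posStr hL j) U,
        MvPolynomial.comp_aeval_apply (f := qq m j) (MvPolynomial.aeval U)]
      simp only [adamsHom_apply, hK2]
    · rw [MvPolynomial.aeval_C]
      simp
  rw [hid]
  exact aeval_gamma_mem P _ haug m (r + 1) Q hQ2

/-! ### The congruence predicate and its closure properties -/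

/-- `x ∈ F^n` and `ψ^j x ≡ j^n x` modulo `F^{n+1}`. -/
def Cong (P : PosStructure K) (j n : ℕ) (x : K) : Prop :=
  x ∈ gammaFiltration P n ∧ adams P j x - (j : K) ^ n * x ∈ gammaFiltration P (n + 1)

theorem Cong.adams_mem {P : PosStructure K} {j n : ℕ} {x : K} (h : Cong P j n x) :
    adams P j x ∈ gammaFiltration P n := by
  have h1 := smul_mem P n ((j : K) ^ n) x h.1
  have h2 := gammaFiltration_antitone P (Nat.le_succ n) h.2
  have := AddSubgroup.add_mem _ h2 h1
  rwa [sub_add_cancel] at this

theorem cong_zero (P : PosStructure K) (j n : ℕ) : Cong P j n (0 : K) := by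
  refine ⟨AddSubgroup.zero_mem _, ?_⟩
  rw [adams_zero, mul_zero, sub_zero]
  exact AddSubgroup.zero_mem _

theorem cong_add (P : PosStructure K) (j n : ℕ) {x y : K} (hx : Cong P j n x) (hy : Cong P j n y) :
    Cong P j n (x + y) := by
  refine ⟨AddSubgroup.add_mem _ hx.1 hy.1, ?_⟩
  have := AddSubgroup.add_mem _ hx.2 hy.2
  rw [adams_add]
  convert this using 1
  ring

theorem cong_neg (P : PosStructure K) (j n : ℕ) {x : K} (hx : Cong P j n x) : Cong P j n (-x) := by
  refine ⟨AddSubgroup.neg_mem _ hx.1, ?_⟩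
  have := AddSubgroup.neg_mem _ hx.2
  rw [adams_neg]
  convert this using 1
  ring

theorem cong_sum {ι : Type*} (P : PosStructure K) (j n : ℕ) (s : Finset ι) (x : ι → K)
    (h : ∀ i ∈ s, Cong P j n (x i)) : Cong P j n (∑ i ∈ s, x i) := by
  classical
  induction s using Finset.induction_on with
  | empty => simpa using cong_zero P j n
  | insert i s hi ih =>
    rw [Finset.sum_insert hi]
    exact cong_add P j n (h i (Finset.mem_insert_self i s)) (ih fun k hk => h k (Finset.mem_insert_of_mem hk))

theorem cong_one (P : PosStructure K) (j : ℕ) : Cong P j 0 (1 : K) := by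
  refine ⟨one_mem_zero P, ?_⟩
  rw [adams_one, pow_zero, mul_one, sub_self]
  exact AddSubgroup.zero_mem _

theorem cong_mul (P : PosStructure K) (hK : HasSplitting K P) (j a b : ℕ) {x y : K}
    (hx : Cong P j a x) (hy : Cong P j b y) : Cong P j (a + b) (x * y) := by
  refine ⟨mul_mem P a b x y hx.1 hy.1, ?_⟩
  have h1 := mul_mem P (a + 1) b _ _ hx.2 hy.adams_mem
  have h2 := mul_mem P a (b + 1) _ _ (smul_mem P a ((j : K) ^ a) x hx.1) hy.2
  rw [show a + 1 + b = a + b + 1 by ring] at h1
  rw [show a + (b + 1) = a + b + 1 by ring] at h2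
  have := AddSubgroup.add_mem _ h1 h2
  rw [adams_mul P hK]
  convert this using 1
  ring

theorem cong_mono (P : PosStructure K) (j : ℕ) {n N : ℕ} (hnN : n ≤ N) {x : K} (hx : Cong P j N x) :
    Cong P j n x := by
  refine ⟨gammaFiltration_antitone P hnN hx.1, ?_⟩
  rcases Nat.eq_or_lt_of_le hnN with rfl | hlt
  · exact hx.2
  · have h1 := gammaFiltration_antitone P (by omega : n + 1 ≤ N + 1) hx.2
    have h2 := gammaFiltration_antitone P (by omega : n + 1 ≤ N) hx.1
    have h3 := smul_mem P (n + 1) ((j : K) ^ N - (j : K) ^ n) x h2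
    have := AddSubgroup.add_mem _ h1 h3
    convert this using 1
    ring

/-- All `γ^r(y)` satisfy the congruence in degree `r`. -/
def GoodC (P : PosStructure K) (j : ℕ) (y : K) : Prop := ∀ r : ℕ, Cong P j r (gamma r y)

theorem goodC_zero (P : PosStructure K) (j : ℕ) : GoodC P j (0 : K) := by
  intro r
  rcases Nat.eq_zero_or_pos r with rfl | hr
  · rw [gamma_zero']; exact cong_one P j
  · rw [gamma_of_zero r hr]; exact cong_zero P j r

theorem goodC_add (P : PosStructure K) (hK : HasSplitting K P) (j : ℕ) {y z : K}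
    (hy : GoodC P j y) (hz : GoodC P j z) : GoodC P j (y + z) := by
  intro r
  rw [Groth.Agent.S3289.result K r y z]
  refine cong_sum P j r _ _ fun i hi => ?_
  have hi' := Finset.mem_range.mp hi
  have := cong_mul P hK j i (r - i) (hy i) (hz (r - i))
  rwa [show i + (r - i) = r by omega] at this

theorem goodC_neg (P : PosStructure K) (hK : HasSplitting K P) (j : ℕ) {y : K}
    (hy : GoodC P j y) : GoodC P j (-y) := by
  intro r
  induction r using Nat.strong_induction_on with
  | _ r ih =>
    rcases Nat.eq_zero_or_pos r with rfl | hr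
    · rw [gamma_zero']; exact cong_one P j
    · have h := Groth.Agent.S3289.result K r y (-y)
      rw [add_neg_cancel, gamma_of_zero r hr, Finset.sum_range_succ', gamma_zero', one_mul, Nat.sub_zero] at h
      have h2 : gamma r (-y) = -∑ a ∈ range r, gamma (a + 1) y * gamma (r - (a + 1)) (-y) := by
        rw [eq_neg_iff_add_eq_zero, add_comm]; exact h.symm
      rw [h2]
      refine cong_neg P j r (cong_sum P j r _ _ fun a ha => ?_)
      have ha' := Finset.mem_range.mp ha
      have := cong_mul P hK j (a + 1) (r - (a + 1)) (hy (a + 1)) (ih (r - (a + 1)) (by omega))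
      rwa [show a + 1 + (r - (a + 1)) = r by omega] at this

theorem goodC_pos (P : PosStructure K) (hK : HasSplitting K P) (j : ℕ) (e : K) (he : e ∈ P.pos) :
    GoodC P j (e - ((P.aug e).toNat : K)) := by
  intro r
  refine ⟨gamma_mem_gammaFiltration P r _ ?_, adams_gamma_pos P hK e he j r⟩
  rw [map_sub, map_natCast, Int.toNat_of_nonneg (P.aug_pos e he).le, sub_self]

theorem goodC_of_aug_zero (P : PosStructure K) (hK : HasSplitting K P) (j : ℕ) (x : K) (hx : P.aug x = 0) :
    GoodC P j x := by
  obtain ⟨e, f, he, hf, hxe⟩ := P.exists_sub x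
  have haug : (P.aug e).toNat = (P.aug f).toNat := by
    have : P.aug e - P.aug f = 0 := by rw [← map_sub, ← hxe, hx]
    have : P.aug e = P.aug f := by linarith
    rw [this]
  have h1 := goodC_add P hK j (goodC_pos P hK j e he) (goodC_neg P hK j (goodC_pos P hK j f hf))
  have e1 : x = (e - ((P.aug e).toNat : K)) + -(f - ((P.aug f).toNat : K)) := by
    rw [hxe, haug]; ring
  rw [e1]
  exact h1

theorem cong_prod (P : PosStructure K) (hK : HasSplitting K P) (j : ℕ) (l : List (ℕ × K))
    (hl : ∀ p ∈ l, P.aug p.2 = 0) :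
    Cong P j (l.map Prod.fst).sum (l.map fun p => gamma p.1 p.2).prod := by
  induction l with
  | nil => simpa using cong_one P j
  | cons p l ih =>
    simp only [List.map_cons, List.prod_cons, List.sum_cons]
    exact cong_mul P hK j _ _ (goodC_of_aug_zero P hK j p.2 (hl p List.mem_cons_self) p.1)
      (ih fun q hq => hl q (List.mem_cons_of_mem _ hq))

/-- `ε(ψ^j x) = ε(x)`. -/
theorem aug_adams (P : PosStructure K) (hK : HasSplitting K P) (j : ℕ) (x : K) :
    P.aug (adams P j x) = P.aug x := by
  have hpos : ∀ e ∈ P.pos, P.aug (adams P j e) = P.aug e := by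
    intro e he
    obtain ⟨L, φ, hφ, s, hs, hsum⟩ := exists_split_of_hasSplitting P hK e he
    rw [← hφ.aug_comp, map_adams P L.posStr φ hφ, ← hφ.aug_comp e, ← hsum, adams_sum_lines L.posStr j s hs,
      aug_sum L.posStr s hs, aug_sum L.posStr _ (by
        intro v hv
        obtain ⟨w, hw, rfl⟩ := Multiset.mem_map.mp hv
        exact Groth.Agent.S3791.isLine_pow L.posStr (hs w hw) j), Multiset.card_map]
  obtain ⟨e, f, he, hf, rfl⟩ := P.exists_sub x
  rw [adams_sub, map_sub, map_sub, hpos e he, hpos f hf]

/-- `ψ^j x - j^n x ∈ F^{n+1}` for `x ∈ F^n`. -/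
theorem adams_sub_pow_mul_mem (P : PosStructure K) (hK : HasSplitting K P) (j n : ℕ) (x : K)
    (hx : x ∈ gammaFiltration P n) : adams P j x - (j : K) ^ n * x ∈ gammaFiltration P (n + 1) := by
  rcases Nat.eq_zero_or_pos n with rfl | hn
  · refine mem_gammaFiltration_one P _ ?_
    rw [map_sub, aug_adams P hK, pow_zero, one_mul, sub_self]
  · suffices h : Cong P j n x from h.2
    unfold gammaFiltration at hx
    rw [if_neg (by omega)] at hx
    induction hx using AddSubgroup.closure_induction with
    | mem x hx =>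
      obtain ⟨l, hl0, hlsum, rfl⟩ := hx
      exact cong_mono P j hlsum (cong_prod P hK j l hl0)
    | zero => exact cong_zero P j n
    | add x y _ _ h1 h2 => exact cong_add P j n h1 h2
    | neg x _ h => exact cong_neg P j n h

end Groth.Agent.Lib.Helper20.LamPsiGr
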