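import Mathlib
import Groth.Prelude.Def_LambdaRing
import Groth.Agent.Lib.Helper20.LamPsiGr

/-!
# The γ-filtration of an elementary extension

* `gamma_pos_mul_line`: `γ^n(e u - ε e)` for a positive `e` and a line `u`, as the `n`-th coefficient of
  `Σ_k γ^k(e - ε e) (u t)^k (1 + (u - 1) t)^{ε e - k}`.
* `gammaFiltration_eq_iSup`: the γ-filtration of an extension generated by a line element `ℓ` subject to
  the relation `Σ γ^i(e - m) (1 - ℓ)^{m - i} = 0`.
-/

set_option autoImplicit false
universe u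
open LambdaRing LambdaRing.LambdaOps Finset

namespace Groth.Agent.Lib.Helper20.LamKeFil

open Groth.Agent.Lib.Helper20.LamSplit Groth.Agent.Lib.Helper20.LamAdams Groth.Agent.Lib.Helper20.LamFil
  Groth.Agent.Lib.Helper20.LamDet Groth.Agent.Lib.Helper20.LamPsiGr

/-! ### Multiset/polynomial identities -/

section Vieta

variable {R : Type*} [CommRing R]

theorem esymm_eq_zero_of_card_lt (s : Multiset R) (n : ℕ) (h : Multiset.card s < n) : s.esymm n = 0 := by
  unfold Multiset.esymm
  rw [Multiset.powersetCard_eq_empty n h]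
  simp

theorem map_esymm {S : Type*} [CommRing S] (f : R →+* S) (s : Multiset R) (n : ℕ) :
    (s.map f).esymm n = f (s.esymm n) := by
  unfold Multiset.esymm
  rw [Multiset.powersetCard_map, Multiset.map_map, map_multiset_sum, Multiset.map_map]
  congr 1
  refine Multiset.map_congr rfl fun t _ => ?_
  simp only [Function.comp_apply]
  rw [map_multiset_prod]

/-- `coeff n (Π (1 + r X)) = e_n(r)`. -/
theorem coeff_prod_one_add (s : Multiset R) (n : ℕ) :
    ((s.map fun r => (1 + Polynomial.C r * Polynomial.X : Polynomial R)).prod).coeff n = s.esymm n := by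
  induction s using Multiset.induction_on generalizing n with
  | empty =>
    rcases Nat.eq_zero_or_pos n with rfl | hn
    · simp [multiset_esymm_zero']
    · rw [esymm_eq_zero_of_card_lt _ _ (by simpa using hn)]
      simp [Polynomial.coeff_one, Nat.pos_iff_ne_zero.mp hn]
  | cons a s ih =>
    rw [Multiset.map_cons, Multiset.prod_cons, add_mul, one_mul, Polynomial.coeff_add]
    rcases Nat.eq_zero_or_pos n with rfl | hn
    · rw [ih, multiset_esymm_zero', multiset_esymm_zero', mul_assoc, Polynomial.coeff_C_mul]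
      simp
    · obtain ⟨k, rfl⟩ : ∃ k, n = k + 1 := ⟨n - 1, by omega⟩
      rw [ih, mul_assoc, Polynomial.coeff_C_mul, Polynomial.coeff_X_mul, ih, multiset_esymm_cons]

/-- Homogeneous Vieta: `Π (A + r B) = Σ_k e_k(r) B^k A^{n-k}`. -/
theorem prod_add_mul (A B : R) (s : Multiset R) :
    (s.map fun r => A + r * B).prod =
      ∑ k ∈ range (Multiset.card s + 1), s.esymm k * B ^ k * A ^ (Multiset.card s - k) := by
  have h := congrArg (Polynomial.eval A) (Multiset.prod_X_add_C_eq_sum_esymm (s.map fun r => r * B))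
  rw [Polynomial.eval_multiset_prod, Multiset.map_map, Multiset.map_map, Polynomial.eval_finset_sum,
    Multiset.card_map] at h
  have h1 : ((Polynomial.eval A ∘ fun r => Polynomial.X + Polynomial.C r) ∘ fun r => r * B) =
      fun r => A + r * B := by
    funext r; simp
  rw [h1] at h
  rw [h]
  refine Finset.sum_congr rfl fun k _ => ?_
  have h2 : (s.map fun r => r * B).esymm k = B ^ k * s.esymm k := by
    have := Multiset.pow_smul_esymm B k s
    simp only [smul_eq_mul] at this
    rw [this]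
    congr 1
    refine Multiset.map_congr rfl fun r _ => mul_comm _ _
  rw [Polynomial.eval_mul, Polynomial.eval_C, Polynomial.eval_pow, Polynomial.eval_X, h2]
  ring

end Vieta

/-! ### `γ^n(e u - ε e)` for positive `e` and a line `u` -/

variable {K : Type u} [CommRing K] [LambdaOps K]

/-- The polynomial `Σ_k γ^k(e - m) (u t)^k (1 + (u - 1) t)^{m - k}`. -/
noncomputable def linePoly (e u : K) (m : ℕ) : Polynomial K :=
  ∑ k ∈ range (m + 1), Polynomial.C (gamma k (e - (m : K))) * (Polynomial.C u * Polynomial.X) ^ k *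
    (1 + Polynomial.C (u - 1) * Polynomial.X) ^ (m - k)

theorem gamma_pos_mul_line (P : PosStructure K) (hK : HasSplitting K P) (e : K) (he : e ∈ P.pos)
    (u : K) (hu : P.IsLine u) (n : ℕ) :
    gamma n (e * u - ((P.aug e).toNat : K)) = (linePoly e u (P.aug e).toNat).coeff n := by
  set m := (P.aug e).toNat with hm
  obtain ⟨L, φ, hL, hφ, s, hs, hsum⟩ := exists_split' P hK e he
  have hcard : Multiset.card s = m := by
    have h1 := aug_sum L.posStr s hs
    rw [hsum, hφ.aug_comp] at h1
    have h2 : (P.aug e) = (m : ℤ) := by rw [hm, Int.toNat_of_nonneg (P.aug_pos e he).le]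
    rw [h2] at h1
    exact_mod_cast h1.symm
  have hφu : L.posStr.IsLine (φ u) := isLine_map P L.posStr φ hφ hu
  apply hφ.injective
  -- left side
  have hlines : ∀ w ∈ s.map (fun v => v * φ u), L.posStr.IsLine w := by
    intro w hw
    obtain ⟨v, hv, rfl⟩ := Multiset.mem_map.mp hw
    exact Groth.Agent.S3791.isLine_mul L.posStr (hs v hv) hφu
  have hL1 : φ (gamma n (e * u - (m : K))) =
      ((s.map fun v => (1 + Polynomial.C (v * φ u - 1) * Polynomial.X : Polynomial L.carrier)).prod).coeff n := by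
    rw [gamma_map φ hφ.isLambdaHom, map_sub, map_mul, map_natCast, ← hsum, sum_mul_eq s (φ u)]
    have := gamma_sum_sub_card L.posStr (s.map fun v => v * φ u) hlines n
    rw [Multiset.card_map, hcard] at this
    rw [this, ← coeff_prod_one_add, Multiset.map_map, Multiset.map_map]
    rfl
  rw [hL1]
  -- rewrite the product by homogeneous Vieta
  have h1 : (s.map fun v => (1 + Polynomial.C (v * φ u - 1) * Polynomial.X : Polynomial L.carrier)) =
      ((s.map fun v => Polynomial.C (v - 1)).map fun r =>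
        (1 + Polynomial.C (φ u - 1) * Polynomial.X) + r * (Polynomial.C (φ u) * Polynomial.X)) := by
    rw [Multiset.map_map]
    refine Multiset.map_congr rfl fun v _ => ?_
    simp only [Function.comp_apply, map_sub, map_mul, map_one]
    ring
  rw [h1, prod_add_mul, Multiset.card_map, hcard]
  -- right side
  rw [← Polynomial.coeff_map, linePoly, Polynomial.map_sum]
  congr 1
  refine Finset.sum_congr rfl fun k _ => ?_
  have h2 : (s.map fun v => Polynomial.C (v - 1)).esymm k = Polynomial.C (φ (gamma k (e - (m : K)))) := by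
    have : (s.map fun v => Polynomial.C (v - 1)) = (s.map fun v => v - 1).map (Polynomial.C : L.carrier →+* _) := by
      rw [Multiset.map_map]; rfl
    rw [this, map_esymm, gamma_map φ hφ.isLambdaHom, map_sub, map_natCast, ← hsum,
      ← gamma_sum_sub_card L.posStr s hs, hcard]
  rw [h2]
  have hu1 : φ (u - 1) = φ u - 1 := by rw [map_sub, map_one]
  simp only [Polynomial.map_mul, Polynomial.map_pow, Polynomial.map_add, Polynomial.map_one, Polynomial.map_C,
    Polynomial.map_X, hu1]

/-! ### The filtration `M_k = Σ_{i ≤ r} F^{k-i}K · (ℓ - 1)^i` -/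

section Abstract

variable (P : PosStructure K) {A : Type u} [CommRing A] [LambdaOps A] (PA : PosStructure A)
  (φ : K →+* A) (ℓ : A) (r : ℕ)

/-- `M_k = Σ_{i ≤ r} φ(F^{k-i}K) (ℓ - 1)^i`. -/
def MM (k : ℕ) : AddSubgroup A :=
  ⨆ i ∈ Finset.range (r + 1), AddSubgroup.map
    ((AddMonoidHom.mulRight ((ℓ - 1) ^ i)).comp φ.toAddMonoidHom) (gammaFiltration P (k - i))

variable {P φ ℓ r}

theorem mem_MM_of {k i : ℕ} (hi : i ≤ r) {a : K} (ha : a ∈ gammaFiltration P (k - i)) :
    φ a * (ℓ - 1) ^ i ∈ MM P φ ℓ r k := by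
  unfold MM
  have h1 : φ a * (ℓ - 1) ^ i ∈ AddSubgroup.map
      ((AddMonoidHom.mulRight ((ℓ - 1) ^ i)).comp φ.toAddMonoidHom) (gammaFiltration P (k - i)) :=
    ⟨a, ha, rfl⟩
  have h2 := le_biSup (fun i => AddSubgroup.map
      ((AddMonoidHom.mulRight ((ℓ - 1) ^ i)).comp φ.toAddMonoidHom) (gammaFiltration P (k - i)))
      (Finset.mem_range.mpr (Nat.lt_succ_of_le hi))
  exact h2 h1

theorem MM_le {k : ℕ} {S : AddSubgroup A}
    (h : ∀ i ≤ r, ∀ a ∈ gammaFiltration P (k - i), φ a * (ℓ - 1) ^ i ∈ S) : MM P φ ℓ r k ≤ S := by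
  unfold MM
  refine iSup₂_le fun i hi => ?_
  rintro _ ⟨a, ha, rfl⟩
  exact h i (Nat.lt_succ_iff.mp (Finset.mem_range.mp hi)) a ha

theorem MM_antitone {k k' : ℕ} (h : k ≤ k') : MM P φ ℓ r k' ≤ MM P φ ℓ r k :=
  MM_le fun i hi a ha => mem_MM_of hi (gammaFiltration_antitone P (by omega) ha)

theorem MM_smul {c d : ℕ} {a : K} (ha : a ∈ gammaFiltration P c) {z : A} (hz : z ∈ MM P φ ℓ r d) :
    φ a * z ∈ MM P φ ℓ r (c + d) := by
  have : MM P φ ℓ r d ≤ (MM P φ ℓ r (c + d)).comap (AddMonoidHom.mulLeft (φ a)) := by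
    refine MM_le fun i hi b hb => ?_
    show φ a * (φ b * (ℓ - 1) ^ i) ∈ MM P φ ℓ r (c + d)
    rw [← mul_assoc, ← map_mul]
    refine mem_MM_of hi ?_
    exact gammaFiltration_antitone P (by omega) (mul_mem P c (d - i) a b ha hb)
  exact this hz

variable (hrel : ∃ c : ℕ → K, (∀ i ≤ r, c i ∈ gammaFiltration P (r + 1 - i)) ∧
    (ℓ - 1) ^ (r + 1) = ∑ i ∈ Finset.range (r + 1), φ (c i) * (ℓ - 1) ^ i)

include hrel

theorem pow_mem_MM (n : ℕ) : (ℓ - 1) ^ n ∈ MM P φ ℓ r n := by
  induction n using Nat.strong_induction_on with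
  | _ n ih =>
    by_cases hn : n ≤ r
    · have := mem_MM_of (P := P) (φ := φ) (ℓ := ℓ) (k := n) hn (a := 1) (by rw [Nat.sub_self]; exact one_mem_zero P)
      rwa [map_one, one_mul] at this
    · push Not at hn
      obtain ⟨c, hc, hpow⟩ := hrel
      have e1 : (ℓ - 1) ^ n = ∑ i ∈ Finset.range (r + 1), φ (c i) * (ℓ - 1) ^ (n - (r + 1) + i) := by
        have : n = (n - (r + 1)) + (r + 1) := by omega
        conv_lhs => rw [this, pow_add, hpow, Finset.mul_sum]
        refine Finset.sum_congr rfl fun i _ => ?_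
        rw [pow_add]; ring
      rw [e1]
      refine AddSubgroup.sum_mem _ fun i hi => ?_
      have hi' := Nat.lt_succ_iff.mp (Finset.mem_range.mp hi)
      have h1 := ih (n - (r + 1) + i) (by omega)
      have h2 := MM_smul (hc i hi') h1
      rwa [show r + 1 - i + (n - (r + 1) + i) = n by omega] at h2

theorem MM_mul {k l : ℕ} {x y : A} (hx : x ∈ MM P φ ℓ r k) (hy : y ∈ MM P φ ℓ r l) :
    x * y ∈ MM P φ ℓ r (k + l) := by
  have h1 : MM P φ ℓ r k ≤ (MM P φ ℓ r (k + l)).comap (AddMonoidHom.mulRight y) := by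
    refine MM_le fun i hi a ha => ?_
    show φ a * (ℓ - 1) ^ i * y ∈ MM P φ ℓ r (k + l)
    have h2 : MM P φ ℓ r l ≤ (MM P φ ℓ r (k + l)).comap (AddMonoidHom.mulLeft (φ a * (ℓ - 1) ^ i)) := by
      refine MM_le fun j hj b hb => ?_
      show φ a * (ℓ - 1) ^ i * (φ b * (ℓ - 1) ^ j) ∈ MM P φ ℓ r (k + l)
      have e1 : φ a * (ℓ - 1) ^ i * (φ b * (ℓ - 1) ^ j) = φ (a * b) * (ℓ - 1) ^ (i + j) := by
        rw [map_mul, pow_add]; ring
      rw [e1]
      have h3 := MM_smul (mul_mem P _ _ a b ha hb) (pow_mem_MM hrel (i + j))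
      exact MM_antitone (by omega) h3
    exact h2 hy
  exact h1 hx

theorem one_mem_MM : (1 : A) ∈ MM P φ ℓ r 0 := by
  have := pow_mem_MM hrel 0
  rwa [pow_zero] at this

omit hrel in
theorem map_mem_MM {k : ℕ} {a : K} (ha : a ∈ gammaFiltration P k) : φ a ∈ MM P φ ℓ r k := by
  have := mem_MM_of (P := P) (φ := φ) (ℓ := ℓ) (r := r) (k := k) (i := 0) (Nat.zero_le r) (a := a) (by simpa using ha)
  rwa [pow_zero, mul_one] at this

theorem line_pow_mem_MM (j : ℕ) : ℓ ^ j ∈ MM P φ ℓ r 0 := by
  have e1 : ℓ ^ j = ∑ i ∈ Finset.range (j + 1), (j.choose i) • (ℓ - 1) ^ i := by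
    have := add_pow (ℓ - 1) 1 j
    rw [sub_add_cancel] at this
    rw [this]
    refine Finset.sum_congr rfl fun i _ => ?_
    rw [one_pow, mul_one, nsmul_eq_mul, mul_comm]
  rw [e1]
  refine AddSubgroup.sum_mem _ fun i _ => ?_
  exact AddSubgroup.nsmul_mem _ (MM_antitone (Nat.zero_le i) (pow_mem_MM hrel i)) _

theorem line_pow_sub_one_mem_MM (j : ℕ) : ℓ ^ j - 1 ∈ MM P φ ℓ r 1 := by
  have e1 : ℓ ^ j - 1 = ∑ i ∈ Finset.range j, (j.choose (i + 1)) • (ℓ - 1) ^ (i + 1) := by
    have := add_pow (ℓ - 1) 1 j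
    rw [sub_add_cancel, Finset.sum_range_succ'] at this
    rw [this]
    simp only [pow_zero, one_pow, mul_one, Nat.choose_zero_right, Nat.cast_one, add_sub_cancel_right]
    refine Finset.sum_congr rfl fun i _ => ?_
    rw [nsmul_eq_mul, mul_comm]
  rw [e1]
  refine AddSubgroup.sum_mem _ fun i _ => ?_
  exact AddSubgroup.nsmul_mem _ (MM_antitone (by omega) (pow_mem_MM hrel (i + 1))) _

theorem MM_zero_eq_top (hspan : ∀ z : A, ∃ f : Polynomial K, z = Polynomial.eval₂ φ ℓ f) :
    MM P φ ℓ r 0 = ⊤ := by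
  rw [eq_top_iff]
  intro z _
  obtain ⟨f, rfl⟩ := hspan z
  rw [Polynomial.eval₂_eq_sum_range]
  refine AddSubgroup.sum_mem _ fun i _ => ?_
  have := MM_smul (P := P) (φ := φ) (ℓ := ℓ) (r := r) (mem_zero P (f.coeff i)) (line_pow_mem_MM hrel i)
  simpa using this

/-! #### Graded polynomials -/

/-- A polynomial whose `n`-th coefficient lies in `M_n`. -/
def IsGr (P : PosStructure K) (φ : K →+* A) (ℓ : A) (r : ℕ) (p : Polynomial A) : Prop :=
  ∀ n, p.coeff n ∈ MM P φ ℓ r n

theorem isGr_mul {p q : Polynomial A} (hp : IsGr P φ ℓ r p) (hq : IsGr P φ ℓ r q) : IsGr P φ ℓ r (p * q) := by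
  intro n
  rw [Polynomial.coeff_mul]
  refine AddSubgroup.sum_mem _ fun x hx => ?_
  have := MM_mul hrel (hp x.1) (hq x.2)
  rwa [show x.1 + x.2 = n from (Finset.HasAntidiagonal.mem_antidiagonal.mp hx)] at this

omit hrel in
theorem isGr_add {p q : Polynomial A} (hp : IsGr P φ ℓ r p) (hq : IsGr P φ ℓ r q) : IsGr P φ ℓ r (p + q) := by
  intro n
  rw [Polynomial.coeff_add]
  exact AddSubgroup.add_mem _ (hp n) (hq n)

omit hrel in
theorem isGr_sum {ι : Type*} (s : Finset ι) (p : ι → Polynomial A) (h : ∀ i ∈ s, IsGr P φ ℓ r (p i)) :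
    IsGr P φ ℓ r (∑ i ∈ s, p i) := by
  intro n
  rw [Polynomial.finsetSum_coeff]
  exact AddSubgroup.sum_mem _ fun i hi => h i hi n

theorem isGr_one : IsGr P φ ℓ r (1 : Polynomial A) := by
  intro n
  rw [Polynomial.coeff_one]
  split_ifs with h
  · rw [h]; exact one_mem_MM hrel
  · exact AddSubgroup.zero_mem _

theorem isGr_pow {p : Polynomial A} (hp : IsGr P φ ℓ r p) (k : ℕ) : IsGr P φ ℓ r (p ^ k) := by
  induction k with
  | zero => rw [pow_zero]; exact isGr_one hrel
  | succ k ih => rw [pow_succ]; exact isGr_mul hrel ih hp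

omit hrel in
theorem isGr_C_mul_X_pow {c : A} {k : ℕ} (hc : c ∈ MM P φ ℓ r k) :
    IsGr P φ ℓ r (Polynomial.C c * Polynomial.X ^ k) := by
  intro n
  rw [Polynomial.coeff_C_mul_X_pow]
  split_ifs with h
  · rw [h]; exact hc
  · exact AddSubgroup.zero_mem _

/-! #### Good elements -/

/-- All `γ^n(z)` lie in `M_n`. -/
def Good (P : PosStructure K) (φ : K →+* A) (ℓ : A) (r : ℕ) (z : A) : Prop :=
  ∀ n, gamma n z ∈ MM P φ ℓ r n

theorem good_zero : Good P φ ℓ r (0 : A) := by
  intro n
  rcases Nat.eq_zero_or_pos n with rfl | hn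
  · rw [gamma_zero']; exact one_mem_MM hrel
  · rw [gamma_of_zero n hn]; exact AddSubgroup.zero_mem _

theorem good_add {y z : A} (hy : Good P φ ℓ r y) (hz : Good P φ ℓ r z) : Good P φ ℓ r (y + z) := by
  intro n
  rw [Groth.Agent.S3289.result A n y z]
  refine AddSubgroup.sum_mem _ fun i hi => ?_
  have hi' := Finset.mem_range.mp hi
  have := MM_mul hrel (hy i) (hz (n - i))
  rwa [show i + (n - i) = n by omega] at this

theorem good_neg {y : A} (hy : Good P φ ℓ r y) : Good P φ ℓ r (-y) := by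
  intro n
  induction n using Nat.strong_induction_on with
  | _ n ih =>
    rcases Nat.eq_zero_or_pos n with rfl | hn
    · rw [gamma_zero']; exact one_mem_MM hrel
    · have h := Groth.Agent.S3289.result A n y (-y)
      rw [add_neg_cancel, gamma_of_zero n hn, Finset.sum_range_succ', gamma_zero', one_mul, Nat.sub_zero] at h
      have h2 : gamma n (-y) = -∑ a ∈ range n, gamma (a + 1) y * gamma (n - (a + 1)) (-y) := by
        rw [eq_neg_iff_add_eq_zero, add_comm]; exact h.symm
      rw [h2]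
      refine AddSubgroup.neg_mem _ (AddSubgroup.sum_mem _ fun a ha => ?_)
      have ha' := Finset.mem_range.mp ha
      have := MM_mul hrel (hy (a + 1)) (ih (n - (a + 1)) (by omega))
      rwa [show a + 1 + (n - (a + 1)) = n by omega] at this

theorem good_sum {ι : Type*} (s : Finset ι) (z : ι → A) (h : ∀ i ∈ s, Good P φ ℓ r (z i)) :
    Good P φ ℓ r (∑ i ∈ s, z i) := by
  classical
  induction s using Finset.induction_on with
  | empty => simpa using good_zero hrel
  | insert i s hi ih =>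
    rw [Finset.sum_insert hi]
    exact good_add hrel (h i (Finset.mem_insert_self i s)) (ih fun k hk => h k (Finset.mem_insert_of_mem hk))

variable (hφ : IsExtension P PA φ) (hA : HasSplitting A PA) (hℓ : PA.IsLine ℓ)

include hφ

omit hrel in
theorem map_gamma_mem_MM (n : ℕ) (a : K) (ha : P.aug a = 0) : gamma n (φ a) ∈ MM P φ ℓ r n := by
  rw [← gamma_map φ hφ.isLambdaHom]
  exact map_mem_MM (gamma_mem_gammaFiltration P n a ha)

omit hrel in
theorem good_map_of_aug_zero (a : K) (ha : P.aug a = 0) : Good P φ ℓ r (φ a) :=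
  fun n => map_gamma_mem_MM PA hφ n a ha

include hA hℓ

theorem good_pos_mul_line (e' : K) (he' : e' ∈ P.pos) (j : ℕ) :
    Good P φ ℓ r (φ e' * ℓ ^ j - ((P.aug e').toNat : A)) := by
  intro n
  have hpos : φ e' ∈ PA.pos := hφ.pos_subset e' he'
  have hline : PA.IsLine (ℓ ^ j) := Groth.Agent.S3791.isLine_pow PA hℓ j
  have h1 := gamma_pos_mul_line PA hA (φ e') hpos (ℓ ^ j) hline n
  rw [hφ.aug_comp] at h1
  rw [h1]
  set m := (P.aug e').toNat with hm
  have haug : P.aug (e' - (m : K)) = 0 := by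
    rw [map_sub, map_natCast, hm, Int.toNat_of_nonneg (P.aug_pos e' he').le, sub_self]
  refine isGr_sum _ _ (fun k _ => ?_) n
  have e1 : Polynomial.C (gamma k (φ e' - (m : A))) * (Polynomial.C (ℓ ^ j) * Polynomial.X) ^ k =
      Polynomial.C (gamma k (φ e' - (m : A)) * (ℓ ^ j) ^ k) * Polynomial.X ^ k := by
    rw [mul_pow, ← Polynomial.C_pow, Polynomial.C_mul]; ring
  rw [e1]
  refine isGr_mul hrel (isGr_C_mul_X_pow ?_) (isGr_pow hrel ?_ _)
  · have h2 : gamma k (φ e' - (m : A)) ∈ MM P φ ℓ r k := by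
      have := map_gamma_mem_MM (ℓ := ℓ) (r := r) PA hφ k (e' - (m : K)) haug
      rwa [map_sub, map_natCast] at this
    have h3 : (ℓ ^ j) ^ k ∈ MM P φ ℓ r 0 := by rw [← pow_mul]; exact line_pow_mem_MM hrel _
    have := MM_mul hrel h2 h3
    rwa [add_zero] at this
  · intro i
    rw [Polynomial.coeff_add, Polynomial.coeff_one, Polynomial.coeff_C_mul, Polynomial.coeff_X]
    rcases i with _ | _ | i
    · simpa using one_mem_MM hrel
    · simpa using line_pow_sub_one_mem_MM hrel j
    · simp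

theorem good_map_mul_line_pow_sub_one (a : K) (j : ℕ) : Good P φ ℓ r (φ a * (ℓ ^ j - 1)) := by
  have hpos : ∀ e' ∈ P.pos, Good P φ ℓ r (φ e' * (ℓ ^ j - 1)) := by
    intro e' he'
    have h1 := good_pos_mul_line PA hrel hφ hA hℓ e' he' j
    have h2 := good_pos_mul_line PA hrel hφ hA hℓ e' he' 0
    have := good_add hrel h1 (good_neg hrel h2)
    convert this using 1
    ring
  obtain ⟨e1, e2, he1, he2, rfl⟩ := P.exists_sub a
  have := good_add hrel (hpos e1 he1) (good_neg hrel (hpos e2 he2))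
  convert this using 1
  rw [map_sub]; ring

theorem good_of_aug_zero (hspan : ∀ z : A, ∃ f : Polynomial K, z = Polynomial.eval₂ φ ℓ f)
    (z : A) (hz : PA.aug z = 0) : Good P φ ℓ r z := by
  obtain ⟨f, rfl⟩ := hspan z
  rw [Polynomial.eval₂_eq_sum_range] at hz ⊢
  set a0 : K := ∑ i ∈ range (f.natDegree + 1), f.coeff i with ha0
  have haug0 : P.aug a0 = 0 := by
    rw [← hz, map_sum, map_sum]
    refine Finset.sum_congr rfl fun i _ => ?_
    rw [map_mul, map_pow, hℓ.2, one_pow, mul_one, hφ.aug_comp]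
  have e1 : ∑ i ∈ range (f.natDegree + 1), φ (f.coeff i) * ℓ ^ i =
      φ a0 + ∑ i ∈ range (f.natDegree + 1), φ (f.coeff i) * (ℓ ^ i - 1) := by
    rw [ha0, map_sum, ← Finset.sum_add_distrib]
    refine Finset.sum_congr rfl fun i _ => ?_
    ring
  rw [e1]
  refine good_add hrel (good_map_of_aug_zero PA hφ a0 haug0) (good_sum hrel _ _ fun i _ => ?_)
  exact good_map_mul_line_pow_sub_one PA hrel hφ hA hℓ (f.coeff i) i

theorem prod_gamma_mem_MM (hspan : ∀ z : A, ∃ f : Polynomial K, z = Polynomial.eval₂ φ ℓ f)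
    (l : List (ℕ × A)) (hl : ∀ p ∈ l, PA.aug p.2 = 0) :
    (l.map fun p => gamma p.1 p.2).prod ∈ MM P φ ℓ r (l.map Prod.fst).sum := by
  induction l with
  | nil => simpa using one_mem_MM hrel
  | cons p l ih =>
    simp only [List.map_cons, List.prod_cons, List.sum_cons]
    exact MM_mul hrel (good_of_aug_zero PA hrel hφ hA hℓ hspan p.2 (hl p List.mem_cons_self) p.1)
      (ih fun q hq => hl q (List.mem_cons_of_mem _ hq))

omit hrel hA in
theorem MM_le_gammaFiltration (k : ℕ) : MM P φ ℓ r k ≤ gammaFiltration PA k := by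
  refine MM_le fun i hi a ha => ?_
  have h1 : φ a ∈ gammaFiltration PA (k - i) := by
    by_cases hki : k - i = 0
    · rw [hki]; exact mem_zero PA _
    · unfold gammaFiltration at ha ⊢
      rw [if_neg hki] at ha ⊢
      induction ha using AddSubgroup.closure_induction with
      | mem x hx =>
        obtain ⟨l, hl0, hlsum, rfl⟩ := hx
        refine AddSubgroup.subset_closure ⟨l.map (fun p => (p.1, φ p.2)), ?_, ?_, ?_⟩
        · intro p hp
          obtain ⟨q, hq, rfl⟩ := List.mem_map.mp hp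
          show PA.aug (φ q.2) = 0
          rw [hφ.aug_comp, hl0 q hq]
        · rw [List.map_map]; exact hlsum
        · rw [map_list_prod, List.map_map, List.map_map]
          congr 1
          refine List.map_congr_left fun p _ => ?_
          simp only [Function.comp_apply]
          exact gamma_map φ hφ.isLambdaHom p.1 p.2
      | zero => rw [map_zero]; exact AddSubgroup.zero_mem _
      | add x y _ _ h1 h2 => rw [map_add]; exact AddSubgroup.add_mem _ h1 h2
      | neg x _ h => rw [map_neg]; exact AddSubgroup.neg_mem _ h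
  have h2 : (ℓ - 1) ^ i ∈ gammaFiltration PA i := by
    have h3 : ℓ - 1 ∈ gammaFiltration PA 1 := by
      refine mem_gammaFiltration_one PA _ ?_
      rw [map_sub, hℓ.2, map_one, sub_self]
    have := pow_mem PA 1 _ h3 i
    rwa [mul_one] at this
  exact gammaFiltration_antitone PA (by omega) (mul_mem PA _ _ _ _ h1 h2)

/-- The γ-filtration of the extension. -/
theorem gammaFiltration_eq_MM (hspan : ∀ z : A, ∃ f : Polynomial K, z = Polynomial.eval₂ φ ℓ f) (k : ℕ) :
    gammaFiltration PA k = MM P φ ℓ r k := by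
  apply le_antisymm
  · rcases Nat.eq_zero_or_pos k with rfl | hk
    · rw [MM_zero_eq_top hrel hspan]; exact le_top
    · intro z hz
      unfold gammaFiltration at hz
      rw [if_neg (by omega)] at hz
      induction hz using AddSubgroup.closure_induction with
      | mem x hx =>
        obtain ⟨l, hl0, hlsum, rfl⟩ := hx
        exact MM_antitone hlsum (prod_gamma_mem_MM PA hrel hφ hA hℓ hspan l hl0)
      | zero => exact AddSubgroup.zero_mem _
      | add x y _ _ h1 h2 => exact AddSubgroup.add_mem _ h1 h2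
      | neg x _ h => exact AddSubgroup.neg_mem _ h
  · exact MM_le_gammaFiltration PA hφ hℓ k

end Abstract

end Groth.Agent.Lib.Helper20.LamKeFil
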