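import Mathlib
import Groth.Prelude.Def_KGr
import Groth.Agent.Lib.Helper20.LamKeFil

/-!
# Logarithmic derivative of power series and the Newton polynomials `N_k`
-/

set_option autoImplicit false
universe u
open Finset

namespace Groth.Agent.Lib.Helper20.KGrLD

open Groth.Agent.Lib.Helper20.LamKeFil

section LD

variable {A : Type*} [CommRing A]

/-- `t f'/f` for a power series with constant coefficient `1`. -/
noncomputable def LD (f : PowerSeries A) : PowerSeries A :=
  PowerSeries.X * PowerSeries.derivative A f * f.invOfUnit 1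

theorem mul_inv (f : PowerSeries A) (hf : PowerSeries.constantCoeff f = 1) : f * f.invOfUnit 1 = 1 :=
  PowerSeries.mul_invOfUnit f 1 (by simpa using hf)

theorem inv_unique {R : Type*} [CommRing R] {c z w : R} (hz : c * z = 1) (hw : c * w = 1) : z = w := by
  calc z = z * (c * w) := by rw [hw, mul_one]
    _ = (c * z) * w := by ring
    _ = w := by rw [hz, one_mul]

theorem mul_LD (f : PowerSeries A) (hf : PowerSeries.constantCoeff f = 1) :
    f * LD f = PowerSeries.X * PowerSeries.derivative A f := by
  unfold LD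
  have h := mul_inv f hf
  linear_combination (PowerSeries.X * PowerSeries.derivative A f) * h

theorem LD_unique (f g : PowerSeries A) (hf : PowerSeries.constantCoeff f = 1)
    (hg : f * g = PowerSeries.X * PowerSeries.derivative A f) : g = LD f := by
  have h := mul_inv f hf
  have h2 := mul_LD f hf
  calc g = (f * f.invOfUnit 1) * g := by rw [h, one_mul]
    _ = f.invOfUnit 1 * (f * g) := by ring
    _ = f.invOfUnit 1 * (f * LD f) := by rw [hg, h2]
    _ = (f * f.invOfUnit 1) * LD f := by ring
    _ = LD f := by rw [h, one_mul]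

theorem LD_mul (f g : PowerSeries A) (hf : PowerSeries.constantCoeff f = 1)
    (hg : PowerSeries.constantCoeff g = 1) : LD (f * g) = LD f + LD g := by
  symm
  refine LD_unique (f * g) _ (by rw [map_mul, hf, hg, one_mul]) ?_
  rw [Derivation.leibniz, smul_eq_mul, smul_eq_mul]
  have h1 := mul_LD f hf
  have h2 := mul_LD g hg
  linear_combination g * h1 + f * h2

theorem LD_one : LD (1 : PowerSeries A) = 0 := by
  symm
  refine LD_unique 1 0 (by simp) ?_
  have : PowerSeries.derivative A (1 : PowerSeries A) = 0 := by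
    have := (PowerSeries.derivative A).map_one_eq_zero
    exact this
  rw [this]; simp

theorem LD_prod {ι : Type*} (s : Finset ι) (f : ι → PowerSeries A)
    (hf : ∀ i ∈ s, PowerSeries.constantCoeff (f i) = 1) :
    PowerSeries.constantCoeff (∏ i ∈ s, f i) = 1 ∧ LD (∏ i ∈ s, f i) = ∑ i ∈ s, LD (f i) := by
  classical
  induction s using Finset.induction_on with
  | empty => simp [LD_one]
  | insert a s ha ih =>
    have ih' := ih fun i hi => hf i (Finset.mem_insert_of_mem hi)
    have ha' := hf a (Finset.mem_insert_self a s)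
    rw [Finset.prod_insert ha, Finset.sum_insert ha]
    refine ⟨by rw [map_mul, ha', ih'.1, one_mul], ?_⟩
    rw [LD_mul _ _ ha' ih'.1, ih'.2]

theorem map_derivative {B : Type*} [CommRing B] (φ : A →+* B) (g : PowerSeries A) :
    PowerSeries.map φ (PowerSeries.derivative A g) = PowerSeries.derivative B (PowerSeries.map φ g) := by
  ext n
  simp only [PowerSeries.coeff_map, PowerSeries.coeff_derivative, map_mul, map_add, map_natCast,
    map_one]

theorem map_LD {B : Type*} [CommRing B] (φ : A →+* B) (f : PowerSeries A)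
    (hf : PowerSeries.constantCoeff f = 1) : PowerSeries.map φ (LD f) = LD (PowerSeries.map φ f) := by
  have hf' : PowerSeries.constantCoeff (PowerSeries.map φ f) = 1 := by
    rw [← PowerSeries.coeff_zero_eq_constantCoeff_apply, PowerSeries.coeff_map,
      PowerSeries.coeff_zero_eq_constantCoeff_apply, hf, map_one]
  refine LD_unique _ _ hf' ?_
  rw [← map_mul, mul_LD f hf, map_mul, PowerSeries.map_X, map_derivative]

theorem coeff_zero_LD (f : PowerSeries A) : PowerSeries.coeff 0 (LD f) = 0 := by
  unfold LD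
  rw [mul_assoc, PowerSeries.coeff_zero_X_mul]

/-- the coefficient recursion `Σ_{a ≤ k} f_a · ld_{k-a} = k f_k`. -/
theorem coeff_mul_LD (f : PowerSeries A) (hf : PowerSeries.constantCoeff f = 1) (k : ℕ) :
    ∑ p ∈ Finset.HasAntidiagonal.antidiagonal k, PowerSeries.coeff p.1 f * PowerSeries.coeff p.2 (LD f) =
      (k : A) * PowerSeries.coeff k f := by
  have h := congrArg (PowerSeries.coeff k) (mul_LD f hf)
  rw [PowerSeries.coeff_mul] at h
  rw [h]
  rcases Nat.eq_zero_or_pos k with rfl | hk
  · simp
  · obtain ⟨j, rfl⟩ : ∃ j, k = j + 1 := ⟨k - 1, by omega⟩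
    rw [PowerSeries.coeff_succ_X_mul, PowerSeries.coeff_derivative]
    push_cast
    ring

theorem coeff_LD_linear (a : A) (k : ℕ) :
    PowerSeries.coeff (k + 1) (LD (1 + PowerSeries.C a * PowerSeries.X)) = (-1) ^ k * a ^ (k + 1) := by
  set f : PowerSeries A := 1 + PowerSeries.C a * PowerSeries.X with hfdef
  have hf : PowerSeries.constantCoeff f = 1 := by simp [hfdef]
  have hd : PowerSeries.derivative A f = PowerSeries.C a := by
    rw [hfdef, map_add, Derivation.leibniz]
    have h1 : PowerSeries.derivative A (1 : PowerSeries A) = 0 := (PowerSeries.derivative A).map_one_eq_zero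
    have h2 : PowerSeries.derivative A (PowerSeries.C a) = 0 := by
      rw [PowerSeries.derivative_C]
    rw [h1, h2, PowerSeries.derivative_X]
    simp
  have hrec : ∀ n : ℕ, PowerSeries.coeff (n + 1) (LD f) + a * PowerSeries.coeff n (LD f) =
      if n = 0 then a else 0 := by
    intro n
    have h := congrArg (PowerSeries.coeff (n + 1)) (mul_LD f hf)
    rw [hd, PowerSeries.coeff_succ_X_mul, PowerSeries.coeff_C] at h
    rw [← h, hfdef, add_mul, one_mul, map_add, mul_assoc, PowerSeries.coeff_C_mul,
      PowerSeries.coeff_succ_X_mul]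
  induction k with
  | zero =>
    have := hrec 0
    rw [coeff_zero_LD, mul_zero, add_zero, if_pos rfl] at this
    rw [this]; simp
  | succ k ih =>
    have := hrec (k + 1)
    rw [if_neg (by omega), ih] at this
    rw [pow_succ, pow_succ]
    linear_combination this

end LD

/-! ### The series `1 + Σ c_i t^{i+1}` -/

section Ser

variable {A : Type*} [CommRing A]

/-- `1 + Σ_{i<d} c_i t^{i+1}` -/
noncomputable def ser {d : ℕ} (c : Fin d → A) : PowerSeries A :=
  1 + ∑ i : Fin d, PowerSeries.C (c i) * PowerSeries.X ^ ((i : ℕ) + 1)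

theorem constantCoeff_ser {d : ℕ} (c : Fin d → A) : PowerSeries.constantCoeff (ser c) = 1 := by
  unfold ser
  rw [map_add, map_sum]
  simp

theorem map_ser {B : Type*} [CommRing B] (φ : A →+* B) {d : ℕ} (c : Fin d → A) :
    PowerSeries.map φ (ser c) = ser (fun i => φ (c i)) := by
  unfold ser
  rw [map_add, map_one, map_sum]
  congr 1
  refine Finset.sum_congr rfl fun i _ => ?_
  rw [map_mul, map_pow, PowerSeries.map_C, PowerSeries.map_X]

theorem coeff_ser {d : ℕ} (c : Fin d → A) (n : ℕ) :
    PowerSeries.coeff n (ser c) =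
      if n = 0 then 1 else if h : n - 1 < d then c ⟨n - 1, h⟩ else 0 := by
  unfold ser
  rw [map_add, map_sum, PowerSeries.coeff_one]
  simp only [PowerSeries.coeff_C_mul, PowerSeries.coeff_X_pow]
  rcases Nat.eq_zero_or_pos n with rfl | hn
  · simp
  · rw [if_neg (by omega), if_neg (by omega), zero_add]
    by_cases h : n - 1 < d
    · rw [dif_pos h, Finset.sum_eq_single (⟨n - 1, h⟩ : Fin d)]
      · rw [if_pos (by simp; omega), mul_one]
      · intro b _ hb
        rw [if_neg, mul_zero]
        intro hb'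
        apply hb
        ext
        simp
        omega
      · intro h'; exact absurd (Finset.mem_univ _) h'
    · rw [dif_neg h]
      refine Finset.sum_eq_zero fun i _ => ?_
      rw [if_neg, mul_zero]
      have := i.2
      omega

end Ser

/-! ### The Newton polynomials -/

section Newton

open MvPolynomial

/-- `N_k`: the `k`-th power sum as a polynomial in the elementary symmetric polynomials (in `d`
variables). -/
noncomputable def NN (d k : ℕ) : MvPolynomial (Fin d) ℚ :=
  (esymmAlgEquiv (Fin d) ℚ (Fintype.card_fin d)).symm ⟨psum (Fin d) ℚ k, psum_isSymmetric (Fin d) ℚ k⟩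

theorem aeval_esymm_NN (d k : ℕ) :
    aeval (fun i : Fin d => esymm (Fin d) ℚ ((i : ℕ) + 1)) (NN d k) = psum (Fin d) ℚ k := by
  rw [← esymmAlgHom_apply, NN, ← esymmAlgEquiv_apply (Fin d) ℚ (Fintype.card_fin d),
    AlgEquiv.apply_symm_apply]

theorem aeval_esymm_injective (d : ℕ) :
    Function.Injective (aeval (fun i : Fin d => esymm (Fin d) ℚ ((i : ℕ) + 1)) :
      MvPolynomial (Fin d) ℚ → MvPolynomial (Fin d) ℚ) := by
  intro p q h
  apply esymmAlgHom_injective (σ := Fin d) ℚ (n := d) (by simp)
  apply Subtype.ext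
  rw [esymmAlgHom_apply, esymmAlgHom_apply]
  exact h

/-- Vieta in the power series ring. -/
theorem prod_one_add_eq_ser (d : ℕ) :
    ∏ i : Fin d, (1 + PowerSeries.C (X i : MvPolynomial (Fin d) ℚ) * PowerSeries.X) =
      ser (fun i : Fin d => esymm (Fin d) ℚ ((i : ℕ) + 1)) := by
  set s : Multiset (PowerSeries (MvPolynomial (Fin d) ℚ)) :=
    ((Finset.univ : Finset (Fin d)).val.map (X : Fin d → MvPolynomial (Fin d) ℚ)).map
      (PowerSeries.C : MvPolynomial (Fin d) ℚ →+* PowerSeries (MvPolynomial (Fin d) ℚ)) with hs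
  have hcard : Multiset.card s = d := by simp [hs]
  have h := prod_add_mul (1 : PowerSeries (MvPolynomial (Fin d) ℚ)) PowerSeries.X s
  have e1 : (s.map fun r => (1 : PowerSeries (MvPolynomial (Fin d) ℚ)) + r * PowerSeries.X).prod =
      ∏ i : Fin d, (1 + PowerSeries.C (X i : MvPolynomial (Fin d) ℚ) * PowerSeries.X) := by
    rw [Finset.prod_eq_multiset_prod, hs, Multiset.map_map, Multiset.map_map]
    rfl
  rw [← e1, h, hcard]
  have e2 : ∀ k : ℕ, s.esymm k = PowerSeries.C (esymm (Fin d) ℚ k) := by
    intro k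
    rw [hs, Groth.Agent.Lib.Helper20.LamKeFil.map_esymm, esymm_eq_multiset_esymm]
  unfold ser
  rw [Finset.sum_range_succ', Fin.sum_univ_eq_sum_range
    (fun i => PowerSeries.C (esymm (Fin d) ℚ (i + 1)) * PowerSeries.X ^ (i + 1)) d, add_comm]
  congr 1
  · rw [e2, esymm_zero, map_one, pow_zero, one_pow, mul_one, mul_one]
  · refine Finset.sum_congr rfl fun k _ => ?_
    rw [e2, one_pow, mul_one]


theorem aeval_esymm_symm (d : ℕ) (p : MvPolynomial (Fin d) ℚ) (hp : p.IsSymmetric) :
    aeval (fun i : Fin d => esymm (Fin d) ℚ ((i : ℕ) + 1))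
      ((esymmAlgEquiv (Fin d) ℚ (Fintype.card_fin d)).symm ⟨p, hp⟩) = p := by
  rw [← esymmAlgHom_apply, ← esymmAlgEquiv_apply (Fin d) ℚ (Fintype.card_fin d),
    AlgEquiv.apply_symm_apply]

/-- the universal identity: the coefficients of the logarithmic derivative of `1 + Σ E_i t^i` are the
Newton polynomials up to sign. -/
theorem coeff_LD_ser_X (d k : ℕ) :
    PowerSeries.coeff (k + 1) (LD (ser (X : Fin d → MvPolynomial (Fin d) ℚ))) =
      (-1) ^ k * NN d (k + 1) := by
  apply aeval_esymm_injective d
  set ι : MvPolynomial (Fin d) ℚ →+* MvPolynomial (Fin d) ℚ :=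
    (aeval (fun i : Fin d => esymm (Fin d) ℚ ((i : ℕ) + 1)) :
      MvPolynomial (Fin d) ℚ →ₐ[ℚ] MvPolynomial (Fin d) ℚ).toRingHom with hι
  have hιa : ∀ q, aeval (fun i : Fin d => esymm (Fin d) ℚ ((i : ℕ) + 1)) q = ι q := fun q => rfl
  rw [hιa, hιa, map_mul, map_pow, map_neg, map_one, ← hιa (NN d (k + 1)), aeval_esymm_NN,
    ← PowerSeries.coeff_map, map_LD ι _ (constantCoeff_ser _), map_ser]
  have e1 : (fun i : Fin d => ι (X i)) = fun i : Fin d => esymm (Fin d) ℚ ((i : ℕ) + 1) := by
    funext i
    rw [← hιa, aeval_X]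
  rw [e1, ← prod_one_add_eq_ser]
  have h2 := LD_prod (Finset.univ : Finset (Fin d))
    (fun i => (1 + PowerSeries.C (X i : MvPolynomial (Fin d) ℚ) * PowerSeries.X))
    (fun i _ => by simp)
  rw [h2.2, map_sum]
  simp only [coeff_LD_linear]
  rw [← Finset.mul_sum, psum]

/-- specialization of the universal identity -/
theorem aeval_NN {A : Type*} [CommRing A] [Algebra ℚ A] {d : ℕ} (c : Fin d → A) (k : ℕ) :
    aeval c (NN d (k + 1)) = (-1) ^ k * PowerSeries.coeff (k + 1) (LD (ser c)) := by
  have h := congrArg (aeval c) (coeff_LD_ser_X d k)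
  set φ : MvPolynomial (Fin d) ℚ →+* A := (aeval c : MvPolynomial (Fin d) ℚ →ₐ[ℚ] A).toRingHom with hφ
  have hφa : ∀ q, aeval c q = φ q := fun q => rfl
  rw [hφa, hφa, ← PowerSeries.coeff_map, map_LD φ _ (constantCoeff_ser _), map_ser, map_mul, map_pow,
    map_neg, map_one] at h
  have e1 : (fun i : Fin d => φ (X i)) = c := by
    funext i
    rw [← hφa, aeval_X]
  rw [e1] at h
  rw [hφa, h, ← mul_assoc, ← mul_pow]
  simp

theorem chPoly_eq (d : ℕ) :
    KGr.chPoly d = C (d : ℚ) + ∑ k ∈ Finset.range d, C (1 / ((k + 1).factorial : ℚ)) * NN d (k + 1) := by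
  apply aeval_esymm_injective d
  rw [KGr.chPoly, aeval_esymm_symm, map_add, map_sum, algHom_C]
  simp only [map_mul, algHom_C, aeval_esymm_NN]
  unfold KGr.expTrunc
  simp only [map_sum, map_mul, Polynomial.aeval_C, map_pow, Polynomial.aeval_X]
  rw [Finset.sum_comm]
  rw [Finset.sum_range_succ']
  rw [add_comm]
  congr 1
  · simp only [pow_zero, mul_one, Finset.sum_const, Finset.card_univ, Fintype.card_fin, Nat.factorial_zero,
      Nat.cast_one, div_one, map_one, nsmul_eq_mul, algebraMap_eq]
    simp
  · refine Finset.sum_congr rfl fun k _ => ?_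
    rw [← Finset.mul_sum, psum]

end Newton

end Groth.Agent.Lib.Helper20.KGrLD
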