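import Mathlib
import Groth.Prelude.Def_KGr
import Groth.Agent.Lib.Helper20.LamDet
import Groth.Agent.Lib.Helper20.LamFil
import Groth.Agent.Lib.Helper20.LamPsiGr

/-!
# Structure of the extended Rees ring `KGr.rees P` and of `KGr.grK`
-/

set_option autoImplicit false
universe v
open LambdaRing LambdaRing.LambdaOps LaurentPolynomial TensorProduct

namespace Groth.Agent.Lib.Helper20.KGrRees

open Groth.Agent.Lib.Helper20.LamFil Groth.Agent.Lib.Helper20.LamDet Groth.Agent.Lib.Helper20.LamPsiGr

variable {K : Type v} [CommRing K] [LambdaOps K] (P : PosStructure K)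

/-- coefficientwise description of the Rees ring -/
def Good (p : LaurentPolynomial K) : Prop := ∀ z : ℤ, p.coeff z ∈ gammaFiltration P (-z).toNat

theorem good_zero : Good P 0 := fun z => by
  simp

theorem good_add {p q : LaurentPolynomial K} (hp : Good P p) (hq : Good P q) : Good P (p + q) := fun z => by
  rw [AddMonoidAlgebra.coeff_add, Finsupp.add_apply]
  exact AddSubgroup.add_mem _ (hp z) (hq z)

theorem good_neg {p : LaurentPolynomial K} (hp : Good P p) : Good P (-p) := fun z => by
  have : (-p).coeff z = -(p.coeff z) := by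
    have h := congrArg (fun q : LaurentPolynomial K => q.coeff z) (neg_add_cancel p)
    simp only [AddMonoidAlgebra.coeff_add, Finsupp.add_apply] at h
    have h0 : (0 : LaurentPolynomial K).coeff z = 0 := by simp
    rw [h0] at h
    exact eq_neg_of_add_eq_zero_left h
  rw [this]
  exact AddSubgroup.neg_mem _ (hp z)

theorem coeff_C_mul_T (y : K) (a z : ℤ) : (C y * T a : LaurentPolynomial K).coeff z = if a = z then y else 0 := by
  rw [← LaurentPolynomial.single_eq_C_mul_T, AddMonoidAlgebra.coeff_single, Finsupp.single_apply]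

theorem good_monomial (a : ℤ) (y : K) (hy : y ∈ gammaFiltration P (-a).toNat) : Good P (C y * T a) := fun z => by
  rw [coeff_C_mul_T]
  split_ifs with h
  · rw [← h]; exact hy
  · exact AddSubgroup.zero_mem _

theorem good_mul {p q : LaurentPolynomial K} (hp : Good P p) (hq : Good P q) : Good P (p * q) := fun z => by
  classical
  rw [AddMonoidAlgebra.coeff_mul]
  refine AddSubgroup.sum_mem _ fun a _ => ?_
  refine AddSubgroup.sum_mem _ fun b _ => ?_
  show (if a + b = z then p.coeff a * q.coeff b else 0) ∈ gammaFiltration P (-z).toNat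
  split_ifs with h
  · have h1 := mul_mem P _ _ _ _ (hp a) (hq b)
    refine gammaFiltration_antitone P ?_ h1
    omega
  · exact AddSubgroup.zero_mem _

theorem good_one : Good P 1 := by
  have : (1 : LaurentPolynomial K) = C 1 * T 0 := by simp
  rw [this]
  exact good_monomial P 0 1 (mem_zero P 1)

theorem good_of_mem_rees {p : LaurentPolynomial K} (hp : p ∈ KGr.rees P) : Good P p := by
  unfold KGr.rees at hp
  induction hp using Subring.closure_induction with
  | mem x hx =>
    rcases hx with rfl | ⟨n, y, hy, rfl⟩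
    · have : (T 1 : LaurentPolynomial K) = C 1 * T 1 := by simp
      rw [this]
      exact good_monomial P 1 1 (mem_zero P 1)
    · refine good_monomial P _ y ?_
      simpa using hy
  | zero => exact good_zero P
  | one => exact good_one P
  | add x y _ _ hx hy => exact good_add P hx hy
  | neg x _ hx => exact good_neg P hx
  | mul x y _ _ hx hy => exact good_mul P hx hy

theorem monomial_mem_rees (a : ℤ) (y : K) (hy : y ∈ gammaFiltration P (-a).toNat) :
    C y * T a ∈ KGr.rees P := by
  rcases le_or_gt a 0 with ha | ha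
  · refine Subring.subset_closure (Or.inr ⟨(-a).toNat, y, hy, ?_⟩)
    congr 2
    omega
  · have h1 : (C y * T 0 : LaurentPolynomial K) ∈ KGr.rees P :=
      Subring.subset_closure (Or.inr ⟨0, y, mem_zero P y, by simp⟩)
    have h2 : (T 1 : LaurentPolynomial K) ∈ KGr.rees P := Subring.subset_closure (Or.inl rfl)
    have h3 : (T a : LaurentPolynomial K) = T 1 ^ a.toNat := by
      rw [LaurentPolynomial.T_pow]
      congr 1
      simp
      omega
    rw [h3]
    have := Subring.mul_mem _ h1 (Subring.pow_mem _ h2 a.toNat)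
    simpa using this

theorem monomial_mem_rees_iff (a : ℤ) (y : K) :
    C y * T a ∈ KGr.rees P ↔ y ∈ gammaFiltration P (-a).toNat := by
  refine ⟨fun h => ?_, monomial_mem_rees P a y⟩
  have := good_of_mem_rees P h a
  rwa [coeff_C_mul_T, if_pos rfl] at this

open Classical in
/-- the monomial `y T^a` as an element of the Rees ring (zero if it does not lie in it) -/
noncomputable def mon (a : ℤ) (y : K) : KGr.rees P :=
  if h : C y * T a ∈ KGr.rees P then ⟨C y * T a, h⟩ else 0

theorem coe_mon (a : ℤ) (y : K) (hy : y ∈ gammaFiltration P (-a).toNat) :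
    ((mon P a y : KGr.rees P) : LaurentPolynomial K) = C y * T a := by
  unfold mon
  rw [dif_pos (monomial_mem_rees P a y hy)]

theorem eq_sum_mon (p : KGr.rees P) :
    p = ∑ z ∈ (p : LaurentPolynomial K).coeff.support, mon P z ((p : LaurentPolynomial K).coeff z) := by
  apply Subtype.ext
  rw [AddSubmonoidClass.coe_finsetSum]
  have hgood := good_of_mem_rees P p.2
  conv_lhs => rw [← AddMonoidAlgebra.sum_coeff_single (p : LaurentPolynomial K)]
  rw [Finsupp.sum]
  refine Finset.sum_congr rfl fun z _ => ?_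
  rw [coe_mon P z _ (hgood z), LaurentPolynomial.single_eq_C_mul_T]

theorem mon_add (a : ℤ) (y z : K) (hy : y ∈ gammaFiltration P (-a).toNat)
    (hz : z ∈ gammaFiltration P (-a).toNat) : mon P a (y + z) = mon P a y + mon P a z := by
  apply Subtype.ext
  rw [Subring.coe_add, coe_mon P a _ hy, coe_mon P a _ hz, coe_mon P a _ (AddSubgroup.add_mem _ hy hz), map_add,
    add_mul]

theorem mon_mul (a b : ℤ) (y z : K) (hy : y ∈ gammaFiltration P (-a).toNat)
    (hz : z ∈ gammaFiltration P (-b).toNat) : mon P a y * mon P b z = mon P (a + b) (y * z) := by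
  have hyz : y * z ∈ gammaFiltration P (-(a + b)).toNat := by
    refine gammaFiltration_antitone P ?_ (mul_mem P _ _ _ _ hy hz)
    omega
  apply Subtype.ext
  rw [Subring.coe_mul, coe_mon P a _ hy, coe_mon P b _ hz, coe_mon P _ _ hyz, map_mul, LaurentPolynomial.T_add]
  ring

/-- `y T^a` is a multiple of `t` when `y ∈ F^{1-a}`. -/
theorem mon_mem_span (a : ℤ) (y : K) (hy : y ∈ gammaFiltration P (1 - a).toNat) :
    mon P a y ∈ Ideal.span {KGr.tGen P} := by
  rw [Ideal.mem_span_singleton']
  have hy' : y ∈ gammaFiltration P (-(a - 1)).toNat := by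
    have : (-(a - 1)).toNat = (1 - a).toNat := by congr 1; ring
    rwa [this]
  have hy'' : y ∈ gammaFiltration P (-a).toNat := gammaFiltration_antitone P (by omega) hy
  refine ⟨mon P (a - 1) y, ?_⟩
  apply Subtype.ext
  rw [Subring.coe_mul, coe_mon P _ _ hy', coe_mon P _ _ hy'']
  show C y * T (a - 1) * T 1 = C y * T a
  rw [mul_assoc, ← LaurentPolynomial.T_add]
  congr 2
  ring

/-- coefficients of multiples of `t` -/
theorem coeff_mem_of_mem_span (p : KGr.rees P) (hp : p ∈ Ideal.span {KGr.tGen P}) (z : ℤ) :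
    (p : LaurentPolynomial K).coeff z ∈ gammaFiltration P (1 - z).toNat := by
  rw [Ideal.mem_span_singleton'] at hp
  obtain ⟨q, rfl⟩ := hp
  have hq := good_of_mem_rees P q.2 (z - 1)
  have h1 : ((q * KGr.tGen P : KGr.rees P) : LaurentPolynomial K) = (q : LaurentPolynomial K) * T 1 := rfl
  rw [h1]
  have h2 : ((q : LaurentPolynomial K) * T 1).coeff z = (q : LaurentPolynomial K).coeff (z - 1) := by
    have h3 : (T 1 : LaurentPolynomial K) = AddMonoidAlgebra.single (1 : ℤ) (1 : K) := rfl
    rw [h3, AddMonoidAlgebra.coeff_mul_single_eq_coeff_mul (z - 1)]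
    · simp
    · intro m _
      constructor
      · intro h; omega
      · intro h; omega
  rw [h2]
  have : (-(z - 1)).toNat = (1 - z).toNat := by congr 1; ring
  rwa [this] at hq


/-! ### Classes in `GrZ` and `grK` -/

/-- the class of the monomial `y T^a` in `GrZ` -/
noncomputable def cls (a : ℤ) (y : K) : KGr.GrZ P :=
  Ideal.Quotient.mk (Ideal.span {KGr.tGen P}) (mon P a y)

theorem cls_eq_zero (a : ℤ) (y : K) (hy : y ∈ gammaFiltration P (1 - a).toNat) : cls P a y = 0 := by
  unfold cls
  rw [Ideal.Quotient.eq_zero_iff_mem]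
  exact mon_mem_span P a y hy

theorem cls_add (a : ℤ) (y z : K) (hy : y ∈ gammaFiltration P (-a).toNat)
    (hz : z ∈ gammaFiltration P (-a).toNat) : cls P a (y + z) = cls P a y + cls P a z := by
  unfold cls
  rw [mon_add P a y z hy hz, map_add]

theorem cls_mul (a b : ℤ) (y z : K) (hy : y ∈ gammaFiltration P (-a).toNat)
    (hz : z ∈ gammaFiltration P (-b).toNat) : cls P a y * cls P b z = cls P (a + b) (y * z) := by
  unfold cls
  rw [← map_mul, mon_mul P a b y z hy hz]

theorem zsmul_mon (c : ℤ) (a : ℤ) (y : K) (hy : y ∈ gammaFiltration P (-a).toNat) :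
    c • mon P a y = mon P a ((c : K) * y) := by
  apply Subtype.ext
  have h1 : ((c • mon P a y : KGr.rees P) : LaurentPolynomial K) = c • ((mon P a y : KGr.rees P) : LaurentPolynomial K) := rfl
  rw [h1, coe_mon P a _ hy, coe_mon P a _ (smul_mem P _ _ _ hy), zsmul_eq_mul, map_mul, map_intCast, mul_assoc]

theorem zsmul_cls (c : ℤ) (a : ℤ) (y : K) (hy : y ∈ gammaFiltration P (-a).toNat) :
    c • cls P a y = cls P a ((c : K) * y) := by
  unfold cls
  rw [← zsmul_mon P c a y hy, map_zsmul]

theorem mk_eq_sum_cls (p : KGr.rees P) :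
    Ideal.Quotient.mk (Ideal.span {KGr.tGen P}) p =
      ∑ z ∈ (p : LaurentPolynomial K).coeff.support, cls P z ((p : LaurentPolynomial K).coeff z) := by
  conv_lhs => rw [eq_sum_mon P p]
  rw [map_sum]
  rfl

theorem tmul_cls_eq (a : ℤ) (y : K) (M N : ℕ) (hM : 1 ≤ M) (hN : 1 ≤ N)
    (hMy : (M : K) * y ∈ gammaFiltration P (-a).toNat) (hNy : (N : K) * y ∈ gammaFiltration P (-a).toNat) :
    ((1 : ℚ) / (M : ℚ)) ⊗ₜ[ℤ] cls P a ((M : K) * y) = ((1 : ℚ) / (N : ℚ)) ⊗ₜ[ℤ] cls P a ((N : K) * y) := by
  have key : ∀ (M N : ℕ), 1 ≤ M → 1 ≤ N → (M : K) * y ∈ gammaFiltration P (-a).toNat →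
      ((1 : ℚ) / (M : ℚ)) ⊗ₜ[ℤ] cls P a ((M : K) * y) =
        ((1 : ℚ) / ((N * M : ℕ) : ℚ)) ⊗ₜ[ℤ] cls P a (((N * M : ℕ) : K) * y) := by
    intro M N hM hN hMy
    have h1 : cls P a (((N * M : ℕ) : K) * y) = (N : ℤ) • cls P a ((M : K) * y) := by
      rw [zsmul_cls P _ a _ hMy]
      congr 1
      push_cast
      ring
    rw [h1, ← TensorProduct.smul_tmul]
    congr 1
    have hM0 : (M : ℚ) ≠ 0 := by positivity
    have hN0 : (N : ℚ) ≠ 0 := by positivity
    rw [zsmul_eq_mul]
    push_cast
    field_simp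
  rw [key M N hM hN hMy, key N M hN hM hNy, mul_comm N M]

theorem grK_eq (n : ℤ) (x : K) (N : ℕ) (hN : 1 ≤ N) (h : (N : K) * x ∈ gammaFiltration P n.toNat) :
    KGr.grK P n x = ((1 : ℚ) / (N : ℚ)) ⊗ₜ[ℤ] cls P (-n) ((N : K) * x) := by
  have h' : (N : K) * x ∈ gammaFiltration P (-(-n)).toNat := by rwa [neg_neg]
  have hex : ∃ N : ℕ, 1 ≤ N ∧ C ((N : K) * x) * T (-n) ∈ KGr.rees P :=
    ⟨N, hN, monomial_mem_rees P (-n) _ h'⟩
  unfold KGr.grK
  rw [dif_pos hex]
  have hM := hex.choose_spec
  have hM2 : (hex.choose : K) * x ∈ gammaFiltration P (-(-n)).toNat :=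
    (monomial_mem_rees_iff P (-n) _).mp hM.2
  have e1 : (⟨C ((hex.choose : K) * x) * T (-n), hM.2⟩ : KGr.rees P) = mon P (-n) ((hex.choose : K) * x) := by
    apply Subtype.ext
    rw [coe_mon P _ _ hM2]
  rw [e1]
  exact tmul_cls_eq P (-n) x _ N hM.1 hN hM2 h'

theorem grK_of_mem (n : ℕ) (x : K) (h : x ∈ gammaFiltration P n) :
    KGr.grK P (n : ℤ) x = (1 : ℚ) ⊗ₜ[ℤ] cls P (-(n : ℤ)) x := by
  have := grK_eq P (n : ℤ) x 1 le_rfl (by simpa using h)
  simpa using this

end Groth.Agent.Lib.Helper20.KGrRees
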