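import Mathlib
import Groth.Prelude.Def_LambdaRing
import Groth.Agent.Lib.Helper20.LamPsiGr

/-!
# Rational eigenspace decomposition of `ℚ ⊗ K` under the Adams operations
-/

set_option autoImplicit false
universe u
open LambdaRing LambdaRing.LambdaOps Finset TensorProduct

namespace Groth.Agent.Lib.Helper20.LamRat

open Groth.Agent.Lib.Helper20.LamSplit Groth.Agent.Lib.Helper20.LamAdams Groth.Agent.Lib.Helper20.LamFil
  Groth.Agent.Lib.Helper20.LamDet Groth.Agent.Lib.Helper20.LamPsiGr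

variable {K : Type u} [CommRing K] [LambdaOps K]

/-- `ℚF^n`: the `ℚ`-span of the image of `F^n K` in `ℚ ⊗ K`. -/
def QF (P : PosStructure K) (n : ℕ) : Submodule ℚ (ℚ ⊗[ℤ] K) :=
  Submodule.span ℚ ((fun x : K => (1 : ℚ) ⊗ₜ[ℤ] x) '' (gammaFiltration P n : Set K))

theorem QF_antitone (P : PosStructure K) {m n : ℕ} (h : m ≤ n) : QF P n ≤ QF P m :=
  Submodule.span_mono (Set.image_mono (gammaFiltration_antitone P h))

theorem QF_zero (P : PosStructure K) : QF P 0 = ⊤ := by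
  rw [eq_top_iff]
  intro v hv
  clear hv
  induction v using TensorProduct.induction_on with
  | zero => exact Submodule.zero_mem _
  | tmul q x =>
    have : q ⊗ₜ[ℤ] x = q • ((1 : ℚ) ⊗ₜ[ℤ] x) := by rw [TensorProduct.smul_tmul', smul_eq_mul, mul_one]
    rw [this]
    exact Submodule.smul_mem _ _ (Submodule.subset_span ⟨x, mem_zero P x, rfl⟩)
  | add a b ha hb => exact Submodule.add_mem _ ha hb

theorem QF_eq_bot (P : PosStructure K) (d : ℕ) (hd : gammaFiltration P (d + 1) = ⊥) (n : ℕ)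
    (hn : d + 1 ≤ n) : QF P n = ⊥ := by
  rw [eq_bot_iff]
  refine Submodule.span_le.mpr ?_
  rintro _ ⟨x, hx, rfl⟩
  have hx' : x ∈ gammaFiltration P (d + 1) := gammaFiltration_antitone P hn hx
  rw [hd, AddSubgroup.mem_bot] at hx'
  simp [hx']

theorem natCast_tmul (c : ℕ) (x : K) : ((c : ℚ) ⊗ₜ[ℤ] x : ℚ ⊗[ℤ] K) = (1 : ℚ) ⊗ₜ[ℤ] ((c : K) * x) := by
  have h1 : (c : ℚ) = ((c : ℤ) • (1 : ℚ)) := by simp
  have h2 : (c : K) * x = (c : ℤ) • x := by simp
  rw [h1, h2, TensorProduct.smul_tmul]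

section Psi

variable (P : PosStructure K) (hK : HasSplitting K P) (j : ℕ)
  (Ψ : ℚ ⊗[ℤ] K →ₗ[ℚ] ℚ ⊗[ℤ] K)
  (hΨ : ∀ x : K, Ψ (1 ⊗ₜ[ℤ] x) = 1 ⊗ₜ[ℤ] adams P j x)

include hK hΨ

theorem Psi_sub_mem (n : ℕ) (v : ℚ ⊗[ℤ] K) (hv : v ∈ QF P n) :
    Ψ v - ((j : ℚ) ^ n) • v ∈ QF P (n + 1) := by
  unfold QF at hv
  induction hv using Submodule.span_induction with
  | mem v hv =>
    obtain ⟨x, hx, rfl⟩ := hv
    have h1 : ((j : ℚ) ^ n) • ((1 : ℚ) ⊗ₜ[ℤ] x) = (1 : ℚ) ⊗ₜ[ℤ] ((j : K) ^ n * x) := by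
      rw [TensorProduct.smul_tmul', smul_eq_mul, mul_one]
      have := natCast_tmul (K := K) (j ^ n) x
      push_cast at this
      exact this
    rw [hΨ, h1, ← TensorProduct.tmul_sub]
    exact Submodule.subset_span ⟨_, adams_sub_pow_mul_mem P hK j n x hx, rfl⟩
  | zero => simp
  | add a b _ _ ha hb =>
    have := Submodule.add_mem _ ha hb
    rw [map_add, smul_add]
    convert this using 1
    abel
  | smul q a _ ha =>
    have := Submodule.smul_mem _ q ha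
    rw [map_smul, smul_comm]
    rwa [smul_sub] at this

theorem Psi_mem (n : ℕ) (v : ℚ ⊗[ℤ] K) (hv : v ∈ QF P n) : Ψ v ∈ QF P n := by
  have h1 := QF_antitone P (Nat.le_succ n) (Psi_sub_mem P hK j Ψ hΨ n v hv)
  have h2 := Submodule.smul_mem _ ((j : ℚ) ^ n) hv
  have := Submodule.add_mem _ h1 h2
  rwa [sub_add_cancel] at this

theorem aeval_mem (n : ℕ) (q : Polynomial ℚ) (v : ℚ ⊗[ℤ] K) (hv : v ∈ QF P n) :
    Polynomial.aeval Ψ q v ∈ QF P n := by
  induction q using Polynomial.induction_on' with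
  | add p q hp hq =>
    rw [map_add, LinearMap.add_apply]
    exact Submodule.add_mem _ hp hq
  | monomial k c =>
    rw [Polynomial.aeval_monomial, Module.End.mul_apply, Module.algebraMap_end_apply]
    refine Submodule.smul_mem _ _ ?_
    induction k with
    | zero => simpa using hv
    | succ k ih =>
      rw [pow_succ', Module.End.mul_apply]
      exact Psi_mem P hK j Ψ hΨ n _ ih

/-- `Π_{m ≤ n ≤ d} (Ψ - j^n)` kills `ℚF^m` when `F^{d+1} = 0`. -/
theorem aeval_prod_eq_zero (d : ℕ) (hd : gammaFiltration P (d + 1) = ⊥) (k : ℕ) :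
    ∀ m : ℕ, d + 1 ≤ m + k → ∀ v ∈ QF P m,
      Polynomial.aeval Ψ (∏ n ∈ Finset.Ico m (d + 1), (Polynomial.X - Polynomial.C ((j : ℚ) ^ n))) v = 0 := by
  induction k with
  | zero =>
    intro m hm v hv
    rw [QF_eq_bot P d hd m (by omega), Submodule.mem_bot] at hv
    rw [hv, map_zero]
  | succ k ih =>
    intro m hm v hv
    by_cases hmd : d + 1 ≤ m
    · rw [QF_eq_bot P d hd m hmd, Submodule.mem_bot] at hv
      rw [hv, map_zero]
    · push Not at hmd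
      rw [Finset.prod_eq_prod_Ico_succ_bot hmd, mul_comm, map_mul, Module.End.mul_apply]
      refine ih (m + 1) (by omega) _ ?_
      have := Psi_sub_mem P hK j Ψ hΨ m v hv
      rw [map_sub, Polynomial.aeval_X, Polynomial.aeval_C, LinearMap.sub_apply, Module.algebraMap_end_apply]
      exact this

theorem pow_sub_pow_ne_zero (hj : 2 ≤ j) {m n : ℕ} (hmn : m ≠ n) : (j : ℚ) ^ m - (j : ℚ) ^ n ≠ 0 := by
  intro h
  rw [sub_eq_zero] at h
  have h2 : j ^ m = j ^ n := by exact_mod_cast h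
  exact hmn (Nat.pow_right_injective hj h2)

omit hK hΨ in
theorem prod_eval_ne_zero (hj : 2 ≤ j) (d m : ℕ) :
    (∏ n ∈ Finset.Ico (m + 1) (d + 1), (Polynomial.X - Polynomial.C ((j : ℚ) ^ n))).eval ((j : ℚ) ^ m) ≠ 0 := by
  rw [Polynomial.eval_prod]
  refine Finset.prod_ne_zero_iff.mpr fun n hn => ?_
  rw [Polynomial.eval_sub, Polynomial.eval_X, Polynomial.eval_C]
  have := Finset.mem_Ico.mp hn
  intro h
  rw [sub_eq_zero] at h
  have h2 : j ^ m = j ^ n := by exact_mod_cast h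
  have := Nat.pow_right_injective hj h2
  omega

theorem eigenspace_le_QF (hj : 2 ≤ j) (m : ℕ) : Module.End.eigenspace Ψ ((j : ℚ) ^ m) ≤ QF P m := by
  intro v hv
  rw [Module.End.mem_eigenspace_iff] at hv
  have key : ∀ k : ℕ, k ≤ m → v ∈ QF P k := by
    intro k
    induction k with
    | zero => intro _; rw [QF_zero]; trivial
    | succ k ih =>
      intro hk
      have h1 := Psi_sub_mem P hK j Ψ hΨ k v (ih (by omega))
      rw [hv, ← sub_smul] at h1
      have hne : (j : ℚ) ^ m - (j : ℚ) ^ k ≠ 0 := by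
        intro h
        rw [sub_eq_zero] at h
        have h2 : j ^ m = j ^ k := by exact_mod_cast h
        have := Nat.pow_right_injective hj h2
        omega
      have h2 := Submodule.smul_mem _ ((j : ℚ) ^ m - (j : ℚ) ^ k)⁻¹ h1
      rwa [smul_smul, inv_mul_cancel₀ hne, one_smul] at h2
  exact key m le_rfl

theorem eigenspace_inf (hj : 2 ≤ j) (d : ℕ) (hd : gammaFiltration P (d + 1) = ⊥) (m : ℕ) :
    Module.End.eigenspace Ψ ((j : ℚ) ^ m) ⊓ QF P (m + 1) = ⊥ := by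
  rw [eq_bot_iff]
  rintro v ⟨hv1, hv2⟩
  rw [SetLike.mem_coe, Module.End.mem_eigenspace_iff] at hv1
  have h1 := aeval_prod_eq_zero P hK j Ψ hΨ d hd (d + 1) (m + 1) (by omega) v hv2
  rw [Module.End.aeval_apply_of_mem_apply_eq_smul hv1] at h1
  rcases smul_eq_zero.mp h1 with h | h
  · exact absurd h (prod_eval_ne_zero j hj d m)
  · exact h

theorem eigenspace_sup (hj : 2 ≤ j) (d : ℕ) (hd : gammaFiltration P (d + 1) = ⊥) (m : ℕ) :
    Module.End.eigenspace Ψ ((j : ℚ) ^ m) ⊔ QF P (m + 1) = QF P m := by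
  apply le_antisymm
  · exact sup_le (eigenspace_le_QF P hK j Ψ hΨ hj m) (QF_antitone P (Nat.le_succ m))
  · intro v hv
    by_cases hmd : d + 1 ≤ m
    · rw [QF_eq_bot P d hd m hmd, Submodule.mem_bot] at hv
      rw [hv]; exact Submodule.zero_mem _
    · push Not at hmd
      set p : Polynomial ℚ := ∏ n ∈ Finset.Ico (m + 1) (d + 1), (Polynomial.X - Polynomial.C ((j : ℚ) ^ n)) with hp
      set c : ℚ := p.eval ((j : ℚ) ^ m) with hc
      have hc0 : c ≠ 0 := prod_eval_ne_zero j hj d m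
      obtain ⟨q, hq⟩ := Polynomial.X_sub_C_dvd_sub_C_eval (a := (j : ℚ) ^ m) (p := p)
      -- the eigencomponent
      have h1 : Polynomial.aeval Ψ p v ∈ Module.End.eigenspace Ψ ((j : ℚ) ^ m) := by
        rw [Module.End.mem_eigenspace_iff]
        have h2 := aeval_prod_eq_zero P hK j Ψ hΨ d hd (d + 1) m (by omega) v hv
        rw [Finset.prod_eq_prod_Ico_succ_bot hmd, ← hp, map_mul, Module.End.mul_apply, map_sub, Polynomial.aeval_X,
          Polynomial.aeval_C, LinearMap.sub_apply, Module.algebraMap_end_apply, sub_eq_zero] at h2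
        exact h2
      -- the remainder
      have h3 : Polynomial.aeval Ψ (p - Polynomial.C c) v ∈ QF P (m + 1) := by
        rw [hq, mul_comm, map_mul, Module.End.mul_apply]
        refine aeval_mem P hK j Ψ hΨ (m + 1) q _ ?_
        have := Psi_sub_mem P hK j Ψ hΨ m v hv
        rw [map_sub, Polynomial.aeval_X, Polynomial.aeval_C, LinearMap.sub_apply, Module.algebraMap_end_apply]
        exact this
      rw [map_sub, Polynomial.aeval_C, LinearMap.sub_apply, Module.algebraMap_end_apply] at h3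
      have h4 : v = c⁻¹ • Polynomial.aeval Ψ p v + (-c⁻¹) • (Polynomial.aeval Ψ p v - c • v) := by
        rw [smul_sub, smul_smul, neg_mul, inv_mul_cancel₀ hc0]
        simp
      rw [h4]
      exact Submodule.add_mem_sup (Submodule.smul_mem _ _ h1) (Submodule.smul_mem _ _ h3)

theorem QF_le_iSup (hj : 2 ≤ j) (d : ℕ) (hd : gammaFiltration P (d + 1) = ⊥) (k : ℕ) :
    ∀ m : ℕ, d + 1 ≤ m + k →
      QF P m ≤ ⨆ i ∈ Finset.range (d + 1), Module.End.eigenspace Ψ ((j : ℚ) ^ i) := by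
  induction k with
  | zero =>
    intro m hm
    rw [QF_eq_bot P d hd m (by omega)]
    exact bot_le
  | succ k ih =>
    intro m hm
    by_cases hmd : d + 1 ≤ m
    · rw [QF_eq_bot P d hd m hmd]
      exact bot_le
    · push Not at hmd
      rw [← eigenspace_sup P hK j Ψ hΨ hj d hd m]
      refine sup_le ?_ (ih (m + 1) (by omega))
      exact le_biSup (fun i => Module.End.eigenspace Ψ ((j : ℚ) ^ i)) (Finset.mem_range.mpr hmd)

theorem iSup_eigenspace_eq_top (hj : 2 ≤ j) (d : ℕ) (hd : gammaFiltration P (d + 1) = ⊥) :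
    (⨆ i ∈ Finset.range (d + 1), Module.End.eigenspace Ψ ((j : ℚ) ^ i)) = ⊤ := by
  rw [eq_top_iff, ← QF_zero P]
  exact QF_le_iSup P hK j Ψ hΨ hj d hd (d + 1) 0 (by omega)

end Psi

theorem Psi_comm (P : PosStructure K) (hK : HasSplitting K P) (j l : ℕ)
    (Ψj Ψl : ℚ ⊗[ℤ] K →ₗ[ℚ] ℚ ⊗[ℤ] K)
    (hΨj : ∀ x : K, Ψj (1 ⊗ₜ[ℤ] x) = 1 ⊗ₜ[ℤ] adams P j x)
    (hΨl : ∀ x : K, Ψl (1 ⊗ₜ[ℤ] x) = 1 ⊗ₜ[ℤ] adams P l x) (v : ℚ ⊗[ℤ] K) :
    Ψj (Ψl v) = Ψl (Ψj v) := by
  induction v using TensorProduct.induction_on with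
  | zero => simp
  | tmul q x =>
    have : q ⊗ₜ[ℤ] x = q • ((1 : ℚ) ⊗ₜ[ℤ] x) := by rw [TensorProduct.smul_tmul', smul_eq_mul, mul_one]
    rw [this, map_smul, map_smul, map_smul, map_smul, hΨl, hΨj, hΨj, hΨl, adams_adams P hK, adams_adams P hK,
      mul_comm]
  | add a b ha hb => rw [map_add, map_add, map_add, map_add, ha, hb]

theorem eigenspace_le_eigenspace (P : PosStructure K) (hK : HasSplitting K P) (d : ℕ)
    (hd : gammaFiltration P (d + 1) = ⊥) (j l : ℕ) (hj : 2 ≤ j)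
    (Ψj Ψl : ℚ ⊗[ℤ] K →ₗ[ℚ] ℚ ⊗[ℤ] K)
    (hΨj : ∀ x : K, Ψj (1 ⊗ₜ[ℤ] x) = 1 ⊗ₜ[ℤ] adams P j x)
    (hΨl : ∀ x : K, Ψl (1 ⊗ₜ[ℤ] x) = 1 ⊗ₜ[ℤ] adams P l x) (m : ℕ) :
    Module.End.eigenspace Ψj ((j : ℚ) ^ m) ≤ Module.End.eigenspace Ψl ((l : ℚ) ^ m) := by
  intro v hv
  have hvQ := eigenspace_le_QF P hK j Ψj hΨj hj m hv
  rw [Module.End.mem_eigenspace_iff] at hv ⊢
  have h1 := Psi_sub_mem P hK l Ψl hΨl m v hvQ
  have h2 : Ψl v - ((l : ℚ) ^ m) • v ∈ Module.End.eigenspace Ψj ((j : ℚ) ^ m) := by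
    rw [Module.End.mem_eigenspace_iff, map_sub, map_smul, Psi_comm P hK j l Ψj Ψl hΨj hΨl, hv, map_smul,
      smul_sub, smul_comm]
  have h3 : Ψl v - ((l : ℚ) ^ m) • v ∈ Module.End.eigenspace Ψj ((j : ℚ) ^ m) ⊓ QF P (m + 1) := ⟨h2, h1⟩
  rw [eigenspace_inf P hK j Ψj hΨj hj d hd m, Submodule.mem_bot, sub_eq_zero] at h3
  exact h3

end Groth.Agent.Lib.Helper20.LamRat
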