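import Mathlib
import Groth.Prelude.Def_KGr
import Groth.Agent.Lib.Helper20.LamRat

/-!
# Elements of `ℚ ⊗ M` and of `ℚF^n`
-/

set_option autoImplicit false
universe v
open LambdaRing LambdaRing.LambdaOps TensorProduct

namespace Groth.Agent.Lib.Helper20.KGrTensor

open Groth.Agent.Lib.Helper20.LamFil Groth.Agent.Lib.Helper20.LamDet Groth.Agent.Lib.Helper20.LamPsiGr
  Groth.Agent.Lib.Helper20.LamRat

section General

variable {M : Type*} [AddCommGroup M]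

theorem tmul_eq_smul_one_tmul (q : ℚ) (m : M) : q ⊗ₜ[ℤ] m = q • ((1 : ℚ) ⊗ₜ[ℤ] m) := by
  rw [TensorProduct.smul_tmul', smul_eq_mul, mul_one]

theorem inv_tmul_zsmul (N : ℕ) (hN : 1 ≤ N) (m : M) :
    ((1 : ℚ) / (N : ℚ)) ⊗ₜ[ℤ] ((N : ℤ) • m) = (1 : ℚ) ⊗ₜ[ℤ] m := by
  rw [← TensorProduct.smul_tmul]
  congr 1
  have : (N : ℚ) ≠ 0 := by positivity
  rw [zsmul_eq_mul]
  push_cast
  field_simp

theorem inv_mul_tmul (N N' : ℕ) (hN : 1 ≤ N) (m : M) :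
    ((1 : ℚ) / ((N * N' : ℕ) : ℚ)) ⊗ₜ[ℤ] ((N : ℤ) • m) = ((1 : ℚ) / (N' : ℚ)) ⊗ₜ[ℤ] m := by
  rw [← TensorProduct.smul_tmul]
  congr 1
  have : (N : ℚ) ≠ 0 := by positivity
  rw [zsmul_eq_mul]
  push_cast
  rcases Nat.eq_zero_or_pos N' with rfl | h'
  · simp
  · have : (N' : ℚ) ≠ 0 := by positivity
    field_simp

theorem exists_tmul_eq (g : ℚ ⊗[ℤ] M) : ∃ (N : ℕ) (m : M), 1 ≤ N ∧ g = ((1 : ℚ) / (N : ℚ)) ⊗ₜ[ℤ] m := by
  induction g using TensorProduct.induction_on with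
  | zero => exact ⟨1, 0, le_rfl, by simp⟩
  | tmul q m =>
    refine ⟨q.den, q.num • m, q.den_pos, ?_⟩
    rw [← TensorProduct.smul_tmul]
    congr 1
    rw [zsmul_eq_mul, mul_one_div, Rat.num_div_den]
  | add a b ha hb =>
    obtain ⟨N, m, hN, rfl⟩ := ha
    obtain ⟨N', m', hN', rfl⟩ := hb
    refine ⟨N * N', (N' : ℤ) • m + (N : ℤ) • m', Nat.mul_pos hN hN', ?_⟩
    rw [TensorProduct.tmul_add, inv_mul_tmul N N' hN, mul_comm N N', inv_mul_tmul N' N hN']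

end General

variable {K : Type v} [CommRing K] [LambdaOps K] (P : PosStructure K)

theorem one_tmul_eq_zero_iff (z : K) :
    ((1 : ℚ) ⊗ₜ[ℤ] z : ℚ ⊗[ℤ] K) = 0 ↔ ∃ s : ℕ, 1 ≤ s ∧ (s : K) * z = 0 := by
  have h := IsLocalizedModule.eq_zero_iff (nonZeroDivisors ℤ) (TensorProduct.mk ℤ ℚ K 1) (m := z)
  rw [TensorProduct.mk_apply] at h
  rw [h]
  constructor
  · rintro ⟨⟨s, hs⟩, hsz⟩
    have hs0 : s ≠ 0 := nonZeroDivisors.ne_zero hs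
    refine ⟨s.natAbs, Int.natAbs_pos.mpr hs0, ?_⟩
    have h1 : s • z = 0 := hsz
    rw [zsmul_eq_mul] at h1
    rcases Int.natAbs_eq s with h2 | h2
    · rw [h2] at h1
      simpa using h1
    · rw [h2] at h1
      simpa using h1
  · rintro ⟨s, hs, hsz⟩
    refine ⟨⟨(s : ℤ), mem_nonZeroDivisors_of_ne_zero (by exact_mod_cast (by omega : s ≠ 0))⟩, ?_⟩
    show (s : ℤ) • z = 0
    rw [zsmul_eq_mul]
    simpa using hsz

theorem natCast_mul_mem (n : ℕ) (c : ℕ) (x : K) (hx : x ∈ gammaFiltration P n) :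
    (c : K) * x ∈ gammaFiltration P n := smul_mem P n _ x hx

theorem exists_of_mem_QF (n : ℕ) (v : ℚ ⊗[ℤ] K) (hv : v ∈ QF P n) :
    ∃ (N : ℕ) (y : K), 1 ≤ N ∧ y ∈ gammaFiltration P n ∧ v = ((1 : ℚ) / (N : ℚ)) ⊗ₜ[ℤ] y := by
  unfold QF at hv
  induction hv using Submodule.span_induction with
  | mem v hv =>
    obtain ⟨x, hx, rfl⟩ := hv
    exact ⟨1, x, le_rfl, hx, by simp⟩
  | zero => exact ⟨1, 0, le_rfl, AddSubgroup.zero_mem _, by simp⟩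
  | add a b _ _ ha hb =>
    obtain ⟨N, m, hN, hm, rfl⟩ := ha
    obtain ⟨N', m', hN', hm', rfl⟩ := hb
    refine ⟨N * N', (N' : ℤ) • m + (N : ℤ) • m', Nat.mul_pos hN hN', ?_, ?_⟩
    · exact AddSubgroup.add_mem _ (AddSubgroup.zsmul_mem _ hm _) (AddSubgroup.zsmul_mem _ hm' _)
    · rw [TensorProduct.tmul_add, inv_mul_tmul N N' hN, mul_comm N N', inv_mul_tmul N' N hN']
  | smul q a _ ha =>
    obtain ⟨N, m, hN, hm, rfl⟩ := ha
    refine ⟨q.den * N, q.num • m, Nat.mul_pos q.den_pos hN, AddSubgroup.zsmul_mem _ hm _, ?_⟩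
    rw [TensorProduct.smul_tmul', ← TensorProduct.smul_tmul]
    congr 1
    rw [smul_eq_mul, zsmul_eq_mul]
    have h1 : (q.den : ℚ) ≠ 0 := by exact_mod_cast q.den_pos.ne'
    have h2 : (N : ℚ) ≠ 0 := by positivity
    push_cast
    have h4 : (q.num : ℚ) = q * q.den := (Rat.mul_den_eq_num q).symm
    rw [h4]
    field_simp

theorem one_tmul_mem_QF_iff (n : ℕ) (y : K) :
    ((1 : ℚ) ⊗ₜ[ℤ] y : ℚ ⊗[ℤ] K) ∈ QF P n ↔ ∃ M : ℕ, 1 ≤ M ∧ (M : K) * y ∈ gammaFiltration P n := by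
  constructor
  · intro h
    obtain ⟨N, y', hN, hy', he⟩ := exists_of_mem_QF P n _ h
    have h1 : ((1 : ℚ) ⊗ₜ[ℤ] ((N : K) * y - y') : ℚ ⊗[ℤ] K) = 0 := by
      rw [TensorProduct.tmul_sub, ← natCast_tmul, tmul_eq_smul_one_tmul, he, TensorProduct.smul_tmul',
        smul_eq_mul]
      have : (N : ℚ) ≠ 0 := by positivity
      rw [mul_one_div_cancel this, sub_self]
    obtain ⟨s, hs, hsz⟩ := (one_tmul_eq_zero_iff _).mp h1
    refine ⟨s * N, Nat.mul_pos hs hN, ?_⟩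
    have h2 : ((s * N : ℕ) : K) * y = (s : K) * y' := by
      push_cast
      linear_combination hsz
    rw [h2]
    exact natCast_mul_mem P n s y' hy'
  · rintro ⟨M, hM, hMy⟩
    have h1 : ((1 : ℚ) ⊗ₜ[ℤ] y : ℚ ⊗[ℤ] K) = ((1 : ℚ) / (M : ℚ)) • ((1 : ℚ) ⊗ₜ[ℤ] ((M : K) * y)) := by
      rw [← natCast_tmul, TensorProduct.smul_tmul', smul_eq_mul]
      have : (M : ℚ) ≠ 0 := by positivity
      rw [one_div_mul_cancel this]
    rw [h1]
    exact Submodule.smul_mem _ _ (Submodule.subset_span ⟨_, hMy, rfl⟩)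

theorem one_tmul_mem_QF (n : ℕ) (y : K) (hy : y ∈ gammaFiltration P n) :
    ((1 : ℚ) ⊗ₜ[ℤ] y : ℚ ⊗[ℤ] K) ∈ QF P n := Submodule.subset_span ⟨y, hy, rfl⟩

theorem QF_mul_mem (m n : ℕ) (u w : ℚ ⊗[ℤ] K) (hu : u ∈ QF P m) (hw : w ∈ QF P n) :
    u * w ∈ QF P (m + n) := by
  obtain ⟨N, y, hN, hy, rfl⟩ := exists_of_mem_QF P m u hu
  obtain ⟨N', y', hN', hy', rfl⟩ := exists_of_mem_QF P n w hw
  rw [Algebra.TensorProduct.tmul_mul_tmul, tmul_eq_smul_one_tmul]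
  exact Submodule.smul_mem _ _ (one_tmul_mem_QF P _ _ (mul_mem P m n y y' hy hy'))

end Groth.Agent.Lib.Helper20.KGrTensor
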