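import Mathlib
import Groth.Prelude.Def_KGr
import Groth.Agent.Lib.Helper20.KGrRees
import Groth.Agent.Lib.Helper20.KGrTensor
import Groth.Agent.Lib.Helper20.KGrLD

/-!
# The ring isomorphism `Θ : KGr.Gr P → ℚ ⊗ K` attached to an eigenspace decomposition
-/

set_option autoImplicit false
universe v
open LambdaRing LambdaRing.LambdaOps LaurentPolynomial TensorProduct

namespace Groth.Agent.Lib.Helper20.KGrTheta

open Groth.Agent.Lib.Helper20.LamFil Groth.Agent.Lib.Helper20.LamDet Groth.Agent.Lib.Helper20.LamPsiGr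
  Groth.Agent.Lib.Helper20.LamRat Groth.Agent.Lib.Helper20.KGrRees Groth.Agent.Lib.Helper20.KGrTensor
  Groth.Agent.Lib.Helper20.KGrLD Groth.Agent.Lib.Helper20.LamSplit

variable {K : Type v} [CommRing K] [LambdaOps K]

/-- projections onto the Adams eigenspaces of `ℚ ⊗ K` -/
structure EigenData (P : PosStructure K) (d : ℕ) where
  π : ℕ → (ℚ ⊗[ℤ] K) →ₗ[ℚ] (ℚ ⊗[ℤ] K)
  sum_π : ∀ v, ∑ n ∈ Finset.range (d + 1), π n v = v
  π_π : ∀ m n v, π m (π n v) = if m = n then π n v else 0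
  π_mul : ∀ i j u w, u ∈ QF P i → w ∈ QF P j → π (i + j) (u * w) = π i u * π j w
  π_of_lt : ∀ i u, u ∈ QF P i → ∀ m, m < i → π m u = 0
  π_mem : ∀ n v, π n v ∈ QF P n
  π_one : π 0 1 = 1
  π_adams : ∀ l k x, π k ((1 : ℚ) ⊗ₜ[ℤ] adams P l x) = ((l : ℚ) ^ k) • π k ((1 : ℚ) ⊗ₜ[ℤ] x)

variable {P : PosStructure K} {d : ℕ} (E : EigenData P d) (hd : gammaFiltration P (d + 1) = ⊥)

include hd in
theorem EigenData.π_eq_zero_of_lt (n : ℕ) (hn : d < n) (v : ℚ ⊗[ℤ] K) : E.π n v = 0 := by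
  have := E.π_mem n v
  rwa [QF_eq_bot P d hd n (by omega), Submodule.mem_bot] at this

/-- the additive map `p ↦ Σ_n π_n (1 ⊗ p_{-n})` on Laurent polynomials -/
noncomputable def theta0 : LaurentPolynomial K →+ ℚ ⊗[ℤ] K where
  toFun p := ∑ n ∈ Finset.range (d + 1), E.π n ((1 : ℚ) ⊗ₜ[ℤ] p.coeff (-(n : ℤ)))
  map_zero' := by simp
  map_add' p q := by
    rw [← Finset.sum_add_distrib]
    refine Finset.sum_congr rfl fun n _ => ?_
    rw [AddMonoidAlgebra.coeff_add, Finsupp.add_apply, TensorProduct.tmul_add, map_add]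

theorem theta0_apply (p : LaurentPolynomial K) :
    theta0 E p = ∑ n ∈ Finset.range (d + 1), E.π n ((1 : ℚ) ⊗ₜ[ℤ] p.coeff (-(n : ℤ))) := rfl

include hd in
theorem theta0_monomial (a : ℤ) (y : K) (hy : y ∈ gammaFiltration P (-a).toNat) :
    theta0 E (C y * T a) = if a ≤ 0 then E.π (-a).toNat ((1 : ℚ) ⊗ₜ[ℤ] y) else 0 := by
  rw [theta0_apply]
  simp only [coeff_C_mul_T]
  split_ifs with ha
  · by_cases hd' : (-a).toNat ≤ d
    · rw [Finset.sum_eq_single (-a).toNat]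
      · rw [if_pos (by omega)]
      · intro b _ hb
        rw [if_neg (by omega), TensorProduct.tmul_zero, map_zero]
      · intro h
        exact absurd (Finset.mem_range.mpr (by omega)) h
    · rw [E.π_eq_zero_of_lt hd _ (by omega)]
      refine Finset.sum_eq_zero fun n hn => ?_
      have := Finset.mem_range.mp hn
      rw [if_neg (by omega), TensorProduct.tmul_zero, map_zero]
  · refine Finset.sum_eq_zero fun n hn => ?_
    rw [if_neg (by omega), TensorProduct.tmul_zero, map_zero]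

include hd in
theorem theta0_monomial_mul (a b : ℤ) (y z : K) (hy : y ∈ gammaFiltration P (-a).toNat)
    (hz : z ∈ gammaFiltration P (-b).toNat) :
    theta0 E (C (y * z) * T (a + b)) = theta0 E (C y * T a) * theta0 E (C z * T b) := by
  have hyz' : y * z ∈ gammaFiltration P ((-a).toNat + (-b).toNat) := mul_mem P _ _ _ _ hy hz
  have hyz : y * z ∈ gammaFiltration P (-(a + b)).toNat :=
    gammaFiltration_antitone P (by omega) hyz'
  rw [theta0_monomial E hd _ _ hyz, theta0_monomial E hd _ _ hy, theta0_monomial E hd _ _ hz]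
  have hmul : ((1 : ℚ) ⊗ₜ[ℤ] (y * z) : ℚ ⊗[ℤ] K) = ((1 : ℚ) ⊗ₜ[ℤ] y) * ((1 : ℚ) ⊗ₜ[ℤ] z) := by
    rw [Algebra.TensorProduct.tmul_mul_tmul, one_mul]
  by_cases ha : a ≤ 0
  · by_cases hb : b ≤ 0
    · rw [if_pos (by omega), if_pos ha, if_pos hb, hmul]
      have : (-(a + b)).toNat = (-a).toNat + (-b).toNat := by omega
      rw [this]
      exact E.π_mul _ _ _ _ (one_tmul_mem_QF P _ _ hy) (one_tmul_mem_QF P _ _ hz)
    · rw [if_neg hb, mul_zero]
      split_ifs with hab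
      · exact E.π_of_lt _ _ (one_tmul_mem_QF P _ _ hyz') _ (by omega)
      · rfl
  · rw [if_neg ha, zero_mul]
    split_ifs with hab
    · exact E.π_of_lt _ _ (one_tmul_mem_QF P _ _ hyz') _ (by omega)
    · rfl

include hd in
theorem theta0_mon (a : ℤ) (y : K) (hy : y ∈ gammaFiltration P (-a).toNat) :
    theta0 E ((mon P a y : KGr.rees P) : LaurentPolynomial K) =
      if a ≤ 0 then E.π (-a).toNat ((1 : ℚ) ⊗ₜ[ℤ] y) else 0 := by
  rw [coe_mon P a y hy, theta0_monomial E hd a y hy]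

include hd in
theorem theta0_mul (p q : KGr.rees P) :
    theta0 E ((p * q : KGr.rees P) : LaurentPolynomial K) =
      theta0 E (p : LaurentPolynomial K) * theta0 E (q : LaurentPolynomial K) := by
  have hp := good_of_mem_rees P p.2
  have hq := good_of_mem_rees P q.2
  conv_lhs => rw [eq_sum_mon P p, eq_sum_mon P q]
  conv_rhs => rw [eq_sum_mon P p, eq_sum_mon P q]
  rw [Finset.sum_mul_sum, AddSubmonoidClass.coe_finsetSum, AddSubmonoidClass.coe_finsetSum,
    AddSubmonoidClass.coe_finsetSum, map_sum, map_sum, map_sum, Finset.sum_mul_sum]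
  refine Finset.sum_congr rfl fun a _ => ?_
  rw [AddSubmonoidClass.coe_finsetSum, map_sum]
  refine Finset.sum_congr rfl fun b _ => ?_
  rw [mon_mul P a b _ _ (hp a) (hq b)]
  have hyz : (p : LaurentPolynomial K).coeff a * (q : LaurentPolynomial K).coeff b ∈
      gammaFiltration P (-(a + b)).toNat :=
    gammaFiltration_antitone P (by omega) (mul_mem P _ _ _ _ (hp a) (hq b))
  rw [coe_mon P _ _ hyz, coe_mon P _ _ (hp a), coe_mon P _ _ (hq b)]
  exact theta0_monomial_mul E hd a b _ _ (hp a) (hq b)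

include hd in
theorem theta0_one : theta0 E ((1 : KGr.rees P) : LaurentPolynomial K) = 1 := by
  have h1 : ((1 : KGr.rees P) : LaurentPolynomial K) = C 1 * T 0 := by simp
  rw [h1, theta0_monomial E hd 0 1 (mem_zero P 1), if_pos le_rfl]
  exact E.π_one

/-- `Θ` on the Rees ring -/
noncomputable def thetaR : KGr.rees P →+* ℚ ⊗[ℤ] K where
  toFun p := theta0 E (p : LaurentPolynomial K)
  map_one' := theta0_one E hd
  map_mul' := theta0_mul E hd
  map_zero' := by simp
  map_add' p q := by simp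

include hd in
theorem thetaR_tGen : thetaR E hd (KGr.tGen P) = 0 := by
  show theta0 E (T 1 : LaurentPolynomial K) = 0
  have h1 : (T 1 : LaurentPolynomial K) = C 1 * T 1 := by simp
  rw [h1, theta0_monomial E hd 1 1 (mem_zero P 1), if_neg (by omega)]

/-- `Θ` on `GrZ` -/
noncomputable def thetaZ : KGr.GrZ P →+* ℚ ⊗[ℤ] K :=
  Ideal.Quotient.lift (Ideal.span {KGr.tGen P}) (thetaR E hd) (by
    intro a ha
    rw [Ideal.mem_span_singleton'] at ha
    obtain ⟨b, rfl⟩ := ha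
    rw [map_mul, thetaR_tGen E hd, mul_zero])

theorem thetaZ_mk (p : KGr.rees P) :
    thetaZ E hd (Ideal.Quotient.mk (Ideal.span {KGr.tGen P}) p) = theta0 E (p : LaurentPolynomial K) := by
  unfold thetaZ
  rw [Ideal.Quotient.lift_mk]
  rfl

theorem thetaZ_cls (a : ℤ) (y : K) (hy : y ∈ gammaFiltration P (-a).toNat) :
    thetaZ E hd (cls P a y) = if a ≤ 0 then E.π (-a).toNat ((1 : ℚ) ⊗ₜ[ℤ] y) else 0 := by
  unfold cls
  rw [thetaZ_mk, theta0_mon E hd a y hy]

/-- `Θ : ℚGr K → ℚ ⊗ K` -/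
noncomputable def theta : KGr.Gr P →ₐ[ℚ] ℚ ⊗[ℤ] K :=
  Algebra.TensorProduct.lift (Algebra.ofId ℚ (ℚ ⊗[ℤ] K)) (thetaZ E hd).toIntAlgHom
    (fun _ _ => Commute.all _ _)

theorem theta_tmul (q : ℚ) (g : KGr.GrZ P) :
    theta E hd (q ⊗ₜ[ℤ] g) = q • thetaZ E hd g := by
  unfold theta
  rw [Algebra.TensorProduct.lift_tmul, Algebra.ofId_apply]
  exact (Algebra.smul_def q _).symm


/-! ### Bijectivity -/

include hd in
theorem theta_surjective : Function.Surjective (theta E hd) := by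
  intro v
  have key : ∀ n : ℕ, ∀ w ∈ QF P n, ∃ g, theta E hd g = E.π n w := by
    intro n w hw
    obtain ⟨N, y, hN, hy, rfl⟩ := exists_of_mem_QF P n w hw
    refine ⟨((1 : ℚ) / (N : ℚ)) ⊗ₜ[ℤ] cls P (-(n : ℤ)) y, ?_⟩
    have hy' : y ∈ gammaFiltration P (-(-(n : ℤ))).toNat := by simpa using hy
    rw [theta_tmul, thetaZ_cls E hd _ _ hy', if_pos (by omega)]
    have : (-(-(n : ℤ))).toNat = n := by simp
    rw [this]
    conv_rhs => rw [KGrTensor.tmul_eq_smul_one_tmul, map_smul]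
  choose! g hg using key
  refine ⟨∑ n ∈ Finset.range (d + 1), g n (E.π n v), ?_⟩
  rw [map_sum]
  conv_rhs => rw [← E.sum_π v]
  refine Finset.sum_congr rfl fun n _ => ?_
  rw [hg n _ (E.π_mem n v), E.π_π, if_pos rfl]

theorem mem_QF_succ_of_π_eq_zero (m : ℕ) (w : ℚ ⊗[ℤ] K) (hw : w ∈ QF P m) (h0 : E.π m w = 0) :
    w ∈ QF P (m + 1) := by
  rw [← E.sum_π w]
  refine Submodule.sum_mem _ fun n _ => ?_
  rcases lt_trichotomy n m with h | h | h
  · rw [E.π_of_lt m w hw n h]; exact zero_mem _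
  · rw [h, h0]; exact zero_mem _
  · exact QF_antitone P (by omega) (E.π_mem n w)

theorem one_tmul_cls_eq_zero (m : ℕ) (y : K) (hy : y ∈ gammaFiltration P m)
    (hπ : E.π m ((1 : ℚ) ⊗ₜ[ℤ] y) = 0) : ((1 : ℚ) ⊗ₜ[ℤ] cls P (-(m : ℤ)) y : KGr.Gr P) = 0 := by
  have h1 := mem_QF_succ_of_π_eq_zero E m _ (one_tmul_mem_QF P m y hy) hπ
  obtain ⟨M, hM, hMy⟩ := (one_tmul_mem_QF_iff P (m + 1) y).mp h1
  have hy' : y ∈ gammaFiltration P (-(-(m : ℤ))).toNat := by simpa using hy
  have h2 : cls P (-(m : ℤ)) ((M : K) * y) = 0 := by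
    refine cls_eq_zero P _ _ ?_
    have : (1 - -(m : ℤ)).toNat = m + 1 := by omega
    rwa [this]
  have h3 := zsmul_cls P (M : ℤ) _ _ hy'
  rw [Int.cast_natCast, h2] at h3
  have h4 := inv_tmul_zsmul M hM (cls P (-(m : ℤ)) y)
  rw [h3, TensorProduct.tmul_zero] at h4
  exact h4.symm

include hd in
theorem theta_injective : Function.Injective (theta E hd) := by
  rw [injective_iff_map_eq_zero]
  intro g hg
  obtain ⟨N, m, hN, rfl⟩ := exists_tmul_eq g
  obtain ⟨p, rfl⟩ := Ideal.Quotient.mk_surjective m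
  rw [theta_tmul, thetaZ_mk] at hg
  have hN0 : ((1 : ℚ) / (N : ℚ)) ≠ 0 := by positivity
  have h0 : theta0 E (p : LaurentPolynomial K) = 0 := (smul_eq_zero.mp hg).resolve_left hN0
  have hgood := good_of_mem_rees P p.2
  have hz : ∀ z : ℤ, ((1 : ℚ) ⊗ₜ[ℤ] cls P z ((p : LaurentPolynomial K).coeff z) : KGr.Gr P) = 0 := by
    intro z
    rcases lt_or_ge 0 z with hz | hz
    · rw [cls_eq_zero P z _ (by
        have : (1 - z).toNat = 0 := by omega
        rw [this]; exact mem_zero P _), TensorProduct.tmul_zero]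
    · by_cases hzd : (-z).toNat ≤ d
      · have h1 := congrArg (E.π (-z).toNat) h0
        rw [theta0_apply, map_sum, map_zero, Finset.sum_eq_single (-z).toNat] at h1
        · rw [E.π_π, if_pos rfl] at h1
          have hzz : (-(((-z).toNat : ℕ) : ℤ)) = z := by omega
          rw [hzz] at h1
          have := one_tmul_cls_eq_zero E (-z).toNat _ (hgood z) h1
          rwa [hzz] at this
        · intro b _ hb; rw [E.π_π, if_neg (Ne.symm hb)]
        · intro h; exact absurd (Finset.mem_range.mpr (by omega)) h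
      · have : (p : LaurentPolynomial K).coeff z = 0 := by
          have := gammaFiltration_antitone P (show d + 1 ≤ (-z).toNat by omega) (hgood z)
          rwa [hd, AddSubgroup.mem_bot] at this
        rw [this, cls_eq_zero P z 0 (AddSubgroup.zero_mem _), TensorProduct.tmul_zero]
  rw [mk_eq_sum_cls, TensorProduct.tmul_sum]
  refine Finset.sum_eq_zero fun z _ => ?_
  rw [KGrTensor.tmul_eq_smul_one_tmul, hz z, smul_zero]


/-! ### `Θ` of the Chern character -/

/-- the `γ`-series -/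
noncomputable def gamS (x : K) : PowerSeries K := PowerSeries.mk fun i => gamma i x

theorem constantCoeff_gamS (x : K) : PowerSeries.constantCoeff (gamS x) = 1 := by
  rw [← PowerSeries.coeff_zero_eq_constantCoeff_apply, gamS, PowerSeries.coeff_mk, gamma_zero']

/-- `K → ℚ ⊗ K` -/
noncomputable def incR : K →+* ℚ ⊗[ℤ] K :=
  (Algebra.TensorProduct.includeRight : K →ₐ[ℤ] ℚ ⊗[ℤ] K).toRingHom

theorem incR_apply (y : K) : incR y = (1 : ℚ) ⊗ₜ[ℤ] y := rfl

theorem intCast_tmul (c : ℤ) (x : K) :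
    ((1 : ℚ) ⊗ₜ[ℤ] ((c : K) * x) : ℚ ⊗[ℤ] K) = (c : ℚ) • ((1 : ℚ) ⊗ₜ[ℤ] x) := by
  have h2 : (c : K) * x = c • x := by simp
  rw [h2, ← TensorProduct.smul_tmul, TensorProduct.smul_tmul', smul_eq_mul, zsmul_eq_mul]

theorem smul_eq_algebraMap_mul (q : ℚ) (v : ℚ ⊗[ℤ] K) : q • v = algebraMap ℚ (ℚ ⊗[ℤ] K) q * v :=
  Algebra.smul_def q v

theorem natCast_mul_eq_smul (k : ℕ) (v : ℚ ⊗[ℤ] K) : (k : ℚ ⊗[ℤ] K) * v = (k : ℚ) • v := by
  rw [smul_eq_algebraMap_mul, map_natCast]

theorem iso_LD (Y Y₀ : PowerSeries (ℚ ⊗[ℤ] K)) (h0 : PowerSeries.constantCoeff Y = 1)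
    (h0' : PowerSeries.constantCoeff Y₀ = 1) (hY : ∀ i, PowerSeries.coeff i Y ∈ QF P i)
    (hY₀ : ∀ i, PowerSeries.coeff i Y₀ = E.π i (PowerSeries.coeff i Y)) (k : ℕ) :
    PowerSeries.coeff k (LD Y) ∈ QF P k ∧
      PowerSeries.coeff k (LD Y₀) = E.π k (PowerSeries.coeff k (LD Y)) := by
  induction k using Nat.strong_induction_on with
  | _ k ih =>
    have hrec : ∀ Z : PowerSeries (ℚ ⊗[ℤ] K), PowerSeries.constantCoeff Z = 1 →
        PowerSeries.coeff k (LD Z) = (k : ℚ ⊗[ℤ] K) * PowerSeries.coeff k Z -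
          ∑ p ∈ (Finset.HasAntidiagonal.antidiagonal k).erase (0, k),
            PowerSeries.coeff p.1 Z * PowerSeries.coeff p.2 (LD Z) := by
      intro Z hZ
      have h := coeff_mul_LD Z hZ k
      rw [← Finset.add_sum_erase _ _ (show (0, k) ∈ Finset.HasAntidiagonal.antidiagonal k by simp)] at h
      rw [PowerSeries.coeff_zero_eq_constantCoeff_apply, hZ, one_mul] at h
      linear_combination h
    have hmem : ∀ p ∈ (Finset.HasAntidiagonal.antidiagonal k).erase (0, k), p.1 + p.2 = k ∧ p.2 < k := by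
      intro p hp
      have h1 := Finset.mem_erase.mp hp
      have h2 := Finset.HasAntidiagonal.mem_antidiagonal.mp h1.2
      refine ⟨h2, ?_⟩
      by_contra hlt
      apply h1.1
      ext <;> simp <;> omega
    constructor
    · rw [hrec Y h0]
      refine Submodule.sub_mem _ ?_ (Submodule.sum_mem _ fun p hp => ?_)
      · rw [natCast_mul_eq_smul]
        exact Submodule.smul_mem _ _ (hY k)
      · obtain ⟨h1, h2⟩ := hmem p hp
        have := QF_mul_mem P _ _ _ _ (hY p.1) (ih p.2 h2).1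
        rwa [h1] at this
    · rw [hrec Y₀ h0', hrec Y h0, map_sub, map_sum, natCast_mul_eq_smul, natCast_mul_eq_smul, map_smul, hY₀ k]
      congr 1
      refine Finset.sum_congr rfl fun p hp => ?_
      obtain ⟨h1, h2⟩ := hmem p hp
      rw [hY₀ p.1, (ih p.2 h2).2, ← E.π_mul _ _ _ _ (hY p.1) (ih p.2 h2).1, h1]

theorem stirling (n : ℕ) :
    ∑ l ∈ Finset.range (n + 1), ((-1 : ℚ) ^ (n - l) * (n.choose l : ℚ)) * (l : ℚ) ^ n = (n.factorial : ℚ) := by
  have h1 := fwdDiff_iter_eq_sum_shift (h := (1 : ℚ)) (fun r : ℚ => r ^ n) n 0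
  have h2 := congrFun (fwdDiff_iter_eq_factorial (R := ℚ) (n := n)) 0
  rw [h2] at h1
  simp only [Pi.natCast_apply] at h1
  rw [h1]
  refine Finset.sum_congr rfl fun l _ => ?_
  simp [zsmul_eq_mul]

/-- the coefficients of `Δ_n = Σ_l (-1)^{n-l} C(n,l) ψ^l` -/
def cΔ (n l : ℕ) : ℤ := (-1) ^ (n - l) * (n.choose l : ℤ)

/-- the hypothesis relating the logarithmic derivative of the `γ`-series to the Adams operations -/
def HΔ (P : PosStructure K) : Prop :=
  ∀ (x : K) (k : ℕ), (-1) ^ k * PowerSeries.coeff (k + 1) (LD (gamS (x - (P.aug x : K)))) =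
    ∑ l ∈ Finset.range (k + 2), ((cΔ (k + 1) l : ℤ) : K) * adams P l x

include hd in
theorem theta_grK (n : ℕ) (y : K) (hy : y ∈ gammaFiltration P n) :
    theta E hd (KGr.grK P (n : ℤ) y) = E.π n ((1 : ℚ) ⊗ₜ[ℤ] y) := by
  have hy' : y ∈ gammaFiltration P (-(-(n : ℤ))).toNat := by simpa using hy
  rw [grK_of_mem P n y hy, theta_tmul, one_smul, thetaZ_cls E hd _ _ hy', if_pos (by omega)]
  have : (-(-(n : ℤ))).toNat = n := by simp
  rw [this]

include hd in
theorem π_zero_one_tmul (x : K) :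
    E.π 0 ((1 : ℚ) ⊗ₜ[ℤ] x) = algebraMap ℚ (ℚ ⊗[ℤ] K) (P.aug x : ℚ) := by
  have haug : P.aug (x - (P.aug x : K)) = 0 := by rw [map_sub, map_intCast]; simp
  have h1 : x = (x - (P.aug x : K)) + (P.aug x : K) * 1 := by ring
  conv_lhs => rw [h1]
  rw [TensorProduct.tmul_add, map_add, E.π_of_lt 1 _ (one_tmul_mem_QF P 1 _ (mem_gammaFiltration_one P _ haug)) 0
    Nat.zero_lt_one, zero_add, intCast_tmul, map_smul]
  have : ((1 : ℚ) ⊗ₜ[ℤ] (1 : K) : ℚ ⊗[ℤ] K) = 1 := rfl
  rw [this, E.π_one, Algebra.algebraMap_eq_smul_one]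

include hd in
theorem theta_chK (hΔ : HΔ P) (x : K) : theta E hd (KGr.chK P d x) = (1 : ℚ) ⊗ₜ[ℤ] x := by
  set x' : K := x - (P.aug x : K) with hx'
  have haug : P.aug x' = 0 := by rw [hx', map_sub, map_intCast]; simp
  set Y : PowerSeries (ℚ ⊗[ℤ] K) := PowerSeries.map incR (gamS x') with hY
  set z : Fin d → ℚ ⊗[ℤ] K := fun i => theta E hd (KGr.chern P ((i : ℕ) + 1) x) with hz
  have hzi : ∀ i : Fin d, z i = E.π ((i : ℕ) + 1) ((1 : ℚ) ⊗ₜ[ℤ] gamma ((i : ℕ) + 1) x') := by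
    intro i
    rw [hz]
    simp only
    rw [KGr.chern]
    exact theta_grK E hd ((i : ℕ) + 1) _ (gamma_mem_gammaFiltration P ((i : ℕ) + 1) x' haug)
  have hcY : ∀ i, PowerSeries.coeff i Y = (1 : ℚ) ⊗ₜ[ℤ] gamma i x' := by
    intro i
    rw [hY, PowerSeries.coeff_map, gamS, PowerSeries.coeff_mk, incR_apply]
  have h0 : PowerSeries.constantCoeff Y = 1 := by
    rw [← PowerSeries.coeff_zero_eq_constantCoeff_apply, hcY, gamma_zero']
    rfl
  have hYmem : ∀ i, PowerSeries.coeff i Y ∈ QF P i := by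
    intro i
    rw [hcY]
    exact one_tmul_mem_QF P i _ (gamma_mem_gammaFiltration P i x' haug)
  have hY₀ : ∀ i, PowerSeries.coeff i (ser z) = E.π i (PowerSeries.coeff i Y) := by
    intro i
    rw [coeff_ser, hcY]
    rcases Nat.eq_zero_or_pos i with rfl | hi
    · rw [if_pos rfl, gamma_zero']
      exact E.π_one.symm
    · rw [if_neg (by omega)]
      by_cases hid : i - 1 < d
      · rw [dif_pos hid, hzi]
        have : i - 1 + 1 = i := by omega
        simp only [this]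
      · rw [dif_neg hid, E.π_eq_zero_of_lt hd i (by omega)]
  have hiso := fun k => (iso_LD E Y (ser z) h0 (constantCoeff_ser z) hYmem hY₀ k).2
  -- the coefficients of `LD Y`
  have hLDY : ∀ k, PowerSeries.coeff k (LD Y) = (1 : ℚ) ⊗ₜ[ℤ] PowerSeries.coeff k (LD (gamS x')) := by
    intro k
    rw [hY, ← map_LD incR _ (constantCoeff_gamS x'), PowerSeries.coeff_map, incR_apply]
  -- the Newton terms
  have hN : ∀ k ∈ Finset.range d, algebraMap ℚ (ℚ ⊗[ℤ] K) (1 / ((k + 1).factorial : ℚ)) *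
      MvPolynomial.aeval z (NN d (k + 1)) = E.π (k + 1) ((1 : ℚ) ⊗ₜ[ℤ] x) := by
    intro k _
    rw [aeval_NN, hiso, hLDY]
    have e1 : ((-1 : ℚ ⊗[ℤ] K) ^ k) * E.π (k + 1) ((1 : ℚ) ⊗ₜ[ℤ] PowerSeries.coeff (k + 1) (LD (gamS x'))) =
        E.π (k + 1) ((1 : ℚ) ⊗ₜ[ℤ] ((-1) ^ k * PowerSeries.coeff (k + 1) (LD (gamS x')))) := by
      have e2 : ((-1 : K) ^ k) = (((-1 : ℤ) ^ k : ℤ) : K) := by push_cast; rfl
      rw [e2, intCast_tmul, map_smul, smul_eq_algebraMap_mul]
      congr 1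
      push_cast
      simp
    rw [e1, hΔ x k, TensorProduct.tmul_sum, map_sum]
    simp only [intCast_tmul, map_smul, E.π_adams, smul_smul]
    rw [← Finset.sum_smul]
    have e3 : ∑ l ∈ Finset.range (k + 2), ((cΔ (k + 1) l : ℤ) : ℚ) * (l : ℚ) ^ (k + 1) =
        ((k + 1).factorial : ℚ) := by
      rw [← stirling (k + 1)]
      refine Finset.sum_congr rfl fun l _ => ?_
      unfold cΔ
      push_cast
      rfl
    rw [e3, smul_eq_algebraMap_mul, ← mul_assoc, ← map_mul]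
    have : (1 / ((k + 1).factorial : ℚ)) * ((k + 1).factorial : ℚ) = 1 := by
      have : ((k + 1).factorial : ℚ) ≠ 0 := by positivity
      field_simp
    rw [this, map_one, one_mul]
  have hcomp : theta E hd (MvPolynomial.aeval (fun i : Fin d => KGr.chern P ((i : ℕ) + 1) x) (KGr.chPoly d)) =
      MvPolynomial.aeval z (KGr.chPoly d) :=
    MvPolynomial.comp_aeval_apply (fun i : Fin d => KGr.chern P ((i : ℕ) + 1) x) (theta E hd) (KGr.chPoly d)
  rw [KGr.chK, map_add, AlgHom.commutes, hcomp, chPoly_eq, map_add, map_sum,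
    MvPolynomial.aeval_C]
  simp only [map_mul, MvPolynomial.aeval_C]
  rw [Finset.sum_congr rfl hN]
  rw [← add_assoc, ← map_add]
  have e4 : ((P.aug x : ℚ) - (d : ℚ)) + (d : ℚ) = (P.aug x : ℚ) := by ring
  rw [e4, ← π_zero_one_tmul E hd x]
  conv_rhs => rw [← E.sum_π ((1 : ℚ) ⊗ₜ[ℤ] x), Finset.sum_range_succ']
  rw [add_comm]

end Groth.Agent.Lib.Helper20.KGrTheta
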