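import Mathlib
import Groth.Prelude.Def_KGr
import Groth.Agent.Lib.Helper20.KGrTheta

/-!
# The logarithmic derivative of the `γ`-series in terms of the Adams operations
-/

set_option autoImplicit false
universe v
open LambdaRing LambdaRing.LambdaOps TensorProduct

namespace Groth.Agent.Lib.Helper20.KGrDelta

open Groth.Agent.Lib.Helper20.LamFil Groth.Agent.Lib.Helper20.LamDet Groth.Agent.Lib.Helper20.LamPsiGr
  Groth.Agent.Lib.Helper20.LamAdams Groth.Agent.Lib.Helper20.KGrLD Groth.Agent.Lib.Helper20.KGrTheta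
  Groth.Agent.Lib.Helper20.LamSplit

variable {K : Type v} [CommRing K] [LambdaOps K]

theorem gamS_add (y z : K) : gamS (y + z) = gamS y * gamS z := by
  ext n
  rw [PowerSeries.coeff_mul, gamS, PowerSeries.coeff_mk, Groth.Agent.S3289.result K n y z,
    Finset.Nat.sum_antidiagonal_eq_sum_range_succ_mk]
  refine Finset.sum_congr rfl fun i _ => ?_
  rw [gamS, gamS, PowerSeries.coeff_mk, PowerSeries.coeff_mk]

/-- `D_k(y)`: the `(k+1)`-st coefficient of the logarithmic derivative of the `γ`-series. -/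
noncomputable def DD (k : ℕ) (y : K) : K := PowerSeries.coeff (k + 1) (LD (gamS y))

theorem DD_add (k : ℕ) (y z : K) : DD k (y + z) = DD k y + DD k z := by
  unfold DD
  rw [gamS_add, LD_mul _ _ (constantCoeff_gamS y) (constantCoeff_gamS z), map_add]

theorem DD_sub (k : ℕ) (y z : K) : DD k (y - z) = DD k y - DD k z := by
  have := DD_add k (y - z) z
  rw [sub_add_cancel] at this
  rw [this, add_sub_cancel_right]

theorem gamS_line_sub_one (P : PosStructure K) (u : K) (hu : P.IsLine u) :
    gamS (u - 1) = 1 + PowerSeries.C (u - 1) * PowerSeries.X := by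
  ext n
  rw [gamS, PowerSeries.coeff_mk, map_add, PowerSeries.coeff_one, PowerSeries.coeff_C_mul, PowerSeries.coeff_X]
  rcases Nat.lt_or_ge n 2 with h | h
  · interval_cases n
    · simp [gamma_zero']
    · simp [gamma_one']
  · rw [gamma_line_sub_one P u hu n h, if_neg (by omega), if_neg (by omega)]
    simp

theorem gamS_zero : gamS (0 : K) = 1 := by
  ext n
  rw [gamS, PowerSeries.coeff_mk, PowerSeries.coeff_one]
  rcases Nat.eq_zero_or_pos n with rfl | h
  · simp [gamma_zero']
  · rw [gamma_of_zero n h, if_neg (by omega)]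

theorem DD_sum_lines (P : PosStructure K) (k : ℕ) (s : Multiset K) (hs : ∀ u ∈ s, P.IsLine u) :
    DD k (s.sum - (Multiset.card s : K)) = (s.map fun u => (-1) ^ k * (u - 1) ^ (k + 1)).sum := by
  induction s using Multiset.induction_on with
  | empty =>
    simp only [Multiset.sum_zero, Multiset.card_zero, Nat.cast_zero, sub_zero, Multiset.map_zero]
    unfold DD
    rw [gamS_zero, LD_one, map_zero]
  | cons a s ih =>
    have ha := hs a (Multiset.mem_cons_self a s)
    have hs' : ∀ v ∈ s, P.IsLine v := fun v hv => hs v (Multiset.mem_cons_of_mem hv)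
    have e1 : (a ::ₘ s).sum - (Multiset.card (a ::ₘ s) : K) = (a - 1) + (s.sum - (Multiset.card s : K)) := by
      rw [Multiset.sum_cons, Multiset.card_cons]; push_cast; ring
    rw [e1, DD_add, ih hs', Multiset.map_cons, Multiset.sum_cons]
    congr 1
    unfold DD
    rw [gamS_line_sub_one P a ha, coeff_LD_linear]

theorem binom_sub_one {R : Type*} [CommRing R] (u : R) (n : ℕ) :
    ∑ l ∈ Finset.range (n + 1), ((cΔ n l : ℤ) : R) * u ^ l = (u - 1) ^ n := by
  rw [sub_eq_add_neg, add_pow]
  refine Finset.sum_congr rfl fun l _ => ?_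
  unfold cΔ
  push_cast
  ring

/-- the positive case -/
theorem HΔ_pos (P : PosStructure K) (hK : HasSplitting K P) (e : K) (he : e ∈ P.pos) (k : ℕ) :
    (-1) ^ k * DD k (e - (P.aug e : K)) =
      ∑ l ∈ Finset.range (k + 2), ((cΔ (k + 1) l : ℤ) : K) * adams P l e := by
  obtain ⟨L, φ, hL, hφ, s, hs, hsum⟩ := exists_split' P hK e he
  have hcard : (Multiset.card s : ℤ) = P.aug e := by
    have h1 := aug_sum L.posStr s hs
    rw [hsum, hφ.aug_comp] at h1
    exact h1.symm
  apply hφ.injective
  have hmapDD : ∀ y : K, φ (DD k y) = DD k (φ y) := by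
    intro y
    unfold DD
    rw [← PowerSeries.coeff_map, map_LD φ _ (constantCoeff_gamS y)]
    congr 2
    ext n
    rw [PowerSeries.coeff_map, gamS, gamS, PowerSeries.coeff_mk, PowerSeries.coeff_mk,
      gamma_map φ hφ.isLambdaHom]
  rw [map_mul, map_pow, map_neg, map_one, hmapDD, map_sub, map_intCast, ← hsum, ← hcard, Int.cast_natCast,
    DD_sum_lines L.posStr k s hs, map_sum]
  have e2 : ∀ l ∈ Finset.range (k + 2), φ (((cΔ (k + 1) l : ℤ) : K) * adams P l e) =
      (s.map fun u => ((cΔ (k + 1) l : ℤ) : L.carrier) * u ^ l).sum := by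
    intro l _
    rw [map_mul, map_intCast, map_adams P L.posStr φ hφ, ← hsum, adams_sum_lines L.posStr l s hs,
      Multiset.sum_map_mul_left]
  rw [Finset.sum_congr rfl e2, ← Multiset.sum_map_sum, Multiset.sum_map_mul_left.symm]
  congr 1
  refine Multiset.map_congr rfl fun u _ => ?_
  rw [show k + 2 = (k + 1) + 1 from rfl, binom_sub_one u (k + 1), ← mul_assoc, ← mul_pow]
  simp

theorem hΔ (P : PosStructure K) (hK : HasSplitting K P) : HΔ P := by
  intro x k
  obtain ⟨e, f, he, hf, rfl⟩ := P.exists_sub x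
  have e1 : (e - f) - ((P.aug (e - f) : ℤ) : K) = (e - (P.aug e : K)) - (f - (P.aug f : K)) := by
    rw [map_sub]; push_cast; ring
  show (-1) ^ k * DD k ((e - f) - ((P.aug (e - f) : ℤ) : K)) = _
  rw [e1, DD_sub, mul_sub, HΔ_pos P hK e he k, HΔ_pos P hK f hf k, ← Finset.sum_sub_distrib]
  refine Finset.sum_congr rfl fun l _ => ?_
  rw [adams_sub, mul_sub]

end Groth.Agent.Lib.Helper20.KGrDelta
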