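import Mathlib
import Groth.Prelude.Def_KGr
import Groth.Agent.Lib.Helper20.KGrTheta
import Groth.Agent.Lib.Helper20.KGrDelta

/-!
# Construction of the eigenspace projections on `ℚ ⊗ K`
-/

set_option autoImplicit false
universe v
open LambdaRing LambdaRing.LambdaOps TensorProduct

namespace Groth.Agent.Lib.Helper20.KGrEigen

open Groth.Agent.Lib.Helper20.LamFil Groth.Agent.Lib.Helper20.LamDet Groth.Agent.Lib.Helper20.LamPsiGr
  Groth.Agent.Lib.Helper20.LamAdams Groth.Agent.Lib.Helper20.KGrLD Groth.Agent.Lib.Helper20.KGrTheta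
  Groth.Agent.Lib.Helper20.LamSplit Groth.Agent.Lib.Helper20.LamRat Groth.Agent.Lib.Helper20.KGrTensor

variable {K : Type v} [CommRing K] [LambdaOps K] (P : PosStructure K) (hK : HasSplitting K P)

/-- `Ψ_l` on `ℚ ⊗ K` -/
noncomputable def PsiA (l : ℕ) : (ℚ ⊗[ℤ] K) →ₐ[ℚ] (ℚ ⊗[ℤ] K) :=
  Algebra.TensorProduct.map (AlgHom.id ℚ ℚ) (adamsHom P hK l).toIntAlgHom

theorem PsiA_tmul (l : ℕ) (q : ℚ) (x : K) : PsiA P hK l (q ⊗ₜ[ℤ] x) = q ⊗ₜ[ℤ] adams P l x := by
  unfold PsiA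
  rw [Algebra.TensorProduct.map_tmul]
  rfl

/-- `Ψ_l` as a linear map -/
noncomputable def PsiL (l : ℕ) : (ℚ ⊗[ℤ] K) →ₗ[ℚ] (ℚ ⊗[ℤ] K) := (PsiA P hK l).toLinearMap

theorem PsiL_one_tmul (l : ℕ) (x : K) : PsiL P hK l ((1 : ℚ) ⊗ₜ[ℤ] x) = (1 : ℚ) ⊗ₜ[ℤ] adams P l x :=
  PsiA_tmul P hK l 1 x

theorem PsiL_mul (l : ℕ) (u w : ℚ ⊗[ℤ] K) : PsiL P hK l (u * w) = PsiL P hK l u * PsiL P hK l w :=
  map_mul (PsiA P hK l) u w

theorem PsiL_one (l : ℕ) : PsiL P hK l 1 = 1 := map_one (PsiA P hK l)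

/-- the eigenspaces of `Ψ_2` -/
noncomputable def VV (m : ℕ) : Submodule ℚ (ℚ ⊗[ℤ] K) :=
  Module.End.eigenspace (PsiL P hK 2) (((2 : ℕ) : ℚ) ^ m)

theorem mem_VV (m : ℕ) (v : ℚ ⊗[ℤ] K) : v ∈ VV P hK m ↔ PsiL P hK 2 v = (((2 : ℕ) : ℚ) ^ m) • v :=
  Module.End.mem_eigenspace_iff

theorem VV_le_QF (m : ℕ) : VV P hK m ≤ QF P m :=
  eigenspace_le_QF P hK 2 (PsiL P hK 2) (PsiL_one_tmul P hK 2) le_rfl m

theorem VV_mul (a b : ℕ) (u w : ℚ ⊗[ℤ] K) (hu : u ∈ VV P hK a) (hw : w ∈ VV P hK b) :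
    u * w ∈ VV P hK (a + b) := by
  rw [mem_VV] at hu hw ⊢
  rw [PsiL_mul, hu, hw, smul_mul_smul_comm, pow_add]

theorem one_mem_VV : (1 : ℚ ⊗[ℤ] K) ∈ VV P hK 0 := by
  rw [mem_VV, PsiL_one, pow_zero, one_smul]

theorem VV_adams (l m : ℕ) (d : ℕ) (hd : gammaFiltration P (d + 1) = ⊥) (v : ℚ ⊗[ℤ] K)
    (hv : v ∈ VV P hK m) : PsiL P hK l v = ((l : ℚ) ^ m) • v := by
  have := eigenspace_le_eigenspace P hK d hd 2 l le_rfl (PsiL P hK 2) (PsiL P hK l) (PsiL_one_tmul P hK 2)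
    (PsiL_one_tmul P hK l) m hv
  rwa [Module.End.mem_eigenspace_iff] at this

variable (d : ℕ) (hd : gammaFiltration P (d + 1) = ⊥)

include hd in
theorem QF_le_iSup' (k : ℕ) : ∀ m : ℕ, d + 1 ≤ m + k →
    QF P m ≤ ⨆ i ∈ Finset.Ico m (d + 1), VV P hK i := by
  induction k with
  | zero =>
    intro m hm
    rw [QF_eq_bot P d hd m (by omega)]
    exact bot_le
  | succ k ih =>
    intro m hm
    by_cases hmd : d + 1 ≤ m
    · rw [QF_eq_bot P d hd m hmd]
      exact bot_le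
    · push Not at hmd
      rw [← eigenspace_sup P hK 2 (PsiL P hK 2) (PsiL_one_tmul P hK 2) le_rfl d hd m]
      refine sup_le ?_ ((ih (m + 1) (by omega)).trans ?_)
      · exact le_biSup (fun i => VV P hK i) (Finset.mem_Ico.mpr ⟨le_rfl, hmd⟩)
      · refine iSup₂_le fun i hi => ?_
        have := Finset.mem_Ico.mp hi
        exact le_biSup (fun i => VV P hK i) (Finset.mem_Ico.mpr ⟨by omega, this.2⟩)

include hd in
theorem QF_le_iSup_Ico (m : ℕ) : QF P m ≤ ⨆ i ∈ Finset.Ico m (d + 1), VV P hK i :=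
  QF_le_iSup' P hK d hd (d + 1) m (by omega)

/-- the Lagrange polynomials -/
noncomputable def Lm (m : ℕ) : Polynomial ℚ :=
  Lagrange.basis (Finset.range (d + 1)) (fun n : ℕ => ((2 : ℕ) : ℚ) ^ n) m

theorem injOn_pow : Set.InjOn (fun n : ℕ => ((2 : ℕ) : ℚ) ^ n) (Finset.range (d + 1) : Set ℕ) := by
  intro a _ b _ h
  simp only at h
  have h2 : (2 : ℕ) ^ a = 2 ^ b := by exact_mod_cast h
  exact Nat.pow_right_injective le_rfl h2

theorem eval_Lm_self (m : ℕ) (hm : m ≤ d) : (Lm d m).eval (((2 : ℕ) : ℚ) ^ m) = 1 :=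
  Lagrange.eval_basis_self (v := fun n : ℕ => ((2 : ℕ) : ℚ) ^ n) (injOn_pow d)
    (Finset.mem_range.mpr (by omega))

theorem eval_Lm_ne (m n : ℕ) (hmn : m ≠ n) (hn : n ≤ d) : (Lm d m).eval (((2 : ℕ) : ℚ) ^ n) = 0 :=
  Lagrange.eval_basis_of_ne (v := fun n : ℕ => ((2 : ℕ) : ℚ) ^ n) hmn (Finset.mem_range.mpr (by omega))

/-- the projections -/
noncomputable def proj (m : ℕ) : (ℚ ⊗[ℤ] K) →ₗ[ℚ] (ℚ ⊗[ℤ] K) :=
  if m ≤ d then Polynomial.aeval (PsiL P hK 2) (Lm d m) else 0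

theorem proj_of_mem_VV (n : ℕ) (hn : n ≤ d) (w : ℚ ⊗[ℤ] K) (hw : w ∈ VV P hK n) (m : ℕ) :
    proj P hK d m w = if m = n then w else 0 := by
  unfold proj
  rw [mem_VV] at hw
  by_cases hm : m ≤ d
  · rw [if_pos hm, Module.End.aeval_apply_of_mem_apply_eq_smul hw]
    split_ifs with hmn
    · rw [hmn, eval_Lm_self d n hn, one_smul]
    · rw [eval_Lm_ne d m n hmn hn, zero_smul]
  · rw [if_neg hm, if_neg (by omega)]
    rfl

include hd in
theorem iSup_VV_eq_top : (⨆ i ∈ Finset.range (d + 1), VV P hK i) = ⊤ :=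
  iSup_eigenspace_eq_top P hK 2 (PsiL P hK 2) (PsiL_one_tmul P hK 2) le_rfl d hd

include hd in
/-- induction principle: a submodule containing all `V(i)`, `i ≤ d`, is everything -/
theorem mem_of_forall_VV (S : Submodule ℚ (ℚ ⊗[ℤ] K)) (h : ∀ i ≤ d, VV P hK i ≤ S) (v : ℚ ⊗[ℤ] K) :
    v ∈ S := by
  have h1 : (⨆ i ∈ Finset.range (d + 1), VV P hK i) ≤ S :=
    iSup₂_le fun i hi => h i (by have := Finset.mem_range.mp hi; omega)
  rw [iSup_VV_eq_top P hK d hd] at h1
  exact h1 trivial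

include hd in
theorem sum_proj (v : ℚ ⊗[ℤ] K) : ∑ n ∈ Finset.range (d + 1), proj P hK d n v = v := by
  have := mem_of_forall_VV P hK d hd
    (LinearMap.eqLocus (∑ n ∈ Finset.range (d + 1), proj P hK d n) LinearMap.id) ?_ v
  · rw [LinearMap.mem_eqLocus, LinearMap.sum_apply] at this
    exact this
  · intro i hi w hw
    rw [LinearMap.mem_eqLocus, LinearMap.sum_apply, LinearMap.id_apply]
    rw [Finset.sum_congr rfl fun n _ => proj_of_mem_VV P hK d i hi w hw n]
    rw [Finset.sum_ite_eq' (Finset.range (d + 1)) i (fun _ => w), if_pos (Finset.mem_range.mpr (by omega))]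

include hd in
theorem proj_mem_VV (n : ℕ) (v : ℚ ⊗[ℤ] K) : proj P hK d n v ∈ VV P hK n := by
  have := mem_of_forall_VV P hK d hd ((VV P hK n).comap (proj P hK d n)) ?_ v
  · exact this
  · intro i hi w hw
    rw [Submodule.mem_comap, proj_of_mem_VV P hK d i hi w hw n]
    split_ifs with h
    · rw [h]; exact hw
    · exact zero_mem _

include hd in
theorem proj_proj (m n : ℕ) (v : ℚ ⊗[ℤ] K) :
    proj P hK d m (proj P hK d n v) = if m = n then proj P hK d n v else 0 := by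
  by_cases hn : n ≤ d
  · exact proj_of_mem_VV P hK d n hn _ (proj_mem_VV P hK d hd n v) m
  · have : proj P hK d n = 0 := by unfold proj; rw [if_neg hn]
    rw [this]
    simp

include hd in
theorem proj_of_lt (i : ℕ) (u : ℚ ⊗[ℤ] K) (hu : u ∈ QF P i) (m : ℕ) (hm : m < i) : proj P hK d m u = 0 := by
  have h1 := QF_le_iSup_Ico P hK d hd i hu
  have h2 : (⨆ n ∈ Finset.Ico i (d + 1), VV P hK n) ≤ LinearMap.ker (proj P hK d m) := by
    refine iSup₂_le fun n hn w hw => ?_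
    have := Finset.mem_Ico.mp hn
    rw [LinearMap.mem_ker, proj_of_mem_VV P hK d n (by omega) w hw m, if_neg (by omega)]
  exact h2 h1

include hd in
theorem VV_eq_bot (n : ℕ) (hn : d < n) : VV P hK n = ⊥ := by
  rw [eq_bot_iff]
  exact (VV_le_QF P hK n).trans (QF_eq_bot P d hd n (by omega)).le

include hd in
theorem proj_mul_of_mem (i j a b : ℕ) (hia : i ≤ a) (hjb : j ≤ b) (ha : a ≤ d) (hb : b ≤ d)
    (u w : ℚ ⊗[ℤ] K) (hu : u ∈ VV P hK a) (hw : w ∈ VV P hK b) :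
    proj P hK d (i + j) (u * w) = proj P hK d i u * proj P hK d j w := by
  have huw := VV_mul P hK a b u w hu hw
  rw [proj_of_mem_VV P hK d a ha u hu i, proj_of_mem_VV P hK d b hb w hw j]
  by_cases hab : a + b ≤ d
  · rw [proj_of_mem_VV P hK d (a + b) hab _ huw (i + j)]
    by_cases h1 : i = a
    · by_cases h2 : j = b
      · rw [if_pos (by omega), if_pos h1, if_pos h2]
      · rw [if_neg (by omega), if_neg h2, mul_zero]
    · rw [if_neg (by omega), if_neg h1, zero_mul]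
  · have h0 : u * w = 0 := by
      rw [VV_eq_bot P hK d hd (a + b) (by omega), Submodule.mem_bot] at huw
      exact huw
    rw [h0, map_zero]
    split_ifs
    · exact h0.symm
    · rw [mul_zero]
    · rw [zero_mul]
    · rw [zero_mul]

include hd in
theorem proj_mul (i j : ℕ) (u w : ℚ ⊗[ℤ] K) (hu : u ∈ QF P i) (hw : w ∈ QF P j) :
    proj P hK d (i + j) (u * w) = proj P hK d i u * proj P hK d j w := by
  have h1 := QF_le_iSup_Ico P hK d hd i hu
  have h2 := QF_le_iSup_Ico P hK d hd j hw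
  -- fix `u ∈ V(a)`, vary `w`
  have step1 : ∀ a, i ≤ a → a ≤ d → ∀ u ∈ VV P hK a,
      proj P hK d (i + j) (u * w) = proj P hK d i u * proj P hK d j w := by
    intro a hia ha u hu
    have h3 : (⨆ n ∈ Finset.Ico j (d + 1), VV P hK n) ≤
        LinearMap.eqLocus ((proj P hK d (i + j)).comp (LinearMap.mulLeft ℚ u))
          ((LinearMap.mulLeft ℚ (proj P hK d i u)).comp (proj P hK d j)) := by
      refine iSup₂_le fun b hb w hw => ?_
      have := Finset.mem_Ico.mp hb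
      rw [LinearMap.mem_eqLocus]
      simp only [LinearMap.comp_apply, LinearMap.mulLeft_apply]
      exact proj_mul_of_mem P hK d hd i j a b hia this.1 ha (by omega) u w hu hw
    have h4 := h3 h2
    rw [LinearMap.mem_eqLocus] at h4
    simpa only [LinearMap.comp_apply, LinearMap.mulLeft_apply] using h4
  have h5 : (⨆ n ∈ Finset.Ico i (d + 1), VV P hK n) ≤
      LinearMap.eqLocus ((proj P hK d (i + j)).comp (LinearMap.mulRight ℚ w))
        ((LinearMap.mulRight ℚ (proj P hK d j w)).comp (proj P hK d i)) := by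
    refine iSup₂_le fun a ha u hu => ?_
    have := Finset.mem_Ico.mp ha
    rw [LinearMap.mem_eqLocus]
    simp only [LinearMap.comp_apply, LinearMap.mulRight_apply]
    exact step1 a this.1 (by omega) u hu
  have h6 := h5 h1
  rw [LinearMap.mem_eqLocus] at h6
  simpa only [LinearMap.comp_apply, LinearMap.mulRight_apply] using h6

include hd in
theorem proj_one : proj P hK d 0 1 = 1 := by
  rw [proj_of_mem_VV P hK d 0 (Nat.zero_le d) 1 (one_mem_VV P hK) 0, if_pos rfl]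

include hd in
theorem proj_PsiL (l k : ℕ) (v : ℚ ⊗[ℤ] K) :
    proj P hK d k (PsiL P hK l v) = ((l : ℚ) ^ k) • proj P hK d k v := by
  have := mem_of_forall_VV P hK d hd
    (LinearMap.eqLocus ((proj P hK d k).comp (PsiL P hK l)) (((l : ℚ) ^ k) • proj P hK d k)) ?_ v
  · rw [LinearMap.mem_eqLocus] at this
    simpa only [LinearMap.comp_apply, LinearMap.smul_apply] using this
  · intro n hn w hw
    rw [LinearMap.mem_eqLocus]
    simp only [LinearMap.comp_apply, LinearMap.smul_apply]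
    rw [VV_adams P hK l n d hd w hw, map_smul, proj_of_mem_VV P hK d n hn w hw k]
    split_ifs with h
    · rw [h]
    · rw [smul_zero, smul_zero]

/-- the eigenspace data -/
noncomputable def eigenData : EigenData P d where
  π := proj P hK d
  sum_π := sum_proj P hK d hd
  π_π := proj_proj P hK d hd
  π_mul := fun i j u w hu hw => proj_mul P hK d hd i j u w hu hw
  π_of_lt := proj_of_lt P hK d hd
  π_mem := fun n v => VV_le_QF P hK n (proj_mem_VV P hK d hd n v)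
  π_one := proj_one P hK d hd
  π_adams := fun l k x => by
    rw [← PsiL_one_tmul P hK l x]
    exact proj_PsiL P hK d hd l k _

end Groth.Agent.Lib.Helper20.KGrEigen
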