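import Mathlib
import Groth.Prelude.Def_KGr
import Groth.Agent.Lib.Helper20.KGrEigen

/-!
# The ring isomorphism `Θ : ℚGr K ≃ ℚ ⊗ K` inverse to the Chern character
-/

set_option autoImplicit false
universe v
open LambdaRing LambdaRing.LambdaOps TensorProduct

namespace Groth.Agent.Lib.Helper20.KGrMain

open Groth.Agent.Lib.Helper20.KGrTheta Groth.Agent.Lib.Helper20.KGrEigen Groth.Agent.Lib.Helper20.KGrDelta

variable {K : Type v} [CommRing K] [LambdaOps K]

/-- For a λ-ring with positive structure having the splitting property and `F^{d+1} = 0`, there is a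
bijective `ℚ`-algebra homomorphism `Θ : ℚGr K → ℚ ⊗ K` with `Θ (ch x) = 1 ⊗ x`. -/
theorem exists_theta (P : PosStructure K) (hK : HasSplitting K P) (d : ℕ)
    (hd : gammaFiltration P (d + 1) = ⊥) :
    ∃ Θ : KGr.Gr P →ₐ[ℚ] ℚ ⊗[ℤ] K, Function.Bijective Θ ∧
      ∀ x : K, Θ (KGr.chK P d x) = (1 : ℚ) ⊗ₜ[ℤ] x :=
  ⟨theta (eigenData P hK d hd) hd,
    ⟨theta_injective (eigenData P hK d hd) hd, theta_surjective (eigenData P hK d hd) hd⟩,
    theta_chK (eigenData P hK d hd) hd (hΔ P hK)⟩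

end Groth.Agent.Lib.Helper20.KGrMain
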