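import Mathlib
import Groth.Prelude.Def_Grpd
import Groth.Agent.Lib.Helper25.GrpdAlg
import Groth.Agent.Lib.Helper25.GrpdTrans
import Groth.Agent.Lib.Helper20.HA11
import Groth.Agent.S1878

/-!
# KM1: orbits of `K`-points for an étale cartesian morphism of finite flat groupoids

For a morphism of groupoid schemes `f : G' ⟶ G` whose `s`-square is cartesian and whose square of
stabilizers is cartesian, an arrow of `G'` whose source and target have the same image in `G.U` is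
an automorphism (`stab_inj`).  For `K` algebraically closed, the `G'`-orbit of a `K`-point `x'` of
`G'.U` maps bijectively onto the fibre of `G.U → M` through `f x'`; this gives an "equivariant
section through `x'`" on `K`-points (`exists_orbit_section`).
-/

set_option autoImplicit false
set_option linter.style.haveILetI false
set_option linter.unusedSectionVars false
universe u
open CategoryTheory CategoryTheory.Limits AlgebraicGeometry

namespace Groth.Agent.Lib.Helper20.KM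

open Grpd Groth.Agent.Lib.Helper25.GrpdAlg

variable {S : Scheme.{u}} {G' G : GroupoidScheme S} (f : GroupoidScheme.Hom G' G)

theorem j_fst (G : GroupoidScheme S) : G.j ≫ pullback.fst G.pU G.pU = G.t := pullback.lift_fst _ _ _
theorem j_snd (G : GroupoidScheme S) : G.j ≫ pullback.snd G.pU G.pU = G.s := pullback.lift_snd _ _ _
theorem diag_fst (G : GroupoidScheme S) : G.diag ≫ pullback.fst G.pU G.pU = 𝟙 _ :=
  pullback.lift_fst _ _ _
theorem diag_snd (G : GroupoidScheme S) : G.diag ≫ pullback.snd G.pU G.pU = 𝟙 _ :=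
  pullback.lift_snd _ _ _

/-- the arrow underlying a point of the stabilizer. -/
noncomputable def stabFst (G : GroupoidScheme S) : G.stabilizer ⟶ G.R := pullback.fst G.j G.diag

/-- the arrow underlying a point of the stabilizer has source and target the structure point. -/
theorem stab_fst_t (G : GroupoidScheme S) :
    stabFst G ≫ G.t = G.stabilizerToU := by
  unfold stabFst
  have h := pullback.condition (f := G.j) (g := G.diag)
  have h1 := congrArg (fun φ => φ ≫ pullback.fst G.pU G.pU) h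
  simp only [Category.assoc, j_fst, diag_fst, Category.comp_id] at h1
  exact h1

theorem stab_fst_s (G : GroupoidScheme S) :
    stabFst G ≫ G.s = G.stabilizerToU := by
  unfold stabFst
  have h := pullback.condition (f := G.j) (g := G.diag)
  have h1 := congrArg (fun φ => φ ≫ pullback.snd G.pU G.pU) h
  simp only [Category.assoc, j_snd, diag_snd, Category.comp_id] at h1
  exact h1

/-- a `T`-point of the stabilizer from an arrow with equal source and target. -/
noncomputable def stabPt (G : GroupoidScheme S) {T : Scheme.{u}} (γ : T ⟶ G.R) (a : T ⟶ G.U)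
    (hs : γ ≫ G.s = a) (ht : γ ≫ G.t = a) : T ⟶ G.stabilizer :=
  pullback.lift γ a (by
    apply pullback.hom_ext
    · rw [Category.assoc, j_fst, Category.assoc, diag_fst, Category.comp_id, ht]
    · rw [Category.assoc, j_snd, Category.assoc, diag_snd, Category.comp_id, hs])

theorem stabPt_fst (G : GroupoidScheme S) {T : Scheme.{u}} (γ : T ⟶ G.R) (a : T ⟶ G.U)
    (hs : γ ≫ G.s = a) (ht : γ ≫ G.t = a) :
    stabPt G γ a hs ht ≫ stabFst G = γ := pullback.lift_fst _ _ _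

theorem stabPt_toU (G : GroupoidScheme S) {T : Scheme.{u}} (γ : T ⟶ G.R) (a : T ⟶ G.U)
    (hs : γ ≫ G.s = a) (ht : γ ≫ G.t = a) :
    stabPt G γ a hs ht ≫ G.stabilizerToU = a := pullback.lift_snd _ _ _

include f in
/-- An arrow of `G'` whose source and target have the same image in `G.U` is an automorphism. -/
theorem stab_inj (hs : IsPullback f.fR G'.s G.s f.fU)
    (hstab : ∃ g : G'.stabilizer ⟶ G.stabilizer,
      g ≫ pullback.fst G.j G.diag = pullback.fst G'.j G'.diag ≫ f.fR ∧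
        IsPullback g G'.stabilizerToU G.stabilizerToU f.fU)
    {T : Scheme.{u}} (γ' : T ⟶ G'.R) (h : (γ' ≫ G'.s) ≫ f.fU = (γ' ≫ G'.t) ≫ f.fU) :
    γ' ≫ G'.s = γ' ≫ G'.t := by
  obtain ⟨g, hg1, hg2⟩ := hstab
  replace hg1 : g ≫ stabFst G = stabFst G' ≫ f.fR := hg1
  set a : T ⟶ G.U := (γ' ≫ G'.s) ≫ f.fU with ha
  have h1 : (γ' ≫ f.fR) ≫ G.s = a := by
    rw [Category.assoc, f.comm_s, ← Category.assoc]
  have h2 : (γ' ≫ f.fR) ≫ G.t = a := by
    rw [Category.assoc, f.comm_t, ← Category.assoc, ← h]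
  let p : T ⟶ G.stabilizer := stabPt G (γ' ≫ f.fR) a h1 h2
  let g' : T ⟶ G'.stabilizer := hg2.lift p (γ' ≫ G'.s) (by rw [stabPt_toU])
  have hg'1 : g' ≫ g = p := hg2.lift_fst _ _ _
  have hg'2 : g' ≫ G'.stabilizerToU = γ' ≫ G'.s := hg2.lift_snd _ _ _
  set γ'' : T ⟶ G'.R := g' ≫ stabFst G' with hγ''
  have e1 : γ'' ≫ f.fR = γ' ≫ f.fR := by
    rw [hγ'', Category.assoc, ← hg1, ← Category.assoc, hg'1, stabPt_fst]
  have e2 : γ'' ≫ G'.s = γ' ≫ G'.s := by
    rw [hγ'', Category.assoc, stab_fst_s, hg'2]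
  have e3 : γ'' ≫ G'.t = γ' ≫ G'.s := by
    rw [hγ'', Category.assoc, stab_fst_t, hg'2]
  have e4 : γ'' = γ' := hs.hom_ext e1 e2
  rw [← e3, e4]

section orbit

variable [IsAffine G.U] [IsAffine G.R] [IsFinite G.s] [Flat G.s] [LocallyOfFinitePresentation G.s]
  [IsFinite G.t] [Flat G.t] [LocallyOfFinitePresentation G.t]

/-- the `G'`-orbit relation on `T`-points of `G'.U`. -/
def Orb {T : Scheme.{u}} (x' y : T ⟶ G'.U) : Prop :=
  ∃ r' : T ⟶ G'.R, r' ≫ G'.s = x' ∧ r' ≫ G'.t = y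

theorem Orb.refl {T : Scheme.{u}} (x' : T ⟶ G'.U) : Orb (G' := G') x' x' :=
  ⟨x' ≫ G'.e, by rw [Category.assoc, G'.e_s, Category.comp_id],
    by rw [Category.assoc, G'.e_t, Category.comp_id]⟩

theorem Orb.trans {T : Scheme.{u}} {x' y : T ⟶ G'.U} (h1 : Orb (G' := G') x' y)
    (r'' : T ⟶ G'.R) (hs : r'' ≫ G'.s = y) : Orb (G' := G') x' (r'' ≫ G'.t) := by
  obtain ⟨r', hr1, hr2⟩ := h1
  refine ⟨comp G' r'' r' (by rw [hs, hr2]), ?_, ?_⟩
  · rw [comp_s, hr1]
  · rw [comp_t]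

include f in
theorem Orb.inj (hs : IsPullback f.fR G'.s G.s f.fU)
    (hstab : ∃ g : G'.stabilizer ⟶ G.stabilizer,
      g ≫ pullback.fst G.j G.diag = pullback.fst G'.j G'.diag ≫ f.fR ∧
        IsPullback g G'.stabilizerToU G.stabilizerToU f.fU)
    {T : Scheme.{u}} {x' y₁ y₂ : T ⟶ G'.U} (h1 : Orb (G' := G') x' y₁)
    (h2 : Orb (G' := G') x' y₂) (h : y₁ ≫ f.fU = y₂ ≫ f.fU) : y₁ = y₂ := by
  obtain ⟨r₁, hr1s, hr1t⟩ := h1
  obtain ⟨r₂, hr2s, hr2t⟩ := h2
  -- γ' = r₁ ∘ r₂⁻¹ : y₂ → y₁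
  have hc : r₁ ≫ G'.s = (r₂ ≫ G'.i) ≫ G'.t := by
    rw [Category.assoc, G'.i_t, hr1s, hr2s]
  have hi : (r₂ ≫ G'.i) ≫ G'.s = y₂ := by rw [Category.assoc, G'.i_s, hr2t]
  have := stab_inj f hs hstab (comp G' r₁ (r₂ ≫ G'.i) hc) (by
    rw [comp_s, comp_t, hi, hr1t, h])
  rw [comp_s, comp_t, hi, hr1t] at this
  exact this.symm

include f in
/-- the equivariant section on `K`-points through a given `K`-point `x'` of `G'.U`. -/
theorem exists_orbit_section (hs : IsPullback f.fR G'.s G.s f.fU)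
    (hstab : ∃ g : G'.stabilizer ⟶ G.stabilizer,
      g ≫ pullback.fst G.j G.diag = pullback.fst G'.j G'.diag ≫ f.fR ∧
        IsPullback g G'.stabilizerToU G.stabilizerToU f.fU)
    (K : Type u) [Field K] [IsAlgClosed K] (x' : Spec (CommRingCat.of K) ⟶ G'.U) :
    ∃ Φ : (Spec (CommRingCat.of K) ⟶ G.U) → (Spec (CommRingCat.of K) ⟶ G'.U),
      Φ (x' ≫ f.fU) = x' ∧
      (∀ a, a ≫ G.toQuot = (x' ≫ f.fU) ≫ G.toQuot → Φ a ≫ f.fU = a) ∧
      ∀ r'' : Spec (CommRingCat.of K) ⟶ G'.R,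
        ((r'' ≫ f.fR) ≫ G.s) ≫ G.toQuot = (x' ≫ f.fU) ≫ G.toQuot →
        r'' ≫ G'.s = Φ ((r'' ≫ f.fR) ≫ G.s) → r'' ≫ G'.t = Φ ((r'' ≫ f.fR) ≫ G.t) := by
  classical
  have key : ∀ a : Spec (CommRingCat.of K) ⟶ G.U, a ≫ G.toQuot = (x' ≫ f.fU) ≫ G.toQuot →
      ∃ y : Spec (CommRingCat.of K) ⟶ G'.U, Orb (G' := G') x' y ∧ y ≫ f.fU = a := by
    intro a ha
    obtain ⟨r, hrt, hrs⟩ := (((Groth.Agent.S1878.result S G).2 K).2 a (x' ≫ f.fU)).mp ha
    let r' := hs.lift r x' hrs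
    have hr'1 : r' ≫ f.fR = r := hs.lift_fst _ _ _
    have hr'2 : r' ≫ G'.s = x' := hs.lift_snd _ _ _
    refine ⟨r' ≫ G'.t, ⟨r', hr'2, rfl⟩, ?_⟩
    rw [Category.assoc, ← f.comm_t, ← Category.assoc, hr'1, hrt]
  let Φ : (Spec (CommRingCat.of K) ⟶ G.U) → (Spec (CommRingCat.of K) ⟶ G'.U) := fun a =>
    if ha : a ≫ G.toQuot = (x' ≫ f.fU) ≫ G.toQuot then (key a ha).choose else x'
  have hΦ : ∀ a (ha : a ≫ G.toQuot = (x' ≫ f.fU) ≫ G.toQuot),
      Orb (G' := G') x' (Φ a) ∧ Φ a ≫ f.fU = a := by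
    intro a ha
    have : Φ a = (key a ha).choose := dif_pos ha
    rw [this]
    exact (key a ha).choose_spec
  clear_value Φ
  refine ⟨Φ, ?_, fun a ha => (hΦ a ha).2, ?_⟩
  · have h0 := hΦ (x' ≫ f.fU) rfl
    exact Orb.inj f hs hstab h0.1 (Orb.refl x') h0.2
  · intro r'' hfib hsrc
    have h1 := hΦ _ hfib
    have hfib2 : ((r'' ≫ f.fR) ≫ G.t) ≫ G.toQuot = (x' ≫ f.fU) ≫ G.toQuot := by
      rw [← hfib, Category.assoc, Category.assoc, Groth.Agent.Lib.Helper20.HA.t_toQuot,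
        Category.assoc, Category.assoc]
    have h2 := hΦ _ hfib2
    have h3 : Orb (G' := G') x' (r'' ≫ G'.t) := Orb.trans h1.1 r'' hsrc
    refine Orb.inj f hs hstab h3 h2.1 ?_
    rw [h2.2, Category.assoc, ← f.comm_t, Category.assoc]

end orbit

end Groth.Agent.Lib.Helper20.KM
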