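import Mathlib
import Groth.Agent.Lib.Helper20.KM1

/-!
# KM2: `K`-points of affine schemes as ring homomorphisms; ring-level form of KM1
-/

set_option autoImplicit false
set_option linter.style.haveILetI false
set_option linter.unusedSectionVars false
universe u
open CategoryTheory CategoryTheory.Limits AlgebraicGeometry

namespace Groth.Agent.Lib.Helper20.KM

open Grpd

section pts

variable {K : Type u} [CommRing K]

/-- the ring homomorphism of a `K`-point. -/
noncomputable def ofPt {X : Scheme.{u}} (x : Spec (CommRingCat.of K) ⟶ X) : Γ(X, ⊤) →+* K :=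
  (Scheme.ΓSpecIso (CommRingCat.of K)).hom.hom.comp x.appTop.hom

/-- the `K`-point of an affine scheme given by a ring homomorphism. -/
noncomputable def toPt (X : Scheme.{u}) [IsAffine X] (φ : Γ(X, ⊤) →+* K) :
    Spec (CommRingCat.of K) ⟶ X :=
  Spec.map (CommRingCat.ofHom φ) ≫ X.isoSpec.inv

theorem ofPt_comp {X Y : Scheme.{u}} (x : Spec (CommRingCat.of K) ⟶ X) (g : X ⟶ Y) :
    ofPt (x ≫ g) = (ofPt x).comp g.appTop.hom := by
  unfold ofPt
  rw [Scheme.Hom.comp_appTop, CommRingCat.hom_comp, RingHom.comp_assoc]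

theorem ofPt_injective {X : Scheme.{u}} [IsAffine X] {x y : Spec (CommRingCat.of K) ⟶ X}
    (h : ofPt x = ofPt y) : x = y := by
  apply ext_of_isAffine
  apply CommRingCat.hom_ext
  unfold ofPt at h
  have hinj : Function.Injective (Scheme.ΓSpecIso (CommRingCat.of K)).hom.hom :=
    (ConcreteCategory.bijective_of_isIso (Scheme.ΓSpecIso (CommRingCat.of K)).hom).1
  ext a
  apply hinj
  exact congrArg (fun φ => φ a) h

theorem ofPt_toPt (X : Scheme.{u}) [IsAffine X] (φ : Γ(X, ⊤) →+* K) : ofPt (toPt X φ) = φ := by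
  unfold ofPt toPt
  have h1 : X.isoSpec.inv.appTop = (Scheme.ΓSpecIso Γ(X, ⊤)).inv := by
    have h2 : X.isoSpec.hom.appTop = (Scheme.ΓSpecIso Γ(X, ⊤)).hom := Scheme.toSpecΓ_appTop X
    have h3 : X.isoSpec.inv.appTop ≫ X.isoSpec.hom.appTop = 𝟙 _ := by
      rw [← Scheme.Hom.comp_appTop, Iso.hom_inv_id, Scheme.Hom.id_appTop]
    rw [h2] at h3
    rw [← Category.comp_id (X.isoSpec.inv.appTop), ← Iso.hom_inv_id (Scheme.ΓSpecIso Γ(X, ⊤)),
      ← Category.assoc, h3, Category.id_comp]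
  have h4 : (Spec.map (CommRingCat.ofHom φ)).appTop ≫ (Scheme.ΓSpecIso (CommRingCat.of K)).hom =
      (Scheme.ΓSpecIso Γ(X, ⊤)).hom ≫ CommRingCat.ofHom φ :=
    Scheme.ΓSpecIso_naturality (CommRingCat.ofHom φ)
  have h5 : (Spec.map (CommRingCat.ofHom φ) ≫ X.isoSpec.inv).appTop ≫
      (Scheme.ΓSpecIso (CommRingCat.of K)).hom = CommRingCat.ofHom φ := by
    rw [Scheme.Hom.comp_appTop, Category.assoc, h4, h1, Iso.inv_hom_id_assoc]
  have h6 := congrArg CommRingCat.Hom.hom h5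
  rw [CommRingCat.hom_comp] at h6
  exact h6

theorem toPt_ofPt {X : Scheme.{u}} [IsAffine X] (x : Spec (CommRingCat.of K) ⟶ X) :
    toPt X (ofPt x) = x :=
  ofPt_injective (ofPt_toPt X _)

theorem toPt_comp {X Y : Scheme.{u}} [IsAffine X] [IsAffine Y] (φ : Γ(X, ⊤) →+* K) (g : X ⟶ Y) :
    toPt X φ ≫ g = toPt Y (φ.comp g.appTop.hom) := by
  apply ofPt_injective
  rw [ofPt_comp, ofPt_toPt, ofPt_toPt]

theorem pt_toQuot {S : Scheme.{u}} (G : GroupoidScheme S) (x : Spec (CommRingCat.of K) ⟶ G.U) :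
    x ≫ G.toQuot = Spec.map (CommRingCat.ofHom ((ofPt x).comp G.invariants.subtype)) := by
  unfold GroupoidScheme.toQuot ofPt
  rw [← Category.assoc, Scheme.toSpecΓ_naturality, Category.assoc, ← SpecMap_ΓSpecIso_hom,
    ← Spec.map_comp, ← Spec.map_comp]
  rfl

theorem pt_toQuot_eq_iff {S : Scheme.{u}} (G : GroupoidScheme S)
    (x y : Spec (CommRingCat.of K) ⟶ G.U) :
    x ≫ G.toQuot = y ≫ G.toQuot ↔
      (ofPt x).comp G.invariants.subtype = (ofPt y).comp G.invariants.subtype := by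
  rw [pt_toQuot, pt_toQuot]
  constructor
  · intro h
    have := Spec.map_injective h
    exact congrArg CommRingCat.Hom.hom this
  · intro h
    rw [h]

end pts

section ring

variable {S : Scheme.{u}} {G' G : GroupoidScheme S} (f : GroupoidScheme.Hom G' G)
  [IsAffine G.U] [IsAffine G.R] [IsFinite G.s] [Flat G.s] [LocallyOfFinitePresentation G.s]
  [IsFinite G.t] [Flat G.t] [LocallyOfFinitePresentation G.t]

omit f in
/-- two `K`-points of `U` with the same restriction to the invariants are connected by an arrow. -/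
theorem exists_ring_arrow (K : Type u) [Field K] [IsAlgClosed K]
    (a₁ a₂ : Γ(G.U, ⊤) →+* K)
    (h : a₁.comp G.invariants.subtype = a₂.comp G.invariants.subtype) :
    ∃ b : Γ(G.R, ⊤) →+* K, b.comp G.t.appTop.hom = a₁ ∧ b.comp G.s.appTop.hom = a₂ := by
  have h1 : toPt G.U a₁ ≫ G.toQuot = toPt G.U a₂ ≫ G.toQuot := by
    rw [pt_toQuot_eq_iff, ofPt_toPt, ofPt_toPt, h]
  obtain ⟨r, hrt, hrs⟩ := (((Groth.Agent.S1878.result S G).2 K).2 _ _).mp h1
  refine ⟨ofPt r, ?_, ?_⟩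
  · rw [← ofPt_comp, hrt, ofPt_toPt]
  · rw [← ofPt_comp, hrs, ofPt_toPt]

variable [IsAffine G'.U] [IsAffine G'.R]

include f in
theorem exists_ring_orbit_section (hs : IsPullback f.fR G'.s G.s f.fU)
    (hstab : ∃ g : G'.stabilizer ⟶ G.stabilizer,
      g ≫ pullback.fst G.j G.diag = pullback.fst G'.j G'.diag ≫ f.fR ∧
        IsPullback g G'.stabilizerToU G.stabilizerToU f.fU)
    (K : Type u) [Field K] [IsAlgClosed K] (x' : Γ(G'.U, ⊤) →+* K) :
    ∃ Φ : (Γ(G.U, ⊤) →+* K) → (Γ(G'.U, ⊤) →+* K),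
      Φ (x'.comp f.fU.appTop.hom) = x' ∧
      (∀ a : Γ(G.U, ⊤) →+* K, a.comp G.invariants.subtype =
          (x'.comp f.fU.appTop.hom).comp G.invariants.subtype →
        (Φ a).comp f.fU.appTop.hom = a) ∧
      ∀ r'' : Γ(G'.R, ⊤) →+* K,
        ((r''.comp f.fR.appTop.hom).comp G.s.appTop.hom).comp G.invariants.subtype =
          (x'.comp f.fU.appTop.hom).comp G.invariants.subtype →
        r''.comp G'.s.appTop.hom = Φ ((r''.comp f.fR.appTop.hom).comp G.s.appTop.hom) →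
        r''.comp G'.t.appTop.hom = Φ ((r''.comp f.fR.appTop.hom).comp G.t.appTop.hom) := by
  obtain ⟨Ψ, h1, h2, h3⟩ := exists_orbit_section f hs hstab K (toPt G'.U x')
  refine ⟨fun a => ofPt (Ψ (toPt G.U a)), ?_, ?_, ?_⟩
  · show ofPt (Ψ (toPt G.U (x'.comp f.fU.appTop.hom))) = x'
    rw [← toPt_comp, h1, ofPt_toPt]
  · intro a ha
    show (ofPt (Ψ (toPt G.U a))).comp f.fU.appTop.hom = a
    rw [← ofPt_comp, h2, ofPt_toPt]
    rw [pt_toQuot_eq_iff, ofPt_toPt, toPt_comp, ofPt_toPt, ha]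
  · intro r'' hfib hsrc
    show r''.comp G'.t.appTop.hom = ofPt (Ψ (toPt G.U ((r''.comp f.fR.appTop.hom).comp
      G.t.appTop.hom)))
    replace hsrc : r''.comp G'.s.appTop.hom =
      ofPt (Ψ (toPt G.U ((r''.comp f.fR.appTop.hom).comp G.s.appTop.hom))) := hsrc
    have e1 : (toPt G'.R r'' ≫ f.fR) ≫ G.s =
        toPt G.U ((r''.comp f.fR.appTop.hom).comp G.s.appTop.hom) := by
      rw [toPt_comp, toPt_comp]
    have e2 : (toPt G'.R r'' ≫ f.fR) ≫ G.t =
        toPt G.U ((r''.comp f.fR.appTop.hom).comp G.t.appTop.hom) := by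
      rw [toPt_comp, toPt_comp]
    have := h3 (toPt G'.R r'') (by
      rw [e1, pt_toQuot_eq_iff, ofPt_toPt, toPt_comp, ofPt_toPt, hfib]) (by
      rw [e1, toPt_comp, hsrc, toPt_ofPt])
    rw [e2, toPt_comp] at this
    rw [← this, ofPt_toPt]

end ring

end Groth.Agent.Lib.Helper20.KM
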