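import Mathlib
import Groth.Agent.Lib.Helper20.KM2
import Groth.Agent.Lib.Helper20.KM9
import Groth.Agent.Lib.Helper20.HB2
import Groth.Agent.S1879

/-!
# KM10: from groupoid schemes to the ring-level Keel–Mori hypotheses
-/

set_option autoImplicit false
set_option linter.style.haveILetI false
set_option linter.unusedSectionVars false
universe u
open CategoryTheory CategoryTheory.Limits AlgebraicGeometry

namespace Groth.Agent.Lib.Helper20.KM

open Grpd

theorem po_of_isPullback {X Y X' Y' : Scheme.{u}} [IsAffine X] [IsAffine Y] [IsAffine X']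
    [IsAffine Y'] (fY : Y' ⟶ Y) (s' : Y' ⟶ X') (s : Y ⟶ X) (fX : X' ⟶ X)
    (h : IsPullback fY s' s fX) :
    PO s.appTop.hom fX.appTop.hom fY.appTop.hom s'.appTop.hom where
  comm := by
    have := congrArg (fun φ => φ.appTop.hom) h.w
    simp only [Scheme.Hom.comp_appTop, CommRingCat.hom_comp] at this
    exact this
  desc := fun T _ g₁ g₂ hg => by
    have e : toPt Y g₁ ≫ s = toPt X' g₂ ≫ fX := by rw [toPt_comp, toPt_comp, hg]
    refine ⟨ofPt (h.lift (toPt Y g₁) (toPt X' g₂) e), ?_, ?_⟩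
    · rw [← ofPt_comp, h.lift_fst, ofPt_toPt]
    · rw [← ofPt_comp, h.lift_snd, ofPt_toPt]
  ext := fun T _ β β' h1 h2 => by
    have : toPt Y' β = toPt Y' β' :=
      h.hom_ext (by rw [toPt_comp, toPt_comp, h1]) (by rw [toPt_comp, toPt_comp, h2])
    rw [← ofPt_toPt Y' β, this, ofPt_toPt]

section main

variable {S : Scheme.{u}} {G' G : GroupoidScheme S} (f : GroupoidScheme.Hom G' G)
  [IsAffine G.U] [IsAffine G.R] [IsAffine G'.U] [IsAffine G'.R]
  [IsFinite G.s] [Flat G.s] [LocallyOfFinitePresentation G.s]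
  [IsFinite G.t] [Flat G.t] [LocallyOfFinitePresentation G.t]
  [IsFinite G'.s] [Flat G'.s] [LocallyOfFinitePresentation G'.s]
  [IsFinite G'.t] [Flat G'.t] [LocallyOfFinitePresentation G'.t]

set_option maxHeartbeats 3200000 in
set_option synthInstance.maxHeartbeats 400000 in
include f in
/-- the ring-level content of the Keel–Mori étale cartesian morphism theorem. -/
theorem km_ring (hs : IsPullback f.fR G'.s G.s f.fU) (ht : IsPullback f.fR G'.t G.t f.fU)
    (hstab : ∃ g : G'.stabilizer ⟶ G.stabilizer,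
      g ≫ pullback.fst G.j G.diag = pullback.fst G'.j G'.diag ≫ f.fR ∧
        IsPullback g G'.stabilizerToU G.stabilizerToU f.fU) [Etale f.fU] :
    IsPushout (CommRingCat.ofHom G.invariants.subtype)
      (CommRingCat.ofHom (HB.invMap f.fU f.fR f.comm_s f.comm_t)) f.fU.appTop
      (CommRingCat.ofHom G'.invariants.subtype) ∧
    ∀ p' : Ideal G'.invariants, p'.IsPrime →
      ∃ (C₁ : Type u) (_ : CommRing C₁) (φ : G.invariants →+* C₁) (ρ : G'.invariants →+* C₁)
        (q : Ideal C₁), q.IsPrime ∧ φ.Etale ∧ ρ.Etale ∧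
          ρ.comp (HB.invMap f.fU f.fR f.comm_s f.comm_t) = φ ∧ q.comap ρ = p' := by
  classical
  letI algCB : Algebra G.invariants Γ(G.R, ⊤) :=
    (G.s.appTop.hom.comp G.invariants.subtype).toAlgebra
  letI algAA' : Algebra Γ(G.U, ⊤) Γ(G'.U, ⊤) := f.fU.appTop.hom.toAlgebra
  letI algCA' : Algebra G.invariants Γ(G'.U, ⊤) :=
    (f.fU.appTop.hom.comp G.invariants.subtype).toAlgebra
  letI algCB' : Algebra G.invariants Γ(G'.R, ⊤) :=
    (f.fR.appTop.hom.comp (G.s.appTop.hom.comp G.invariants.subtype)).toAlgebra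
  haveI : IsScalarTower G.invariants Γ(G.U, ⊤) Γ(G'.U, ⊤) := .of_algebraMap_eq (fun _ => rfl)
  have hcs : ∀ a, f.fR.appTop.hom (G.s.appTop.hom a) = G'.s.appTop.hom (f.fU.appTop.hom a) := by
    intro a
    have := congrArg (fun φ => φ.appTop.hom a) f.comm_s
    simp only [Scheme.Hom.comp_appTop, CommRingCat.hom_comp, RingHom.comp_apply] at this
    exact this
  have hct : ∀ a, f.fR.appTop.hom (G.t.appTop.hom a) = G'.t.appTop.hom (f.fU.appTop.hom a) := by
    intro a
    have := congrArg (fun φ => φ.appTop.hom a) f.comm_t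
    simp only [Scheme.Hom.comp_appTop, CommRingCat.hom_comp, RingHom.comp_apply] at this
    exact this
  let sa : Γ(G.U, ⊤) →ₐ[G.invariants] Γ(G.R, ⊤) := ⟨G.s.appTop.hom, fun c => rfl⟩
  let ta : Γ(G.U, ⊤) →ₐ[G.invariants] Γ(G.R, ⊤) := ⟨G.t.appTop.hom, fun c => c.2.symm⟩
  let sa' : Γ(G'.U, ⊤) →ₐ[G.invariants] Γ(G'.R, ⊤) :=
    ⟨G'.s.appTop.hom, fun c => (hcs c.1).symm⟩
  let ta' : Γ(G'.U, ⊤) →ₐ[G.invariants] Γ(G'.R, ⊤) :=
    ⟨G'.t.appTop.hom, fun c => by
      show G'.t.appTop.hom (f.fU.appTop.hom c.1) = f.fR.appTop.hom (G.s.appTop.hom c.1)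
      rw [← hct]
      exact congrArg _ c.2.symm⟩
  let fRa : Γ(G.R, ⊤) →ₐ[G.invariants] Γ(G'.R, ⊤) := ⟨f.fR.appTop.hom, fun c => rfl⟩
  have hint' : Algebra.IsIntegral G'.invariants Γ(G'.U, ⊤) := Groth.Agent.S1879.result S G'
  let ι₁ : G'.invariants →+* (AlgHom.equalizer sa' ta') :=
    G'.invariants.subtype.codRestrict (AlgHom.equalizer sa' ta') (fun x => x.2)
  let ι₀ : (AlgHom.equalizer sa' ta') →+* G'.invariants :=
    (AlgHom.equalizer sa' ta').val.toRingHom.codRestrict G'.invariants (fun x => x.2)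
  have hι₀₁ : ∀ x, ι₀ (ι₁ x) = x := fun x => Subtype.ext rfl
  have hι₁₀ : ∀ x, ι₁ (ι₀ x) = x := fun x => Subtype.ext rfl
  have hH : KMHyp sa ta sa' ta' fRa :=
    { po_s := po_of_isPullback f.fR G'.s G.s f.fU hs
      po_t := po_of_isPullback f.fR G'.t G.t f.fU ht
      hC := fun a ha => ⟨⟨a, ha⟩, rfl⟩
      hinj := Subtype.val_injective
      int := Groth.Agent.S1879.result S G
      fin_s := G.s.finite_appTop
      etale := (HasRingHomProperty.iff_of_isAffine (P := @Etale)).mp inferInstance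
      int' := fun a' =>
        (hint'.isIntegral a').map_of_comp_eq ι₁ (RingHom.id Γ(G'.U, ⊤)) rfl
      arrow := fun K _ _ a₁ a₂ h => exists_ring_arrow K a₁ a₂ h
      sect := fun K _ _ x' => exists_ring_orbit_section f hs hstab K x' }
  refine ⟨?_, ?_⟩
  · have key : ∀ s : PushoutCocone (CommRingCat.ofHom G.invariants.subtype)
        (CommRingCat.ofHom (HB.invMap f.fU f.fR f.comm_s f.comm_t)),
        ∃ m : Γ(G'.U, ⊤) ⟶ s.pt, f.fU.appTop ≫ m = s.inl ∧
          CommRingCat.ofHom G'.invariants.subtype ≫ m = s.inr := by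
      intro s
      obtain ⟨θ, hθ1, hθ2⟩ := up_exists hH s.pt s.inl.hom (s.inr.hom.comp ι₀) (fun c => by
        have := congrArg (fun φ => φ.hom c) s.condition
        exact this)
      refine ⟨CommRingCat.ofHom θ, ?_, ?_⟩
      · ext a
        exact hθ1 a
      · ext c'
        have := hθ2 (ι₁ c')
        rw [RingHom.comp_apply, hι₀₁] at this
        exact this
    choose desc hd1 hd2 using key
    refine IsPushout.of_isColimit (PushoutCocone.IsColimit.mk ?_ desc hd1 hd2 ?_)
    · ext c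
      rfl
    · intro s m hm1 hm2
      apply CommRingCat.hom_ext
      apply up_unique hH s.pt m.hom (desc s).hom
      · intro a
        have e1 := congrArg (fun φ => φ.hom a) hm1
        have e2 := congrArg (fun φ => φ.hom a) (hd1 s)
        exact e1.trans e2.symm
      · intro c'
        have e1 := congrArg (fun φ => φ.hom (ι₀ c')) hm2
        have e2 := congrArg (fun φ => φ.hom (ι₀ c')) (hd2 s)
        exact e1.trans e2.symm
  · intro p' hp'
    haveI := hp'
    haveI : (p'.comap ι₀).IsPrime := Ideal.comap_isPrime _ _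
    obtain ⟨C₁, _, _, _, ρ₀, q, hq, het, hcomap⟩ := exists_etale_nbhd hH (p'.comap ι₀)
    have hbij : Function.Bijective ι₁ :=
      ⟨fun x y hxy => by rw [← hι₀₁ x, hxy, hι₀₁], fun y => ⟨ι₀ y, hι₁₀ y⟩⟩
    refine ⟨C₁, inferInstance, algebraMap G.invariants C₁, ρ₀.toRingHom.comp ι₁, q, hq,
      RingHom.etale_algebraMap.mpr inferInstance,
      RingHom.Etale.stableUnderComposition _ _ (RingHom.Etale.of_bijective hbij) het, ?_, ?_⟩
    · ext c
      show ρ₀ (ι₁ (HB.invMap f.fU f.fR f.comm_s f.comm_t c)) = algebraMap G.invariants C₁ c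
      rw [← ρ₀.commutes]
      rfl
    · ext x
      rw [Ideal.mem_comap]
      show ρ₀ (ι₁ x) ∈ q ↔ _
      have : ρ₀ (ι₁ x) ∈ q ↔ ι₁ x ∈ q.comap ρ₀.toRingHom := Iff.rfl
      rw [this, hcomap, Ideal.mem_comap, hι₀₁]

end main

end Groth.Agent.Lib.Helper20.KM
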