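import Mathlib
import Groth.Prelude.Def_LambdaRing
import Groth.Prelude.Def_KRR

/-!
# The elementary extension `K_e = K[T]/(p_e)` and its canonical functional

For a λ-ring `K` with positive structure and `e` positive with `ε(e) = r + 1`:
* `sigma_mul_lam`: `σ_t(e) · λ_{-t}(e) = 1`;
* `sum_lam_sigma`: `Σ_{i ≤ n} (-1)^i λ^i(e) σ^{n-i}(e) = 0` for `n ≥ 1`;
* `functional_pow`, `functional_inv_pow`: a `K`-linear functional on `K_e` with `f(ℓ^i) = σ^i(e)` for `i ≤ r`
  satisfies this for all `i`, and `f(ℓ^{-n}) = 0` for `1 ≤ n ≤ r`.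
-/

set_option autoImplicit false
universe u
open LambdaRing LambdaRing.LambdaOps Finset

namespace Groth.Agent.Lib.Helper20.LamKe

variable {K : Type u} [CommRing K] [LambdaOps K]

/-- The coefficients `c_i = (-1)^i λ^i(e)` of `p_e` and of `λ_{-t}(e)`. -/
def cc (e : K) (i : ℕ) : K := (-1 : K) ^ i * lam i e

theorem cc_zero (e : K) : cc e 0 = 1 := by simp [cc, lam_zero]

theorem coeff_rescale_lamSeries (e : K) (i : ℕ) :
    PowerSeries.coeff i (PowerSeries.rescale (-1 : K) (lamSeries e)) = cc e i := by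
  rw [PowerSeries.coeff_rescale, lamSeries, PowerSeries.coeff_mk, cc]

theorem sigma_mul_lam (e : K) :
    KRR.sigmaSeries e * PowerSeries.rescale (-1 : K) (lamSeries e) = 1 := by
  have hconst : PowerSeries.constantCoeff (PowerSeries.rescale (-1 : K) (lamSeries e)) = ((1 : Kˣ) : K) := by
    rw [← PowerSeries.coeff_zero_eq_constantCoeff_apply, coeff_rescale_lamSeries, cc_zero]; rfl
  exact PowerSeries.invOfUnit_mul _ 1 hconst

theorem sigma_zero (e : K) : KRR.sigma 0 e = 1 := by
  have h := congrArg (PowerSeries.coeff 0) (sigma_mul_lam e)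
  rw [PowerSeries.coeff_mul, Finset.Nat.antidiagonal_zero, Finset.sum_singleton, coeff_rescale_lamSeries, cc_zero,
    mul_one, PowerSeries.coeff_one, if_pos rfl] at h
  exact h

/-- `Σ_{i ≤ n} c_i σ^{n-i} = 0` for `n ≥ 1`. -/
theorem sum_cc_sigma (e : K) (n : ℕ) (hn : 1 ≤ n) :
    ∑ i ∈ range (n + 1), cc e i * KRR.sigma (n - i) e = 0 := by
  have h := congrArg (PowerSeries.coeff n) (sigma_mul_lam e)
  rw [mul_comm, PowerSeries.coeff_mul, PowerSeries.coeff_one, if_neg (by omega),
    Finset.Nat.sum_antidiagonal_eq_sum_range_succ_mk] at h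
  refine Eq.trans (Finset.sum_congr rfl fun i _ => ?_) h
  rw [coeff_rescale_lamSeries, KRR.sigma]

/-- Truncated at `m ≥ ε(e)` since higher `λ^i(e)` vanish. -/
theorem sum_cc_sigma_trunc (P : PosStructure K) (e : K) (he : e ∈ P.pos) (m : ℕ) (hm : P.aug e = m)
    (n : ℕ) (hn : 1 ≤ n) (hmn : m ≤ n) :
    ∑ i ∈ range (m + 1), cc e i * KRR.sigma (n - i) e = 0 := by
  rw [← sum_cc_sigma e n hn]
  refine Finset.sum_subset (fun i hi => by simp only [mem_range] at hi ⊢; omega) fun i hi hi' => ?_
  simp only [mem_range, not_lt] at hi hi'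
  rw [cc, P.lam_eq_zero e he i (by rw [hm]; exact_mod_cast (by omega : m < i)), mul_zero, zero_mul]

theorem extPoly_eq (P : PosStructure K) (e : K) (m : ℕ) (hm : P.aug e = m) :
    KRR.extPoly P e = ∑ i ∈ range (m + 1), Polynomial.C (cc e i) * Polynomial.X ^ (m - i) := by
  have : (P.aug e).toNat = m := by rw [hm]; exact Int.toNat_natCast m
  rw [KRR.extPoly, this]
  rfl

/-- The relation `Σ_i c_i ℓ^{m-i} = 0` in `K_e`. -/
theorem root_relation (P : PosStructure K) (e : K) (m : ℕ) (hm : P.aug e = m) :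
    ∑ i ∈ range (m + 1), AdjoinRoot.of (KRR.extPoly P e) (cc e i) *
      AdjoinRoot.root (KRR.extPoly P e) ^ (m - i) = 0 := by
  have h := AdjoinRoot.eval₂_root (KRR.extPoly P e)
  conv at h => lhs; arg 3; rw [extPoly_eq P e m hm]
  rw [Polynomial.eval₂_finsetSum] at h
  refine Eq.trans (Finset.sum_congr rfl fun i _ => ?_) h
  rw [Polynomial.eval₂_mul, Polynomial.eval₂_C, Polynomial.eval₂_pow, Polynomial.eval₂_X]

theorem map_of_mul (p : Polynomial K) (f : AdjoinRoot p →ₗ[K] K) (a : K) (y : AdjoinRoot p) :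
    f (AdjoinRoot.of p a * y) = a * f y := by
  rw [← AdjoinRoot.algebraMap_eq, ← Algebra.smul_def, map_smul, smul_eq_mul]

theorem pow_mul_inv_pow {A : Type*} [CommRing A] (l linv : A) (h : linv * l = 1) (a b : ℕ) :
    l ^ a * linv ^ b = if b ≤ a then l ^ (a - b) else linv ^ (b - a) := by
  split_ifs with hab
  · obtain ⟨c, rfl⟩ := Nat.exists_eq_add_of_le hab
    rw [Nat.add_sub_cancel_left, pow_add, mul_comm (l ^ b), mul_assoc, ← mul_pow, mul_comm l, h, one_pow, mul_one]
  · push Not at hab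
    obtain ⟨c, rfl⟩ := Nat.exists_eq_add_of_le hab.le
    rw [Nat.add_sub_cancel_left, pow_add, ← mul_assoc, ← mul_pow, mul_comm l, h, one_pow, one_mul]

section functional

variable (P : PosStructure K) (e : K) (he : e ∈ P.pos) (r : ℕ) (hr : P.aug e = r + 1)
  (f : AdjoinRoot (KRR.extPoly P e) →ₗ[K] K)
  (hf : ∀ i : ℕ, i ≤ r → f (AdjoinRoot.root (KRR.extPoly P e) ^ i) = KRR.sigma i e)

include he hr hf

theorem functional_pow (n : ℕ) : f (AdjoinRoot.root (KRR.extPoly P e) ^ n) = KRR.sigma n e := by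
  have hm : P.aug e = ((r + 1 : ℕ) : ℤ) := by rw [hr]; push_cast; rfl
  induction n using Nat.strong_induction_on with
  | _ n ih =>
    by_cases hn : n ≤ r
    · exact hf n hn
    · push Not at hn
      have hrel := root_relation P e (r + 1) hm
      have h1 := congrArg (fun y => f (y * AdjoinRoot.root (KRR.extPoly P e) ^ (n - (r + 1)))) hrel
      simp only [zero_mul, map_zero, Finset.sum_mul, map_sum] at h1
      have h2 : ∀ i ∈ range (r + 1 + 1), f (AdjoinRoot.of (KRR.extPoly P e) (cc e i) *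
          AdjoinRoot.root (KRR.extPoly P e) ^ (r + 1 - i) *
          AdjoinRoot.root (KRR.extPoly P e) ^ (n - (r + 1))) =
          cc e i * f (AdjoinRoot.root (KRR.extPoly P e) ^ (n - i)) := by
        intro i hi
        simp only [mem_range] at hi
        rw [mul_assoc, ← pow_add, map_of_mul]
        congr 3
        omega
      rw [Finset.sum_congr rfl h2, Finset.sum_range_succ'] at h1
      have h3 := sum_cc_sigma_trunc P e he (r + 1) hm n (by omega) (by omega)
      rw [Finset.sum_range_succ'] at h3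
      have h4 : ∑ i ∈ range (r + 1), cc e (i + 1) * f (AdjoinRoot.root (KRR.extPoly P e) ^ (n - (i + 1))) =
          ∑ i ∈ range (r + 1), cc e (i + 1) * KRR.sigma (n - (i + 1)) e := by
        refine Finset.sum_congr rfl fun i _ => ?_
        rw [ih (n - (i + 1)) (by omega)]
      rw [h4] at h1
      simp only [cc_zero, one_mul, Nat.sub_zero] at h1 h3
      have h5 : f (AdjoinRoot.root (KRR.extPoly P e) ^ n) - KRR.sigma n e = 0 := by
        linear_combination h1 - h3
      exact sub_eq_zero.mp h5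

theorem functional_inv_pow (linv : AdjoinRoot (KRR.extPoly P e))
    (hlinv : linv * AdjoinRoot.root (KRR.extPoly P e) = 1) (k : ℕ) (hk1 : 1 ≤ k) (hkr : k ≤ r) :
    f (linv ^ k) = 0 := by
  have hm : P.aug e = ((r + 1 : ℕ) : ℤ) := by rw [hr]; push_cast; rfl
  have hmt : (P.aug e).toNat = r + 1 := by rw [hm]; exact Int.toNat_natCast _
  induction k using Nat.strong_induction_on with
  | _ k ih =>
    have hrel := root_relation P e (r + 1) hm
    have h1 := congrArg (fun y => f (y * linv ^ k)) hrel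
    simp only [zero_mul, map_zero, Finset.sum_mul, map_sum] at h1
    have h2 : ∀ i ∈ range (r + 1 + 1), f (AdjoinRoot.of (KRR.extPoly P e) (cc e i) *
        AdjoinRoot.root (KRR.extPoly P e) ^ (r + 1 - i) * linv ^ k) =
        if i ≤ r + 1 - k then cc e i * KRR.sigma (r + 1 - k - i) e else
          if i = r + 1 then cc e (r + 1) * f (linv ^ k) else 0 := by
      intro i hi
      simp only [mem_range] at hi
      rw [mul_assoc, map_of_mul, pow_mul_inv_pow _ _ hlinv]
      split_ifs with h3 h4 h5 h6 h7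
      · rw [functional_pow P e he r hr f hf]; congr 2; omega
      · omega
      · omega
      · omega
      · subst h7; rw [show k - (r + 1 - (r + 1)) = k by omega]
      · rw [ih (k - (r + 1 - i)) (by omega) (by omega) (by omega), mul_zero]
    rw [Finset.sum_congr rfl h2] at h1
    have h3 : ∑ i ∈ range (r + 1 + 1), (if i ≤ r + 1 - k then cc e i * KRR.sigma (r + 1 - k - i) e else
          if i = r + 1 then cc e (r + 1) * f (linv ^ k) else 0) =
        ∑ i ∈ range (r + 1 - k + 1), cc e i * KRR.sigma (r + 1 - k - i) e + cc e (r + 1) * f (linv ^ k) := by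
      rw [Finset.sum_range_succ, if_neg (by omega), if_pos rfl]
      congr 1
      rw [← Finset.sum_filter_add_sum_filter_not (range (r + 1)) (fun i => i ≤ r + 1 - k)]
      rw [Finset.sum_congr rfl (fun i hi => if_pos (Finset.mem_filter.mp hi).2)]
      have hz : ∑ i ∈ (range (r + 1)).filter (fun i => ¬ i ≤ r + 1 - k),
          (if i ≤ r + 1 - k then cc e i * KRR.sigma (r + 1 - k - i) e else
            if i = r + 1 then cc e (r + 1) * f (linv ^ k) else 0) = 0 := by
        refine Finset.sum_eq_zero fun i hi => ?_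
        have := Finset.mem_filter.mp hi
        rw [if_neg this.2, if_neg (by have := Finset.mem_range.mp this.1; omega)]
      rw [hz, add_zero]
      refine Finset.sum_congr ?_ fun _ _ => rfl
      ext i
      simp only [mem_filter, mem_range]
      omega
    rw [h3, sum_cc_sigma e (r + 1 - k) (by omega), zero_add] at h1
    have hu : IsUnit (cc e (r + 1)) := by
      have := P.isUnit_lam e he
      rw [hmt] at this
      exact (IsUnit.pow _ (isUnit_one.neg)).mul this
    exact (hu.mul_right_eq_zero).mp h1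

end functional

section lamq

variable (P : PosStructure K) (e : K)
  (inst : LambdaOps (AdjoinRoot (KRR.extPoly P e)))
  (hext : ∀ (i : ℕ) (x : K), @LambdaOps.lam _ _ inst i (AdjoinRoot.of (KRR.extPoly P e) x) =
      AdjoinRoot.of (KRR.extPoly P e) (LambdaOps.lam i x))
  (hroot : ∀ i : ℕ, 2 ≤ i → @LambdaOps.lam _ _ inst i (AdjoinRoot.root (KRR.extPoly P e)) = 0)

include hext hroot

/-- `λ^i(e - ℓ) = Σ_{k ≤ i} λ^{i-k}(e) (-ℓ)^k` in `K_e`. -/
theorem lam_sub_root (i : ℕ) :
    @LambdaOps.lam _ _ inst i (AdjoinRoot.of (KRR.extPoly P e) e - AdjoinRoot.root (KRR.extPoly P e)) =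
      ∑ k ∈ range (i + 1), AdjoinRoot.of (KRR.extPoly P e) (lam (i - k) e) *
        (-AdjoinRoot.root (KRR.extPoly P e)) ^ k := by
  induction i with
  | zero => simp [@LambdaOps.lam_zero _ _ inst, lam_zero]
  | succ i ih =>
    have h1 := @LambdaOps.lam_add _ _ inst (i + 1)
      (AdjoinRoot.of (KRR.extPoly P e) e - AdjoinRoot.root (KRR.extPoly P e)) (AdjoinRoot.root (KRR.extPoly P e))
    rw [sub_add_cancel, hext, Finset.sum_range_succ, Finset.sum_range_succ, Nat.sub_self,
      @LambdaOps.lam_zero _ _ inst, mul_one, show i + 1 - i = 1 by omega, @LambdaOps.lam_one _ _ inst] at h1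
    have hz : ∑ x ∈ range i, @LambdaOps.lam _ _ inst x
        (AdjoinRoot.of (KRR.extPoly P e) e - AdjoinRoot.root (KRR.extPoly P e)) *
        @LambdaOps.lam _ _ inst (i + 1 - x) (AdjoinRoot.root (KRR.extPoly P e)) = 0 := by
      refine Finset.sum_eq_zero fun x hx => ?_
      rw [hroot (i + 1 - x) (by have := Finset.mem_range.mp hx; omega), mul_zero]
    rw [hz, zero_add, ih] at h1
    rw [Finset.sum_range_succ', pow_zero, mul_one, Nat.sub_zero]
    have h2 : ∑ k ∈ range (i + 1), AdjoinRoot.of (KRR.extPoly P e) (lam (i + 1 - (k + 1)) e) *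
        (-AdjoinRoot.root (KRR.extPoly P e)) ^ (k + 1) =
        -((∑ k ∈ range (i + 1), AdjoinRoot.of (KRR.extPoly P e) (lam (i - k) e) *
        (-AdjoinRoot.root (KRR.extPoly P e)) ^ k) * AdjoinRoot.root (KRR.extPoly P e)) := by
      rw [Finset.sum_mul, ← Finset.sum_neg_distrib]
      refine Finset.sum_congr rfl fun k _ => ?_
      rw [Nat.add_sub_add_right, pow_succ]
      ring
    rw [h2]
    linear_combination -h1

variable (he : e ∈ P.pos) (r : ℕ) (hr : P.aug e = r + 1)
  (f : AdjoinRoot (KRR.extPoly P e) →ₗ[K] K)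
  (hf : ∀ i : ℕ, i ≤ r → f (AdjoinRoot.root (KRR.extPoly P e) ^ i) = KRR.sigma i e)

include he hr hf

/-- `f(λ_t(e - ℓ)) = 1`. -/
theorem functional_lam_sub_root (i : ℕ) :
    f (@LambdaOps.lam _ _ inst i (AdjoinRoot.of (KRR.extPoly P e) e - AdjoinRoot.root (KRR.extPoly P e))) =
      if i = 0 then 1 else 0 := by
  rw [lam_sub_root P e inst hext hroot i, map_sum]
  have h1 : ∀ k ∈ range (i + 1), f (AdjoinRoot.of (KRR.extPoly P e) (lam (i - k) e) *
        (-AdjoinRoot.root (KRR.extPoly P e)) ^ k) = (-1 : K) ^ i * (cc e (i - k) * KRR.sigma (i - (i - k)) e) := by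
    intro k hk
    have hk' := Finset.mem_range.mp hk
    rw [neg_pow, mul_comm ((-1 : AdjoinRoot (KRR.extPoly P e)) ^ k), ← mul_assoc,
      show ((-1 : AdjoinRoot (KRR.extPoly P e)) ^ k) = AdjoinRoot.of (KRR.extPoly P e) ((-1 : K) ^ k) by
        rw [map_pow, map_neg, map_one],
      mul_comm _ (AdjoinRoot.of (KRR.extPoly P e) ((-1 : K) ^ k)), ← mul_assoc, ← map_mul, map_of_mul,
      functional_pow P e he r hr f hf k, cc, show i - (i - k) = k by omega]
    have : (-1 : K) ^ i = (-1) ^ k * (-1) ^ (i - k) := by rw [← pow_add]; congr 1; omega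
    rw [this]
    have h2 : ((-1 : K) ^ (i - k)) * (-1) ^ (i - k) = 1 := by rw [← mul_pow]; simp
    linear_combination (-(-1 : K) ^ k * lam (i - k) e * KRR.sigma k e) * h2
  rw [Finset.sum_congr rfl h1, ← Finset.mul_sum]
  have h3 : ∑ k ∈ range (i + 1), cc e (i - k) * KRR.sigma (i - (i - k)) e =
      ∑ j ∈ range (i + 1), cc e j * KRR.sigma (i - j) e := by
    rw [← Finset.sum_range_reflect (fun j => cc e j * KRR.sigma (i - j) e) (i + 1)]
    refine Finset.sum_congr rfl fun k _ => ?_
    simp only [Nat.add_sub_cancel]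
  rw [h3]
  by_cases hi : i = 0
  · subst hi
    simp [cc_zero, sigma_zero]
  · rw [if_neg hi, sum_cc_sigma e i (by omega), mul_zero]

end lamq

section poly

open Polynomial

variable {R : Type*} [CommRing R]

/-- `Σ_{k ≤ n} c_{n-k} X^k`. -/
noncomputable def pn (c : ℕ → R) (n : ℕ) : R[X] := ∑ k ∈ range (n + 1), C (c (n - k)) * X ^ k

/-- `Σ_{i < n} pn c i = Σ_{j + k < n} c_j X^k`. -/
noncomputable def GG (c : ℕ → R) (n : ℕ) : R[X] := ∑ i ∈ range n, pn c i

theorem pn_succ (c : ℕ → R) (n : ℕ) : pn c (n + 1) = X * pn c n + C (c (n + 1)) := by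
  rw [pn, Finset.sum_range_succ', pow_zero, mul_one, Nat.sub_zero, pn, Finset.mul_sum]
  congr 1
  refine Finset.sum_congr rfl fun k _ => ?_
  rw [Nat.add_sub_add_right, pow_succ]
  ring

theorem X_sub_one_mul_GG (c : ℕ → R) (n : ℕ) :
    (X - 1) * GG c n = pn c n - C (∑ j ∈ range (n + 1), c j) := by
  induction n with
  | zero => simp [GG, pn]
  | succ n ih =>
    rw [GG, Finset.sum_range_succ, mul_add, ← GG, ih, pn_succ, Finset.sum_range_succ _ (n + 1), C_add]
    ring

theorem pn_eq_X_pow_add (c : ℕ → R) (h0 : c 0 = 1) (n : ℕ) :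
    pn c n = X ^ n + ∑ k ∈ range n, C (c (n - k)) * X ^ k := by
  rw [pn, Finset.sum_range_succ, Nat.sub_self, h0, C_1, one_mul, add_comm]

theorem degree_sum_lt (a : ℕ → R) (n : ℕ) :
    (∑ k ∈ range n, C (a k) * X ^ k).degree < (n : WithBot ℕ) := by
  refine (Polynomial.degree_sum_le _ _).trans_lt ?_
  rw [Finset.sup_lt_iff (by exact WithBot.bot_lt_coe n)]
  intro k hk
  refine (Polynomial.degree_C_mul_X_pow_le k (a k)).trans_lt ?_
  exact_mod_cast Finset.mem_range.mp hk

theorem pn_monic (c : ℕ → R) (h0 : c 0 = 1) (n : ℕ) : (pn c n).Monic := by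
  rw [pn_eq_X_pow_add c h0]
  exact Polynomial.monic_X_pow_add (degree_sum_lt _ n)

theorem pn_natDegree [Nontrivial R] (c : ℕ → R) (h0 : c 0 = 1) (n : ℕ) : (pn c n).natDegree = n := by
  rw [pn_eq_X_pow_add c h0]
  rw [Polynomial.natDegree_add_eq_left_of_degree_lt, Polynomial.natDegree_X_pow]
  rw [Polynomial.degree_X_pow]
  exact degree_sum_lt _ n

/-- If `p` is monic of positive degree with `p - s = (X - 1) g`, and `p ∣ h (1 - X)` with `deg h < deg p`, then
`h` is a constant multiple of `g`. -/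
theorem exists_eq_C_mul (p g : R[X]) (s : R) (hp : p.Monic) (hg : (X - 1) * g = p - C s)
    (h : R[X]) (hh : h.natDegree < p.natDegree) (hdiv : p ∣ h * (1 - X)) : ∃ a : R, h = C a * g := by
  nontriviality R
  obtain ⟨q, hq⟩ := hdiv
  have hq0 : q.natDegree = 0 := by
    by_contra hne
    have hqne : q ≠ 0 := by rintro rfl; simp at hne
    have h1 : (p * q).natDegree = p.natDegree + q.natDegree := hp.natDegree_mul' hqne
    have h2 : (h * (1 - X)).natDegree ≤ h.natDegree + 1 := by
      refine (Polynomial.natDegree_mul_le).trans ?_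
      have : (1 - X : R[X]).natDegree ≤ 1 := by
        refine (Polynomial.natDegree_sub_le _ _).trans ?_
        simp
      omega
    rw [hq, h1] at h2
    omega
  obtain ⟨b, rfl⟩ : ∃ b, q = C b := ⟨q.coeff 0, Polynomial.eq_C_of_natDegree_eq_zero hq0⟩
  have hp' : p = (X - 1) * g + C s := by rw [hg]; ring
  have hbs : b * s = 0 := by
    have := congrArg (Polynomial.eval 1) hq
    rw [hp'] at this
    simp at this
    rw [mul_comm]; exact this.symm
  have h3 : (X - 1) * (h + C b * g) = 0 := by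
    have : C b * C s = 0 := by rw [← C_mul, hbs, C_0]
    linear_combination -hq + C b * hg - this
  have h4 : h + C b * g = 0 := ((Polynomial.monic_X_sub_C (1 : R)).mul_right_eq_zero_iff).mp (by simpa using h3)
  refine ⟨-b, ?_⟩
  rw [C_neg]
  linear_combination h4

end poly

end Groth.Agent.Lib.Helper20.LamKe
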