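import Mathlib
import Groth.Prelude.Def_LambdaRing
import Groth.Prelude.Def_KRR
import Groth.Agent.S3792
import Groth.Agent.Lib.Helper20.LamKe
import Groth.Agent.Lib.Helper20.LamKeFil

/-!
# λ-operations of `x·ℓ^{±1}` for a line `ℓ`, and Bott's class of `e·ℓ⁻¹`
-/

set_option autoImplicit false
universe u
open LambdaRing LambdaRing.LambdaOps Finset

namespace Groth.Agent.Lib.Helper20.KeBott

open Groth.Agent.Lib.Helper20.LamPsiGr Groth.Agent.Lib.Helper20.LamAdams Groth.Agent.Lib.Helper20.LamSplit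
  Groth.Agent.Lib.Helper20.LamDet Groth.Agent.Lib.Helper20.LamFil Groth.Agent.Lib.Helper20.LamKe

variable {L : Type u} [CommRing L] [LambdaOps L] (PL : PosStructure L) (hL : HasSplitting L PL)

theorem esymm_map_mul {R : Type*} [CommRing R] (s : Multiset R) (c : R) (n : ℕ) :
    (s.map fun u => u * c).esymm n = c ^ n * s.esymm n := by
  have h := Multiset.pow_smul_esymm c n s
  simp only [smul_eq_mul] at h
  rw [h]
  congr 1
  refine Multiset.map_congr rfl fun u _ => mul_comm _ _

include hL in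
theorem lam_mul_line_pos (ℓ : L) (hℓ : PL.IsLine ℓ) (x : L) (hx : x ∈ PL.pos) (i : ℕ) :
    lam i (x * ℓ) = lam i x * ℓ ^ i := by
  obtain ⟨L', φ, hL', hφ, s, hs, hsum⟩ := exists_split' PL hL x hx
  apply hφ.injective
  have hℓ' := isLine_map PL L'.posStr φ hφ hℓ
  have hs' : ∀ v ∈ s.map (fun u => u * φ ℓ), IsLineLike v := by
    intro v hv
    obtain ⟨u, hu, rfl⟩ := Multiset.mem_map.mp hv
    exact isLineLike_of_isLine L'.posStr (Groth.Agent.S3791.isLine_mul L'.posStr (hs u hu) hℓ')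
  have hs'' : ∀ v ∈ s, IsLineLike v := fun v hv => isLineLike_of_isLine L'.posStr (hs v hv)
  rw [hφ.isLambdaHom, map_mul, map_mul, map_pow, hφ.isLambdaHom, ← hsum, sum_mul_eq s (φ ℓ),
    Groth.Agent.S3792.lam_sum_eq_esymm _ hs', Groth.Agent.S3792.lam_sum_eq_esymm _ hs'', esymm_map_mul]
  ring

include hL in
theorem lamSeries_mul_line_pos (ℓ : L) (hℓ : PL.IsLine ℓ) (x : L) (hx : x ∈ PL.pos) :
    lamSeries (x * ℓ) = PowerSeries.rescale ℓ (lamSeries x) := by
  ext n
  rw [PowerSeries.coeff_rescale, lamSeries, lamSeries, PowerSeries.coeff_mk, PowerSeries.coeff_mk,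
    lam_mul_line_pos PL hL ℓ hℓ x hx n]
  ring

include hL in
theorem lamSeries_mul_line (ℓ : L) (hℓ : PL.IsLine ℓ) (x : L) :
    lamSeries (x * ℓ) = PowerSeries.rescale ℓ (lamSeries x) := by
  obtain ⟨a, b, ha, hb, rfl⟩ := PL.exists_sub x
  have h1 : lamSeries (a * ℓ) = lamSeries ((a - b) * ℓ) * lamSeries (b * ℓ) := by
    rw [← Groth.Agent.S3791.lamSeries_add]; congr 1; ring
  have h2 : lamSeries a = lamSeries (a - b) * lamSeries b := by
    rw [← Groth.Agent.S3791.lamSeries_add]; congr 1; ring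
  rw [lamSeries_mul_line_pos PL hL ℓ hℓ a ha, lamSeries_mul_line_pos PL hL ℓ hℓ b hb, h2, map_mul] at h1
  have hunit : IsUnit (PowerSeries.rescale ℓ (lamSeries b)) := by
    rw [PowerSeries.isUnit_iff_constantCoeff, ← PowerSeries.coeff_zero_eq_constantCoeff_apply,
      PowerSeries.coeff_rescale, pow_zero, one_mul, PowerSeries.coeff_zero_eq_constantCoeff_apply,
      Groth.Agent.S3791.constantCoeff_lamSeries]
    exact isUnit_one
  exact (hunit.mul_left_inj.mp h1).symm

include hL in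
theorem lam_mul_line (ℓ : L) (hℓ : PL.IsLine ℓ) (x : L) (i : ℕ) : lam i (x * ℓ) = lam i x * ℓ ^ i := by
  have h := congrArg (PowerSeries.coeff i) (lamSeries_mul_line PL hL ℓ hℓ x)
  rw [PowerSeries.coeff_rescale, lamSeries, lamSeries, PowerSeries.coeff_mk, PowerSeries.coeff_mk] at h
  rw [h]; ring

include hL in
theorem lam_mul_inv (ℓ linv : L) (hℓ : PL.IsLine ℓ) (h : linv * ℓ = 1) (x : L) (i : ℕ) :
    lam i (x * linv) = lam i x * linv ^ i := by
  have h1 := lam_mul_line PL hL ℓ hℓ (x * linv) i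
  have h2 : x * linv * ℓ = x := by rw [mul_assoc, h, mul_one]
  rw [h2] at h1
  rw [h1, mul_assoc, ← mul_pow, mul_comm ℓ, h, one_pow, mul_one]

theorem aug_inv (ℓ linv : L) (hℓ : PL.IsLine ℓ) (h : linv * ℓ = 1) : PL.aug linv = 1 := by
  have := congrArg PL.aug h
  rwa [map_mul, hℓ.2, mul_one, map_one] at this


section Bott

variable {L' : Type u} [CommRing L'] [LambdaOps L'] (PL' : PosStructure L') (φ : L →+* L')
  (hφ : IsExtension PL PL' φ)

include hL hφ in
/-- Bott's class of `e·ℓ⁻¹` in a splitting extension. -/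
theorem map_bott_mul_inv (e ℓ linv : L) (m : ℕ) (hm : PL.aug e = m) (hℓ : PL.IsLine ℓ)
    (h : linv * ℓ = 1) (j : ℕ) (s : Multiset L') (hs : ∀ u ∈ s, PL'.IsLine u) (hsum : s.sum = φ e) :
    φ (KRR.bott PL j (e * linv)) = (s.map fun u => ∑ k ∈ Finset.range j, (u * φ linv) ^ k).prod := by
  have haug : PL.aug (e * linv) = m := by rw [map_mul, hm, aug_inv PL ℓ linv hℓ h, mul_one]
  have hmt : (PL.aug (e * linv)).toNat = m := by rw [haug]; exact Int.toNat_natCast m
  have hcard : Multiset.card s = m := by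
    have h1 := aug_sum PL' s hs
    rw [hsum, hφ.aug_comp, hm] at h1
    exact_mod_cast h1.symm
  set t : Multiset L' := s.map fun u => u * φ linv with ht
  have htcard : Multiset.card t = m := by rw [ht, Multiset.card_map, hcard]
  obtain ⟨U, hU⟩ := exists_fin_enum t m htcard
  have hlines : ∀ v ∈ s, IsLineLike v := fun v hv => isLineLike_of_isLine PL' (hs v hv)
  rw [KRR.bott, ringHom_aeval φ]
  have key : ∀ (m' : ℕ) (hm' : m' = m),
      MvPolynomial.aeval (fun a : Fin m' => φ (lam ((a : ℕ) + 1) (e * linv))) (KRR.bottPoly j m') =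
        (s.map fun u => ∑ k ∈ Finset.range j, (u * φ linv) ^ k).prod := by
    intro m' hm'
    subst hm'
    have h1 : (fun a : Fin m' => φ (lam ((a : ℕ) + 1) (e * linv))) =
        fun a : Fin m' => MvPolynomial.aeval U (MvPolynomial.esymm (Fin m') ℤ ((a : ℕ) + 1)) := by
      funext a
      rw [lam_mul_inv PL hL ℓ linv hℓ h, map_mul, map_pow, hφ.isLambdaHom, ← hsum,
        Groth.Agent.S3792.lam_sum_eq_esymm s hlines, MvPolynomial.aeval_esymm_eq_multiset_esymm, hU, ht,
        esymm_map_mul]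
      ring
    rw [h1]
    have h3 : MvPolynomial.aeval (fun a : Fin m' =>
          MvPolynomial.aeval U (MvPolynomial.esymm (Fin m') ℤ ((a : ℕ) + 1))) (KRR.bottPoly j m') =
        MvPolynomial.aeval U (MvPolynomial.aeval (fun k : Fin m' =>
          MvPolynomial.esymm (Fin m') ℤ ((k : ℕ) + 1)) (KRR.bottPoly j m')) :=
      (MvPolynomial.comp_aeval_apply (f := fun k : Fin m' =>
        MvPolynomial.esymm (Fin m') ℤ ((k : ℕ) + 1)) (MvPolynomial.aeval U) _).symm
    rw [h3, ← MvPolynomial.esymmAlgHom_apply, KRR.bottPoly, ← MvPolynomial.esymmAlgEquiv_apply (Fin m') ℤ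
      (Fintype.card_fin _), AlgEquiv.apply_symm_apply]
    simp only [KRR.bottSym, map_prod, map_sum, map_pow, MvPolynomial.aeval_X]
    have h4 : (s.map fun u => ∑ k ∈ Finset.range j, (u * φ linv) ^ k) =
        t.map fun v => ∑ k ∈ Finset.range j, v ^ k := by
      rw [ht, Multiset.map_map]; rfl
    rw [h4, ← hU, Multiset.map_map]
    rfl
  exact key _ hmt

end Bott

end Groth.Agent.Lib.Helper20.KeBott
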