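import Mathlib

/-!
# A residue-type identity in `k[ℓ]/(p)` for `p` with unipotent roots

Core algebraic lemma for the Adams–Riemann–Roch formula for elementary projections.
-/

set_option autoImplicit false
open Polynomial

namespace Groth.Agent.Lib.Helper20.KeCore

section Tau

variable {A : Type*} [CommRing A] {g : A[X]} (hg : g.Monic)

/-- the coefficient of `root^n` in the power basis of `AdjoinRoot g` -/
noncomputable def tau (n : ℕ) : AdjoinRoot g →ₗ[A] A :=
  (Polynomial.lcoeff A n).comp (AdjoinRoot.modByMonicHom hg)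

theorem tau_mk (n : ℕ) (f : A[X]) : tau hg n (AdjoinRoot.mk g f) = (f %ₘ g).coeff n := by
  simp [tau, AdjoinRoot.modByMonicHom_mk]

theorem tau_mk_of_degree_lt (n : ℕ) (f : A[X]) (hf : f.degree < g.degree) :
    tau hg n (AdjoinRoot.mk g f) = f.coeff n := by
  nontriviality A
  rw [tau_mk, (Polynomial.modByMonic_eq_self_iff hg).mpr hf]

theorem tau_map {B : Type*} [CommRing B] (φ : A →+* B) (n : ℕ) (f : A[X]) :
    tau (hg.map φ) n (AdjoinRoot.mk (g.map φ) (f.map φ)) = φ (tau hg n (AdjoinRoot.mk g f)) := by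
  rw [tau_mk, tau_mk, ← Polynomial.map_modByMonic φ hg, Polynomial.coeff_map]

/-- the reproducing property of `g / (X - y)` for a root `y` of `g` -/
theorem tau_reproducing (y : A) (Bz : A[X]) (hB : g = (X - C y) * Bz) (r : ℕ)
    (hr : g.natDegree = r + 1) (G : A[X]) :
    tau hg r (AdjoinRoot.mk g (Bz * G)) = G.eval y := by
  nontriviality A
  have hBm : Bz.Monic := by
    have h1 : ((X - C y) * Bz).Monic := hB ▸ hg
    exact Polynomial.Monic.of_mul_monic_left (monic_X_sub_C y) h1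
  have hBd : Bz.natDegree = r := by
    have h1 := congrArg natDegree hB
    rw [Polynomial.Monic.natDegree_mul (monic_X_sub_C y) hBm, natDegree_X_sub_C, hr] at h1
    omega
  have hmono : ∀ k : ℕ, tau hg r (AdjoinRoot.mk g (Bz * X ^ k)) = y ^ k := by
    intro k
    induction k with
    | zero =>
      rw [pow_zero, mul_one, pow_zero, tau_mk_of_degree_lt hg r Bz]
      · rw [← hBd]; exact hBm.coeff_natDegree
      · rw [degree_eq_natDegree hBm.ne_zero, degree_eq_natDegree hg.ne_zero, hBd, hr]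
        exact_mod_cast Nat.lt_succ_self r
    | succ k ih =>
      have e1 : Bz * X ^ (k + 1) = g * X ^ k + C y * (Bz * X ^ k) := by
        rw [hB]; ring
      rw [e1, map_add, map_mul, AdjoinRoot.mk_self, zero_mul, zero_add, map_mul, AdjoinRoot.mk_C]
      have e2 : (AdjoinRoot.of g y) * AdjoinRoot.mk g (Bz * X ^ k) = y • AdjoinRoot.mk g (Bz * X ^ k) := by
        rw [Algebra.smul_def]; rfl
      rw [e2, map_smul, ih, smul_eq_mul, pow_succ, mul_comm]
  induction G using Polynomial.induction_on' with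
  | add p q hp hq => rw [mul_add, map_add, map_add, hp, hq, eval_add]
  | monomial k c =>
    have e1 : Bz * monomial k c = C c * (Bz * X ^ k) := by
      rw [← C_mul_X_pow_eq_monomial]; ring
    rw [e1, map_mul, AdjoinRoot.mk_C]
    have e2 : (AdjoinRoot.of g c) * AdjoinRoot.mk g (Bz * X ^ k) = c • AdjoinRoot.mk g (Bz * X ^ k) := by
      rw [Algebra.smul_def]; rfl
    rw [e2, map_smul, hmono, smul_eq_mul, eval_monomial]

end Tau


section Adjoin

variable {k S : Type*} [CommRing k] [CommRing S] [Algebra k S]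

theorem one_add_pow_sub_one (ν : S) (i : ℕ) :
    (1 + ν) ^ i - 1 = ν * ∑ i' ∈ Finset.range i, (1 + ν) ^ i' := by
  have := mul_geom_sum (1 + ν) i
  rw [← this]; ring

theorem one_add_pow_sub_one' (ν : S) (j : ℕ) :
    (1 + ν) ^ j - 1 = ν * ((j : S) + ν * ∑ i ∈ Finset.range j, ∑ i' ∈ Finset.range i, (1 + ν) ^ i') := by
  rw [one_add_pow_sub_one ν j]
  congr 1
  rw [Finset.mul_sum]
  have : ∀ i ∈ Finset.range j, (1 + ν) ^ i = 1 + ν * ∑ i' ∈ Finset.range i, (1 + ν) ^ i' := by
    intro i _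
    rw [← one_add_pow_sub_one ν i]; ring
  rw [Finset.sum_congr rfl this, Finset.sum_add_distrib]
  simp

/-- if `ℓ - 1` is nilpotent and `j` is invertible then `k[ℓ^j] = k[ℓ]` -/
theorem adjoin_pow_eq_top (ℓ : S) (N : ℕ) (hN : (ℓ - 1) ^ N = 0) (j : ℕ) (hj : IsUnit (j : k))
    (htop : Algebra.adjoin k {ℓ} = ⊤) : Algebra.adjoin k {ℓ ^ j} = ⊤ := by
  set ν : S := ℓ - 1 with hν
  have hℓ : ℓ = 1 + ν := by rw [hν]; ring
  obtain ⟨ji, hji⟩ : ∃ ji : k, ji * (j : k) = 1 := by
    obtain ⟨u, hu⟩ := hj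
    exact ⟨↑u⁻¹, by rw [← hu]; exact Units.inv_mul u⟩
  set S₀ : Subalgebra k S := Algebra.adjoin k {ℓ ^ j} with hS₀
  have hT : ℓ ^ j ∈ S₀ := Algebra.subset_adjoin (Set.mem_singleton _)
  set E : S := ∑ i ∈ Finset.range j, ∑ i' ∈ Finset.range i, (1 + ν) ^ i' with hE
  set t : S := ji • (ℓ ^ j - 1) with ht
  have htmem : t ∈ S₀ := Subalgebra.smul_mem _ (Subalgebra.sub_mem _ hT (Subalgebra.one_mem _)) ji
  set G' : S := ji • E with hG'
  have htε : t = ν * (1 + ν * G') := by
    rw [ht, hℓ, one_add_pow_sub_one' ν j, ← hE, hG']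
    have h1 : ji • (j : S) = 1 := by
      rw [Algebra.smul_def, ← map_natCast (algebraMap k S), ← map_mul, hji, map_one]
    calc ji • (ν * ((j : S) + ν * E)) = ν * (ji • (j : S) + ν * (ji • E)) := by
          simp only [Algebra.smul_def]; ring
      _ = ν * (1 + ν * ji • E) := by rw [h1]
  have key1 : ∀ a : ℕ, ∃ Ea : S, ν ^ a = t ^ a - ν ^ (a + 1) * Ea := by
    intro a
    refine ⟨G' * ∑ i ∈ Finset.range a, (1 + ν * G') ^ i, ?_⟩
    have h2 := one_add_pow_sub_one (ν * G') a
    rw [htε, mul_pow]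
    linear_combination (-(ν ^ a)) * h2
  have decomp : ∀ z : S, ∃ (z₀ : k) (z' : S), z = algebraMap k S z₀ + ν * z' := by
    intro z
    have hz : z ∈ Algebra.adjoin k {ℓ} := by rw [htop]; trivial
    rw [Algebra.adjoin_singleton_eq_range_aeval] at hz
    obtain ⟨G, hG⟩ := hz
    have hG' : aeval ℓ G = z := hG
    refine ⟨G.eval 1, aeval ℓ (G /ₘ (X - C 1)), ?_⟩
    have h3 := Polynomial.modByMonic_add_div G (X - C (1 : k))
    rw [Polynomial.modByMonic_X_sub_C_eq_C_eval] at h3
    rw [← hG']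
    conv_lhs => rw [← h3]
    rw [map_add, map_mul, map_sub, aeval_C, aeval_X, aeval_C, map_one, hν]
  have descent : ∀ b : ℕ, b ≤ N → ∀ z : S, ν ^ (N - b) * z ∈ S₀ := by
    intro b
    induction b with
    | zero =>
      intro _ z
      rw [Nat.sub_zero, hN, zero_mul]
      exact Subalgebra.zero_mem _
    | succ b ih =>
      intro hb z
      obtain ⟨z₀, z', rfl⟩ := decomp z
      obtain ⟨Ea, hEa⟩ := key1 (N - (b + 1))
      have e1 : N - (b + 1) + 1 = N - b := by omega
      have e2 : ν ^ (N - (b + 1)) * (algebraMap k S z₀ + ν * z') =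
          z₀ • t ^ (N - (b + 1)) + ν ^ (N - b) * (z' - z₀ • Ea) := by
        rw [← e1, Algebra.smul_def, Algebra.smul_def]
        linear_combination (algebraMap k S z₀) * hEa
      rw [e2]
      exact Subalgebra.add_mem _ (Subalgebra.smul_mem _ (Subalgebra.pow_mem _ htmem _) _) (ih (by omega) _)
  rw [eq_top_iff]
  intro z _
  have := descent N le_rfl z
  rwa [Nat.sub_self, pow_zero, one_mul] at this

end Adjoin


theorem root_sub_one_pow' {k : Type*} [CommRing k] (p : k[X]) (N : ℕ) (hN : p ∣ (X - 1) ^ N) :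
    (AdjoinRoot.root p - 1) ^ N = 0 := by
  have h1 : AdjoinRoot.mk p ((X - 1) ^ N) = 0 := AdjoinRoot.mk_eq_zero.mpr hN
  rwa [map_pow, map_sub, AdjoinRoot.mk_X, map_one] at h1

section Core

/-- the two-variable geometric sum `h_j(X, y)` -/
noncomputable def hjPoly {A : Type*} [CommRing A] (y : A) (j : ℕ) : A[X] :=
  ∑ i ∈ Finset.range j, X ^ i * (C y) ^ (j - 1 - i)

theorem hjPoly_mul {A : Type*} [CommRing A] (y : A) (j : ℕ) :
    (X - C y) * hjPoly y j = X ^ j - C (y ^ j) := by
  rw [hjPoly, mul_comm, geom_sum₂_mul, map_pow]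

variable {k : Type*} [CommRing k] (p q c d : k[X]) (hp : p.Monic) (hq : q.Monic) (r : ℕ)
  (hpd : p.natDegree = r + 1) (hqd : q.natDegree = r + 1) (j : ℕ) (hj : IsUnit (j : k))
  (N : ℕ) (hN : p ∣ (X - 1) ^ N) (hqc : q.comp (X ^ j) = p * c) (hcd : p ∣ c * d - 1)

/-- the numbers `a_s = τ_p(j ℓ^{js-1} d(ℓ))` -/
noncomputable def aa (s : ℕ) : k :=
  tau hp r (AdjoinRoot.mk p (C (j : k) * X ^ (j * s - 1) * d))

include hpd hq hqd hj hN hqc hcd in
/-- the key identity `T^{s-1} = Σ_i a_{s+i} β_i` over any `k`-algebra `A` with a root `y` of `p` -/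
theorem key_identity {A : Type*} [CommRing A] (φ : k →+* A) (y : A) (hyroot : (p.map φ).IsRoot y)
    (s : ℕ) (hs : 1 ≤ s) (hj1 : 1 ≤ j) :
    y ^ (j * (s - 1)) =
      ∑ i ∈ Finset.range (r + 1), φ (aa p d hp r j (s + i)) *
        ((q.map φ) /ₘ (X - C (y ^ j))).coeff i := by
  classical
  nontriviality A
  set pA : A[X] := p.map φ with hpA
  set qA : A[X] := q.map φ with hqA
  set cA : A[X] := c.map φ with hcA
  set dA : A[X] := d.map φ with hdA
  have hpAm : pA.Monic := hp.map φ
  have hqAm : qA.Monic := hq.map φ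
  have hpAd : pA.natDegree = r + 1 := by rw [hpA, hp.natDegree_map, hpd]
  set Bz : A[X] := pA /ₘ (X - C y) with hBz
  have hpB : pA = (X - C y) * Bz := (Polynomial.mul_divByMonic_eq_iff_isRoot.mpr hyroot).symm
  set T : A := y ^ j with hT
  have hqcA : qA.comp (X ^ j) = pA * cA := by
    have := congrArg (Polynomial.map φ) hqc
    rwa [Polynomial.map_comp, Polynomial.map_pow, Polynomial.map_X, Polynomial.map_mul] at this
  have hTroot : qA.IsRoot T := by
    have h1 := congrArg (Polynomial.eval y) hqcA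
    rw [Polynomial.eval_comp, Polynomial.eval_pow, Polynomial.eval_X, Polynomial.eval_mul, hyroot.eq_zero,
      zero_mul] at h1
    exact h1
  set ΔT : A[X] := qA /ₘ (X - C T) with hΔT
  have hqΔ : qA = (X - C T) * ΔT := (Polynomial.mul_divByMonic_eq_iff_isRoot.mpr hTroot).symm
  -- cancel `X - y`
  have hcancel : Bz * cA = hjPoly y j * ΔT.comp (X ^ j) := by
    have h1 : (X - C y) * (Bz * cA) = (X - C y) * (hjPoly y j * ΔT.comp (X ^ j)) := by
      rw [← mul_assoc, ← hpB, ← hqcA, ← mul_assoc, hjPoly_mul]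
      conv_lhs => rw [hqΔ]
      rw [Polynomial.mul_comp, Polynomial.sub_comp, Polynomial.X_comp, Polynomial.C_comp]
    exact (monic_X_sub_C y).isRegular.left h1
  -- the ring `Q = A[x]/(p)`
  set x : AdjoinRoot pA := AdjoinRoot.root pA with hx
  set mkQ : A[X] →+* AdjoinRoot pA := AdjoinRoot.mk pA with hmkQ
  set ofQ : A →+* AdjoinRoot pA := AdjoinRoot.of pA with hofQ
  have hmkX : mkQ X = x := AdjoinRoot.mk_X
  have hmkC : ∀ a : A, mkQ (C a) = ofQ a := fun a => AdjoinRoot.mk_C a
  have hcdQ : mkQ cA * mkQ dA = 1 := by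
    have h2 : pA ∣ cA * dA - 1 := by
      have := Polynomial.map_dvd φ hcd
      rwa [Polynomial.map_sub, Polynomial.map_mul, Polynomial.map_one] at this
    have h3 : mkQ (cA * dA) = mkQ 1 := AdjoinRoot.mk_eq_mk.mpr h2
    rw [← map_mul, h3, map_one]
  -- `Bz · x = Bz · y`
  have hBx : mkQ Bz * x = mkQ Bz * ofQ y := by
    have h1 : mkQ ((X - C y) * Bz) = 0 := by rw [← hpB]; exact AdjoinRoot.mk_self
    rw [map_mul, map_sub, hmkX, hmkC] at h1
    linear_combination h1
  have hBpow : ∀ a : ℕ, mkQ Bz * x ^ a = mkQ Bz * ofQ y ^ a := by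
    intro a
    induction a with
    | zero => simp
    | succ a ih =>
      calc mkQ Bz * x ^ (a + 1) = (mkQ Bz * x ^ a) * x := by ring
        _ = (mkQ Bz * x) * ofQ y ^ a := by rw [ih]; ring
        _ = mkQ Bz * ofQ y ^ (a + 1) := by rw [hBx]; ring
  have hmkhj : mkQ (hjPoly y j) = ∑ i ∈ Finset.range j, x ^ i * ofQ y ^ (j - 1 - i) := by
    rw [hjPoly, map_sum]
    refine Finset.sum_congr rfl fun i _ => ?_
    rw [map_mul, map_pow, map_pow, hmkX, hmkC]
  have hBhj : mkQ Bz * mkQ (hjPoly y j) = mkQ Bz * ((j : AdjoinRoot pA) * ofQ y ^ (j - 1)) := by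
    rw [hmkhj, Finset.mul_sum]
    have h1 : ∀ i ∈ Finset.range j, mkQ Bz * (x ^ i * ofQ y ^ (j - 1 - i)) = mkQ Bz * ofQ y ^ (j - 1) := by
      intro i hi
      have hi' := Finset.mem_range.mp hi
      rw [← mul_assoc, hBpow, mul_assoc, ← pow_add]
      congr 2
      omega
    rw [Finset.sum_congr rfl h1, Finset.sum_const, Finset.card_range, nsmul_eq_mul]
    ring
  -- `h_j(x, y)` is a unit
  have hpAN : pA ∣ (X - 1) ^ N := by
    have := Polynomial.map_dvd φ hN
    rwa [Polynomial.map_pow, Polynomial.map_sub, Polynomial.map_X, Polynomial.map_one] at this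
  have hxnil : IsNilpotent (x - 1) := by
    refine ⟨N, ?_⟩
    have h2 : mkQ ((X - 1) ^ N) = 0 := AdjoinRoot.mk_eq_zero.mpr hpAN
    rwa [map_pow, map_sub, hmkX, map_one] at h2
  have hyN : (y - 1) ^ N = 0 := by
    obtain ⟨e, he⟩ := hpAN
    have h1 := congrArg (Polynomial.eval y) he
    rw [Polynomial.eval_pow, Polynomial.eval_sub, Polynomial.eval_X, Polynomial.eval_one, Polynomial.eval_mul,
      hyroot.eq_zero, zero_mul] at h1
    exact h1
  have hynil : IsNilpotent (ofQ y - 1) := by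
    refine ⟨N, ?_⟩
    have h2 := congrArg ofQ hyN
    rwa [map_pow, map_sub, map_one, map_zero] at h2
  have hjunit : IsUnit (mkQ (hjPoly y j)) := by
    have hπx : Ideal.Quotient.mk (nilradical (AdjoinRoot pA)) x = 1 := by
      have : x - 1 ∈ nilradical (AdjoinRoot pA) := mem_nilradical.mpr hxnil
      rw [← Ideal.Quotient.eq_zero_iff_mem, map_sub, map_one, sub_eq_zero] at this
      exact this
    have hπy : Ideal.Quotient.mk (nilradical (AdjoinRoot pA)) (ofQ y) = 1 := by
      have : ofQ y - 1 ∈ nilradical (AdjoinRoot pA) := mem_nilradical.mpr hynil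
      rw [← Ideal.Quotient.eq_zero_iff_mem, map_sub, map_one, sub_eq_zero] at this
      exact this
    have hnil : IsNilpotent (mkQ (hjPoly y j) - (j : AdjoinRoot pA)) := by
      rw [← mem_nilradical, ← Ideal.Quotient.eq_zero_iff_mem, map_sub, hmkhj, map_sum]
      simp only [map_mul, map_pow, hπx, hπy, one_pow, mul_one, Finset.sum_const, Finset.card_range,
        nsmul_eq_mul, map_natCast, sub_self]
    have hju : IsUnit (j : AdjoinRoot pA) := by
      have h1 : (j : AdjoinRoot pA) = ofQ (φ (j : k)) := by simp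
      rw [h1]
      exact (hj.map φ).map ofQ
    have := hnil.isUnit_add_left_of_commute hju (Commute.all _ _)
    rwa [add_sub_cancel] at this
  -- the identity `Bz = j y^{j-1} Δ(x^j) d(x)`
  have hB1 : mkQ Bz = mkQ (hjPoly y j) * mkQ (ΔT.comp (X ^ j)) * mkQ dA := by
    have := congrArg mkQ hcancel
    rw [map_mul, map_mul] at this
    calc mkQ Bz = mkQ Bz * (mkQ cA * mkQ dA) := by rw [hcdQ, mul_one]
      _ = (mkQ Bz * mkQ cA) * mkQ dA := by ring
      _ = _ := by rw [this]
  have hB2 : mkQ Bz = (j : AdjoinRoot pA) * ofQ y ^ (j - 1) * mkQ (ΔT.comp (X ^ j)) * mkQ dA := by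
    have h2 : mkQ (hjPoly y j) * (mkQ (hjPoly y j) * mkQ (ΔT.comp (X ^ j)) * mkQ dA -
        (j : AdjoinRoot pA) * ofQ y ^ (j - 1) * mkQ (ΔT.comp (X ^ j)) * mkQ dA) = 0 := by
      have h3 := hBhj
      rw [hB1] at h3
      linear_combination h3
    have h4 := (hjunit.mul_right_eq_zero).mp h2
    rw [hB1]
    exact sub_eq_zero.mp h4
  -- apply `Λ`
  have hΛB : ∀ G : A[X], tau hpAm r (mkQ (Bz * G)) = G.eval y :=
    fun G => tau_reproducing hpAm y Bz hpB r hpAd G
  have hΛk : ∀ G : k[X], tau hpAm r (mkQ (G.map φ)) = φ (tau hp r (AdjoinRoot.mk p G)) :=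
    fun G => tau_map hp φ r G
  -- expand `Δ(x^j)`
  have hΔdeg : ΔT.natDegree ≤ r := by
    have h1 := congrArg natDegree hqΔ
    have hΔm : ΔT.Monic := Polynomial.Monic.of_mul_monic_left (monic_X_sub_C T) (hqΔ ▸ hqAm)
    rw [Polynomial.Monic.natDegree_mul (monic_X_sub_C T) hΔm, natDegree_X_sub_C, hqA, hq.natDegree_map, hqd] at h1
    omega
  have hΔsum : ΔT.comp (X ^ j) = ∑ i ∈ Finset.range (r + 1), C (ΔT.coeff i) * X ^ (j * i) := by
    conv_lhs => rw [Polynomial.as_sum_range' ΔT (r + 1) (by omega)]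
    rw [Polynomial.comp, Polynomial.eval₂_finsetSum]
    refine Finset.sum_congr rfl fun i _ => ?_
    rw [Polynomial.eval₂_monomial, ← pow_mul]
  have hexp : j * s - 1 = (j - 1) + j * (s - 1) := by
    obtain ⟨s', rfl⟩ : ∃ s', s = s' + 1 := ⟨s - 1, by omega⟩
    obtain ⟨j', rfl⟩ : ∃ j', j = j' + 1 := ⟨j - 1, by omega⟩
    simp only [Nat.add_sub_cancel]
    rw [Nat.mul_succ]
    omega
  have hL : tau hpAm r (mkQ (Bz * X ^ (j * s - 1))) = y ^ (j * s - 1) := by
    rw [hΛB, Polynomial.eval_pow, Polynomial.eval_X]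
  have hterm : ∀ i : ℕ, (j : AdjoinRoot pA) * ofQ y ^ (j - 1) * mkQ (C (ΔT.coeff i) * X ^ (j * i)) * mkQ dA *
      x ^ (j * s - 1) = (y ^ (j - 1) * ΔT.coeff i) • mkQ ((C (j : k) * X ^ (j * (s + i) - 1) * d).map φ) := by
    intro i
    have e1 : j * (s + i) - 1 = j * i + (j * s - 1) := by
      have : 1 ≤ j * s := Nat.mul_pos hj1 hs
      rw [Nat.mul_add]; omega
    have e2 : mkQ ((C (j : k) * X ^ (j * (s + i) - 1) * d).map φ) =
        (j : AdjoinRoot pA) * (x ^ (j * i) * x ^ (j * s - 1)) * mkQ dA := by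
      rw [Polynomial.map_mul, Polynomial.map_mul, Polynomial.map_pow, Polynomial.map_X, Polynomial.map_C,
        map_mul, map_mul, map_pow, hmkX, hmkC, e1, pow_add, map_natCast, map_natCast]
    have e3 : mkQ (C (ΔT.coeff i) * X ^ (j * i)) = ofQ (ΔT.coeff i) * x ^ (j * i) := by
      rw [map_mul, map_pow, hmkX, hmkC]
    have e4 : ∀ (a : A) (z : AdjoinRoot pA), a • z = ofQ a * z := fun a z => Algebra.smul_def a z
    rw [e2, e3, e4, map_mul, map_pow]
    ring
  have hR : tau hpAm r (mkQ (Bz * X ^ (j * s - 1))) =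
      y ^ (j - 1) * ∑ i ∈ Finset.range (r + 1), φ (aa p d hp r j (s + i)) * ΔT.coeff i := by
    rw [map_mul, hB2, map_pow, hmkX, hΔsum, map_sum, Finset.mul_sum, Finset.sum_mul, Finset.sum_mul,
      Finset.sum_congr rfl fun i _ => hterm i, map_sum, Finset.mul_sum]
    refine Finset.sum_congr rfl fun i _ => ?_
    rw [map_smul, hΛk, smul_eq_mul]
    unfold aa
    ring
  rw [hL, hexp, pow_add] at hR
  -- cancel the unit `y^{j-1}`
  have hyunit : IsUnit y := by
    have h1 : IsNilpotent (y - 1) := ⟨N, hyN⟩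
    have := h1.isUnit_add_one
    rwa [sub_add_cancel] at this
  exact (hyunit.pow (j - 1)).mul_left_cancel hR

include hpd hq hqd hj hN hqc hcd in
/-- **Core lemma.** `τ_p(j ℓ^{js-1} d(ℓ)) = δ_{s,r+1}` for `1 ≤ s ≤ r+1`. -/
theorem core (s : ℕ) (hs1 : 1 ≤ s) (hs : s ≤ r + 1) (hj1 : 1 ≤ j) :
    aa p d hp r j s = if s = r + 1 then 1 else 0 := by
  classical
  nontriviality k
  set y : AdjoinRoot p := AdjoinRoot.root p with hy
  set T : AdjoinRoot p := y ^ j with hT
  set ΔT : (AdjoinRoot p)[X] := (q.map (AdjoinRoot.of p)) /ₘ (X - C T) with hΔT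
  have hyroot : (p.map (AdjoinRoot.of p)).IsRoot y := AdjoinRoot.isRoot_root p
  have hkey : ∀ s : ℕ, 1 ≤ s → y ^ (j * (s - 1)) =
      ∑ i ∈ Finset.range (r + 1), (AdjoinRoot.of p) (aa p d hp r j (s + i)) * ΔT.coeff i :=
    fun s hs => key_identity p q c d hp hq r hpd hqd j hj N hN hqc hcd (AdjoinRoot.of p) y hyroot s hs hj1
  have hTroot : (q.map (AdjoinRoot.of p)).IsRoot T := by
    have hqcA : (q.map (AdjoinRoot.of p)).comp (X ^ j) = p.map (AdjoinRoot.of p) * c.map (AdjoinRoot.of p) := by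
      have := congrArg (Polynomial.map (AdjoinRoot.of p)) hqc
      rwa [Polynomial.map_comp, Polynomial.map_pow, Polynomial.map_X, Polynomial.map_mul] at this
    have h1 := congrArg (Polynomial.eval y) hqcA
    rw [Polynomial.eval_comp, Polynomial.eval_pow, Polynomial.eval_X, Polynomial.eval_mul, hyroot.eq_zero,
      zero_mul] at h1
    exact h1
  have hqT : aeval T q = 0 := by
    rw [Polynomial.aeval_def]
    exact (Polynomial.eval₂_eq_eval_map _).trans hTroot
  -- `β_r = 1`
  have hβr : ΔT.coeff r = 1 := by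
    nontriviality (AdjoinRoot p)
    have hqΔ : q.map (AdjoinRoot.of p) = (X - C T) * ΔT :=
      (Polynomial.mul_divByMonic_eq_iff_isRoot.mpr hTroot).symm
    have hqAm : (q.map (AdjoinRoot.of p)).Monic := hq.map _
    have hΔm : ΔT.Monic := Polynomial.Monic.of_mul_monic_left (monic_X_sub_C T) (hqΔ ▸ hqAm)
    have h1 := congrArg natDegree hqΔ
    rw [Polynomial.Monic.natDegree_mul (monic_X_sub_C T) hΔm, natDegree_X_sub_C, hq.natDegree_map, hqd] at h1
    have h2 : ΔT.natDegree = r := by omega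
    rw [← h2]
    exact hΔm.coeff_natDegree
  -- the linear map `Φ`
  set Φ : (Fin (r + 1) → k) →ₗ[k] AdjoinRoot p :=
    Fintype.linearCombination k (fun i : Fin (r + 1) => ΔT.coeff (i : ℕ)) with hΦ
  have hΦapply : ∀ e : Fin (r + 1) → k, Φ e = ∑ i : Fin (r + 1), e i • ΔT.coeff (i : ℕ) := by
    intro e
    rw [hΦ, Fintype.linearCombination_apply]
  have hsurj : Function.Surjective Φ := by
    intro z
    have htop := adjoin_pow_eq_top (k := k) y N (root_sub_one_pow' p N hN) j hj AdjoinRoot.adjoinRoot_eq_top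
    have hz : z ∈ Algebra.adjoin k {y ^ j} := by rw [htop]; trivial
    rw [Algebra.adjoin_singleton_eq_range_aeval] at hz
    obtain ⟨G, hG⟩ := hz
    have hG' : aeval T G = z := hG
    have hmod : aeval T (G %ₘ q) = z := by
      rw [← hG']
      conv_rhs => rw [← Polynomial.modByMonic_add_div G q]
      rw [map_add, map_mul, hqT, zero_mul, add_zero]
    have hdeg : (G %ₘ q).natDegree < r + 1 := by
      rw [← hqd]
      exact Polynomial.natDegree_modByMonic_lt G hq (by
        intro h1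
        rw [h1, Polynomial.natDegree_one] at hqd
        omega)
    refine ⟨fun i => ∑ s ∈ Finset.range (r + 1), (G %ₘ q).coeff s * aa p d hp r j (s + 1 + (i : ℕ)), ?_⟩
    rw [hΦapply, ← hmod, Polynomial.aeval_eq_sum_range' hdeg]
    have h3 : ∀ s ∈ Finset.range (r + 1), (G %ₘ q).coeff s • T ^ s =
        ∑ i : Fin (r + 1), ((G %ₘ q).coeff s * aa p d hp r j (s + 1 + (i : ℕ))) • ΔT.coeff (i : ℕ) := by
      intro s _
      have h4 := hkey (s + 1) (by omega)
      rw [Nat.add_sub_cancel, pow_mul] at h4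
      rw [hT, h4, Finset.smul_sum, ← Fin.sum_univ_eq_sum_range
        (fun i => (G %ₘ q).coeff s • ((AdjoinRoot.of p) (aa p d hp r j (s + 1 + i)) * ΔT.coeff i)) (r + 1)]
      refine Finset.sum_congr rfl fun i _ => ?_
      rw [mul_smul, Algebra.smul_def (aa p d hp r j (s + 1 + (i : ℕ)))]
      rfl
    rw [Finset.sum_congr rfl h3, Finset.sum_comm]
    refine Finset.sum_congr rfl fun i _ => ?_
    rw [Finset.sum_smul]
  -- injectivity by Orzech
  have hinj : Function.Injective Φ := by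
    have hdim : (AdjoinRoot.powerBasis' hp).dim = r + 1 := by
      rw [AdjoinRoot.powerBasis'_dim, hpd]
    let b := (AdjoinRoot.powerBasis' hp).basis.reindex (finCongr hdim)
    have : Module.Finite k (AdjoinRoot p) := Module.Finite.of_basis b
    exact OrzechProperty.injective_of_surjective_of_injective b.equivFun.symm.toLinearMap Φ
      b.equivFun.symm.injective hsurj
  -- conclusion
  have h1 := hkey 1 le_rfl
  rw [Nat.sub_self, Nat.mul_zero, pow_zero] at h1
  have h5 : Φ (fun i : Fin (r + 1) => aa p d hp r j (1 + (i : ℕ))) = Φ (Pi.single (Fin.last r) 1) := by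
    rw [hΦapply, hΦapply]
    have h6 : ∑ i : Fin (r + 1), (Pi.single (Fin.last r) (1 : k) : Fin (r + 1) → k) i • ΔT.coeff (i : ℕ) = 1 := by
      rw [Finset.sum_eq_single (Fin.last r)]
      · rw [Pi.single_eq_same, one_smul, Fin.val_last, hβr]
      · intro b _ hb
        rw [Pi.single_eq_of_ne hb, zero_smul]
      · intro h; exact absurd (Finset.mem_univ _) h
    rw [h6, h1, ← Fin.sum_univ_eq_sum_range
        (fun i => ((AdjoinRoot.of p) (aa p d hp r j (1 + i)) * ΔT.coeff i)) (r + 1)]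
    refine Finset.sum_congr rfl fun i _ => ?_
    rw [Algebra.smul_def]
    rfl
  have h7 := congrFun (hinj h5) ⟨s - 1, by omega⟩
  simp only at h7
  have e1 : 1 + (s - 1) = s := by omega
  rw [e1] at h7
  rw [h7]
  by_cases hsr : s = r + 1
  · rw [if_pos hsr]
    have : (⟨s - 1, by omega⟩ : Fin (r + 1)) = Fin.last r := by
      ext; simp [Fin.val_last]; omega
    rw [this, Pi.single_eq_same]
  · rw [if_neg hsr]
    have : (⟨s - 1, by omega⟩ : Fin (r + 1)) ≠ Fin.last r := by
      intro h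
      have := congrArg Fin.val h
      simp [Fin.val_last] at this
      omega
    rw [Pi.single_eq_of_ne this]

end Core

end Groth.Agent.Lib.Helper20.KeCore
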