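import Mathlib
import Groth.Prelude.Def_LambdaRing
import Groth.Prelude.Def_KRR
import Groth.Agent.S3287
import Groth.Agent.S3792
import Groth.Agent.Lib.Helper20.LamKe
import Groth.Agent.Lib.Helper20.LamKeFil
import Groth.Agent.Lib.Helper20.KeBott
import Groth.Agent.Lib.Helper20.KeCore

/-!
# The polynomial relation `ψ^j(p_e)(X^j) = p_e · c` and Bott's class

For an extension `ι : K → L` of λ-rings with positive structure in which `p_e` has a line element
root `ℓ`, the quotient `c = ψ^j(p_e)(X^j) / p_e` evaluates at `ℓ` to `ℓ^{(j-1)m} θ^j(e ℓ⁻¹)`.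
-/

set_option autoImplicit false
universe u
open LambdaRing LambdaRing.LambdaOps Finset Polynomial

namespace Groth.Agent.Lib.Helper20.KeRel

open Groth.Agent.Lib.Helper20.LamPsiGr Groth.Agent.Lib.Helper20.LamAdams Groth.Agent.Lib.Helper20.LamSplit
  Groth.Agent.Lib.Helper20.LamDet Groth.Agent.Lib.Helper20.LamFil Groth.Agent.Lib.Helper20.LamKe
  Groth.Agent.Lib.Helper20.KeBott Groth.Agent.Lib.Helper20.KeCore

variable {K : Type u} [CommRing K] [LambdaOps K] (P : PosStructure K)

include P in
theorem nontrivial_of_pos : Nontrivial K :=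
  ⟨⟨0, 1, fun h => by have := congrArg P.aug h; simp at this⟩⟩

theorem extPoly_eq_pn (e : K) (m : ℕ) (hm : P.aug e = m) : KRR.extPoly P e = pn (cc e) m := by
  rw [extPoly_eq P e m hm, pn, ← Finset.sum_range_reflect (fun k => Polynomial.C (cc e (m - k)) * Polynomial.X ^ k)]
  refine Finset.sum_congr rfl fun i hi => ?_
  have := Finset.mem_range.mp hi
  simp only [Nat.add_sub_cancel]
  congr 3
  omega

theorem extPoly_monic (e : K) (m : ℕ) (hm : P.aug e = m) : (KRR.extPoly P e).Monic :=
  extPoly_eq_pn P e m hm ▸ pn_monic _ (cc_zero e) _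

theorem extPoly_natDegree (e : K) (m : ℕ) (hm : P.aug e = m) : (KRR.extPoly P e).natDegree = m := by
  haveI := nontrivial_of_pos P
  rw [extPoly_eq_pn P e m hm]; exact pn_natDegree _ (cc_zero e) _

/-- the image of `p_e` in a splitting extension -/
theorem map_extPoly_split {L : Type u} [CommRing L] [LambdaOps L] (PL : PosStructure L) (φ : K →+* L)
    (hφ : IsExtension P PL φ) (e : K) (m : ℕ) (hm : P.aug e = m) (s : Multiset L)
    (hs : ∀ u ∈ s, PL.IsLine u) (hsum : s.sum = φ e) :
    (KRR.extPoly P e).map φ = (s.map fun u => X - C u).prod := by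
  have hcard : Multiset.card s = m := by
    have h1 := aug_sum PL s hs
    rw [hsum, hφ.aug_comp, hm] at h1
    exact_mod_cast h1.symm
  have hlines : ∀ v ∈ s, IsLineLike v := fun v hv => isLineLike_of_isLine PL (hs v hv)
  rw [Multiset.prod_X_sub_X_eq_sum_esymm, hcard, extPoly_eq P e m hm, Polynomial.map_sum]
  refine Finset.sum_congr rfl fun i _ => ?_
  rw [Polynomial.map_mul, Polynomial.map_C, Polynomial.map_pow, Polynomial.map_X, cc, map_mul, map_pow,
    map_neg, map_one, hφ.isLambdaHom, ← hsum, Groth.Agent.S3792.lam_sum_eq_esymm s hlines, map_mul, map_pow,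
    map_neg, map_one, mul_assoc]

section Rel

variable {L : Type u} [CommRing L] [LambdaOps L]
  (hK : HasSplitting K P) (PL : PosStructure L) (hL : HasSplitting L PL)
  (ι : K →+* L) (hι : IsExtension P PL ι)
  (e : K) (he : e ∈ P.pos) (m : ℕ) (hm : P.aug e = m)
  (ℓ linv : L) (hℓ : PL.IsLine ℓ) (hlinv : linv * ℓ = 1) (hroot : (KRR.extPoly P e).eval₂ ι ℓ = 0)
  (j : ℕ)

/-- `q = ψ^j(p_e)` -/
noncomputable def qpoly : K[X] := (KRR.extPoly P e).map (adamsHom P hK j)

include hm in
theorem qpoly_monic : (qpoly P hK e j).Monic := (extPoly_monic P e m hm).map _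

include hm in
theorem qpoly_natDegree : (qpoly P hK e j).natDegree = m := by
  haveI := nontrivial_of_pos P
  rw [qpoly, (extPoly_monic P e m hm).natDegree_map, extPoly_natDegree P e m hm]

include hι in
theorem adamsHom_comp : (adamsHom PL hL j).comp ι = ι.comp (adamsHom P hK j) := by
  ext x
  simp only [RingHom.comp_apply, adamsHom_apply]
  exact (map_adams P PL ι hι j x).symm

include hι hℓ hroot hL in
theorem qpoly_eval : (qpoly P hK e j).eval₂ ι (ℓ ^ j) = 0 := by
  have h1 := congrArg (adamsHom PL hL j) hroot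
  rw [map_zero, Polynomial.hom_eval₂, adamsHom_apply, Groth.Agent.S3287.result L PL ℓ hℓ j,
    adamsHom_comp P hK PL hL ι hι j] at h1
  rw [qpoly, Polynomial.eval₂_map]; exact h1

theorem hjPoly_eval {A : Type*} [CommRing A] (u x xinv : A) (hx : xinv * x = 1) (j : ℕ) :
    (hjPoly u j).eval x = x ^ (j - 1) * ∑ k ∈ Finset.range j, (u * xinv) ^ k := by
  rw [hjPoly, Polynomial.eval_finsetSum, Finset.mul_sum, ← Finset.sum_range_reflect]
  refine Finset.sum_congr rfl fun k hk => ?_
  have hk' := Finset.mem_range.mp hk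
  rw [Polynomial.eval_mul, Polynomial.eval_pow, Polynomial.eval_pow, Polynomial.eval_X, Polynomial.eval_C]
  have h1 : j - 1 - (j - 1 - k) = k := by omega
  rw [h1, mul_pow]
  have h2 : x ^ (j - 1) = x ^ (j - 1 - k) * x ^ k := by rw [← pow_add]; congr 1; omega
  have h3 : x ^ k * xinv ^ k = 1 := by rw [← mul_pow, mul_comm, hx, one_pow]
  rw [h2]
  linear_combination (-(x ^ (j - 1 - k) * u ^ k)) * h3

include hι he hm hℓ hlinv hL in
/-- the value of `c = ψ^j(p_e)(X^j)/p_e` at `ℓ` -/
theorem eval_c (c : K[X]) (hqc : (qpoly P hK e j).comp (X ^ j) = KRR.extPoly P e * c) :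
    c.eval₂ ι ℓ = ℓ ^ ((j - 1) * m) * KRR.bott PL j (ι e * linv) := by
  obtain ⟨L', φ, hL', hφ, s, hs, hsum⟩ := exists_split' PL hL (ι e) (hι.pos_subset e he)
  apply hφ.injective
  have hφ' : IsExtension P L'.posStr (φ.comp ι) := isExtension_comp P PL L'.posStr ι φ hι hφ
  have hcard : Multiset.card s = m := by
    have h1 := aug_sum L'.posStr s hs
    rw [hsum, hφ.aug_comp, hι.aug_comp, hm] at h1
    exact_mod_cast h1.symm
  have hp' := map_extPoly_split P L'.posStr (φ.comp ι) hφ' e m hm s hs hsum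
  have hq' : (qpoly P hK e j).map (φ.comp ι) = (s.map fun u => X - C (u ^ j)).prod := by
    rw [qpoly, Polynomial.map_map, ← adamsHom_comp P hK L'.posStr hL' (φ.comp ι) hφ' j,
      ← Polynomial.map_map, hp', Polynomial.map_multiset_prod, Multiset.map_map]
    congr 1
    refine Multiset.map_congr rfl fun u hu => ?_
    simp only [Function.comp_apply, Polynomial.map_sub, Polynomial.map_X, Polynomial.map_C, adamsHom_apply]
    rw [Groth.Agent.S3287.result _ L'.posStr u (hs u hu) j]
  have hpm : ((s.map fun u => X - C u).prod : L'.carrier[X]).Monic :=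
    Polynomial.monic_multiset_prod_of_monic _ _ fun u _ => Polynomial.monic_X_sub_C u
  have hc' : c.map (φ.comp ι) = (s.map fun u => hjPoly u j).prod := by
    have h1 := congrArg (Polynomial.map (φ.comp ι)) hqc
    rw [Polynomial.map_comp, Polynomial.map_mul, hq', hp', Polynomial.map_pow, Polynomial.map_X] at h1
    have h2 : ((s.map fun u => X - C (u ^ j)).prod : L'.carrier[X]).comp (X ^ j) =
        (s.map fun u => X - C u).prod * (s.map fun u => hjPoly u j).prod := by
      rw [← Multiset.prod_map_mul, Polynomial.multiset_prod_comp, Multiset.map_map]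
      congr 1
      refine Multiset.map_congr rfl fun u _ => ?_
      simp only [Function.comp_apply, Polynomial.sub_comp, Polynomial.X_comp, Polynomial.C_comp]
      rw [hjPoly_mul]
    rw [h2] at h1
    exact (hpm.isRegular.left h1).symm
  have h3 : φ (c.eval₂ ι ℓ) = (c.map (φ.comp ι)).eval (φ ℓ) := by
    rw [Polynomial.hom_eval₂, Polynomial.eval_map]
  have hlinv' : φ linv * φ ℓ = 1 := by rw [← map_mul, hlinv, map_one]
  rw [h3, hc', Polynomial.eval_multiset_prod, Multiset.map_map, map_mul, map_pow,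
    map_bott_mul_inv PL hL L'.posStr φ hφ (ι e) ℓ linv m (by rw [hι.aug_comp, hm]) hℓ hlinv j s hs hsum]
  have h4 : (φ ℓ) ^ ((j - 1) * m) = (s.map fun _ => (φ ℓ) ^ (j - 1)).prod := by
    rw [Multiset.map_const', Multiset.prod_replicate, hcard, ← pow_mul]
  rw [h4, ← Multiset.prod_map_mul]
  congr 1
  refine Multiset.map_congr rfl fun u _ => ?_
  simp only [Function.comp_apply]
  exact hjPoly_eval u (φ ℓ) (φ linv) hlinv' j

include hι he hm hℓ hlinv hL in
theorem aug_bott_mul_inv : PL.aug (KRR.bott PL j (ι e * linv)) = (j : ℤ) ^ m := by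
  obtain ⟨L', φ, hL', hφ, s, hs, hsum⟩ := exists_split' PL hL (ι e) (hι.pos_subset e he)
  have hcard : Multiset.card s = m := by
    have h1 := aug_sum L'.posStr s hs
    rw [hsum, hφ.aug_comp, hι.aug_comp, hm] at h1
    exact_mod_cast h1.symm
  have hlinv' : L'.posStr.aug (φ linv) = 1 := by
    rw [hφ.aug_comp]; exact aug_inv PL ℓ linv hℓ hlinv
  rw [← hφ.aug_comp,
    map_bott_mul_inv PL hL L'.posStr φ hφ (ι e) ℓ linv m (by rw [hι.aug_comp, hm]) hℓ hlinv j s hs hsum,
    map_multiset_prod, Multiset.map_map]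
  have h1 : ∀ u ∈ s, (L'.posStr.aug ∘ fun u => ∑ k ∈ Finset.range j, (u * φ linv) ^ k) u = (j : ℤ) := by
    intro u hu
    simp only [Function.comp_apply, map_sum, map_pow, map_mul, hlinv', (hs u hu).2, mul_one, one_pow,
      Finset.sum_const, Finset.card_range, nsmul_eq_mul]
  rw [Multiset.map_congr rfl h1, Multiset.map_const', Multiset.prod_replicate, hcard]

theorem pow_eq_zero_of_aug_eq_zero (N : ℕ) (hN : gammaFiltration PL N = ⊥) (x : L) (hx : PL.aug x = 0) :
    x ^ N = 0 := by
  have h1 := Groth.Agent.Lib.Helper20.LamPsiGr.pow_mem PL 1 x (mem_gammaFiltration_one PL x hx) N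
  rw [Nat.mul_one, hN] at h1
  exact AddSubgroup.mem_bot.mp h1

end Rel

end Groth.Agent.Lib.Helper20.KeRel
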