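import Mathlib
import Groth.Agent.Lib.Helper20.KeCore

/-!
# The Adams–Riemann–Roch identity for `A[X]/(p)` after tensoring with `R`

Abstract algebraic form (no λ-rings).
-/

set_option autoImplicit false
open Polynomial
open scoped TensorProduct

namespace Groth.Agent.Lib.Helper20.KeTensor

open Groth.Agent.Lib.Helper20.KeCore

theorem pow_mul_inv_pow_eq {B : Type*} [CommRing B] (l linv : B) (h : linv * l = 1) (a b a' b' : ℕ)
    (hab : a + b' = a' + b) : l ^ a * linv ^ b = l ^ a' * linv ^ b' := by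
  have h1 : linv ^ b' * l ^ b' = 1 := by rw [← mul_pow, h, one_pow]
  have h2 : linv ^ b * l ^ b = 1 := by rw [← mul_pow, h, one_pow]
  have h3 : l ^ a * l ^ b' = l ^ a' * l ^ b := by rw [← pow_add, ← pow_add, hab]
  linear_combination (-(l ^ a * linv ^ b)) * h1 + (linv ^ b * linv ^ b') * h3 + (l ^ a' * linv ^ b') * h2

section Helpers

variable {A : Type*} [CommRing A] (p : A[X]) (R : Type*) [CommRing R]

/-- `A → R ⊗ A` -/
noncomputable def φk : A →+* R ⊗[ℤ] A :=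
  (Algebra.TensorProduct.includeRight : A →ₐ[ℤ] R ⊗[ℤ] A).toRingHom

/-- `R ⊗ A → R ⊗ A[X]/(p)` -/
noncomputable def ιS : R ⊗[ℤ] A →+* R ⊗[ℤ] AdjoinRoot p :=
  (Algebra.TensorProduct.map (AlgHom.id ℤ R) ((AdjoinRoot.of p).toIntAlgHom)).toRingHom

/-- `A[X]/(p) → R ⊗ A[X]/(p)` -/
noncomputable def incC : AdjoinRoot p →+* R ⊗[ℤ] AdjoinRoot p :=
  (Algebra.TensorProduct.includeRight : AdjoinRoot p →ₐ[ℤ] R ⊗[ℤ] AdjoinRoot p).toRingHom

theorem φk_apply (a : A) : φk R a = (1 : R) ⊗ₜ[ℤ] a := rfl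

theorem incC_apply (y : AdjoinRoot p) : incC p R y = (1 : R) ⊗ₜ[ℤ] y := rfl

theorem ιS_tmul (x : R) (a : A) : ιS p R (x ⊗ₜ[ℤ] a) = x ⊗ₜ[ℤ] AdjoinRoot.of p a := by
  simp [ιS]

theorem ιS_comp_φk : (ιS p R).comp (φk R) = (incC p R).comp (AdjoinRoot.of p) := by
  ext a
  simp [φk_apply, incC_apply, ιS_tmul]

variable (f : AdjoinRoot p →ₗ[A] A)

theorem F_ιS_mul (a : R ⊗[ℤ] A) (s : R ⊗[ℤ] AdjoinRoot p) :
    LinearMap.lTensor R f.toAddMonoidHom.toIntLinearMap (ιS p R a * s) =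
      a * LinearMap.lTensor R f.toAddMonoidHom.toIntLinearMap s := by
  induction a using TensorProduct.induction_on with
  | zero => simp
  | add a b ha hb => rw [map_add, add_mul, map_add, ha, hb, add_mul]
  | tmul x a =>
    induction s using TensorProduct.induction_on with
    | zero => simp
    | add s t hs ht => rw [mul_add, map_add, hs, ht, map_add, mul_add]
    | tmul y z =>
      rw [ιS_tmul, Algebra.TensorProduct.tmul_mul_tmul, LinearMap.lTensor_tmul, LinearMap.lTensor_tmul,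
        Algebra.TensorProduct.tmul_mul_tmul]
      congr 1
      change f (AdjoinRoot.of p a * z) = a * f z
      rw [← AdjoinRoot.algebraMap_eq, ← Algebra.smul_def, map_smul, smul_eq_mul]

theorem F_incC (y : AdjoinRoot p) :
    LinearMap.lTensor R f.toAddMonoidHom.toIntLinearMap ((1 : R) ⊗ₜ[ℤ] y) = (1 : R) ⊗ₜ[ℤ] f y := by
  rw [LinearMap.lTensor_tmul]; rfl

theorem eval₂_ιS_map (g : A[X]) :
    (g.map (φk R)).eval₂ (ιS p R) ((1 : R) ⊗ₜ[ℤ] AdjoinRoot.root p) = (1 : R) ⊗ₜ[ℤ] AdjoinRoot.mk p g := by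
  rw [Polynomial.eval₂_map, ιS_comp_φk, ← incC_apply, ← Polynomial.hom_eval₂, incC_apply]
  congr 1
  rw [← AdjoinRoot.aeval_eq, Polynomial.aeval_def, AdjoinRoot.algebraMap_eq]

/-- `(R ⊗ A)[X]/(p) → R ⊗ A[X]/(p)` -/
noncomputable def κ : AdjoinRoot (p.map (φk R)) →+* R ⊗[ℤ] AdjoinRoot p :=
  AdjoinRoot.lift (ιS p R) ((1 : R) ⊗ₜ[ℤ] AdjoinRoot.root p) (by
    rw [eval₂_ιS_map, AdjoinRoot.mk_self, TensorProduct.tmul_zero])

theorem κ_mk (g : (R ⊗[ℤ] A)[X]) :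
    κ p R (AdjoinRoot.mk _ g) = g.eval₂ (ιS p R) ((1 : R) ⊗ₜ[ℤ] AdjoinRoot.root p) := by
  rw [κ, AdjoinRoot.lift_mk]

theorem κ_mk_map (g : A[X]) :
    κ p R (AdjoinRoot.mk _ (g.map (φk R))) = (1 : R) ⊗ₜ[ℤ] AdjoinRoot.mk p g := by
  rw [κ_mk, eval₂_ιS_map]

theorem κ_of (a : R ⊗[ℤ] A) : κ p R (AdjoinRoot.of _ a) = ιS p R a := by
  rw [κ, AdjoinRoot.lift_of]

theorem κ_root : κ p R (AdjoinRoot.root _) = (1 : R) ⊗ₜ[ℤ] AdjoinRoot.root p := by
  rw [κ, AdjoinRoot.lift_root]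

end Helpers

/-- an additive functional on `k[X]/(g)`, linear over `k`, which is the `r`-th coordinate on the
power basis, is `tau` -/
theorem eq_tau {k : Type*} [CommRing k] {g : k[X]} (hg : g.Monic) (r : ℕ) (hgd : g.natDegree = r + 1)
    (G : AdjoinRoot g →+ k) (hsmul : ∀ (a : k) (x : AdjoinRoot g), G (AdjoinRoot.of g a * x) = a * G x)
    (hG : ∀ i : ℕ, i ≤ r → G (AdjoinRoot.root g ^ i) = if i = r then 1 else 0) (z : AdjoinRoot g) :
    G z = tau hg r z := by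
  classical
  obtain ⟨f0, rfl⟩ := AdjoinRoot.mk_surjective z
  rw [tau_mk]
  have hz : AdjoinRoot.mk g f0 = AdjoinRoot.mk g (f0 %ₘ g) := by
    rw [AdjoinRoot.mk_eq_mk]
    refine ⟨f0 /ₘ g, ?_⟩
    have := Polynomial.modByMonic_add_div f0 g
    linear_combination -this
  have hlt : (f0 %ₘ g).natDegree < r + 1 := by
    rw [← hgd]
    exact Polynomial.natDegree_modByMonic_lt f0 hg (by intro h1; rw [h1] at hgd; simp at hgd)
  rw [hz]
  conv_lhs => rw [Polynomial.as_sum_range' (f0 %ₘ g) (r + 1) hlt]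
  rw [map_sum, map_sum]
  have h1 : ∀ i ∈ Finset.range (r + 1), G (AdjoinRoot.mk g (Polynomial.monomial i ((f0 %ₘ g).coeff i))) =
      (f0 %ₘ g).coeff i * (if i = r then 1 else 0) := by
    intro i hi
    have hi' := Finset.mem_range.mp hi
    rw [← Polynomial.C_mul_X_pow_eq_monomial, map_mul, AdjoinRoot.mk_C, map_pow, AdjoinRoot.mk_X, hsmul,
      hG i (by omega)]
  rw [Finset.sum_congr rfl h1]
  simp [Finset.sum_ite_eq']

theorem exists_decomp {A : Type*} [CommRing A] (p : A[X]) (hp : p.Monic) (r : ℕ) (hpd : p.natDegree = r + 1)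
    (linv : AdjoinRoot p) (hlinv : linv * AdjoinRoot.root p = 1) (x : AdjoinRoot p) :
    ∃ h : ℕ → A, x = ∑ i ∈ Finset.range (r + 1),
      AdjoinRoot.of p (h i) * (AdjoinRoot.root p ^ i * linv ^ r) := by
  obtain ⟨f0, hf0⟩ := AdjoinRoot.mk_surjective (x * AdjoinRoot.root p ^ r)
  have hz : AdjoinRoot.mk p f0 = AdjoinRoot.mk p (f0 %ₘ p) := by
    rw [AdjoinRoot.mk_eq_mk]
    refine ⟨f0 /ₘ p, ?_⟩
    have := Polynomial.modByMonic_add_div f0 p
    linear_combination -this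
  have hlt : (f0 %ₘ p).natDegree < r + 1 := by
    rw [← hpd]
    exact Polynomial.natDegree_modByMonic_lt f0 hp (by intro h1; rw [h1] at hpd; simp at hpd)
  refine ⟨(f0 %ₘ p).coeff, ?_⟩
  have h1 : x * AdjoinRoot.root p ^ r = ∑ i ∈ Finset.range (r + 1),
      AdjoinRoot.of p ((f0 %ₘ p).coeff i) * AdjoinRoot.root p ^ i := by
    rw [← hf0, hz]
    conv_lhs => rw [Polynomial.as_sum_range' (f0 %ₘ p) (r + 1) hlt]
    rw [map_sum]
    refine Finset.sum_congr rfl fun i _ => ?_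
    rw [← Polynomial.C_mul_X_pow_eq_monomial, map_mul, AdjoinRoot.mk_C, map_pow, AdjoinRoot.mk_X]
  have h2 : AdjoinRoot.root p ^ r * linv ^ r = 1 := by rw [← mul_pow, mul_comm, hlinv, one_pow]
  calc x = x * AdjoinRoot.root p ^ r * linv ^ r := by rw [mul_assoc, h2, mul_one]
    _ = _ := by
      rw [h1, Finset.sum_mul]
      refine Finset.sum_congr rfl fun i _ => ?_
      rw [mul_assoc]

theorem isUnit_mk_of_nilp {k : Type*} [CommRing k] (g c : k[X]) (u : k) (hu : IsUnit u) (N : ℕ)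
    (h : g ∣ (c - C u) ^ N) : IsUnit (AdjoinRoot.mk g c) := by
  have hnil : (AdjoinRoot.mk g c - AdjoinRoot.of g u) ^ N = 0 := by
    have := AdjoinRoot.mk_eq_zero.mpr h
    rwa [map_pow, map_sub, AdjoinRoot.mk_C] at this
  have h1 : IsNilpotent (AdjoinRoot.mk g c - AdjoinRoot.of g u) := ⟨N, hnil⟩
  have h2 : IsUnit (AdjoinRoot.of g u) := hu.map (AdjoinRoot.of g)
  have := h1.isUnit_add_left_of_commute h2 (Commute.all _ _)
  rwa [add_sub_cancel] at this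

section Resid

variable {k : Type*} [CommRing k] [Nontrivial k] (p q c : k[X]) (hp : p.Monic) (hq : q.Monic) (r : ℕ)
  (hpd : p.natDegree = r + 1) (hqd : q.natDegree = r + 1) (j : ℕ) (hj1 : 1 ≤ j) (hj : IsUnit (j : k))
  (N : ℕ) (hN : p ∣ (X - 1) ^ N) (hqc : q.comp (X ^ j) = p * c) (u : k) (hu : IsUnit u)
  (hcN : p ∣ (c - C u) ^ N)
  {S : Type*} [CommRing S] (κ : AdjoinRoot p →+* S) (F : S →+ k)
  (hF : ∀ (a : k) (s : S), F (κ (AdjoinRoot.of p a) * s) = a * F s)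
  (Li : S) (hLi : Li * κ (AdjoinRoot.root p) = 1)
  (hFl : ∀ i : ℕ, i ≤ r → F (κ (AdjoinRoot.root p) ^ i * Li ^ r) = if i = r then 1 else 0)

include hp hq hpd hqd hj1 hj hN hqc hu hcN hF hLi hFl in
theorem resid : ∃ d : AdjoinRoot p, AdjoinRoot.mk p c * d = 1 ∧
    ∀ i : ℕ, i ≤ r → F ((j : S) * (κ d * κ (AdjoinRoot.root p) ^ ((j - 1) * (r + 1))) *
      (κ (AdjoinRoot.root p) ^ (j * i) * Li ^ (j * r))) = if i = r then 1 else 0 := by
  classical
  obtain ⟨dS, hdS⟩ := (isUnit_mk_of_nilp p c u hu N hcN).exists_right_inv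
  obtain ⟨dk, rfl⟩ := AdjoinRoot.mk_surjective dS
  have hcdk : p ∣ c * dk - 1 := by
    rw [← AdjoinRoot.mk_eq_zero, map_sub, map_mul, map_one, hdS, sub_self]
  refine ⟨AdjoinRoot.mk p dk, hdS, ?_⟩
  let G : AdjoinRoot p →+ k := F.comp ((AddMonoidHom.mulRight (Li ^ r)).comp κ.toAddMonoidHom)
  have hGapp : ∀ z, G z = F (κ z * Li ^ r) := fun z => rfl
  have hGsmul : ∀ (a : k) (x : AdjoinRoot p), G (AdjoinRoot.of p a * x) = a * G x := by
    intro a x
    rw [hGapp, hGapp, map_mul κ, mul_assoc, hF]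
  have hGpow : ∀ i : ℕ, i ≤ r → G (AdjoinRoot.root p ^ i) = if i = r then 1 else 0 := by
    intro i hi
    rw [hGapp, map_pow, hFl i hi]
  have hGtau := eq_tau hp r hpd G hGsmul hGpow
  intro i hi
  have hcore := core p q c dk hp hq r hpd hqd j hj N hN hqc hcdk (i + 1) (by omega) (by omega) hj1
  rw [aa, ← hGtau, hGapp] at hcore
  have harith : (j - 1) * (r + 1) + j * i + r = j * (i + 1) - 1 + j * r := by
    obtain ⟨j', rfl⟩ : ∃ j', j = j' + 1 := ⟨j - 1, by omega⟩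
    have e1 : (j' + 1) * (i + 1) - 1 = j' * i + j' + i := by
      rw [show (j' + 1) * (i + 1) = j' * i + j' + i + 1 by ring]; rfl
    rw [Nat.add_sub_cancel, e1]
    ring
  have hpow := pow_mul_inv_pow_eq (κ (AdjoinRoot.root p)) Li hLi
    ((j - 1) * (r + 1) + j * i) (j * r) (j * (i + 1) - 1) r harith
  have hrew : (j : S) * (κ (AdjoinRoot.mk p dk) * κ (AdjoinRoot.root p) ^ ((j - 1) * (r + 1))) *
      (κ (AdjoinRoot.root p) ^ (j * i) * Li ^ (j * r)) =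
      κ (AdjoinRoot.mk p (C ((j : ℕ) : k) * X ^ (j * (i + 1) - 1) * dk)) * Li ^ r := by
    rw [map_mul (AdjoinRoot.mk p), map_mul (AdjoinRoot.mk p), map_natCast C, map_natCast (AdjoinRoot.mk p),
      map_pow, AdjoinRoot.mk_X, map_mul, map_mul, map_pow, map_natCast]
    rw [pow_add] at hpow
    linear_combination ((j : S) * κ (AdjoinRoot.mk p dk)) * hpow
  rw [hrew, hcore]
  simp

end Resid

section Main

variable {A : Type*} [CommRing A] (p q c : A[X]) (hp : p.Monic) (hq : q.Monic) (r : ℕ)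
  (hpd : p.natDegree = r + 1) (hqd : q.natDegree = r + 1)
  (f : AdjoinRoot p →ₗ[A] A) (linv : AdjoinRoot p) (hlinv : linv * AdjoinRoot.root p = 1)
  (hfl : ∀ i : ℕ, i ≤ r → f (AdjoinRoot.root p ^ i * linv ^ r) = if i = r then 1 else 0)
  (R : Type*) [CommRing R] (j : ℕ) (hj1 : 1 ≤ j) (hj : IsUnit (j : R))
  (hqc : q.comp (X ^ j) = p * c) (N : ℕ) (hN : p ∣ (X - 1) ^ N) (M : ℕ)
  (hcN : p ∣ (c - C ((j : A) ^ M)) ^ N)
  (Θ : AdjoinRoot p) (hΘ : AdjoinRoot.mk p c = AdjoinRoot.root p ^ ((j - 1) * (r + 1)) * Θ)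
  (ψA : A →+* A) (ψC : AdjoinRoot p →+* AdjoinRoot p)
  (hψof : ∀ a : A, ψC (AdjoinRoot.of p a) = AdjoinRoot.of p (ψA a))
  (hψroot : ψC (AdjoinRoot.root p) = AdjoinRoot.root p ^ j)

include hp hq hpd hqd hlinv hfl hj1 hj hqc hN hcN hΘ in
/-- the inverse `w₀` of `1 ⊗ Θ` and the residue computation -/
theorem exists_w0 [Nontrivial (R ⊗[ℤ] A)] :
    ∃ w0 : R ⊗[ℤ] AdjoinRoot p, w0 * ((1 : R) ⊗ₜ[ℤ] Θ) = 1 ∧
      ∀ i : ℕ, i ≤ r → LinearMap.lTensor R f.toAddMonoidHom.toIntLinearMap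
        ((j : R ⊗[ℤ] AdjoinRoot p) * w0 * (((1 : R) ⊗ₜ[ℤ] AdjoinRoot.root p) ^ (j * i) *
          ((1 : R) ⊗ₜ[ℤ] linv) ^ (j * r))) = if i = r then 1 else 0 := by
  classical
  have hpk : (p.map (φk R)).Monic := hp.map _
  have hqk : (q.map (φk R)).Monic := hq.map _
  have hpkd : (p.map (φk R)).natDegree = r + 1 := by rw [hp.natDegree_map, hpd]
  have hqkd : (q.map (φk R)).natDegree = r + 1 := by rw [hq.natDegree_map, hqd]
  have hjk : IsUnit ((j : ℕ) : R ⊗[ℤ] A) := by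
    have := hj.map (Algebra.TensorProduct.includeLeftRingHom : R →+* R ⊗[ℤ] A)
    simpa using this
  have hNk : p.map (φk R) ∣ (X - 1) ^ N := by
    have := Polynomial.map_dvd (φk R) hN
    simpa using this
  have hqck : (q.map (φk R)).comp (X ^ j) = p.map (φk R) * c.map (φk R) := by
    have := congrArg (Polynomial.map (φk R)) hqc
    simpa [Polynomial.map_comp] using this
  have hcNk : p.map (φk R) ∣ (c.map (φk R) - C (((j : ℕ) : R ⊗[ℤ] A) ^ M)) ^ N := by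
    have := Polynomial.map_dvd (φk R) hcN
    simpa using this
  have hLi : ((1 : R) ⊗ₜ[ℤ] linv) * κ p R (AdjoinRoot.root _) = 1 := by
    rw [κ_root, Algebra.TensorProduct.tmul_mul_tmul, hlinv, one_mul, Algebra.TensorProduct.one_def]
  have hF : ∀ (a : R ⊗[ℤ] A) (s : R ⊗[ℤ] AdjoinRoot p),
      (LinearMap.lTensor R f.toAddMonoidHom.toIntLinearMap).toAddMonoidHom
        (κ p R (AdjoinRoot.of _ a) * s) =
      a * (LinearMap.lTensor R f.toAddMonoidHom.toIntLinearMap).toAddMonoidHom s := by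
    intro a s
    rw [κ_of]
    exact F_ιS_mul p R f a s
  have hFl : ∀ i : ℕ, i ≤ r → (LinearMap.lTensor R f.toAddMonoidHom.toIntLinearMap).toAddMonoidHom
      (κ p R (AdjoinRoot.root _) ^ i * ((1 : R) ⊗ₜ[ℤ] linv) ^ r) = if i = r then 1 else 0 := by
    intro i hi
    rw [κ_root, Algebra.TensorProduct.tmul_pow, Algebra.TensorProduct.tmul_pow,
      Algebra.TensorProduct.tmul_mul_tmul, one_pow, one_pow, one_mul]
    rw [LinearMap.toAddMonoidHom_coe, F_incC, hfl i hi]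
    split_ifs
    · rw [Algebra.TensorProduct.one_def]
    · rw [TensorProduct.tmul_zero]
  have h0 := resid (k := R ⊗[ℤ] A) (S := R ⊗[ℤ] AdjoinRoot p) (p.map (φk R)) (q.map (φk R)) (c.map (φk R)) hpk hqk r hpkd hqkd j hj1 hjk N hNk
    hqck _ (hjk.pow M) hcNk (κ p R) (LinearMap.lTensor R f.toAddMonoidHom.toIntLinearMap).toAddMonoidHom
  have h1 := h0 hF ((1 : R) ⊗ₜ[ℤ] linv) hLi
  obtain ⟨d, hd, hres⟩ := h1 hFl
  refine ⟨κ p R d * ((1 : R) ⊗ₜ[ℤ] AdjoinRoot.root p) ^ ((j - 1) * (r + 1)), ?_, ?_⟩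
  · rw [mul_assoc, Algebra.TensorProduct.tmul_pow, Algebra.TensorProduct.tmul_mul_tmul, one_pow, one_mul,
      ← hΘ, ← κ_mk_map, ← map_mul, mul_comm, hd, map_one]
  · intro i hi
    have := hres i hi
    rw [κ_root] at this
    exact this

include hp hq hpd hqd hlinv hfl hj1 hj hqc hN hcN hΘ hψof hψroot in
theorem main :
    (∃ w : R ⊗[ℤ] AdjoinRoot p, w * ((1 : R) ⊗ₜ[ℤ] Θ) = 1) ∧
    ∀ w : R ⊗[ℤ] AdjoinRoot p, w * ((1 : R) ⊗ₜ[ℤ] Θ) = 1 → ∀ x : AdjoinRoot p,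
      (1 : R) ⊗ₜ[ℤ] ψA (f x) =
        LinearMap.lTensor R f.toAddMonoidHom.toIntLinearMap
          ((j : R ⊗[ℤ] AdjoinRoot p) * w * ((1 : R) ⊗ₜ[ℤ] ψC x)) := by
  classical
  rcases subsingleton_or_nontrivial (R ⊗[ℤ] A) with hsub | hnt
  · have hS : Subsingleton (R ⊗[ℤ] AdjoinRoot p) := by
      have h01 : (0 : R ⊗[ℤ] AdjoinRoot p) = 1 := by
        rw [← map_zero (ιS p R), ← map_one (ιS p R)]
        congr 1
        exact Subsingleton.elim _ _
      exact subsingleton_of_zero_eq_one h01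
    exact ⟨⟨0, Subsingleton.elim _ _⟩, fun w _ x => Subsingleton.elim _ _⟩
  · obtain ⟨w0, hw0, hres⟩ := exists_w0 p q c hp hq r hpd hqd f linv hlinv hfl R j hj1 hj hqc N hN M hcN Θ hΘ
    refine ⟨⟨w0, hw0⟩, ?_⟩
    intro w hw x
    have hww : w = w0 := by
      calc w = w * (((1 : R) ⊗ₜ[ℤ] Θ) * w0) := by rw [mul_comm _ w0, hw0, mul_one]
        _ = w0 := by rw [← mul_assoc, hw, one_mul]
    subst hww
    obtain ⟨h, hx⟩ := exists_decomp p hp r hpd linv hlinv x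
    have hψlinv : ψC linv = linv ^ j := by
      have h1 : ψC linv * AdjoinRoot.root p ^ j = 1 := by rw [← hψroot, ← map_mul, hlinv, map_one]
      have h2 : linv ^ j * AdjoinRoot.root p ^ j = 1 := by rw [← mul_pow, hlinv, one_pow]
      calc ψC linv = ψC linv * (linv ^ j * AdjoinRoot.root p ^ j) := by rw [h2, mul_one]
        _ = (ψC linv * AdjoinRoot.root p ^ j) * linv ^ j := by ring
        _ = linv ^ j := by rw [h1, one_mul]
    have hfx : f x = h r := by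
      rw [hx, map_sum]
      have h1 : ∀ i ∈ Finset.range (r + 1),
          f (AdjoinRoot.of p (h i) * (AdjoinRoot.root p ^ i * linv ^ r)) = h i * (if i = r then 1 else 0) := by
        intro i hi
        have hi' := Finset.mem_range.mp hi
        rw [← AdjoinRoot.algebraMap_eq, ← Algebra.smul_def, map_smul, smul_eq_mul, hfl i (by omega)]
      rw [Finset.sum_congr rfl h1]
      simp [Finset.sum_ite_eq']
    have hψx : (1 : R) ⊗ₜ[ℤ] ψC x = ∑ i ∈ Finset.range (r + 1),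
        ιS p R ((1 : R) ⊗ₜ[ℤ] ψA (h i)) * (((1 : R) ⊗ₜ[ℤ] AdjoinRoot.root p) ^ (j * i) *
          ((1 : R) ⊗ₜ[ℤ] linv) ^ (j * r)) := by
      rw [hx, map_sum, TensorProduct.tmul_sum]
      refine Finset.sum_congr rfl fun i _ => ?_
      rw [map_mul, map_mul, map_pow, map_pow, hψof, hψroot, hψlinv, ιS_tmul,
        Algebra.TensorProduct.tmul_pow, Algebra.TensorProduct.tmul_pow, Algebra.TensorProduct.tmul_mul_tmul,
        Algebra.TensorProduct.tmul_mul_tmul, one_pow, one_pow, one_mul, one_mul, ← pow_mul, ← pow_mul]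
    rw [hψx, Finset.mul_sum, map_sum, hfx]
    have h2 : ∀ i ∈ Finset.range (r + 1), LinearMap.lTensor R f.toAddMonoidHom.toIntLinearMap
        ((j : R ⊗[ℤ] AdjoinRoot p) * w * (ιS p R ((1 : R) ⊗ₜ[ℤ] ψA (h i)) *
          (((1 : R) ⊗ₜ[ℤ] AdjoinRoot.root p) ^ (j * i) * ((1 : R) ⊗ₜ[ℤ] linv) ^ (j * r)))) =
        ((1 : R) ⊗ₜ[ℤ] ψA (h i)) * (if i = r then 1 else 0) := by
      intro i hi
      have hi' := Finset.mem_range.mp hi
      have h3 : (j : R ⊗[ℤ] AdjoinRoot p) * w * (ιS p R ((1 : R) ⊗ₜ[ℤ] ψA (h i)) *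
          (((1 : R) ⊗ₜ[ℤ] AdjoinRoot.root p) ^ (j * i) * ((1 : R) ⊗ₜ[ℤ] linv) ^ (j * r))) =
          ιS p R ((1 : R) ⊗ₜ[ℤ] ψA (h i)) * ((j : R ⊗[ℤ] AdjoinRoot p) * w *
          (((1 : R) ⊗ₜ[ℤ] AdjoinRoot.root p) ^ (j * i) * ((1 : R) ⊗ₜ[ℤ] linv) ^ (j * r))) := by ring
      rw [h3, F_ιS_mul, hres i (by omega)]
    rw [Finset.sum_congr rfl h2]
    simp [Finset.sum_ite_eq']

end Main

end Groth.Agent.Lib.Helper20.KeTensor
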