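import Mathlib

set_option autoImplicit false
universe u

open TensorProduct

namespace Groth.Agent.Lib.Helper20.TKer

/-- Over a field, the kernel of a tensor product of algebra maps is generated by the kernels. -/
theorem ker_map_field {k R₁ R₂ R₁' R₂' : Type u} [Field k] [CommRing R₁] [CommRing R₂]
    [CommRing R₁'] [CommRing R₂'] [Algebra k R₁] [Algebra k R₂] [Algebra k R₁'] [Algebra k R₂']
    (φ : R₁ →ₐ[k] R₁') (ψ : R₂ →ₐ[k] R₂') :
    RingHom.ker (Algebra.TensorProduct.map φ ψ) =
      (RingHom.ker φ).map (Algebra.TensorProduct.includeLeft : R₁ →ₐ[k] R₁ ⊗[k] R₂) ⊔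
        (RingHom.ker ψ).map (Algebra.TensorProduct.includeRight : R₂ →ₐ[k] R₁ ⊗[k] R₂) := by
  have h1 : Algebra.TensorProduct.map φ ψ =
      (Algebra.TensorProduct.map φ.range.val ψ.range.val).comp
        (Algebra.TensorProduct.map φ.rangeRestrict ψ.rangeRestrict) := by
    apply Algebra.TensorProduct.ext
    · ext x; simp
    · ext x; simp
  have hinj : Function.Injective (Algebra.TensorProduct.map φ.range.val ψ.range.val) := by
    have := TensorProduct.map_injective_of_flat_flat (R := k) φ.range.val.toLinearMap
      ψ.range.val.toLinearMap Subtype.val_injective Subtype.val_injective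
    exact this
  have h2 : RingHom.ker (Algebra.TensorProduct.map φ ψ) =
      RingHom.ker (Algebra.TensorProduct.map φ.rangeRestrict ψ.rangeRestrict) := by
    ext x
    simp only [RingHom.mem_ker]
    rw [h1, AlgHom.comp_apply]
    exact ⟨fun h => hinj (by rw [h, map_zero]), fun h => by rw [h, map_zero]⟩
  rw [h2, Algebra.TensorProduct.map_ker _ _ φ.rangeRestrict_surjective ψ.rangeRestrict_surjective]
  congr 2
  · ext x; simp [RingHom.mem_ker, Subtype.ext_iff]
  · ext x; simp [RingHom.mem_ker, Subtype.ext_iff]

end Groth.Agent.Lib.Helper20.TKer
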