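import Mathlib
import Groth.Agent.Lib.Helper20.TKer

set_option autoImplicit false
universe u

open TensorProduct CategoryTheory CategoryTheory.Limits

namespace Groth.Agent.Lib.Helper20.TKer

set_option maxHeartbeats 400000 in
/-- kernel of a map of pushouts of rings over a field -/
theorem ker_eq_of_isPushout {K R₁ R₂ T R₁' R₂' T' : CommRingCat.{u}} (hK : IsField K)
    {a₁ : K ⟶ R₁} {a₂ : K ⟶ R₂} {u₁ : R₁ ⟶ T} {u₂ : R₂ ⟶ T} (hT : IsPushout a₁ a₂ u₁ u₂)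
    {a₁' : K ⟶ R₁'} {a₂' : K ⟶ R₂'} {u₁' : R₁' ⟶ T'} {u₂' : R₂' ⟶ T'}
    (w' : a₁' ≫ u₁' = a₂' ≫ u₂') (hmono : Mono (pushout.desc u₁' u₂' w'))
    {φ : R₁ ⟶ R₁'} {ψ : R₂ ⟶ R₂'} {Φ : T ⟶ T'} (h1 : a₁ ≫ φ = a₁') (h2 : a₂ ≫ ψ = a₂')
    (h3 : u₁ ≫ Φ = φ ≫ u₁') (h4 : u₂ ≫ Φ = ψ ≫ u₂') :
    RingHom.ker Φ.hom = (RingHom.ker φ.hom).map u₁.hom ⊔ (RingHom.ker ψ.hom).map u₂.hom := by
  letI : Field K := hK.toField
  letI := a₁.hom.toAlgebra
  letI := a₂.hom.toAlgebra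
  letI := a₁'.hom.toAlgebra
  letI := a₂'.hom.toAlgebra
  let φa : R₁ →ₐ[K] R₁' := ⟨φ.hom, fun r => congr($(h1).hom r)⟩
  let ψa : R₂ →ₐ[K] R₂' := ⟨ψ.hom, fun r => congr($(h2).hom r)⟩
  have hP := CommRingCat.isPushout_tensorProduct K R₁ R₂
  have hP' := CommRingCat.isPushout_tensorProduct K R₁' R₂'
  let e : CommRingCat.of (R₁ ⊗[K] R₂) ≅ T := hP.isoIsPushout _ _ hT
  have he1 : CommRingCat.ofHom (Algebra.TensorProduct.includeLeftRingHom : R₁ →+* R₁ ⊗[K] R₂) ≫ e.hom = u₁ :=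
    hP.inl_isoIsPushout_hom _ _ hT
  have he2 : CommRingCat.ofHom (Algebra.TensorProduct.includeRight.toRingHom : R₂ →+* R₁ ⊗[K] R₂) ≫ e.hom = u₂ :=
    hP.inr_isoIsPushout_hom _ _ hT
  let θ : CommRingCat.of (R₁' ⊗[K] R₂') ⟶ T' := hP'.isoPushout.hom ≫ pushout.desc u₁' u₂' w'
  have hθ1 : CommRingCat.ofHom (Algebra.TensorProduct.includeLeftRingHom : R₁' →+* R₁' ⊗[K] R₂') ≫ θ = u₁' := by
    simp only [θ, IsPushout.inl_isoPushout_hom_assoc]
    exact pushout.inl_desc _ _ _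
  have hθ2 : CommRingCat.ofHom (Algebra.TensorProduct.includeRight.toRingHom : R₂' →+* R₁' ⊗[K] R₂') ≫ θ = u₂' := by
    simp only [θ, IsPushout.inr_isoPushout_hom_assoc]
    exact pushout.inr_desc _ _ _
  have hθmono : Mono θ := mono_comp _ _
  have hθinj : Function.Injective θ.hom :=
    ConcreteCategory.injective_of_mono_of_preservesPullback θ
  -- the key square
  have hsq : e.hom ≫ Φ = CommRingCat.ofHom (Algebra.TensorProduct.map φa ψa).toRingHom ≫ θ := by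
    apply hP.hom_ext
    · rw [reassoc_of% he1, h3, ← hθ1]
      ext x
      simp [φa]
    · rw [reassoc_of% he2, h4, ← hθ2]
      ext x
      simp [ψa]
  have hesurj : Function.Surjective e.hom.hom := by
    intro t
    refine ⟨e.inv.hom t, ?_⟩
    rw [← CommRingCat.comp_apply, e.inv_hom_id]
    rfl
  have hcomp : RingHom.ker (Φ.hom.comp e.hom.hom) =
      RingHom.ker (Algebra.TensorProduct.map φa ψa) := by
    ext x
    simp only [RingHom.mem_ker, RingHom.comp_apply]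
    have hx : Φ.hom (e.hom.hom x) = θ.hom ((Algebra.TensorProduct.map φa ψa) x) :=
      congr($(hsq).hom x)
    rw [hx]
    exact ⟨fun h => hθinj (by rw [h, map_zero]), fun h => by rw [h, map_zero]⟩
  have hk : RingHom.ker Φ.hom = (RingHom.ker (Φ.hom.comp e.hom.hom)).map e.hom.hom := by
    rw [← RingHom.comap_ker, Ideal.map_comap_of_surjective _ hesurj]
  rw [hk, hcomp, ker_map_field, Ideal.map_sup]
  have m1 : ∀ I : Ideal R₁, Ideal.map e.hom.hom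
      (Ideal.map (Algebra.TensorProduct.includeLeft : R₁ →ₐ[K] R₁ ⊗[K] R₂) I) =
      Ideal.map (e.hom.hom.comp
        (Algebra.TensorProduct.includeLeft : R₁ →ₐ[K] R₁ ⊗[K] R₂).toRingHom) I := fun I =>
    Ideal.map_map (Algebra.TensorProduct.includeLeft : R₁ →ₐ[K] R₁ ⊗[K] R₂).toRingHom e.hom.hom
  have m2 : ∀ I : Ideal R₂, Ideal.map e.hom.hom
      (Ideal.map (Algebra.TensorProduct.includeRight : R₂ →ₐ[K] R₁ ⊗[K] R₂) I) =
      Ideal.map (e.hom.hom.comp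
        (Algebra.TensorProduct.includeRight : R₂ →ₐ[K] R₁ ⊗[K] R₂).toRingHom) I := fun I =>
    Ideal.map_map (Algebra.TensorProduct.includeRight : R₂ →ₐ[K] R₁ ⊗[K] R₂).toRingHom e.hom.hom
  rw [m1, m2]
  have e1 : e.hom.hom.comp (Algebra.TensorProduct.includeLeft : R₁ →ₐ[K] R₁ ⊗[K] R₂).toRingHom =
      u₁.hom := congr($(he1).hom)
  have e2 : e.hom.hom.comp (Algebra.TensorProduct.includeRight : R₂ →ₐ[K] R₁ ⊗[K] R₂).toRingHom =
      u₂.hom := congr($(he2).hom)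
  have k1 : RingHom.ker φa = RingHom.ker φ.hom := rfl
  have k2 : RingHom.ker ψa = RingHom.ker ψ.hom := rfl
  rw [k1, k2]
  exact congrArg₂ _ (congrArg (fun r => Ideal.map r (RingHom.ker φ.hom)) e1)
    (congrArg (fun r => Ideal.map r (RingHom.ker ψ.hom)) e2)

end Groth.Agent.Lib.Helper20.TKer
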