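import Mathlib
import Groth.Agent.Lib.Helper20.TKer2
import Groth.Agent.Lib.Helper20.HG3

set_option autoImplicit false
universe u

open CategoryTheory CategoryTheory.Limits AlgebraicGeometry

namespace Groth.Agent.Lib.Helper20.KerProd

variable (k : Type u) [Field k] {X Y A B : Scheme.{u}}
  (pX : X ⟶ Spec (CommRingCat.of k)) (pY : Y ⟶ Spec (CommRingCat.of k))
  (pA : A ⟶ Spec (CommRingCat.of k)) (pB : B ⟶ Spec (CommRingCat.of k))

lemma isField_top : IsField Γ(Spec (CommRingCat.of k), ⊤) :=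
  MulEquiv.isField (Field.toIsField k)
    (Scheme.ΓSpecIso (CommRingCat.of k)).commRingCatIsoToRingEquiv.toMulEquiv

lemma flat_of_field {R : CommRingCat.{u}} (φ : Γ(Spec (CommRingCat.of k), ⊤) ⟶ R) :
    φ.hom.Flat := by
  letI : Field Γ(Spec (CommRingCat.of k), ⊤) := (isField_top k).toField
  letI := φ.hom.toAlgebra
  show Module.Flat Γ(Spec (CommRingCat.of k), ⊤) R
  infer_instance

variable {k} {pX pY pA pB}

set_option maxHeartbeats 1000000 in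
theorem ker_local (f : A ⟶ X) (hf : f ≫ pX = pA) [QuasiCompact f] (g : B ⟶ Y)
    (hg : g ≫ pY = pB) [QuasiCompact g] (F : pullback pA pB ⟶ pullback pX pY) [QuasiCompact F]
    (hF₁ : F ≫ pullback.fst pX pY = pullback.fst pA pB ≫ f)
    (hF₂ : F ≫ pullback.snd pX pY = pullback.snd pA pB ≫ g)
    (U : X.affineOpens) (V : Y.affineOpens) (W : (pullback pX pY).affineOpens)
    (hW : W.1 = pullback.fst pX pY ⁻¹ᵁ U.1 ⊓ pullback.snd pX pY ⁻¹ᵁ V.1) :
    F.ker.ideal W = (f.ker.comap (pullback.fst pX pY) ⊔ g.ker.comap (pullback.snd pX pY)).ideal W := by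
  have hS : IsAffineOpen (⊤ : (Spec (CommRingCat.of k)).Opens) := isAffineOpen_top _
  have H := IsPullback.of_hasPullback pX pY
  have H' := IsPullback.of_hasPullback pA pB
  have hUST : V.1 ≤ pY ⁻¹ᵁ ⊤ := le_top
  have hUSX : U.1 ≤ pX ⁻¹ᵁ ⊤ := le_top
  have hW1 : W.1 ≤ pullback.fst pX pY ⁻¹ᵁ U.1 := hW ▸ inf_le_left
  have hW2 : W.1 ≤ pullback.snd pX pY ⁻¹ᵁ V.1 := hW ▸ inf_le_right
  -- top pushout square
  have hiso := isIso_pushoutSection_of_isAffineOpen H hUST hUSX hW hS V.2 U.2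
  have hT := (isIso_pushoutSection_iff H hUST hUSX hW).mp hiso
  -- bottom
  have hUA : IsCompact (X := A) (f ⁻¹ᵁ U.1) := f.isCompact_preimage U.2.isCompact
  have hUB : IsCompact (X := B) (g ⁻¹ᵁ V.1) := g.isCompact_preimage V.2.isCompact
  have hUST' : g ⁻¹ᵁ V.1 ≤ pB ⁻¹ᵁ ⊤ := le_top
  have hUSX' : f ⁻¹ᵁ U.1 ≤ pA ⁻¹ᵁ ⊤ := le_top
  have hUQ : F ⁻¹ᵁ W.1 = pullback.fst pA pB ⁻¹ᵁ (f ⁻¹ᵁ U.1) ⊓ pullback.snd pA pB ⁻¹ᵁ (g ⁻¹ᵁ V.1) := by
    rw [hW, Scheme.Hom.preimage_inf, ← Scheme.Hom.comp_preimage, ← Scheme.Hom.comp_preimage,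
      ← Scheme.Hom.comp_preimage, ← Scheme.Hom.comp_preimage, hF₁, hF₂]
  have hmono := mono_pushoutSection_of_isCompact_of_flat_left_of_ringHomFlat H' hUST' hUSX' hUQ
    hS hUB hUA (flat_of_field k _)
  have key := Groth.Agent.Lib.Helper20.TKer.ker_eq_of_isPushout (isField_top k) hT _ hmono
    (φ := f.appLE U.1 (f ⁻¹ᵁ U.1) le_rfl) (ψ := g.appLE V.1 (g ⁻¹ᵁ V.1) le_rfl)
    (Φ := F.appLE W.1 (F ⁻¹ᵁ W.1) le_rfl)
    (by simp only [Scheme.Hom.appLE_comp_appLE, hf])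
    (by simp only [Scheme.Hom.appLE_comp_appLE, hg])
    (by simp only [Scheme.Hom.appLE_comp_appLE, hF₁])
    (by simp only [Scheme.Hom.appLE_comp_appLE, hF₂])
  rw [Scheme.Hom.ker_apply, Scheme.IdealSheafData.ideal_sup, Pi.sup_apply,
    Groth.Agent.Lib.Helper20.HG.ideal_comap f.ker (pullback.fst pX pY) U W hW1,
    Groth.Agent.Lib.Helper20.HG.ideal_comap g.ker (pullback.snd pX pY) V W hW2,
    Scheme.Hom.ker_apply, Scheme.Hom.ker_apply, Scheme.Hom.app_eq_appLE, Scheme.Hom.app_eq_appLE,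
    Scheme.Hom.app_eq_appLE]
  exact key

lemma isAffineOpen_prod (U : X.affineOpens) (V : Y.affineOpens) :
    IsAffineOpen (pullback.fst pX pY ⁻¹ᵁ U.1 ⊓ pullback.snd pX pY ⁻¹ᵁ V.1) := by
  have hS : IsAffineOpen (⊤ : (Spec (CommRingCat.of k)).Opens) := isAffineOpen_top _
  have H := IsPullback.of_hasPullback pX pY
  have hUST : V.1 ≤ pY ⁻¹ᵁ ⊤ := le_top
  have hUSX : U.1 ≤ pX ⁻¹ᵁ ⊤ := le_top
  have : IsAffine (⊤ : (Spec (CommRingCat.of k)).Opens) := hS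
  have : IsAffine V.1 := V.2
  have : IsAffine U.1 := U.2
  exact .of_isIso (Scheme.Hom.isPullback_resLE H hUST hUSX rfl).isoPullback.hom

theorem quasiCompact_prod (f : A ⟶ X) (hf : f ≫ pX = pA) [QuasiCompact f] (g : B ⟶ Y)
    (hg : g ≫ pY = pB) [QuasiCompact g] (F : pullback pA pB ⟶ pullback pX pY)
    (hF₁ : F ≫ pullback.fst pX pY = pullback.fst pA pB ≫ f)
    (hF₂ : F ≫ pullback.snd pX pY = pullback.snd pA pB ≫ g) : QuasiCompact F := by
  have h := MorphismProperty.pullbackMap (P := @QuasiCompact) (f := pA) (g := pB) (f' := pX)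
    (g' := pY) (i₁ := f) (i₂ := g) inferInstance inferInstance hf.symm hg.symm
  convert h
  apply pullback.hom_ext
  · rw [hF₁, pullback.lift_fst]
  · rw [hF₂, pullback.lift_snd]

theorem ker_prod (f : A ⟶ X) (hf : f ≫ pX = pA) [QuasiCompact f] (g : B ⟶ Y)
    (hg : g ≫ pY = pB) [QuasiCompact g] (F : pullback pA pB ⟶ pullback pX pY)
    (hF₁ : F ≫ pullback.fst pX pY = pullback.fst pA pB ≫ f)
    (hF₂ : F ≫ pullback.snd pX pY = pullback.snd pA pB ≫ g) :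
    F.ker = f.ker.comap (pullback.fst pX pY) ⊔ g.ker.comap (pullback.snd pX pY) := by
  have := quasiCompact_prod f hf g hg F hF₁ hF₂
  refine Scheme.IdealSheafData.ext_of_iSup_eq_top
    (fun i : X.affineOpens × Y.affineOpens =>
      (⟨pullback.fst pX pY ⁻¹ᵁ i.1.1 ⊓ pullback.snd pX pY ⁻¹ᵁ i.2.1,
        isAffineOpen_prod i.1 i.2⟩ : (pullback pX pY).affineOpens)) ?_ ?_
  · rw [eq_top_iff]
    intro x _
    obtain ⟨U, hU, hxU, -⟩ := (TopologicalSpace.Opens.isBasis_iff_nbhd.mp X.isBasis_affineOpens)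
      (show pullback.fst pX pY x ∈ (⊤ : X.Opens) from trivial)
    obtain ⟨V, hV, hxV, -⟩ := (TopologicalSpace.Opens.isBasis_iff_nbhd.mp Y.isBasis_affineOpens)
      (show pullback.snd pX pY x ∈ (⊤ : Y.Opens) from trivial)
    exact TopologicalSpace.Opens.mem_iSup.mpr ⟨(⟨U, hU⟩, ⟨V, hV⟩), hxU, hxV⟩
  · intro i
    exact ker_local f hf g hg F hF₁ hF₂ i.1 i.2 _ rfl

end Groth.Agent.Lib.Helper20.KerProd
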