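import Mathlib
import Groth.Agent.Lib.Helper7.DescendMorphism

set_option autoImplicit false

universe u

open CategoryTheory AlgebraicGeometry

namespace Groth.Agent.Lib.Helper20.LimDU

open Groth.Agent.Lib.Helper7.DescendMorphism

/-- Lemma B: for an injective ring map into a domain, `Spec.map` is injective on sections. -/
theorem app_injective_of_injective {R R' : CommRingCat.{u}} [IsDomain R'] (φ : R ⟶ R')
    (hφ : Function.Injective φ.hom) (V : (Spec R).Opens) :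
    Function.Injective ((Spec.map φ).app V).hom := by
  haveI : IsDomain R := Function.Injective.isDomain φ.hom hφ
  rw [injective_iff_map_eq_zero]
  intro s hs
  by_contra hne
  have h1 : (Spec R).basicOpen s ≠ ⊥ := fun h => hne ((basicOpen_eq_bot_iff s).1 h)
  have h2 : ((Spec R).basicOpen s : Set (Spec R)).Nonempty := by
    rw [Set.nonempty_iff_ne_empty]
    intro h
    apply h1
    ext x
    simp only [TopologicalSpace.Opens.coe_bot]
    rw [h]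
  have hdense : DenseRange (PrimeSpectrum.comap φ.hom) := by
    rw [PrimeSpectrum.denseRange_comap_iff_ker_le_nilRadical,
      (RingHom.injective_iff_ker_eq_bot _).1 hφ]
    exact bot_le
  obtain ⟨y, hy⟩ := hdense.exists_mem_open ((Spec R).basicOpen s).isOpen h2
  have h3 : y ∈ (Spec.map φ) ⁻¹ᵁ ((Spec R).basicOpen s) := hy
  rw [Scheme.preimage_basicOpen] at h3
  have h4 : ((Spec.map φ).app V) s = 0 := hs
  rw [h4] at h3
  simp only [Scheme.basicOpen_zero] at h3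
  exact h3

/-- Lemma A'': two morphisms which agree after precomposition with a morphism which is injective on
sections agree on an open neighbourhood of its range. -/
theorem exists_open_eq_of_comp_eq {T' Y Z : Scheme.{u}} (p : T' ⟶ Y)
    (hinj : ∀ U : Y.Opens, Function.Injective (p.app U).hom) {a b : Y ⟶ Z}
    (hab : p ≫ a = p ≫ b) :
    ∃ N : Y.Opens, Set.range p.base ⊆ N ∧ N.ι ≫ a = N.ι ≫ b := by
  -- local agreement
  have hloc : ∀ x : T', ∃ V : Y.Opens, p.base x ∈ V ∧ V.ι ≫ a = V.ι ≫ b := by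
    intro x
    have hbase : a.base (p.base x) = b.base (p.base x) := by
      rw [← Scheme.Hom.comp_apply, ← Scheme.Hom.comp_apply, hab]
    obtain ⟨_, ⟨W, hW, rfl⟩, hyW, -⟩ :=
      Z.isBasis_affineOpens.exists_subset_of_mem_open (Set.mem_univ (a.base (p.base x))) isOpen_univ
    have hVa : a ⁻¹ᵁ W ⊓ b ⁻¹ᵁ W ≤ a ⁻¹ᵁ W := inf_le_left
    have hVb : a ⁻¹ᵁ W ⊓ b ⁻¹ᵁ W ≤ b ⁻¹ᵁ W := inf_le_right
    refine ⟨a ⁻¹ᵁ W ⊓ b ⁻¹ᵁ W, ⟨hyW, ?_⟩, ?_⟩
    · change b.base (p.base x) ∈ W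
      rw [← hbase]; exact hyW
    rw [← toSpecΓ_SpecMap_appLE_fromSpec a hW _ hVa,
      ← toSpecΓ_SpecMap_appLE_fromSpec b hW _ hVb]
    have h1 : a.appLE W (a ⁻¹ᵁ W ⊓ b ⁻¹ᵁ W) hVa ≫ p.app (a ⁻¹ᵁ W ⊓ b ⁻¹ᵁ W) =
        b.appLE W (a ⁻¹ᵁ W ⊓ b ⁻¹ᵁ W) hVb ≫ p.app (a ⁻¹ᵁ W ⊓ b ⁻¹ᵁ W) := by
      rw [Scheme.Hom.app_eq_appLE, Scheme.Hom.appLE_comp_appLE, Scheme.Hom.appLE_comp_appLE,
        appLE_congr_hom' hab]
    have h2 : a.appLE W (a ⁻¹ᵁ W ⊓ b ⁻¹ᵁ W) hVa = b.appLE W (a ⁻¹ᵁ W ⊓ b ⁻¹ᵁ W) hVb := by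
      ext r
      apply hinj (a ⁻¹ᵁ W ⊓ b ⁻¹ᵁ W)
      exact congrArg (fun f => f.hom r) h1
    rw [h2]
  choose V hxV hV using hloc
  refine ⟨⨆ x, V x, ?_, ?_⟩
  · rintro _ ⟨x, rfl⟩
    exact TopologicalSpace.Opens.mem_iSup.2 ⟨x, hxV x⟩
  · apply Scheme.hom_ext_of_forall
    intro y
    obtain ⟨x, hx⟩ := TopologicalSpace.Opens.mem_iSup.1 y.2
    refine ⟨(⨆ x, V x).ι ⁻¹ᵁ V x, hx, ?_⟩
    have h1 : ((⨆ x, V x).ι ⁻¹ᵁ V x).ι ≫ (⨆ x, V x).ι = ((⨆ x, V x).ι ∣_ V x) ≫ (V x).ι :=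
      (morphismRestrict_ι _ _).symm
    rw [← Category.assoc, ← Category.assoc, h1, Category.assoc, Category.assoc, hV]

end Groth.Agent.Lib.Helper20.LimDU
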