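import Mathlib
import Groth.Agent.Lib.Helper20.LimDU1

set_option autoImplicit false

universe u

open CategoryTheory AlgebraicGeometry

namespace Groth.Agent.Lib.Helper20.LimDU

open Groth.Agent.Lib.Helper7.DescendMorphism

/-- Theorem U': index-free uniqueness. -/
theorem exists_finset_of_comp_eq {R₀ R : CommRingCat.{u}} [IsDomain R] (φ : R₀ ⟶ R)
    (hφ : Function.Injective φ.hom) {Z : Scheme.{u}} (a b : Spec R₀ ⟶ Z)
    (hab : Spec.map φ ≫ a = Spec.map φ ≫ b) :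
    ∃ F : Finset R, ∀ (R₁ : CommRingCat.{u}) (ψ : R₀ ⟶ R₁) (χ : R₁ ⟶ R), ψ ≫ χ = φ →
      Function.Injective χ.hom → (∀ y ∈ F, y ∈ Set.range χ.hom) →
      Spec.map ψ ≫ a = Spec.map ψ ≫ b := by
  obtain ⟨N, hN, hNab⟩ := exists_open_eq_of_comp_eq (Spec.map φ)
    (app_injective_of_injective φ hφ) hab
  classical
  obtain ⟨J, hJ⟩ : ∃ J : Ideal R₀, ((N.1 : Set (PrimeSpectrum R₀))ᶜ) =
      PrimeSpectrum.zeroLocus (J : Set R₀) :=
    (PrimeSpectrum.isClosed_iff_zeroLocus_ideal _).1 (N.isOpen.isClosed_compl)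
  -- J.map φ = ⊤
  have hJtop : J.map φ.hom = ⊤ := by
    by_contra hne
    obtain ⟨M, hM, hJM⟩ := Ideal.exists_le_maximal _ hne
    haveI := hM.isPrime
    have hx : PrimeSpectrum.comap φ.hom ⟨M, inferInstance⟩ ∈
        PrimeSpectrum.zeroLocus (J : Set R₀) := by
      rw [PrimeSpectrum.mem_zeroLocus]
      intro r hr
      exact hJM (Ideal.mem_map_of_mem _ hr)
    rw [← hJ] at hx
    exact hx (hN ⟨⟨M, inferInstance⟩, rfl⟩)
  have h1 : (1 : R) ∈ Ideal.span (φ.hom '' (J : Set R₀)) := by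
    have : (1 : R) ∈ J.map φ.hom := by rw [hJtop]; trivial
    exact this
  rw [Ideal.span, Finsupp.mem_span_image_iff_linearCombination] at h1
  obtain ⟨l, hl, hl1⟩ := h1
  refine ⟨l.support.image l, ?_⟩
  intro R₁ ψ χ hψχ hχ hF
  -- J.map ψ = ⊤
  have hy : ∀ r ∈ l.support, ∃ y : R₁, χ.hom y = l r :=
    fun r hr => hF _ (Finset.mem_image_of_mem _ hr)
  choose! y hy using hy
  have hsum : χ.hom (∑ r ∈ l.support, y r * ψ.hom r) = 1 := by
    rw [map_sum, ← hl1, Finsupp.linearCombination_apply, Finsupp.sum]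
    refine Finset.sum_congr rfl fun r hr => ?_
    rw [map_mul, hy r hr, smul_eq_mul]
    congr 1
    rw [← hψχ]
    rfl
  have hone : ∑ r ∈ l.support, y r * ψ.hom r = 1 := by
    apply hχ
    rw [hsum, map_one]
  have hJtop' : J.map ψ.hom = ⊤ := by
    rw [Ideal.eq_top_iff_one, ← hone]
    refine Ideal.sum_mem _ fun r hr => ?_
    refine Ideal.mul_mem_left _ _ (Ideal.mem_map_of_mem _ ?_)
    exact hl (Finsupp.mem_support_iff.2 (Finsupp.mem_support_iff.1 hr))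
  have hrange : Set.range (Spec.map ψ).base ⊆ Set.range N.ι.base := by
    rw [Scheme.Opens.range_ι]
    rintro _ ⟨P, rfl⟩
    by_contra hP
    have hP'' : PrimeSpectrum.comap ψ.hom P ∈ ((N.1 : Set (PrimeSpectrum R₀))ᶜ) := hP
    have hP' : PrimeSpectrum.comap ψ.hom P ∈ PrimeSpectrum.zeroLocus (J : Set R₀) := by
      rw [← hJ]; exact hP''
    rw [PrimeSpectrum.mem_zeroLocus] at hP'
    have hle : J.map ψ.hom ≤ P.asIdeal := by
      rw [Ideal.map_le_iff_le_comap]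
      exact hP'
    rw [hJtop'] at hle
    exact P.2.ne_top (top_le_iff.1 hle)
  have hfac : IsOpenImmersion.lift N.ι (Spec.map ψ) hrange ≫ N.ι = Spec.map ψ :=
    IsOpenImmersion.lift_fac _ _ _
  rw [← hfac, Category.assoc, Category.assoc, hNab]

/-- Theorem E': index-free local factorization. -/
theorem exists_finset_factor {A B R : CommRingCat.{u}} (ρ : A ⟶ B) (hρ : ρ.hom.FiniteType)
    (ψ : B ⟶ R) :
    ∃ F : Finset R, ∀ (R₁ : CommRingCat.{u}) (χ : R₁ ⟶ R) (α : A ⟶ R₁), α ≫ χ = ρ ≫ ψ →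
      Function.Injective χ.hom → (∀ y ∈ F, y ∈ Set.range χ.hom) →
      ∃ ψ₁ : B ⟶ R₁, ψ₁ ≫ χ = ψ ∧ ρ ≫ ψ₁ = α := by
  letI := ρ.hom.toAlgebra
  have hft : Algebra.FiniteType A B := hρ
  obtain ⟨G, hG⟩ := hft.out
  classical
  refine ⟨G.image ψ.hom, ?_⟩
  intro R₁ χ α hαχ hχ hF
  have hall : ∀ b : B, ψ.hom b ∈ Set.range χ.hom := by
    intro b
    have hb : b ∈ Algebra.adjoin A (G : Set B) := by rw [hG]; trivial
    induction hb using Algebra.adjoin_induction with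
    | mem x hx => exact hF _ (Finset.mem_image_of_mem _ hx)
    | algebraMap r =>
      refine ⟨α.hom r, ?_⟩
      have := congrArg (fun f => f.hom r) hαχ
      exact this
    | add x y _ _ hx hy =>
      obtain ⟨x', hx'⟩ := hx
      obtain ⟨y', hy'⟩ := hy
      exact ⟨x' + y', by rw [map_add, map_add, hx', hy']⟩
    | mul x y _ _ hx hy =>
      obtain ⟨x', hx'⟩ := hx
      obtain ⟨y', hy'⟩ := hy
      exact ⟨x' * y', by rw [map_mul, map_mul, hx', hy']⟩
  obtain ⟨ψ₁, hψ₁⟩ := exists_ringHom_factor χ.hom hχ ψ.hom hall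
  refine ⟨CommRingCat.ofHom ψ₁, CommRingCat.hom_ext hψ₁, ?_⟩
  ext r
  apply hχ
  have h1 : χ.hom (ψ₁ (ρ.hom r)) = ψ.hom (ρ.hom r) := congrArg (fun f => f (ρ.hom r)) hψ₁
  have h2 := congrArg (fun f => f.hom r) hαχ
  exact h1.trans h2.symm

end Groth.Agent.Lib.Helper20.LimDU
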