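import Mathlib

set_option autoImplicit false

universe u

namespace Groth.Agent.Lib.Helper20.LimDU

section Away

variable {D C E : Type u} [CommRing D] [CommRing C] [CommRing E]

/-- the induced map of localizations `D[1/d] → C[1/c]` when `θ d ∣ c`. -/
noncomputable def lamG (θ : D →+* C) (d : D) (c : C) (h : θ d ∣ c) :
    Localization.Away d →+* Localization.Away c :=
  IsLocalization.Away.lift d (g := (algebraMap C (Localization.Away c)).comp θ)
    (IsLocalization.Away.isUnit_of_dvd c h)

@[simp]
theorem lamG_algebraMap (θ : D →+* C) (d : D) (c : C) (h : θ d ∣ c) (x : D) :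
    lamG θ d c h (algebraMap D (Localization.Away d) x) =
      algebraMap C (Localization.Away c) (θ x) :=
  IsLocalization.Away.lift_eq _ _ _

theorem lamG_comp_algebraMap (θ : D →+* C) (d : D) (c : C) (h : θ d ∣ c) :
    (lamG θ d c h).comp (algebraMap D (Localization.Away d)) =
      (algebraMap C (Localization.Away c)).comp θ :=
  IsLocalization.Away.lift_comp _ _

theorem away_hom_ext {P : Type*} [CommRing P] (d : D) (f g : Localization.Away d →+* P)
    (h : f.comp (algebraMap D (Localization.Away d)) = g.comp (algebraMap D (Localization.Away d))) :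
    f = g :=
  IsLocalization.ringHom_ext (Submonoid.powers d) h

theorem lamG_comp (θ : D →+* C) (d : D) (c : C) (h : θ d ∣ c) (θ' : C →+* E) (e : E)
    (h' : θ' c ∣ e) (h'' : (θ'.comp θ) d ∣ e) :
    (lamG θ' c e h').comp (lamG θ d c h) = lamG (θ'.comp θ) d e h'' := by
  apply away_hom_ext
  ext x
  simp

theorem lamG_injective (θ : D →+* C) (hθ : Function.Injective θ) (d : D) (c : C) (h : θ d = c) :
    Function.Injective (lamG θ d c (h ▸ dvd_rfl)) := by
  subst h
  rw [injective_iff_map_eq_zero]
  intro y hy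
  obtain ⟨x, ⟨_, n, rfl⟩, rfl⟩ := IsLocalization.exists_mk'_eq (Submonoid.powers d) y
  rw [IsLocalization.mk'_eq_zero_iff]
  have h1 : lamG θ d (θ d) dvd_rfl (algebraMap D _ x) = 0 := by
    have h2 : algebraMap D (Localization.Away d) x =
        IsLocalization.mk' (Localization.Away d) x (⟨d ^ n, n, rfl⟩ : Submonoid.powers d) *
          algebraMap D _ (d ^ n) := by
      rw [IsLocalization.mk'_spec]
    rw [h2, map_mul, hy, zero_mul]
  rw [lamG_algebraMap] at h1
  obtain ⟨⟨_, m, rfl⟩, hm⟩ := (IsLocalization.map_eq_zero_iff (Submonoid.powers (θ d))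
    (Localization.Away (θ d)) (θ x)).1 h1
  refine ⟨⟨d ^ m, m, rfl⟩, ?_⟩
  apply hθ
  rw [map_mul, map_pow, map_zero]
  exact hm

theorem exists_num (c : C) (y : Localization.Away c) :
    ∃ (x : C) (n : ℕ), y * (algebraMap C (Localization.Away c) c) ^ n =
      algebraMap C (Localization.Away c) x := by
  obtain ⟨n, a, h⟩ := IsLocalization.Away.surj c y
  exact ⟨a, n, h⟩

theorem mem_range_lamG (θ : D →+* C) (d : D) (c : C) (h : θ d = c) (y : Localization.Away c)
    (x : D) (n : ℕ)
    (hy : y * (algebraMap C (Localization.Away c) c) ^ n =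
      algebraMap C (Localization.Away c) (θ x)) :
    y ∈ Set.range (lamG θ d c (h ▸ dvd_rfl)) := by
  subst h
  refine ⟨IsLocalization.mk' (Localization.Away d) x (⟨d ^ n, n, rfl⟩ : Submonoid.powers d), ?_⟩
  have hu : IsUnit ((algebraMap C (Localization.Away (θ d)) (θ d)) ^ n) :=
    IsLocalization.Away.algebraMap_pow_isUnit (θ d) n
  apply hu.mul_left_injective
  change _ * _ = y * _
  rw [hy, ← lamG_algebraMap θ d (θ d) dvd_rfl x]
  have h2 : algebraMap D (Localization.Away d) x =
      IsLocalization.mk' (Localization.Away d) x (⟨d ^ n, n, rfl⟩ : Submonoid.powers d) *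
        algebraMap D _ (d ^ n) := by
    rw [IsLocalization.mk'_spec]
  conv_rhs => rw [h2, map_mul, lamG_algebraMap, map_pow, map_pow]

end Away

end Groth.Agent.Lib.Helper20.LimDU
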