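import Mathlib
import Groth.Agent.Lib.Helper20.LimDU2
import Groth.Agent.Lib.Helper20.LimDU3

set_option autoImplicit false

universe u

open CategoryTheory AlgebraicGeometry

namespace Groth.Agent.Lib.Helper20.LimDU

/-- directed exhaustive family: any finite set lies in a later stage -/
theorem exists_stage {ι : Type u} {A C : Type u} [CommRing A] [CommRing C] [Algebra A C]
    (S : ι → Subalgebra A C) (hdir : Directed (· ≤ ·) S) (hcov : ∀ c : C, ∃ i, c ∈ S i)
    (i : ι) (F : Finset C) : ∃ j, S i ≤ S j ∧ ∀ x ∈ F, x ∈ S j := by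
  classical
  induction F using Finset.induction_on with
  | empty => exact ⟨i, le_rfl, fun x hx => absurd hx (Finset.notMem_empty x)⟩
  | insert a F _ ih =>
    obtain ⟨j, hij, hj⟩ := ih
    obtain ⟨k, hk⟩ := hcov a
    obtain ⟨l, hjl, hkl⟩ := hdir j k
    refine ⟨l, hij.trans hjl, fun x hx => ?_⟩
    rcases Finset.mem_insert.1 hx with rfl | hx
    · exact hkl hk
    · exact hjl (hj x hx)

/-- chart data extracted from `g` on a basic open mapping into an affine open. -/
theorem exists_chart_data {A C : Type u} [CommRing A] [CommRing C] [Algebra A C]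
    (X : Scheme.{u}) (f : X ⟶ Spec (CommRingCat.of A)) [LocallyOfFiniteType f]
    (g : Spec (CommRingCat.of C) ⟶ X)
    (hg : g ≫ f = Spec.map (CommRingCat.ofHom (algebraMap A C)))
    (c : C) (U : X.Opens) (hU : IsAffineOpen U)
    (hcU : ∀ t : Spec (CommRingCat.of C), t ∈ PrimeSpectrum.basicOpen c → g.base t ∈ U) :
    ∃ (ρ : CommRingCat.of A ⟶ Γ(X, U))
      (ψ : Γ(X, U) ⟶ CommRingCat.of (Localization.Away c)),
      ρ.hom.FiniteType ∧
      Spec.map ψ ≫ hU.fromSpec =
        Spec.map (CommRingCat.ofHom (algebraMap C (Localization.Away c))) ≫ g ∧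
      ρ ≫ ψ = CommRingCat.ofHom ((algebraMap C (Localization.Away c)).comp (algebraMap A C)) := by
  obtain ⟨h, hh⟩ : ∃ h : Spec (CommRingCat.of (Localization.Away c)) ⟶ X,
      h = Spec.map (CommRingCat.ofHom (algebraMap C (Localization.Away c))) ≫ g := ⟨_, rfl⟩
  have hrange : Set.range h.base ⊆ Set.range U.ι.base := by
    rw [Scheme.Opens.range_ι]
    rintro _ ⟨y, rfl⟩
    rw [hh]
    change g.base ((Spec.map (CommRingCat.ofHom (algebraMap C (Localization.Away c)))).base y) ∈ U
    apply hcU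
    have := PrimeSpectrum.localization_away_comap_range (Localization.Away c) c
    have hy : PrimeSpectrum.comap (algebraMap C (Localization.Away c)) y ∈
        Set.range (PrimeSpectrum.comap (algebraMap C (Localization.Away c))) := ⟨y, rfl⟩
    rw [this] at hy
    exact hy
  obtain ⟨l, hl⟩ : ∃ l : Spec (CommRingCat.of (Localization.Away c)) ⟶ U.toScheme, l ≫ U.ι = h :=
    ⟨IsOpenImmersion.lift U.ι h hrange, IsOpenImmersion.lift_fac _ _ _⟩
  obtain ⟨ψ, hψ⟩ : ∃ ψ : Γ(X, U) ⟶ CommRingCat.of (Localization.Away c),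
      Spec.map ψ = l ≫ hU.isoSpec.hom := ⟨Spec.preimage _, Spec.map_preimage _⟩
  obtain ⟨ρ, hρ⟩ : ∃ ρ : CommRingCat.of A ⟶ Γ(X, U), Spec.map ρ = hU.fromSpec ≫ f :=
    ⟨Spec.preimage _, Spec.map_preimage _⟩
  have h1 : Spec.map ψ ≫ hU.fromSpec = h := by
    rw [hψ, Category.assoc, hU.isoSpec_hom_fromSpec, hl]
  refine ⟨ρ, ψ, ?_, ?_, ?_⟩
  · have : LocallyOfFiniteType (Spec.map ρ) := by rw [hρ]; infer_instance
    exact (HasRingHomProperty.Spec_iff (P := @LocallyOfFiniteType)).1 this
  · rw [h1, hh]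
  · apply Spec.map_injective
    rw [Spec.map_comp, hρ, ← Category.assoc, h1, hh, Category.assoc, hg, ← Spec.map_comp]
    rfl

end Groth.Agent.Lib.Helper20.LimDU
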