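import Mathlib
import Groth.Agent.Lib.Helper20.LimDU4

set_option autoImplicit false

universe u

open CategoryTheory AlgebraicGeometry

namespace Groth.Agent.Lib.Helper20.LimDU

section Maps

variable {ι : Type u} {A C : Type u} [CommRing A] [CommRing C] [Algebra A C]
  (S : ι → Subalgebra A C)

noncomputable def lam (j : ι) (c : C) (hc : c ∈ S j) :
    Localization.Away (⟨c, hc⟩ : S j) →+* Localization.Away c :=
  lamG (S j).val.toRingHom ⟨c, hc⟩ c (dvd_refl c)

noncomputable def tr {i j : ι} (h : S i ≤ S j) (c : C) (hc : c ∈ S i) :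
    Localization.Away (⟨c, hc⟩ : S i) →+* Localization.Away (⟨c, h hc⟩ : S j) :=
  lamG (Subalgebra.inclusion h).toRingHom ⟨c, hc⟩ ⟨c, h hc⟩ (dvd_refl _)

theorem dvdL (j : ι) (c c' : C) (hc : c ∈ S j) (hc' : c' ∈ S j) :
    (RingHom.id (S j)) ⟨c, hc⟩ ∣ (⟨c * c', mul_mem hc hc'⟩ : S j) :=
  ⟨⟨c', hc'⟩, Subtype.ext (by simp)⟩

theorem dvdR (j : ι) (c c' : C) (hc : c ∈ S j) (hc' : c' ∈ S j) :
    (RingHom.id (S j)) ⟨c', hc'⟩ ∣ (⟨c * c', mul_mem hc hc'⟩ : S j) :=
  ⟨⟨c, hc⟩, Subtype.ext (by simp [mul_comm])⟩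

noncomputable def resL (j : ι) (c c' : C) (hc : c ∈ S j) (hc' : c' ∈ S j) :
    Localization.Away (⟨c, hc⟩ : S j) →+*
      Localization.Away (⟨c * c', mul_mem hc hc'⟩ : S j) :=
  lamG (D := S j) (C := S j) (RingHom.id (S j)) ⟨c, hc⟩ ⟨c * c', mul_mem hc hc'⟩ (dvdL S j c c' hc hc')

noncomputable def resR (j : ι) (c c' : C) (hc : c ∈ S j) (hc' : c' ∈ S j) :
    Localization.Away (⟨c', hc'⟩ : S j) →+*
      Localization.Away (⟨c * c', mul_mem hc hc'⟩ : S j) :=
  lamG (D := S j) (C := S j) (RingHom.id (S j)) ⟨c', hc'⟩ ⟨c * c', mul_mem hc hc'⟩ (dvdR S j c c' hc hc')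

noncomputable def resLC (c c' : C) : Localization.Away c →+* Localization.Away (c * c') :=
  lamG (RingHom.id C) c (c * c') (Dvd.intro c' rfl)

noncomputable def resRC (c c' : C) : Localization.Away c' →+* Localization.Away (c * c') :=
  lamG (RingHom.id C) c' (c * c') (Dvd.intro_left c rfl)

theorem lam_comp_tr {i j : ι} (h : S i ≤ S j) (c : C) (hc : c ∈ S i) :
    (lam S j c (h hc)).comp (tr S h c hc) = lam S i c hc := by
  apply away_hom_ext
  ext x
  simp [lam, tr]

theorem lam_comp_resL (j : ι) (c c' : C) (hc : c ∈ S j) (hc' : c' ∈ S j) :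
    (lam S j (c * c') (mul_mem hc hc')).comp (resL S j c c' hc hc') =
      (resLC c c').comp (lam S j c hc) := by
  apply away_hom_ext
  ext x
  simp [lam, resL, resLC]

theorem lam_comp_resR (j : ι) (c c' : C) (hc : c ∈ S j) (hc' : c' ∈ S j) :
    (lam S j (c * c') (mul_mem hc hc')).comp (resR S j c c' hc hc') =
      (resRC c c').comp (lam S j c' hc') := by
  apply away_hom_ext
  ext x
  simp [lam, resR, resRC]

theorem tr_comp_resL {i j : ι} (h : S i ≤ S j) (c c' : C) (hc : c ∈ S i) (hc' : c' ∈ S i) :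
    (tr S h (c * c') (mul_mem hc hc')).comp (resL S i c c' hc hc') =
      (resL S j c c' (h hc) (h hc')).comp (tr S h c hc) := by
  apply away_hom_ext
  ext x
  simp [tr, resL]

theorem tr_comp_resR {i j : ι} (h : S i ≤ S j) (c c' : C) (hc : c ∈ S i) (hc' : c' ∈ S i) :
    (tr S h (c * c') (mul_mem hc hc')).comp (resR S i c c' hc hc') =
      (resR S j c c' (h hc) (h hc')).comp (tr S h c' hc') := by
  apply away_hom_ext
  ext x
  simp [tr, resR]

theorem resLC_comp_algebraMap (c c' : C) :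
    (resLC c c').comp (algebraMap C (Localization.Away c)) =
      algebraMap C (Localization.Away (c * c')) := by
  ext x
  simp [resLC]

theorem resRC_comp_algebraMap (c c' : C) :
    (resRC c c').comp (algebraMap C (Localization.Away c')) =
      algebraMap C (Localization.Away (c * c')) := by
  ext x
  simp [resRC]

theorem lam_comp_algebraMap (j : ι) (c : C) (hc : c ∈ S j) :
    (lam S j c hc).comp (algebraMap (S j) (Localization.Away (⟨c, hc⟩ : S j))) =
      (algebraMap C (Localization.Away c)).comp (S j).val.toRingHom :=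
  lamG_comp_algebraMap _ _ _ _

theorem resL_comp_algebraMap (j : ι) (c c' : C) (hc : c ∈ S j) (hc' : c' ∈ S j) :
    (resL S j c c' hc hc').comp (algebraMap (S j) (Localization.Away (⟨c, hc⟩ : S j))) =
      algebraMap (S j) (Localization.Away (⟨c * c', mul_mem hc hc'⟩ : S j)) := by
  ext x
  simp [resL]

theorem resR_comp_algebraMap (j : ι) (c c' : C) (hc : c ∈ S j) (hc' : c' ∈ S j) :
    (resR S j c c' hc hc').comp (algebraMap (S j) (Localization.Away (⟨c', hc'⟩ : S j))) =
      algebraMap (S j) (Localization.Away (⟨c * c', mul_mem hc hc'⟩ : S j)) := by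
  ext x
  simp [resR]

theorem lam_injective (j : ι) (c : C) (hc : c ∈ S j) : Function.Injective (lam S j c hc) :=
  lamG_injective (S j).val.toRingHom Subtype.val_injective ⟨c, hc⟩ c rfl

theorem mem_range_lam (j : ι) (c : C) (hc : c ∈ S j) (y : Localization.Away c) (x : C)
    (hx : x ∈ S j) (n : ℕ)
    (hy : y * (algebraMap C (Localization.Away c) c) ^ n =
      algebraMap C (Localization.Away c) x) :
    y ∈ Set.range (lam S j c hc) :=
  mem_range_lamG (S j).val.toRingHom ⟨c, hc⟩ c rfl y ⟨x, hx⟩ n hy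

end Maps

end Groth.Agent.Lib.Helper20.LimDU
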