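import Mathlib
import Groth.Agent.Lib.Helper20.LimDU5

set_option autoImplicit false

universe u

open CategoryTheory AlgebraicGeometry

namespace Groth.Agent.Lib.Helper20.LimDU

variable {ι : Type u} {A C : Type u} [CommRing A] [CommRing C] [Algebra A C]
  (S : ι → Subalgebra A C)

/-- P2: a local datum on `Spec (S j)[1/c]` at every stage containing finitely many elements. -/
theorem exists_local_datum (X : Scheme.{u}) (f : X ⟶ Spec (CommRingCat.of A))
    [LocallyOfFiniteType f] (g : Spec (CommRingCat.of C) ⟶ X)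
    (hg : g ≫ f = Spec.map (CommRingCat.ofHom (algebraMap A C)))
    (c : C) (U : X.Opens) (hU : IsAffineOpen U)
    (hcU : ∀ t : Spec (CommRingCat.of C), t ∈ PrimeSpectrum.basicOpen c → g.base t ∈ U) :
    ∃ F : Finset C, ∀ (j : ι) (hc : c ∈ S j), (∀ x ∈ F, x ∈ S j) →
      ∃ γ : Spec (CommRingCat.of (Localization.Away (⟨c, hc⟩ : S j))) ⟶ X,
        Spec.map (CommRingCat.ofHom (lam S j c hc)) ≫ γ =
          Spec.map (CommRingCat.ofHom (algebraMap C (Localization.Away c))) ≫ g := by
  classical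
  obtain ⟨ρ, ψ, hρ, h1, h2⟩ := exists_chart_data X f g hg c U hU hcU
  obtain ⟨F', hF'⟩ := exists_finset_factor ρ hρ ψ
  choose num n hnum using exists_num c
  refine ⟨F'.image num, ?_⟩
  intro j hc hF
  have hαχ : CommRingCat.ofHom ((algebraMap (S j) (Localization.Away (⟨c, hc⟩ : S j))).comp
      (algebraMap A (S j))) ≫ CommRingCat.ofHom (lam S j c hc) = ρ ≫ ψ := by
    rw [h2]
    ext a
    change lam S j c hc (algebraMap (S j) _ (algebraMap A (S j) a)) =
      algebraMap C _ (algebraMap A C a)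
    have := congrArg (fun φ => φ (algebraMap A (S j) a)) (lam_comp_algebraMap S j c hc)
    exact this
  obtain ⟨ψ₁, hψ₁, -⟩ := hF' (CommRingCat.of (Localization.Away (⟨c, hc⟩ : S j)))
    (CommRingCat.ofHom (lam S j c hc)) _ hαχ (lam_injective S j c hc)
    (fun y hy => mem_range_lam S j c hc y (num y)
      (hF _ (Finset.mem_image_of_mem _ hy)) (n y) (hnum y))
  refine ⟨Spec.map ψ₁ ≫ hU.fromSpec, ?_⟩
  rw [← Category.assoc, ← Spec.map_comp, hψ₁, h1]

/-- P3: agreement at every later stage containing finitely many elements. -/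
theorem exists_finset_tr_eq [IsDomain C] {Z : Scheme.{u}} (i : ι) (c : C) (hc0 : c ≠ 0)
    (hc : c ∈ S i)
    (a b : Spec (CommRingCat.of (Localization.Away (⟨c, hc⟩ : S i))) ⟶ Z)
    (hab : Spec.map (CommRingCat.ofHom (lam S i c hc)) ≫ a =
      Spec.map (CommRingCat.ofHom (lam S i c hc)) ≫ b) :
    ∃ F : Finset C, ∀ (j : ι) (h : S i ≤ S j), (∀ x ∈ F, x ∈ S j) →
      Spec.map (CommRingCat.ofHom (tr S h c hc)) ≫ a =
        Spec.map (CommRingCat.ofHom (tr S h c hc)) ≫ b := by
  classical
  haveI : IsDomain (Localization.Away c) := Localization.Away.isDomain hc0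
  haveI : IsDomain (CommRingCat.of (Localization.Away c)) := this
  obtain ⟨F', hF'⟩ := exists_finset_of_comp_eq (CommRingCat.ofHom (lam S i c hc))
    (lam_injective S i c hc) a b hab
  choose num n hnum using exists_num c
  refine ⟨F'.image num, ?_⟩
  intro j h hF
  refine hF' (CommRingCat.of (Localization.Away (⟨c, h hc⟩ : S j)))
    (CommRingCat.ofHom (tr S h c hc)) (CommRingCat.ofHom (lam S j c (h hc))) ?_
    (lam_injective S j c (h hc)) ?_
  · rw [← CommRingCat.ofHom_comp, lam_comp_tr]
  · intro y hy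
    exact mem_range_lam S j c (h hc) y (num y) (hF _ (Finset.mem_image_of_mem _ hy)) (n y) (hnum y)

end Groth.Agent.Lib.Helper20.LimDU
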