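import Mathlib
import Groth.Agent.Lib.Helper20.LimDU3
import Groth.Agent.Lib.Helper7.DescendMorphism

set_option autoImplicit false

universe u

open CategoryTheory AlgebraicGeometry

namespace Groth.Agent.Lib.Helper20.LimDU

open Groth.Agent.Lib.Helper7.DescendMorphism

/-- basic open of `Spec R` as an open of the scheme -/
def bo {R : CommRingCat.{u}} (d : R) : (Spec R).Opens := PrimeSpectrum.basicOpen d

theorem mem_bo {R : CommRingCat.{u}} (d : R) (P : Spec R) :
    P ∈ bo d ↔ P ∈ PrimeSpectrum.basicOpen d := Iff.rfl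

noncomputable def isoBo {R : CommRingCat.{u}} (d : R) :
    (bo d).toScheme ≅ Spec (CommRingCat.of (Localization.Away d)) :=
  basicOpenIsoSpecAway d

theorem isoBo_hom_SpecMap {R : CommRingCat.{u}} (d : R) :
    (isoBo d).hom ≫ Spec.map (CommRingCat.ofHom (algebraMap R (Localization.Away d))) =
      (bo d).ι :=
  basicOpenIsoSpecAway_hom_SpecMap d

theorem specMap_algebraMap_eq {R : CommRingCat.{u}} (d : R) :
    Spec.map (CommRingCat.ofHom (algebraMap R (Localization.Away d))) =
      (isoBo d).inv ≫ (bo d).ι := by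
  rw [Iso.eq_inv_comp, isoBo_hom_SpecMap]

/-- key comparison of restrictions of the chart isomorphisms -/
theorem homOfLE_iso_hom {R : CommRingCat.{u}} (d e : R) (hde : (RingHom.id R) d ∣ e)
    (V : (Spec R).Opens) (hVd : V ≤ bo d) (hVe : V ≤ bo e) :
    (Spec R).homOfLE hVd ≫ (isoBo d).hom =
      (Spec R).homOfLE hVe ≫ (isoBo e).hom ≫
        Spec.map (CommRingCat.ofHom (lamG (RingHom.id R) d e hde)) := by
  have h1 : ((Spec R).homOfLE hVe ≫ (isoBo e).hom ≫
      Spec.map (CommRingCat.ofHom (lamG (RingHom.id R) d e hde))) ≫ (isoBo d).inv =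
      (Spec R).homOfLE hVd := by
    rw [← cancel_mono (bo d).ι]
    simp only [Category.assoc]
    rw [← specMap_algebraMap_eq d, ← Spec.map_comp, ← CommRingCat.ofHom_comp,
      lamG_comp_algebraMap, RingHom.comp_id, isoBo_hom_SpecMap,
      Scheme.homOfLE_ι, Scheme.homOfLE_ι]
  rw [← h1, Category.assoc, Iso.inv_hom_id, Category.comp_id]

theorem exists_glue_away {R : CommRingCat.{u}} {X : Scheme.{u}} {I : Type u} (d : I → R)
    (hcov : ∀ P : Spec R, ∃ t, P ∈ bo (d t))
    (γ : ∀ t, Spec (CommRingCat.of (Localization.Away (d t))) ⟶ X)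
    (e : I → I → R) (hL : ∀ t t', (RingHom.id R) (d t) ∣ e t t')
    (hR : ∀ t t', (RingHom.id R) (d t') ∣ e t t')
    (hinf : ∀ t t', bo (d t) ⊓ bo (d t') ≤ bo (e t t'))
    (compat : ∀ t t', Spec.map (CommRingCat.ofHom (lamG (RingHom.id R) (d t) (e t t') (hL t t'))) ≫
        γ t =
      Spec.map (CommRingCat.ofHom (lamG (RingHom.id R) (d t') (e t t') (hR t t'))) ≫ γ t') :
    ∃ G : Spec R ⟶ X, ∀ t,
      Spec.map (CommRingCat.ofHom (algebraMap R (Localization.Away (d t)))) ≫ G = γ t := by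
  have hU : TopologicalSpace.IsOpenCover (fun t => bo (d t)) := by
    rw [TopologicalSpace.IsOpenCover, eq_top_iff]
    intro P _
    obtain ⟨t, ht⟩ := hcov P
    rw [TopologicalSpace.Opens.mem_iSup]
    exact ⟨t, ht⟩
  have hf : ∀ t t', (Spec R).homOfLE (inf_le_left : bo (d t) ⊓ bo (d t') ≤ bo (d t)) ≫
      ((isoBo (d t)).hom ≫ γ t) =
      (Spec R).homOfLE (inf_le_right : bo (d t) ⊓ bo (d t') ≤ bo (d t')) ≫
        ((isoBo (d t')).hom ≫ γ t') := by
    intro t t'
    rw [← Category.assoc, ← Category.assoc,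
      homOfLE_iso_hom (d t) (e t t') (hL t t') _ inf_le_left (hinf t t'),
      homOfLE_iso_hom (d t') (e t t') (hR t t') _ inf_le_right (hinf t t')]
    simp only [Category.assoc]
    rw [compat]
  obtain ⟨G, hG⟩ := exists_glue (fun t => bo (d t)) hU
    (fun t => (isoBo (d t)).hom ≫ γ t) hf
  refine ⟨G, fun t => ?_⟩
  rw [specMap_algebraMap_eq, Category.assoc, hG t, Iso.inv_hom_id_assoc]

end Groth.Agent.Lib.Helper20.LimDU
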