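import Mathlib
import Groth.Agent.Lib.Helper20.LimDU6
import Groth.Agent.Lib.Helper20.LimDU7

set_option autoImplicit false

universe u

open CategoryTheory AlgebraicGeometry

namespace Groth.Agent.Lib.Helper20.LimDU

theorem hom_ext_away {R : CommRingCat.{u}} {X : Scheme.{u}} {I : Type*} (d : I → R)
    (hcov : ∀ P : Spec R, ∃ t, P ∈ bo (d t)) (a b : Spec R ⟶ X)
    (h : ∀ t, Spec.map (CommRingCat.ofHom (algebraMap R (Localization.Away (d t)))) ≫ a =
      Spec.map (CommRingCat.ofHom (algebraMap R (Localization.Away (d t)))) ≫ b) : a = b := by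
  apply Scheme.hom_ext_of_forall
  intro P
  obtain ⟨t, ht⟩ := hcov P
  refine ⟨bo (d t), ht, ?_⟩
  rw [← isoBo_hom_SpecMap, Category.assoc, Category.assoc, h t]

section

variable {ι : Type u} {A C : Type u} [CommRing A] [CommRing C] [Algebra A C]
  (S : ι → Subalgebra A C)

theorem cover_of_sum_eq_one (j : ι) (T : Finset C) (fco : C → C)
    (hsum : ∑ a ∈ T, fco a * a = 1) (hT : ∀ a ∈ T, a ∈ S j) (hf : ∀ a ∈ T, fco a ∈ S j)
    (P : Spec (CommRingCat.of (S j))) :
    ∃ a, ∃ ha : a ∈ T, P ∈ bo (R := CommRingCat.of (S j)) (⟨a, hT a ha⟩ : S j) := by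
  by_contra hcon
  push Not at hcon
  have hmem : ∀ a (ha : a ∈ T), (⟨a, hT a ha⟩ : S j) ∈ P.asIdeal := by
    intro a ha
    by_contra h
    exact hcon a ha h
  have h1 : (1 : S j) = ∑ a ∈ T.attach, ((⟨fco a.1, hf a.1 a.2⟩ : S j) * ⟨a.1, hT a.1 a.2⟩) := by
    apply Subtype.ext
    rw [AddSubmonoidClass.coe_finset_sum]
    simp only [MulMemClass.mk_mul_mk]
    rw [Finset.sum_attach T (fun a => fco a * a), hsum]
    rfl
  have h2 : (1 : S j) ∈ P.asIdeal := by
    rw [h1]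
    exact Ideal.sum_mem _ fun a _ => Ideal.mul_mem_left _ _ (hmem a.1 a.2)
  exact P.2.ne_top ((Ideal.eq_top_iff_one _).2 h2)

end

end Groth.Agent.Lib.Helper20.LimDU
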