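import Mathlib
import Groth.Agent.Lib.Helper20.LimDU8

set_option autoImplicit false

universe u

open CategoryTheory AlgebraicGeometry

namespace Groth.Agent.Lib.Helper20.LimDU

set_option maxHeartbeats 1000000 in
theorem main {ι : Type u} (A C : Type u) [CommRing A] [CommRing C] [Algebra A C] [IsDomain C]
    (S : ι → Subalgebra A C) (hdir : Directed (· ≤ ·) S) (hcov : ∀ c : C, ∃ i, c ∈ S i)
    (X : Scheme.{u}) (f : X ⟶ Spec (CommRingCat.of A)) [LocallyOfFiniteType f]
    (g : Spec (CommRingCat.of C) ⟶ X)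
    (hg : g ≫ f = Spec.map (CommRingCat.ofHom (algebraMap A C))) :
    ∃ (i : ι) (g' : Spec (CommRingCat.of (S i)) ⟶ X),
      g' ≫ f = Spec.map (CommRingCat.ofHom (algebraMap A (S i))) ∧
      Spec.map (CommRingCat.ofHom (S i).val.toRingHom) ≫ g' = g := by
  classical
  -- Step 1: charts
  have hchart : ∀ t : PrimeSpectrum C, ∃ (c : C) (U : X.Opens), IsAffineOpen U ∧
      t ∈ PrimeSpectrum.basicOpen c ∧
      ∀ t' : PrimeSpectrum C, t' ∈ PrimeSpectrum.basicOpen c → g.base t' ∈ U := by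
    intro t
    obtain ⟨_, ⟨U, hU, rfl⟩, hxU, -⟩ :=
      X.isBasis_affineOpens.exists_subset_of_mem_open (Set.mem_univ (g.base t)) isOpen_univ
    have hopen : IsOpen ((g ⁻¹ᵁ U).1 : Set (PrimeSpectrum C)) := (g ⁻¹ᵁ U).isOpen
    obtain ⟨_, ⟨c, rfl⟩, htc, hcU⟩ :=
      PrimeSpectrum.isTopologicalBasis_basic_opens.exists_subset_of_mem_open
        (show t ∈ ((g ⁻¹ᵁ U).1 : Set (PrimeSpectrum C)) from hxU) hopen
    exact ⟨c, U, hU, htc, fun t' ht' => hcU ht'⟩
  choose c U hU htc hcU using hchart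
  have hc0 : ∀ t, c t ≠ 0 := by
    intro t h0
    have := htc t
    rw [h0] at this
    exact this (Ideal.zero_mem _)
  -- Step 1b: finite subcover
  obtain ⟨s, hs⟩ : ∃ s : Finset (PrimeSpectrum C),
      ∀ t : PrimeSpectrum C, ∃ t' ∈ s, t ∈ PrimeSpectrum.basicOpen (c t') := by
    have hcomp : IsCompact (Set.univ : Set (PrimeSpectrum C)) := isCompact_univ
    obtain ⟨s, hs⟩ := hcomp.elim_finite_subcover
      (fun t : PrimeSpectrum C => (PrimeSpectrum.basicOpen (c t) : Set (PrimeSpectrum C)))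
      (fun t => (PrimeSpectrum.basicOpen (c t)).isOpen)
      (fun t _ => Set.mem_iUnion.2 ⟨t, htc t⟩)
    refine ⟨s, fun t => ?_⟩
    have := hs (Set.mem_univ t)
    simp only [Set.mem_iUnion] at this
    obtain ⟨t', ht's, ht'⟩ := this
    exact ⟨t', ht's, ht'⟩
  -- Step 1c: unit ideal
  have hspan : Ideal.span ((s.image c : Finset C) : Set C) = ⊤ := by
    rw [← PrimeSpectrum.zeroLocus_empty_iff_eq_top, Set.eq_empty_iff_forall_notMem]
    intro P hP
    obtain ⟨t', ht's, ht'⟩ := hs P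
    rw [PrimeSpectrum.mem_zeroLocus] at hP
    exact ht' (hP (Ideal.subset_span (Finset.mem_coe.2 (Finset.mem_image_of_mem c ht's))))
  obtain ⟨fco, -, hfco⟩ := Submodule.mem_span_finset.1
    (show (1 : C) ∈ Ideal.span ((s.image c : Finset C) : Set C) by rw [hspan]; trivial)
  simp only [smul_eq_mul] at hfco
  -- Step 2: local data
  have hP2 := fun t => exists_local_datum S X f g hg (c t) (U t) (hU t) (fun t' ht' => hcU t t' ht')
  choose F2 hF2 using hP2
  -- Step 3: first stage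
  obtain ⟨i00, -⟩ := hcov 0
  obtain ⟨i0, -, hi0⟩ := exists_stage S hdir hcov i00
    (s.biUnion F2 ∪ s.image c ∪ (s.image c).image fco)
  have hc0mem : ∀ t ∈ s, c t ∈ S i0 := fun t ht =>
    hi0 _ (Finset.mem_union_left _ (Finset.mem_union_right _ (Finset.mem_image_of_mem c ht)))
  have hF2mem : ∀ t ∈ s, ∀ x ∈ F2 t, x ∈ S i0 := fun t ht x hx =>
    hi0 _ (Finset.mem_union_left _ (Finset.mem_union_left _ (Finset.mem_biUnion.2 ⟨t, ht, hx⟩)))
  have hfcomem : ∀ a ∈ s.image c, fco a ∈ S i0 := fun a ha =>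
    hi0 _ (Finset.mem_union_right _ (Finset.mem_image_of_mem fco ha))
  have hγ0 : ∀ t (ht : t ∈ s), ∃ γ : Spec (CommRingCat.of
      (Localization.Away (⟨c t, hc0mem t ht⟩ : S i0))) ⟶ X,
      Spec.map (CommRingCat.ofHom (lam S i0 (c t) (hc0mem t ht))) ≫ γ =
        Spec.map (CommRingCat.ofHom (algebraMap C (Localization.Away (c t)))) ≫ g :=
    fun t ht => hF2 t i0 (hc0mem t ht) (hF2mem t ht)
  choose γ0 hγ0 using hγ0
  -- Step 4: pairs
  have hab : ∀ t t' (ht : t ∈ s) (ht' : t' ∈ s),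
      Spec.map (CommRingCat.ofHom (lam S i0 (c t * c t')
        (mul_mem (hc0mem t ht) (hc0mem t' ht')))) ≫
        (Spec.map (CommRingCat.ofHom (resL S i0 (c t) (c t') (hc0mem t ht) (hc0mem t' ht'))) ≫
          γ0 t ht) =
      Spec.map (CommRingCat.ofHom (lam S i0 (c t * c t')
        (mul_mem (hc0mem t ht) (hc0mem t' ht')))) ≫
        (Spec.map (CommRingCat.ofHom (resR S i0 (c t) (c t') (hc0mem t ht) (hc0mem t' ht'))) ≫
          γ0 t' ht') := by
    intro t t' ht ht'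
    have hl : Spec.map (CommRingCat.ofHom (lam S i0 (c t * c t')
        (mul_mem (hc0mem t ht) (hc0mem t' ht')))) ≫
        (Spec.map (CommRingCat.ofHom (resL S i0 (c t) (c t') (hc0mem t ht) (hc0mem t' ht'))) ≫
          γ0 t ht) =
        Spec.map (CommRingCat.ofHom (algebraMap C (Localization.Away (c t * c t')))) ≫ g := by
      rw [← Category.assoc, ← Spec.map_comp, ← CommRingCat.ofHom_comp, lam_comp_resL,
        CommRingCat.ofHom_comp, Spec.map_comp, Category.assoc, hγ0 t ht, ← Category.assoc,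
        ← Spec.map_comp, ← CommRingCat.ofHom_comp, resLC_comp_algebraMap]
    have hr : Spec.map (CommRingCat.ofHom (lam S i0 (c t * c t')
        (mul_mem (hc0mem t ht) (hc0mem t' ht')))) ≫
        (Spec.map (CommRingCat.ofHom (resR S i0 (c t) (c t') (hc0mem t ht) (hc0mem t' ht'))) ≫
          γ0 t' ht') =
        Spec.map (CommRingCat.ofHom (algebraMap C (Localization.Away (c t * c t')))) ≫ g := by
      rw [← Category.assoc, ← Spec.map_comp, ← CommRingCat.ofHom_comp, lam_comp_resR,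
        CommRingCat.ofHom_comp, Spec.map_comp, Category.assoc, hγ0 t' ht', ← Category.assoc,
        ← Spec.map_comp, ← CommRingCat.ofHom_comp, resRC_comp_algebraMap]
    rw [hl, hr]
  have hP3 := fun t t' (ht : t ∈ s) (ht' : t' ∈ s) =>
    exists_finset_tr_eq S i0 (c t * c t') (mul_ne_zero (hc0 t) (hc0 t'))
      (mul_mem (hc0mem t ht) (hc0mem t' ht')) _ _ (hab t t' ht ht')
  choose F3 hF3 using hP3
  obtain ⟨j, hij, hj⟩ := exists_stage S hdir hcov i0
    (s.attach.biUnion fun t => s.attach.biUnion fun t' => F3 t.1 t'.1 t.2 t'.2)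
  have hF3mem : ∀ t t' (ht : t ∈ s) (ht' : t' ∈ s), ∀ x ∈ F3 t t' ht ht', x ∈ S j :=
    fun t t' ht ht' x hx => hj x (Finset.mem_biUnion.2 ⟨⟨t, ht⟩, Finset.mem_attach _ _,
      Finset.mem_biUnion.2 ⟨⟨t', ht'⟩, Finset.mem_attach _ _, hx⟩⟩)
  have hcj : ∀ t ∈ s, c t ∈ S j := fun t ht => hij (hc0mem t ht)
  -- Step 5-6: glue
  obtain ⟨G, hG⟩ := exists_glue_away (R := CommRingCat.of (S j)) (X := X) (I := {t // t ∈ s})
    (fun t => (⟨c t.1, hcj t.1 t.2⟩ : S j))
    (by
      intro P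
      obtain ⟨a, ha, hP⟩ := cover_of_sum_eq_one S j (s.image c) fco hfco
        (fun a ha => by obtain ⟨t, ht, rfl⟩ := Finset.mem_image.1 ha; exact hcj t ht)
        (fun a ha => hij (hfcomem a ha)) P
      obtain ⟨t, ht, rfl⟩ := Finset.mem_image.1 ha
      exact ⟨⟨t, ht⟩, hP⟩)
    (fun t => Spec.map (CommRingCat.ofHom (tr S hij (c t.1) (hc0mem t.1 t.2))) ≫ γ0 t.1 t.2)
    (fun t t' => (⟨c t.1 * c t'.1, mul_mem (hcj t.1 t.2) (hcj t'.1 t'.2)⟩ : S j))
    (fun t t' => dvdL S j (c t.1) (c t'.1) (hcj t.1 t.2) (hcj t'.1 t'.2))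
    (fun t t' => dvdR S j (c t.1) (c t'.1) (hcj t.1 t.2) (hcj t'.1 t'.2))
    (by
      intro t t' P hP
      have h1 : (⟨c t.1, hcj t.1 t.2⟩ : S j) ∉ P.asIdeal := hP.1
      have h2 : (⟨c t'.1, hcj t'.1 t'.2⟩ : S j) ∉ P.asIdeal := hP.2
      intro he
      have he' : (⟨c t.1, hcj t.1 t.2⟩ : S j) * ⟨c t'.1, hcj t'.1 t'.2⟩ ∈ P.asIdeal := by
        rw [MulMemClass.mk_mul_mk]; exact he
      rcases P.2.mem_or_mem he' with h | h
      · exact h1 h
      · exact h2 h)
    (by
      intro t t'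
      change Spec.map (CommRingCat.ofHom (resL S j (c t.1) (c t'.1) (hcj t.1 t.2) (hcj t'.1 t'.2))) ≫
          (Spec.map (CommRingCat.ofHom (tr S hij (c t.1) (hc0mem t.1 t.2))) ≫ γ0 t.1 t.2) =
        Spec.map (CommRingCat.ofHom (resR S j (c t.1) (c t'.1) (hcj t.1 t.2) (hcj t'.1 t'.2))) ≫
          (Spec.map (CommRingCat.ofHom (tr S hij (c t'.1) (hc0mem t'.1 t'.2))) ≫ γ0 t'.1 t'.2)
      rw [← Category.assoc, ← Spec.map_comp, ← CommRingCat.ofHom_comp,
        ← tr_comp_resL S hij (c t.1) (c t'.1) (hc0mem t.1 t.2) (hc0mem t'.1 t'.2),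
        CommRingCat.ofHom_comp, Spec.map_comp, Category.assoc]
      rw [← Category.assoc (Spec.map (CommRingCat.ofHom (resR S j _ _ _ _))), ← Spec.map_comp,
        ← CommRingCat.ofHom_comp,
        ← tr_comp_resR S hij (c t.1) (c t'.1) (hc0mem t.1 t.2) (hc0mem t'.1 t'.2),
        CommRingCat.ofHom_comp, Spec.map_comp, Category.assoc]
      exact hF3 t.1 t'.1 t.2 t'.2 j hij (hF3mem t.1 t'.1 t.2 t'.2))
  -- Step 7
  have hqG : Spec.map (CommRingCat.ofHom (S j).val.toRingHom) ≫ G = g := by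
    refine hom_ext_away (R := CommRingCat.of C) (I := {t // t ∈ s}) (fun t => c t.1) ?_ _ _ ?_
    · intro P
      obtain ⟨t', ht's, ht'⟩ := hs P
      exact ⟨⟨t', ht's⟩, ht'⟩
    · intro t
      have hGt := hG t
      simp only at hGt
      rw [← Category.assoc, ← Spec.map_comp, ← CommRingCat.ofHom_comp]
      have h1 : (algebraMap C (Localization.Away (c t.1))).comp (S j).val.toRingHom =
          (lam S j (c t.1) (hcj t.1 t.2)).comp
            (algebraMap (S j) (Localization.Away (⟨c t.1, hcj t.1 t.2⟩ : S j))) :=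
        (lam_comp_algebraMap S j (c t.1) (hcj t.1 t.2)).symm
      change Spec.map (CommRingCat.ofHom ((algebraMap C (Localization.Away (c t.1))).comp
        (S j).val.toRingHom)) ≫ G = _
      rw [h1, CommRingCat.ofHom_comp, Spec.map_comp, Category.assoc]
      erw [hGt]
      have h2 := lam_comp_tr S hij (c t.1) (hc0mem t.1 t.2)
      rw [← Category.assoc, ← Spec.map_comp, ← CommRingCat.ofHom_comp, h2, hγ0]
  -- Step 8
  have hGf : G ≫ f = Spec.map (CommRingCat.ofHom (algebraMap A (S j))) := by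
    obtain ⟨θ, hθ⟩ : ∃ θ : CommRingCat.of A ⟶ CommRingCat.of (S j), Spec.map θ = G ≫ f :=
      ⟨Spec.preimage _, Spec.map_preimage _⟩
    have h1 : θ ≫ CommRingCat.ofHom (S j).val.toRingHom =
        CommRingCat.ofHom (algebraMap A C) := by
      apply Spec.map_injective
      rw [Spec.map_comp, hθ, ← Category.assoc, hqG, hg]
    have h2 : θ = CommRingCat.ofHom (algebraMap A (S j)) := by
      ext a
      have := congrArg (fun φ => φ.hom a) h1
      exact this
    rw [← hθ, h2]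
  exact ⟨j, G, hGf, hqG⟩

end Groth.Agent.Lib.Helper20.LimDU
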