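import Mathlib
import Groth.Prelude.Def_W4swconnpcurvhiggsLogLam
import Groth.Agent.Lib.Helper10.LogConnLib

/-!
# The layers `⊕ E_K ⊗ ω_K` of a logarithmic λ-connection are spanned by the explicit generators
(helper20)
-/

set_option autoImplicit false
universe v u

open TensorProduct

namespace Groth.Agent.Lib.Helper20.LogLayer

open Groth.Agent.Lib.Helper10.LogConnLib

section Main

variable {A : Type v} {B L E : Type u} [CommRing A] [CommRing B]
    [Algebra A B] [AddCommGroup L] [Module B L] [Module A L] [IsScalarTower A B L]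
    [AddCommGroup E] [Module B E] [Module A E] [IsScalarTower A B E]
    (lam : B) {n : ℕ} (t : Fin n → B) (bΩ : Module.Basis (Fin n) B (KaehlerDifferential A B))
    (hbΩ : ∀ i, bΩ i = KaehlerDifferential.D A B (t i))
    (ω : Module.Basis (Fin n) B L) (ι : KaehlerDifferential A B →ₗ[B] L)
    (hι : ∀ i, ι (KaehlerDifferential.D A B (t i)) = t i • ω i)
    (nabla : E →ₗ[A] E ⊗[B] L)
    (hc : Conn.IsLamConn (ι.compDer (KaehlerDifferential.D A B)) lam nabla)

omit [Module A L] [IsScalarTower A B L] [CommRing A] [Algebra A B] [Module A E]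
  [IsScalarTower A B E] in
lemma coordE_tmul (p : ℕ) (K : Set.powersetCard (Fin n) p) (y : E) (z : ⋀[B]^p L) :
    LogConn.coordE ω p K (y ⊗ₜ[B] z) = (ω.exteriorPower p).coord K z • y := by
  unfold LogConn.coordE
  rw [LinearMap.comp_apply, TensorProduct.map_tmul, LinearMap.id_apply, LinearEquiv.coe_coe,
    TensorProduct.rid_tmul]

include hbΩ hι in
omit [Module A L] [IsScalarTower A B L] in
lemma coord_iota (k : Fin n) (η : KaehlerDifferential A B) :
    ω.coord k (ι η) = bΩ.repr η k * t k := by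
  conv_lhs => rw [← bΩ.sum_repr η]
  rw [map_sum, map_sum, Finset.sum_eq_single k]
  · rw [map_smul, map_smul, hbΩ, hι, map_smul, Module.Basis.coord_apply, Module.Basis.repr_self,
      Finsupp.single_eq_same, smul_eq_mul, smul_eq_mul, mul_one]
  · intro j _ hjk
    rw [map_smul, map_smul, hbΩ, hι, map_smul, Module.Basis.coord_apply, Module.Basis.repr_self,
      Finsupp.single_eq_of_ne (Ne.symm hjk), smul_zero, smul_zero]
  · intro h
    exact absurd (Finset.mem_univ k) h

omit [Module A L] [IsScalarTower A B L] in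
lemma mem_layer_iff (p : ℕ) (x : E ⊗[B] ⋀[B]^p L) :
    x ∈ LogConn.layer nabla ω t p ↔
      ∀ K : Set.powersetCard (Fin n) p,
        LogConn.coordE ω p K x ∈ LogConn.piece nabla ω t (K : Finset (Fin n)) := by
  unfold LogConn.layer
  rw [Submodule.mem_iInf]
  rfl

include hbΩ hι hc in
lemma smul_mem_layer (p : ℕ) (c : B) {x : E ⊗[B] ⋀[B]^p L}
    (hx : x ∈ LogConn.layer nabla ω t p) : c • x ∈ LogConn.layer nabla ω t p := by
  rw [mem_layer_iff] at hx ⊢
  intro K
  rw [map_smul]
  exact smul_mem_piece lam t bΩ hbΩ ω ι hι nabla hc _ c (hx K)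

omit [Module A L] [IsScalarTower A B L] [CommRing A] [Algebra A B] [Module A E]
  [IsScalarTower A B E] in
lemma sum_coordE (p : ℕ) (x : E ⊗[B] ⋀[B]^p L) :
    x = ∑ K : Set.powersetCard (Fin n) p,
      LogConn.coordE ω p K x ⊗ₜ[B] (ω.exteriorPower p K) := by
  induction x using TensorProduct.induction_on with
  | zero => simp
  | tmul y z =>
    simp only [coordE_tmul]
    conv_lhs => rw [← (ω.exteriorPower p).sum_repr z, TensorProduct.tmul_sum]
    refine Finset.sum_congr rfl fun K _ => ?_
    rw [TensorProduct.tmul_smul, TensorProduct.smul_tmul', Module.Basis.coord_apply]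
  | add x y hx hy =>
    simp only [map_add, TensorProduct.add_tmul, Finset.sum_add_distrib]
    rw [← hx, ← hy]

include hbΩ hι hc in
lemma gen_mem_layer (p : ℕ) (I : Finset (Fin n)) (hI : I.card ≤ p) (e : E) (v : Fin p → L)
    (hv1 : ∀ (k : Fin p) (hk : k.val < I.card), v k = ω (I.orderEmbOfFin rfl ⟨k.val, hk⟩))
    (hv2 : ∀ k : Fin p, I.card ≤ k.val → v k ∈ LinearMap.range ι) :
    LogConn.compProd nabla ω I e ⊗ₜ[B] exteriorPower.ιMulti B p v ∈
      LogConn.layer nabla ω t p := by
  classical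
  rw [mem_layer_iff]
  intro K
  rw [coordE_tmul, exteriorPower.basis_coord, exteriorPower.ιMultiDual_apply_ιMulti]
  by_cases hIK : I ⊆ (K : Finset (Fin n))
  · have hη : ∀ k : Fin p, ∃ η, I.card ≤ k.val → ι η = v k := by
      intro k
      by_cases h : I.card ≤ k.val
      · obtain ⟨η, hη⟩ := hv2 k h
        exact ⟨η, fun _ => hη⟩
      · exact ⟨0, fun h' => absurd h' h⟩
    choose η hη using hη
    obtain ⟨κ, hκ⟩ : ∃ κ : Fin p → Fin n, κ = fun j => Set.powersetCard.ofFinEmbEquiv.symm K j :=
      ⟨_, rfl⟩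
    have hκK : ∀ j, κ j ∈ (K : Finset (Fin n)) := by
      intro j
      rw [hκ]
      exact Finset.orderEmbOfFin_mem K.val K.prop j
    obtain ⟨w, hw⟩ : ∃ w : Fin n → B, w = fun k => if k ∈ I then 1 else t k := ⟨_, rfl⟩
    obtain ⟨N, hN⟩ : ∃ N : Matrix (Fin p) (Fin p) B, N = Matrix.of fun i j =>
      if κ j ∈ I then ω.coord (κ j) (v i) else
        (if I.card ≤ i.val then bΩ.repr (η i) (κ j) else 0) := ⟨_, rfl⟩
    have hM : (Matrix.of fun i j => ω.coord (Set.powersetCard.ofFinEmbEquiv.symm K j) (v i)) =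
        Matrix.of fun i j => (fun j => w (κ j)) j * N i j := by
      ext i j
      simp only [Matrix.of_apply, hw, hN]
      rw [show Set.powersetCard.ofFinEmbEquiv.symm K j = κ j by rw [hκ]]
      by_cases h1 : κ j ∈ I
      · rw [if_pos h1, if_pos h1, one_mul]
      · rw [if_neg h1, if_neg h1]
        by_cases h2 : I.card ≤ i.val
        · rw [if_pos h2, ← hη i h2, coord_iota t bΩ hbΩ ω ι hι, mul_comm]
        · rw [if_neg h2, mul_zero, hv1 i (not_le.1 h2), Module.Basis.coord_apply,
            Module.Basis.repr_self, Finsupp.single_eq_of_ne]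
          intro h3
          exact h1 (h3 ▸ Finset.orderEmbOfFin_mem I rfl _)
    rw [hM, Matrix.det_mul_row]
    have hprod : ∏ j : Fin p, w (κ j) = ∏ k ∈ (K : Finset (Fin n)) \ I, t k := by
      have h1 : ∏ j : Fin p, w (κ j) = ∏ k ∈ (K : Finset (Fin n)), w k := by
        conv_rhs => rw [← Finset.map_orderEmbOfFin_univ K.val K.prop, Finset.prod_map]
        rw [hκ]
        rfl
      rw [h1, ← Finset.prod_subset (Finset.sdiff_subset (s := (K : Finset (Fin n))) (t := I))]
      · refine Finset.prod_congr rfl fun k hk => ?_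
        rw [hw]
        exact if_neg (Finset.mem_sdiff.1 hk).2
      · intro k hk hk'
        rw [hw]
        refine if_pos ?_
        by_contra h
        exact hk' (Finset.mem_sdiff.2 ⟨hk, h⟩)
    rw [hprod, mul_comm, mul_smul]
    exact smul_mem_piece lam t bΩ hbΩ ω ι hι nabla hc _ _ (mem_piece t ω nabla hIK e)
  · obtain ⟨i₀, hi₀I, hi₀K⟩ := Finset.not_subset.1 hIK
    obtain ⟨r, hr⟩ : ∃ r : Fin I.card, I.orderEmbOfFin rfl r = i₀ := by
      have h := Finset.range_orderEmbOfFin I rfl
      have h2 : i₀ ∈ Set.range (I.orderEmbOfFin rfl) := by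
        rw [h]; exact hi₀I
      exact h2
    have hrp : r.val < p := lt_of_lt_of_le r.isLt hI
    rw [Matrix.det_eq_zero_of_row_eq_zero ⟨r.val, hrp⟩, zero_smul]
    · exact Submodule.zero_mem _
    · intro j
      rw [Matrix.of_apply, hv1 ⟨r.val, hrp⟩ r.isLt, Module.Basis.coord_apply,
        Module.Basis.repr_self, Finsupp.single_eq_of_ne]
      intro h3
      apply hi₀K
      rw [← hr]
      have h4 : I.orderEmbOfFin rfl ⟨r.val, r.isLt⟩ = I.orderEmbOfFin rfl r := rfl
      rw [← h4, ← h3]
      exact Finset.orderEmbOfFin_mem K.val K.prop j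


include hι in
omit [Module A L] [IsScalarTower A B L] in
lemma key_mem_span_aux (m : ℕ) (J : Finset (Fin n)) (K : Set.powersetCard (Fin n) (J.card + m))
    (hJ : J ⊆ (K : Finset (Fin n))) (e : E) :
    ((∏ i ∈ (K : Finset (Fin n)) \ J, t i) • LogConn.compProd nabla ω J e) ⊗ₜ[B]
        (ω.exteriorPower (J.card + m) K) ∈
      Submodule.span B (LogConn.gens nabla ω ι (J.card + m)) := by
  classical
  have hKp : (K : Finset (Fin n)).card = J.card + m := K.prop
  have hKJ : ((K : Finset (Fin n)) \ J).card = m := by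
    rw [Finset.card_sdiff_of_subset hJ, hKp]; omega
  obtain ⟨a, ha⟩ : ∃ a : Fin J.card → Fin n, a = J.orderEmbOfFin rfl := ⟨_, rfl⟩
  obtain ⟨b, hb⟩ : ∃ b : Fin m → Fin n, b = ((K : Finset (Fin n)) \ J).orderEmbOfFin hKJ :=
    ⟨_, rfl⟩
  have haJ : ∀ i, a i ∈ J := fun i => by rw [ha]; exact Finset.orderEmbOfFin_mem _ _ _
  have hbKJ : ∀ i, b i ∈ (K : Finset (Fin n)) \ J := fun i => by
    rw [hb]; exact Finset.orderEmbOfFin_mem _ _ _
  obtain ⟨τ, hτ⟩ : ∃ τ : Fin (J.card + m) → Fin n, τ = Fin.append a b := ⟨_, rfl⟩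
  have hτinj : Function.Injective τ := by
    rw [hτ, Fin.append_injective_iff]
    refine ⟨?_, ?_, ?_⟩
    · rw [ha]; exact (J.orderEmbOfFin rfl).injective
    · rw [hb]; exact (((K : Finset (Fin n)) \ J).orderEmbOfFin hKJ).injective
    · intro i j h
      exact (Finset.mem_sdiff.1 (hbKJ j)).2 (h ▸ haJ i)
  have hτK : ∀ k, τ k ∈ (K : Finset (Fin n)) := by
    intro k
    refine Fin.addCases (fun i => ?_) (fun i => ?_) k
    · rw [hτ, Fin.append_left]; exact hJ (haJ i)
    · rw [hτ, Fin.append_right]; exact (Finset.mem_sdiff.1 (hbKJ i)).1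
  obtain ⟨c, hc'⟩ : ∃ c : Fin (J.card + m) → B,
    c = Fin.append (fun _ => (1 : B)) (fun i => t (b i)) := ⟨_, rfl⟩
  obtain ⟨v, hv⟩ : ∃ v : Fin (J.card + m) → L, v = fun k => c k • ω (τ k) := ⟨_, rfl⟩
  have hvl : ∀ i : Fin J.card, v (Fin.castAdd m i) = ω (a i) := by
    intro i
    rw [hv, hc', hτ]
    simp only [Fin.append_left, one_smul]
  have hvr : ∀ i : Fin m, v (Fin.natAdd J.card i) = t (b i) • ω (b i) := by
    intro i
    rw [hv, hc', hτ]
    simp only [Fin.append_right]
  have hgen : LogConn.compProd nabla ω J e ⊗ₜ[B] exteriorPower.ιMulti B (J.card + m) v ∈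
      LogConn.gens nabla ω ι (J.card + m) := by
    refine ⟨J, Nat.le_add_right _ _, e, v, ?_, ?_, rfl⟩
    · intro k hk
      have hk' : k = Fin.castAdd m ⟨k.val, hk⟩ := Fin.ext rfl
      calc v k = v (Fin.castAdd m ⟨k.val, hk⟩) := congrArg v hk'
        _ = ω (a ⟨k.val, hk⟩) := hvl _
        _ = _ := by rw [ha]
    · intro k hk
      have hk2 : k.val - J.card < m := by have := k.isLt; omega
      have hk' : k = Fin.natAdd J.card ⟨k.val - J.card, hk2⟩ := by
        apply Fin.ext
        simp only [Fin.natAdd_mk]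
        omega
      rw [hk', hvr]
      exact ⟨KaehlerDifferential.D A B (t (b ⟨k.val - J.card, hk2⟩)), hι _⟩
  have hmulti : exteriorPower.ιMulti B (J.card + m) v =
      (∏ k, c k) • exteriorPower.ιMulti B (J.card + m) (fun k => ω (τ k)) := by
    rw [hv]
    exact (exteriorPower.ιMulti B (J.card + m)).map_smul_univ c (fun k => ω (τ k))
  have hprodc : ∏ k, c k = ∏ i ∈ (K : Finset (Fin n)) \ J, t i := by
    rw [Fin.prod_univ_add, hc']
    simp only [Fin.append_left, Fin.append_right, Finset.prod_const_one, one_mul]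
    conv_rhs => rw [← Finset.map_orderEmbOfFin_univ _ hKJ, Finset.prod_map]
    rw [hb]
    rfl
  obtain ⟨σ, hσ⟩ : ∃ σ : Equiv.Perm (Fin (J.card + m)),
      ∀ k, Set.powersetCard.ofFinEmbEquiv.symm K (σ k) = τ k := by
    let f : Fin (J.card + m) → Fin (J.card + m) :=
      fun k => (K.val.orderIsoOfFin hKp).symm ⟨τ k, hτK k⟩
    have hf : ∀ k, K.val.orderEmbOfFin hKp (f k) = τ k := by
      intro k
      have h1 : ((K.val.orderIsoOfFin hKp (f k) : K.val) : Fin n) = τ k := by
        simp only [f, OrderIso.apply_symm_apply]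
      exact h1
    have hfinj : Function.Injective f := by
      intro x y hxy
      apply hτinj
      rw [← hf x, ← hf y, hxy]
    exact ⟨Equiv.ofBijective f (Finite.injective_iff_bijective.1 hfinj), fun k => hf k⟩
  have hperm : exteriorPower.ιMulti B (J.card + m) (fun k => ω (τ k)) =
      Equiv.Perm.sign σ • (ω.exteriorPower (J.card + m) K) := by
    rw [exteriorPower.basis_apply, exteriorPower.ιMulti_family, ← AlternatingMap.map_perm]
    congr 1
    funext k
    simp only [Function.comp_apply]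
    rw [hσ k]
  have hG := Submodule.subset_span (s := LogConn.gens nabla ω ι (J.card + m)) (R := B) hgen
  rw [hmulti, hprodc, hperm] at hG
  rcases Int.units_eq_one_or (Equiv.Perm.sign σ) with h | h
  · rw [h, one_smul, ← TensorProduct.smul_tmul] at hG
    exact hG
  · rw [h, Units.neg_smul, one_smul, smul_neg, TensorProduct.tmul_neg,
      ← TensorProduct.smul_tmul] at hG
    exact (Submodule.neg_mem_iff _).1 hG

include hι in
omit [Module A L] [IsScalarTower A B L] in
lemma key_mem_span (p : ℕ) (K : Set.powersetCard (Fin n) p) (J : Finset (Fin n))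
    (hJ : J ⊆ (K : Finset (Fin n))) (e : E) :
    ((∏ i ∈ (K : Finset (Fin n)) \ J, t i) • LogConn.compProd nabla ω J e) ⊗ₜ[B]
        (ω.exteriorPower p K) ∈
      Submodule.span B (LogConn.gens nabla ω ι p) := by
  have hle : J.card ≤ p := by
    have h := Finset.card_le_card hJ
    rwa [K.prop] at h
  obtain ⟨m, rfl⟩ : ∃ m, p = J.card + m := Nat.exists_eq_add_of_le hle
  exact key_mem_span_aux t ω ι hι nabla m J K hJ e

include hbΩ hι hc in
/-- The `B`-span of the generators is the layer. -/
theorem span_gens_eq_layer (p : ℕ) :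
    (Submodule.span B (LogConn.gens nabla ω ι p)).restrictScalars A =
      LogConn.layer nabla ω t p := by
  apply le_antisymm
  · intro x hx
    rw [Submodule.restrictScalars_mem] at hx
    induction hx using Submodule.span_induction with
    | mem x hx =>
      obtain ⟨I, hI, e, v, hv1, hv2, rfl⟩ := hx
      exact gen_mem_layer lam t bΩ hbΩ ω ι hι nabla hc p I hI e v hv1 hv2
    | zero => exact Submodule.zero_mem _
    | add x y _ _ hx hy => exact Submodule.add_mem _ hx hy
    | smul c x _ hx => exact smul_mem_layer lam t bΩ hbΩ ω ι hι nabla hc p c hx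
  · intro x hx
    rw [Submodule.restrictScalars_mem]
    rw [mem_layer_iff] at hx
    rw [sum_coordE ω p x]
    refine Submodule.sum_mem _ fun K _ => ?_
    refine piece_induction t ω nabla
      (P := fun y => y ⊗ₜ[B] (ω.exteriorPower p K) ∈
        Submodule.span B (LogConn.gens nabla ω ι p)) ?_ ?_ ?_ (hx K)
    · intro J hJ e
      exact key_mem_span t ω ι hι nabla p K J hJ e
    · rw [TensorProduct.zero_tmul]; exact Submodule.zero_mem _
    · intro x y hx hy
      rw [TensorProduct.add_tmul]; exact Submodule.add_mem _ hx hy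

end Main

end Groth.Agent.Lib.Helper20.LogLayer
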