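import Mathlib
import Groth.Prelude.Def_W4swconnpcurvhiggsLogLam
import Groth.Prelude.Def_LogDiff
import Groth.Agent.Lib.Helper10.LogConnLib
import Groth.Agent.Lib.Helper20.LogLayer

/-!
# Layers of a flat logarithmic λ-connection are stable under the extended connection (helper20)
-/

set_option autoImplicit false
universe v u

open TensorProduct

namespace Groth.Agent.Lib.Helper20.LogLayer

open Groth.Agent.Lib.Helper10.LogConnLib

section Main2

variable {A : Type v} {B L E : Type u} [CommRing A] [CommRing B]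
    [Algebra A B] [AddCommGroup L] [Module B L] [Module A L] [IsScalarTower A B L]
    [AddCommGroup E] [Module B E] [Module A E] [IsScalarTower A B E]
    (lam : B) {n : ℕ} (t : Fin n → B) (bΩ : Module.Basis (Fin n) B (KaehlerDifferential A B))
    (hbΩ : ∀ i, bΩ i = KaehlerDifferential.D A B (t i))
    (ω : Module.Basis (Fin n) B L) (ι : KaehlerDifferential A B →ₗ[B] L)
    (hι : ∀ i, ι (KaehlerDifferential.D A B (t i)) = t i • ω i)
    (nabla : E →ₗ[A] E ⊗[B] L)
    (hc : Conn.IsLamConn (ι.compDer (KaehlerDifferential.D A B)) lam nabla)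

include hbΩ hι hc in
/-- Generalised generators lie in the layer: the factors of the wedge may come in any order. -/
lemma gen_mem_layer' (q : ℕ) (I : Finset (Fin n)) (e : E) (v : Fin q → L)
    (h1 : ∀ i ∈ I, ∃ k, v k = ω i)
    (h2 : ∀ k, (∃ i ∈ I, v k = ω i) ∨ v k ∈ LinearMap.range ι) :
    LogConn.compProd nabla ω I e ⊗ₜ[B] exteriorPower.ιMulti B q v ∈
      LogConn.layer nabla ω t q := by
  classical
  rw [mem_layer_iff]
  intro K
  rw [coordE_tmul, exteriorPower.basis_coord, exteriorPower.ιMultiDual_apply_ιMulti]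
  by_cases hIK : I ⊆ (K : Finset (Fin n))
  · have hη : ∀ k : Fin q, ∃ η, (¬ ∃ i ∈ I, v k = ω i) → ι η = v k := by
      intro k
      by_cases h : ∃ i ∈ I, v k = ω i
      · exact ⟨0, fun h' => absurd h h'⟩
      · obtain ⟨η, hη⟩ := (h2 k).resolve_left h
        exact ⟨η, fun _ => hη⟩
    choose η hη using hη
    obtain ⟨κ, hκ⟩ : ∃ κ : Fin q → Fin n, κ = fun j => Set.powersetCard.ofFinEmbEquiv.symm K j :=
      ⟨_, rfl⟩
    obtain ⟨w, hw⟩ : ∃ w : Fin n → B, w = fun k => if k ∈ I then 1 else t k := ⟨_, rfl⟩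
    obtain ⟨N, hN⟩ : ∃ N : Matrix (Fin q) (Fin q) B, N = Matrix.of fun i j =>
      if κ j ∈ I then ω.coord (κ j) (v i) else
        (if (∃ i' ∈ I, v i = ω i') then 0 else bΩ.repr (η i) (κ j)) := ⟨_, rfl⟩
    have hM : (Matrix.of fun i j => ω.coord (Set.powersetCard.ofFinEmbEquiv.symm K j) (v i)) =
        Matrix.of fun i j => (fun j => w (κ j)) j * N i j := by
      ext i j
      simp only [Matrix.of_apply, hw, hN]
      rw [show Set.powersetCard.ofFinEmbEquiv.symm K j = κ j by rw [hκ]]
      by_cases h1' : κ j ∈ I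
      · rw [if_pos h1', if_pos h1', one_mul]
      · rw [if_neg h1', if_neg h1']
        by_cases h2' : ∃ i' ∈ I, v i = ω i'
        · rw [if_pos h2', mul_zero]
          obtain ⟨i', hi'I, hi'⟩ := h2'
          rw [hi', Module.Basis.coord_apply, Module.Basis.repr_self, Finsupp.single_eq_of_ne]
          intro h3
          exact h1' (h3 ▸ hi'I)
        · rw [if_neg h2', ← hη i h2', coord_iota t bΩ hbΩ ω ι hι, mul_comm]
    rw [hM, Matrix.det_mul_row]
    have hprod : ∏ j : Fin q, w (κ j) = ∏ k ∈ (K : Finset (Fin n)) \ I, t k := by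
      have h1 : ∏ j : Fin q, w (κ j) = ∏ k ∈ (K : Finset (Fin n)), w k := by
        conv_rhs => rw [← Finset.map_orderEmbOfFin_univ K.val K.prop, Finset.prod_map]
        rw [hκ]
        rfl
      rw [h1, ← Finset.prod_subset (Finset.sdiff_subset (s := (K : Finset (Fin n))) (t := I))]
      · refine Finset.prod_congr rfl fun k hk => ?_
        rw [hw]
        exact if_neg (Finset.mem_sdiff.1 hk).2
      · intro k hk hk'
        rw [hw]
        refine if_pos ?_
        by_contra h
        exact hk' (Finset.mem_sdiff.2 ⟨hk, h⟩)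
    rw [hprod, mul_comm, mul_smul]
    exact smul_mem_piece lam t bΩ hbΩ ω ι hι nabla hc _ _ (mem_piece t ω nabla hIK e)
  · obtain ⟨i₀, hi₀I, hi₀K⟩ := Finset.not_subset.1 hIK
    obtain ⟨k₀, hk₀⟩ := h1 i₀ hi₀I
    rw [Matrix.det_eq_zero_of_row_eq_zero k₀, zero_smul]
    · exact Submodule.zero_mem _
    · intro j
      rw [Matrix.of_apply, hk₀, Module.Basis.coord_apply,
        Module.Basis.repr_self, Finsupp.single_eq_of_ne]
      intro h3
      apply hi₀K
      rw [← h3]
      exact Finset.orderEmbOfFin_mem K.val K.prop j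

/-- The generators whose "smooth" factors are the `ι (d tᵢ)`. -/
def gensD (p : ℕ) : Set (E ⊗[B] ↥(⋀[B]^p L)) :=
  {x | ∃ (I : Finset (Fin n)) (_ : I.card ≤ p) (e : E) (v : Fin p → L),
    (∀ (k : Fin p) (hk : k.val < I.card), v k = ω (I.orderEmbOfFin rfl ⟨k.val, hk⟩)) ∧
    (∀ k : Fin p, I.card ≤ k.val → ∃ i, v k = ι (KaehlerDifferential.D A B (t i))) ∧
    x = LogConn.compProd nabla ω I e ⊗ₜ[B] exteriorPower.ιMulti B p v}

include hι in
omit [Module A L] [IsScalarTower A B L] in
lemma keyD_mem_span_aux (m : ℕ) (J : Finset (Fin n))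
    (K : Set.powersetCard (Fin n) (J.card + m))
    (hJ : J ⊆ (K : Finset (Fin n))) (e : E) :
    ((∏ i ∈ (K : Finset (Fin n)) \ J, t i) • LogConn.compProd nabla ω J e) ⊗ₜ[B]
        (ω.exteriorPower (J.card + m) K) ∈
      Submodule.span B (gensD t ω ι nabla (J.card + m)) := by
  classical
  have hKp : (K : Finset (Fin n)).card = J.card + m := K.prop
  have hKJ : ((K : Finset (Fin n)) \ J).card = m := by
    rw [Finset.card_sdiff_of_subset hJ, hKp]; omega
  obtain ⟨a, ha⟩ : ∃ a : Fin J.card → Fin n, a = J.orderEmbOfFin rfl := ⟨_, rfl⟩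
  obtain ⟨b, hb⟩ : ∃ b : Fin m → Fin n, b = ((K : Finset (Fin n)) \ J).orderEmbOfFin hKJ :=
    ⟨_, rfl⟩
  have haJ : ∀ i, a i ∈ J := fun i => by rw [ha]; exact Finset.orderEmbOfFin_mem _ _ _
  have hbKJ : ∀ i, b i ∈ (K : Finset (Fin n)) \ J := fun i => by
    rw [hb]; exact Finset.orderEmbOfFin_mem _ _ _
  obtain ⟨τ, hτ⟩ : ∃ τ : Fin (J.card + m) → Fin n, τ = Fin.append a b := ⟨_, rfl⟩
  have hτinj : Function.Injective τ := by
    rw [hτ, Fin.append_injective_iff]
    refine ⟨?_, ?_, ?_⟩
    · rw [ha]; exact (J.orderEmbOfFin rfl).injective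
    · rw [hb]; exact (((K : Finset (Fin n)) \ J).orderEmbOfFin hKJ).injective
    · intro i j h
      exact (Finset.mem_sdiff.1 (hbKJ j)).2 (h ▸ haJ i)
  have hτK : ∀ k, τ k ∈ (K : Finset (Fin n)) := by
    intro k
    refine Fin.addCases (fun i => ?_) (fun i => ?_) k
    · rw [hτ, Fin.append_left]; exact hJ (haJ i)
    · rw [hτ, Fin.append_right]; exact (Finset.mem_sdiff.1 (hbKJ i)).1
  obtain ⟨c, hc'⟩ : ∃ c : Fin (J.card + m) → B,
    c = Fin.append (fun _ => (1 : B)) (fun i => t (b i)) := ⟨_, rfl⟩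
  obtain ⟨v, hv⟩ : ∃ v : Fin (J.card + m) → L, v = fun k => c k • ω (τ k) := ⟨_, rfl⟩
  have hvl : ∀ i : Fin J.card, v (Fin.castAdd m i) = ω (a i) := by
    intro i
    rw [hv, hc', hτ]
    simp only [Fin.append_left, one_smul]
  have hvr : ∀ i : Fin m, v (Fin.natAdd J.card i) = t (b i) • ω (b i) := by
    intro i
    rw [hv, hc', hτ]
    simp only [Fin.append_right]
  have hgen : LogConn.compProd nabla ω J e ⊗ₜ[B] exteriorPower.ιMulti B (J.card + m) v ∈
      gensD t ω ι nabla (J.card + m) := by
    refine ⟨J, Nat.le_add_right _ _, e, v, ?_, ?_, rfl⟩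
    · intro k hk
      have hk' : k = Fin.castAdd m ⟨k.val, hk⟩ := Fin.ext rfl
      calc v k = v (Fin.castAdd m ⟨k.val, hk⟩) := congrArg v hk'
        _ = ω (a ⟨k.val, hk⟩) := hvl _
        _ = _ := by rw [ha]
    · intro k hk
      have hk2 : k.val - J.card < m := by have := k.isLt; omega
      have hk' : k = Fin.natAdd J.card ⟨k.val - J.card, hk2⟩ := by
        apply Fin.ext
        simp only [Fin.natAdd_mk]
        omega
      rw [hk', hvr]
      exact ⟨b ⟨k.val - J.card, hk2⟩, (hι _).symm⟩
  have hmulti : exteriorPower.ιMulti B (J.card + m) v =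
      (∏ k, c k) • exteriorPower.ιMulti B (J.card + m) (fun k => ω (τ k)) := by
    rw [hv]
    exact (exteriorPower.ιMulti B (J.card + m)).map_smul_univ c (fun k => ω (τ k))
  have hprodc : ∏ k, c k = ∏ i ∈ (K : Finset (Fin n)) \ J, t i := by
    rw [Fin.prod_univ_add, hc']
    simp only [Fin.append_left, Fin.append_right, Finset.prod_const_one, one_mul]
    conv_rhs => rw [← Finset.map_orderEmbOfFin_univ _ hKJ, Finset.prod_map]
    rw [hb]
    rfl
  obtain ⟨σ, hσ⟩ : ∃ σ : Equiv.Perm (Fin (J.card + m)),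
      ∀ k, Set.powersetCard.ofFinEmbEquiv.symm K (σ k) = τ k := by
    let f : Fin (J.card + m) → Fin (J.card + m) :=
      fun k => (K.val.orderIsoOfFin hKp).symm ⟨τ k, hτK k⟩
    have hf : ∀ k, K.val.orderEmbOfFin hKp (f k) = τ k := by
      intro k
      have h1 : ((K.val.orderIsoOfFin hKp (f k) : K.val) : Fin n) = τ k := by
        simp only [f, OrderIso.apply_symm_apply]
      exact h1
    have hfinj : Function.Injective f := by
      intro x y hxy
      apply hτinj
      rw [← hf x, ← hf y, hxy]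
    exact ⟨Equiv.ofBijective f (Finite.injective_iff_bijective.1 hfinj), fun k => hf k⟩
  have hperm : exteriorPower.ιMulti B (J.card + m) (fun k => ω (τ k)) =
      Equiv.Perm.sign σ • (ω.exteriorPower (J.card + m) K) := by
    rw [exteriorPower.basis_apply, exteriorPower.ιMulti_family, ← AlternatingMap.map_perm]
    congr 1
    funext k
    simp only [Function.comp_apply]
    rw [hσ k]
  have hG := Submodule.subset_span (s := gensD t ω ι nabla (J.card + m)) (R := B) hgen
  rw [hmulti, hprodc, hperm] at hG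
  rcases Int.units_eq_one_or (Equiv.Perm.sign σ) with h | h
  · rw [h, one_smul, ← TensorProduct.smul_tmul] at hG
    exact hG
  · rw [h, Units.neg_smul, one_smul, smul_neg, TensorProduct.tmul_neg,
      ← TensorProduct.smul_tmul] at hG
    exact (Submodule.neg_mem_iff _).1 hG

include hι in
omit [Module A L] [IsScalarTower A B L] in
lemma keyD_mem_span (p : ℕ) (K : Set.powersetCard (Fin n) p) (J : Finset (Fin n))
    (hJ : J ⊆ (K : Finset (Fin n))) (e : E) :
    ((∏ i ∈ (K : Finset (Fin n)) \ J, t i) • LogConn.compProd nabla ω J e) ⊗ₜ[B]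
        (ω.exteriorPower p K) ∈
      Submodule.span B (gensD t ω ι nabla p) := by
  have hle : J.card ≤ p := by
    have h := Finset.card_le_card hJ
    rwa [K.prop] at h
  obtain ⟨m, rfl⟩ : ∃ m, p = J.card + m := Nat.exists_eq_add_of_le hle
  exact keyD_mem_span_aux t ω ι hι nabla m J K hJ e

include hι in
omit [Module A L] [IsScalarTower A B L] in
/-- The layer is contained in the `B`-span of the special generators. -/
theorem layer_le_span_gensD (p : ℕ) {x : E ⊗[B] ↥(⋀[B]^p L)}
    (hx : x ∈ LogConn.layer nabla ω t p) :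
    x ∈ Submodule.span B (gensD t ω ι nabla p) := by
  rw [mem_layer_iff] at hx
  rw [sum_coordE ω p x]
  refine Submodule.sum_mem _ fun K _ => ?_
  refine piece_induction t ω nabla
    (P := fun y => y ⊗ₜ[B] (ω.exteriorPower p K) ∈
      Submodule.span B (gensD t ω ι nabla p)) ?_ ?_ ?_ (hx K)
  · intro J hJ e
    exact keyD_mem_span t ω ι hι nabla p K J hJ e
  · rw [TensorProduct.zero_tmul]; exact Submodule.zero_mem _
  · intro x y hx hy
    rw [TensorProduct.add_tmul]; exact Submodule.add_mem _ hx hy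


omit [Module A L] [IsScalarTower A B L] [CommRing A] [Algebra A B] [Module A E]
  [IsScalarTower A B E] in
lemma sum_comp_tmul (z : E ⊗[B] L) :
    z = ∑ i, (TensorProduct.rid B E (TensorProduct.map LinearMap.id (ω.coord i) z)) ⊗ₜ[B] ω i := by
  induction z using TensorProduct.induction_on with
  | zero => simp
  | tmul y l =>
    simp only [TensorProduct.map_tmul, LinearMap.id_apply, TensorProduct.rid_tmul]
    conv_lhs => rw [← ω.sum_repr l, TensorProduct.tmul_sum]
    refine Finset.sum_congr rfl fun i _ => ?_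
    rw [TensorProduct.tmul_smul, TensorProduct.smul_tmul', Module.Basis.coord_apply]
  | add x y hx hy =>
    simp only [map_add, TensorProduct.add_tmul, Finset.sum_add_distrib]
    rw [← hx, ← hy]

omit [Module A L] [IsScalarTower A B L] in
lemma nabla_eq_sum (e : E) : nabla e = ∑ i, LogConn.comp nabla ω i e ⊗ₜ[B] ω i := by
  conv_lhs => rw [sum_comp_tmul ω (nabla e)]
  rfl

omit [Module A L] [IsScalarTower A B L] [CommRing A] [Algebra A B] in
lemma wedge_one_ιMulti (p : ℕ) (x : L) (v : Fin p → L) :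
    Conn.wedge p ((exteriorPower.oneEquiv B L).symm x) (exteriorPower.ιMulti B p v) =
      exteriorPower.ιMulti B (p + 1) (Fin.cons x v) := by
  apply Subtype.ext
  rw [Conn.wedge_apply_coe, exteriorPower.oneEquiv_symm_apply]
  simp only [exteriorPower.ιMulti_apply_coe]
  rw [ExteriorAlgebra.ιMulti_succ_apply (n := p), ExteriorAlgebra.ιMulti_succ_apply (n := 0),
    ExteriorAlgebra.ιMulti_zero_apply, mul_one]
  congr 1

omit [Module A L] [IsScalarTower A B L] in
lemma twedge_toOne_nabla (p : ℕ) (e : E) (η : ↥(⋀[B]^p L)) :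
    Conn.twedge p (Conn.toOne (nabla e)) η =
      ∑ i, LogConn.comp nabla ω i e ⊗ₜ[B]
        Conn.wedge p ((exteriorPower.oneEquiv B L).symm (ω i)) η := by
  rw [nabla_eq_sum ω nabla e, map_sum, map_sum, LinearMap.sum_apply]
  refine Finset.sum_congr rfl fun i _ => ?_
  rw [Conn.toOne_tmul, Conn.twedge_tmul]


section Flat

variable (d : ∀ p : ℕ, ↥(⋀[B]^p L) →ₗ[A] ↥(⋀[B]^(p + 1) L))
    (hd : LogDiff.IsLogRule (KaehlerDifferential.D A B) ι (⇑ω) d)
    (nablas : ∀ p : ℕ, E ⊗[B] ↥(⋀[B]^p L) →ₗ[A] E ⊗[B] ↥(⋀[B]^(p + 1) L))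
    (hint : Conn.IsIntegrable nabla (fun p => lam • d p) nablas)

include hd in
omit [AddCommGroup E] [Module B E] [Module A E] [IsScalarTower A B E] in
lemma d_one_omega (j : Fin n) :
    d 1 ((exteriorPower.oneEquiv B L).symm (ω j)) = 0 := by
  have h := hd 1 1 (fun _ => ω j) (fun _ => Or.inr ⟨j, rfl⟩)
  rw [one_smul] at h
  rw [exteriorPower.oneEquiv_symm_apply, h]
  refine (exteriorPower.ιMulti B 2).map_coord_zero 0 ?_
  rw [Fin.cons_zero, Derivation.map_one_eq_zero, map_zero]

omit [Module A L] [IsScalarTower A B L] [CommRing A] [Algebra A B] [Module A E]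
  [IsScalarTower A B E] in
lemma delta_sum (a b : Fin n) (f : Fin n → Fin n → E) :
    ∑ j, ∑ i, ((ω.coord a (ω i)) * (ω.coord b (ω j)) - (ω.coord b (ω i)) * (ω.coord a (ω j))) •
      f i j = f a b - f b a := by
  classical
  simp only [sub_smul, Finset.sum_sub_distrib, Module.Basis.coord_apply, Module.Basis.repr_self]
  congr 1
  · rw [Finset.sum_eq_single b, Finset.sum_eq_single a]
    · rw [Finsupp.single_eq_same, Finsupp.single_eq_same, one_mul, one_smul]
    · intro i _ hi
      rw [Finsupp.single_eq_of_ne (Ne.symm hi), zero_mul, zero_smul]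
    · intro h; exact absurd (Finset.mem_univ a) h
    · intro j _ hj
      refine Finset.sum_eq_zero fun i _ => ?_
      rw [Finsupp.single_eq_of_ne (a := j) (Ne.symm hj), mul_zero, zero_smul]
    · intro h; exact absurd (Finset.mem_univ b) h
  · rw [Finset.sum_eq_single a, Finset.sum_eq_single b]
    · rw [Finsupp.single_eq_same, Finsupp.single_eq_same, one_mul, one_smul]
    · intro i _ hi
      rw [Finsupp.single_eq_of_ne (Ne.symm hi), zero_mul, zero_smul]
    · intro h; exact absurd (Finset.mem_univ b) h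
    · intro j _ hj
      refine Finset.sum_eq_zero fun i _ => ?_
      rw [Finsupp.single_eq_of_ne (a := j) (Ne.symm hj), mul_zero, zero_smul]
    · intro h; exact absurd (Finset.mem_univ a) h

include hd hint in
/-- Flatness makes the components of `∇` in the logarithmic basis commute. -/
lemma comp_comm (a b : Fin n) (e : E) :
    LogConn.comp nabla ω a (LogConn.comp nabla ω b e) =
      LogConn.comp nabla ω b (LogConn.comp nabla ω a e) := by
  have h0 := hint.2 e
  have h1 : Conn.toOne (nabla e) =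
      ∑ j, LogConn.comp nabla ω j e ⊗ₜ[B] (exteriorPower.oneEquiv B L).symm (ω j) := by
    rw [nabla_eq_sum ω nabla e, map_sum]
    refine Finset.sum_congr rfl fun j _ => ?_
    rw [Conn.toOne_tmul]
  rw [h1, map_sum] at h0
  have h2 : ∀ j, nablas 1 (LogConn.comp nabla ω j e ⊗ₜ[B]
      (exteriorPower.oneEquiv B L).symm (ω j)) =
      ∑ i, LogConn.comp nabla ω i (LogConn.comp nabla ω j e) ⊗ₜ[B]
        exteriorPower.ιMulti B 2 (Fin.cons (ω i) (fun _ => ω j)) := by
    intro j
    rw [hint.1 1, LinearMap.smul_apply, d_one_omega ω ι d hd j, smul_zero,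
      TensorProduct.tmul_zero, add_zero, twedge_toOne_nabla ω nabla]
    refine Finset.sum_congr rfl fun i _ => ?_
    rw [exteriorPower.oneEquiv_symm_apply B L (ω j), wedge_one_ιMulti]
  simp only [h2] at h0
  obtain ⟨φ, hφ⟩ : ∃ φ : Module.Dual B ↥(⋀[B]^2 L), φ =
      exteriorPower.pairingDual B L 2 (exteriorPower.ιMulti B 2 ![ω.coord a, ω.coord b]) :=
    ⟨_, rfl⟩
  have h3 := congrArg (fun z => TensorProduct.rid B E (TensorProduct.map LinearMap.id φ z)) h0
  simp only [map_sum, map_zero, TensorProduct.map_tmul, LinearMap.id_apply,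
    TensorProduct.rid_tmul] at h3
  have h4 : ∀ i j, φ (exteriorPower.ιMulti B 2 (Fin.cons (ω i) (fun _ => ω j))) =
      (ω.coord a (ω i)) * (ω.coord b (ω j)) - (ω.coord b (ω i)) * (ω.coord a (ω j)) := by
    intro i j
    rw [hφ, exteriorPower.pairingDual_ιMulti_ιMulti, Matrix.det_fin_two]
    simp only [Matrix.of_apply, Matrix.cons_val_zero, Matrix.cons_val_one, Fin.cons_zero]
    rfl
  simp only [h4] at h3
  have h5 := delta_sum ω a b (fun i j => LogConn.comp nabla ω i (LogConn.comp nabla ω j e))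
  rw [h3] at h5
  exact (sub_eq_zero.1 h5.symm)


omit [Module A L] [IsScalarTower A B L] in
/-- Commuting components: `∇_i ∘ ∇_I = ∇_{I ∪ {i}}` for `i ∉ I`. -/
lemma comp_compProd
    (hcomm : ∀ (a b : Fin n) (e : E), LogConn.comp nabla ω a (LogConn.comp nabla ω b e) =
      LogConn.comp nabla ω b (LogConn.comp nabla ω a e)) (I : Finset (Fin n)) :
    ∀ i, i ∉ I → ∀ e : E, LogConn.comp nabla ω i (LogConn.compProd nabla ω I e) =
      LogConn.compProd nabla ω (insert i I) e := by
  classical
  induction I using Finset.induction_on_min with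
  | empty =>
    intro i _ e
    rw [compProd_insert ω nabla i ∅ (fun x hx => absurd hx (Finset.notMem_empty x))]
    rfl
  | insert a s ha ih =>
    intro i hi e
    have hia : i ≠ a := fun h => hi (h ▸ Finset.mem_insert_self a s)
    have his : i ∉ s := fun h => hi (Finset.mem_insert_of_mem h)
    rcases lt_or_gt_of_ne hia with h | h
    · rw [compProd_insert ω nabla i (insert a s) (fun x hx => by
        rcases Finset.mem_insert.1 hx with rfl | hx
        · exact h
        · exact h.trans (ha x hx))]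
      rfl
    · rw [compProd_insert ω nabla a s ha, LinearMap.comp_apply, hcomm, ih i his e,
        Finset.insert_comm i a s, compProd_insert ω nabla a (insert i s) (fun x hx => by
          rcases Finset.mem_insert.1 hx with rfl | hx
          · exact h
          · exact ha x hx)]
      rfl

include hbΩ hι hc hd hint in
/-- The extended connection maps the layer of degree `p` into the layer of degree `p + 1`. -/
theorem nablas_mem_layer (p : ℕ) (x : E ⊗[B] ↥(⋀[B]^p L))
    (hx : x ∈ LogConn.layer nabla ω t p) :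
    nablas p x ∈ LogConn.layer nabla ω t (p + 1) := by
  classical
  have hcomm := comp_comm lam ω ι nabla d hd nablas hint
  have hx' := layer_le_span_gensD t ω ι hι nabla p hx
  clear hx
  suffices h : ∀ b : B, nablas p (b • x) ∈ LogConn.layer nabla ω t (p + 1) by
    have := h 1
    rwa [one_smul] at this
  induction hx' using Submodule.span_induction with
  | zero =>
    intro b
    rw [smul_zero, map_zero]
    exact Submodule.zero_mem _
  | add x y _ _ hx hy =>
    intro b
    rw [smul_add, map_add]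
    exact Submodule.add_mem _ (hx b) (hy b)
  | smul c x _ hx =>
    intro b
    rw [smul_smul]
    exact hx (b * c)
  | mem g hg =>
    intro b
    obtain ⟨I, hI, e, v, hv1, hv2, rfl⟩ := hg
    -- every element of `I` is some `v k`
    have hIv : ∀ i ∈ I, ∃ k : Fin p, v k = ω i := by
      intro i hi
      have h2 : i ∈ Set.range (I.orderEmbOfFin rfl) := by
        rw [Finset.range_orderEmbOfFin I rfl]; exact hi
      obtain ⟨r, hr⟩ := h2
      have hrp : r.val < p := lt_of_lt_of_le r.isLt hI
      refine ⟨⟨r.val, hrp⟩, ?_⟩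
      rw [hv1 ⟨r.val, hrp⟩ r.isLt, ← hr]
    have hvk : ∀ k : Fin p, (∃ i ∈ I, v k = ω i) ∨ v k ∈ LinearMap.range ι := by
      intro k
      by_cases hk : k.val < I.card
      · exact Or.inl ⟨_, Finset.orderEmbOfFin_mem I rfl _, hv1 k hk⟩
      · obtain ⟨i, hi⟩ := hv2 k (not_lt.1 hk)
        exact Or.inr ⟨_, hi.symm⟩
    have hvd : ∀ k : Fin p, (∃ b', v k = ι (KaehlerDifferential.D A B b')) ∨ ∃ i, v k = ω i := by
      intro k
      by_cases hk : k.val < I.card
      · exact Or.inr ⟨_, hv1 k hk⟩
      · obtain ⟨i, hi⟩ := hv2 k (not_lt.1 hk)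
        exact Or.inl ⟨_, hi⟩
    rw [← TensorProduct.tmul_smul, hint.1 p]
    refine Submodule.add_mem _ ?_ ?_
    · rw [twedge_toOne_nabla ω nabla]
      refine Submodule.sum_mem _ fun i _ => ?_
      rw [map_smul, wedge_one_ιMulti, TensorProduct.tmul_smul]
      refine smul_mem_layer lam t bΩ hbΩ ω ι hι nabla hc (p + 1) b ?_
      by_cases hiI : i ∈ I
      · obtain ⟨k, hk⟩ := hIv i hiI
        have hz : exteriorPower.ιMulti B (p + 1) (Fin.cons (ω i) v) = 0 := by
          refine (exteriorPower.ιMulti B (p + 1)).map_eq_zero_of_eq (Fin.cons (ω i) v)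
            (i := 0) (j := k.succ) ?_ (Fin.succ_ne_zero k).symm
          rw [Fin.cons_zero, Fin.cons_succ, hk]
        rw [hz, TensorProduct.tmul_zero]
        exact Submodule.zero_mem _
      · rw [comp_compProd ω nabla hcomm I i hiI e]
        refine gen_mem_layer' lam t bΩ hbΩ ω ι hι nabla hc (p + 1) (insert i I) e _ ?_ ?_
        · intro i' hi'
          rcases Finset.mem_insert.1 hi' with rfl | hi'
          · exact ⟨0, Fin.cons_zero _ _⟩
          · obtain ⟨k, hk⟩ := hIv i' hi'
            exact ⟨k.succ, by rw [Fin.cons_succ, hk]⟩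
        · intro k
          refine Fin.cases ?_ (fun k' => ?_) k
          · exact Or.inl ⟨i, Finset.mem_insert_self i I, Fin.cons_zero _ _⟩
          · rw [Fin.cons_succ]
            rcases hvk k' with ⟨i', hi'I, hi'⟩ | h
            · exact Or.inl ⟨i', Finset.mem_insert_of_mem hi'I, hi'⟩
            · exact Or.inr h
    · rw [LinearMap.smul_apply, hd p b v hvd, TensorProduct.tmul_smul]
      refine smul_mem_layer lam t bΩ hbΩ ω ι hι nabla hc (p + 1) lam ?_
      refine gen_mem_layer' lam t bΩ hbΩ ω ι hι nabla hc (p + 1) I e _ ?_ ?_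
      · intro i' hi'
        obtain ⟨k, hk⟩ := hIv i' hi'
        exact ⟨k.succ, by rw [Fin.cons_succ, hk]⟩
      · intro k
        refine Fin.cases ?_ (fun k' => ?_) k
        · exact Or.inr ⟨KaehlerDifferential.D A B b, rfl⟩
        · rw [Fin.cons_succ]
          exact hvk k'

end Flat

end Main2

end Groth.Agent.Lib.Helper20.LogLayer
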