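import Mathlib
import Groth.Prelude.Def_W4swconnpcurvhiggsLogLam
import Groth.Prelude.Def_LogDiff
import Groth.Agent.Lib.Helper10.LogConnLib
import Groth.Agent.Lib.Helper20.LogLayer
import Groth.Agent.Lib.Helper20.LogLayer2

/-!
# Independence of the layers of a flat logarithmic λ-connection from the coordinates (helper20)
-/

set_option autoImplicit false
universe v u

open TensorProduct

namespace Groth.Agent.Lib.Helper20.LogLayer

open Groth.Agent.Lib.Helper10.LogConnLib

section OneSystem

variable {A : Type v} {B L E : Type u} [CommRing A] [CommRing B]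
    [Algebra A B] [AddCommGroup L] [Module B L] [Module A L] [IsScalarTower A B L]
    [AddCommGroup E] [Module B E] [Module A E] [IsScalarTower A B E]
    (lam : B) {n : ℕ} (t : Fin n → B) (bΩ : Module.Basis (Fin n) B (KaehlerDifferential A B))
    (hbΩ : ∀ i, bΩ i = KaehlerDifferential.D A B (t i))
    (ω : Module.Basis (Fin n) B L) (ι : KaehlerDifferential A B →ₗ[B] L)
    (hι : ∀ i, ι (KaehlerDifferential.D A B (t i)) = t i • ω i)
    (nabla : E →ₗ[A] E ⊗[B] L)
    (hc : Conn.IsLamConn (ι.compDer (KaehlerDifferential.D A B)) lam nabla)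
    (hcomm : ∀ (a b : Fin n) (e : E), LogConn.comp nabla ω a (LogConn.comp nabla ω b e) =
      LogConn.comp nabla ω b (LogConn.comp nabla ω a e))

include hcomm in
omit [Module A L] [IsScalarTower A B L] in
lemma comp_compProd_comm (i : Fin n) (J : Finset (Fin n)) :
    ∀ e : E, LogConn.comp nabla ω i (LogConn.compProd nabla ω J e) =
      LogConn.compProd nabla ω J (LogConn.comp nabla ω i e) := by
  classical
  induction J using Finset.induction_on_min with
  | empty =>
    intro e
    rw [compProd_empty, LinearMap.id_apply, LinearMap.id_apply]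
  | insert a s ha ih =>
    intro e
    rw [compProd_insert ω nabla a s ha, LinearMap.comp_apply, LinearMap.comp_apply, hcomm, ih]

include hbΩ in
omit [Module A L] [IsScalarTower A B L] [AddCommGroup L] [Module B L] [AddCommGroup E] [Module B E]
  [Module A E] [IsScalarTower A B E] in
lemma pd_prod_mul (i : Fin n) (T : Finset (Fin n)) :
    ∃ c : B, pd bΩ i (∏ k ∈ T, t k) * t i = c * ∏ k ∈ T, t k := by
  classical
  induction T using Finset.induction_on with
  | empty =>
    refine ⟨0, ?_⟩
    rw [Finset.prod_empty, Derivation.map_one_eq_zero, zero_mul, zero_mul]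
  | insert a s ha ih =>
    obtain ⟨c, hc⟩ := ih
    rw [Finset.prod_insert ha, Derivation.leibniz, pd_t t bΩ hbΩ]
    by_cases hai : a = i
    · refine ⟨c + 1, ?_⟩
      rw [if_pos hai, smul_eq_mul, smul_eq_mul, add_mul, mul_assoc, hc, mul_one, hai]
      ring
    · refine ⟨c, ?_⟩
      rw [if_neg hai, smul_eq_mul, smul_eq_mul, mul_zero, add_zero, mul_assoc, hc]
      ring

include hbΩ hι hc hcomm in
/-- With commuting components, every piece is stable under every component. -/
lemma comp_mem_piece_self (i : Fin n) (S : Finset (Fin n)) {y : E}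
    (hy : y ∈ LogConn.piece nabla ω t S) :
    LogConn.comp nabla ω i y ∈ LogConn.piece nabla ω t S := by
  refine piece_induction t ω nabla
    (P := fun y => LogConn.comp nabla ω i y ∈ LogConn.piece nabla ω t S) ?_ ?_ ?_ hy
  · intro J hJ e
    obtain ⟨c, hc'⟩ := pd_prod_mul t bΩ hbΩ i (S \ J)
    rw [comp_smul lam t bΩ hbΩ ω ι hι nabla hc, comp_compProd_comm ω nabla hcomm, hc',
      ← mul_assoc, mul_smul]
    refine Submodule.add_mem _ (mem_piece t ω nabla hJ _) ?_
    exact smul_mem_piece lam t bΩ hbΩ ω ι hι nabla hc S _ (mem_piece t ω nabla hJ e)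
  · rw [map_zero]; exact Submodule.zero_mem _
  · intro x y hx hy
    rw [map_add]; exact Submodule.add_mem _ hx hy

include hbΩ hι hc hcomm in
lemma piece_insert_le (a : Fin n) (I : Finset (Fin n)) (ha : a ∉ I) :
    LogConn.piece nabla ω t (insert a I) ≤ LogConn.piece nabla ω t I := by
  classical
  intro y hy
  refine piece_induction t ω nabla
    (P := fun y => y ∈ LogConn.piece nabla ω t I) ?_ ?_ ?_ hy
  · intro J hJ e
    by_cases haJ : a ∈ J
    · have hJ' : J.erase a ⊆ I := by
        intro x hx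
        have h1 := Finset.mem_erase.1 hx
        rcases Finset.mem_insert.1 (hJ h1.2) with h | h
        · exact absurd h h1.1
        · exact h
      have e1 : insert a I \ J = I \ J.erase a := by
        ext x
        simp only [Finset.mem_sdiff, Finset.mem_insert, Finset.mem_erase]
        constructor
        · rintro ⟨h1 | h1, h2⟩
          · exact absurd (h1 ▸ haJ) h2
          · exact ⟨h1, fun h => h2 h.2⟩
        · rintro ⟨h1, h2⟩
          exact ⟨Or.inr h1, fun h => h2 ⟨fun h' => ha (h' ▸ h1), h⟩⟩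
      have e2 : LogConn.compProd nabla ω J e =
          LogConn.compProd nabla ω (J.erase a) (LogConn.comp nabla ω a e) := by
        rw [← comp_compProd_comm ω nabla hcomm, comp_compProd ω nabla hcomm (J.erase a) a
          (Finset.notMem_erase a J) e, Finset.insert_erase haJ]
      rw [e1, e2]
      exact mem_piece t ω nabla hJ' _
    · have hJ' : J ⊆ I := by
        intro x hx
        rcases Finset.mem_insert.1 (hJ hx) with h | h
        · exact absurd (h ▸ hx) haJ
        · exact h
      have e1 : insert a I \ J = insert a (I \ J) := by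
        ext x
        simp only [Finset.mem_sdiff, Finset.mem_insert]
        constructor
        · rintro ⟨h1 | h1, h2⟩
          · exact Or.inl h1
          · exact Or.inr ⟨h1, h2⟩
        · rintro (h1 | ⟨h1, h2⟩)
          · exact ⟨Or.inl h1, fun h => haJ (h1 ▸ h)⟩
          · exact ⟨Or.inr h1, h2⟩
      have ha' : a ∉ I \ J := fun h => ha (Finset.mem_sdiff.1 h).1
      rw [e1, Finset.prod_insert ha', mul_smul]
      exact smul_mem_piece lam t bΩ hbΩ ω ι hι nabla hc I _ (mem_piece t ω nabla hJ' e)
  · exact Submodule.zero_mem _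
  · intro x y hx hy
    exact Submodule.add_mem _ hx hy

include hbΩ hι hc hcomm in
/-- With commuting components the pieces decrease. -/
lemma piece_anti {I I' : Finset (Fin n)} (h : I' ⊆ I) :
    LogConn.piece nabla ω t I ≤ LogConn.piece nabla ω t I' := by
  classical
  have key : ∀ D : Finset (Fin n),
      LogConn.piece nabla ω t (I' ∪ D) ≤ LogConn.piece nabla ω t I' := by
    intro D
    induction D using Finset.induction_on with
    | empty => rw [Finset.union_empty]
    | insert a s _ ih =>
      by_cases ha : a ∈ I' ∪ s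
      · have : I' ∪ insert a s = I' ∪ s := by
          rw [Finset.union_insert, Finset.insert_eq_of_mem ha]
        rw [this]; exact ih
      · rw [Finset.union_insert]
        exact (piece_insert_le lam t bΩ hbΩ ω ι hι nabla hc hcomm a _ ha).trans ih
  have := key (I \ I')
  rwa [Finset.union_sdiff_of_subset h] at this

end OneSystem

section TwoSystems

variable {A : Type v} {B L E : Type u} [CommRing A] [CommRing B]
    [Algebra A B] [AddCommGroup L] [Module B L] [Module A L] [IsScalarTower A B L]
    [AddCommGroup E] [Module B E] [Module A E] [IsScalarTower A B E]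
    (lam : B) {n : ℕ} (t : Fin n → B) (bΩ : Module.Basis (Fin n) B (KaehlerDifferential A B))
    (hbΩ : ∀ i, bΩ i = KaehlerDifferential.D A B (t i))
    (ω : Module.Basis (Fin n) B L) (ι : KaehlerDifferential A B →ₗ[B] L)
    (hι : ∀ i, ι (KaehlerDifferential.D A B (t i)) = t i • ω i)
    (nabla : E →ₗ[A] E ⊗[B] L)
    (hc : Conn.IsLamConn (ι.compDer (KaehlerDifferential.D A B)) lam nabla)
    (t' : Fin n → B) (bΩ' : Module.Basis (Fin n) B (KaehlerDifferential A B))
    (hbΩ' : ∀ i, bΩ' i = KaehlerDifferential.D A B (t' i))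
    (ω' : Module.Basis (Fin n) B L)
    (hι' : ∀ i, ι (KaehlerDifferential.D A B (t' i)) = t' i • ω' i)
    (hcomm' : ∀ (a b : Fin n) (e : E), LogConn.comp nabla ω' a (LogConn.comp nabla ω' b e) =
      LogConn.comp nabla ω' b (LogConn.comp nabla ω' a e))
    (hrel : ∀ m : Fin n, ∃ g : Fin n → B, ∀ e : E, LogConn.comp nabla ω m e =
      LogConn.comp nabla ω' m e + ∑ i, (g i * t' m) • LogConn.comp nabla ω' i e)
    (ht : ∀ i : Fin n, ∃ c : B, t i = c * t' i)
    (hcoord : ∀ i k : Fin n, k ≠ i → ∃ c : B, ω'.coord k (ω i) = c * t' k)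

include hbΩ' hι' hc hcomm' hrel in
lemma compProd_mem_piece' (J : Finset (Fin n)) :
    ∀ e : E, LogConn.compProd nabla ω J e ∈ LogConn.piece nabla ω' t' J := by
  classical
  induction J using Finset.induction_on_min with
  | empty =>
    intro e
    have := mem_piece t' ω' nabla (Finset.Subset.refl (∅ : Finset (Fin n))) e
    rw [Finset.sdiff_self, Finset.prod_empty, one_smul, compProd_empty, LinearMap.id_apply] at this
    rw [compProd_empty, LinearMap.id_apply]
    exact this
  | insert a s ha ih =>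
    intro e
    have has : a ∉ s := fun h => lt_irrefl a (ha a h)
    rw [compProd_insert ω nabla a s ha, LinearMap.comp_apply]
    obtain ⟨g, hg⟩ := hrel a
    rw [hg]
    refine Submodule.add_mem _
      (comp_mem_piece lam t' bΩ' hbΩ' ω' ι hι' nabla hc a s ha (ih e)) ?_
    refine Submodule.sum_mem _ fun i _ => ?_
    rw [mul_smul]
    refine smul_mem_piece lam t' bΩ' hbΩ' ω' ι hι' nabla hc _ _ ?_
    have h1 := comp_mem_piece_self lam t' bΩ' hbΩ' ω' ι hι' nabla hc hcomm' i s (ih e)
    have h3 := prod_smul_mem_piece t' ω' nabla (Finset.subset_insert a s) h1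
    have h4 : insert a s \ s = {a} := by
      ext x
      simp only [Finset.mem_sdiff, Finset.mem_insert, Finset.mem_singleton]
      constructor
      · rintro ⟨h | h, h'⟩
        · exact h
        · exact absurd h h'
      · rintro rfl
        exact ⟨Or.inl rfl, has⟩
    rwa [h4, Finset.prod_singleton] at h3

include ht in
omit [Algebra A B] [CommRing A] in
lemma prod_eq_mul (T : Finset (Fin n)) : ∃ c : B, ∏ k ∈ T, t k = c * ∏ k ∈ T, t' k := by
  classical
  induction T using Finset.induction_on with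
  | empty => exact ⟨1, by rw [Finset.prod_empty, Finset.prod_empty, one_mul]⟩
  | insert a s ha ih =>
    obtain ⟨c, hc⟩ := ih
    obtain ⟨c', hc'⟩ := ht a
    refine ⟨c' * c, ?_⟩
    rw [Finset.prod_insert ha, Finset.prod_insert ha, hc, hc']
    ring

include hbΩ' hι' hc hcomm' hrel ht in
/-- The pieces of the first system are contained in those of the second. -/
lemma piece_le_piece' (I : Finset (Fin n)) :
    LogConn.piece nabla ω t I ≤ LogConn.piece nabla ω' t' I := by
  intro y hy
  refine piece_induction t ω nabla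
    (P := fun y => y ∈ LogConn.piece nabla ω' t' I) ?_ ?_ ?_ hy
  · intro J hJ e
    obtain ⟨c, hc'⟩ := prod_eq_mul t t' ht (I \ J)
    rw [hc', mul_smul]
    refine smul_mem_piece lam t' bΩ' hbΩ' ω' ι hι' nabla hc _ _ ?_
    exact prod_smul_mem_piece t' ω' nabla hJ
      (compProd_mem_piece' lam ω ι nabla hc t' bΩ' hbΩ' ω' hι' hcomm' hrel J e)
  · exact Submodule.zero_mem _
  · intro x y hx hy
    exact Submodule.add_mem _ hx hy

omit [Algebra A B] [CommRing A] [AddCommGroup L] [Module B L] [Module A L] [IsScalarTower A B L]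
  [AddCommGroup E] [Module B E] [Module A E] [IsScalarTower A B E] in
/-- Determinant divisibility: columns outside `S` divisible by the corresponding `t'`. -/
lemma det_dvd (p : ℕ) (K' : Set.powersetCard (Fin n) p) (S : Finset (Fin n))
    (M : Fin p → Fin n → B) (h : ∀ i k, k ∉ S → ∃ c, M i k = c * t' k) :
    ∃ c : B, (Matrix.of fun i j => M i (Set.powersetCard.ofFinEmbEquiv.symm K' j)).det =
      c * ∏ k ∈ (K' : Finset (Fin n)) \ S, t' k := by
  classical
  choose! cc hcc using h
  obtain ⟨κ, hκ⟩ : ∃ κ : Fin p → Fin n, κ = fun j => Set.powersetCard.ofFinEmbEquiv.symm K' j :=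
    ⟨_, rfl⟩
  obtain ⟨w, hw⟩ : ∃ w : Fin n → B, w = fun k => if k ∈ S then 1 else t' k := ⟨_, rfl⟩
  obtain ⟨N, hN⟩ : ∃ N : Matrix (Fin p) (Fin p) B, N = Matrix.of fun i j =>
    if κ j ∈ S then M i (κ j) else cc i (κ j) := ⟨_, rfl⟩
  have hM : (Matrix.of fun i j => M i (Set.powersetCard.ofFinEmbEquiv.symm K' j)) =
      Matrix.of fun i j => (fun j => w (κ j)) j * N i j := by
    ext i j
    simp only [Matrix.of_apply, hw, hN]
    rw [show Set.powersetCard.ofFinEmbEquiv.symm K' j = κ j by rw [hκ]]
    by_cases h1' : κ j ∈ S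
    · rw [if_pos h1', if_pos h1', one_mul]
    · rw [if_neg h1', if_neg h1', hcc i (κ j) h1', mul_comm]
  have hprod : ∏ j : Fin p, w (κ j) = ∏ k ∈ (K' : Finset (Fin n)) \ S, t' k := by
    have h1 : ∏ j : Fin p, w (κ j) = ∏ k ∈ (K' : Finset (Fin n)), w k := by
      conv_rhs => rw [← Finset.map_orderEmbOfFin_univ K'.val K'.prop, Finset.prod_map]
      rw [hκ]
      rfl
    rw [h1, ← Finset.prod_subset (Finset.sdiff_subset (s := (K' : Finset (Fin n))) (t := S))]
    · refine Finset.prod_congr rfl fun k hk => ?_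
      rw [hw]
      exact if_neg (Finset.mem_sdiff.1 hk).2
    · intro k hk hk'
      rw [hw]
      refine if_pos ?_
      by_contra h
      exact hk' (Finset.mem_sdiff.2 ⟨hk, h⟩)
  refine ⟨N.det, ?_⟩
  rw [hM, Matrix.det_mul_row, hprod, mul_comm]

include hbΩ' hι' hc hcomm' hrel ht hcoord in
/-- The layers of the first system are contained in those of the second. -/
theorem layer_le_layer' (p : ℕ) :
    LogConn.layer nabla ω t p ≤ LogConn.layer nabla ω' t' p := by
  classical
  intro x hx
  rw [mem_layer_iff] at hx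
  rw [sum_coordE ω p x]
  refine Submodule.sum_mem _ fun K _ => ?_
  have hy := piece_le_piece' lam t ω ι nabla hc t' bΩ' hbΩ' ω' hι' hcomm' hrel ht _ (hx K)
  rw [mem_layer_iff]
  intro K'
  rw [coordE_tmul, exteriorPower.basis_coord, exteriorPower.basis_apply,
    exteriorPower.ιMulti_family, exteriorPower.ιMultiDual_apply_ιMulti]
  obtain ⟨c, hc'⟩ := det_dvd t' p K' (K : Finset (Fin n))
    (fun i k => ω'.coord k ((ω ∘ Set.powersetCard.ofFinEmbEquiv.symm K) i)) (by
      intro i k hk
      refine hcoord _ k ?_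
      intro h
      apply hk
      rw [h]
      exact Finset.orderEmbOfFin_mem K.val K.prop i)
  rw [hc', mul_smul]
  refine smul_mem_piece lam t' bΩ' hbΩ' ω' ι hι' nabla hc _ _ ?_
  have h1 : (K' : Finset (Fin n)) \ (K : Finset (Fin n)) =
      (K' : Finset (Fin n)) \ ((K : Finset (Fin n)) ∩ (K' : Finset (Fin n))) := by
    rw [Finset.inter_comm, Finset.sdiff_inter_self_left]
  rw [h1]
  refine prod_smul_mem_piece t' ω' nabla Finset.inter_subset_right ?_
  exact piece_anti lam t' bΩ' hbΩ' ω' ι hι' nabla hc hcomm' Finset.inter_subset_left hy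

end TwoSystems

section Change

variable {A : Type v} {B L E : Type u} [CommRing A] [CommRing B]
    [Algebra A B] [AddCommGroup L] [Module B L] [Module A L] [IsScalarTower A B L]
    [AddCommGroup E] [Module B E] [Module A E] [IsScalarTower A B E]
    (lam : B) {n : ℕ} (t : Fin n → B) (bΩ : Module.Basis (Fin n) B (KaehlerDifferential A B))
    (hbΩ : ∀ i, bΩ i = KaehlerDifferential.D A B (t i))
    (ω : Module.Basis (Fin n) B L) (ι : KaehlerDifferential A B →ₗ[B] L)
    (hι : ∀ i, ι (KaehlerDifferential.D A B (t i)) = t i • ω i)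
    (nabla : E →ₗ[A] E ⊗[B] L)
    (hc : Conn.IsLamConn (ι.compDer (KaehlerDifferential.D A B)) lam nabla)
    (d : ∀ p : ℕ, ↥(⋀[B]^p L) →ₗ[A] ↥(⋀[B]^(p + 1) L))
    (nablas : ∀ p : ℕ, E ⊗[B] ↥(⋀[B]^p L) →ₗ[A] E ⊗[B] ↥(⋀[B]^(p + 1) L))
    (hint : Conn.IsIntegrable nabla (fun p => lam • d p) nablas)

include hint in
/-- Flatness makes the components of `∇` commute in any basis of closed forms. -/
lemma comp_comm' (hd1 : ∀ j, d 1 ((exteriorPower.oneEquiv B L).symm (ω j)) = 0)
    (a b : Fin n) (e : E) :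
    LogConn.comp nabla ω a (LogConn.comp nabla ω b e) =
      LogConn.comp nabla ω b (LogConn.comp nabla ω a e) := by
  have h0 := hint.2 e
  have h1 : Conn.toOne (nabla e) =
      ∑ j, LogConn.comp nabla ω j e ⊗ₜ[B] (exteriorPower.oneEquiv B L).symm (ω j) := by
    rw [nabla_eq_sum ω nabla e, map_sum]
    refine Finset.sum_congr rfl fun j _ => ?_
    rw [Conn.toOne_tmul]
  rw [h1, map_sum] at h0
  have h2 : ∀ j, nablas 1 (LogConn.comp nabla ω j e ⊗ₜ[B]
      (exteriorPower.oneEquiv B L).symm (ω j)) =
      ∑ i, LogConn.comp nabla ω i (LogConn.comp nabla ω j e) ⊗ₜ[B]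
        exteriorPower.ιMulti B 2 (Fin.cons (ω i) (fun _ => ω j)) := by
    intro j
    rw [hint.1 1, LinearMap.smul_apply, hd1 j, smul_zero,
      TensorProduct.tmul_zero, add_zero, twedge_toOne_nabla ω nabla]
    refine Finset.sum_congr rfl fun i _ => ?_
    rw [exteriorPower.oneEquiv_symm_apply B L (ω j), wedge_one_ιMulti]
  simp only [h2] at h0
  obtain ⟨φ, hφ⟩ : ∃ φ : Module.Dual B ↥(⋀[B]^2 L), φ =
      exteriorPower.pairingDual B L 2 (exteriorPower.ιMulti B 2 ![ω.coord a, ω.coord b]) :=
    ⟨_, rfl⟩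
  have h3 := congrArg (fun z => TensorProduct.rid B E (TensorProduct.map LinearMap.id φ z)) h0
  simp only [map_sum, map_zero, TensorProduct.map_tmul, LinearMap.id_apply,
    TensorProduct.rid_tmul] at h3
  have h4 : ∀ i j, φ (exteriorPower.ιMulti B 2 (Fin.cons (ω i) (fun _ => ω j))) =
      (ω.coord a (ω i)) * (ω.coord b (ω j)) - (ω.coord b (ω i)) * (ω.coord a (ω j)) := by
    intro i j
    rw [hφ, exteriorPower.pairingDual_ιMulti_ιMulti, Matrix.det_fin_two]
    simp only [Matrix.of_apply, Matrix.cons_val_zero, Matrix.cons_val_one, Fin.cons_zero]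
    rfl
  simp only [h4] at h3
  have h5 := delta_sum ω a b (fun i j => LogConn.comp nabla ω i (LogConn.comp nabla ω j e))
  rw [h3] at h5
  exact (sub_eq_zero.1 h5.symm)

omit [Module A L] [IsScalarTower A B L] in
lemma comp_eq_sum_coord (ω' : Module.Basis (Fin n) B L) (m : Fin n) (e : E) :
    LogConn.comp nabla ω m e = ∑ i, ω.coord m (ω' i) • LogConn.comp nabla ω' i e := by
  have h1 : LogConn.comp nabla ω m e =
      TensorProduct.rid B E (TensorProduct.map LinearMap.id (ω.coord m) (nabla e)) := rfl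
  rw [h1, nabla_eq_sum ω' nabla e, map_sum, map_sum]
  refine Finset.sum_congr rfl fun i _ => ?_
  rw [TensorProduct.map_tmul, TensorProduct.rid_tmul, LinearMap.id_apply]

omit [Module A L] [IsScalarTower A B L] in
lemma hrel_of_coord (ω' : Module.Basis (Fin n) B L) (T : Fin n → B)
    (hF : ∀ i m : Fin n, ∃ g : B, ω.coord m (ω' i) = (if i = m then 1 else 0) + g * T m) :
    ∀ m : Fin n, ∃ g : Fin n → B, ∀ e : E, LogConn.comp nabla ω m e =
      LogConn.comp nabla ω' m e + ∑ i, (g i * T m) • LogConn.comp nabla ω' i e := by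
  classical
  intro m
  choose g hg using (fun i => hF i m)
  refine ⟨g, fun e => ?_⟩
  rw [comp_eq_sum_coord ω nabla ω' m e]
  simp only [hg, add_smul, Finset.sum_add_distrib]
  congr 1
  rw [Finset.sum_eq_single m]
  · rw [if_pos rfl, one_smul]
  · intro i _ hi
    rw [if_neg hi, zero_smul]
  · intro h; exact absurd (Finset.mem_univ m) h

end Change

section UnitChange

variable {A : Type v} {B L E : Type u} [CommRing A] [CommRing B]
    [Algebra A B] [AddCommGroup L] [Module B L] [Module A L] [IsScalarTower A B L]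
    [AddCommGroup E] [Module B E] [Module A E] [IsScalarTower A B E]
    (lam : B) {n : ℕ} (t : Fin n → B) (bΩ : Module.Basis (Fin n) B (KaehlerDifferential A B))
    (hbΩ : ∀ i, bΩ i = KaehlerDifferential.D A B (t i))
    (ω : Module.Basis (Fin n) B L) (ι : KaehlerDifferential A B →ₗ[B] L)
    (hι : ∀ i, ι (KaehlerDifferential.D A B (t i)) = t i • ω i)
    (nabla : E →ₗ[A] E ⊗[B] L)
    (hc : Conn.IsLamConn (ι.compDer (KaehlerDifferential.D A B)) lam nabla)
    (d : ∀ p : ℕ, ↥(⋀[B]^p L) →ₗ[A] ↥(⋀[B]^(p + 1) L))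
    (hd : LogDiff.IsLogRule (KaehlerDifferential.D A B) ι (⇑ω) d)
    (nablas : ∀ p : ℕ, E ⊗[B] ↥(⋀[B]^p L) →ₗ[A] E ⊗[B] ↥(⋀[B]^(p + 1) L))
    (hint : Conn.IsIntegrable nabla (fun p => lam • d p) nablas)
    (us : Fin n → Bˣ) (bΩ' : Module.Basis (Fin n) B (KaehlerDifferential A B))
    (hbΩ' : ∀ i, bΩ' i = KaehlerDifferential.D A B ((us i : B) * t i))
    (ω' : Module.Basis (Fin n) B L)
    (hω' : ∀ i, ω' i = ω i + ((us i)⁻¹ : Bˣ).val • ι (KaehlerDifferential.D A B (us i : B)))

include hι hω' in
omit [Module A L] [IsScalarTower A B L] in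
lemma hι'_of (i : Fin n) :
    ι (KaehlerDifferential.D A B ((us i : B) * t i)) = ((us i : B) * t i) • ω' i := by
  rw [Derivation.leibniz, map_add, map_smul, map_smul, hι, hω', smul_add, smul_smul, smul_smul]
  congr 1
  congr 1
  rw [mul_comm (us i : B) (t i), mul_assoc, Units.mul_inv, mul_one]

include hd hω' in
omit [AddCommGroup E] [Module B E] [Module A E] [IsScalarTower A B E] in
lemma d_one_omega' (j : Fin n) :
    d 1 ((exteriorPower.oneEquiv B L).symm (ω' j)) = 0 := by
  rw [hω', map_add, map_smul, map_add, d_one_omega ω ι d hd j, zero_add]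
  have h := hd 1 ((us j)⁻¹ : Bˣ).val (fun _ => ι (KaehlerDifferential.D A B (us j : B)))
    (fun _ => Or.inl ⟨_, rfl⟩)
  rw [exteriorPower.oneEquiv_symm_apply, h,
    Derivation.leibniz_of_mul_eq_one _ (Units.inv_mul (us j)), map_smul, ← wedge_one_ιMulti,
    map_smul, map_smul, LinearMap.smul_apply, wedge_one_ιMulti]
  rw [(exteriorPower.ιMulti B 2).map_eq_zero_of_eq _ (i := 0) (j := 1) rfl (by decide),
    smul_zero]

include hbΩ hι hω' in
omit [Module A L] [IsScalarTower A B L] in
lemma coord_omega' (i m : Fin n) :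
    ω.coord m (ω' i) = (if i = m then 1 else 0) +
      (((us i)⁻¹ : Bˣ).val * bΩ.repr (KaehlerDifferential.D A B (us i : B)) m) * t m := by
  classical
  rw [hω', map_add, map_smul, coord_iota t bΩ hbΩ ω ι hι, Module.Basis.coord_apply,
    Module.Basis.repr_self, Finsupp.single_apply, smul_eq_mul, mul_assoc]

include hbΩ' hι hω' in
omit [Module A L] [IsScalarTower A B L] in
lemma coord'_omega (i m : Fin n) :
    ω'.coord m (ω i) = (if i = m then 1 else 0) +
      (-(((us i)⁻¹ : Bˣ).val * bΩ'.repr (KaehlerDifferential.D A B (us i : B)) m)) *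
        ((us m : B) * t m) := by
  classical
  have h1 : ω i = ω' i - ((us i)⁻¹ : Bˣ).val • ι (KaehlerDifferential.D A B (us i : B)) := by
    rw [hω']; abel
  rw [h1, map_sub, map_smul,
    coord_iota (fun i => (us i : B) * t i) bΩ' hbΩ' ω' ι (hι'_of t ω ι hι us ω' hω'),
    Module.Basis.coord_apply, Module.Basis.repr_self, Finsupp.single_apply, smul_eq_mul]
  ring

include hbΩ hι hc hd hint hbΩ' hω' in
/-- The layers do not depend on the admissible coordinate system. -/
theorem layer_eq_layer_units (p : ℕ) :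
    LogConn.layer nabla ω t p = LogConn.layer nabla ω' (fun i => (us i : B) * t i) p := by
  classical
  have hι' := hι'_of t ω ι hι us ω' hω'
  have hd1' := d_one_omega' ω ι d hd us ω' hω'
  have hcomm := comp_comm lam ω ι nabla d hd nablas hint
  have hcomm' := comp_comm' lam ω' nabla d nablas hint hd1'
  have Fa := coord_omega' t bΩ hbΩ ω ι hι us ω' hω'
  have Fb := coord'_omega t ω ι hι us bΩ' hbΩ' ω' hω'
  have hinv : ∀ m : Fin n, t m = ((us m)⁻¹ : Bˣ).val * ((us m : B) * t m) := by
    intro m
    rw [← mul_assoc, Units.inv_mul, one_mul]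
  apply le_antisymm
  · refine layer_le_layer' lam t ω ι nabla hc (fun i => (us i : B) * t i) bΩ' hbΩ' ω' hι' hcomm'
      ?_ ?_ ?_ p
    · refine hrel_of_coord ω nabla ω' (fun i => (us i : B) * t i) (fun i m => ?_)
      refine ⟨(((us i)⁻¹ : Bˣ).val * bΩ.repr (KaehlerDifferential.D A B (us i : B)) m) *
        ((us m)⁻¹ : Bˣ).val, ?_⟩
      rw [Fa i m]
      congr 1
      linear_combination
        (((us i)⁻¹ : Bˣ).val * bΩ.repr (KaehlerDifferential.D A B (us i : B)) m) * hinv m
    · intro i
      exact ⟨((us i)⁻¹ : Bˣ).val, hinv i⟩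
    · intro i k hk
      refine ⟨-(((us i)⁻¹ : Bˣ).val * bΩ'.repr (KaehlerDifferential.D A B (us i : B)) k), ?_⟩
      rw [Fb i k, if_neg (Ne.symm hk), zero_add]
  · refine layer_le_layer' lam (fun i => (us i : B) * t i) ω' ι nabla hc t bΩ hbΩ ω hι hcomm
      ?_ ?_ ?_ p
    · refine hrel_of_coord ω' nabla ω t (fun i m => ?_)
      refine ⟨(-(((us i)⁻¹ : Bˣ).val * bΩ'.repr (KaehlerDifferential.D A B (us i : B)) m)) *
        (us m : B), ?_⟩
      rw [Fb i m]
      congr 1
      rw [mul_assoc]
    · intro i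
      exact ⟨(us i : B), rfl⟩
    · intro i k hk
      refine ⟨((us i)⁻¹ : Bˣ).val * bΩ.repr (KaehlerDifferential.D A B (us i : B)) k, ?_⟩
      rw [Fa i k, if_neg (Ne.symm hk), zero_add]

end UnitChange

end Groth.Agent.Lib.Helper20.LogLayer
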