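import Mathlib

/-!
# The truncated logarithm: `log((1+X)^j) ≡ j log(1+X)` modulo `X^{d+2}`

`TT d = Σ_{n ≤ d} ((-1)^n/(n+1)) X^{n+1}`, `QQ j = (1+X)^j - 1`; then `X^{d+2} ∣ (TT d).comp (QQ j) - j • TT d`.
-/

set_option autoImplicit false
open Polynomial Finset

namespace Groth.Agent.Lib.Helper20.LogPoly

/-- The truncated logarithm polynomial. -/
noncomputable def TT (d : ℕ) : ℚ[X] := ∑ n ∈ range (d + 1), C ((-1 : ℚ) ^ n / ((n : ℚ) + 1)) * X ^ (n + 1)

/-- `(1+X)^j - 1`. -/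
noncomputable def QQ (j : ℕ) : ℚ[X] := (1 + X) ^ j - 1

theorem derivative_TT (d : ℕ) : derivative (TT d) = ∑ n ∈ range (d + 1), (-X) ^ n := by
  rw [TT, derivative_sum]
  refine Finset.sum_congr rfl fun n _ => ?_
  rw [derivative_C_mul_X_pow, Nat.add_sub_cancel]
  have hc : ((-1 : ℚ) ^ n / ((n : ℚ) + 1) * ((n + 1 : ℕ) : ℚ)) = (-1) ^ n := by
    push_cast; field_simp
  rw [hc, neg_pow (X : ℚ[X]) n, C_pow, C_neg, C_1]

theorem one_add_X_mul_derivative_TT (d : ℕ) : (1 + X) * derivative (TT d) = 1 - (-X) ^ (d + 1) := by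
  rw [derivative_TT]
  have := mul_neg_geom_sum (-X : ℚ[X]) (d + 1)
  rw [← this]
  ring

theorem derivative_QQ (j : ℕ) : (1 + X) * derivative (QQ j) = C (j : ℚ) * (1 + X) ^ j := by
  rw [QQ, derivative_sub, derivative_one, sub_zero, derivative_pow, derivative_add, derivative_one, derivative_X,
    zero_add, mul_one]
  rcases Nat.eq_zero_or_pos j with rfl | hj
  · simp
  · obtain ⟨k, rfl⟩ : ∃ k, j = k + 1 := ⟨j - 1, by omega⟩
    rw [Nat.add_sub_cancel, pow_succ]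
    simp only [map_natCast]
    ring

theorem X_dvd_QQ (j : ℕ) : X ∣ QQ j := by
  rw [Polynomial.X_dvd_iff, QQ, coeff_sub, coeff_one_zero, coeff_zero_eq_eval_zero]
  simp

theorem eval_zero_TT (d : ℕ) : (TT d).eval 0 = 0 := by
  rw [TT, eval_finsetSum]
  refine Finset.sum_eq_zero fun n _ => ?_
  simp

theorem key_dvd (d j : ℕ) : X ^ (d + 1) ∣ derivative ((TT d).comp (QQ j) - C (j : ℚ) * TT d) := by
  set E' := derivative ((TT d).comp (QQ j) - C (j : ℚ) * TT d) with hE'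
  have h1 : (1 + X) ^ (j + 1) * E' = C (j : ℚ) * (1 + X) ^ j * ((-X) ^ (d + 1) - (-(QQ j)) ^ (d + 1)) := by
    have hA := one_add_X_mul_derivative_TT d
    have hB := congrArg (fun p => p.comp (QQ j)) hA
    simp only [mul_comp, add_comp, one_comp, X_comp, sub_comp, pow_comp, neg_comp] at hB
    have hQ1 : 1 + QQ j = (1 + X) ^ j := by rw [QQ]; ring
    rw [hQ1] at hB
    have hC := derivative_QQ j
    rw [hE', derivative_sub, derivative_comp, derivative_mul, derivative_C, zero_mul, zero_add]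
    linear_combination ((1 + X) ^ j * (derivative (TT d)).comp (QQ j)) * hC + (C (j : ℚ) * (1 + X) ^ j) * hB
      - (C (j : ℚ) * (1 + X) ^ j) * hA
  have h2 : X ^ (d + 1) ∣ (1 + X) ^ (j + 1) * E' := by
    rw [h1]
    refine Dvd.dvd.mul_left (dvd_sub ?_ ?_) _
    · rw [neg_pow]; exact Dvd.dvd.mul_left (dvd_refl _) _
    · rw [neg_pow]
      exact Dvd.dvd.mul_left (pow_dvd_pow_of_dvd (X_dvd_QQ j) _) _
  have hcop : IsCoprime (X ^ (d + 1) : ℚ[X]) ((1 + X) ^ (j + 1)) := by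
    refine IsCoprime.pow ?_
    exact ⟨-1, 1, by ring⟩
  exact hcop.dvd_of_dvd_mul_left h2

theorem X_pow_dvd (d j : ℕ) : X ^ (d + 2) ∣ (TT d).comp (QQ j) - C (j : ℚ) * TT d := by
  rw [Polynomial.X_pow_dvd_iff]
  intro k hk
  rcases Nat.eq_zero_or_pos k with rfl | hk0
  · rw [coeff_zero_eq_eval_zero, eval_sub, eval_comp, eval_mul, eval_zero_TT]
    have : (QQ j).eval 0 = 0 := by simp [QQ]
    rw [this, eval_zero_TT]
    simp
  · obtain ⟨i, rfl⟩ : ∃ i, k = i + 1 := ⟨k - 1, by omega⟩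
    have h1 := (Polynomial.X_pow_dvd_iff.mp (key_dvd d j)) i (by omega)
    rw [coeff_derivative] at h1
    have h2 : ((i : ℚ) + 1) ≠ 0 := by positivity
    exact (mul_eq_zero.mp h1).resolve_right h2

end Groth.Agent.Lib.Helper20.LogPoly
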