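import Mathlib

set_option autoImplicit false

/-!
# Dimension of the quotient of a polynomial ring by a monomial ideal with finite complement
-/

namespace Groth.Agent.Lib.Helper20.MonomialQuot

universe u

open MvPolynomial

section

variable {σ : Type*} {k : Type*} [Field k]

/-- the monomial ideal -/
noncomputable abbrev monIdeal (k : Type*) [Field k] {σ : Type*} (S : Set (σ →₀ ℕ)) :
    Ideal (MvPolynomial σ k) :=
  Ideal.span ((fun s => monomial s (1 : k)) '' S)

theorem monomial_mem (S : Set (σ →₀ ℕ)) (m : σ →₀ ℕ) (c : k) (h : ∃ s ∈ S, s ≤ m) :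
    monomial m c ∈ monIdeal k S := by
  classical
  rw [mem_ideal_span_monomial_image]
  intro xi hxi
  have : xi = m := by
    have h1 := support_monomial_subset hxi
    simpa using h1
  rw [this]
  exact h

theorem finrank_quotient (S : Set (σ →₀ ℕ)) (B : Finset (σ →₀ ℕ))
    (h1 : ∀ m, m ∉ B → ∃ s ∈ S, s ≤ m) (h2 : ∀ m ∈ B, ∀ s ∈ S, ¬ s ≤ m) :
    Module.finrank k (MvPolynomial σ k ⧸ monIdeal k S) = B.card := by
  classical
  let b : B → MvPolynomial σ k ⧸ monIdeal k S := fun m =>
    Ideal.Quotient.mk (monIdeal k S) (monomial m.1 1)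
  have hsm : ∀ (c : k) (p : MvPolynomial σ k), Ideal.Quotient.mk (monIdeal k S) (c • p) =
      c • Ideal.Quotient.mk (monIdeal k S) p := fun c p =>
    map_smul (Ideal.Quotient.mkₐ k (monIdeal k S)) c p
  have hli : LinearIndependent k b := by
    rw [Fintype.linearIndependent_iff]
    intro g hg m₀
    have h3 : (∑ m : B, g m • monomial m.1 (1 : k)) ∈ monIdeal k S := by
      rw [← Ideal.Quotient.eq_zero_iff_mem, map_sum, ← hg]
      apply Finset.sum_congr rfl
      intro m _
      exact hsm (g m) _
    rw [mem_ideal_span_monomial_image] at h3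
    by_contra hne
    have hcoeff : coeff m₀.1 (∑ m : B, g m • monomial m.1 (1 : k)) = g m₀ := by
      rw [coeff_sum]
      rw [Finset.sum_eq_single m₀]
      · rw [coeff_smul, coeff_monomial, if_pos rfl, smul_eq_mul, mul_one]
      · intro m _ hm
        rw [coeff_smul, coeff_monomial, if_neg (fun h => hm (Subtype.ext h)), smul_zero]
      · intro h
        exact absurd (Finset.mem_univ _) h
    have hsupp : m₀.1 ∈ (∑ m : B, g m • monomial m.1 (1 : k)).support := by
      rw [mem_support_iff, hcoeff]
      exact hne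
    obtain ⟨s, hs, hle⟩ := h3 m₀.1 hsupp
    exact h2 m₀.1 m₀.2 s hs hle
  have hsp : ⊤ ≤ Submodule.span k (Set.range b) := by
    intro q _
    obtain ⟨p, rfl⟩ := Ideal.Quotient.mk_surjective q
    rw [p.as_sum, map_sum]
    apply Submodule.sum_mem
    intro m _
    by_cases hm : m ∈ B
    · have h4 : (Ideal.Quotient.mk (monIdeal k S)) (monomial m (coeff m p)) =
          coeff m p • b ⟨m, hm⟩ := by
        show _ = coeff m p • Ideal.Quotient.mk (monIdeal k S) (monomial m 1)
        rw [← hsm, smul_monomial, smul_eq_mul, mul_one]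
      rw [h4]
      exact Submodule.smul_mem _ _ (Submodule.subset_span ⟨⟨m, hm⟩, rfl⟩)
    · rw [Ideal.Quotient.eq_zero_iff_mem.mpr (monomial_mem S m _ (h1 m hm))]
      exact Submodule.zero_mem _
  have hbasis := Module.finrank_eq_card_basis (Module.Basis.mk hli hsp)
  rw [hbasis, Fintype.card_coe]

end

section two

open MvPolynomial

variable {k : Type*} [Field k]

theorem eq_single_add_single (m : Fin 2 →₀ ℕ) :
    m = Finsupp.single 0 (m 0) + Finsupp.single 1 (m 1) := by
  ext i
  fin_cases i
  · simp
  · simp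

/-- `k[x,y]/(x^c₀, y^c₁)` has dimension `c₀ c₁`. -/
theorem finrank_two (c₀ c₁ : ℕ) :
    Module.finrank k (MvPolynomial (Fin 2) k ⧸
      Ideal.span ({X 0 ^ c₀, X 1 ^ c₁} : Set (MvPolynomial (Fin 2) k))) = c₀ * c₁ := by
  classical
  have hJ : Ideal.span ({X 0 ^ c₀, X 1 ^ c₁} : Set (MvPolynomial (Fin 2) k)) =
      monIdeal k ({Finsupp.single 0 c₀, Finsupp.single 1 c₁} : Set (Fin 2 →₀ ℕ)) := by
    unfold monIdeal
    rw [Set.image_pair, X_pow_eq_monomial, X_pow_eq_monomial]
  rw [hJ]
  let φ : Fin c₀ × Fin c₁ → (Fin 2 →₀ ℕ) := fun ij =>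
    Finsupp.single 0 (ij.1 : ℕ) + Finsupp.single 1 (ij.2 : ℕ)
  have hφ : Function.Injective φ := by
    intro a b hab
    have h0 := DFunLike.congr_fun hab 0
    have h1 := DFunLike.congr_fun hab 1
    simp only [φ, Finsupp.add_apply, Finsupp.single_eq_same, ne_eq, one_ne_zero,
      not_false_eq_true, Finsupp.single_eq_of_ne, add_zero, zero_ne_one, zero_add] at h0 h1
    exact Prod.ext (Fin.ext h0) (Fin.ext h1)
  have hcard : (Finset.image φ Finset.univ).card = c₀ * c₁ := by
    rw [Finset.card_image_of_injective _ hφ, Finset.card_univ, Fintype.card_prod,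
      Fintype.card_fin, Fintype.card_fin]
  rw [← hcard]
  apply finrank_quotient
  · intro m hm
    by_contra hcon
    push Not at hcon
    apply hm
    have h0 : m 0 < c₀ := by
      by_contra hge
      apply hcon (Finsupp.single 0 c₀) (Set.mem_insert _ _)
      intro i
      fin_cases i
      · simpa using not_lt.mp hge
      · simp
    have h1 : m 1 < c₁ := by
      by_contra hge
      apply hcon (Finsupp.single 1 c₁) (Set.mem_insert_of_mem _ rfl)
      intro i
      fin_cases i
      · simp
      · simpa using not_lt.mp hge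
    rw [Finset.mem_image]
    exact ⟨(⟨m 0, h0⟩, ⟨m 1, h1⟩), Finset.mem_univ _, (eq_single_add_single m).symm⟩
  · intro m hm s hs hle
    rw [Finset.mem_image] at hm
    obtain ⟨⟨i, j⟩, _, rfl⟩ := hm
    rcases hs with rfl | rfl
    · have h0 := hle 0
      simp [φ] at h0
      have := i.2
      omega
    · have h1 := hle 1
      simp [φ] at h1
      have := j.2
      omega

end two

end Groth.Agent.Lib.Helper20.MonomialQuot
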