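import Mathlib
import Groth.Agent.Lib.Helper9.DimTrdeg
import Groth.Agent.Lib.Helper22.FibreDim

set_option autoImplicit false
universe u v w

namespace Groth.Agent.Lib.Helper20.MovFace

open TensorProduct

section single
variable {k : Type u} [Field k] {r d : ℕ}

theorem dim_tensor_quot (P : Ideal (MvPolynomial (Fin r) k)) (hP : P.IsMaximal)
    (A : Type u) [CommRing A] [Algebra k A] [Algebra.FiniteType k A] :
    ringKrullDim ((MvPolynomial (Fin r) k ⧸ P) ⊗[k] A) = ringKrullDim A := by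
  haveI := hP
  letI : Field (MvPolynomial (Fin r) k ⧸ P) := Ideal.Quotient.field P
  exact Groth.Agent.Lib.Helper22.ringKrullDim_tensor_field k (MvPolynomial (Fin r) k ⧸ P) A

theorem face_single (N : ℕ) (J : Ideal (MvPolynomial (Fin r ⊕ (Unit ⊕ Fin d)) k)) (r' : ℕ)
    (hr' : r' < r)
    (hJ : ringKrullDim (MvPolynomial (Fin r ⊕ (Unit ⊕ Fin d)) k ⧸ J) ≤ (r' : ℕ))
    (b : MvPolynomial (Fin r ⊕ (Unit ⊕ Fin d)) k)
    (hb : b * MvPolynomial.X (Sum.inr (Sum.inl ())) - 1 ∈ J)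
    (P : Ideal (MvPolynomial (Fin r) k)) (hP : P.IsMaximal) :
    ∃ h : MvPolynomial (Fin r) k, h ≠ 0 ∧
      ∀ (K : Type v) [Field K] [Algebra k K] (g₀ : Fin r → K)
        (L : Type w) [Field L] [Algebra k L] [Algebra K L] [IsScalarTower k K L]
        (ξ : Fin r → L) (t : L) (y : Fin d → L),
        (∀ p ∈ P, MvPolynomial.aeval ξ p = 0) →
        (∀ q ∈ J, MvPolynomial.aeval
          (Sum.elim (fun i => ξ i + t ^ N * algebraMap K L (g₀ i))
            (Sum.elim (fun _ : Unit => t) y)) q = 0) →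
        MvPolynomial.aeval g₀ h = 0 := by
  haveI : Algebra.FiniteType k (MvPolynomial (Fin r) k ⧸ P) :=
    Algebra.FiniteType.of_surjective (Ideal.Quotient.mkₐ k P) (Ideal.Quotient.mkₐ_surjective k P)
  haveI : Algebra.FiniteType k (MvPolynomial (Fin r ⊕ (Unit ⊕ Fin d)) k ⧸ J) :=
    Algebra.FiniteType.of_surjective (Ideal.Quotient.mkₐ k J) (Ideal.Quotient.mkₐ_surjective k J)
  haveI : Algebra.FiniteType k
      ((MvPolynomial (Fin r) k ⧸ P) ⊗[k] (MvPolynomial (Fin r ⊕ (Unit ⊕ Fin d)) k ⧸ J)) :=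
    Algebra.FiniteType.trans (S := MvPolynomial (Fin r) k ⧸ P) inferInstance inferInstance
  have hdimF := dim_tensor_quot P hP (MvPolynomial (Fin r ⊕ (Unit ⊕ Fin d)) k ⧸ J)
  obtain ⟨ψ, hψ⟩ : ∃ ψ : MvPolynomial (Fin r) k →ₐ[k]
      ((MvPolynomial (Fin r) k ⧸ P) ⊗[k] (MvPolynomial (Fin r ⊕ (Unit ⊕ Fin d)) k ⧸ J)),
      ψ = MvPolynomial.aeval (fun i =>
        (((1 : MvPolynomial (Fin r) k ⧸ P) ⊗ₜ[k]
            (Ideal.Quotient.mk J (MvPolynomial.X (Sum.inl i)))) -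
          ((Ideal.Quotient.mk P (MvPolynomial.X i)) ⊗ₜ[k]
            (1 : MvPolynomial (Fin r ⊕ (Unit ⊕ Fin d)) k ⧸ J))) *
          ((1 : MvPolynomial (Fin r) k ⧸ P) ⊗ₜ[k] (Ideal.Quotient.mk J (b ^ N)))) := ⟨_, rfl⟩
  have hninj : ¬ Function.Injective ψ := by
    intro hinj
    have h1 := Groth.Agent.Lib.Helper9.DimTrdeg.le_ringKrullDim_of_injective k
      ((MvPolynomial (Fin r) k ⧸ P) ⊗[k] (MvPolynomial (Fin r ⊕ (Unit ⊕ Fin d)) k ⧸ J)) r ψ hinj
    rw [hdimF] at h1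
    have h2 := h1.trans hJ
    have h3 : (r : ℕ∞) ≤ (r' : ℕ∞) := by exact_mod_cast h2
    have h4 : r ≤ r' := by exact_mod_cast h3
    omega
  rw [injective_iff_map_eq_zero] at hninj
  push Not at hninj
  obtain ⟨h, hψh, hh0⟩ := hninj
  refine ⟨h, hh0, ?_⟩
  intro K _ _ g₀ L _ _ _ _ ξ t y hPξ hJpt
  obtain ⟨pt, hpt⟩ : ∃ pt : Fin r ⊕ (Unit ⊕ Fin d) → L,
      pt = Sum.elim (fun i => ξ i + t ^ N * algebraMap K L (g₀ i))
        (Sum.elim (fun _ : Unit => t) y) := ⟨_, rfl⟩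
  rw [← hpt] at hJpt
  let φ₁ : (MvPolynomial (Fin r) k ⧸ P) →ₐ[k] L :=
    Ideal.Quotient.liftₐ P (MvPolynomial.aeval ξ) (fun p hp => hPξ p hp)
  let φ₂ : (MvPolynomial (Fin r ⊕ (Unit ⊕ Fin d)) k ⧸ J) →ₐ[k] L :=
    Ideal.Quotient.liftₐ J (MvPolynomial.aeval pt) (fun q hq => hJpt q hq)
  let Φ : ((MvPolynomial (Fin r) k ⧸ P) ⊗[k] (MvPolynomial (Fin r ⊕ (Unit ⊕ Fin d)) k ⧸ J)) →ₐ[k] L :=
    Algebra.TensorProduct.lift φ₁ φ₂ (fun _ _ => Commute.all _ _)
  have hbt : MvPolynomial.aeval pt b * t = 1 := by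
    have := hJpt _ hb
    rw [map_sub, map_mul, map_one, MvPolynomial.aeval_X, hpt] at this
    simp only [Sum.elim_inr, Sum.elim_inl] at this
    rw [← hpt] at this
    exact sub_eq_zero.mp this
  have hcomp : Φ.comp ψ = MvPolynomial.aeval (fun i => algebraMap K L (g₀ i)) := by
    apply MvPolynomial.algHom_ext
    intro i
    rw [AlgHom.comp_apply, hψ, MvPolynomial.aeval_X, MvPolynomial.aeval_X, map_mul, map_sub]
    simp only [Φ, Algebra.TensorProduct.lift_tmul, map_one, one_mul, mul_one, φ₁, φ₂]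
    have e1 : (Ideal.Quotient.liftₐ J (MvPolynomial.aeval pt) (fun q hq => hJpt q hq))
        (Ideal.Quotient.mk J (MvPolynomial.X (Sum.inl i))) = pt (Sum.inl i) := by
      change MvPolynomial.aeval pt (MvPolynomial.X (Sum.inl i)) = _
      simp
    have e2 : (Ideal.Quotient.liftₐ J (MvPolynomial.aeval pt) (fun q hq => hJpt q hq))
        (Ideal.Quotient.mk J (b ^ N)) = MvPolynomial.aeval pt b ^ N := by
      change MvPolynomial.aeval pt (b ^ N) = _
      rw [map_pow]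
    have e3 : (Ideal.Quotient.liftₐ P (MvPolynomial.aeval ξ) (fun p hp => hPξ p hp))
        (Ideal.Quotient.mk P (MvPolynomial.X i)) = ξ i := by
      change MvPolynomial.aeval ξ (MvPolynomial.X i) = _
      simp
    rw [e1, e2, e3, hpt]
    simp only [Sum.elim_inl]
    rw [← hpt]
    calc (ξ i + t ^ N * algebraMap K L (g₀ i) - ξ i) * (MvPolynomial.aeval pt) b ^ N
        = algebraMap K L (g₀ i) * ((MvPolynomial.aeval pt) b * t) ^ N := by ring
      _ = algebraMap K L (g₀ i) := by rw [hbt, one_pow, mul_one]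
  have h5 := congrArg (fun φ => φ h) hcomp
  simp only [AlgHom.comp_apply] at h5
  rw [hψh, map_zero] at h5
  have h6 := MvPolynomial.aeval_algebraMap_apply (B := L) g₀ h
  have h7 : (MvPolynomial.aeval (fun i => algebraMap K L (g₀ i))) h =
      (MvPolynomial.aeval (algebraMap K L ∘ g₀)) h := rfl
  rw [h7, h6] at h5
  exact (algebraMap K L).injective (by rw [← h5, map_zero])

end single

end Groth.Agent.Lib.Helper20.MovFace
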