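import Mathlib
import Groth.Agent.Lib.Helper20.MovFace1

set_option autoImplicit false
universe u v w

namespace Groth.Agent.Lib.Helper20.MovFace

open TensorProduct

section main
variable {k : Type u} [Field k] {r d : ℕ}

theorem main (N : ℕ) (hr : 1 ≤ r)
    (I : Ideal (MvPolynomial (Fin r ⊕ (Unit ⊕ Fin d)) k))
    (ht0 : I ⊔ Ideal.span {MvPolynomial.X (Sum.inr (Sum.inl ()))} = ⊤)
    (hface : ∀ (S : Finset (Fin d)), S.Nonempty → ∀ (ε : Fin d → k), (∀ i, ε i = 0 ∨ ε i = 1) →
      ringKrullDim (MvPolynomial (Fin r ⊕ (Unit ⊕ Fin d)) k ⧸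
        (I ⊔ Ideal.span ((fun i => MvPolynomial.X (Sum.inr (Sum.inr i)) - MvPolynomial.C (ε i)) '' (S : Set (Fin d))))) ≤ (r - S.card : ℕ))
    (Sigma : Finset (Ideal (MvPolynomial (Fin r) k))) (hSigma : ∀ P ∈ Sigma, P.IsMaximal) :
    ∃ h : MvPolynomial (Fin r) k, h ≠ 0 ∧
      ∀ (K : Type v) [Field K] [Algebra k K] (g : Fin r → K), MvPolynomial.aeval g h ≠ 0 →
        ∀ (L : Type w) [Field L] [Algebra k L] [Algebra K L] [IsScalarTower k K L]
          (ξ : Fin r → L) (t : L) (y : Fin d → L),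
          ∀ P ∈ Sigma, (∀ p ∈ P, MvPolynomial.aeval ξ p = 0) →
            ∀ (S : Finset (Fin d)), S.Nonempty → ∀ (ε : Fin d → k), (∀ i, ε i = 0 ∨ ε i = 1) →
              (∀ i ∈ S, y i = algebraMap k L (ε i)) →
                ¬ (∀ q ∈ I, MvPolynomial.aeval
                    (Sum.elim (fun i => ξ i + t ^ N * algebraMap K L (g i))
                      (Sum.elim (fun _ : Unit => t) y)) q = 0) := by
  classical
  -- the inverse of t modulo I
  have h1 : (1 : MvPolynomial (Fin r ⊕ (Unit ⊕ Fin d)) k) ∈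
      I ⊔ Ideal.span {MvPolynomial.X (Sum.inr (Sum.inl ()))} := by
    rw [ht0]
    exact Submodule.mem_top
  obtain ⟨a, ha, c, hc, hac⟩ := Submodule.mem_sup.mp h1
  obtain ⟨b, hbc⟩ := Ideal.mem_span_singleton'.mp hc
  have hbI : b * MvPolynomial.X (Sum.inr (Sum.inl ())) - 1 ∈ I := by
    have : b * MvPolynomial.X (Sum.inr (Sum.inl ())) - 1 = -a := by
      rw [hbc, ← hac]
      ring
    rw [this]
    exact I.neg_mem ha
  -- the family of polynomials
  have hfam : ∀ x : {P // P ∈ Sigma} × {S : Finset (Fin d) // S.Nonempty} × (Fin d → Bool),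
      ∃ h : MvPolynomial (Fin r) k, h ≠ 0 ∧
      ∀ (K : Type v) [Field K] [Algebra k K] (g₀ : Fin r → K)
        (L : Type w) [Field L] [Algebra k L] [Algebra K L] [IsScalarTower k K L]
        (ξ : Fin r → L) (t : L) (y : Fin d → L),
        (∀ p ∈ x.1.1, MvPolynomial.aeval ξ p = 0) →
        (∀ q ∈ (I ⊔ Ideal.span ((fun i => MvPolynomial.X (Sum.inr (Sum.inr i)) -
            MvPolynomial.C (if x.2.2 i then (1 : k) else 0)) '' (x.2.1.1 : Set (Fin d)))),
          MvPolynomial.aeval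
          (Sum.elim (fun i => ξ i + t ^ N * algebraMap K L (g₀ i))
            (Sum.elim (fun _ : Unit => t) y)) q = 0) →
        MvPolynomial.aeval g₀ h = 0 := by
    intro x
    have hcard : 0 < x.2.1.1.card := x.2.1.2.card_pos
    refine face_single.{u, v, w} N _ (r - x.2.1.1.card) (by omega)
      (hface x.2.1.1 x.2.1.2 (fun i => if x.2.2 i then (1 : k) else 0) ?_) b
      (Ideal.mem_sup_left hbI) x.1.1 (hSigma x.1.1 x.1.2)
    intro i
    by_cases hi : x.2.2 i
    · right
      simp [hi]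
    · left
      simp [hi]
  choose hfun hne hprop using hfam
  refine ⟨∏ x, hfun x, Finset.prod_ne_zero_iff.mpr (fun x _ => hne x), ?_⟩
  intro K _ _ g hg L _ _ _ _ ξ t y P hP hPξ S hS ε hε hy hzero
  rw [map_prod] at hg
  have hgx := Finset.prod_ne_zero_iff.mp hg
  obtain ⟨ε', hε'⟩ : ∃ ε' : Fin d → Bool, ε' = fun i => decide (ε i = 1) := ⟨_, rfl⟩
  have hεε' : ε = fun i => if ε' i then (1 : k) else 0 := by
    funext i
    rw [hε']
    rcases hε i with h | h
    · simp [h]
    · simp [h]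
  apply hgx (⟨P, hP⟩, ⟨S, hS⟩, ε') (Finset.mem_univ _)
  apply hprop (⟨P, hP⟩, ⟨S, hS⟩, ε') K g L ξ t y hPξ
  change ∀ q ∈ (I ⊔ Ideal.span ((fun i => MvPolynomial.X (Sum.inr (Sum.inr i)) -
            MvPolynomial.C (if ε' i then (1 : k) else 0)) '' (S : Set (Fin d)))), _
  have hpt : ∀ i, (if ε' i then (1 : k) else 0) = ε i := fun i => (congrFun hεε' i).symm
  have hle : I ⊔ Ideal.span ((fun i => MvPolynomial.X (Sum.inr (Sum.inr i)) -
      MvPolynomial.C (if ε' i then (1 : k) else 0)) '' (S : Set (Fin d))) ≤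
      RingHom.ker (MvPolynomial.aeval (R := k)
        (Sum.elim (fun i => ξ i + t ^ N * algebraMap K L (g i))
          (Sum.elim (fun _ : Unit => t) y))) := by
    refine sup_le (fun q hq => ?_) ?_
    · rw [RingHom.mem_ker]
      exact hzero q hq
    · rw [Ideal.span_le]
      rintro _ ⟨i, hi, rfl⟩
      rw [SetLike.mem_coe, RingHom.mem_ker, map_sub, MvPolynomial.aeval_X, MvPolynomial.aeval_C]
      simp only [Sum.elim_inr]
      rw [hpt i, hy i hi, sub_self]
  intro q hq
  exact hle hq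

end main

end Groth.Agent.Lib.Helper20.MovFace
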