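import Mathlib
import Groth.Agent.Lib.Helper12.IntegralDim

set_option autoImplicit false

universe u

namespace Groth.Agent.Lib.Helper20.MovFin

open Ideal

theorem exists_nat_of_nonneg_lt_top (x : WithBot ℕ∞) (h0 : 0 ≤ x) (h1 : x < ⊤) :
    ∃ n : ℕ, x = n := by
  induction x using WithBot.recBotCoe with
  | bot => exact absurd h0 (by simp)
  | coe y =>
    induction y using ENat.recTopCoe with
    | top => exact absurd h1 (lt_irrefl _)
    | coe n => exact ⟨n, rfl⟩

theorem ringKrullDim_lt_top_of_finiteType_field {K A : Type u} [Field K] [CommRing A]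
    (f : K →+* A) (hf : f.FiniteType) : ringKrullDim A < ⊤ := by
  letI := f.toAlgebra
  have hft : Algebra.FiniteType K A := hf
  obtain ⟨n, g, hg⟩ := Algebra.FiniteType.iff_quotient_mvPolynomial''.1 hft
  refine lt_of_le_of_lt (ringKrullDim_le_of_surjective g.toRingHom hg) ?_
  rw [MvPolynomial.ringKrullDim_of_isNoetherianRing, ringKrullDim_eq_zero_of_field]
  simp only [zero_add, Nat.card_eq_fintype_card, Fintype.card_fin]
  have h : ((n : ℕ∞) : WithBot ℕ∞) < ((⊤ : ℕ∞) : WithBot ℕ∞) :=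
    WithBot.coe_lt_coe.2 (ENat.coe_lt_top n)
  exact h

theorem ker_mem_minimalPrimes {A C : Type u} [CommRing A] [CommRing C] [IsDomain C]
    (φ : A →+* C) (hφ : φ.IsIntegral) (hfin : ringKrullDim A < ⊤)
    (heq : ∀ P ∈ minimalPrimes A, ringKrullDim (A ⧸ P) = ringKrullDim A)
    (hdim : ringKrullDim C = ringKrullDim A) : RingHom.ker φ ∈ minimalPrimes A := by
  haveI hQp : (RingHom.ker φ).IsPrime := RingHom.ker_isPrime φ
  -- dim A/Q = dim C
  have hQdim : ringKrullDim (A ⧸ RingHom.ker φ) = ringKrullDim A := by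
    rw [← hdim]
    letI := (RingHom.kerLift φ).toAlgebra
    have hint : (RingHom.kerLift φ).IsIntegral := by
      refine RingHom.IsIntegral.tower_top (Ideal.Quotient.mk (RingHom.ker φ)) (RingHom.kerLift φ) ?_
      have : (RingHom.kerLift φ).comp (Ideal.Quotient.mk (RingHom.ker φ)) = φ := by
        ext a; rfl
      rw [this]; exact hφ
    haveI : Algebra.IsIntegral (A ⧸ RingHom.ker φ) C := ⟨hint⟩
    exact Groth.Agent.Lib.Helper12.ringKrullDim_eq_of_isIntegral_of_injective _ _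
      (RingHom.kerLift_injective φ)
  obtain ⟨P, hP, hPQ⟩ := Ideal.exists_minimalPrimes_le (bot_le : (⊥ : Ideal A) ≤ RingHom.ker φ)
  have hP' : P ∈ minimalPrimes A := hP
  by_cases hPe : P = RingHom.ker φ
  · rw [← hPe]; exact hP'
  exfalso
  haveI hPp : P.IsPrime := hP.1.1
  have hlt : P < RingHom.ker φ := lt_of_le_of_ne hPQ hPe
  obtain ⟨r, hrQ, hrP⟩ := SetLike.exists_of_lt hlt
  have hr0 : (Ideal.Quotient.mk P r) ≠ 0 := by
    rw [Ne, Ideal.Quotient.eq_zero_iff_mem]; exact hrP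
  have hnzd : Ideal.Quotient.mk P r ∈ nonZeroDivisors (A ⧸ P) := mem_nonZeroDivisors_of_ne_zero hr0
  have h1 := ringKrullDim_quotient_succ_le_of_nonZeroDivisor hnzd
  -- surjection (A/P)/(r) → A/Q
  have hle : Ideal.span {Ideal.Quotient.mk P r} ≤ RingHom.ker (Ideal.Quotient.factor hPQ) := by
    rw [Ideal.span_le, Set.singleton_subset_iff]
    change Ideal.Quotient.factor hPQ (Ideal.Quotient.mk P r) = 0
    rw [Ideal.Quotient.factor_mk, Ideal.Quotient.eq_zero_iff_mem]
    exact hrQ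
  have hsurj : Function.Surjective (Ideal.Quotient.lift (Ideal.span {Ideal.Quotient.mk P r})
      (Ideal.Quotient.factor hPQ) (fun a ha => (RingHom.mem_ker).1 (hle ha))) := by
    intro y
    obtain ⟨a, rfl⟩ := Ideal.Quotient.mk_surjective y
    refine ⟨Ideal.Quotient.mk _ (Ideal.Quotient.mk P a), ?_⟩
    rw [Ideal.Quotient.lift_mk, Ideal.Quotient.factor_mk]
  have h2 := ringKrullDim_le_of_surjective _ hsurj
  have h3 : ringKrullDim (A ⧸ RingHom.ker φ) + 1 ≤ ringKrullDim (A ⧸ P) :=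
    le_trans (add_le_add_left h2 1) h1
  rw [heq P hP', hQdim] at h3
  have h0 : 0 ≤ ringKrullDim A := by
    rw [← hQdim]; exact ringKrullDim_nonneg_of_nontrivial
  obtain ⟨n, hn⟩ := exists_nat_of_nonneg_lt_top _ h0 hfin
  rw [hn] at h3
  have : (n : WithBot ℕ∞) + 1 = ((n + 1 : ℕ) : WithBot ℕ∞) := by push_cast; rfl
  rw [this] at h3
  have h4 : n + 1 ≤ n := by exact_mod_cast h3
  omega

end Groth.Agent.Lib.Helper20.MovFin
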