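import Mathlib
import Groth.Agent.Lib.Helper20.MovFin1

set_option autoImplicit false

universe u

open CategoryTheory CategoryTheory.Limits AlgebraicGeometry TopologicalSpace Opposite

namespace Groth.Agent.Lib.Helper20.MovFin

theorem topologicalKrullDim_eq_ringKrullDim_Γ (P : Scheme.{u}) [IsAffine P] :
    topologicalKrullDim P = ringKrullDim Γ(P, ⊤) := by
  have h2 : topologicalKrullDim P = topologicalKrullDim (PrimeSpectrum Γ(P, ⊤)) :=
    IsHomeomorph.topologicalKrullDim_eq _ (Scheme.homeoOfIso P.isoSpec).isHomeomorph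
  rw [h2, PrimeSpectrum.topologicalKrullDim_eq_ringKrullDim]

theorem topologicalKrullDim_zeroLocus {R : Type u} [CommRing R] (I : Ideal R) :
    topologicalKrullDim ↥(PrimeSpectrum.zeroLocus (I : Set R)) = ringKrullDim (R ⧸ I) := by
  have hemb := (PrimeSpectrum.isClosedEmbedding_comap_of_surjective (R ⧸ I) (Ideal.Quotient.mk I)
    Ideal.Quotient.mk_surjective).isEmbedding
  have hr : Set.range (PrimeSpectrum.comap (Ideal.Quotient.mk I)) =
      PrimeSpectrum.zeroLocus (I : Set R) := by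
    rw [range_comap_of_surjective _ _ Ideal.Quotient.mk_surjective, Ideal.mk_ker]
  rw [← PrimeSpectrum.topologicalKrullDim_eq_ringKrullDim, ← hr]
  exact (hemb.toHomeomorph.isHomeomorph.topologicalKrullDim_eq _).symm

theorem range_mem_irreducibleComponents {X Z : Scheme.{u}} [IsAffine X] [IsAffine Z] [IsIntegral Z]
    (g : Z ⟶ X) [IsFinite g] (hfin : ringKrullDim Γ(X, ⊤) < ⊤)
    (hXeq : ∀ T ∈ irreducibleComponents (X : Type u), topologicalKrullDim T = topologicalKrullDim X)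
    (hZ : topologicalKrullDim Z = topologicalKrullDim X) :
    Set.range g.base ∈ irreducibleComponents (X : Type u) := by
  obtain ⟨eX, heX⟩ : ∃ e : X ≃ₜ PrimeSpectrum Γ(X, ⊤), e = Scheme.homeoOfIso X.isoSpec := ⟨_, rfl⟩
  obtain ⟨eZ, heZ⟩ : ∃ e : Z ≃ₜ PrimeSpectrum Γ(Z, ⊤), e = Scheme.homeoOfIso Z.isoSpec := ⟨_, rfl⟩
  obtain ⟨φ, hφdef⟩ : ∃ φ : Γ(X, ⊤) →+* Γ(Z, ⊤), φ = g.appTop.hom := ⟨_, rfl⟩
  have hnat : ∀ z : Z, eX (g z) = PrimeSpectrum.comap φ (eZ z) := by
    intro z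
    have h : (Z.isoSpec.hom ≫ Spec.map g.appTop) z = (g ≫ X.isoSpec.hom) z := by
      rw [Scheme.isoSpec_hom_naturality]
    rw [Scheme.Hom.comp_apply, Scheme.Hom.comp_apply] at h
    rw [heX, heZ, hφdef]
    exact h.symm
  have hfinφ : φ.Finite := by
    rw [hφdef]
    exact IsFinite.finite_app g ⊤ (isAffineOpen_top X)
  have hint : φ.IsIntegral := hfinφ.to_isIntegral
  -- irreducible components via minimal primes
  have hcomp : ∀ P ∈ minimalPrimes Γ(X, ⊤),
      eX ⁻¹' (PrimeSpectrum.zeroLocus (P : Set Γ(X, ⊤))) ∈ irreducibleComponents (X : Type u) := by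
    intro P hP
    have hV : PrimeSpectrum.zeroLocus (P : Set Γ(X, ⊤)) ∈
        irreducibleComponents (PrimeSpectrum Γ(X, ⊤)) := by
      rw [← PrimeSpectrum.zeroLocus_minimalPrimes]
      exact ⟨P, hP, rfl⟩
    haveI : P.IsPrime := hP.1.1
    refine preimage_mem_irreducibleComponents hV eX.isOpenEmbedding ⟨⟨P, inferInstance⟩, ?_, ?_⟩
    · rw [PrimeSpectrum.mem_zeroLocus]
    · exact eX.surjective _
  have heq' : ∀ P ∈ minimalPrimes Γ(X, ⊤),
      ringKrullDim (Γ(X, ⊤) ⧸ P) = ringKrullDim Γ(X, ⊤) := by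
    intro P hP
    have h1 := hXeq _ (hcomp P hP)
    have h2 : topologicalKrullDim ↥(eX ⁻¹' (PrimeSpectrum.zeroLocus (P : Set Γ(X, ⊤)))) =
        topologicalKrullDim ↥(PrimeSpectrum.zeroLocus (P : Set Γ(X, ⊤))) :=
      IsHomeomorph.topologicalKrullDim_eq _
        (eX.subtype (p := fun x => x ∈ eX ⁻¹' (PrimeSpectrum.zeroLocus (P : Set Γ(X, ⊤))))
          (q := fun y => y ∈ PrimeSpectrum.zeroLocus (P : Set Γ(X, ⊤)))
          (fun x => Iff.rfl)).isHomeomorph
    rw [← topologicalKrullDim_zeroLocus, ← h2, h1, topologicalKrullDim_eq_ringKrullDim_Γ]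
  have hdim' : ringKrullDim Γ(Z, ⊤) = ringKrullDim Γ(X, ⊤) := by
    rw [← topologicalKrullDim_eq_ringKrullDim_Γ, ← topologicalKrullDim_eq_ringKrullDim_Γ, hZ]
  have hQ := ker_mem_minimalPrimes φ hint hfin heq' hdim'
  have hres := hcomp _ hQ
  have hrange : Set.range g.base = eX ⁻¹' (PrimeSpectrum.zeroLocus (RingHom.ker φ : Set Γ(X, ⊤))) := by
    ext x
    constructor
    · rintro ⟨z, rfl⟩
      rw [Set.mem_preimage]
      change eX (g z) ∈ _
      rw [hnat, PrimeSpectrum.mem_zeroLocus]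
      intro a ha
      change φ a ∈ (eZ z).asIdeal
      rw [(RingHom.mem_ker).1 ha]
      exact Ideal.zero_mem _
    · intro hx
      rw [Set.mem_preimage, PrimeSpectrum.mem_zeroLocus] at hx
      letI := φ.toAlgebra
      haveI : Algebra.IsIntegral Γ(X, ⊤) Γ(Z, ⊤) := ⟨hint⟩
      have hker : (⊥ : Ideal Γ(Z, ⊤)).comap (algebraMap Γ(X, ⊤) Γ(Z, ⊤)) ≤ (eX x).asIdeal := by
        intro a ha
        apply hx
        rw [Ideal.mem_comap, Ideal.mem_bot] at ha
        exact (RingHom.mem_ker).2 ha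
      obtain ⟨Q, -, hQp, hQ'⟩ :=
        Ideal.exists_ideal_over_prime_of_isIntegral (eX x).asIdeal ⊥ hker
      refine ⟨eZ.symm ⟨Q, hQp⟩, ?_⟩
      apply eX.injective
      change eX (g (eZ.symm ⟨Q, hQp⟩)) = eX x
      rw [hnat, Homeomorph.apply_symm_apply]
      apply PrimeSpectrum.ext
      exact hQ'
  rw [hrange]
  exact hres

end Groth.Agent.Lib.Helper20.MovFin
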