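import Mathlib
import Groth.Agent.Lib.Helper20.MovFin2

set_option autoImplicit false

universe u

open CategoryTheory CategoryTheory.Limits AlgebraicGeometry TopologicalSpace Opposite

namespace Groth.Agent.Lib.Helper20.MovFin

theorem ringKrullDim_lt_top_of_lft {k : Type u} [Field k] {X : Scheme.{u}}
    (sX : X ⟶ Spec (CommRingCat.of k)) [IsAffine X] [LocallyOfFiniteType sX] :
    ringKrullDim Γ(X, ⊤) < ⊤ := by
  have h1 : RingHom.FiniteType sX.appTop.hom :=
    (HasRingHomProperty.iff_of_isAffine (P := @LocallyOfFiniteType)).mp ‹_›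
  have h2 : RingHom.FiniteType (Scheme.ΓSpecIso (CommRingCat.of k)).inv.hom :=
    RingHom.FiniteType.of_surjective _
      (ConcreteCategory.bijective_of_isIso (Scheme.ΓSpecIso (CommRingCat.of k)).inv).2
  exact ringKrullDim_lt_top_of_finiteType_field _ (h1.comp h2)

theorem forward {X Bhat Z S : Scheme.{u}} (sX : X ⟶ S) (sB : Bhat ⟶ S) [IsProper sB]
    (j : Z ⟶ pullback sX sB) (h : IsFinite (j ≫ pullback.fst sX sB)) :
    IsClosed (Set.range j.base) := by
  haveI : IsProper (j ≫ pullback.fst sX sB) := inferInstance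
  haveI : IsProper j := IsProper.of_comp j (pullback.fst sX sB)
  exact j.isClosedMap.isClosed_range

set_option backward.isDefEq.respectTransparency.types false in
theorem backward {k : Type u} [Field k] {X Bhat Z : Scheme.{u}}
    (sX : X ⟶ Spec (CommRingCat.of k)) (sB : Bhat ⟶ Spec (CommRingCat.of k))
    [IsAffine X] [LocallyOfFiniteType sX]
    (hXeq : ∀ T ∈ irreducibleComponents (X : Type u), topologicalKrullDim T = topologicalKrullDim X)
    [IsProper sB]
    (B : Bhat.Opens) (hB : IsAffineOpen B)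
    [IsIntegral Z] (ι : Z ⟶ ((pullback.snd sX sB) ⁻¹ᵁ B).toScheme) [IsClosedImmersion ι]
    (hZ : topologicalKrullDim Z = topologicalKrullDim X)
    (j : Z ⟶ pullback sX sB) (hj : j = ι ≫ ((pullback.snd sX sB) ⁻¹ᵁ B).ι)
    (hcl : IsClosed (Set.range j.base)) :
    IsFinite (j ≫ pullback.fst sX sB) ∧
        Set.range (j ≫ pullback.fst sX sB).base ∈ irreducibleComponents (X : Type u) := by
  haveI : IsPreimmersion j := by rw [hj]; infer_instance
  haveI : IsClosedImmersion j := IsClosedImmersion.of_isPreimmersion j hcl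
  haveI : IsAffineHom sX := inferInstance
  haveI : IsAffineHom (pullback.snd sX sB) := MorphismProperty.pullback_snd _ _ ‹IsAffineHom sX›
  have hU : IsAffineOpen ((pullback.snd sX sB) ⁻¹ᵁ B) := hB.preimage _
  haveI : IsAffine ((pullback.snd sX sB) ⁻¹ᵁ B).toScheme := hU
  haveI : IsAffine Z := isAffine_of_isAffineHom ι
  haveI : IsAffineHom (j ≫ pullback.fst sX sB) := inferInstance
  haveI : IsProper (pullback.fst sX sB) := inferInstance
  haveI : IsProper (j ≫ pullback.fst sX sB) := inferInstance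
  haveI : IsFinite (j ≫ pullback.fst sX sB) := IsFinite.iff_isProper_and_isAffineHom.mpr ⟨inferInstance, inferInstance⟩
  exact ⟨inferInstance, range_mem_irreducibleComponents _ (ringKrullDim_lt_top_of_lft sX) hXeq hZ⟩

theorem main {k : Type u} [Field k] {X Bhat Z : Scheme.{u}}
    (sX : X ⟶ Spec (CommRingCat.of k)) (sB : Bhat ⟶ Spec (CommRingCat.of k))
    [IsAffine X] [LocallyOfFiniteType sX]
    (hXeq : ∀ T ∈ irreducibleComponents (X : Type u), topologicalKrullDim T = topologicalKrullDim X)
    [IsProper sB]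
    (B : Bhat.Opens) (hB : IsAffineOpen B)
    [IsIntegral Z] (ι : Z ⟶ ((pullback.snd sX sB) ⁻¹ᵁ B).toScheme) [IsClosedImmersion ι]
    (hZ : topologicalKrullDim Z = topologicalKrullDim X)
    (j : Z ⟶ pullback sX sB) (hj : j = ι ≫ ((pullback.snd sX sB) ⁻¹ᵁ B).ι) :
    (IsFinite (j ≫ pullback.fst sX sB) ∧
        Set.range (j ≫ pullback.fst sX sB).base ∈ irreducibleComponents (X : Type u)) ↔
      IsClosed (Set.range j.base) :=
  ⟨fun h => forward sX sB j h.1, fun h => backward sX sB hXeq B hB ι hZ j hj h⟩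

end Groth.Agent.Lib.Helper20.MovFin
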