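import Mathlib

set_option autoImplicit false
universe u v w

namespace Groth.Agent.Lib.Helper20.MovRes

open Polynomial

section defs
variable {k : Type u} [Field k] {r : ℕ}

/-- the translated polynomial `p(x + T^N g)` in `R₀[T]`. -/
noncomputable def trF (N : ℕ) (p : MvPolynomial (Fin r) k) {R₀ : Type v} [CommRing R₀]
    (ι : k →+* R₀) (x g : Fin r → R₀) : Polynomial R₀ :=
  MvPolynomial.eval₂ (Polynomial.C.comp ι)
    (fun i => Polynomial.C (x i) + Polynomial.X ^ N * Polynomial.C (g i)) p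

/-- the resultant eliminating `T`. -/
noncomputable def RES (N : ℕ) (p : MvPolynomial (Fin r) k) (q₁ : Polynomial k) (n₀ : ℕ)
    {R₀ : Type v} [CommRing R₀] (ι : k →+* R₀) (x g : Fin r → R₀) : R₀ :=
  Polynomial.resultant (q₁.map ι) (trF N p ι x g) q₁.natDegree n₀

theorem map_trF (N : ℕ) (p : MvPolynomial (Fin r) k) {R₀ : Type v} [CommRing R₀]
    {R₁ : Type w} [CommRing R₁] (θ : R₀ →+* R₁) (ι : k →+* R₀) (x g : Fin r → R₀) :
    (trF N p ι x g).map θ = trF N p (θ.comp ι) (fun i => θ (x i)) (fun i => θ (g i)) := by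
  unfold trF
  have h := MvPolynomial.eval₂_comp_left (Polynomial.mapRingHom θ) (Polynomial.C.comp ι)
    (fun i => Polynomial.C (x i) + Polynomial.X ^ N * Polynomial.C (g i)) p
  rw [Polynomial.coe_mapRingHom] at h
  rw [h]
  congr 1
  · ext a
    simp
  · funext i
    simp

theorem map_RES (N : ℕ) (p : MvPolynomial (Fin r) k) (q₁ : Polynomial k) (n₀ : ℕ)
    {R₀ : Type v} [CommRing R₀]
    {R₁ : Type w} [CommRing R₁] (θ : R₀ →+* R₁) (ι : k →+* R₀) (x g : Fin r → R₀) :
    θ (RES N p q₁ n₀ ι x g) = RES N p q₁ n₀ (θ.comp ι) (fun i => θ (x i)) (fun i => θ (g i)) := by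
  unfold RES
  rw [← Polynomial.resultant_map_map, Polynomial.map_map, map_trF]

theorem natDegree_trF_le (N : ℕ) (p : MvPolynomial (Fin r) k) {R₀ : Type v} [CommRing R₀]
    (ι : k →+* R₀) (x g : Fin r → R₀) :
    (trF N p ι x g).natDegree ≤ N * p.totalDegree := by
  unfold trF
  rw [MvPolynomial.eval₂_eq']
  refine Polynomial.natDegree_sum_le_of_forall_le _ _ fun d hd => ?_
  refine (Polynomial.natDegree_mul_le).trans ?_
  have h1 : (((Polynomial.C.comp ι) (MvPolynomial.coeff d p)) : Polynomial R₀).natDegree = 0 := by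
    simp
  rw [h1, zero_add]
  refine (Polynomial.natDegree_prod_le _ _).trans ?_
  have h2 : ∀ i ∈ (Finset.univ : Finset (Fin r)),
      ((Polynomial.C (x i) + Polynomial.X ^ N * Polynomial.C (g i)) ^ d i : Polynomial R₀).natDegree
        ≤ N * d i := by
    intro i _
    refine Polynomial.natDegree_pow_le.trans ?_
    rw [mul_comm]
    refine Nat.mul_le_mul_right _ ?_
    refine (Polynomial.natDegree_add_le _ _).trans ?_
    rw [max_le_iff]
    refine ⟨by simp, ?_⟩
    refine (Polynomial.natDegree_mul_le).trans ?_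
    simp
    exact Polynomial.natDegree_X_pow_le N
  refine (Finset.sum_le_sum h2).trans ?_
  rw [← Finset.mul_sum]
  refine Nat.mul_le_mul_left _ ?_
  have := MvPolynomial.le_totalDegree hd
  rw [Finsupp.sum_fintype _ _ (fun _ => rfl)] at this
  exact this

end defs

end Groth.Agent.Lib.Helper20.MovRes
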