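import Mathlib
import Groth.Agent.Lib.Helper20.MovRes1

set_option autoImplicit false
universe u v w

namespace Groth.Agent.Lib.Helper20.MovRes

open Polynomial

section nonvanishing
variable {k : Type u} [Field k] {r : ℕ}

theorem eval_trF_ne_zero (N : ℕ) (p : MvPolynomial (Fin r) k) (hp : p ≠ 0)
    {Ω : Type v} [Field Ω] (ιΩ : k →+* Ω) (ξ : Fin r → Ω) (τ : Ω) (hτ : τ ≠ 0) :
    Polynomial.eval (MvPolynomial.C τ)
      (trF N p ((MvPolynomial.C (σ := Fin r)).comp ιΩ) (fun i => MvPolynomial.C (ξ i))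
        (fun i => MvPolynomial.X i)) ≠ 0 := by
  intro h0
  unfold trF at h0
  have h1 : MvPolynomial.eval₂ ((Polynomial.evalRingHom (MvPolynomial.C τ : MvPolynomial (Fin r) Ω)).comp
      (Polynomial.C.comp ((MvPolynomial.C (σ := Fin r)).comp ιΩ)))
      ((Polynomial.evalRingHom (MvPolynomial.C τ : MvPolynomial (Fin r) Ω)) ∘
        (fun i => Polynomial.C (MvPolynomial.C (ξ i)) + Polynomial.X ^ N * Polynomial.C (MvPolynomial.X i))) p = 0 := by
    rw [← MvPolynomial.eval₂_comp_left]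
    exact h0
  let θ' : MvPolynomial (Fin r) Ω →ₐ[Ω] MvPolynomial (Fin r) Ω :=
    MvPolynomial.aeval (fun i => MvPolynomial.C ((τ ^ N)⁻¹) * (MvPolynomial.X i - MvPolynomial.C (ξ i)))
  have h2 := MvPolynomial.eval₂_comp_left (θ' : MvPolynomial (Fin r) Ω →+* MvPolynomial (Fin r) Ω)
    ((Polynomial.evalRingHom (MvPolynomial.C τ : MvPolynomial (Fin r) Ω)).comp
      (Polynomial.C.comp ((MvPolynomial.C (σ := Fin r)).comp ιΩ)))
    ((Polynomial.evalRingHom (MvPolynomial.C τ : MvPolynomial (Fin r) Ω)) ∘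
      (fun i => Polynomial.C (MvPolynomial.C (ξ i)) + Polynomial.X ^ N * Polynomial.C (MvPolynomial.X i))) p
  rw [h1, map_zero] at h2
  have h3 : ((θ' : MvPolynomial (Fin r) Ω →+* MvPolynomial (Fin r) Ω).comp
      ((Polynomial.evalRingHom (MvPolynomial.C τ : MvPolynomial (Fin r) Ω)).comp
      (Polynomial.C.comp ((MvPolynomial.C (σ := Fin r)).comp ιΩ)))) =
      (MvPolynomial.C (σ := Fin r)).comp ιΩ := by
    ext a
    simp [θ']
  have h4 : ((θ' : MvPolynomial (Fin r) Ω →+* MvPolynomial (Fin r) Ω) ∘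
      ((Polynomial.evalRingHom (MvPolynomial.C τ : MvPolynomial (Fin r) Ω)) ∘
      (fun i => Polynomial.C (MvPolynomial.C (ξ i)) + Polynomial.X ^ N * Polynomial.C (MvPolynomial.X i)))) =
      fun i => MvPolynomial.X i := by
    funext i
    simp only [Function.comp_apply, Polynomial.coe_evalRingHom, Polynomial.eval_add,
      Polynomial.eval_C, Polynomial.eval_mul, Polynomial.eval_pow, Polynomial.eval_X,
      RingHom.coe_coe, map_add, map_mul, map_pow, θ', MvPolynomial.aeval_X, MvPolynomial.algHom_C,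
      MvPolynomial.algebraMap_eq]
    rw [← map_pow, ← mul_assoc, ← map_mul, mul_inv_cancel₀ (pow_ne_zero N hτ), map_one, one_mul]
    ring
  rw [h3, h4] at h2
  have h5 : MvPolynomial.map ιΩ p = 0 := by
    have h6 : MvPolynomial.map ιΩ p = MvPolynomial.eval₂ ((MvPolynomial.C (σ := Fin r)).comp ιΩ) (fun i => MvPolynomial.X i) p := by
      rw [← MvPolynomial.eval₂_map]
      exact (MvPolynomial.eval₂_eta _).symm
    rw [h6, ← h2]
  exact hp (MvPolynomial.map_injective ιΩ ιΩ.injective (by rw [h5, map_zero]))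

theorem RES_ne_zero_algClosed (N : ℕ) (p : MvPolynomial (Fin r) k) (hp : p ≠ 0)
    (q₁ : Polynomial k) (hq0 : q₁.eval 0 ≠ 0)
    {Ω : Type v} [Field Ω] [IsAlgClosed Ω] (ιΩ : k →+* Ω) (ξ : Fin r → Ω) :
    RES N p q₁ (N * p.totalDegree) ((MvPolynomial.C (σ := Fin r)).comp ιΩ)
      (fun i => MvPolynomial.C (ξ i)) (fun i => MvPolynomial.X i) ≠ 0 := by
  unfold RES
  have hq1 : q₁ ≠ 0 := by
    intro h
    rw [h, Polynomial.eval_zero] at hq0
    exact hq0 rfl
  obtain ⟨qΩ, hqΩ⟩ : ∃ qΩ : Polynomial Ω, qΩ = q₁.map ιΩ := ⟨_, rfl⟩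
  obtain ⟨f, hfdef⟩ : ∃ f : Polynomial (MvPolynomial (Fin r) Ω),
      f = qΩ.map (MvPolynomial.C (σ := Fin r)) := ⟨_, rfl⟩
  have hCinj : Function.Injective (MvPolynomial.C (σ := Fin r) (R := Ω)) :=
    MvPolynomial.C_injective (Fin r) Ω
  have hff : q₁.map ((MvPolynomial.C (σ := Fin r)).comp ιΩ) = f := by
    rw [hfdef, hqΩ, Polynomial.map_map]
  have hsplit : qΩ.Splits := IsAlgClosed.splits qΩ
  have hf : f.Splits := by
    rw [hfdef]
    exact hsplit.map _
  have hdeg : f.natDegree = q₁.natDegree := by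
    rw [hfdef, hqΩ, Polynomial.natDegree_map_eq_of_injective hCinj,
      Polynomial.natDegree_map_eq_of_injective ιΩ.injective]
  have hqΩ0 : qΩ ≠ 0 := by
    rw [hqΩ]
    exact (Polynomial.map_ne_zero_iff ιΩ.injective).mpr hq1
  have hf0 : f ≠ 0 := by
    rw [hfdef]
    exact (Polynomial.map_ne_zero_iff hCinj).mpr hqΩ0
  rw [hff, ← hdeg, Polynomial.resultant_eq_prod_eval f _ _ (natDegree_trF_le N p _ _ _) hf]
  refine mul_ne_zero (pow_ne_zero _ (Polynomial.leadingCoeff_ne_zero.mpr hf0)) ?_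
  refine Multiset.prod_ne_zero ?_
  intro hmem
  obtain ⟨τ', hτ', h0⟩ := Multiset.mem_map.mp hmem
  have hroots : f.roots = qΩ.roots.map (MvPolynomial.C (σ := Fin r)) := by
    rw [hfdef]
    exact hsplit.roots_map_of_injective hCinj
  rw [hroots] at hτ'
  obtain ⟨τ, hτ, rfl⟩ := Multiset.mem_map.mp hτ'
  have hroot : qΩ.IsRoot τ := (Polynomial.mem_roots hqΩ0).mp hτ
  have hτ0 : τ ≠ 0 := by
    intro h
    rw [h, Polynomial.IsRoot, hqΩ, Polynomial.eval_zero_map] at hroot
    exact hq0 (ιΩ.injective (by rw [hroot, map_zero]))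
  exact eval_trF_ne_zero N p hp ιΩ ξ τ hτ0 h0

theorem RES_ne_zero (N : ℕ) (p : MvPolynomial (Fin r) k) (hp : p ≠ 0)
    (q₁ : Polynomial k) (hq0 : q₁.eval 0 ≠ 0)
    {L : Type v} [Field L] [Algebra k L] (ξ : Fin r → L) :
    RES N p q₁ (N * p.totalDegree)
      ((MvPolynomial.C (σ := Fin r)).comp (algebraMap k L))
      (fun i => MvPolynomial.C (ξ i)) (fun i => MvPolynomial.X i) ≠ 0 := by
  intro h0
  have h1 := congrArg (MvPolynomial.map (algebraMap L (AlgebraicClosure L))) h0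
  rw [map_RES, map_zero] at h1
  have h2 : (MvPolynomial.map (algebraMap L (AlgebraicClosure L))).comp
      ((MvPolynomial.C (σ := Fin r)).comp (algebraMap k L)) =
      (MvPolynomial.C (σ := Fin r)).comp
        ((algebraMap L (AlgebraicClosure L)).comp (algebraMap k L)) := by
    ext a
    simp
  have h3 : (fun i => (MvPolynomial.map (algebraMap L (AlgebraicClosure L)))
      (MvPolynomial.C (σ := Fin r) (ξ i))) =
      fun i => MvPolynomial.C (algebraMap L (AlgebraicClosure L) (ξ i)) := by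
    funext i
    simp
  have h4 : (fun i : Fin r => (MvPolynomial.map (algebraMap L (AlgebraicClosure L)))
      (MvPolynomial.X i)) = fun i => MvPolynomial.X i := by
    funext i
    simp
  rw [h2, h3, h4] at h1
  exact RES_ne_zero_algClosed N p hp q₁ hq0 _ _ h1

end nonvanishing

end Groth.Agent.Lib.Helper20.MovRes
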