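import Mathlib
import Groth.Agent.Lib.Helper20.MovRes2

set_option autoImplicit false
universe u v w

namespace Groth.Agent.Lib.Helper20.MovRes

open Polynomial

section single
variable {k : Type u} [Field k] {r d : ℕ}

/-- the resultant lies in the contraction of the translated ideal. -/
theorem RES_mem_comap (N : ℕ)
    (I : Ideal (MvPolynomial (Fin r ⊕ (Unit ⊕ Fin d)) k))
    (p : MvPolynomial (Fin r) k)
    (hpI : MvPolynomial.rename Sum.inl p ∈ I)
    (q₁ : Polynomial k) (hqdeg : q₁.natDegree ≠ 0)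
    (hqI : Polynomial.aeval
      (MvPolynomial.X (Sum.inr (Sum.inl ())) : MvPolynomial (Fin r ⊕ (Unit ⊕ Fin d)) k) q₁ ∈ I)
    (K : Type v) [Field K] [Algebra k K] (g₀ : Fin r → K) :
    RES N p q₁ (N * p.totalDegree)
        ((MvPolynomial.C (σ := Fin r)).comp (algebraMap k K))
        (fun i => MvPolynomial.X i) (fun i => MvPolynomial.C (g₀ i)) ∈
      Ideal.comap (MvPolynomial.rename (Sum.inl : Fin r → Fin r ⊕ (Unit ⊕ Fin d)) :
          MvPolynomial (Fin r) K →ₐ[K] MvPolynomial (Fin r ⊕ (Unit ⊕ Fin d)) K)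
        (Ideal.map (MvPolynomial.aeval
            (Sum.elim (fun i : Fin r => MvPolynomial.X (Sum.inl i) +
                MvPolynomial.X (Sum.inr (Sum.inl ())) ^ N * MvPolynomial.C (g₀ i))
              (fun j : Unit ⊕ Fin d => MvPolynomial.X (Sum.inr j))) :
            MvPolynomial (Fin r ⊕ (Unit ⊕ Fin d)) k →ₐ[k] MvPolynomial (Fin r ⊕ (Unit ⊕ Fin d)) K) I) := by
  obtain ⟨φ, hφ⟩ : ∃ φ : MvPolynomial (Fin r ⊕ (Unit ⊕ Fin d)) k →ₐ[k]
      MvPolynomial (Fin r ⊕ (Unit ⊕ Fin d)) K, φ = MvPolynomial.aeval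
        (Sum.elim (fun i : Fin r => MvPolynomial.X (Sum.inl i) +
            MvPolynomial.X (Sum.inr (Sum.inl ())) ^ N * MvPolynomial.C (g₀ i))
          (fun j : Unit ⊕ Fin d => MvPolynomial.X (Sum.inr j))) := ⟨_, rfl⟩
  rw [← hφ]
  obtain ⟨ι₀, hι₀⟩ : ∃ ι₀ : k →+* MvPolynomial (Fin r) K,
      ι₀ = (MvPolynomial.C (σ := Fin r)).comp (algebraMap k K) := ⟨_, rfl⟩
  rw [← hι₀]
  obtain ⟨u, v, -, -, huv⟩ := Polynomial.exists_mul_add_mul_eq_C_resultant (q₁.map ι₀)
    (trF N p ι₀ (fun i => MvPolynomial.X i) (fun i => MvPolynomial.C (g₀ i)))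
    (m := q₁.natDegree) (n := N * p.totalDegree) (Polynomial.natDegree_map_le)
    (natDegree_trF_le N p _ _ _) (Or.inl hqdeg)
  obtain ⟨Ψ, hΨ⟩ : ∃ Ψ : Polynomial (MvPolynomial (Fin r) K) →+*
      MvPolynomial (Fin r ⊕ (Unit ⊕ Fin d)) K, Ψ = Polynomial.eval₂RingHom
        ((MvPolynomial.rename (Sum.inl : Fin r → Fin r ⊕ (Unit ⊕ Fin d)) :
          MvPolynomial (Fin r) K →ₐ[K] MvPolynomial (Fin r ⊕ (Unit ⊕ Fin d)) K) :
          MvPolynomial (Fin r) K →+* MvPolynomial (Fin r ⊕ (Unit ⊕ Fin d)) K)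
        (MvPolynomial.X (Sum.inr (Sum.inl ()))) := ⟨_, rfl⟩
  have h1 := congrArg Ψ huv
  rw [map_add, map_mul, map_mul] at h1
  have hΨC : Ψ (Polynomial.C (RES N p q₁ (N * p.totalDegree) ι₀
      (fun i => MvPolynomial.X i) (fun i => MvPolynomial.C (g₀ i)))) =
      MvPolynomial.rename Sum.inl (RES N p q₁ (N * p.totalDegree) ι₀
      (fun i => MvPolynomial.X i) (fun i => MvPolynomial.C (g₀ i))) := by
    rw [hΨ]
    simp
  have hφt : φ (MvPolynomial.X (Sum.inr (Sum.inl ()))) = MvPolynomial.X (Sum.inr (Sum.inl ())) := by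
    rw [hφ, MvPolynomial.aeval_X]
    rfl
  have hΨq : Ψ (q₁.map ι₀) = φ (Polynomial.aeval
      (MvPolynomial.X (Sum.inr (Sum.inl ())) : MvPolynomial (Fin r ⊕ (Unit ⊕ Fin d)) k) q₁) := by
    rw [← Polynomial.aeval_algHom_apply, hφt, hΨ, Polynomial.coe_eval₂RingHom,
      Polynomial.eval₂_map, Polynomial.aeval_def]
    congr 1
    ext a
    rw [hι₀]
    simp [MvPolynomial.algebraMap_apply]
  have hΨF : Ψ (trF N p ι₀ (fun i => MvPolynomial.X i) (fun i => MvPolynomial.C (g₀ i))) =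
      φ (MvPolynomial.rename Sum.inl p) := by
    unfold trF
    rw [MvPolynomial.eval₂_comp_left Ψ, hφ, MvPolynomial.aeval_rename, MvPolynomial.aeval_def]
    congr 1
    · ext a
      rw [hΨ, hι₀]
      simp [MvPolynomial.algebraMap_apply]
    · funext i
      rw [hΨ]
      simp
      ring
  rw [Ideal.mem_comap]
  have h2 : (RES N p q₁ (N * p.totalDegree) ι₀
      (fun i => MvPolynomial.X i) (fun i => MvPolynomial.C (g₀ i))) =
      Polynomial.resultant (q₁.map ι₀)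
        (trF N p ι₀ (fun i => MvPolynomial.X i) (fun i => MvPolynomial.C (g₀ i)))
        q₁.natDegree (N * p.totalDegree) := rfl
  rw [← h2] at h1
  change MvPolynomial.rename Sum.inl _ ∈ _
  rw [← hΨC, ← h1, hΨq, hΨF]
  exact Ideal.add_mem _ (Ideal.mul_mem_right _ _ (Ideal.mem_map_of_mem _ hqI))
    (Ideal.mul_mem_right _ _ (Ideal.mem_map_of_mem _ hpI))

end single

end Groth.Agent.Lib.Helper20.MovRes
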