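import Mathlib
import Groth.Agent.Lib.Helper20.MovRes3

set_option autoImplicit false
universe u v w

namespace Groth.Agent.Lib.Helper20.MovRes

open Polynomial

section unitpart
variable {k : Type u} [Field k] {r : ℕ}

/-- the resultant is a unit modulo the extension of a maximal ideal, for generic `g`. -/
theorem exists_h_unit (N : ℕ) (p : MvPolynomial (Fin r) k) (hp : p ≠ 0)
    (q₁ : Polynomial k) (hq0 : q₁.eval 0 ≠ 0)
    (P : Ideal (MvPolynomial (Fin r) k)) (hP : P.IsMaximal) :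
    ∃ h : MvPolynomial (Fin r) k, h ≠ 0 ∧
      ∀ (K : Type v) [Field K] [Algebra k K] (g₀ : Fin r → K), MvPolynomial.aeval g₀ h ≠ 0 →
        ∃ ρ' : MvPolynomial (Fin r) K,
          RES N p q₁ (N * p.totalDegree)
            ((MvPolynomial.C (σ := Fin r)).comp (algebraMap k K))
            (fun i => MvPolynomial.X i) (fun i => MvPolynomial.C (g₀ i)) * ρ' - 1 ∈
          Ideal.map (MvPolynomial.map (algebraMap k K) :
            MvPolynomial (Fin r) k →+* MvPolynomial (Fin r) K) P := by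
  haveI := hP
  letI : Field (MvPolynomial (Fin r) k ⧸ P) := Ideal.Quotient.field P
  haveI : Algebra.FiniteType k (MvPolynomial (Fin r) k ⧸ P) :=
    Algebra.FiniteType.of_surjective (Ideal.Quotient.mkₐ k P) (Ideal.Quotient.mkₐ_surjective k P)
  haveI : Module.Finite k (MvPolynomial (Fin r) k ⧸ P) :=
    finite_of_finite_type_of_isJacobsonRing k _
  haveI : Algebra.IsAlgebraic k (MvPolynomial (Fin r) k ⧸ P) := Algebra.IsAlgebraic.of_finite k _
  obtain ⟨ξ, hξ⟩ : ∃ ξ : Fin r → (MvPolynomial (Fin r) k ⧸ P),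
      ξ = fun i => Ideal.Quotient.mk P (MvPolynomial.X i) := ⟨_, rfl⟩
  have hβ := RES_ne_zero N p hp q₁ hq0 ξ
  obtain ⟨h, hh0, ρ, hρ⟩ := MvPolynomial.exists_dvd_map_of_isAlgebraic (R := k) hβ
  refine ⟨h, hh0, ?_⟩
  intro K _ _ g₀ hg
  obtain ⟨PK, hPK⟩ : ∃ PK : Ideal (MvPolynomial (Fin r) K), PK = Ideal.map (MvPolynomial.map
      (algebraMap k K) : MvPolynomial (Fin r) k →+* MvPolynomial (Fin r) K) P := ⟨_, rfl⟩
  rw [← hPK]
  obtain ⟨π, hπ⟩ : ∃ π : MvPolynomial (Fin r) K →+* MvPolynomial (Fin r) K ⧸ PK,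
      π = Ideal.Quotient.mk PK := ⟨_, rfl⟩
  have hkill : ∀ a ∈ P, (π.comp (MvPolynomial.map (algebraMap k K))) a = 0 := by
    intro a ha
    rw [RingHom.comp_apply, hπ, Ideal.Quotient.eq_zero_iff_mem, hPK]
    exact Ideal.mem_map_of_mem _ ha
  obtain ⟨γ, hγ⟩ : ∃ γ : (MvPolynomial (Fin r) k ⧸ P) →+* MvPolynomial (Fin r) K ⧸ PK,
      γ = Ideal.Quotient.lift P (π.comp (MvPolynomial.map (algebraMap k K))) hkill := ⟨_, rfl⟩
  have hγmk : ∀ a, γ (Ideal.Quotient.mk P a) = π (MvPolynomial.map (algebraMap k K) a) := by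
    intro a
    rw [hγ, Ideal.Quotient.lift_mk]
    rfl
  obtain ⟨ε, hε⟩ : ∃ ε : MvPolynomial (Fin r) (MvPolynomial (Fin r) k ⧸ P) →+*
      MvPolynomial (Fin r) K ⧸ PK,
      ε = MvPolynomial.eval₂Hom γ (fun i => π (MvPolynomial.C (g₀ i))) := ⟨_, rfl⟩
  have hεC : ∀ a, ε (MvPolynomial.C a) = γ a := by
    intro a
    rw [hε]
    simp
  have hεX : ∀ i, ε (MvPolynomial.X i) = π (MvPolynomial.C (g₀ i)) := by
    intro i
    rw [hε]
    simp
  have h1 := congrArg ε hρ
  rw [map_mul, map_RES] at h1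
  have halg : ∀ a : k, algebraMap k (MvPolynomial (Fin r) k ⧸ P) a =
      Ideal.Quotient.mk P (MvPolynomial.C a) := fun a => rfl
  have e1 : ε.comp ((MvPolynomial.C (σ := Fin r)).comp
      (algebraMap k (MvPolynomial (Fin r) k ⧸ P))) =
      π.comp ((MvPolynomial.C (σ := Fin r)).comp (algebraMap k K)) := by
    ext a
    simp only [RingHom.comp_apply]
    rw [hεC, halg, hγmk, MvPolynomial.map_C]
  have e2 : (fun i => ε (MvPolynomial.C (ξ i))) = fun i => π (MvPolynomial.X i) := by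
    funext i
    rw [hεC, hξ, hγmk, MvPolynomial.map_X]
  have e3 : (fun i => ε (MvPolynomial.X i)) = fun i => π (MvPolynomial.C (g₀ i)) := by
    funext i
    exact hεX i
  rw [e1, e2, e3, ← map_RES] at h1
  have e4 : ε (MvPolynomial.map (algebraMap k (MvPolynomial (Fin r) k ⧸ P)) h) =
      π (MvPolynomial.C (MvPolynomial.aeval g₀ h)) := by
    have hh : ε.comp (MvPolynomial.map (algebraMap k (MvPolynomial (Fin r) k ⧸ P))) =
        (π.comp (MvPolynomial.C (σ := Fin r))).comp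
          ((MvPolynomial.aeval g₀ : MvPolynomial (Fin r) k →ₐ[k] K) :
            MvPolynomial (Fin r) k →+* K) := by
      apply MvPolynomial.ringHom_ext
      · intro a
        simp only [RingHom.comp_apply, MvPolynomial.map_C, RingHom.coe_coe, MvPolynomial.aeval_C]
        rw [hεC, halg, hγmk, MvPolynomial.map_C]
      · intro i
        simp only [RingHom.comp_apply, MvPolynomial.map_X, RingHom.coe_coe, MvPolynomial.aeval_X]
        rw [hεX]
    exact congrArg (fun φ => φ h) hh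
  rw [e4] at h1
  obtain ⟨ρ₁, hρ₁⟩ : ∃ ρ₁, π ρ₁ = ε ρ := by
    rw [hπ]
    exact Ideal.Quotient.mk_surjective (ε ρ)
  refine ⟨ρ₁ * MvPolynomial.C ((MvPolynomial.aeval g₀ h)⁻¹), ?_⟩
  rw [← Ideal.Quotient.eq_zero_iff_mem, ← hπ, map_sub, map_mul, map_mul, map_one, hρ₁,
    ← mul_assoc, ← h1, ← map_mul, ← map_mul, mul_inv_cancel₀ hg, map_one, map_one, sub_self]

end unitpart

end Groth.Agent.Lib.Helper20.MovRes
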