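import Mathlib
import Groth.Agent.Lib.Helper20.MovRes4

set_option autoImplicit false
universe u v w

namespace Groth.Agent.Lib.Helper20.MovRes

open Polynomial

section main
variable {k : Type u} [Field k] {r d : ℕ}

theorem single (N : ℕ)
    (I : Ideal (MvPolynomial (Fin r ⊕ (Unit ⊕ Fin d)) k))
    (p : MvPolynomial (Fin r) k) (hp : p ≠ 0)
    (hpI : MvPolynomial.rename Sum.inl p ∈ I)
    (q₁ : Polynomial k) (hq0 : q₁.eval 0 ≠ 0) (hqdeg : q₁.natDegree ≠ 0)
    (hqI : Polynomial.aeval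
      (MvPolynomial.X (Sum.inr (Sum.inl ())) : MvPolynomial (Fin r ⊕ (Unit ⊕ Fin d)) k) q₁ ∈ I)
    (P : Ideal (MvPolynomial (Fin r) k)) (hP : P.IsMaximal) :
    ∃ h : MvPolynomial (Fin r) k, h ≠ 0 ∧
      ∀ (K : Type v) [Field K] [Algebra k K] (g : Fin r → K), MvPolynomial.aeval g h ≠ 0 →
        Ideal.comap (MvPolynomial.rename (Sum.inl : Fin r → Fin r ⊕ (Unit ⊕ Fin d)) :
              MvPolynomial (Fin r) K →ₐ[K] MvPolynomial (Fin r ⊕ (Unit ⊕ Fin d)) K)
            (Ideal.map (MvPolynomial.aeval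
                (Sum.elim (fun i : Fin r => MvPolynomial.X (Sum.inl i) +
                    MvPolynomial.X (Sum.inr (Sum.inl ())) ^ N * MvPolynomial.C (g i))
                  (fun j : Unit ⊕ Fin d => MvPolynomial.X (Sum.inr j))) :
                MvPolynomial (Fin r ⊕ (Unit ⊕ Fin d)) k →ₐ[k] MvPolynomial (Fin r ⊕ (Unit ⊕ Fin d)) K) I) ⊔
            Ideal.map (MvPolynomial.map (algebraMap k K) : MvPolynomial (Fin r) k →+* MvPolynomial (Fin r) K) P = ⊤ := by
  obtain ⟨h, hh0, hh⟩ := exists_h_unit.{u, v} N p hp q₁ hq0 P hP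
  refine ⟨h, hh0, ?_⟩
  intro K _ _ g hg
  obtain ⟨ρ', hρ'⟩ := hh K g hg
  have hmem := RES_mem_comap (d := d) N I p hpI q₁ hqdeg hqI K g
  rw [Ideal.eq_top_iff_one]
  obtain ⟨R0, hR0⟩ : ∃ R0 : MvPolynomial (Fin r) K, R0 = RES N p q₁ (N * p.totalDegree)
      ((MvPolynomial.C (σ := Fin r)).comp (algebraMap k K))
      (fun i => MvPolynomial.X i) (fun i => MvPolynomial.C (g i)) := ⟨_, rfl⟩
  rw [← hR0] at hmem hρ'
  have h1 : (1 : MvPolynomial (Fin r) K) = R0 * ρ' - (R0 * ρ' - 1) := by ring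
  rw [h1]
  exact Ideal.sub_mem _ (Ideal.mem_sup_left (Ideal.mul_mem_right _ _ hmem))
    (Ideal.mem_sup_right hρ')

theorem main (N : ℕ)
    (I : Ideal (MvPolynomial (Fin r ⊕ (Unit ⊕ Fin d)) k)) (hI : I.IsPrime)
    (ht0 : I ⊔ Ideal.span {MvPolynomial.X (Sum.inr (Sum.inl ()))} = ⊤)
    (hx : Ideal.comap (MvPolynomial.rename (Sum.inl : Fin r → Fin r ⊕ (Unit ⊕ Fin d)) :
        MvPolynomial (Fin r) k →ₐ[k] MvPolynomial (Fin r ⊕ (Unit ⊕ Fin d)) k) I ≠ ⊥)
    (ht : Ideal.comap (MvPolynomial.rename (fun _ : Unit => (Sum.inr (Sum.inl ()) : Fin r ⊕ (Unit ⊕ Fin d))) :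
        MvPolynomial Unit k →ₐ[k] MvPolynomial (Fin r ⊕ (Unit ⊕ Fin d)) k) I ≠ ⊥)
    (Sigma : Finset (Ideal (MvPolynomial (Fin r) k))) (hSigma : ∀ P ∈ Sigma, P.IsMaximal) :
    ∃ h : MvPolynomial (Fin r) k, h ≠ 0 ∧
      ∀ (K : Type v) [Field K] [Algebra k K] (g : Fin r → K), MvPolynomial.aeval g h ≠ 0 →
        ∀ P ∈ Sigma,
          Ideal.comap (MvPolynomial.rename (Sum.inl : Fin r → Fin r ⊕ (Unit ⊕ Fin d)) :
              MvPolynomial (Fin r) K →ₐ[K] MvPolynomial (Fin r ⊕ (Unit ⊕ Fin d)) K)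
            (Ideal.map (MvPolynomial.aeval
                (Sum.elim (fun i : Fin r => MvPolynomial.X (Sum.inl i) +
                    MvPolynomial.X (Sum.inr (Sum.inl ())) ^ N * MvPolynomial.C (g i))
                  (fun j : Unit ⊕ Fin d => MvPolynomial.X (Sum.inr j))) :
                MvPolynomial (Fin r ⊕ (Unit ⊕ Fin d)) k →ₐ[k] MvPolynomial (Fin r ⊕ (Unit ⊕ Fin d)) K) I) ⊔
            Ideal.map (MvPolynomial.map (algebraMap k K) : MvPolynomial (Fin r) k →+* MvPolynomial (Fin r) K) P = ⊤ := by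
  classical
  -- the polynomial in the x's
  obtain ⟨p, hpmem, hp0⟩ := Submodule.exists_mem_ne_zero_of_ne_bot hx
  have hpI : MvPolynomial.rename Sum.inl p ∈ I := hpmem
  -- the polynomial in t
  obtain ⟨q, hqmem, hq0⟩ := Submodule.exists_mem_ne_zero_of_ne_bot ht
  have hqI' : MvPolynomial.rename (fun _ : Unit => (Sum.inr (Sum.inl ()) : Fin r ⊕ (Unit ⊕ Fin d))) q ∈ I :=
    hqmem
  obtain ⟨q', hq'⟩ : ∃ q' : Polynomial k, q' = MvPolynomial.pUnitAlgEquiv k q := ⟨_, rfl⟩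
  have hq'0 : q' ≠ 0 := by
    rw [hq']
    intro h
    apply hq0
    exact (MvPolynomial.pUnitAlgEquiv k).injective (by rw [h, map_zero])
  have hcomp : (Polynomial.aeval (MvPolynomial.X (Sum.inr (Sum.inl ())) :
      MvPolynomial (Fin r ⊕ (Unit ⊕ Fin d)) k)).comp
        ((MvPolynomial.pUnitAlgEquiv k : MvPolynomial Unit k ≃ₐ[k] Polynomial k) :
          MvPolynomial Unit k →ₐ[k] Polynomial k) =
      MvPolynomial.rename (fun _ : Unit => (Sum.inr (Sum.inl ()) : Fin r ⊕ (Unit ⊕ Fin d))) := by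
    apply MvPolynomial.algHom_ext
    intro i
    simp
  have hq'I : Polynomial.aeval (MvPolynomial.X (Sum.inr (Sum.inl ())) :
      MvPolynomial (Fin r ⊕ (Unit ⊕ Fin d)) k) q' ∈ I := by
    have := congrArg (fun φ => φ q) hcomp
    simp only [AlgHom.comp_apply] at this
    rw [hq']
    have h2 : ((MvPolynomial.pUnitAlgEquiv k : MvPolynomial Unit k ≃ₐ[k] Polynomial k) :
          MvPolynomial Unit k →ₐ[k] Polynomial k) q = MvPolynomial.pUnitAlgEquiv k q := rfl
    rw [h2] at this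
    rw [this]
    exact hqI'
  obtain ⟨q₁, hq₁, hndvd⟩ := Polynomial.exists_eq_pow_rootMultiplicity_mul_and_not_dvd q' hq'0 0
  have hq10 : q₁.eval 0 ≠ 0 := by
    intro h
    apply hndvd
    rw [Polynomial.dvd_iff_isRoot]
    exact h
  have hXt : (MvPolynomial.X (Sum.inr (Sum.inl ())) : MvPolynomial (Fin r ⊕ (Unit ⊕ Fin d)) k) ∉ I := by
    intro h
    apply hI.ne_top
    rw [← ht0]
    exact (sup_eq_left.mpr ((Ideal.span_singleton_le_iff_mem I).mpr h)).symm
  have hq₁I : Polynomial.aeval (MvPolynomial.X (Sum.inr (Sum.inl ())) :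
      MvPolynomial (Fin r ⊕ (Unit ⊕ Fin d)) k) q₁ ∈ I := by
    rw [hq₁, map_mul, map_pow, map_sub, Polynomial.aeval_X, Polynomial.aeval_C, map_zero,
      sub_zero] at hq'I
    rcases hI.mem_or_mem hq'I with h | h
    · exact absurd (hI.mem_of_pow_mem _ h) hXt
    · exact h
  have hqdeg : q₁.natDegree ≠ 0 := by
    intro h
    have hc := Polynomial.eq_C_of_natDegree_eq_zero h
    have hc0 : q₁.coeff 0 ≠ 0 := by
      rw [Polynomial.coeff_zero_eq_eval_zero]
      exact hq10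
    rw [hc, Polynomial.aeval_C] at hq₁I
    apply hI.ne_top
    exact Ideal.eq_top_of_isUnit_mem _ hq₁I ((isUnit_iff_ne_zero.mpr hc0).map _)
  -- combine over Sigma
  have key : ∀ S : Finset (Ideal (MvPolynomial (Fin r) k)), (∀ P ∈ S, P.IsMaximal) →
      ∃ h : MvPolynomial (Fin r) k, h ≠ 0 ∧
      ∀ (K : Type v) [Field K] [Algebra k K] (g : Fin r → K), MvPolynomial.aeval g h ≠ 0 →
        ∀ P ∈ S,
          Ideal.comap (MvPolynomial.rename (Sum.inl : Fin r → Fin r ⊕ (Unit ⊕ Fin d)) :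
              MvPolynomial (Fin r) K →ₐ[K] MvPolynomial (Fin r ⊕ (Unit ⊕ Fin d)) K)
            (Ideal.map (MvPolynomial.aeval
                (Sum.elim (fun i : Fin r => MvPolynomial.X (Sum.inl i) +
                    MvPolynomial.X (Sum.inr (Sum.inl ())) ^ N * MvPolynomial.C (g i))
                  (fun j : Unit ⊕ Fin d => MvPolynomial.X (Sum.inr j))) :
                MvPolynomial (Fin r ⊕ (Unit ⊕ Fin d)) k →ₐ[k] MvPolynomial (Fin r ⊕ (Unit ⊕ Fin d)) K) I) ⊔
            Ideal.map (MvPolynomial.map (algebraMap k K) : MvPolynomial (Fin r) k →+* MvPolynomial (Fin r) K) P = ⊤ := by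
    intro S
    induction S using Finset.induction_on with
    | empty =>
      intro _
      exact ⟨1, one_ne_zero, fun K _ _ g _ P hP => absurd hP (Finset.notMem_empty P)⟩
    | insert P S hPS ih =>
      intro hmax
      obtain ⟨h₁, h₁0, hh₁⟩ := ih (fun Q hQ => hmax Q (Finset.mem_insert_of_mem hQ))
      obtain ⟨h₂, h₂0, hh₂⟩ := single.{u, v} (d := d) N I p hp0 hpI q₁ hq10 hqdeg hq₁I P
        (hmax P (Finset.mem_insert_self P S))
      refine ⟨h₁ * h₂, mul_ne_zero h₁0 h₂0, ?_⟩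
      intro K _ _ g hg Q hQ
      rw [map_mul] at hg
      rcases Finset.mem_insert.mp hQ with rfl | hQS
      · exact hh₂ K g (right_ne_zero_of_mul hg)
      · exact hh₁ K g (left_ne_zero_of_mul hg) Q hQS
  exact key Sigma hSigma

end main

end Groth.Agent.Lib.Helper20.MovRes
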