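import Mathlib
import Groth.Agent.Lib.Helper20.NodeB

/-!
# Retractions realizing a factorization of the node parameter: main theorem
-/

set_option autoImplicit false
set_option linter.style.haveILetI false
set_option linter.unusedSectionVars false
universe u

namespace Groth.Agent.Lib.Helper20.Node

open IsLocalRing MvPowerSeries

set_option maxHeartbeats 1600000 in
set_option synthInstance.maxHeartbeats 400000 in
theorem main
    (R : Type u) [CommRing R] [IsNoetherianRing R] [IsDomain R] [HenselianLocalRing R]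
    (hG : CAlg.IsGRing R)
    [IsDomain (AdicCompletion (maximalIdeal R) R)]
    [UniqueFactorizationMonoid (AdicCompletion (maximalIdeal R) R)]
    (Δ t₁ t₂ : R) (hΔ : Δ ≠ 0) (ht₁ : t₁ ∈ maximalIdeal R) (ht₂ : t₂ ∈ maximalIdeal R)
    (ht : t₁ * t₂ = Δ)
    (C : Type u) [CommRing C] [IsLocalRing C] [Algebra R C] [IsLocalHom (algebraMap R C)]
    [Algebra.EssFiniteType R C]
    (ψ : AdicCompletion (maximalIdeal C) C ≃+*
      (MvPowerSeries (Fin 2) (AdicCompletion (maximalIdeal R) R) ⧸
        Ideal.span {(X 0 * X 1 - MvPowerSeries.C (algebraMap R (AdicCompletion (maximalIdeal R) R) Δ) :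
          MvPowerSeries (Fin 2) (AdicCompletion (maximalIdeal R) R))}))
    (hψ : ψ.toRingHom.comp ((algebraMap C (AdicCompletion (maximalIdeal C) C)).comp (algebraMap R C)) =
      (Ideal.Quotient.mk _).comp ((MvPowerSeries.C : AdicCompletion (maximalIdeal R) R →+*
        MvPowerSeries (Fin 2) (AdicCompletion (maximalIdeal R) R)).comp
          (algebraMap R (AdicCompletion (maximalIdeal R) R)))) :
    ∃ (g : C →ₐ[R] R) (ĝ : AdicCompletion (maximalIdeal C) C →+* AdicCompletion (maximalIdeal R) R),
      ĝ.comp (algebraMap C (AdicCompletion (maximalIdeal C) C)) =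
        (algebraMap R (AdicCompletion (maximalIdeal R) R)).comp g.toRingHom ∧
      Ideal.span {ĝ (ψ.symm (Ideal.Quotient.mk _ (X 0)))} =
        Ideal.span {algebraMap R (AdicCompletion (maximalIdeal R) R) t₁} ∧
      Ideal.span {ĝ (ψ.symm (Ideal.Quotient.mk _ (X 1)))} =
        Ideal.span {algebraMap R (AdicCompletion (maximalIdeal R) R) t₂} := by
  classical
  haveI : IsNoetherianRing C := Algebra.EssFiniteType.isNoetherianRing R C
  haveI : IsNoetherianRing (AdicCompletion (maximalIdeal R) R) :=
    Groth.Agent.Lib.Helper21.isNoetherianRing_adicCompletion_of_fg _ (IsNoetherian.noetherian _)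
  -- notation
  have hmR : maximalIdeal (AdicCompletion (maximalIdeal R) R) = (maximalIdeal R).map (algebraMap R (AdicCompletion (maximalIdeal R) R)) := by
    exact AdicCompletion.maximalIdeal_eq_map
  have hmC : maximalIdeal (AdicCompletion (maximalIdeal C) C) = (maximalIdeal C).map (algebraMap C (AdicCompletion (maximalIdeal C) C)) := by
    exact AdicCompletion.maximalIdeal_eq_map
  have hoRinj : Function.Injective (algebraMap R (AdicCompletion (maximalIdeal R) R)) :=
    AdicCompletion.of_injective (maximalIdeal R) R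
  have hd₁ : (algebraMap R (AdicCompletion (maximalIdeal R) R)) t₁ ∈ maximalIdeal (AdicCompletion (maximalIdeal R) R) := by
    rw [hmR]; exact Ideal.mem_map_of_mem _ ht₁
  have hd₂ : (algebraMap R (AdicCompletion (maximalIdeal R) R)) t₂ ∈ maximalIdeal (AdicCompletion (maximalIdeal R) R) := by
    rw [hmR]; exact Ideal.mem_map_of_mem _ ht₂
  have hdδ : (algebraMap R (AdicCompletion (maximalIdeal R) R)) t₁ * (algebraMap R (AdicCompletion (maximalIdeal R) R)) t₂ = (algebraMap R (AdicCompletion (maximalIdeal R) R)) Δ := by rw [← map_mul, ht]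
  -- Step 1: the formal section
  let s₀ := sec (AdicCompletion (maximalIdeal R) R) ((algebraMap R (AdicCompletion (maximalIdeal R) R)) t₁) ((algebraMap R (AdicCompletion (maximalIdeal R) R)) t₂) ((algebraMap R (AdicCompletion (maximalIdeal R) R)) Δ) hd₁ hd₂ hdδ
  have hs₀C : ∀ w, s₀ (Ideal.Quotient.mk _ (MvPowerSeries.C w)) = w :=
    sec_C _ _ _ _ hd₁ hd₂ hdδ
  have hs₀X0 : s₀ (Ideal.Quotient.mk _ (X 0)) = (algebraMap R (AdicCompletion (maximalIdeal R) R)) t₁ := sec_X0 _ _ _ _ hd₁ hd₂ hdδ
  have hs₀X1 : s₀ (Ideal.Quotient.mk _ (X 1)) = (algebraMap R (AdicCompletion (maximalIdeal R) R)) t₂ := sec_X1 _ _ _ _ hd₁ hd₂ hdδ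
  -- Step 2: θ
  let θ : AdicCompletion (maximalIdeal C) C →+* AdicCompletion (maximalIdeal R) R :=
    s₀.comp ψ.toRingHom
  have hθψ : ∀ z, θ (ψ.symm z) = s₀ z := by
    intro z
    change s₀ (ψ (ψ.symm z)) = s₀ z
    rw [RingEquiv.apply_symm_apply]
  have hψR : ∀ r : R, ψ ((algebraMap C (AdicCompletion (maximalIdeal C) C)) (algebraMap R C r)) = Ideal.Quotient.mk _ (MvPowerSeries.C ((algebraMap R (AdicCompletion (maximalIdeal R) R)) r)) :=
    fun r => congrArg (fun f => f r) hψ
  have hθR : ∀ r : R, θ ((algebraMap C (AdicCompletion (maximalIdeal C) C)) (algebraMap R C r)) = (algebraMap R (AdicCompletion (maximalIdeal R) R)) r := by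
    intro r
    change s₀ (ψ ((algebraMap C (AdicCompletion (maximalIdeal C) C)) (algebraMap R C r))) = (algebraMap R (AdicCompletion (maximalIdeal R) R)) r
    rw [hψR, hs₀C]
  have hθsurj : Function.Surjective θ := fun w =>
    ⟨ψ.symm (Ideal.Quotient.mk _ (MvPowerSeries.C w)), by rw [hθψ, hs₀C]⟩
  haveI : IsLocalHom θ := IsLocalHom.of_surjective θ hθsurj
  have hθm : (maximalIdeal (AdicCompletion (maximalIdeal C) C)).map θ ≤
      maximalIdeal (AdicCompletion (maximalIdeal R) R) := by
    rw [Ideal.map_le_iff_le_comap]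
    intro z hz
    rw [Ideal.mem_comap, mem_maximalIdeal, mem_nonunits_iff]
    intro hu
    exact hz (isUnit_of_map_unit θ z hu)
  -- Step 3: choice of N
  have hne₁ : (algebraMap R (AdicCompletion (maximalIdeal R) R)) t₁ ≠ 0 := by
    intro h
    have : t₁ = 0 := hoRinj (by rw [h, map_zero])
    exact hΔ (by rw [← ht, this, zero_mul])
  have hne₂ : (algebraMap R (AdicCompletion (maximalIdeal R) R)) t₂ ≠ 0 := by
    intro h
    have : t₂ = 0 := hoRinj (by rw [h, map_zero])
    exact hΔ (by rw [← ht, this, mul_zero])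
  obtain ⟨N₀, hN₀⟩ := exists_bound_associated ((algebraMap R (AdicCompletion (maximalIdeal R) R)) t₁) ((algebraMap R (AdicCompletion (maximalIdeal R) R)) t₂) hne₁ hne₂
  obtain ⟨N, hN, hN1⟩ : ∃ N, N₀ ≤ N ∧ 1 ≤ N := ⟨max N₀ 1, le_max_left _ _, le_max_right _ _⟩
  obtain ⟨K, hK⟩ : ∃ K : Ideal (AdicCompletion (maximalIdeal R) R),
      K = (maximalIdeal R ^ N).map (algebraMap R (AdicCompletion (maximalIdeal R) R)) := ⟨_, rfl⟩
  have hKpow : K = maximalIdeal (AdicCompletion (maximalIdeal R) R) ^ N := by
    rw [hK, hmR, Ideal.map_pow]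
  have hKle : K ≤ maximalIdeal (AdicCompletion (maximalIdeal R) R) := by
    rw [hKpow]
    exact Ideal.pow_le_self (by omega)
  -- Step 4: presentation of the finite type part
  let C₀ := Algebra.EssFiniteType.subalgebra R C
  let M := Algebra.EssFiniteType.submonoid R C
  haveI : IsLocalization M C := Algebra.EssFiniteType.isLocalization (R := R) (S := C)
  have hfp : Algebra.FinitePresentation R C₀ :=
    Algebra.FinitePresentation.of_finiteType.mp inferInstance
  obtain ⟨n, q, hq, S, hS⟩ := Algebra.FinitePresentation.out (R := R) (A := C₀)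
  let χ : MvPolynomial (Fin n) R →ₐ[R] AdicCompletion (maximalIdeal R) R :=
    { toRingHom := θ.comp ((algebraMap C (AdicCompletion (maximalIdeal C) C)).comp ((algebraMap C₀ C).comp q.toRingHom))
      commutes' := by
        intro r
        change θ ((algebraMap C (AdicCompletion (maximalIdeal C) C)) (algebraMap C₀ C (q (algebraMap R _ r)))) = _
        rw [q.commutes, ← IsScalarTower.algebraMap_apply R C₀ C, hθR] }
  have hχ : ∀ p, χ p = θ ((algebraMap C (AdicCompletion (maximalIdeal C) C)) (algebraMap C₀ C (q p))) := fun p => rfl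
  let a : Fin n → AdicCompletion (maximalIdeal R) R := fun i => χ (MvPolynomial.X i)
  have haχ : (MvPolynomial.aeval a : MvPolynomial (Fin n) R →ₐ[R] _) = χ := by
    apply MvPolynomial.algHom_ext
    intro i
    rw [MvPolynomial.aeval_X]
  let F : Fin S.card → MvPolynomial (Fin n) R := fun j => (S.equivFin.symm j).1
  have hSq : ∀ s ∈ S, q s = 0 := by
    intro s hs
    have : s ∈ RingHom.ker q.toRingHom := by
      rw [← hS]
      exact Ideal.subset_span hs
    exact this
  have ha : ∀ j, MvPolynomial.aeval a (F j) = 0 := by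
    intro j
    rw [haχ, hχ, hSq _ (S.equivFin.symm j).2, map_zero, map_zero, map_zero]
  obtain ⟨b, hb, hab⟩ := Groth.Agent.Lib.Helper8.AA2.approx_local R hG n S.card F a ha N
  rw [← hK] at hab
  have hker : ∀ p ∈ RingHom.ker q.toRingHom,
      (MvPolynomial.aeval b : MvPolynomial (Fin n) R →ₐ[R] R) p = 0 := by
    intro p hp
    rw [← hS] at hp
    refine Submodule.span_induction ?_ ?_ ?_ ?_ hp
    · intro s hs
      have := hb (S.equivFin ⟨s, hs⟩)
      change MvPolynomial.eval b (S.equivFin.symm (S.equivFin ⟨s, hs⟩)).1 = 0 at this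
      rw [Equiv.symm_apply_apply] at this
      rw [MvPolynomial.aeval_eq_eval]
      exact this
    · exact map_zero _
    · intro x y _ _ hx hy
      rw [map_add, hx, hy, add_zero]
    · intro r x _ hx
      rw [smul_eq_mul, map_mul, hx, mul_zero]
  let g₀ : C₀ →ₐ[R] R :=
    (Ideal.Quotient.liftₐ (RingHom.ker q.toRingHom) (MvPolynomial.aeval b) hker).comp
      (Ideal.quotientKerAlgEquivOfSurjective hq).symm.toAlgHom
  have hg₀q : ∀ p, g₀ (q p) = MvPolynomial.aeval b p := by
    intro p
    have : (Ideal.quotientKerAlgEquivOfSurjective hq).symm (q p) =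
        Ideal.Quotient.mk _ p := by
      rw [AlgEquiv.symm_apply_eq]
      rfl
    change (Ideal.Quotient.liftₐ (RingHom.ker q.toRingHom) (MvPolynomial.aeval b) hker)
      ((Ideal.quotientKerAlgEquivOfSurjective hq).symm (q p)) = _
    rw [this]
    rfl
  -- closeness on `C₀`
  have hclose₀ : ∀ c₀ : C₀, θ ((algebraMap C (AdicCompletion (maximalIdeal C) C)) (algebraMap C₀ C c₀)) - (algebraMap R (AdicCompletion (maximalIdeal R) R)) (g₀ c₀) ∈ K := by
    let ofA : R →ₐ[R] AdicCompletion (maximalIdeal R) R := Algebra.ofId R _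
    let L₁ : MvPolynomial (Fin n) R →ₐ[R] (AdicCompletion (maximalIdeal R) R ⧸ K) :=
      (Ideal.Quotient.mkₐ R K).comp χ
    let L₂ : MvPolynomial (Fin n) R →ₐ[R] (AdicCompletion (maximalIdeal R) R ⧸ K) :=
      (Ideal.Quotient.mkₐ R K).comp (ofA.comp (MvPolynomial.aeval b))
    have hL : L₁ = L₂ := by
      apply MvPolynomial.algHom_ext
      intro i
      change Ideal.Quotient.mk K (χ (MvPolynomial.X i)) =
        Ideal.Quotient.mk K (algebraMap R _ (MvPolynomial.aeval b (MvPolynomial.X i)))
      rw [MvPolynomial.aeval_X, Ideal.Quotient.eq]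
      exact hab i
    intro c₀
    obtain ⟨p, rfl⟩ := hq c₀
    have h1 := congrArg (fun f => f p) hL
    change Ideal.Quotient.mk K (χ p) =
      Ideal.Quotient.mk K (algebraMap R _ (MvPolynomial.aeval b p)) at h1
    rw [Ideal.Quotient.eq] at h1
    rw [hg₀q, ← hχ]
    exact h1
  -- Step 5: units
  have hunits : ∀ s : M, IsUnit (g₀.toRingHom (s : C₀)) := by
    intro s
    have hs : IsUnit (algebraMap C₀ C (s : C₀)) := s.2
    have h1 : IsUnit (θ ((algebraMap C (AdicCompletion (maximalIdeal C) C)) (algebraMap C₀ C (s : C₀)))) := (hs.map (algebraMap C (AdicCompletion (maximalIdeal C) C))).map θ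
    have h2 := hclose₀ (s : C₀)
    have h3 : (algebraMap R (AdicCompletion (maximalIdeal R) R)) (g₀ (s : C₀)) ∉ maximalIdeal (AdicCompletion (maximalIdeal R) R) := by
      intro hmem
      have h4 : θ ((algebraMap C (AdicCompletion (maximalIdeal C) C)) (algebraMap C₀ C (s : C₀))) ∈
          maximalIdeal (AdicCompletion (maximalIdeal R) R) := by
        have : θ ((algebraMap C (AdicCompletion (maximalIdeal C) C)) (algebraMap C₀ C (s : C₀))) =
            (θ ((algebraMap C (AdicCompletion (maximalIdeal C) C)) (algebraMap C₀ C (s : C₀))) - (algebraMap R (AdicCompletion (maximalIdeal R) R)) (g₀ (s : C₀))) + (algebraMap R (AdicCompletion (maximalIdeal R) R)) (g₀ (s : C₀)) := by ring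
        rw [this]
        exact Ideal.add_mem _ (hKle h2) hmem
      exact (mem_maximalIdeal _).mp h4 h1
    have h5 : IsUnit ((algebraMap R (AdicCompletion (maximalIdeal R) R)) (g₀ (s : C₀))) := by
      by_contra hnu
      exact h3 ((mem_maximalIdeal _).mpr hnu)
    haveI : IsLocalHom (algebraMap R (AdicCompletion (maximalIdeal R) R)) := inferInstance
    exact isUnit_of_map_unit (algebraMap R (AdicCompletion (maximalIdeal R) R)) _ h5
  let gR : C →+* R := IsLocalization.lift (M := M) (g := g₀.toRingHom) hunits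
  have hgR : ∀ c₀ : C₀, gR (algebraMap C₀ C c₀) = g₀ c₀ := fun c₀ =>
    IsLocalization.lift_eq hunits c₀
  let g : C →ₐ[R] R :=
    { toRingHom := gR
      commutes' := by
        intro r
        change gR (algebraMap R C r) = algebraMap R R r
        rw [IsScalarTower.algebraMap_apply R C₀ C, hgR, g₀.commutes] }
  have hgr : ∀ r : R, gR (algebraMap R C r) = r := fun r => g.commutes r
  -- Step 6: `g` maps the maximal ideal into the maximal ideal
  have hgm : (maximalIdeal C).map g.toRingHom ≤ maximalIdeal R := by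
    rw [Ideal.map_le_iff_le_comap]
    intro c hc
    rw [Ideal.mem_comap, mem_maximalIdeal, mem_nonunits_iff]
    intro hu
    have hker_le : RingHom.ker gR ≤ maximalIdeal C := by
      apply IsLocalRing.le_maximalIdeal
      exact RingHom.ker_ne_top gR
    have h1 : c - algebraMap R C (gR c) ∈ RingHom.ker gR := by
      rw [RingHom.mem_ker, map_sub, hgr, sub_self]
    have h2 : algebraMap R C (gR c) ∈ maximalIdeal C := by
      have : algebraMap R C (gR c) = c - (c - algebraMap R C (gR c)) := by ring
      rw [this]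
      exact Ideal.sub_mem _ hc (hker_le h1)
    exact (mem_maximalIdeal _).mp h2 (IsUnit.map (algebraMap R C) hu)
  let gh := FSch.complMap (maximalIdeal C) (maximalIdeal R) g.toRingHom hgm
  have hghof : ∀ c : C, gh ((algebraMap C (AdicCompletion (maximalIdeal C) C)) c) = (algebraMap R (AdicCompletion (maximalIdeal R) R)) (gR c) := by
    intro c
    exact complMap_of (maximalIdeal C) (maximalIdeal R) g.toRingHom hgm c
  -- Step 7: closeness on `C`
  have hcloseC : ∀ c : C, gh ((algebraMap C (AdicCompletion (maximalIdeal C) C)) c) - θ ((algebraMap C (AdicCompletion (maximalIdeal C) C)) c) ∈ K := by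
    let φ₁ : C →+* (AdicCompletion (maximalIdeal R) R ⧸ K) :=
      (Ideal.Quotient.mk K).comp ((algebraMap R (AdicCompletion (maximalIdeal R) R)).comp gR)
    let φ₂ : C →+* (AdicCompletion (maximalIdeal R) R ⧸ K) :=
      (Ideal.Quotient.mk K).comp (θ.comp (algebraMap C (AdicCompletion (maximalIdeal C) C)))
    have hφ : φ₁ = φ₂ := by
      apply IsLocalization.ringHom_ext M
      ext c₀
      change Ideal.Quotient.mk K ((algebraMap R (AdicCompletion (maximalIdeal R) R)) (gR (algebraMap C₀ C c₀))) =
        Ideal.Quotient.mk K (θ ((algebraMap C (AdicCompletion (maximalIdeal C) C)) (algebraMap C₀ C c₀)))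
      rw [hgR, Ideal.Quotient.eq]
      have := hclose₀ c₀
      rw [← neg_sub]
      exact K.neg_mem this
    intro c
    have h1 := congrArg (fun f => f c) hφ
    change Ideal.Quotient.mk K ((algebraMap R (AdicCompletion (maximalIdeal R) R)) (gR c)) = Ideal.Quotient.mk K (θ ((algebraMap C (AdicCompletion (maximalIdeal C) C)) c)) at h1
    rw [hghof]
    exact Ideal.Quotient.eq.mp h1
  -- Step 8: closeness on the completion
  have hfgC : (maximalIdeal C).FG := IsNoetherian.noetherian _
  have hKC_gh : ((maximalIdeal C ^ N).map (algebraMap C (AdicCompletion (maximalIdeal C) C))).map gh ≤ K := by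
    rw [Ideal.map_map]
    have : gh.comp (algebraMap C (AdicCompletion (maximalIdeal C) C)) = (algebraMap R (AdicCompletion (maximalIdeal R) R)).comp gR :=
      RingHom.ext (fun c => hghof c)
    rw [this, ← Ideal.map_map, hK]
    apply Ideal.map_mono
    rw [Ideal.map_pow]
    exact Ideal.pow_right_mono hgm N
  have hKC_θ : ((maximalIdeal C ^ N).map (algebraMap C (AdicCompletion (maximalIdeal C) C))).map θ ≤ K := by
    rw [Ideal.map_pow, ← hmC, Ideal.map_pow, hKpow]
    exact Ideal.pow_right_mono hθm N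
  have hclose : ∀ z : AdicCompletion (maximalIdeal C) C, gh z - θ z ∈ K := by
    intro z
    obtain ⟨c, hc⟩ := Ideal.Quotient.mk_surjective (AdicCompletion.evalₐ (maximalIdeal C) N z)
    have hy : z - (algebraMap C (AdicCompletion (maximalIdeal C) C)) c ∈ (maximalIdeal C ^ N).map (algebraMap C (AdicCompletion (maximalIdeal C) C)) := by
      apply Groth.Agent.Lib.Helper8.AA1.mem_map_pow_of_evalₐ_eq_zero (maximalIdeal C) hfgC
      rw [map_sub, sub_eq_zero, ← hc]
      exact (AdicCompletion.evalₐ_of (maximalIdeal C) N c).symm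
    have h1 : gh (z - (algebraMap C (AdicCompletion (maximalIdeal C) C)) c) ∈ K := hKC_gh (Ideal.mem_map_of_mem _ hy)
    have h2 : θ (z - (algebraMap C (AdicCompletion (maximalIdeal C) C)) c) ∈ K := hKC_θ (Ideal.mem_map_of_mem _ hy)
    have h3 := hcloseC c
    have : gh z - θ z = (gh (z - (algebraMap C (AdicCompletion (maximalIdeal C) C)) c) - θ (z - (algebraMap C (AdicCompletion (maximalIdeal C) C)) c)) + (gh ((algebraMap C (AdicCompletion (maximalIdeal C) C)) c) - θ ((algebraMap C (AdicCompletion (maximalIdeal C) C)) c)) := by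
      rw [map_sub, map_sub]; ring
    rw [this]
    exact Ideal.add_mem _ (Ideal.sub_mem _ h1 h2) h3
  -- Step 9: conclusion
  let zu := ψ.symm (Ideal.Quotient.mk _ (X 0))
  let zv := ψ.symm (Ideal.Quotient.mk _ (X 1))
  have hU : gh zu - (algebraMap R (AdicCompletion (maximalIdeal R) R)) t₁ ∈ maximalIdeal (AdicCompletion (maximalIdeal R) R) ^ N₀ := by
    have h1 := hclose zu
    rw [hθψ, hs₀X0, hKpow] at h1
    exact Ideal.pow_le_pow_right hN h1
  have hV : gh zv - (algebraMap R (AdicCompletion (maximalIdeal R) R)) t₂ ∈ maximalIdeal (AdicCompletion (maximalIdeal R) R) ^ N₀ := by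
    have h1 := hclose zv
    rw [hθψ, hs₀X1, hKpow] at h1
    exact Ideal.pow_le_pow_right hN h1
  have hUV : gh zu * gh zv = (algebraMap R (AdicCompletion (maximalIdeal R) R)) t₁ * (algebraMap R (AdicCompletion (maximalIdeal R) R)) t₂ := by
    have h1 : zu * zv = (algebraMap C (AdicCompletion (maximalIdeal C) C)) (algebraMap R C Δ) := by
      rw [← map_mul, RingEquiv.symm_apply_eq, hψR, ← map_mul, Ideal.Quotient.eq]
      exact Ideal.mem_span_singleton_self _
    rw [← map_mul, h1, hghof, hgr, hdδ]
  obtain ⟨hA₁, hA₂⟩ := hN₀ N₀ le_rfl (gh zu) (gh zv) hUV hU hV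
  refine ⟨g, gh, ?_, ?_, ?_⟩
  · exact RingHom.ext (fun c => hghof c)
  · exact Ideal.span_singleton_eq_span_singleton.mpr hA₁
  · exact Ideal.span_singleton_eq_span_singleton.mpr hA₂

end Groth.Agent.Lib.Helper20.Node
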