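import Mathlib
import Groth.Agent.Lib.Helper12.HensInt

/-!
# Integrality and norms over complete height-one valuation rings

* `mem_or_inv_mem`: Kaplansky's `u, u⁻¹` lemma for integrally closed local domains.
* `exists_poly_unit_coeff`: an algebraic element over the fraction field of a valuation ring is a
  root of a polynomial over the ring with a coefficient equal to `1`.
* `henselianLocalRing_of_isAdicComplete`: a valuation ring of dimension `≤ 1`, complete for a
  nonzero principal ideal, is a henselian local ring.
* `isIntegral_iff_norm_mem`: integrality is detected by the norm.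
-/

set_option autoImplicit false
universe u

namespace Groth.Agent.Lib.Helper20.NormIntegral

open Polynomial IsLocalRing IntermediateField

/-- Kaplansky, Theorem 67: for a local domain `B` integrally closed in the field `F`, an element
`u` of `F` which is a root of a polynomial over `B` with a unit coefficient satisfies `u ∈ B` or
`u⁻¹ ∈ B`. -/
theorem mem_or_inv_mem {B F : Type*} [CommRing B] [IsLocalRing B] [Field F] [Algebra B F]
    (hinj : Function.Injective (algebraMap B F))
    (hic : ∀ x : F, IsIntegral B x → x ∈ (algebraMap B F).range) (u : F) :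
    ∀ (n : ℕ) (p : B[X]), p.natDegree ≤ n → aeval u p = 0 → (∃ i, IsUnit (p.coeff i)) →
      u ∈ (algebraMap B F).range ∨ u⁻¹ ∈ (algebraMap B F).range := by
  intro n
  induction n with
  | zero =>
    intro p hp hroot ⟨i, hi⟩
    exfalso
    rw [Polynomial.eq_C_of_natDegree_le_zero hp, aeval_C] at hroot
    have h0 : p.coeff 0 = 0 := hinj (by rw [hroot, map_zero])
    have hp0 : p = 0 := by rw [Polynomial.eq_C_of_natDegree_le_zero hp, h0, C_0]
    rw [hp0, coeff_zero] at hi
    exact not_isUnit_zero hi
  | succ n ih =>
    intro p hp hroot ⟨j, hj⟩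
    by_cases hpn : p.natDegree ≤ n
    · exact ih p hpn hroot ⟨j, hj⟩
    have hdeg : p.natDegree = n + 1 := le_antisymm hp (by omega)
    obtain ⟨b, hb⟩ := hic _ (isIntegral_leadingCoeff_smul p u hroot)
    rw [Algebra.smul_def] at hb
    set c := p.leadingCoeff with hc
    -- the new polynomial
    set p' : B[X] := p.eraseLead + C b * X ^ n with hp'
    have hp'deg : p'.natDegree ≤ n := by
      refine (natDegree_add_le _ _).trans (max_le ?_ ?_)
      · have := eraseLead_natDegree_le p
        omega
      · exact natDegree_C_mul_X_pow_le _ _
    have hsplit : p = p.eraseLead + C c * X ^ (n + 1) := by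
      rw [hc, ← hdeg, eraseLead_add_C_mul_X_pow]
    have hroot' : aeval u p' = 0 := by
      have h1 : aeval u p = aeval u p.eraseLead + algebraMap B F c * u ^ (n + 1) := by
        conv_lhs => rw [hsplit]
        rw [map_add, map_mul, aeval_C, map_pow, aeval_X]
      rw [hp', map_add, map_mul, aeval_C, map_pow, aeval_X, hb]
      rw [hroot] at h1
      rw [h1]; ring
    have hcoeff : ∀ i, p'.coeff i = (if i = n + 1 then 0 else p.coeff i) + if i = n then b else 0 := by
      intro i
      rw [hp', coeff_add, eraseLead_coeff, hdeg, coeff_C_mul_X_pow]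
    by_cases hex : ∃ i, IsUnit (p'.coeff i)
    · exact ih p' hp'deg hroot' hex
    push Not at hex
    rcases lt_trichotomy j n with hjn | hjn | hjn
    · exfalso
      apply hex j
      rw [hcoeff, if_neg (by omega), if_neg (by omega), add_zero]
      exact hj
    · -- `j = n`
      subst hjn
      have hnu := hex j
      rw [hcoeff, if_neg (by omega), if_pos rfl] at hnu
      have hbu : IsUnit b := by
        by_contra hbn
        have : p.coeff j ∈ nonunits B := by
          have h2 : p.coeff j = (p.coeff j + b) - b := by ring
          rw [h2, sub_eq_add_neg]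
          exact IsLocalRing.nonunits_add hnu (by
            intro hneg
            exact hbn (by simpa using hneg.neg))
        exact this hj
      right
      obtain ⟨bu, rfl⟩ := hbu
      refine ⟨c * ((bu⁻¹ : Bˣ) : B), ?_⟩
      have hbne : algebraMap B F (bu : B) ≠ 0 := by
        intro h0
        have : ((bu : B)) = 0 := hinj (by rw [h0, map_zero])
        exact bu.ne_zero this
      have hune : u ≠ 0 := by
        intro h0
        rw [h0, mul_zero] at hb
        exact hbne hb
      have h1 : algebraMap B F (bu : B) * algebraMap B F ((bu⁻¹ : Bˣ) : B) = 1 := by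
        rw [← map_mul, Units.mul_inv, map_one]
      rw [map_mul]
      field_simp
      rw [hb] at h1
      linear_combination h1
    · rcases Nat.lt_or_ge (n + 1) j with hj2 | hj2
      · exfalso
        rw [coeff_eq_zero_of_natDegree_lt (by omega)] at hj
        exact not_isUnit_zero hj
      · have hjeq : j = n + 1 := by omega
        subst hjeq
        have hcu : IsUnit c := by
          rw [hc, leadingCoeff, hdeg]; exact hj
        left
        obtain ⟨cu, hcu'⟩ := hcu
        refine ⟨((cu⁻¹ : Bˣ) : B) * b, ?_⟩
        rw [map_mul, hb, ← hcu', ← mul_assoc, ← map_mul, Units.inv_mul, map_one, one_mul]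

/-- In a valuation ring, a nonempty finite family has a member dividing all the others. -/
theorem exists_dvd_all {R : Type*} [CommRing R] [IsDomain R] [ValuationRing R] {ι : Type*}
    (s : Finset ι) (hs : s.Nonempty) (a : ι → R) : ∃ i ∈ s, ∀ j ∈ s, a i ∣ a j := by
  classical
  induction hs using Finset.Nonempty.cons_induction with
  | singleton i => exact ⟨i, Finset.mem_singleton_self i, fun j hj => by
      rw [Finset.mem_singleton] at hj; rw [hj]⟩
  | cons i s hi hs ih =>
    obtain ⟨i₀, hi₀, h₀⟩ := ih
    rcases ValuationRing.dvd_total (a i) (a i₀) with h | h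
    · refine ⟨i, Finset.mem_cons_self i s, fun j hj => ?_⟩
      rcases Finset.mem_cons.mp hj with rfl | hj
      · exact dvd_rfl
      · exact h.trans (h₀ j hj)
    · refine ⟨i₀, Finset.mem_cons.mpr (Or.inr hi₀), fun j hj => ?_⟩
      rcases Finset.mem_cons.mp hj with rfl | hj
      · exact h
      · exact h₀ j hj

/-- An element algebraic over a valuation ring `R` (in a domain in which `R` embeds) is a root of a
polynomial over `R` one of whose coefficients is `1`. -/
theorem exists_poly_unit_coeff {R L : Type*} [CommRing R] [IsDomain R] [ValuationRing R]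
    [CommRing L] [IsDomain L] [Algebra R L] (hinj : Function.Injective (algebraMap R L)) (x : L)
    (hx : IsAlgebraic R x) : ∃ p : R[X], aeval x p = 0 ∧ ∃ i, p.coeff i = 1 := by
  obtain ⟨p, hp0, hroot⟩ := hx
  have hsne : p.support.Nonempty := Polynomial.support_nonempty.mpr hp0
  obtain ⟨i, hi, hdiv⟩ := exists_dvd_all p.support hsne p.coeff
  have hci : p.coeff i ≠ 0 := Polynomial.mem_support_iff.mp hi
  have hCdvd : C (p.coeff i) ∣ p := by
    rw [Polynomial.C_dvd_iff_dvd_coeff]
    intro j
    by_cases hj : j ∈ p.support
    · exact hdiv j hj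
    · rw [Polynomial.notMem_support_iff.mp hj]; exact dvd_zero _
  obtain ⟨q, hq⟩ := hCdvd
  refine ⟨q, ?_, i, ?_⟩
  · have h1 : aeval x p = algebraMap R L (p.coeff i) * aeval x q := by
      conv_lhs => rw [hq]
      rw [map_mul, aeval_C]
    rw [hroot] at h1
    have hne : algebraMap R L (p.coeff i) ≠ 0 := fun h0 => hci (hinj (by rw [h0, map_zero]))
    exact (mul_eq_zero.mp h1.symm).resolve_left hne
  · have h1 : p.coeff i = p.coeff i * q.coeff i := by
      conv_lhs => rw [hq]
      rw [coeff_C_mul]
    have h2 : p.coeff i * q.coeff i = p.coeff i * 1 := by rw [mul_one]; exact h1.symm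
    exact mul_left_cancel₀ hci h2

/-- A valuation ring of Krull dimension at most one which is complete for the adic topology of a
nonzero principal ideal is a henselian local ring. -/
theorem henselianLocalRing_of_isAdicComplete (R : Type*) [CommRing R] [IsDomain R] [ValuationRing R]
    [Ring.KrullDimLE 1 R] (t : R) (ht : t ≠ 0) [IsAdicComplete (Ideal.span {t}) R] :
    HenselianLocalRing R := by
  have : HenselianRing R (Ideal.span {t}) := IsAdicComplete.henselianRing R _
  have hle : maximalIdeal R ≤ (Ideal.span {t}).radical := by
    rw [Ideal.radical_eq_sInf]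
    refine le_sInf ?_
    rintro P ⟨hP, hPp⟩
    have hPne : P ≠ ⊥ := by
      intro h0
      have : t ∈ P := hP (Ideal.mem_span_singleton_self t)
      rw [h0, Ideal.mem_bot] at this
      exact ht this
    have hmax : P.IsMaximal := Ideal.IsPrime.isMaximal_of_ne_bot hPp hPne
    rw [IsLocalRing.eq_maximalIdeal hmax]
  have : HenselianRing R (maximalIdeal R) :=
    Groth.Agent.Lib.Helper12.HensRad.henselianRing_of_le_radical (Ideal.span {t}) _ hle
  exact Groth.Agent.Lib.Helper12.HensInt.henselianLocalRing_of_henselianRing_maximalIdeal R

section Main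

variable (R : Type u) [CommRing R] [IsDomain R] [ValuationRing R]
  (K : Type u) [Field K] [Algebra R K] [IsFractionRing R K]

/-- Conjugate elements are simultaneously integral over an integrally closed domain. -/
theorem isIntegral_of_minpoly_eq {L F : Type*} [Field L] [Algebra R L] [Algebra K L]
    [IsScalarTower R K L] [Field F] [Algebra R F] [Algebra K F] [IsScalarTower R K F]
    {α : L} {β : F} (h : minpoly K α = minpoly K β)
    (hβ : IsIntegral R β) : IsIntegral R α := by
  have h1 := minpoly.isIntegrallyClosed_eq_field_fractions' (R := R) K hβ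
  refine ⟨minpoly R β, minpoly.monic hβ, ?_⟩
  have h2 : aeval α (minpoly K α) = 0 := minpoly.aeval K α
  rw [h, h1, aeval_map_algebraMap] at h2
  rw [← aeval_def]
  exact h2

/-- Over a complete valuation ring of height one, an algebraic element is integral if and only if
its norm down to the fraction field is integral. -/
theorem isIntegral_iff_norm_mem [Ring.KrullDimLE 1 R] (t : R) (ht : t ≠ 0)
    [IsAdicComplete (Ideal.span {t}) R] (L : Type u) [Field L] [Algebra R L] [Algebra K L]
    [IsScalarTower R K L] [Algebra.IsAlgebraic K L] (α : L) :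
    IsIntegral R α ↔
      Algebra.norm K (IntermediateField.AdjoinSimple.gen K α) ∈ (algebraMap R K).range := by
  classical
  have : HenselianLocalRing R := henselianLocalRing_of_isAdicComplete R t ht
  constructor
  · intro hα
    have hgen : IsIntegral R (IntermediateField.AdjoinSimple.gen K α) := by
      refine (isIntegral_algHom_iff ((IntermediateField.val K⟮α⟯).restrictScalars R)
        Subtype.val_injective).mp ?_
      simpa using hα
    have hN := Algebra.isIntegral_norm K hgen
    obtain ⟨y, hy⟩ := IsIntegrallyClosed.isIntegral_iff.mp hN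
    exact ⟨y, hy⟩
  · rintro ⟨r, hr⟩
    by_contra hα
    let F := AlgebraicClosure L
    have hinjRF : Function.Injective (algebraMap R F) := by
      rw [IsScalarTower.algebraMap_eq R K F]
      exact (algebraMap K F).injective.comp (IsFractionRing.injective R K)
    let B : Subalgebra R F := integralClosure R F
    have : Algebra.IsIntegral R B := inferInstance
    have : IsLocalRing B :=
      Groth.Agent.Lib.Helper12.HensInt.isLocalRing_of_isDomain_of_isIntegral R B
    have hαK : IsIntegral K α := Algebra.IsIntegral.isIntegral α
    have hsplit : ((minpoly K α).map (algebraMap K F)).Splits := IsAlgClosed.splits _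
    have hprod := IntermediateField.AdjoinSimple.norm_gen_eq_prod_roots (K := K) (F := F) α hsplit
    set s := (minpoly K α).aroots F with hs
    -- every root is non-integral, with inverse in the maximal ideal of `B`
    have hroot : ∀ β ∈ s, ∃ b : B, b ∈ maximalIdeal B ∧ (b : F) = β⁻¹ := by
      intro β hβ
      have hβroot : aeval β (minpoly K α) = 0 := (Polynomial.mem_aroots.mp hβ).2
      have hmin : minpoly K α = minpoly K β :=
        minpoly.eq_of_irreducible_of_monic (minpoly.irreducible hαK) hβroot (minpoly.monic hαK)
      have hβni : ¬ IsIntegral R β := fun h => hα (isIntegral_of_minpoly_eq R K hmin h)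
      have hβalgK : IsAlgebraic K β := ⟨minpoly K α, minpoly.ne_zero hαK, hβroot⟩
      have hβalg : IsAlgebraic R β := (IsFractionRing.isAlgebraic_iff R K F).mpr hβalgK
      obtain ⟨p, hp, i, hi⟩ := exists_poly_unit_coeff hinjRF β hβalg
      have hic : ∀ x : F, IsIntegral B x → x ∈ (algebraMap B F).range := by
        intro x hx
        have hxR : IsIntegral R x := isIntegral_trans x hx
        exact ⟨⟨x, hxR⟩, rfl⟩
      have hinjB : Function.Injective (algebraMap B F) := Subtype.val_injective
      have hpB : aeval β (p.map (algebraMap R B)) = 0 := by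
        rw [aeval_map_algebraMap]; exact hp
      have hunit : ∃ i, IsUnit ((p.map (algebraMap R B)).coeff i) :=
        ⟨i, by rw [coeff_map, hi, map_one]; exact isUnit_one⟩
      rcases mem_or_inv_mem hinjB hic β _ _ le_rfl hpB hunit with ⟨b, hb⟩ | ⟨b, hb⟩
      · exact absurd (hb ▸ b.2) hβni
      · refine ⟨b, ?_, hb⟩
        rw [mem_maximalIdeal, mem_nonunits_iff]
        rintro ⟨bu, hbu⟩
        apply hβni
        have h1 : ((bu⁻¹ : Bˣ) : B).1 = β := by
          have h2 : (b : F) * (((bu⁻¹ : Bˣ) : B) : F) = 1 := by
            rw [← hbu]
            have := congrArg (algebraMap B F) (Units.mul_inv bu)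
            rwa [map_mul, map_one] at this
          have hb' : (b : F) = β⁻¹ := hb
          rw [hb'] at h2
          have hβne : β ≠ 0 := by
            rintro rfl
            rw [inv_zero, zero_mul] at h2
            exact zero_ne_one h2
          exact ((inv_mul_eq_one₀ hβne).mp h2).symm
        rw [← h1]
        exact ((bu⁻¹ : Bˣ) : B).2
    -- the element `α` itself is a root
    have hα₀ : algebraMap L F α ∈ s := by
      rw [hs, Polynomial.mem_aroots]
      refine ⟨minpoly.ne_zero hαK, ?_⟩
      rw [aeval_algebraMap_apply, minpoly.aeval, map_zero]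
    obtain ⟨b₀, hb₀m, hb₀⟩ := hroot _ hα₀
    have hcons : s = algebraMap L F α ::ₘ s.erase (algebraMap L F α) :=
      (Multiset.cons_erase hα₀).symm
    have hrest : ((s.erase (algebraMap L F α)).prod)⁻¹ ∈ B := by
      rw [← Multiset.prod_map_inv']
      refine Subalgebra.multiset_prod_mem B ?_
      intro x hx
      obtain ⟨β, hβ, rfl⟩ := Multiset.mem_map.mp hx
      obtain ⟨b, -, hb⟩ := hroot β (Multiset.mem_of_mem_erase hβ)
      rw [← hb]
      exact b.2
    set m : B := b₀ * ⟨_, hrest⟩ with hm
    have hmm : m ∈ maximalIdeal B := Ideal.mul_mem_right _ _ hb₀m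
    have hmval : (m : F) = (s.prod)⁻¹ := by
      rw [hcons, Multiset.prod_cons, mul_inv, ← hb₀]
      rfl
    have hsne : s.prod ≠ 0 := by
      rw [Ne, Multiset.prod_eq_zero_iff]
      intro h0
      obtain ⟨b, -, hb⟩ := hroot 0 h0
      have : IsIntegral R (0 : F) := isIntegral_zero
      have hmin0 := (Polynomial.mem_aroots.mp h0).2
      have hmin : minpoly K α = minpoly K (0 : F) :=
        minpoly.eq_of_irreducible_of_monic (minpoly.irreducible hαK) hmin0 (minpoly.monic hαK)
      exact hα (isIntegral_of_minpoly_eq R K hmin this)
    have hone : algebraMap R B r * m = 1 := by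
      apply Subtype.val_injective
      show (algebraMap R F r) * (m : F) = 1
      rw [hmval, IsScalarTower.algebraMap_apply R K F, hr, hprod]
      exact mul_inv_cancel₀ hsne
    have hmu : IsUnit m := isUnit_iff_exists_inv'.mpr ⟨_, hone⟩
    exact (mem_nonunits_iff.mp ((mem_maximalIdeal m).mp hmm)) hmu

end Main

end Groth.Agent.Lib.Helper20.NormIntegral
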