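import Mathlib

set_option autoImplicit false
universe u

namespace Groth.Agent.Lib.Helper20.NormNorm

open Polynomial

/-- A ring hom is "good": injective with integrally closed image. -/
def GoodHom {A B : Type*} [CommRing A] [CommRing B] (φ : A →+* B) : Prop :=
  Function.Injective φ ∧ ∀ b : B, φ.IsIntegralElem b → b ∈ Set.range φ

/-- localisation away from an idempotent: unit, surjective, kernel. -/
theorem away_idem {R S : Type*} [CommRing R] [CommRing S] (ρ : R →+* S) (e : R)
    (he : IsIdempotentElem e) (h : letI := ρ.toAlgebra; IsLocalization.Away e S) :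
    ρ e = 1 ∧ Function.Surjective ρ ∧ ∀ x, ρ x = 0 → e * x = 0 := by
  letI := ρ.toAlgebra
  haveI : IsLocalization.Away e S := h
  have hu : IsUnit (ρ e) := IsLocalization.Away.algebraMap_isUnit (S := S) e
  have h1 : ρ e = 1 := by
    have h2 : ρ e * ρ e = ρ e := by rw [← map_mul, he.eq]
    have h3 : ρ e * ρ e = ρ e * 1 := by rw [h2, mul_one]
    exact hu.mul_left_cancel h3
  refine ⟨h1, ?_, ?_⟩
  · intro z
    obtain ⟨n, a, ha⟩ := IsLocalization.Away.surj (S := S) e z
    refine ⟨a, ?_⟩
    change algebraMap R S a = z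
    rw [← ha]
    change z * (ρ e) ^ n = z
    rw [h1, one_pow, mul_one]
  · intro x hx
    have hx' : algebraMap R S x = 0 := hx
    rw [IsLocalization.map_eq_zero_iff (Submonoid.powers e) S x] at hx'
    obtain ⟨⟨m, n, rfl⟩, hm⟩ := hx'
    simp only at hm
    rcases Nat.eq_zero_or_pos n with hn | hn
    · subst hn
      rw [pow_zero, one_mul] at hm
      rw [hm, mul_zero]
    · obtain ⟨k, rfl⟩ : ∃ k, n = k + 1 := ⟨n - 1, by omega⟩
      rw [he.pow_succ_eq] at hm
      exact hm

theorem idem_eval₂ {A B : Type*} [CommRing A] [CommRing B] (φ : A →+* B) (e b : B)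
    (he : IsIdempotentElem e) (p : A[X]) :
    e * eval₂ φ (e * b) p = e * eval₂ φ b p := by
  induction p using Polynomial.induction_on' with
  | add p q hp hq => rw [eval₂_add, eval₂_add, mul_add, mul_add, hp, hq]
  | monomial n a =>
    rw [eval₂_monomial, eval₂_monomial, mul_pow]
    rcases Nat.eq_zero_or_pos n with hn | hn
    · subst hn; simp
    · obtain ⟨k, rfl⟩ : ∃ k, n = k + 1 := ⟨n - 1, by omega⟩
      rw [he.pow_succ_eq]
      have : e * e = e := he.eq
      calc e * (φ a * (e * b ^ (k + 1))) = (e * e) * (φ a * b ^ (k + 1)) := by ring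
        _ = e * (φ a * b ^ (k + 1)) := by rw [this]

/-- goodness passes to the localisation at an idempotent. -/
theorem good_localize {A B A₁ B₁ : Type*} [CommRing A] [CommRing B] [CommRing A₁] [CommRing B₁]
    (φ : A →+* B) (α : A →+* A₁) (β : B →+* B₁) (ψ : A₁ →+* B₁)
    (hsq : ψ.comp α = β.comp φ) (e' : A) (he' : IsIdempotentElem e')
    (hα : letI := α.toAlgebra; IsLocalization.Away e' A₁)
    (hβ : letI := β.toAlgebra; IsLocalization.Away (φ e') B₁)
    (hφ : GoodHom φ) : GoodHom ψ := by
  have he : IsIdempotentElem (φ e') := he'.map φ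
  obtain ⟨hα1, hαs, hαk⟩ := away_idem α e' he' hα
  obtain ⟨hβ1, hβs, hβk⟩ := away_idem β (φ e') he hβ
  have hsq' : ∀ a, ψ (α a) = β (φ a) := fun a => congrArg (fun h => h a) hsq
  refine ⟨?_, ?_⟩
  · rw [injective_iff_map_eq_zero]
    intro a₁ ha₁
    obtain ⟨a, rfl⟩ := hαs a₁
    rw [hsq'] at ha₁
    have h1 := hβk _ ha₁
    rw [← map_mul] at h1
    have h2 : e' * a = 0 := hφ.1 (by rw [h1, map_zero])
    have : α (e' * a) = α a := by rw [map_mul, hα1, one_mul]
    rw [← this, h2, map_zero]
  · intro b₁ hb₁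
    obtain ⟨b, rfl⟩ := hβs b₁
    obtain ⟨p₁, hp₁, hp₁0⟩ := hb₁
    have hl : p₁ ∈ lifts α := by
      rw [Polynomial.mem_lifts]
      exact Polynomial.map_surjective α hαs p₁
    obtain ⟨p, hpmap, -, hpm⟩ := lifts_and_natDegree_eq_and_monic hl hp₁
    have h1 : β (eval₂ φ b p) = 0 := by
      rw [hom_eval₂, ← hsq, ← eval₂_map, hpmap]
      exact hp₁0
    have h2 : φ e' * eval₂ φ b p = 0 := hβk _ h1
    have h3 : φ.IsIntegralElem (φ e' * b) := by
      refine ⟨X * p, ?_, ?_⟩
      · exact monic_X.mul hpm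
      · rw [eval₂_mul, eval₂_X]
        calc φ e' * b * eval₂ φ (φ e' * b) p = b * (φ e' * eval₂ φ (φ e' * b) p) := by ring
          _ = b * (φ e' * eval₂ φ b p) := by rw [idem_eval₂ φ _ b he p]
          _ = 0 := by rw [h2, mul_zero]
    obtain ⟨a, ha⟩ := hφ.2 _ h3
    refine ⟨α a, ?_⟩
    rw [hsq', ha, map_mul, hβ1, one_mul]

/-- a ring mapping injectively with integrally closed image into a normal domain is a normal
domain. -/
theorem normal_of_good {A B : Type*} [CommRing A] [CommRing B] [IsDomain B] [IsIntegrallyClosed B]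
    (φ : A →+* B) (hφ : GoodHom φ) : IsDomain A ∧ IsIntegrallyClosed A := by
  haveI : IsDomain A := hφ.1.isDomain φ
  refine ⟨inferInstance, ?_⟩
  letI := φ.toAlgebra
  have hinj : Function.Injective (algebraMap A B) := hφ.1
  rw [isIntegrallyClosed_iff (FractionRing A)]
  intro x hx
  obtain ⟨a, b, hb, rfl⟩ := IsFractionRing.div_surjective (A := A) x
  have hb0 : b ≠ 0 := nonZeroDivisors.ne_zero hb
  have hfb : algebraMap A (FractionRing A) b ≠ 0 := by
    intro h0
    exact hb0 ((IsFractionRing.injective A (FractionRing A)) (by rw [h0, map_zero]))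
  obtain ⟨p, hp, hpx⟩ := hx
  have h1 := scaleRoots_eval₂_mul (p := p) (algebraMap A (FractionRing A))
    (algebraMap A (FractionRing A) a / algebraMap A (FractionRing A) b) b
  rw [mul_div_cancel₀ _ hfb, eval₂_at_apply, hpx, mul_zero] at h1
  have h2 : (p.scaleRoots b).eval a = 0 :=
    IsFractionRing.injective A (FractionRing A) (by rw [h1, map_zero])
  -- push to B
  have hφb : φ b ≠ 0 := fun h => hb0 (hφ.1 (by rw [h, map_zero]))
  have h3 : ((p.map φ).scaleRoots (φ b)).eval (φ a) = 0 := by
    have hlc : φ p.leadingCoeff ≠ 0 := by rw [hp.leadingCoeff, map_one]; exact one_ne_zero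
    rw [← Polynomial.map_scaleRoots p b φ hlc, eval_map, eval₂_hom, h2, map_zero]
  -- in B : φ b ∣ φ a
  have hfB : algebraMap B (FractionRing B) (φ b) ≠ 0 := by
    intro h0
    exact hφb ((IsFractionRing.injective B (FractionRing B)) (by rw [h0, map_zero]))
  have h4 := scaleRoots_eval₂_mul (p := p.map φ) (algebraMap B (FractionRing B))
    (algebraMap B (FractionRing B) (φ a) / algebraMap B (FractionRing B) (φ b)) (φ b)
  rw [mul_div_cancel₀ _ hfB, eval₂_at_apply, h3, map_zero] at h4
  have h5 : eval₂ (algebraMap B (FractionRing B))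
      (algebraMap B (FractionRing B) (φ a) / algebraMap B (FractionRing B) (φ b)) (p.map φ) = 0 := by
    rcases mul_eq_zero.mp h4.symm with h | h
    · exact absurd (eq_zero_of_pow_eq_zero h) hfB
    · exact h
  have h6 : IsIntegral B (algebraMap B (FractionRing B) (φ a) / algebraMap B (FractionRing B) (φ b)) :=
    ⟨p.map φ, hp.map φ, h5⟩
  obtain ⟨c, hc⟩ := IsIntegrallyClosed.isIntegral_iff.mp h6
  have hc' : φ a = c * φ b := by
    apply IsFractionRing.injective B (FractionRing B)
    rw [map_mul, hc, div_mul_cancel₀ _ hfB]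
  -- c is integral over A via φ
  have h7 : φ.IsIntegralElem c := by
    refine ⟨p, hp, ?_⟩
    apply IsFractionRing.injective B (FractionRing B)
    rw [map_zero, hom_eval₂, hc]
    rw [eval₂_map] at h5
    exact h5
  obtain ⟨c', rfl⟩ := hφ.2 c h7
  have h8 : a = c' * b := hφ.1 (by rw [hc', map_mul])
  refine ⟨c', ?_⟩
  rw [h8, map_mul, mul_div_assoc, div_self hfb, mul_one]
  

end Groth.Agent.Lib.Helper20.NormNorm
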