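import Mathlib
import Groth.Agent.Lib.Helper12.Normal2

set_option autoImplicit false
universe u

namespace Groth.Agent.Lib.Helper20.NormNorm

open AlgebraicGeometry CategoryTheory TopologicalSpace Opposite Polynomial

/-- Global sections of an integral scheme with integrally closed local rings are integrally
closed. -/
theorem isIntegrallyClosed_top {Z : Scheme.{u}} [IsIntegral Z]
    (hZ : ∀ z : Z, IsIntegrallyClosed (Z.presheaf.stalk z)) : IsIntegrallyClosed Γ(Z, ⊤) := by
  apply Groth.Agent.Lib.Helper12.Normal2.isIntegrallyClosed_of_scaleRoots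
  intro a b p hb hp hrel
  have hloc : ∀ z : Z, ∃ (U : Z.Opens) (_ : z ∈ U) (c : Γ(Z, U)),
      Z.presheaf.map (homOfLE (le_top : U ≤ ⊤)).op a =
        c * Z.presheaf.map (homOfLE (le_top : U ≤ ⊤)).op b := by
    intro z
    let g : Γ(Z, ⊤) →+* Z.presheaf.stalk z := (Z.presheaf.germ ⊤ z trivial).hom
    have hgb : g b ≠ 0 := fun h => hb (germ_injective_of_isIntegral Z z (show z ∈ (⊤ : Z.Opens) from trivial)
      (by rw [map_zero]; exact h))
    have hrel' : ((p.map g).scaleRoots (g b)).eval (g a) = 0 := by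
      have hlc : g p.leadingCoeff ≠ 0 := by rw [hp.leadingCoeff, map_one]; exact one_ne_zero
      rw [← Polynomial.map_scaleRoots p b g hlc, Polynomial.eval_map, eval₂_hom, hrel, map_zero]
    haveI := hZ z
    obtain ⟨c, hc⟩ := Groth.Agent.Lib.Helper12.Normal2.dvd_of_scaleRoots hgb (hp.map g) hrel'
    obtain ⟨U, hzU, s, hs⟩ := Z.presheaf.exists_germ_eq c
    have hgerm : Z.presheaf.germ U z hzU (Z.presheaf.map (homOfLE (le_top : U ≤ ⊤)).op a) =
        Z.presheaf.germ U z hzU (s * Z.presheaf.map (homOfLE (le_top : U ≤ ⊤)).op b) := by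
      rw [map_mul, hs]
      erw [TopCat.Presheaf.germ_res_apply Z.presheaf (homOfLE (le_top : U ≤ ⊤)) z hzU a,
        TopCat.Presheaf.germ_res_apply Z.presheaf (homOfLE (le_top : U ≤ ⊤)) z hzU b]
      rw [mul_comm]
      exact hc
    obtain ⟨W, hzW, i1, i2, hW⟩ := Z.presheaf.germ_eq z hzU hzU _ _ hgerm
    refine ⟨W, hzW, Z.presheaf.map i1.op s, ?_⟩
    have h1 : Z.presheaf.map (homOfLE (le_top : W ≤ ⊤)).op a =
        Z.presheaf.map i1.op (Z.presheaf.map (homOfLE (le_top : U ≤ ⊤)).op a) := by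
      rw [← ConcreteCategory.comp_apply, ← Functor.map_comp]; rfl
    have h2 : Z.presheaf.map (homOfLE (le_top : W ≤ ⊤)).op b =
        Z.presheaf.map i2.op (Z.presheaf.map (homOfLE (le_top : U ≤ ⊤)).op b) := by
      rw [← ConcreteCategory.comp_apply, ← Functor.map_comp]; rfl
    rw [h1, hW, map_mul, h2, Subsingleton.elim i1 i2]
  choose U hzU c hc using hloc
  have hcover : (⊤ : Z.Opens) ≤ iSup U := by
    intro z _
    exact Opens.mem_iSup.mpr ⟨z, hzU z⟩
  have hcomp : TopCat.Presheaf.IsCompatible Z.presheaf U c := by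
    intro z z'
    by_cases hne : ∃ x, x ∈ U z ⊓ U z'
    · obtain ⟨x, hx⟩ := hne
      have hN : Nonempty ((U z ⊓ U z' : Z.Opens) : Set Z) := ⟨⟨x, hx⟩⟩
      have hdom : IsDomain Γ(Z, U z ⊓ U z') := @IsIntegral.component_integral Z _ _ hN
      have hinj := @map_injective_of_isIntegral Z _ _ _ (homOfLE (le_top : U z ⊓ U z' ≤ ⊤)) hN
      have hb' : Z.presheaf.map (homOfLE (le_top : U z ⊓ U z' ≤ ⊤)).op b ≠ 0 := by
        intro h
        exact hb (hinj (by rw [map_zero]; exact h))
      apply mul_right_cancel₀ hb'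
      have e1 : Z.presheaf.map (homOfLE (le_top : U z ⊓ U z' ≤ ⊤)).op b =
          Z.presheaf.map (Opens.infLELeft (U z) (U z')).op
            (Z.presheaf.map (homOfLE (le_top : U z ≤ ⊤)).op b) := by
        rw [← ConcreteCategory.comp_apply, ← Functor.map_comp]; rfl
      have e2 : Z.presheaf.map (homOfLE (le_top : U z ⊓ U z' ≤ ⊤)).op b =
          Z.presheaf.map (Opens.infLERight (U z) (U z')).op
            (Z.presheaf.map (homOfLE (le_top : U z' ≤ ⊤)).op b) := by
        rw [← ConcreteCategory.comp_apply, ← Functor.map_comp]; rfl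
      have e3 : Z.presheaf.map (Opens.infLELeft (U z) (U z')).op
            (Z.presheaf.map (homOfLE (le_top : U z ≤ ⊤)).op a) =
          Z.presheaf.map (Opens.infLERight (U z) (U z')).op
            (Z.presheaf.map (homOfLE (le_top : U z' ≤ ⊤)).op a) := by
        rw [← ConcreteCategory.comp_apply, ← Functor.map_comp, ← ConcreteCategory.comp_apply,
          ← Functor.map_comp]; rfl
      conv_lhs => rw [e1, ← map_mul, ← hc z]
      conv_rhs => rw [e2, ← map_mul, ← hc z']
      exact e3
    · have hbot : U z ⊓ U z' = ⊥ := by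
        ext x
        simp only [Opens.coe_bot, Set.mem_empty_iff_false, iff_false]
        intro hx
        exact hne ⟨x, hx⟩
      have hsub : Subsingleton Γ(Z, U z ⊓ U z') := by
        rw [hbot]; infer_instance
      exact Subsingleton.elim _ _
  obtain ⟨s, hs, -⟩ := Z.sheaf.existsUnique_gluing' U ⊤ (fun z => homOfLE le_top) hcover c hcomp
  let s' : Γ(Z, ⊤) := s
  refine ⟨s', ?_⟩
  refine Z.sheaf.eq_of_locally_eq' U ⊤ (fun z => homOfLE le_top) hcover _ _ fun z => ?_
  change Z.presheaf.map (homOfLE (le_top : U z ≤ ⊤)).op a =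
    Z.presheaf.map (homOfLE (le_top : U z ≤ ⊤)).op (b * s')
  rw [map_mul]
  have := hs z
  change Z.presheaf.map (homOfLE (le_top : U z ≤ ⊤)).op s' = c z at this
  rw [this, hc z, mul_comm]

end Groth.Agent.Lib.Helper20.NormNorm
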