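import Mathlib
import Groth.Agent.Lib.Helper4.HC3

set_option autoImplicit false
universe u

namespace Groth.Agent.Lib.Helper20.NormNorm

open AlgebraicGeometry CategoryTheory TopologicalSpace

/-- maximality of generic points of components. -/
theorem eq_of_specializes {T : Type*} [TopologicalSpace T] [T0Space T] {z w : T}
    (hz : closure {z} ∈ irreducibleComponents T) (hw : w ⤳ z) : w = z := by
  have h1 : closure {z} ⊆ closure {w} := by
    rw [← specializes_iff_closure_subset]; exact hw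
  have h2 : closure ({w} : Set T) ≤ closure {z} := hz.2 (isIrreducible_singleton.closure) h1
  have h3 : closure ({w} : Set T) = closure {z} := le_antisymm h2 h1
  exact (inseparable_iff_closure_eq.mpr h3).eq

/-- a point whose local ring is a domain lies on a unique irreducible component. -/
theorem generic_unique {X : Scheme.{u}} (p : X) [IsDomain (X.presheaf.stalk p)] {y₁ y₂ : X}
    (h₁ : closure {y₁} ∈ irreducibleComponents X) (h₂ : closure {y₂} ∈ irreducibleComponents X)
    (s₁ : y₁ ⤳ p) (s₂ : y₂ ⤳ p) : y₁ = y₂ := by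
  let w : X := X.fromSpecStalk p ⟨⊥, Ideal.isPrime_bot⟩
  have key : ∀ y : X, closure {y} ∈ irreducibleComponents X → y ⤳ p → w = y := by
    intro y hy hs
    have : y ∈ Set.range (X.fromSpecStalk p) := by rw [Scheme.range_fromSpecStalk]; exact hs
    obtain ⟨q, rfl⟩ := this
    apply eq_of_specializes hy
    apply Specializes.map _ (X.fromSpecStalk p).continuous
    apply (PrimeSpectrum.le_iff_specializes _ _).mp
    show (⊥ : Ideal _) ≤ _
    exact bot_le
  rw [← key y₁ h₁ s₁, key y₂ h₂ s₂]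

theorem isOpen_of_mem_irreducibleComponents {X : Scheme.{u}}
    (hX : ∀ x : X, IsDomain (X.presheaf.stalk x))
    (hfin : LocallyFinite (fun Z : ↥(irreducibleComponents ↥X) => (Z : Set ↥X)))
    {Z₀ : Set X} (hZ₀ : Z₀ ∈ irreducibleComponents X) : IsOpen Z₀ := by
  rw [← isClosed_compl_iff]
  have : Z₀ᶜ = ⋃ Z : {Z : ↥(irreducibleComponents ↥X) // (Z : Set X) ≠ Z₀},
      ((Z : ↥(irreducibleComponents ↥X)) : Set X) := by
    ext p
    simp only [Set.mem_compl_iff, Set.mem_iUnion]
    constructor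
    · intro hp
      obtain ⟨C, hC, hpC⟩ := exists_mem_irreducibleComponents_subset_of_isIrreducible {p}
        isIrreducible_singleton
      refine ⟨⟨⟨C, hC⟩, ?_⟩, hpC rfl⟩
      intro h
      exact hp (h ▸ hpC rfl)
    · rintro ⟨⟨⟨C, hC⟩, hne⟩, hpC⟩ hpZ
      obtain ⟨y, hy⟩ := QuasiSober.sober hC.1 (isClosed_of_mem_irreducibleComponents C hC)
      obtain ⟨y₀, hy₀⟩ := QuasiSober.sober hZ₀.1 (isClosed_of_mem_irreducibleComponents Z₀ hZ₀)
      haveI := hX p
      have h1 : closure {y} = C := hy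
      have h2 : closure {y₀} = Z₀ := hy₀
      have : y = y₀ := generic_unique p (by rw [h1]; exact hC) (by rw [h2]; exact hZ₀)
        (by rw [specializes_iff_mem_closure, h1]; exact hpC)
        (by rw [specializes_iff_mem_closure, h2]; exact hpZ)
      apply hne
      show C = Z₀
      rw [← h1, ← h2, this]
  rw [this]
  exact (hfin.comp_injective Subtype.val_injective).isClosed_iUnion
    (fun Z => isClosed_of_mem_irreducibleComponents _ Z.1.2)

theorem exists_idem {X : Scheme.{u}} (V : X.Opens) (C : Set X) (hC : IsClopen C) :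
    ∃ e : Γ(X, V), IsIdempotentElem e ∧ (X.basicOpen e : Set X) = (V : Set X) ∩ C := by
  obtain ⟨e₀, he₀, hb⟩ := Groth.Agent.Lib.Helper4.HC.exists_idempotent_basicOpen_eq
    (Z := V.toScheme) (V.ι ⁻¹' C) (hC.preimage V.ι.continuous)
  refine ⟨V.topIso.hom e₀, he₀.map _, ?_⟩
  have h1 := Scheme.Opens.ι_image_basicOpen_topIso_inv V (V.topIso.hom e₀)
  have h2 : V.topIso.inv (V.topIso.hom e₀) = e₀ := by
    rw [← ConcreteCategory.comp_apply, Iso.hom_inv_id]; rfl
  rw [h2] at h1
  rw [← h1]
  ext x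
  constructor
  · rintro ⟨z, hz, rfl⟩
    have hz' : z ∈ V.ι ⁻¹' C := by rw [← hb]; exact hz
    exact ⟨z.2, hz'⟩
  · rintro ⟨hxV, hxC⟩
    refine ⟨⟨x, hxV⟩, ?_, rfl⟩
    have : (⟨x, hxV⟩ : V.toScheme) ∈ V.ι ⁻¹' C := hxC
    rw [← hb] at this
    exact this

end Groth.Agent.Lib.Helper20.NormNorm
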