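import Mathlib
import Groth.Agent.Lib.Helper20.NormNorm1

set_option autoImplicit false
universe u

namespace Groth.Agent.Lib.Helper20.NormNorm

open AlgebraicGeometry CategoryTheory TopologicalSpace Polynomial

theorem good_val {R A : Type*} [CommRing R] [CommRing A] [Algebra R A] :
    GoodHom (integralClosure R A).val.toRingHom := by
  refine ⟨Subtype.val_injective, fun b hb => ?_⟩
  have h1 : IsIntegral (integralClosure R A) b := hb
  have h2 : b ∈ integralClosure (integralClosure R A) A := h1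
  rw [integralClosure_idem] at h2
  obtain ⟨c, hc⟩ := Algebra.mem_bot.mp h2
  exact ⟨c, hc⟩

theorem good_comp_bijective {A₀ A B : Type*} [CommRing A₀] [CommRing A] [CommRing B]
    (φ : A →+* B) (hφ : GoodHom φ) (ε : A₀ →+* A) (hε : Function.Bijective ε) :
    GoodHom (φ.comp ε) := by
  refine ⟨?_, ?_⟩
  · rw [RingHom.coe_comp]
    exact hφ.1.comp hε.1
  · rintro b ⟨p, hp, hp0⟩
    have : φ.IsIntegralElem b := by
      refine ⟨p.map ε, hp.map ε, ?_⟩
      rw [eval₂_map]
      exact hp0
    obtain ⟨a, rfl⟩ := hφ.2 b this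
    obtain ⟨a₀, rfl⟩ := hε.2 a
    exact ⟨a₀, rfl⟩

variable {X Y : Scheme.{u}} (f : X ⟶ Y) [QuasiCompact f] [QuasiSeparated f]

theorem toNorm_preimage (U : Y.Opens) :
    f.toNormalization ⁻¹ᵁ (f.fromNormalization ⁻¹ᵁ U) = f ⁻¹ᵁ U := by
  rw [← Scheme.Hom.comp_preimage, Scheme.Hom.toNormalization_fromNormalization]

theorem isAffineOpen_fromNorm_preimage {U : Y.Opens} (hU : IsAffineOpen U) :
    IsAffineOpen (f.fromNormalization ⁻¹ᵁ U) :=
  hU.preimage f.fromNormalization

theorem good_appLE {U : Y.Opens} (hU : IsAffineOpen U) :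
    GoodHom (f.toNormalization.appLE (f.fromNormalization ⁻¹ᵁ U) (f ⁻¹ᵁ U)
      (le_of_eq (toNorm_preimage f U).symm)).hom := by
  letI := (f.app U).hom.toAlgebra
  have h := f.normalizationObjIso_hom_val hU
  have h' : (f.toNormalization.appLE (f.fromNormalization ⁻¹ᵁ U) (f ⁻¹ᵁ U)
      (le_of_eq (toNorm_preimage f U).symm)).hom =
      ((integralClosure Γ(Y, U) Γ(X, f ⁻¹ᵁ U)).val.toRingHom).comp
        (f.normalizationObjIso hU).hom.hom := by
    rw [← h]
    rfl
  rw [h']
  refine good_comp_bijective _ good_val _ ?_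
  exact ConcreteCategory.bijective_of_isIso (f.normalizationObjIso hU).hom

end Groth.Agent.Lib.Helper20.NormNorm
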