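import Mathlib
import Groth.Agent.Lib.Helper20.NormNorm1
import Groth.Agent.Lib.Helper20.NormNorm2
import Groth.Agent.Lib.Helper20.NormNorm3

set_option autoImplicit false
universe u

namespace Groth.Agent.Lib.Helper20.NormNorm

open AlgebraicGeometry CategoryTheory TopologicalSpace Polynomial

section

variable {X N : Scheme.{u}} (t : X ⟶ N)
  (hX : ∀ x : X, IsDomain (X.presheaf.stalk x) ∧ IsIntegrallyClosed (X.presheaf.stalk x))
  (hfin : LocallyFinite (fun Z : ↥(irreducibleComponents ↥X) => (Z : Set ↥X)))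
  {W : N.Opens} (hW : IsAffineOpen W) {V : X.Opens} (hVW : t ⁻¹ᵁ W = V)
  (hVc : IsCompact (V : Set X)) (hVq : IsQuasiSeparated (V : Set X))
  (hg : GoodHom (t.appLE W V (le_of_eq hVW.symm)).hom)

include hX hfin hg in
theorem exists_idem' (y : X) (hy : closure {y} ∈ irreducibleComponents X) :
    ∃ e' : Γ(N, W), IsIdempotentElem e' ∧
      (X.basicOpen ((t.appLE W V (le_of_eq hVW.symm)).hom e') : Set X) =
        (V : Set X) ∩ closure {y} := by
  have hopen := isOpen_of_mem_irreducibleComponents (fun x => (hX x).1) hfin hy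
  obtain ⟨e, he, hbe⟩ := exists_idem V (closure {y}) ⟨isClosed_closure, hopen⟩
  have hint : (t.appLE W V (le_of_eq hVW.symm)).hom.IsIntegralElem e := by
    refine ⟨Polynomial.X * (Polynomial.X - Polynomial.C 1), ?_, ?_⟩
    · exact monic_X.mul (monic_X_sub_C 1)
    · rw [eval₂_mul, eval₂_sub, eval₂_X, eval₂_C, map_one, mul_sub, he.eq, mul_one, sub_self]
  obtain ⟨e', rfl⟩ := hg.2 e hint
  refine ⟨e', ?_, hbe⟩
  exact hg.1 (by rw [map_mul]; exact he.eq)

include hVW in
theorem preimage_basicOpen_eq (e' : Γ(N, W)) :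
    t ⁻¹ᵁ (N.basicOpen e') = X.basicOpen ((t.appLE W V (le_of_eq hVW.symm)).hom e') := by
  have h1 : (t.appLE W V (le_of_eq hVW.symm)).hom e' =
      X.presheaf.map (homOfLE (le_of_eq hVW.symm)).op (t.app W e') := rfl
  rw [h1, Scheme.basicOpen_res, ← Scheme.preimage_basicOpen]
  apply le_antisymm
  · apply le_inf
    · rw [← hVW]
      exact t.preimage_mono (N.basicOpen_le e')
    · exact le_rfl
  · exact inf_le_right

include hX hW hVW hVc hVq hg in
theorem basicOpen_props (e' : Γ(N, W)) (he' : IsIdempotentElem e') (y : X) (hyV : y ∈ V)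
    (hb : (X.basicOpen ((t.appLE W V (le_of_eq hVW.symm)).hom e') : Set X) =
        (V : Set X) ∩ closure {y}) :
    IsAffineOpen (N.basicOpen e') ∧
      (IsDomain Γ(N, N.basicOpen e') ∧ IsIntegrallyClosed Γ(N, N.basicOpen e')) := by
  refine ⟨hW.basicOpen e', ?_⟩
  set φ := (t.appLE W V (le_of_eq hVW.symm)).hom with hφ
  have h3 := preimage_basicOpen_eq t hVW e'
  have hle : X.basicOpen (φ e') ≤ t ⁻¹ᵁ (N.basicOpen e') := le_of_eq h3.symm
  let ψ := (t.appLE (N.basicOpen e') (X.basicOpen (φ e')) hle).hom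
  let α := (N.presheaf.map (homOfLE (N.basicOpen_le e')).op).hom
  let β := (X.presheaf.map (homOfLE (X.basicOpen_le (φ e'))).op).hom
  have hsq : ψ.comp α = β.comp φ := by
    have h1 : N.presheaf.map (homOfLE (N.basicOpen_le e')).op ≫
        t.appLE (N.basicOpen e') (X.basicOpen (φ e')) hle =
        t.appLE W (X.basicOpen (φ e')) ((X.basicOpen_le _).trans (le_of_eq hVW.symm)) :=
      Scheme.Hom.map_appLE ..
    have h2 : t.appLE W V (le_of_eq hVW.symm) ≫
        X.presheaf.map (homOfLE (X.basicOpen_le (φ e'))).op =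
        t.appLE W (X.basicOpen (φ e')) ((X.basicOpen_le _).trans (le_of_eq hVW.symm)) :=
      Scheme.Hom.appLE_map ..
    have h4 := h1.trans h2.symm
    have h5 := congrArg CommRingCat.Hom.hom h4
    exact h5
  have hα : letI := α.toAlgebra; IsLocalization.Away e' Γ(N, N.basicOpen e') :=
    hW.isLocalization_basicOpen e'
  have hβ : letI := β.toAlgebra; IsLocalization.Away (φ e') Γ(X, X.basicOpen (φ e')) :=
    isLocalization_basicOpen_of_qcqs hVc hVq (φ e')
  have hψ : GoodHom ψ := good_localize φ α β ψ hsq e' he' hα hβ hg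
  -- normality of Γ(X, Vy)
  have hyVy : y ∈ X.basicOpen (φ e') := by
    rw [← SetLike.mem_coe, hb]; exact ⟨hyV, subset_closure rfl⟩
  have hirr : IsIrreducible (X.basicOpen (φ e') : Set X) :=
    ⟨⟨y, hyVy⟩, (isIrreducible_singleton (x := y)).closure.isPreirreducible.open_subset (X.basicOpen (φ e')).2
      (by rw [hb]; exact Set.inter_subset_right)⟩
  haveI : IrreducibleSpace (X.basicOpen (φ e')) := Subtype.irreducibleSpace hirr
  haveI : ∀ x : X, _root_.IsReduced (X.presheaf.stalk x) := fun x => by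
    haveI := (hX x).1; infer_instance
  haveI : IsReduced X := isReduced_of_isReduced_stalk X
  haveI : IsIntegral (X.basicOpen (φ e')).toScheme := isIntegral_of_irreducibleSpace_of_isReduced _
  have hst : ∀ z : (X.basicOpen (φ e')).toScheme, IsIntegrallyClosed ((X.basicOpen (φ e')).toScheme.presheaf.stalk z) := by
    intro z
    haveI := (hX ((X.basicOpen (φ e')).ι z)).2
    exact IsIntegrallyClosed.of_equiv (asIso ((X.basicOpen (φ e')).ι.stalkMap z)).commRingCatIsoToRingEquiv
  haveI hn : IsIntegrallyClosed Γ((X.basicOpen (φ e')).toScheme, ⊤) := isIntegrallyClosed_top hst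
  haveI : IsIntegrallyClosed Γ(X, X.basicOpen (φ e')) :=
    IsIntegrallyClosed.of_equiv (X.basicOpen (φ e')).topIso.commRingCatIsoToRingEquiv
  haveI : IsDomain Γ(X, X.basicOpen (φ e')) :=
    MulEquiv.isDomain Γ((X.basicOpen (φ e')).toScheme, ⊤) (X.basicOpen (φ e')).topIso.symm.commRingCatIsoToRingEquiv.toMulEquiv
  exact normal_of_good ψ hψ

end

/-- generic point of an affine open with domain sections. -/
theorem exists_generic_of_affine {N : Scheme.{u}} {U : N.Opens} (hU : IsAffineOpen U)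
    [IsDomain Γ(N, U)] : ∃ η ∈ U, ∀ p ∈ U, η ⤳ p := by
  refine ⟨hU.fromSpec ⟨⊥, Ideal.isPrime_bot⟩, ?_, ?_⟩
  · have : hU.fromSpec ⟨⊥, Ideal.isPrime_bot⟩ ∈ Set.range hU.fromSpec := ⟨_, rfl⟩
    rw [hU.range_fromSpec] at this
    exact this
  · intro p hp
    have : p ∈ Set.range hU.fromSpec := by rw [hU.range_fromSpec]; exact hp
    obtain ⟨q, rfl⟩ := this
    apply Specializes.map _ hU.fromSpec.continuous
    apply (PrimeSpectrum.le_iff_specializes _ _).mp
    show (⊥ : Ideal _) ≤ _
    exact bot_le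

end Groth.Agent.Lib.Helper20.NormNorm
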