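import Mathlib
import Groth.Agent.Lib.Helper20.NormNorm5

set_option autoImplicit false
universe u

namespace Groth.Agent.Lib.Helper20.NormNorm

open AlgebraicGeometry CategoryTheory TopologicalSpace Polynomial

theorem mem_basicOpen_prod {X : Scheme.{u}} {U : X.Opens} {ι : Type*} (s : Finset ι)
    (g : ι → Γ(X, U)) (x : X) :
    x ∈ X.basicOpen (∏ i ∈ s, g i) ↔ x ∈ U ∧ ∀ i ∈ s, x ∈ X.basicOpen (g i) := by
  classical
  induction s using Finset.induction_on with
  | empty =>
    rw [Finset.prod_empty, X.basicOpen_of_isUnit isUnit_one]; simp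
  | insert a s ha ih =>
    rw [Finset.prod_insert ha, Scheme.basicOpen_mul]
    constructor
    · rintro ⟨h1, h2⟩
      refine ⟨X.basicOpen_le _ h1, ?_⟩
      intro i hi
      rcases Finset.mem_insert.mp hi with rfl | hi
      · exact h1
      · exact (ih.mp h2).2 i hi
    · rintro ⟨hU, h⟩
      exact ⟨h a (Finset.mem_insert_self a s),
        ih.mpr ⟨hU, fun i hi => h i (Finset.mem_insert_of_mem hi)⟩⟩

section

variable {X N : Scheme.{u}} (t : X ⟶ N)
  (hX : ∀ x : X, IsDomain (X.presheaf.stalk x) ∧ IsIntegrallyClosed (X.presheaf.stalk x))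
  (hfin : LocallyFinite (fun Z : ↥(irreducibleComponents ↥X) => (Z : Set ↥X)))
  {W : N.Opens} {V : X.Opens} (hVW : t ⁻¹ᵁ W = V)
  (hVc : IsCompact (V : Set X))
  (hg : GoodHom (t.appLE W V (le_of_eq hVW.symm)).hom)

include hfin hVc in
theorem finite_generic :
    {y : X | y ∈ V ∧ closure {y} ∈ irreducibleComponents X}.Finite := by
  have h1 := hfin.finite_nonempty_inter_compact hVc
  let F : {y : X | y ∈ V ∧ closure {y} ∈ irreducibleComponents X} →
      {i : ↥(irreducibleComponents X) | ((i : Set X) ∩ V).Nonempty} :=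
    fun y => ⟨⟨closure {y.1}, y.2.2⟩, ⟨y.1, subset_closure rfl, y.2.1⟩⟩
  have hF : Function.Injective F := by
    intro y₁ y₂ h
    have : closure {y₁.1} = closure {y₂.1} := congrArg (fun z => (z.1.1 : Set X)) h
    exact Subtype.ext (inseparable_iff_closure_eq.mpr this).eq
  haveI := h1.to_subtype
  exact Set.finite_coe_iff.mp (Finite.of_injective F hF)

include hX hfin hVc hg in
theorem exists_family : ∃ (S : Finset X) (e' : X → Γ(N, W)),
    (∀ y ∈ S, y ∈ V ∧ closure {y} ∈ irreducibleComponents X ∧ IsIdempotentElem (e' y) ∧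
      (X.basicOpen ((t.appLE W V (le_of_eq hVW.symm)).hom (e' y)) : Set X) =
        (V : Set X) ∩ closure {y}) ∧
    (∀ y, y ∈ V → closure {y} ∈ irreducibleComponents X → y ∈ S) ∧
    ∀ x' ∈ W, ∃ y ∈ S, x' ∈ N.basicOpen (e' y) := by
  classical
  have hfinS := finite_generic (X := X) hfin hVc
  set φ := (t.appLE W V (le_of_eq hVW.symm)).hom with hφ
  let S : Finset X := hfinS.toFinset
  have hmem : ∀ y, y ∈ S ↔ y ∈ V ∧ closure {y} ∈ irreducibleComponents X := fun y => by
    simp [S]
  let e' : X → Γ(N, W) := fun y =>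
    if h : closure {y} ∈ irreducibleComponents X then
      Classical.choose (exists_idem' t hX hfin hVW hg y h) else 0
  have he' : ∀ y (h : closure {y} ∈ irreducibleComponents X), IsIdempotentElem (e' y) ∧
      (X.basicOpen (φ (e' y)) : Set X) = (V : Set X) ∩ closure {y} := by
    intro y h
    simp only [e', dif_pos h]
    exact Classical.choose_spec (exists_idem' t hX hfin hVW hg y h)
  refine ⟨S, e', ?_, ?_, ?_⟩
  · intro y hy
    obtain ⟨h1, h2⟩ := (hmem y).mp hy
    exact ⟨h1, h2, (he' y h2).1, (he' y h2).2⟩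
  · intro y h1 h2
    exact (hmem y).mpr ⟨h1, h2⟩
  · intro x' hx'
    by_contra hcon
    push Not at hcon
    -- x' ∈ basicOpen (1 - e' y) for all y ∈ S
    have h1 : ∀ y ∈ S, x' ∈ N.basicOpen (1 - e' y) := by
      intro y hy
      have h := N.basicOpen_add_le (f := e' y) (g := 1 - e' y)
      have h1 : e' y + (1 - e' y) = 1 := by ring
      rw [h1, N.basicOpen_of_isUnit isUnit_one] at h
      rcases h hx' with h | h
      · exact absurd h (hcon y hy)
      · exact h
    have h2 : x' ∈ N.basicOpen (∏ y ∈ S, (1 - e' y)) :=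
      (mem_basicOpen_prod S _ x').mpr ⟨hx', h1⟩
    -- the product is zero
    haveI : ∀ x : X, _root_.IsReduced (X.presheaf.stalk x) := fun x => by
      haveI := (hX x).1; infer_instance
    haveI : IsReduced X := isReduced_of_isReduced_stalk X
    have h3 : φ (∏ y ∈ S, (1 - e' y)) = 0 := by
      rw [← basicOpen_eq_bot_iff]
      ext p
      simp only [Opens.coe_bot, Set.mem_empty_iff_false, iff_false]
      intro hp
      rw [map_prod] at hp
      have hp' := (mem_basicOpen_prod S _ p).mp hp
      obtain ⟨hpV, hpS⟩ := hp'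
      -- p lies on a component with generic point y₀
      obtain ⟨C, hC, hpC⟩ := exists_mem_irreducibleComponents_subset_of_isIrreducible {p}
        isIrreducible_singleton
      obtain ⟨y₀, hy₀⟩ := QuasiSober.sober hC.1 (isClosed_of_mem_irreducibleComponents C hC)
      have hcl : closure {y₀} = C := hy₀
      have hspec : y₀ ⤳ p := by
        rw [specializes_iff_mem_closure, hcl]; exact hpC rfl
      have hy₀V : y₀ ∈ V := hspec.mem_open V.2 hpV
      have hy₀c : closure {y₀} ∈ irreducibleComponents X := by rw [hcl]; exact hC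
      have hy₀S : y₀ ∈ S := (hmem y₀).mpr ⟨hy₀V, hy₀c⟩
      have h4 := hpS y₀ hy₀S
      have h5 : p ∈ X.basicOpen (φ (e' y₀)) := by
        rw [← SetLike.mem_coe, (he' y₀ hy₀c).2]
        exact ⟨hpV, by rw [hcl]; exact hpC rfl⟩
      rw [map_sub, map_one] at h4
      have h6 : p ∈ X.basicOpen (φ (e' y₀) * (1 - φ (e' y₀))) := by
        rw [Scheme.basicOpen_mul]; exact ⟨h5, h4⟩
      have h7 : φ (e' y₀) * (1 - φ (e' y₀)) = 0 := by
        have := ((he' y₀ hy₀c).1.map φ).eq
        rw [mul_sub, mul_one, this, sub_self]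
      rw [h7, Scheme.basicOpen_zero] at h6
      exact h6
    have h4 : (∏ y ∈ S, (1 - e' y)) = 0 := hg.1 (by rw [h3, map_zero])
    rw [h4, Scheme.basicOpen_zero] at h2
    exact h2

end

end Groth.Agent.Lib.Helper20.NormNorm
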