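import Mathlib
import Groth.Agent.Lib.Helper20.NormNorm4
import Groth.Agent.Lib.Helper20.NormNorm6
import Groth.Agent.S9672

set_option autoImplicit false
universe u

namespace Groth.Agent.Lib.Helper20.NormNorm

open AlgebraicGeometry CategoryTheory TopologicalSpace Polynomial

theorem stalk_normal {N : Scheme.{u}} {U : N.Opens} (hU : IsAffineOpen U) [IsDomain Γ(N, U)]
    [IsIntegrallyClosed Γ(N, U)] (x : U) :
    IsDomain (N.presheaf.stalk x) ∧ IsIntegrallyClosed (N.presheaf.stalk x) := by
  let _ : Algebra Γ(N, U) (N.presheaf.stalk x) :=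
    TopCat.Presheaf.algebra_section_stalk N.presheaf x
  have hloc : IsLocalization.AtPrime (N.presheaf.stalk x) (hU.primeIdealOf x).asIdeal :=
    hU.isLocalization_stalk x
  let eq : Localization.AtPrime (hU.primeIdealOf x).asIdeal ≃ₐ[Γ(N, U)] (N.presheaf.stalk x) :=
    IsLocalization.algEquiv (hU.primeIdealOf x).asIdeal.primeCompl _ _
  have h1 : IsDomain (Localization.AtPrime (hU.primeIdealOf x).asIdeal) := inferInstance
  have h2 : IsIntegrallyClosed (Localization.AtPrime (hU.primeIdealOf x).asIdeal) :=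
    isIntegrallyClosed_of_isLocalization (Localization.AtPrime (hU.primeIdealOf x).asIdeal)
      (hU.primeIdealOf x).asIdeal.primeCompl (hU.primeIdealOf x).asIdeal.primeCompl_le_nonZeroDivisors
  exact ⟨eq.toRingEquiv.toMulEquiv.isDomain_iff.mp h1, .of_equiv eq.toRingEquiv⟩

section

variable {X Y : Scheme.{u}} (f : X ⟶ Y) [QuasiCompact f] [QuasiSeparated f]
  (hX : ∀ x : X, IsDomain (X.presheaf.stalk x) ∧ IsIntegrallyClosed (X.presheaf.stalk x))
  (hfin : LocallyFinite (fun Z : ↥(irreducibleComponents ↥X) => (Z : Set ↥X)))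

theorem exists_good (x' : f.normalization) :
    ∃ (W : f.normalization.Opens) (V : X.Opens) (hVW : f.toNormalization ⁻¹ᵁ W = V),
      x' ∈ W ∧ IsAffineOpen W ∧ IsCompact (V : Set X) ∧ IsQuasiSeparated (V : Set X) ∧
      GoodHom (f.toNormalization.appLE W V (le_of_eq hVW.symm)).hom := by
  obtain ⟨_, ⟨U, hU : IsAffineOpen U, rfl⟩, hxU, -⟩ :=
    Y.isBasis_affineOpens.exists_subset_of_mem_open (Set.mem_univ (f.fromNormalization x'))
      isOpen_univ
  refine ⟨f.fromNormalization ⁻¹ᵁ U, f ⁻¹ᵁ U, toNorm_preimage f U, hxU,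
    isAffineOpen_fromNorm_preimage f hU, ?_, ?_, good_appLE f hU⟩
  · exact QuasiCompact.isCompact_preimage (f := f) U U.2 hU.isCompact
  · exact Scheme.Hom.isQuasiSeparated_preimage f hU.isQuasiSeparated

include hX hfin in
theorem normal_stalk (x' : f.normalization) :
    IsDomain (f.normalization.presheaf.stalk x') ∧
      IsIntegrallyClosed (f.normalization.presheaf.stalk x') := by
  obtain ⟨W, V, hVW, hx'W, hW, hVc, hVq, hg⟩ := exists_good f x'
  obtain ⟨S, e', hS, hSall, hcov⟩ := exists_family f.toNormalization hX hfin hVW hVc hg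
  obtain ⟨y, hyS, hx'y⟩ := hcov x' hx'W
  obtain ⟨hyV, hyc, hid, hb⟩ := hS y hyS
  obtain ⟨haff, hdom, hic⟩ := basicOpen_props f.toNormalization hX hW hVW hVc hVq hg (e' y) hid y
    hyV hb
  exact stalk_normal haff ⟨x', hx'y⟩

include hX hfin in
theorem locallyFinite_norm :
    LocallyFinite (fun Z : ↥(irreducibleComponents ↥f.normalization) =>
      (Z : Set ↥f.normalization)) := by
  intro x'
  obtain ⟨W, V, hVW, hx'W, hW, hVc, hVq, hg⟩ := exists_good f x'
  obtain ⟨S, e', hS, hSall, hcov⟩ := exists_family f.toNormalization hX hfin hVW hVc hg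
  refine ⟨(W : Set f.normalization), W.2.mem_nhds hx'W, ?_⟩
  let G : X → Set f.normalization := fun y => closure (f.normalization.basicOpen (e' y) : Set _)
  have hfinG : (G '' (S : Set X)).Finite := S.finite_toSet.image G
  refine (hfinG.preimage (Set.injOn_of_injective Subtype.val_injective)).subset ?_
  rintro ⟨Z, hZ⟩ ⟨q, hqZ, hqW⟩
  obtain ⟨z, hz⟩ := QuasiSober.sober hZ.1 (isClosed_of_mem_irreducibleComponents Z hZ)
  have hcl : closure {z} = Z := hz
  have hzq : z ⤳ q := by rw [specializes_iff_mem_closure, hcl]; exact hqZ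
  have hzW : z ∈ W := hzq.mem_open W.2 hqW
  obtain ⟨y, hyS, hzy⟩ := hcov z hzW
  obtain ⟨hyV, hyc, hid, hb⟩ := hS y hyS
  obtain ⟨haff, hdom, hic⟩ := basicOpen_props f.toNormalization hX hW hVW hVc hVq hg (e' y) hid y
    hyV hb
  obtain ⟨η, hηW, hη⟩ := exists_generic_of_affine haff
  have hηz : η = z := eq_of_specializes (by rw [hcl]; exact hZ) (hη z hzy)
  refine ⟨y, hyS, ?_⟩
  show closure (f.normalization.basicOpen (e' y) : Set _) = Z
  rw [← hcl]
  apply le_antisymm
  · apply closure_minimal _ isClosed_closure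
    intro p hp
    rw [← specializes_iff_mem_closure, ← hηz]
    exact hη p hp
  · exact closure_mono (Set.singleton_subset_iff.mpr hzy)

include hX hfin in
theorem exists_nbhd (y : X) (hy : closure {y} ∈ irreducibleComponents X) :
    ∃ O : f.normalization.Opens, f.toNormalization.base y ∈ O ∧
      (∀ y', f.toNormalization.base y' ∈ O → y' ∈ closure {y}) ∧ ∃ η ∈ O, ∀ p ∈ O, η ⤳ p := by
  obtain ⟨W, V, hVW, hx'W, hW, hVc, hVq, hg⟩ := exists_good f (f.toNormalization.base y)
  have hyV : y ∈ V := by rw [← hVW]; exact hx'W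
  obtain ⟨S, e', hS, hSall, hcov⟩ := exists_family f.toNormalization hX hfin hVW hVc hg
  have hyS := hSall y hyV hy
  obtain ⟨-, -, hid, hb⟩ := hS y hyS
  obtain ⟨haff, hdom, hic⟩ := basicOpen_props f.toNormalization hX hW hVW hVc hVq hg (e' y) hid y
    hyV hb
  have hpre := preimage_basicOpen_eq f.toNormalization hVW (e' y)
  refine ⟨f.normalization.basicOpen (e' y), ?_, ?_, exists_generic_of_affine haff⟩
  · have : y ∈ X.basicOpen ((f.toNormalization.appLE W V (le_of_eq hVW.symm)).hom (e' y)) := by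
      rw [← SetLike.mem_coe, hb]; exact ⟨hyV, subset_closure rfl⟩
    rw [← hpre] at this
    exact this
  · intro y' hy'
    have : y' ∈ X.basicOpen ((f.toNormalization.appLE W V (le_of_eq hVW.symm)).hom (e' y)) := by
      rw [← hpre]; exact hy'
    rw [← SetLike.mem_coe, hb] at this
    exact this.2

include hX hfin in
theorem generic_map (y : X) (hy : closure {y} ∈ irreducibleComponents X) :
    closure {f.toNormalization.base y} ∈ irreducibleComponents ↥f.normalization := by
  obtain ⟨O, hyO, hO, η, hηO, hη⟩ := exists_nbhd f hX hfin y hy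
  have hηc : closure {η} ∈ irreducibleComponents ↥f.normalization := by
    obtain ⟨Z, hZ, hηZ⟩ := exists_mem_irreducibleComponents_subset_of_isIrreducible
      (closure {η}) isIrreducible_singleton.closure
    obtain ⟨z, hz⟩ := QuasiSober.sober hZ.1 (isClosed_of_mem_irreducibleComponents Z hZ)
    have hcl : closure {z} = Z := hz
    have h1 : z ⤳ η := by
      rw [specializes_iff_mem_closure, hcl]; exact hηZ (subset_closure rfl)
    have h2 : z ∈ O := h1.mem_open O.2 hηO
    have h3 : η ⤳ z := hη z h2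
    have : z = η := (h1.antisymm h3).eq
    rw [← this, hcl]; exact hZ
  obtain ⟨y', hy'c, hy'η⟩ := Groth.Agent.S9672.exists_generic_mapsTo f.toNormalization η hηc
  have hy'cl : y' ∈ closure {y} := hO y' (by rw [hy'η]; exact hηO)
  have hyy' : y = y' := eq_of_specializes hy'c (specializes_iff_mem_closure.mpr hy'cl)
  have : f.toNormalization.base y = η := by rw [← hy'η, ← hyy']
  rw [this]; exact hηc

include hX hfin in
theorem generic_inj (y₁ y₂ : X) (h₁ : closure {y₁} ∈ irreducibleComponents X)
    (h₂ : closure {y₂} ∈ irreducibleComponents X)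
    (h : f.toNormalization.base y₁ = f.toNormalization.base y₂) : y₁ = y₂ := by
  obtain ⟨O, hyO, hO, -⟩ := exists_nbhd f hX hfin y₁ h₁
  have h3 : y₂ ∈ closure {y₁} := hO y₂ (by rw [← h]; exact hyO)
  exact eq_of_specializes h₂ (specializes_iff_mem_closure.mpr h3)

end

end Groth.Agent.Lib.Helper20.NormNorm
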