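import Mathlib

set_option autoImplicit false
universe u
open CategoryTheory AlgebraicGeometry TopologicalSpace

namespace Groth.Agent.Lib.Helper20.OrdOpen

/-- `Ring.ordFrac` of a DVR is invariant under ring isomorphisms compatible with a map of the
fraction fields. -/
theorem ordFrac_transport {R R' K K' : Type*} [CommRing R] [IsDomain R] [CommRing R'] [IsDomain R']
    [IsDiscreteValuationRing R]
    [IsNoetherianRing R'] [Ring.KrullDimLE 1 R']
    [Field K] [Field K'] [Algebra R K] [IsFractionRing R K] [Algebra R' K'] [IsFractionRing R' K']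
    (e : R ≃+* R') (ε : K →+* K')
    (hε : ∀ r : R, ε (algebraMap R K r) = algebraMap R' K' (e r)) (x : K) :
    Ring.ordFrac R' (ε x) = Ring.ordFrac R x := by
  have : IsDiscreteValuationRing R' := IsDiscreteValuationRing.RingEquivClass.isDiscreteValuationRing e
  have key : ∀ a : R, Ring.ordFrac R' (algebraMap R' K' (e a)) = Ring.ordFrac R (algebraMap R K a) := by
    intro a
    by_cases ha : a = 0
    · simp [ha]
    obtain ⟨ϖ, hϖ⟩ := IsDiscreteValuationRing.exists_irreducible R
    obtain ⟨n, v, rfl⟩ := IsDiscreteValuationRing.eq_unit_mul_pow_irreducible ha hϖ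
    have hϖ' : Irreducible (e ϖ) := (MulEquiv.irreducible_iff (e : R ≃* R')).mpr hϖ
    have hv' : IsUnit (e (v : R)) := v.isUnit.map e
    simp only [map_mul, map_pow]
    rw [Ring.ordFrac_of_isUnit hv', Ring.ordFrac_of_isUnit v.isUnit,
      Ring.ordFrac_irreducible hϖ', Ring.ordFrac_irreducible hϖ]
  obtain ⟨a, b, hb, rfl⟩ := IsFractionRing.div_surjective (A := R) x
  rw [map_div₀, map_div₀, map_div₀, hε, hε, key, key]

section
variable {X : Scheme.{u}} [IsIntegral X] (U : X.Opens) [Nonempty U]

theorem ι_generic : U.ι (genericPoint ↥(U : Scheme.{u})) = genericPoint X :=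
  genericPoint_eq_of_isOpenImmersion U.ι

/-- The comparison map of function fields. -/
noncomputable def ffMap : X.functionField →+* (U : Scheme.{u}).functionField :=
  (X.presheaf.stalkSpecializes (specializes_of_eq (ι_generic U)) ≫
    U.ι.stalkMap (genericPoint ↥(U : Scheme.{u}))).hom

theorem ffMap_algebraMap (u : ↥(U : Scheme.{u})) (r : X.presheaf.stalk (U.ι u)) :
    ffMap U (algebraMap (X.presheaf.stalk (U.ι u)) X.functionField r) =
      algebraMap ((U : Scheme.{u}).presheaf.stalk u) (U : Scheme.{u}).functionField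
        (U.ι.stalkMap u r) := by
  have hu : genericPoint ↥(U : Scheme.{u}) ⤳ u :=
    (genericPoint_spec ↥(U : Scheme.{u})).specializes (Set.mem_univ u)
  have h1 := Scheme.Hom.stalkSpecializes_stalkMap_apply U.ι _ _ hu r
  change U.ι.stalkMap (genericPoint ↥(U : Scheme.{u}))
    (X.presheaf.stalkSpecializes (specializes_of_eq (ι_generic U))
      (X.presheaf.stalkSpecializes ((genericPoint_spec X).specializes (Set.mem_univ (U.ι u))) r)) =
    (U : Scheme.{u}).presheaf.stalkSpecializes hu (U.ι.stalkMap u r)
  rw [← h1, TopCat.Presheaf.stalkSpecializes_comp_apply]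

theorem ffMap_surjective : Function.Surjective (ffMap U) := by
  intro g
  refine ⟨X.presheaf.stalkSpecializes (specializes_of_eq (ι_generic U).symm)
    (inv (U.ι.stalkMap (genericPoint ↥(U : Scheme.{u}))) g), ?_⟩
  change U.ι.stalkMap (genericPoint ↥(U : Scheme.{u}))
    (X.presheaf.stalkSpecializes (specializes_of_eq (ι_generic U))
      (X.presheaf.stalkSpecializes (specializes_of_eq (ι_generic U).symm) _)) = g
  rw [TopCat.Presheaf.stalkSpecializes_comp_apply]
  have : X.presheaf.stalkSpecializes ((specializes_of_eq (ι_generic U)).trans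
      (specializes_of_eq (ι_generic U).symm)) = 𝟙 _ :=
    TopCat.Presheaf.stalkSpecializes_refl _ _
  rw [this]
  change U.ι.stalkMap (genericPoint ↥(U : Scheme.{u}))
    (inv (U.ι.stalkMap (genericPoint ↥(U : Scheme.{u}))) g) = g
  rw [← CommRingCat.comp_apply, IsIso.inv_hom_id]
  rfl

theorem ord_ffMap [IsLocallyNoetherian X]
    (u : ↥(U : Scheme.{u})) (hu : Order.coheight u = 1)
    [IsDiscreteValuationRing (X.presheaf.stalk (U.ι u))]
    (f : X.functionField) (hf : f ≠ 0) :
    Scheme.ord (ffMap U f) u = Scheme.ord f (U.ι u) := by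
  have hx : Order.coheight (U.ι u) = 1 := by
    rw [coheight_eq_of_isOpenImmersion]; exact hu
  have hf' : ffMap U f ≠ 0 := (map_ne_zero (ffMap U)).mpr hf
  rw [Scheme.ord_eq_iff hu hf']
  have h1 := (Scheme.ord_eq_iff hx hf (n := Scheme.ord f (U.ι u))).mp rfl
  rw [← h1]
  have : Ring.KrullDimLE 1 ((U : Scheme.{u}).presheaf.stalk u) := krullDimLE_of_coheight_le hu.le
  have : Ring.KrullDimLE 1 (X.presheaf.stalk (U.ι u)) := krullDimLE_of_coheight_le hx.le
  exact ordFrac_transport (asIso (U.ι.stalkMap u)).commRingCatIsoToRingEquiv (ffMap U)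
    (fun r => ffMap_algebraMap U u r) f

end

end Groth.Agent.Lib.Helper20.OrdOpen
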