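import Mathlib
import Groth.Agent.Lib.Helper20.FQ8

/-!
# Inertia groups for profinite group actions (helper20)

`inertia_quot_le`: for a profinite group `G` acting continuously on a discrete ring `B`, an open
normal subgroup `N` and a prime `q` of `B`, every element of the inertia group of `q ∩ B^N` in
`G ⧸ N` lifts to an element of the inertia group of `q` in `G`.
-/

set_option autoImplicit false
set_option linter.style.haveILetI false
set_option linter.unusedSectionVars false
universe u v w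

namespace Groth.Agent.Lib.Helper20.FQ

open scoped Pointwise

section lift

variable {A : Type v} {B : Type w} [CommRing A] [CommRing B] [Algebra A B]
variable {G : Type u} [Group G] [MulSemiringAction G B] [SMulCommClass G A B]

theorem fixed_smulComm (N : Subgroup G) : SMulCommClass N (FixedPoints.subalgebra A B N) B :=
  ⟨fun n x b => by
    rw [Algebra.smul_def, Algebra.smul_def, smul_mul']
    congr 1
    exact x.2 n⟩

theorem fixed_isInvariant (N : Subgroup G) :
    letI := fixed_smulComm (A := A) (B := B) N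
    Algebra.IsInvariant (FixedPoints.subalgebra A B N) B N :=
  letI := fixed_smulComm (A := A) (B := B) N
  ⟨fun b hb => ⟨⟨b, hb⟩, rfl⟩⟩

theorem quot_smul_coe (N : Subgroup G) [N.Normal] (σ : G) (x : FixedPoints.subalgebra A B N) :
    (((QuotientGroup.mk σ : G ⧸ N) • x : FixedPoints.subalgebra A B N) : B) = σ • (x : B) := rfl

variable [TopologicalSpace G] [CompactSpace G] [TotallyDisconnectedSpace G] [IsTopologicalGroup G]
variable [TopologicalSpace B] [DiscreteTopology B] [ContinuousSMul G B]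

set_option maxHeartbeats 800000 in
set_option synthInstance.maxHeartbeats 200000 in
theorem inertia_quot_le (N : Subgroup G) [N.Normal] (hN : IsOpen (N : Set G)) (q : Ideal B)
    [q.IsPrime] :
    (q.under (FixedPoints.subalgebra A B N)).inertia (G ⧸ N) ≤
      (q.inertia G).map (QuotientGroup.mk' N) := by
  intro τ hτ
  have hτ' := inv_mem hτ
  obtain ⟨σ₁, rfl⟩ := QuotientGroup.mk_surjective τ
  have key : ∀ x : FixedPoints.subalgebra A B N, σ₁ • (x : B) - x ∈ q := fun x => by
    have := (AddSubgroup.mem_inertia.mp hτ) x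
    exact this
  have key' : ∀ x : FixedPoints.subalgebra A B N, σ₁⁻¹ • (x : B) - x ∈ q := fun x => by
    have := (AddSubgroup.mem_inertia.mp hτ') x
    exact this
  haveI : CompactSpace N :=
    isCompact_iff_compactSpace.mp (Subgroup.isClosed_of_isOpen N hN).isCompact
  letI := fixed_smulComm (A := A) (B := B) N
  haveI := fixed_isInvariant (A := A) (B := B) N
  haveI : (σ₁ • q).IsPrime := by
    rw [Ideal.pointwise_smul_eq_comap]; infer_instance
  have hunder : q.under (FixedPoints.subalgebra A B N) =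
      (σ₁ • q).under (FixedPoints.subalgebra A B N) := by
    ext x
    rw [Ideal.under_def, Ideal.under_def, Ideal.mem_comap, Ideal.mem_comap,
      Ideal.mem_pointwise_smul_iff_inv_smul_mem]
    have h1 := key' x
    constructor
    · intro h
      have := q.add_mem h1 h
      simpa using this
    · intro h
      have := q.sub_mem h h1
      simpa using this
  obtain ⟨ν, hν⟩ := Algebra.IsInvariant.exists_smul_of_under_eq_of_profinite
    (A := FixedPoints.subalgebra A B N) (B := B) (G := N) q (σ₁ • q) hunder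
  obtain ⟨σ₂, hσ₂_def⟩ : ∃ σ₂ : G, σ₂ = (ν : G)⁻¹ * σ₁ := ⟨_, rfl⟩
  have hsub : ∀ n : N, n • q = (n : G) • q := fun n => rfl
  have hσ₂ : σ₂ • q = q := by
    rw [hσ₂_def, mul_smul, hν]
    show (ν : G)⁻¹ • ((ν : G) • q) = q
    rw [inv_smul_smul]
  have key₂ : ∀ x : FixedPoints.subalgebra A B N, σ₂ • (x : B) - x ∈ q := fun x => by
    have h1 : (ν : G)⁻¹ • (σ₁ • (x : B)) = σ₁ • (x : B) := by
      have := ((QuotientGroup.mk σ₁ : G ⧸ N) • x).2 (ν⁻¹)
      exact this
    rw [hσ₂_def, mul_smul, h1]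
    exact key x
  obtain ⟨f, hf_def⟩ : ∃ f : (B ⧸ q) ≃+* (B ⧸ q),
      f = (Ideal.Quotient.stabilizerHom q (q.under A) G ⟨σ₂, hσ₂⟩).toRingEquiv := ⟨_, rfl⟩
  have hf : ∀ b : B, f (Ideal.Quotient.mk q b) = Ideal.Quotient.mk q (σ₂ • b) := fun b => by
    rw [hf_def]; rfl
  let α : (B ⧸ q) ≃ₐ[(FixedPoints.subalgebra A B N) ⧸ q.under (FixedPoints.subalgebra A B N)]
      (B ⧸ q) := AlgEquiv.ofRingEquiv (f := f) (fun r => by
        obtain ⟨x, rfl⟩ := Ideal.Quotient.mk_surjective r
        rw [Ideal.Quotient.algebraMap_mk_of_liesOver]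
        show f (Ideal.Quotient.mk q (x : B)) = Ideal.Quotient.mk q (x : B)
        rw [hf]
        exact Ideal.Quotient.eq.mpr (key₂ x))
  have hα : ∀ b : B, α (Ideal.Quotient.mk q b) = Ideal.Quotient.mk q (σ₂ • b) := hf
  obtain ⟨ν', hν'⟩ := Ideal.Quotient.stabilizerHom_surjective_of_profinite
    (A := FixedPoints.subalgebra A B N) (B := B) (G := N)
    (q.under (FixedPoints.subalgebra A B N)) q α
  have hν'q : ((ν' : N) : G) • q = q := ν'.2
  have hν'b : ∀ b : B, ((ν' : N) : G) • b - σ₂ • b ∈ q := fun b => by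
    have h1 := DFunLike.congr_fun hν' (Ideal.Quotient.mk q b)
    rw [hα] at h1
    exact Ideal.Quotient.eq.mp h1
  refine ⟨((ν' : N) : G)⁻¹ * σ₂, ?_, ?_⟩
  · show _ ∈ q.inertia G
    rw [AddSubgroup.mem_inertia]
    intro b
    have h1 : σ₂ • b - ((ν' : N) : G) • b ∈ q := by
      have := q.neg_mem (hν'b b)
      simpa using this
    have h2 : ((ν' : N) : G)⁻¹ • (σ₂ • b - ((ν' : N) : G) • b) ∈ q := by
      have h3 : σ₂ • b - ((ν' : N) : G) • b ∈ ((ν' : N) : G) • q := by rw [hν'q]; exact h1
      exact (Ideal.mem_pointwise_smul_iff_inv_smul_mem).mp h3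
    rw [smul_sub, inv_smul_smul] at h2
    rw [mul_smul]
    exact h2
  · show QuotientGroup.mk' N (((ν' : N) : G)⁻¹ * σ₂) = QuotientGroup.mk σ₁
    show (QuotientGroup.mk (((ν' : N) : G)⁻¹ * σ₂) : G ⧸ N) = QuotientGroup.mk σ₁
    rw [QuotientGroup.eq, hσ₂_def]
    have h1 : (((ν' : N) : G)⁻¹ * ((ν : G)⁻¹ * σ₁))⁻¹ * σ₁ =
        σ₁⁻¹ * ((ν : G) * ((ν' : N) : G)) * σ₁ := by group
    rw [h1]
    exact ‹N.Normal›.conj_mem' _ (N.mul_mem ν.2 (ν' : N).2) σ₁

end lift

end Groth.Agent.Lib.Helper20.FQ
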