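import Mathlib
import Groth.Agent.Lib.Helper20.PG1

/-!
# Étale neighbourhoods in rings of inertia invariants, profinite version (helper20)
-/

set_option autoImplicit false
set_option linter.style.haveILetI false
set_option linter.unusedSectionVars false
universe u

namespace Groth.Agent.Lib.Helper20.FQ

open scoped Pointwise

set_option maxHeartbeats 1600000 in
set_option synthInstance.maxHeartbeats 400000 in
/-- version of `exists_etale_away_fixed` over a base ring `A₀` with `R^G = A₀`. -/
theorem exists_etale_away_fixed' (G R A₀ : Type u) [Group G] [Fintype G] [CommRing R]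
    [CommRing A₀] [Algebra A₀ R] [MulSemiringAction G R] [SMulCommClass G A₀ R]
    [Algebra.IsInvariant A₀ R G]
    (hinj : Function.Injective (algebraMap A₀ R)) (q : Ideal R) [q.IsPrime] (H : Subgroup G)
    (hIH : q.inertia G ≤ H) (C' : Type u) [CommRing C'] [Algebra A₀ C'] (ι : C' →ₐ[A₀] R)
    (hι : Function.Injective ι)
    (hrange : ∀ r : R, r ∈ Set.range ι ↔ ∀ i : G, i ∈ H → i • r = r) :
    ∃ g : C', ι g ∉ q ∧ Algebra.Etale A₀ (Localization.Away g) := by
  let e₀ : A₀ →+* FixedPoints.subring R G :=
    (algebraMap A₀ R).codRestrict _ (fun a g => smul_algebraMap g a)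
  have he₀ : Function.Bijective e₀ := ⟨fun a b h => hinj (congrArg Subtype.val h), fun c => by
    obtain ⟨a, ha⟩ := Algebra.IsInvariant.isInvariant (A := A₀) (G := G) (c : R) (fun g => c.2 g)
    exact ⟨a, Subtype.ext ha⟩⟩
  let e := RingEquiv.ofBijective e₀ he₀
  letI : Algebra (FixedPoints.subring R G) C' :=
    ((algebraMap A₀ C').comp e.symm.toRingHom).toAlgebra
  have hcompat : ∀ c : FixedPoints.subring R G,
      ι (algebraMap (FixedPoints.subring R G) C' c) = c := fun c => by
    show ι (algebraMap A₀ C' (e.symm c)) = c
    rw [ι.commutes]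
    have : e (e.symm c) = c := e.apply_symm_apply c
    exact congrArg Subtype.val this
  obtain ⟨g, hg, het⟩ := exists_etale_away_fixed G R q H hIH C' ι.toRingHom hι hrange hcompat
  refine ⟨g, hg, ?_⟩
  have h1 : algebraMap A₀ (Localization.Away g) =
      (algebraMap (FixedPoints.subring R G) (Localization.Away g)).comp e.toRingHom := by
    apply RingHom.ext
    intro a
    show _ = algebraMap (FixedPoints.subring R G) (Localization.Away g) (e a)
    rw [IsScalarTower.algebraMap_apply A₀ C' (Localization.Away g),
      IsScalarTower.algebraMap_apply (FixedPoints.subring R G) C' (Localization.Away g)]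
    congr 1
    show _ = algebraMap A₀ C' (e.symm (e a))
    rw [e.symm_apply_apply]
  rw [← RingHom.etale_algebraMap, h1]
  exact RingHom.Etale.stableUnderComposition _ _ (RingHom.Etale.of_bijective e.bijective)
    (RingHom.etale_algebraMap.mpr het)

set_option maxHeartbeats 1600000 in
set_option synthInstance.maxHeartbeats 400000 in
theorem etale_away_mul (A₀ C' : Type u) [CommRing A₀] [CommRing C'] [Algebra A₀ C'] (g h : C')
    (hg : Algebra.Etale A₀ (Localization.Away g)) :
    Algebra.Etale A₀ (Localization.Away (g * h)) := by
  haveI : IsLocalization.Away (g * h)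
      (Localization.Away (algebraMap C' (Localization.Away g) h)) :=
    IsLocalization.Away.mul' (Localization.Away g) _ g h
  haveI : Algebra.Etale (Localization.Away g)
      (Localization.Away (algebraMap C' (Localization.Away g) h)) :=
    Algebra.Etale.of_isLocalizationAway (algebraMap C' (Localization.Away g) h)
  haveI : Algebra.Etale A₀ (Localization.Away (algebraMap C' (Localization.Away g) h)) :=
    Algebra.Etale.comp A₀ (Localization.Away g) _
  let e : Localization.Away (algebraMap C' (Localization.Away g) h) ≃ₐ[C']
      Localization.Away (g * h) :=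
    IsLocalization.algEquiv (Submonoid.powers (g * h)) _ _
  exact Algebra.Etale.of_equiv (e.restrictScalars A₀)

end Groth.Agent.Lib.Helper20.FQ
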