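import Mathlib
import Groth.Prelude.Def_PBC
import Groth.Agent.Lib.Helper1.UnderColimit
import Groth.Agent.Lib.Helper20.PG2

/-!
# Ind-étale algebras from directed families of étale subalgebras (helper20)
-/

set_option autoImplicit false
set_option linter.style.haveILetI false
set_option linter.unusedSectionVars false
universe u

namespace Groth.Agent.Lib.Helper20.FQ

open CategoryTheory CategoryTheory.Limits

section directed

variable (K T : Type u) [CommRing K] [CommRing T] [Algebra K T] (𝒮 : Set (Subalgebra K T))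

/-- the index type: subalgebras in the family -/
abbrev DSub : Type u := {S : Subalgebra K T // S ∈ 𝒮}

/-- the diagram of the subalgebras in the family -/
noncomputable def ddiag : DSub K T 𝒮 ⥤ Under (CommRingCat.of K) where
  obj S := Under.mk (CommRingCat.ofHom (algebraMap K S.1))
  map {S S'} h := Under.homMk (CommRingCat.ofHom (Subalgebra.inclusion h.le).toRingHom) (by
    ext x; rfl)
  map_id S := by
    ext x; rfl
  map_comp f g := by
    ext x; rfl

/-- the cocone with vertex `T` -/
noncomputable def dcocone : Cocone (ddiag K T 𝒮) where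
  pt := Under.mk (CommRingCat.ofHom (algebraMap K T))
  ι :=
    { app := fun S => Under.homMk (CommRingCat.ofHom S.1.val.toRingHom) (by ext x; rfl)
      naturality := by
        intro S S' h
        ext x
        rfl }

theorem isIndEtale_of_directedOn (hne : 𝒮.Nonempty) (hdir : DirectedOn (· ≤ ·) 𝒮)
    (hcov : ∀ x : T, ∃ S ∈ 𝒮, x ∈ S) (het : ∀ S ∈ 𝒮, Algebra.Etale K S) :
    EtPBC.IsIndEtale K T := by
  haveI : Nonempty (DSub K T 𝒮) := ⟨⟨hne.some, hne.some_mem⟩⟩
  haveI : IsDirected (DSub K T 𝒮) (· ≤ ·) := ⟨fun a b => by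
    obtain ⟨c, hc, hac, hbc⟩ := hdir a.1 a.2 b.1 b.2
    exact ⟨⟨c, hc⟩, hac, hbc⟩⟩
  have hcolim : Nonempty (IsColimit (dcocone K T 𝒮)) := by
    refine Groth.Agent.Lib.Helper1.isColimit_under_of_surj_inj (ddiag K T 𝒮) (dcocone K T 𝒮) ?_ ?_
    · intro (x : T)
      obtain ⟨S, hS, hx⟩ := hcov x
      exact ⟨⟨S, hS⟩, ⟨x, hx⟩, rfl⟩
    · intro S S' xs xt h
      obtain ⟨S'', hS'', h1, h2⟩ := hdir S.1 S.2 S'.1 S'.2
      refine ⟨⟨S'', hS''⟩, homOfLE h1, homOfLE h2, ?_⟩
      apply Subtype.ext
      exact h
  obtain ⟨hc⟩ := hcolim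
  refine ⟨DSub K T 𝒮, inferInstance, inferInstance, ddiag K T 𝒮, dcocone K T 𝒮, hc, ?_,
    ⟨Iso.refl _⟩⟩
  intro S
  have : ((ddiag K T 𝒮).obj S).hom.hom.toAlgebra = (inferInstance : Algebra K S.1) :=
    Algebra.algebra_ext _ _ (fun _ => rfl)
  show @Algebra.Etale K S.1 _ _ ((ddiag K T 𝒮).obj S).hom.hom.toAlgebra
  rw [this]
  exact het S.1 S.2

end directed

section away

variable {A B : Type u} [CommRing A] [CommRing B] [Algebra A B]
variable {C : Type u} [CommRing C] [Algebra A C] (ι : C →ₐ[A] B) (q : Ideal B) [q.IsPrime]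
variable (E : Subalgebra A C) (g : E) (hg : ι (g : C) ∉ q)

theorem isUnit_algebraMap_of_notMem (c : C) (hc : ι c ∉ q) :
    IsUnit (algebraMap C (Localization.AtPrime (q.comap ι)) c) :=
  IsLocalization.map_units (Localization.AtPrime (q.comap ι))
    (⟨c, fun h => hc (Ideal.mem_comap.mp h)⟩ : (q.comap ι).primeCompl)

/-- the canonical map `E_g → C_{q ∩ C}` for a subalgebra `E ⊆ C` and `g ∈ E` not in `q`. -/
noncomputable def awayHom : Localization.Away g →ₐ[A] Localization.AtPrime (q.comap ι) :=
  IsLocalization.liftAlgHom (M := Submonoid.powers g)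
    (f := (IsScalarTower.toAlgHom A C (Localization.AtPrime (q.comap ι))).comp E.val) (by
      rintro ⟨_, n, rfl⟩
      show IsUnit (algebraMap C (Localization.AtPrime (q.comap ι)) (((g ^ n : E) : E) : C))
      rw [SubmonoidClass.coe_pow, map_pow]
      exact (isUnit_algebraMap_of_notMem ι q (g : C) hg).pow n)

theorem awayHom_algebraMap (y : E) :
    awayHom ι q E g hg (algebraMap E (Localization.Away g) y) =
      algebraMap C (Localization.AtPrime (q.comap ι)) (y : C) := by
  unfold awayHom
  rw [IsLocalization.liftAlgHom_apply, IsLocalization.lift_eq]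
  rfl

theorem mem_range_awayHom (t : Localization.AtPrime (q.comap ι)) :
    t ∈ (awayHom ι q E g hg).range ↔ ∃ (x : E) (n : ℕ),
      t * algebraMap C (Localization.AtPrime (q.comap ι)) (g : C) ^ n =
        algebraMap C (Localization.AtPrime (q.comap ι)) (x : C) := by
  constructor
  · rintro ⟨z, rfl⟩
    obtain ⟨⟨x, ⟨_, n, rfl⟩⟩, hx⟩ := IsLocalization.surj (Submonoid.powers g) z
    refine ⟨x, n, ?_⟩
    have h1 := congrArg (awayHom ι q E g hg) hx
    rw [map_mul, awayHom_algebraMap, awayHom_algebraMap] at h1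
    rw [← h1]
    congr 1
    show _ = algebraMap C (Localization.AtPrime (q.comap ι)) (((g ^ n : E) : E) : C)
    rw [SubmonoidClass.coe_pow, map_pow]
  · rintro ⟨x, n, h⟩
    refine ⟨IsLocalization.mk' (Localization.Away g) x (⟨g ^ n, n, rfl⟩ : Submonoid.powers g), ?_⟩
    have hu : IsUnit (algebraMap C (Localization.AtPrime (q.comap ι)) (g : C) ^ n) :=
      (isUnit_algebraMap_of_notMem ι q (g : C) hg).pow n
    apply hu.mul_left_injective
    show _ * _ = t * _
    rw [h]
    have h2 : algebraMap C (Localization.AtPrime (q.comap ι)) (g : C) ^ n =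
        awayHom ι q E g hg (algebraMap E (Localization.Away g) (g ^ n)) := by
      rw [awayHom_algebraMap, SubmonoidClass.coe_pow, map_pow]
    rw [h2, ← awayHom_algebraMap ι q E g hg x]
    show (awayHom ι q E g hg) _ * _ = _
    rw [← map_mul]
    congr 1
    exact IsLocalization.mk'_spec _ _ _

theorem awayHom_injective [IsDomain C] : Function.Injective (awayHom ι q E g hg) := by
  rw [injective_iff_map_eq_zero]
  intro z hz
  obtain ⟨⟨x, ⟨_, n, rfl⟩⟩, hx⟩ := IsLocalization.surj (Submonoid.powers g) z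
  have h1 := congrArg (awayHom ι q E g hg) hx
  rw [map_mul, hz, zero_mul, awayHom_algebraMap] at h1
  have h2 : (x : C) = 0 := by
    apply IsLocalization.injective (Localization.AtPrime (q.comap ι))
      (Ideal.primeCompl_le_nonZeroDivisors (q.comap ι))
    rw [← h1, map_zero]
  have h3 : x = 0 := Subtype.ext h2
  rw [h3, map_zero] at hx
  have hu : IsUnit (algebraMap E (Localization.Away g) (g ^ n)) :=
    IsLocalization.map_units (Localization.Away g) (⟨g ^ n, n, rfl⟩ : Submonoid.powers g)
  exact (hu.mul_left_eq_zero).mp hx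

theorem etale_range_awayHom [IsDomain C] (het : Algebra.Etale A (Localization.Away g)) :
    Algebra.Etale A (awayHom ι q E g hg).range :=
  Algebra.Etale.of_equiv (AlgEquiv.ofInjective (awayHom ι q E g hg) (awayHom_injective ι q E g hg))

end away

end Groth.Agent.Lib.Helper20.FQ
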