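import Mathlib
import Groth.Prelude.Def_PBC
import Groth.Agent.Lib.Helper20.PG3

/-!
# Rings of inertia invariants are ind-étale, profinite version (helper20)
-/

set_option autoImplicit false
set_option linter.style.haveILetI false
set_option linter.unusedSectionVars false
universe u

namespace Groth.Agent.Lib.Helper20.FQ

open scoped Pointwise

section level

variable {A B : Type u} [CommRing A] [CommRing B] [Algebra A B]
variable {G : Type u} [Group G] [MulSemiringAction G B] [SMulCommClass G A B]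

/-- the level-`N` part of `C` -/
def levelSub (N : Subgroup G) {C : Type u} [CommRing C] [Algebra A C] (ι : C →ₐ[A] B) :
    Subalgebra A C :=
  (FixedPoints.subalgebra A B N).comap ι

theorem mem_levelSub (N : Subgroup G) {C : Type u} [CommRing C] [Algebra A C] (ι : C →ₐ[A] B)
    (c : C) : c ∈ levelSub N ι ↔ ∀ n : G, n ∈ N → n • ι c = ι c := by
  constructor
  · intro h n hn
    exact h ⟨n, hn⟩
  · intro h n
    exact h n.1 n.2

theorem levelSub_mono {N N' : Subgroup G} (h : N' ≤ N) {C : Type u} [CommRing C] [Algebra A C]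
    (ι : C →ₐ[A] B) : levelSub N ι ≤ levelSub N' ι := by
  intro c hc
  rw [mem_levelSub] at hc ⊢
  exact fun n hn => hc n (h hn)

variable [TopologicalSpace G] [CompactSpace G] [TotallyDisconnectedSpace G] [IsTopologicalGroup G]
variable [TopologicalSpace B] [DiscreteTopology B] [ContinuousSMul G B]
variable [Algebra.IsInvariant A B G]

set_option maxHeartbeats 1600000 in
set_option synthInstance.maxHeartbeats 400000 in
theorem exists_etale_away_level (hinj : Function.Injective (algebraMap A B)) (N : Subgroup G)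
    [N.Normal] (hN : IsOpen (N : Set G)) (q : Ideal B) [q.IsPrime] (C : Type u) [CommRing C]
    [Algebra A C] (ι : C →ₐ[A] B) (hι : Function.Injective ι)
    (hrange : ∀ b : B, b ∈ Set.range ι ↔ ∀ σ : G, σ ∈ q.inertia G → σ • b = b) :
    ∃ g : levelSub N ι, ι (g : C) ∉ q ∧ Algebra.Etale A (Localization.Away g) := by
  haveI : Finite (G ⧸ N) := Subgroup.quotient_finite_of_isOpen N hN
  cases nonempty_fintype (G ⧸ N)
  let ι' : levelSub N ι →ₐ[A] FixedPoints.subalgebra A B N :=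
    (ι.comp (levelSub N ι).val).codRestrict (FixedPoints.subalgebra A B N) (fun c => c.2)
  have hι' : Function.Injective ι' := fun c c' h => by
    apply Subtype.ext
    apply hι
    exact congrArg Subtype.val h
  have hinj' : Function.Injective (algebraMap A (FixedPoints.subalgebra A B N)) := fun a a' h =>
    hinj (congrArg Subtype.val h)
  have hrange' : ∀ r : FixedPoints.subalgebra A B N, r ∈ Set.range ι' ↔
      ∀ i : G ⧸ N, i ∈ (q.inertia G).map (QuotientGroup.mk' N) → i • r = r := by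
    intro r
    constructor
    · rintro ⟨c, rfl⟩ i ⟨σ, hσ, rfl⟩
      apply Subtype.ext
      show σ • ι (c : C) = ι (c : C)
      exact (hrange (ι (c : C))).mp ⟨c, rfl⟩ σ hσ
    · intro h
      have h1 : (r : B) ∈ Set.range ι := (hrange r).mpr (fun σ hσ =>
        congrArg Subtype.val (h (QuotientGroup.mk σ) ⟨σ, hσ, rfl⟩))
      obtain ⟨c, hc⟩ := h1
      refine ⟨⟨c, ?_⟩, Subtype.ext hc⟩
      show ι c ∈ FixedPoints.subalgebra A B N
      rw [hc]
      exact r.2
  obtain ⟨g, hg, het⟩ := exists_etale_away_fixed' (G ⧸ N) (FixedPoints.subalgebra A B N) A hinj'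
    (q.under (FixedPoints.subalgebra A B N)) ((q.inertia G).map (QuotientGroup.mk' N))
    (inertia_quot_le N hN q) (levelSub N ι) ι' hι' hrange'
  exact ⟨g, fun h => hg h, het⟩

end level

section main

variable {A B : Type u} [CommRing A] [CommRing B] [Algebra A B]
variable {G : Type u} [Group G] [MulSemiringAction G B] [SMulCommClass G A B]
variable [TopologicalSpace G] [CompactSpace G] [TotallyDisconnectedSpace G] [IsTopologicalGroup G]
variable [TopologicalSpace B] [DiscreteTopology B] [ContinuousSMul G B]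
variable [Algebra.IsInvariant A B G]

set_option maxHeartbeats 1600000 in
set_option synthInstance.maxHeartbeats 400000 in
/-- Let `G` be a profinite group acting continuously on a discrete domain `B` with `B^G = A`,
`q` a prime of `B` with inertia group `I`, and `C ≅ B^I`.  Then the localization of `C` at
`q ∩ C` is ind-étale over `A`. -/
theorem isIndEtale_inertia_invariants [IsDomain B] (hinj : Function.Injective (algebraMap A B))
    (q : Ideal B) [q.IsPrime] (C : Type u) [CommRing C] [Algebra A C] (ι : C →ₐ[A] B)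
    (hι : Function.Injective ι)
    (hrange : ∀ b : B, b ∈ Set.range ι ↔ ∀ σ : G, σ ∈ q.inertia G → σ • b = b) :
    EtPBC.IsIndEtale A (Localization.AtPrime (q.comap ι)) := by
  haveI : IsDomain C := hι.isDomain ι.toRingHom
  have hlevel : ∀ (N : Subgroup G) [N.Normal], IsOpen (N : Set G) →
      ∃ g₀ : levelSub N ι, ι (g₀ : C) ∉ q ∧
        ∀ h : levelSub N ι, Algebra.Etale A (Localization.Away (g₀ * h)) := fun N _ hN => by
    obtain ⟨g, hg, het⟩ := exists_etale_away_level hinj N hN q C ι hι hrange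
    exact ⟨g, hg, fun h => etale_away_mul A _ g h het⟩
  obtain ⟨𝒮, h𝒮⟩ : ∃ 𝒮 : Set (Subalgebra A (Localization.AtPrime (q.comap ι))), ∀ S, S ∈ 𝒮 ↔
      ∃ (N : Subgroup G) (_ : N.Normal) (_ : IsOpen (N : Set G)) (g : levelSub N ι)
      (hg : ι (g : C) ∉ q), Algebra.Etale A (Localization.Away g) ∧
        S = (awayHom ι q (levelSub N ι) g hg).range :=
    ⟨{S | ∃ (N : Subgroup G) (_ : N.Normal) (_ : IsOpen (N : Set G)) (g : levelSub N ι)
      (hg : ι (g : C) ∉ q), Algebra.Etale A (Localization.Away g) ∧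
        S = (awayHom ι q (levelSub N ι) g hg).range}, fun S => Iff.rfl⟩
  have hcov : ∀ t : Localization.AtPrime (q.comap ι), ∃ S ∈ 𝒮, t ∈ S := by
    intro t
    obtain ⟨⟨c, s⟩, hcs⟩ := IsLocalization.surj (q.comap ι).primeCompl t
    have hU : IsOpen ((MulAction.stabilizer G (ι c) : Set G) ∩
        (MulAction.stabilizer G (ι (s : C)) : Set G)) :=
      (stabilizer_isOpen G (ι c)).inter (stabilizer_isOpen G (ι (s : C)))
    obtain ⟨N, hNn, hNopen, hH⟩ : ∃ N : Subgroup G, N.Normal ∧ IsOpen (N : Set G) ∧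
        (N : Set G) ⊆ (MulAction.stabilizer G (ι c) : Set G) ∩
          (MulAction.stabilizer G (ι (s : C)) : Set G) := by
      obtain ⟨H, hH⟩ := ProfiniteGrp.exist_openNormalSubgroup_sub_open_nhds_of_one hU
        ⟨one_mem _, one_mem _⟩
      exact ⟨H.1.1, inferInstance, H.1.isOpen', hH⟩
    have hc : c ∈ levelSub N ι := (mem_levelSub _ ι c).mpr (fun n hn => (hH hn).1)
    have hs : (s : C) ∈ levelSub N ι := (mem_levelSub _ ι _).mpr (fun n hn => (hH hn).2)
    obtain ⟨g₀, hg₀, het⟩ := hlevel N hNopen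
    have hsq : ι (s : C) ∉ q := fun h => s.2 (Ideal.mem_comap.mpr h)
    obtain ⟨g, hg_def⟩ : ∃ g : levelSub N ι, g = g₀ * ⟨(s : C), hs⟩ := ⟨_, rfl⟩
    have hgC : (g : C) = (g₀ : C) * (s : C) := by rw [hg_def]; rfl
    have hetg : Algebra.Etale A (Localization.Away g) := by rw [hg_def]; exact het _
    have hg : ι (g : C) ∉ q := by
      rw [hgC, map_mul]
      intro h
      rcases (Ideal.IsPrime.mem_or_mem inferInstance h) with h | h
      · exact hg₀ h
      · exact hsq h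
    refine ⟨(awayHom ι q (levelSub N ι) g hg).range,
      (h𝒮 _).mpr ⟨N, hNn, hNopen, g, hg, hetg, rfl⟩, ?_⟩
    rw [mem_range_awayHom]
    refine ⟨g₀ * ⟨c, hc⟩, 1, ?_⟩
    show t * algebraMap C _ (g : C) ^ 1 = algebraMap C _ ((g₀ : C) * c)
    rw [hgC, pow_one, map_mul, map_mul, ← hcs]
    ring
  refine isIndEtale_of_directedOn A _ 𝒮 ?_ ?_ hcov ?_
  · obtain ⟨S, hS, -⟩ := hcov 0
    exact ⟨S, hS⟩
  · intro S₁ hS₁ S₂ hS₂
    obtain ⟨N₁, hN₁n, hN₁o, g₁, hg₁, het₁, rfl⟩ := (h𝒮 _).mp hS₁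
    obtain ⟨N₂, hN₂n, hN₂o, g₂, hg₂, het₂, rfl⟩ := (h𝒮 _).mp hS₂
    have hN₃o : IsOpen ((N₁ ⊓ N₂ : Subgroup G) : Set G) := by
      rw [Subgroup.coe_inf]; exact hN₁o.inter hN₂o
    obtain ⟨g₀, hg₀, het⟩ := hlevel (N₁ ⊓ N₂) hN₃o
    have hm₁ : levelSub N₁ ι ≤ levelSub (N₁ ⊓ N₂) ι := levelSub_mono inf_le_left ι
    have hm₂ : levelSub N₂ ι ≤ levelSub (N₁ ⊓ N₂) ι := levelSub_mono inf_le_right ι
    obtain ⟨g₁', hg₁'⟩ : ∃ g₁' : levelSub (N₁ ⊓ N₂) ι, (g₁' : C) = g₁ := ⟨⟨g₁, hm₁ g₁.2⟩, rfl⟩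
    obtain ⟨g₂', hg₂'⟩ : ∃ g₂' : levelSub (N₁ ⊓ N₂) ι, (g₂' : C) = g₂ := ⟨⟨g₂, hm₂ g₂.2⟩, rfl⟩
    obtain ⟨g₃, hg₃_def⟩ : ∃ g₃ : levelSub (N₁ ⊓ N₂) ι, g₃ = g₀ * (g₁' * g₂') := ⟨_, rfl⟩
    have hg₃C : (g₃ : C) = (g₀ : C) * ((g₁ : C) * (g₂ : C)) := by
      rw [hg₃_def, ← hg₁', ← hg₂']; rfl
    have hetg₃ : Algebra.Etale A (Localization.Away g₃) := by rw [hg₃_def]; exact het _
    have hg₃ : ι (g₃ : C) ∉ q := by
      rw [hg₃C, map_mul, map_mul]
      intro h
      rcases (Ideal.IsPrime.mem_or_mem inferInstance h) with h | h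
      · exact hg₀ h
      · rcases (Ideal.IsPrime.mem_or_mem inferInstance h) with h | h
        · exact hg₁ h
        · exact hg₂ h
    refine ⟨(awayHom ι q (levelSub (N₁ ⊓ N₂) ι) g₃ hg₃).range,
      (h𝒮 _).mpr ⟨N₁ ⊓ N₂, inferInstance, hN₃o, g₃, hg₃, hetg₃, rfl⟩, ?_, ?_⟩
    · intro t ht
      rw [mem_range_awayHom] at ht ⊢
      obtain ⟨x, n, hx⟩ := ht
      refine ⟨⟨x, hm₁ x.2⟩ * (g₀ * g₂') ^ n, n, ?_⟩
      show t * algebraMap C _ (g₃ : C) ^ n =
        algebraMap C _ ((x : C) * (((g₀ * g₂') ^ n : levelSub (N₁ ⊓ N₂) ι) : C))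
      rw [SubmonoidClass.coe_pow]
      show _ = algebraMap C _ ((x : C) * ((g₀ : C) * (g₂' : C)) ^ n)
      rw [hg₃C, hg₂', map_mul, map_mul, map_mul, map_pow, map_mul, ← hx]
      ring
    · intro t ht
      rw [mem_range_awayHom] at ht ⊢
      obtain ⟨x, n, hx⟩ := ht
      refine ⟨⟨x, hm₂ x.2⟩ * (g₀ * g₁') ^ n, n, ?_⟩
      show t * algebraMap C _ (g₃ : C) ^ n =
        algebraMap C _ ((x : C) * (((g₀ * g₁') ^ n : levelSub (N₁ ⊓ N₂) ι) : C))
      rw [SubmonoidClass.coe_pow]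
      show _ = algebraMap C _ ((x : C) * ((g₀ : C) * (g₁' : C)) ^ n)
      rw [hg₃C, hg₁', map_mul, map_mul, map_mul, map_pow, map_mul, ← hx]
      ring
  · intro S hS
    obtain ⟨N, hNn, hNo, g, hg, het, rfl⟩ := (h𝒮 _).mp hS
    exact etale_range_awayHom ι q _ g hg het

end main

end Groth.Agent.Lib.Helper20.FQ
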