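import Mathlib

/-!
# Projective dimension of `E / aE` over `A / aA` for a regular element
-/

set_option autoImplicit false
universe u

namespace Groth.Agent.Lib.Helper20.PdQuot

open CategoryTheory Abelian
open scoped TensorProduct

section Basic

variable {A : Type u} [CommRing A] (a : A)

/-- The quotient `M / aM`. -/
abbrev Q (M : Type u) [AddCommGroup M] [Module A M] : Type u :=
  M ⧸ (Ideal.span {a} • (⊤ : Submodule A M))

variable {M N K : Type u} [AddCommGroup M] [Module A M] [AddCommGroup N] [Module A N]
  [AddCommGroup K] [Module A K]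

theorem mem_iff (x : M) : x ∈ (Ideal.span {a} • (⊤ : Submodule A M)) ↔ ∃ y : M, a • y = x := by
  rw [Submodule.ideal_span_singleton_smul, Submodule.mem_smul_pointwise_iff_exists]
  simp

theorem le_comap (f : M →ₗ[A] N) :
    (Ideal.span {a} • (⊤ : Submodule A M)) ≤ (Ideal.span {a} • (⊤ : Submodule A N)).comap f := by
  intro x hx
  obtain ⟨y, rfl⟩ := (mem_iff a x).mp hx
  rw [Submodule.mem_comap, map_smul]
  exact (mem_iff a _).mpr ⟨f y, rfl⟩

/-- The induced map on quotients, linear over `A / a`. -/
noncomputable def Qmap (f : M →ₗ[A] N) : Q a M →ₗ[A ⧸ Ideal.span {a}] Q a N :=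
  LinearMap.extendScalarsOfSurjective Ideal.Quotient.mk_surjective
    (Submodule.mapQ _ _ f (le_comap a f))

theorem Qmap_mk (f : M →ₗ[A] N) (x : M) :
    Qmap a f (Submodule.Quotient.mk x) = Submodule.Quotient.mk (f x) := rfl

theorem Qmap_surjective {g : M →ₗ[A] N} (hg : Function.Surjective g) :
    Function.Surjective (Qmap a g) := by
  intro y
  obtain ⟨y, rfl⟩ := Submodule.Quotient.mk_surjective _ y
  obtain ⟨x, rfl⟩ := hg y
  exact ⟨Submodule.Quotient.mk x, rfl⟩

theorem Qmap_exact {f : K →ₗ[A] M} {g : M →ₗ[A] N} (hfg : Function.Exact f g)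
    (hg : Function.Surjective g) : Function.Exact (Qmap a f) (Qmap a g) := by
  intro x
  obtain ⟨x, rfl⟩ := Submodule.Quotient.mk_surjective _ x
  constructor
  · intro hx
    rw [Qmap_mk, Submodule.Quotient.mk_eq_zero, mem_iff] at hx
    obtain ⟨m, hm⟩ := hx
    obtain ⟨y, rfl⟩ := hg m
    have h1 : g (x - a • y) = 0 := by rw [map_sub, map_smul, hm, sub_self]
    obtain ⟨k, hk⟩ := (hfg _).mp h1
    refine ⟨Submodule.Quotient.mk k, ?_⟩
    rw [Qmap_mk, hk, Submodule.Quotient.mk_sub]
    have : (Submodule.Quotient.mk (a • y) : Q a M) = 0 := by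
      rw [Submodule.Quotient.mk_eq_zero, mem_iff]
      exact ⟨y, rfl⟩
    rw [this, sub_zero]
  · rintro ⟨k, hk⟩
    obtain ⟨k, rfl⟩ := Submodule.Quotient.mk_surjective _ k
    rw [← hk, Qmap_mk, Qmap_mk, hfg.apply_apply_eq_zero]
    rfl

theorem Qmap_injective {f : K →ₗ[A] M} {g : M →ₗ[A] N} (hfg : Function.Exact f g)
    (hf : Function.Injective f) (hN : IsSMulRegular N a) : Function.Injective (Qmap a f) := by
  rw [← LinearMap.ker_eq_bot, LinearMap.ker_eq_bot']
  intro x hx
  obtain ⟨x, rfl⟩ := Submodule.Quotient.mk_surjective _ x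
  rw [Qmap_mk, Submodule.Quotient.mk_eq_zero, mem_iff] at hx
  obtain ⟨y, hy⟩ := hx
  have h1 : a • g y = a • (0 : N) := by
    rw [← map_smul, hy, hfg.apply_apply_eq_zero, smul_zero]
  have h2 : g y = 0 := hN h1
  obtain ⟨k', rfl⟩ := (hfg _).mp h2
  have h3 : x = a • k' := hf (by rw [map_smul, hy])
  rw [Submodule.Quotient.mk_eq_zero, mem_iff]
  exact ⟨k', h3.symm⟩

/-- Regular elements stay regular on free modules. -/
theorem isSMulRegular_of_free (hA : IsSMulRegular A a) [Module.Free A M] : IsSMulRegular M a := by
  intro x y hxy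
  have hxy' : a • x = a • y := hxy
  let b := Module.Free.chooseBasis A M
  apply b.repr.injective
  ext i
  have := congrArg (fun z => b.repr z i) hxy'
  simp only [map_smul, Finsupp.smul_apply, smul_eq_mul] at this
  exact hA this

theorem isSMulRegular_of_injective (f : K →ₗ[A] M) (hf : Function.Injective f)
    (hM : IsSMulRegular M a) : IsSMulRegular K a := by
  intro x y hxy
  have hxy' : a • x = a • y := hxy
  apply hf
  apply hM
  show a • f x = a • f y
  rw [← map_smul, ← map_smul, hxy']

/-- Projectivity passes to the quotient. -/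
theorem projective_Q [Module.Projective A M] : Module.Projective (A ⧸ Ideal.span {a}) (Q a M) := by
  let e : (A ⧸ Ideal.span {a}) ⊗[A] M ≃ₗ[A ⧸ Ideal.span {a}] Q a M :=
    (TensorProduct.quotTensorEquivQuotSMul M (Ideal.span {a})).extendScalarsOfSurjective
      Ideal.Quotient.mk_surjective
  exact Module.Projective.of_equiv e

end Basic

section Main

variable {A : Type u} [CommRing A] (a : A)

theorem hasPdLT_Q (hA : IsSMulRegular A a) (n : ℕ) :
    ∀ (M : Type u) [AddCommGroup M] [Module A M], IsSMulRegular M a →
    HasProjectiveDimensionLT (ModuleCat.of A M) (n + 1) →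
    HasProjectiveDimensionLT (ModuleCat.of (A ⧸ Ideal.span {a}) (Q a M)) (n + 1) := by
  induction n with
  | zero =>
    intro M _ _ hM h
    rw [zero_add, ← projective_iff_hasProjectiveDimensionLT_one,
      ← IsProjective.iff_projective] at h ⊢
    exact projective_Q a
  | succ n ih =>
    intro M _ _ hM h
    let S := (ModuleCat.of A M).projectiveShortComplex
    have hS : S.ShortExact := (ModuleCat.of A M).shortExact_projectiveShortComplex
    have hproj : Projective S.X₂ := inferInstance
    have h1 : HasProjectiveDimensionLT S.X₁ (n + 1) :=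
      (hS.hasProjectiveDimensionLT_X₃_iff n hproj).mp h
    have hX2 : IsSMulRegular S.X₂ a := isSMulRegular_of_free a hA
    have hinj : Function.Injective S.f.hom := hS.moduleCat_injective_f
    have hsurj : Function.Surjective S.g.hom := hS.moduleCat_surjective_g
    have hex : Function.Exact S.f.hom S.g.hom :=
      (ShortComplex.ShortExact.moduleCat_exact_iff_function_exact _).mp hS.exact
    have hX1 : IsSMulRegular S.X₁ a := isSMulRegular_of_injective a S.f.hom hinj hX2
    have h2 := ih S.X₁ hX1 h1
    let S' : ShortComplex (ModuleCat.{u} (A ⧸ Ideal.span {a})) :=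
      ShortComplex.mk (ModuleCat.ofHom (Qmap a S.f.hom)) (ModuleCat.ofHom (Qmap a S.g.hom)) (by
        ext x
        obtain ⟨x, rfl⟩ := Submodule.Quotient.mk_surjective _ x
        simp only [ModuleCat.hom_comp, ModuleCat.hom_ofHom, LinearMap.comp_apply, Qmap_mk]
        rw [hex.apply_apply_eq_zero]
        rfl)
    have hS' : S'.ShortExact :=
      { exact := (ShortComplex.ShortExact.moduleCat_exact_iff_function_exact _).mpr
          (Qmap_exact a hex hsurj)
        mono_f := (ModuleCat.mono_iff_injective _).mpr (Qmap_injective a hex hinj hM)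
        epi_g := (ModuleCat.epi_iff_surjective _).mpr (Qmap_surjective a hsurj) }
    have hproj' : Projective S'.X₂ := by
      rw [← IsProjective.iff_projective]
      exact projective_Q a
    exact (hS'.hasProjectiveDimensionLT_X₃_iff n hproj').mpr h2

theorem projectiveDimension_Q_le (hA : IsSMulRegular A a) (M : Type u) [AddCommGroup M]
    [Module A M] (hM : IsSMulRegular M a)
    (hfin : projectiveDimension (ModuleCat.of A M) ≠ ⊤) :
    projectiveDimension (ModuleCat.of (A ⧸ Ideal.span {a}) (Q a M)) ≤
      projectiveDimension (ModuleCat.of A M) := by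
  generalize hd : projectiveDimension (ModuleCat.of A M) = d at hfin ⊢
  induction d with
  | bot =>
    rw [projectiveDimension_eq_bot_iff, ModuleCat.isZero_iff_subsingleton] at hd
    have : Subsingleton (Q a M) := inferInstance
    rw [le_bot_iff, projectiveDimension_eq_bot_iff, ModuleCat.isZero_iff_subsingleton]
    exact this
  | coe d =>
    induction d with
    | top => exact absurd rfl hfin
    | coe n =>
      have h1 : HasProjectiveDimensionLE (ModuleCat.of A M) n :=
        (projectiveDimension_le_iff _ n).mp hd.le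
      exact (projectiveDimension_le_iff _ n).mpr (hasPdLT_Q a hA n M hM h1)

end Main

end Groth.Agent.Lib.Helper20.PdQuot
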