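import Mathlib
import Groth.Agent.Lib.Helper21.InvertibleLocal

/-! A finite flat (e.g. finite projective) module whose rank at every prime is `1` is invertible. -/

set_option autoImplicit false

namespace Groth.Agent.Lib.Helper20.RankOneInv

universe u

variable {R : Type u} [CommRing R] {M : Type u} [AddCommGroup M] [Module R M]

theorem invertible_of_rankAtStalk_eq_one [Module.Finite R M] [Module.Flat R M]
    (h : ∀ p : PrimeSpectrum R, Module.rankAtStalk M p = 1) : Module.Invertible R M := by
  classical
  let s : Set R := {a | Nonempty
    (LocalizedModule.Away a M ≃ₗ[Localization.Away a] Localization.Away a)}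
  refine Groth.Agent.Lib.Helper21.invertible_of_localizationSpan s ?_ (fun f hf => hf)
  by_contra hne
  obtain ⟨𝔪, hmax, hle⟩ := Ideal.exists_le_maximal _ hne
  obtain ⟨a, ha, hfree⟩ := Module.Free.away_of_finite_of_flat_of_rankAtStalk_constant M 𝔪
    (fun m _ => by rw [h, h])
  apply ha
  apply hle
  apply Ideal.subset_span
  show Nonempty (LocalizedModule.Away a M ≃ₗ[Localization.Away a] Localization.Away a)
  rcases subsingleton_or_nontrivial (Localization.Away a) with hs | hn
  · have : Subsingleton (LocalizedModule.Away a M) :=
      Module.subsingleton (Localization.Away a) _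
    exact ⟨LinearEquiv.ofSubsingleton _ _⟩
  · obtain ⟨q, hq⟩ := Ideal.exists_maximal (Localization.Away a)
    have hqp : q.IsPrime := hq.isPrime
    have hbc : IsBaseChange (Localization.Away a)
        (LocalizedModule.mkLinearMap (Submonoid.powers a) M) :=
      IsLocalizedModule.isBaseChange (Submonoid.powers a) (Localization.Away a) _
    have h1 := Module.rankAtStalk_isBaseChange hbc ⟨q, hqp⟩
    rw [h] at h1
    have h2 : Module.finrank (Localization.Away a) (LocalizedModule.Away a M) = 1 := by
      have h3 := congrFun (Module.rankAtStalk_eq_finrank_of_free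
        (R := Localization.Away a) (M := LocalizedModule.Away a M)) ⟨q, hqp⟩
      rw [h1] at h3
      simpa using h3.symm
    obtain ⟨e⟩ := Module.nonempty_linearEquiv_of_finrank_eq_one h2
    exact ⟨e.symm⟩

end Groth.Agent.Lib.Helper20.RankOneInv
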