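import Mathlib
import Groth.Agent.Lib.Helper12.Mil5
import Groth.Agent.Lib.Helper20.RankOneInv

/-! Surjectivity of `Pic B' → Pic B` for a Milnor square `B' = B ×_A A'` with both `B' → B`, `B' → A'`
surjective and `Pic A` trivial (Milnor patching of invertible modules). -/

set_option autoImplicit false
set_option linter.unusedSectionVars false
set_option linter.style.haveILetI false

namespace Groth.Agent.Lib.Helper20.PicMilnor

universe u

open TensorProduct Groth.Agent.Lib.Helper12.Mil Groth.Agent.Lib.Helper20.RankOneInv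

variable {B' B A' A : Type u} [CommRing B'] [CommRing B] [CommRing A'] [CommRing A]
  [Algebra B' B] [Algebra B' A'] [Algebra B A] [Algebra A' A] [Algebra B' A]
  [IsScalarTower B' B A] [IsScalarTower B' A' A]

theorem ker_inf_ker (hsq : EtMil.IsFibreSquare B' B A' A) :
    RingHom.ker (algebraMap B' B) ⊓ RingHom.ker (algebraMap B' A') = ⊥ := by
  rw [eq_bot_iff]
  intro x hx
  have h1 : algebraMap B' B x = 0 := hx.1
  have h2 : algebraMap B' A' x = 0 := hx.2
  obtain ⟨b', -, huniq⟩ := hsq.2 0 0 (by simp)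
  have e1 := huniq x ⟨h1, h2⟩
  have e2 := huniq 0 ⟨map_zero _, map_zero _⟩
  rw [Ideal.mem_bot, e1, e2]

theorem rank_of_ker_le {G : Type u} [AddCommGroup G] [Module B' G] [Module.Finite B' G]
    [Module.Flat B' G] {C : Type u} [CommRing C] [Algebra B' C]
    (hs : Function.Surjective (algebraMap B' C))
    {N : Type u} [AddCommGroup N] [Module C N] [Module.Invertible C N]
    (e : C ⊗[B'] G ≃ₗ[C] N)
    (p : PrimeSpectrum B') (hp : RingHom.ker (algebraMap B' C) ≤ p.asIdeal) :
    Module.rankAtStalk G p = 1 := by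
  have hq : (p.asIdeal.map (algebraMap B' C)).IsPrime :=
    Ideal.map_isPrime_of_surjective hs hp
  have hcomap : PrimeSpectrum.comap (algebraMap B' C) ⟨_, hq⟩ = p := by
    ext1
    show (p.asIdeal.map (algebraMap B' C)).comap (algebraMap B' C) = p.asIdeal
    rw [Ideal.comap_map_of_surjective _ hs]
    exact sup_eq_left.mpr hp
  have h1 := Module.rankAtStalk_baseChange (R := B') (M := G) (S := C) ⟨_, hq⟩
  rw [hcomap] at h1
  rw [← h1, Module.rankAtStalk_eq_of_equiv e]
  simp [Module.rankAtStalk, Module.Invertible.finrank_eq_one]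

theorem pic_surjective (hsq : EtMil.IsFibreSquare B' B A' A)
    (hs1 : Function.Surjective (algebraMap B' B)) (hs2 : Function.Surjective (algebraMap B' A'))
    [Subsingleton (CommRing.Pic A)] :
    Function.Surjective (CommRing.Pic.mapAlgebra B' B) := by
  intro L
  let _ : Module B' L := Module.compHom L (algebraMap B' B)
  have : IsScalarTower B' B L := IsScalarTower.of_algebraMap_smul (fun r x => rfl)
  have hfree : Module.Free A (A ⊗[B] L) := inferInstance
  obtain ⟨e1⟩ := (Module.Invertible.free_iff_linearEquiv (R := A) (M := A ⊗[B] L)).mp hfree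
  let φ : A ⊗[B] L ≃ₗ[A] A ⊗[A'] A' :=
    e1 ≪≫ₗ (TensorProduct.AlgebraTensorModule.rid A' A A).symm
  have hfin : Module.Finite B' (EtMil.glue B' φ) := finite_glue φ hsq
  have hproj : Module.Projective B' (EtMil.glue B' φ) := projective_glue φ hsq
  have hrank : ∀ p : PrimeSpectrum B', Module.rankAtStalk (EtMil.glue B' φ) p = 1 := by
    intro p
    have hmul : RingHom.ker (algebraMap B' B) * RingHom.ker (algebraMap B' A') ≤ p.asIdeal := by
      refine le_trans Ideal.mul_le_inf ?_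
      rw [ker_inf_ker hsq]
      exact bot_le
    rcases (Ideal.IsPrime.mul_le p.2).mp hmul with h | h
    · exact rank_of_ker_le hs1 (fstEquiv φ hsq) p h
    · exact rank_of_ker_le hs2 (sndEquiv φ hsq) p h
  have : Module.Invertible B' (EtMil.glue B' φ) := invertible_of_rankAtStalk_eq_one hrank
  refine ⟨CommRing.Pic.mk B' (EtMil.glue B' φ), ?_⟩
  show CommRing.Pic.mk B (B ⊗[B'] (CommRing.Pic.mk B' (EtMil.glue B' φ))) = L
  rw [CommRing.Pic.mk_eq_iff]
  exact ⟨(TensorProduct.AlgebraTensorModule.congr (LinearEquiv.refl B B)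
    (CommRing.Pic.mk.linearEquiv B' (EtMil.glue B' φ))) ≪≫ₗ fstEquiv φ hsq⟩

/-- Ideal form: for ideals `I₀ ≤ I₁, I₂` of `R` with `I₁ ⊓ I₂ ≤ I₀` and `Pic (R/(I₁+I₂))` trivial,
`Pic (R/I₀) → Pic (R/I₁)` is surjective. -/
theorem pic_surjective_of_ideals {R : Type u} [CommRing R] (I₀ I₁ I₂ : Ideal R)
    (h1 : I₀ ≤ I₁) (h2 : I₀ ≤ I₂) (hinf : I₁ ⊓ I₂ ≤ I₀)
    [Subsingleton (CommRing.Pic (R ⧸ (I₁ ⊔ I₂)))] :
    Function.Surjective (CommRing.Pic.mapRingHom (Ideal.Quotient.factor h1)) := by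
  letI a1 : Algebra (R ⧸ I₀) (R ⧸ I₁) := (Ideal.Quotient.factor h1).toAlgebra
  letI a2 : Algebra (R ⧸ I₀) (R ⧸ I₂) := (Ideal.Quotient.factor h2).toAlgebra
  letI a3 : Algebra (R ⧸ I₁) (R ⧸ (I₁ ⊔ I₂)) := (Ideal.Quotient.factor le_sup_left).toAlgebra
  letI a4 : Algebra (R ⧸ I₂) (R ⧸ (I₁ ⊔ I₂)) := (Ideal.Quotient.factor le_sup_right).toAlgebra
  letI a5 : Algebra (R ⧸ I₀) (R ⧸ (I₁ ⊔ I₂)) :=
    (Ideal.Quotient.factor (h1.trans le_sup_left)).toAlgebra
  haveI t1 : IsScalarTower (R ⧸ I₀) (R ⧸ I₁) (R ⧸ (I₁ ⊔ I₂)) :=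
    IsScalarTower.of_algebraMap_eq (fun x => by
      obtain ⟨r, rfl⟩ := Ideal.Quotient.mk_surjective x
      rfl)
  haveI t2 : IsScalarTower (R ⧸ I₀) (R ⧸ I₂) (R ⧸ (I₁ ⊔ I₂)) :=
    IsScalarTower.of_algebraMap_eq (fun x => by
      obtain ⟨r, rfl⟩ := Ideal.Quotient.mk_surjective x
      rfl)
  have hs1 : Function.Surjective (algebraMap (R ⧸ I₀) (R ⧸ I₁)) :=
    Ideal.Quotient.factor_surjective h1
  have hs2 : Function.Surjective (algebraMap (R ⧸ I₀) (R ⧸ I₂)) :=
    Ideal.Quotient.factor_surjective h2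
  have hsq : EtMil.IsFibreSquare (R ⧸ I₀) (R ⧸ I₁) (R ⧸ I₂) (R ⧸ (I₁ ⊔ I₂)) := by
    constructor
    · exact Ideal.Quotient.factor_surjective le_sup_right
    · intro b a' hba
      obtain ⟨x, rfl⟩ := Ideal.Quotient.mk_surjective b
      obtain ⟨y, rfl⟩ := Ideal.Quotient.mk_surjective a'
      have hxy : x - y ∈ I₁ ⊔ I₂ := Ideal.Quotient.eq.mp hba
      obtain ⟨i, hi, j, hj, hij⟩ := Submodule.mem_sup.mp hxy
      refine ⟨Ideal.Quotient.mk I₀ (x - i), ⟨?_, ?_⟩, ?_⟩
      · show Ideal.Quotient.mk I₁ (x - i) = Ideal.Quotient.mk I₁ x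
        rw [Ideal.Quotient.eq]
        have : x - i - x = -i := by ring
        rw [this]
        exact I₁.neg_mem hi
      · show Ideal.Quotient.mk I₂ (x - i) = Ideal.Quotient.mk I₂ y
        rw [Ideal.Quotient.eq]
        have : x - i - y = j := by linear_combination -hij
        rw [this]
        exact hj
      · rintro z ⟨hz1, hz2⟩
        obtain ⟨w, rfl⟩ := Ideal.Quotient.mk_surjective z
        have hz1' : Ideal.Quotient.mk I₁ w = Ideal.Quotient.mk I₁ x := hz1
        have hz2' : Ideal.Quotient.mk I₂ w = Ideal.Quotient.mk I₂ y := hz2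
        rw [Ideal.Quotient.eq] at hz1' hz2' ⊢
        apply hinf
        constructor
        · have : w - (x - i) = (w - x) + i := by ring
          rw [this]
          exact I₁.add_mem hz1' hi
        · have : w - (x - i) = (w - y) - j := by linear_combination hij
          rw [this]
          exact I₂.sub_mem hz2' hj
  exact pic_surjective hsq hs1 hs2

end Groth.Agent.Lib.Helper20.PicMilnor
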