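import Mathlib

/-!
# Kronecker's theorem for integrally closed domains

If `A` is an integrally closed domain with fraction field `K` and `f g : K[X]` satisfy
`f * g ∈ A[X]`, then every product `f_i * g_j` lies in `A`.
Proved via valuation subrings (Gauss lemma modulo the maximal ideal).
-/

set_option autoImplicit false
open Polynomial

namespace Groth.Agent.Lib.Helper20.PicPoly

section Val
variable {K : Type*} [Field K]

/-- scaling a nonzero polynomial so that all coefficients are in `V` and one is `1`. -/
lemma exists_scale (V : ValuationSubring K) (f : K[X]) (hf : f ≠ 0) :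
    ∃ (a : K) (F : (V : Type _)[X]) (i₀ : ℕ), a ≠ 0 ∧
      F.map (algebraMap V K) = C a * f ∧ F.coeff i₀ = 1 := by
  classical
  have hne : f.support.Nonempty := by
    rwa [Finset.nonempty_iff_ne_empty, Ne, Polynomial.support_eq_empty]
  obtain ⟨i₀, hi₀, hmax⟩ := Finset.exists_max_image f.support
    (fun i => V.valuation (f.coeff i)) hne
  have hc0 : f.coeff i₀ ≠ 0 := Polynomial.mem_support_iff.mp hi₀
  have hmem : ∀ i, (f.coeff i₀)⁻¹ * f.coeff i ∈ V := by
    intro i
    rw [← ValuationSubring.valuation_le_one_iff, map_mul, map_inv₀]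
    have hv0 : V.valuation (f.coeff i₀) ≠ 0 := (Valuation.ne_zero_iff _).mpr hc0
    have hle : V.valuation (f.coeff i) ≤ V.valuation (f.coeff i₀) := by
      by_cases hi : i ∈ f.support
      · exact hmax i hi
      · rw [Polynomial.notMem_support_iff.mp hi, map_zero]; exact zero_le'
    calc (V.valuation (f.coeff i₀))⁻¹ * V.valuation (f.coeff i)
        ≤ (V.valuation (f.coeff i₀))⁻¹ * V.valuation (f.coeff i₀) := by gcongr
      _ = 1 := inv_mul_cancel₀ hv0
  have hl : C (f.coeff i₀)⁻¹ * f ∈ Polynomial.lifts (algebraMap V K) := by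
    rw [Polynomial.lifts_iff_coeff_lifts]
    intro n
    rw [Polynomial.coeff_C_mul]
    exact ⟨⟨_, hmem n⟩, rfl⟩
  obtain ⟨F, hF⟩ := hl
  replace hF : F.map (algebraMap V K) = C (f.coeff i₀)⁻¹ * f := hF
  refine ⟨(f.coeff i₀)⁻¹, F, i₀, inv_ne_zero hc0, hF, ?_⟩
  apply Subtype.ext
  have := congrArg (fun p => p.coeff i₀) hF
  simp only [Polynomial.coeff_map, Polynomial.coeff_C_mul] at this
  exact this.trans (by rw [inv_mul_cancel₀ hc0]; rfl)


/-- Gauss lemma for valuation subrings. -/
lemma gauss_val (V : ValuationSubring K) (f g : K[X]) (hfg : ∀ l, (f * g).coeff l ∈ V)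
    (i j : ℕ) : f.coeff i * g.coeff j ∈ V := by
  by_cases hf : f = 0
  · simp [hf, V.zero_mem]
  by_cases hg : g = 0
  · simp [hg, V.zero_mem]
  obtain ⟨a, F, i₀, ha, hF, hF1⟩ := exists_scale V f hf
  obtain ⟨b, G, j₀, hb, hG, hG1⟩ := exists_scale V g hg
  -- reductions are nonzero
  have hFbar : F.map (IsLocalRing.residue V) ≠ 0 := by
    intro h
    have := congrArg (fun p => p.coeff i₀) h
    simp [hF1] at this
  have hGbar : G.map (IsLocalRing.residue V) ≠ 0 := by
    intro h
    have := congrArg (fun p => p.coeff j₀) h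
    simp [hG1] at this
  have hFG : (F * G).map (IsLocalRing.residue V) ≠ 0 := by
    rw [Polynomial.map_mul]
    exact mul_ne_zero hFbar hGbar
  obtain ⟨l, hl⟩ : ∃ l, ((F * G).map (IsLocalRing.residue V)).coeff l ≠ 0 := by
    by_contra hcon
    push Not at hcon
    exact hFG (Polynomial.ext (by simpa using hcon))
  rw [Polynomial.coeff_map] at hl
  have hu : IsUnit ((F * G).coeff l) := by
    rw [← IsLocalRing.notMem_maximalIdeal]
    rwa [Ne, IsLocalRing.residue_eq_zero_iff] at hl
  -- the value in K
  have hval : ((F * G).coeff l : K) = a * b * (f * g).coeff l := by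
    have h1 : (F * G).map (algebraMap V K) = C (a * b) * (f * g) := by
      rw [Polynomial.map_mul, hF, hG, C_mul]; ring
    have := congrArg (fun p => p.coeff l) h1
    simp only [Polynomial.coeff_map, Polynomial.coeff_C_mul] at this
    exact this
  obtain ⟨u, hu'⟩ := hu
  have hfgl : (f * g).coeff l ≠ 0 := by
    intro h0
    rw [h0, mul_zero] at hval
    have : (F * G).coeff l = 0 := Subtype.ext hval
    rw [← hu'] at this
    exact u.ne_zero this
  -- (ab)⁻¹ ∈ V
  have hinv : (a * b)⁻¹ ∈ V := by
    have hab : a * b ≠ 0 := mul_ne_zero ha hb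
    have h2 : (a * b)⁻¹ = (f * g).coeff l * ((u⁻¹ : (V : Type _)ˣ) : V) := by
      have h3 : ((u : V) : K) * (((u⁻¹ : (V : Type _)ˣ) : V) : K) = 1 := by
        have : (u : V) * ((u⁻¹ : (V : Type _)ˣ) : V) = 1 := by simp
        exact_mod_cast congrArg (fun x : V => (x : K)) this
      rw [hu'] at h3
      rw [hval] at h3
      exact inv_eq_of_mul_eq_one_right (by rw [← h3]; ring)
    rw [h2]
    exact V.mul_mem _ _ (hfg l) (Subtype.mem _)
  have hai : a * f.coeff i ∈ V := by
    have := congrArg (fun p => p.coeff i) hF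
    simp only [Polynomial.coeff_map, Polynomial.coeff_C_mul] at this
    rw [← this]; exact Subtype.mem _
  have hbj : b * g.coeff j ∈ V := by
    have := congrArg (fun p => p.coeff j) hG
    simp only [Polynomial.coeff_map, Polynomial.coeff_C_mul] at this
    rw [← this]; exact Subtype.mem _
  have : f.coeff i * g.coeff j = (a * b)⁻¹ * ((a * f.coeff i) * (b * g.coeff j)) := by
    field_simp
  rw [this]
  exact V.mul_mem _ _ hinv (V.mul_mem _ _ hai hbj)

end Val

section Kronecker
variable {A K : Type*} [CommRing A] [IsDomain A] [IsIntegrallyClosed A] [Field K] [Algebra A K]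
  [IsFractionRing A K]

lemma icl_range : IsIntegrallyClosedIn (algebraMap A K).range K := by
  rw [Subring.isIntegrallyClosedIn_iff]
  intro x hx
  letI : Algebra A (algebraMap A K).range := (algebraMap A K).rangeRestrict.toAlgebra
  haveI : IsScalarTower A (algebraMap A K).range K := IsScalarTower.of_algebraMap_eq (fun _ => rfl)
  haveI : Algebra.IsIntegral A (algebraMap A K).range :=
    Algebra.isIntegral_of_surjective (algebraMap A K).rangeRestrict_surjective
  have hx' : IsIntegral A x := isIntegral_trans x hx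
  obtain ⟨y, hy⟩ := (isIntegrallyClosed_iff K).mp ‹_› hx'
  exact ⟨y, hy⟩

lemma exists_valuationSubring {x : K} (hx : x ∉ (algebraMap A K).range) :
    ∃ V : ValuationSubring K, (∀ a : A, algebraMap A K a ∈ V) ∧ x ∉ V := by
  haveI := icl_range (A := A) (K := K)
  obtain ⟨V, hV, hxV⟩ := Subring.exists_le_valuationSubring_of_isIntegrallyClosedIn
    (R := (algebraMap A K).range) hx
  exact ⟨V, fun a => hV ⟨a, rfl⟩, hxV⟩

/-- **Kronecker's theorem** for an integrally closed domain. -/
theorem kronecker (f g : K[X]) (h : ∀ l, (f * g).coeff l ∈ (algebraMap A K).range) (i j : ℕ) :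
    f.coeff i * g.coeff j ∈ (algebraMap A K).range := by
  by_contra hx
  obtain ⟨V, hV, hxV⟩ := exists_valuationSubring hx
  exact hxV (gauss_val V f g (fun l => by obtain ⟨a, ha⟩ := h l; rw [← ha]; exact hV a) i j)

end Kronecker

end Groth.Agent.Lib.Helper20.PicPoly
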