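import Mathlib
import Groth.Agent.Lib.Helper20.PicPoly1

/-!
# Invertible modules over `A[X]` for an integrally closed domain `A`

An invertible `A[X]`-module `N` embeds in `K[X]` with image `𝔞[X]` for an `A`-submodule `𝔞 ⊆ K`;
consequently `N ⧸ (X - c) N ≃ₗ[A] 𝔞` for every `c : A`.
-/

set_option autoImplicit false
open Polynomial TensorProduct

namespace Groth.Agent.Lib.Helper20.PicPoly

attribute [local instance] Polynomial.algebra

section Embed
variable {A K : Type*} [CommRing A] [IsDomain A] [Field K] [Algebra A K] [IsFractionRing A K]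
variable {N : Type*} [AddCommGroup N] [Module A[X] N] [Module.Invertible A[X] N]

theorem exists_embedding :
    ∃ j : N →ₗ[A[X]] K[X], Function.Injective j ∧
      ∀ φ : N →ₗ[A[X]] A[X], ∃ h : K[X], ∀ n, (φ n).map (algebraMap A K) = h * j n := by
  obtain ⟨e⟩ := (Module.Invertible.free_iff_linearEquiv (R := K[X])
    (M := K[X] ⊗[A[X]] N)).mp inferInstance
  let j : N →ₗ[A[X]] K[X] :=
    (e.toLinearMap.restrictScalars A[X]) ∘ₗ (TensorProduct.mk A[X] K[X] N 1)
  have hj : ∀ n, j n = e ((1 : K[X]) ⊗ₜ n) := fun n => rfl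
  refine ⟨j, ?_, ?_⟩
  · have h1 : Function.Injective (TensorProduct.mk A[X] K[X] N 1) := by
      have hinj : Function.Injective (Algebra.linearMap A[X] K[X]) :=
        FaithfulSMul.algebraMap_injective _ _
      have h2 := Module.Flat.rTensor_preserves_injective_linearMap (M := N)
        (Algebra.linearMap A[X] K[X]) hinj
      intro x y hxy
      have hx : ∀ z : N, (TensorProduct.mk A[X] K[X] N 1) z =
          (LinearMap.rTensor N (Algebra.linearMap A[X] K[X])) ((1 : A[X]) ⊗ₜ z) := by
        intro z; simp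
      rw [hx x, hx y] at hxy
      have h3 := h2 hxy
      have h4 := congrArg (TensorProduct.lid A[X] N) h3
      simpa using h4
    exact e.injective.comp h1
  · intro φ
    let φL : K[X] ⊗[A[X]] N →ₗ[K[X]] K[X] :=
      (TensorProduct.AlgebraTensorModule.rid A[X] K[X] K[X]).toLinearMap ∘ₗ (φ.baseChange K[X])
    refine ⟨φL (e.symm 1), fun n => ?_⟩
    have h1 : φL ((1 : K[X]) ⊗ₜ n) = (φ n).map (algebraMap A K) := by
      simp [φL, Algebra.smul_def]
    have h2 : (1 : K[X]) ⊗ₜ[A[X]] n = e.symm (j n) := by simp [hj]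
    rw [← h1, h2]
    have h3 : e.symm (j n) = j n • e.symm 1 := by rw [← map_smul, smul_eq_mul, mul_one]
    rw [h3, map_smul, smul_eq_mul, mul_comm]

end Embed

section Coeff
variable {A K : Type*} [CommRing A] [IsDomain A] [IsIntegrallyClosed A] [Field K] [Algebra A K]
  [IsFractionRing A K]
variable {N : Type*} [AddCommGroup N] [Module A[X] N] [Module.Invertible A[X] N]

/-- the `A`-module generated by the coefficients of the image of `j` -/
def coeffModule (j : N →ₗ[A[X]] K[X]) : Submodule A K :=
  Submodule.span A {x | ∃ n i, x = (j n).coeff i}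

lemma coeff_mem (j : N →ₗ[A[X]] K[X]) (n : N) (i : ℕ) : (j n).coeff i ∈ coeffModule j :=
  Submodule.subset_span ⟨n, i, rfl⟩

lemma map_smul_eq (j : N →ₗ[A[X]] K[X]) (r : A[X]) (n : N) :
    r.map (algebraMap A K) * j n = j (r • n) := by
  rw [map_smul, Algebra.smul_def]; rfl

theorem mem_range_of_coeff_mem (j : N →ₗ[A[X]] K[X])
    (hdual : ∀ φ : N →ₗ[A[X]] A[X], ∃ h : K[X], ∀ n, (φ n).map (algebraMap A K) = h * j n)
    (f : K[X]) (hf : ∀ i, f.coeff i ∈ coeffModule j) : f ∈ LinearMap.range j := by
  classical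
  let T : Ideal A[X] :=
    { carrier := {p | ∀ f : K[X], (∀ i, f.coeff i ∈ coeffModule j) →
        f * p.map (algebraMap A K) ∈ LinearMap.range j}
      add_mem' := by
        intro p q hp hq f hf
        rw [Polynomial.map_add, mul_add]
        exact add_mem (hp f hf) (hq f hf)
      zero_mem' := by
        intro f hf
        simp
      smul_mem' := by
        intro r p hp f hf
        obtain ⟨n, hn⟩ := hp f hf
        refine ⟨r • n, ?_⟩
        rw [← map_smul_eq, hn, smul_eq_mul, Polynomial.map_mul]
        ring }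
  have hgen : ∀ (φ : N →ₗ[A[X]] A[X]) (n : N), φ n ∈ T := by
    intro φ n f hf
    obtain ⟨h, hh⟩ := hdual φ
    -- f * h has coefficients in A
    have hcoef : ∀ (y : ℕ) (a : K), a ∈ coeffModule j →
        a * h.coeff y ∈ (algebraMap A K).range := by
      intro y a ha
      refine Submodule.span_induction (p := fun a _ => a * h.coeff y ∈ (algebraMap A K).range)
        ?_ ?_ ?_ ?_ ha
      · rintro x ⟨n', i, rfl⟩
        rw [mul_comm]
        refine kronecker h (j n') (fun l => ?_) y i
        rw [← hh n', Polynomial.coeff_map]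
        exact ⟨_, rfl⟩
      · simp
      · intro x y' _ _ hx hy
        rw [add_mul]; exact add_mem hx hy
      · intro a' x _ hx
        rw [Algebra.smul_def, mul_assoc]
        exact mul_mem ⟨a', rfl⟩ hx
    have hl : f * h ∈ Polynomial.lifts (algebraMap A K) := by
      rw [Polynomial.lifts_iff_coeff_lifts]
      intro l
      have h5 : (f * h).coeff l ∈ (algebraMap A K).range := by
        rw [Polynomial.coeff_mul]
        exact sum_mem (fun x _ => hcoef x.2 _ (hf x.1))
      exact h5
    obtain ⟨r, hr⟩ := hl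
    replace hr : r.map (algebraMap A K) = f * h := hr
    refine ⟨r • n, ?_⟩
    rw [← map_smul_eq, hr, hh n]
    ring
  have hall : ∀ t : Module.Dual A[X] N ⊗[A[X]] N, contractLeft A[X] N t ∈ T := by
    intro t
    induction t using TensorProduct.induction_on with
    | zero => simp
    | tmul φ n => rw [contractLeft_apply]; exact hgen φ n
    | add x y hx hy => rw [map_add]; exact add_mem hx hy
  obtain ⟨t, ht⟩ := (Module.Invertible.bijective (R := A[X]) (M := N)).2 1
  have h1 : (1 : A[X]) ∈ T := ht ▸ hall t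
  have := h1 f hf
  simpa using this

end Coeff

section Quot
variable {A K : Type*} [CommRing A] [IsDomain A] [IsIntegrallyClosed A] [Field K] [Algebra A K]
  [IsFractionRing A K]
variable {N : Type*} [AddCommGroup N] [Module A[X] N] [Module.Invertible A[X] N]
  [Module A N] [IsScalarTower A A[X] N]

/-- evaluation at `c` of the embedded module -/
noncomputable def evalMap (j : N →ₗ[A[X]] K[X]) (c : A) : N →ₗ[A] K :=
  ((Polynomial.leval (algebraMap A K c)).restrictScalars A) ∘ₗ (j.restrictScalars A)

lemma evalMap_apply (j : N →ₗ[A[X]] K[X]) (c : A) (n : N) :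
    evalMap j c n = (j n).eval (algebraMap A K c) := rfl

lemma range_evalMap (j : N →ₗ[A[X]] K[X])
    (hdual : ∀ φ : N →ₗ[A[X]] A[X], ∃ h : K[X], ∀ n, (φ n).map (algebraMap A K) = h * j n)
    (c : A) : LinearMap.range (evalMap j c) = coeffModule j := by
  apply le_antisymm
  · rintro _ ⟨n, rfl⟩
    rw [evalMap_apply, Polynomial.eval_eq_sum_range]
    refine sum_mem (fun i _ => ?_)
    rw [← map_pow, mul_comm, ← Algebra.smul_def]
    exact Submodule.smul_mem _ _ (coeff_mem j n i)
  · intro a ha
    obtain ⟨n, hn⟩ := mem_range_of_coeff_mem j hdual (C a) (fun i => by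
      rw [coeff_C]; split_ifs
      · exact ha
      · exact zero_mem _)
    exact ⟨n, by rw [evalMap_apply, hn, eval_C]⟩

lemma ker_evalMap (j : N →ₗ[A[X]] K[X]) (hinj : Function.Injective j)
    (hdual : ∀ φ : N →ₗ[A[X]] A[X], ∃ h : K[X], ∀ n, (φ n).map (algebraMap A K) = h * j n)
    (c : A) : LinearMap.ker (evalMap j c) =
      (Ideal.span {X - C c} • ⊤ : Submodule A[X] N).restrictScalars A := by
  apply le_antisymm
  · intro n hn
    rw [LinearMap.mem_ker, evalMap_apply] at hn
    have hdiv : (X - C (algebraMap A K c)) * (j n /ₘ (X - C (algebraMap A K c))) = j n :=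
      Polynomial.mul_divByMonic_eq_iff_isRoot.mpr hn
    have hq : ∀ i, (j n /ₘ (X - C (algebraMap A K c))).coeff i ∈ coeffModule j := by
      intro i
      rw [coeff_divByMonic_X_sub_C]
      refine sum_mem (fun m _ => ?_)
      rw [← map_pow, ← Algebra.smul_def]
      exact Submodule.smul_mem _ _ (coeff_mem j n m)
    obtain ⟨n', hn'⟩ := mem_range_of_coeff_mem j hdual _ hq
    have hnn : n = (X - C c) • n' := hinj (by
      rw [← map_smul_eq, hn', Polynomial.map_sub, map_X, map_C, hdiv])
    rw [Submodule.restrictScalars_mem, hnn]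
    exact Submodule.smul_mem_smul (Ideal.subset_span rfl) Submodule.mem_top
  · intro n hn
    rw [Submodule.restrictScalars_mem] at hn
    refine Submodule.smul_induction_on hn ?_ ?_
    · intro r hr n' _
      obtain ⟨s, rfl⟩ := Ideal.mem_span_singleton'.mp hr
      rw [LinearMap.mem_ker, evalMap_apply, ← map_smul_eq]
      simp
    · intro x y hx hy
      exact add_mem hx hy

theorem quot_equiv (j : N →ₗ[A[X]] K[X]) (hinj : Function.Injective j)
    (hdual : ∀ φ : N →ₗ[A[X]] A[X], ∃ h : K[X], ∀ n, (φ n).map (algebraMap A K) = h * j n)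
    (c : A) :
    Nonempty ((N ⧸ (Ideal.span {X - C c} • ⊤ : Submodule A[X] N)) ≃ₗ[A] coeffModule j) :=
  ⟨(Submodule.Quotient.restrictScalarsEquiv A _).symm ≪≫ₗ
    Submodule.quotEquivOfEq _ _ (ker_evalMap j hinj hdual c).symm ≪≫ₗ
    (evalMap j c).quotKerEquivRange ≪≫ₗ LinearEquiv.ofEq _ _ (range_evalMap j hdual c)⟩

variable (A K N) in
/-- For an invertible module `N` over `A[X]`, `A` an integrally closed domain,
all the fibres `N ⧸ (X - c) N` are isomorphic (to a fixed `A`-submodule of `K`). -/
theorem exists_quot_equiv : ∃ 𝔞 : Submodule A K, ∀ c : A,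
    Nonempty ((N ⧸ (Ideal.span {X - C c} • ⊤ : Submodule A[X] N)) ≃ₗ[A] 𝔞) := by
  obtain ⟨j, hinj, hdual⟩ := exists_embedding (A := A) (K := K) (N := N)
  exact ⟨coeffModule j, fun c => quot_equiv j hinj hdual c⟩

end Quot

end Groth.Agent.Lib.Helper20.PicPoly
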