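import Mathlib
import Groth.Agent.Lib.Helper20.PicPoly2

set_option autoImplicit false
open Polynomial TensorProduct

namespace Groth.Agent.Lib.Helper20.PicPoly

universe u

section Q
variable {A' B : Type*} [CommRing A'] [CommRing B] [Algebra A' B] (I : Ideal B)
  (M : Type*) [AddCommGroup M] [Module A' M]

/-- `(B ⊗ M) / I(B ⊗ M) ≃ (B/I) ⊗ M`. -/
noncomputable def quotTensorEquiv :
    ((B ⊗[A'] M) ⧸ (I • ⊤ : Submodule B (B ⊗[A'] M))) ≃ₗ[B] (B ⧸ I) ⊗[A'] M :=
  (TensorProduct.quotTensorEquivQuotSMul (B ⊗[A'] M) I).symm ≪≫ₗ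
    (TensorProduct.AlgebraTensorModule.cancelBaseChange A' B (B ⧸ I) (B ⧸ I) M).restrictScalars B

end Q

section Transfer

/-- freeness transfers along a bijective algebra map -/
lemma free_of_bijective_algebraMap {R S Y : Type*} [CommRing R] [CommRing S] [Algebra R S]
    [AddCommGroup Y] [Module R Y] [Module S Y] [IsScalarTower R S Y]
    (hb : Function.Bijective (algebraMap R S)) [Module.Free S Y] : Module.Free R Y := by
  let e : R ≃+* S := RingEquiv.ofBijective (algebraMap R S) hb
  let b := Module.Free.chooseBasis S Y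
  exact Module.Free.of_basis (b.mapCoeffs e.symm (fun c x => by
    obtain ⟨r, rfl⟩ := e.surjective c
    rw [RingEquiv.symm_apply_apply]
    exact (algebraMap_smul S r x).symm))

lemma tensor_equiv_of_bijective {R S M : Type*} [CommRing R] [CommRing S] [Algebra R S]
    [AddCommGroup M] [Module R M]
    (hb : Function.Bijective (algebraMap R S)) : Nonempty (S ⊗[R] M ≃ₗ[R] M) := by
  let e : R ≃ₗ[R] S := LinearEquiv.ofBijective (Algebra.linearMap R S) hb
  exact ⟨(TensorProduct.congr e.symm (LinearEquiv.refl R M)) ≪≫ₗ TensorProduct.lid R M⟩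

/-- freeness transfers along a bijective ring hom with compatible actions -/
lemma free_of_bijective_ringHom {R S Y : Type*} [CommRing R] [CommRing S]
    [AddCommGroup Y] [Module R Y] [Module S Y] (σ : R →+* S) (hb : Function.Bijective σ)
    (hc : ∀ (r : R) (y : Y), σ r • y = r • y) [Module.Free S Y] : Module.Free R Y := by
  let e : R ≃+* S := RingEquiv.ofBijective σ hb
  let b := Module.Free.chooseBasis S Y
  exact Module.Free.of_basis (b.mapCoeffs e.symm (fun c x => by
    obtain ⟨r, rfl⟩ := e.surjective c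
    rw [RingEquiv.symm_apply_apply]
    exact (hc r x).symm))

end Transfer

section Main
variable {A : Type u} [CommRing A] [IsDomain A] [IsIntegrallyClosed A]
  {A' : Type u} [CommRing A'] [Algebra A' A[X]]
  {k : Type u} [Field k] [Algebra k A']

lemma bijective_algebraMap_quot (c : A) :
    Function.Bijective (algebraMap A (A[X] ⧸ Ideal.span {X - C c})) := by
  have h : ∀ a, (quotientSpanXSubCAlgEquiv c).symm a = algebraMap A (A[X] ⧸ Ideal.span {X - C c}) a :=
    fun a => (quotientSpanXSubCAlgEquiv c).symm.commutes a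
  have : ⇑(algebraMap A (A[X] ⧸ Ideal.span {X - C c})) = ⇑(quotientSpanXSubCAlgEquiv c).symm :=
    funext (fun a => (h a).symm)
  rw [this]
  exact (quotientSpanXSubCAlgEquiv c).symm.bijective

lemma sub_C_mem (c : A) (p : A[X]) (a : A) (h : p.eval c = a) :
    p - C a ∈ Ideal.span {X - C c} := by
  rw [Ideal.mem_span_singleton, Polynomial.dvd_iff_isRoot]
  simp [h]

theorem free_of_homotopy (e : A' ≃+* A) (he : ∀ a', (algebraMap A' A[X] a').eval 1 = e a')
    (ε : A' →+* k) (hε : ∀ a', (algebraMap A' A[X] a').eval 0 = e (algebraMap k A' (ε a')))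
    (M : Type u) [AddCommGroup M] [Module A' M] [Module.Invertible A' M] :
    Module.Free A' M := by
  obtain ⟨𝔞, h𝔞⟩ := exists_quot_equiv A (FractionRing A) (A[X] ⊗[A'] M)
  obtain ⟨E0⟩ := h𝔞 0
  obtain ⟨E1⟩ := h𝔞 1
  -- Step a: `𝔞` is free over `A`
  have hfree𝔞 : Module.Free A 𝔞 := by
    letI algAk : Algebra A' k := ε.toAlgebra
    letI algk0 : Algebra k (A[X] ⧸ Ideal.span {X - C (0 : A)}) :=
      ((algebraMap A (A[X] ⧸ Ideal.span {X - C (0 : A)})).comp
        (e.toRingHom.comp (algebraMap k A'))).toAlgebra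
    haveI tow : IsScalarTower A' k (A[X] ⧸ Ideal.span {X - C (0 : A)}) :=
      IsScalarTower.of_algebraMap_eq (fun a' => by
        show Ideal.Quotient.mk _ (algebraMap A' A[X] a') =
          Ideal.Quotient.mk _ (C (e (algebraMap k A' (ε a'))))
        rw [Ideal.Quotient.eq]
        exact sub_C_mem 0 _ _ (hε a'))
    have f0 : Module.Free (A[X] ⧸ Ideal.span {X - C (0 : A)})
        ((A[X] ⧸ Ideal.span {X - C (0 : A)}) ⊗[A'] M) :=
      Module.Free.of_equiv (TensorProduct.AlgebraTensorModule.cancelBaseChange A' k _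
        (A[X] ⧸ Ideal.span {X - C (0 : A)}) M)
    have f1 : Module.Free A ((A[X] ⧸ Ideal.span {X - C (0 : A)}) ⊗[A'] M) :=
      free_of_bijective_ringHom (algebraMap A _) (bijective_algebraMap_quot 0)
        (fun r y => algebraMap_smul _ r y)
    have f2 : Module.Free A ((A[X] ⊗[A'] M) ⧸
        (Ideal.span {X - C (0 : A)} • ⊤ : Submodule A[X] (A[X] ⊗[A'] M))) :=
      Module.Free.of_equiv ((quotTensorEquiv _ M).restrictScalars A).symm
    exact Module.Free.of_equiv E0
  have f3 : Module.Free A ((A[X] ⊗[A'] M) ⧸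
      (Ideal.span {X - C (1 : A)} • ⊤ : Submodule A[X] (A[X] ⊗[A'] M))) :=
    Module.Free.of_equiv E1.symm
  have f4 : Module.Free A' ((A[X] ⊗[A'] M) ⧸
      (Ideal.span {X - C (1 : A)} • ⊤ : Submodule A[X] (A[X] ⊗[A'] M))) := by
    refine free_of_bijective_ringHom e.toRingHom e.bijective (fun a' x => ?_)
    obtain ⟨n, rfl⟩ := Submodule.Quotient.mk_surjective _ x
    rw [← Submodule.Quotient.mk_smul, ← Submodule.Quotient.mk_smul, Submodule.Quotient.eq]
    have h1 : (e.toRingHom a') • n = (C (e a') : A[X]) • n := by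
      rw [Polynomial.C_eq_algebraMap, algebraMap_smul]; rfl
    have h2 : a' • n = (algebraMap A' A[X] a') • n := (algebraMap_smul A[X] a' n).symm
    rw [h1, h2]
    have h3 : (C (e a') : A[X]) • n - (algebraMap A' A[X] a') • n =
        ((C (e a') : A[X]) - algebraMap A' A[X] a') • n := (sub_smul _ _ _).symm
    rw [h3]
    refine Submodule.smul_mem_smul ?_ Submodule.mem_top
    have := sub_C_mem 1 _ _ (he a')
    have h4 : (C (e a') : A[X]) - algebraMap A' A[X] a' =
        -(algebraMap A' A[X] a' - C (e a')) := (neg_sub _ _).symm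
    rw [h4]
    exact neg_mem this
  have hb1 : Function.Bijective (algebraMap A' (A[X] ⧸ Ideal.span {X - C (1 : A)})) := by
    have : ⇑(algebraMap A' (A[X] ⧸ Ideal.span {X - C (1 : A)})) =
        ⇑(algebraMap A (A[X] ⧸ Ideal.span {X - C (1 : A)})) ∘ ⇑e := by
      funext a'
      show Ideal.Quotient.mk _ (algebraMap A' A[X] a') = Ideal.Quotient.mk _ (C (e a'))
      rw [Ideal.Quotient.eq]
      exact sub_C_mem 1 _ _ (he a')
    rw [this]
    exact (bijective_algebraMap_quot 1).comp e.bijective
  obtain ⟨E2⟩ := tensor_equiv_of_bijective (M := M) hb1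
  exact Module.Free.of_equiv (((quotTensorEquiv _ M).restrictScalars A') ≪≫ₗ E2)

end Main

end Groth.Agent.Lib.Helper20.PicPoly
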