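import Mathlib
set_option autoImplicit false
universe u
open CategoryTheory CategoryTheory.Limits AlgebraicGeometry TopologicalSpace

namespace Groth.Agent.Lib.Helper20.PnCoprod

/-- The coproduct of two closed immersions with disjoint images is a closed immersion. -/
theorem isClosedImmersion_coprodDesc {X₁ X₂ Z : Scheme.{u}} (f : X₁ ⟶ Z) (g : X₂ ⟶ Z)
    [IsClosedImmersion f] [IsClosedImmersion g]
    (hd : ∀ (a : X₁) (b : X₂), f.base a ≠ g.base b) :
    IsClosedImmersion (coprod.desc f g) := by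
  have hinl : ∀ a : X₁, (coprod.desc f g).base ((coprod.inl : X₁ ⟶ X₁ ⨿ X₂).base a) = f.base a := by
    intro a
    rw [← Scheme.Hom.comp_apply, coprod.inl_desc]
  have hinr : ∀ b : X₂, (coprod.desc f g).base ((coprod.inr : X₂ ⟶ X₁ ⨿ X₂).base b) = g.base b := by
    intro b
    rw [← Scheme.Hom.comp_apply, coprod.inr_desc]
  have hsurj : ∀ x : ↥(X₁ ⨿ X₂), (∃ a : X₁, (coprod.inl : X₁ ⟶ X₁ ⨿ X₂).base a = x) ∨
      (∃ b : X₂, (coprod.inr : X₂ ⟶ X₁ ⨿ X₂).base b = x) := by
    intro x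
    obtain ⟨(a | b), rfl⟩ := (coprodMk X₁ X₂).surjective x
    · exact Or.inl ⟨a, (coprodMk_inl X₁ X₂ a).symm⟩
    · exact Or.inr ⟨b, (coprodMk_inr X₁ X₂ b).symm⟩
  rw [isClosedImmersion_iff]
  refine ⟨?_, ?_⟩
  · rw [IsZariskiLocalAtSource.iff_of_openCover (P := @SurjectiveOnStalks) (coprodOpenCover.{u, 0} X₁ X₂)]
    rintro (i | i)
    · show SurjectiveOnStalks (coprod.inl ≫ coprod.desc f g)
      rw [coprod.inl_desc]; infer_instance
    · show SurjectiveOnStalks (coprod.inr ≫ coprod.desc f g)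
      rw [coprod.inr_desc]; infer_instance
  · refine Topology.IsClosedEmbedding.of_continuous_injective_isClosedMap
      (coprod.desc f g).continuous ?_ ?_
    · intro x y hxy
      rcases hsurj x with ⟨a, rfl⟩ | ⟨a, rfl⟩ <;> rcases hsurj y with ⟨b, rfl⟩ | ⟨b, rfl⟩
      · rw [hinl, hinl] at hxy
        rw [f.isClosedEmbedding.injective hxy]
      · rw [hinl, hinr] at hxy
        exact absurd hxy (hd a b)
      · rw [hinr, hinl] at hxy
        exact absurd hxy.symm (hd b a)
      · rw [hinr, hinr] at hxy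
        rw [g.isClosedEmbedding.injective hxy]
    · intro C hC
      have h1 : (coprod.desc f g).base '' C =
          f.base '' ((coprod.inl : X₁ ⟶ X₁ ⨿ X₂).base ⁻¹' C) ∪
          g.base '' ((coprod.inr : X₂ ⟶ X₁ ⨿ X₂).base ⁻¹' C) := by
        ext z
        constructor
        · rintro ⟨x, hx, rfl⟩
          rcases hsurj x with ⟨a, rfl⟩ | ⟨b, rfl⟩
          · exact Or.inl ⟨a, hx, (hinl a).symm⟩
          · exact Or.inr ⟨b, hx, (hinr b).symm⟩
        · rintro (⟨a, ha, rfl⟩ | ⟨b, hb, rfl⟩)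
          · exact ⟨_, ha, hinl a⟩
          · exact ⟨_, hb, hinr b⟩
      rw [h1]
      exact (f.isClosedEmbedding.isClosedMap _ (hC.preimage (Scheme.Hom.continuous _))).union
        (g.isClosedEmbedding.isClosedMap _ (hC.preimage (Scheme.Hom.continuous _)))

end Groth.Agent.Lib.Helper20.PnCoprod
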