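import Mathlib
import Groth.Prelude.Def_CohB1
import Groth.Agent.S3563
import Groth.Agent.Lib.Helper3.ProjAux
set_option autoImplicit false
universe u
open CategoryTheory CategoryTheory.Limits AlgebraicGeometry TopologicalSpace DirectSum

namespace Groth.Agent.Lib.Helper20.PnCoprod

section General
variable {R A B : Type u} [CommRing R] [CommRing A] [Algebra R A] (𝒜 : ℕ → Submodule R A)
  [GradedAlgebra 𝒜] [CommRing B] [Algebra R B] (ℬ : ℕ → Submodule R B) [GradedAlgebra ℬ]

theorem irrelevant_le_map_of_surjective (φ : 𝒜 →+*ᵍ ℬ) (hs : Function.Surjective φ) :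
    HomogeneousIdeal.irrelevant ℬ ≤ (HomogeneousIdeal.irrelevant 𝒜).map φ := by
  rw [HomogeneousIdeal.irrelevant_le]
  intro i hi b hb
  obtain ⟨a, rfl⟩ := hs b
  have h1 : φ (decompose 𝒜 a i : A) = φ a := by
    rw [GradedRingHom.map_directSumDecompose, DirectSum.decompose_of_mem_same ℬ hb]
  rw [← h1]
  exact Ideal.mem_map_of_mem _ (HomogeneousIdeal.mem_irrelevant_of_mem 𝒜 hi (SetLike.coe_mem _))

end General

section Pn
variable (n : ℕ) (R : Type u) [CommRing R]

theorem iSup_basicOpen_X_eq_top :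
    ⨆ i : Fin (n + 1), Proj.basicOpen (CohB1.polyGrading n R) (MvPolynomial.X i) = ⊤ := by
  apply Proj.iSup_basicOpen_eq_top' (CohB1.polyGrading n R) (fun i => MvPolynomial.X i)
  · intro i
    exact ⟨1, MvPolynomial.isHomogeneous_X R i⟩
  · rw [eq_top_iff]
    intro p hp0
    clear hp0
    induction p using MvPolynomial.induction_on with
    | C a =>
      have : (MvPolynomial.C a : MvPolynomial (Fin (n + 1)) R) =
          algebraMap (CohB1.polyGrading n R 0) _
            ⟨MvPolynomial.C a, MvPolynomial.isHomogeneous_C _ a⟩ := rfl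
      rw [this]
      exact Subalgebra.algebraMap_mem _ _
    | add p q hp hq => exact Subalgebra.add_mem _ hp hq
    | mul_X p i hp =>
      exact Subalgebra.mul_mem _ hp (Algebra.subset_adjoin ⟨i, rfl⟩)

theorem exists_mem_basicOpen_X (x : Proj (CohB1.polyGrading n R)) :
    ∃ i : Fin (n + 1), x ∈ Proj.basicOpen (CohB1.polyGrading n R) (MvPolynomial.X i) := by
  have : x ∈ ⨆ i : Fin (n + 1), Proj.basicOpen (CohB1.polyGrading n R) (MvPolynomial.X i) := by
    rw [iSup_basicOpen_X_eq_top]; trivial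
  exact Opens.mem_iSup.mp this

end Pn

section Lin
variable {k : Type u} [Field k] (N r : ℕ)
  (g : Fin (N + 1) → MvPolynomial (Fin (r + 1)) k) (hg : ∀ i, (g i).IsHomogeneous 1)
  (s : Fin (r + 1) → Fin (N + 1)) (hs : ∀ j, g (s j) = MvPolynomial.X j)

/-- The graded ring hom `k[x_0..x_N] → k[y_0..y_r]` given by linear forms `g i` (each `X` or `0`). -/
noncomputable def linG : CohB1.polyGrading N k →+*ᵍ CohB1.polyGrading r k where
  toRingHom := (MvPolynomial.aeval g).toRingHom
  map_mem := fun {i x} hx => by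
    rw [MvPolynomial.mem_homogeneousSubmodule] at hx
    show (MvPolynomial.aeval g x) ∈ MvPolynomial.homogeneousSubmodule (Fin (r + 1)) k i
    rw [MvPolynomial.mem_homogeneousSubmodule]
    have := hx.aeval g hg
    rwa [one_mul] at this

theorem linG_apply (x : MvPolynomial (Fin (N + 1)) k) :
    linG N r g hg x = MvPolynomial.aeval g x := rfl

include hs in
theorem linG_surjective : Function.Surjective (linG N r g hg) := by
  intro p
  refine ⟨MvPolynomial.rename s p, ?_⟩
  rw [linG_apply, MvPolynomial.aeval_rename]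
  have : g ∘ s = MvPolynomial.X := funext hs
  rw [this, MvPolynomial.aeval_X_left]
  rfl

theorem linG_irrelevant (hsurj : Function.Surjective (linG N r g hg)) :
    HomogeneousIdeal.irrelevant (CohB1.polyGrading r k) ≤
      (HomogeneousIdeal.irrelevant (CohB1.polyGrading N k)).map (linG N r g hg) :=
  irrelevant_le_map_of_surjective _ _ _ hsurj

/-- The linear embedding `P^r → P^N`. -/
noncomputable def linMap (hsurj : Function.Surjective (linG N r g hg)) :
    CohB1.ProjSpace r k ⟶ CohB1.ProjSpace N k :=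
  Proj.map (linG N r g hg) (linG_irrelevant N r g hg hsurj)

instance isClosedImmersion_linMap (hsurj : Function.Surjective (linG N r g hg)) :
    IsClosedImmersion (linMap N r g hg hsurj) :=
  Groth.Agent.S3563.result _ _ _ hsurj _

theorem linMap_toSpec (hsurj : Function.Surjective (linG N r g hg)) :
    linMap N r g hg hsurj ≫ CohB1.ProjSpace.toSpec N k = CohB1.ProjSpace.toSpec r k := by
  show Proj.map (linG N r g hg) (linG_irrelevant N r g hg hsurj) ≫
      (Proj.toSpecZero (CohB1.polyGrading N k) ≫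
        Spec.map (CommRingCat.ofHom (algebraMap k (CohB1.polyGrading N k 0)))) =
    Proj.toSpecZero (CohB1.polyGrading r k) ≫
      Spec.map (CommRingCat.ofHom (algebraMap k (CohB1.polyGrading r k 0)))
  rw [← Category.assoc, Groth.Agent.Lib.Helper3.ProjAux.map_toSpecZero, Category.assoc,
    ← Spec.map_comp]
  congr 2
  refine CommRingCat.hom_ext (RingHom.ext fun c => Subtype.ext ?_)
  show MvPolynomial.aeval g (MvPolynomial.C c) = MvPolynomial.C c
  rw [MvPolynomial.aeval_C]
  rfl

theorem linMap_preimage_basicOpen (hsurj : Function.Surjective (linG N r g hg))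
    (i : Fin (N + 1)) :
    (linMap N r g hg hsurj) ⁻¹ᵁ
      (Proj.basicOpen (CohB1.polyGrading N k) (MvPolynomial.X i) :
        (CohB1.ProjSpace N k).Opens) =
      (Proj.basicOpen (CohB1.polyGrading r k) (g i) : (CohB1.ProjSpace r k).Opens) := by
  have h1 : linG N r g hg (MvPolynomial.X i) = g i := by
    rw [linG_apply, MvPolynomial.aeval_X]
  rw [← h1]
  rfl

theorem linMap_notMem_of_eq_zero (hsurj : Function.Surjective (linG N r g hg))
    (i : Fin (N + 1)) (hi : g i = 0) (p : ↥(CohB1.ProjSpace r k)) :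
    (linMap N r g hg hsurj).base p ∉
      (Proj.basicOpen (CohB1.polyGrading N k) (MvPolynomial.X i) :
        (CohB1.ProjSpace N k).Opens) := by
  intro hp
  have h2 : p ∈ (linMap N r g hg hsurj) ⁻¹ᵁ
      (Proj.basicOpen (CohB1.polyGrading N k) (MvPolynomial.X i) :
        (CohB1.ProjSpace N k).Opens) := hp
  rw [linMap_preimage_basicOpen, hi, Proj.basicOpen_zero] at h2
  exact h2

end Lin

section Disj
variable {k : Type u} [Field k] (N r₁ r₂ : ℕ)
  (g₁ : Fin (N + 1) → MvPolynomial (Fin (r₁ + 1)) k) (hg₁ : ∀ i, (g₁ i).IsHomogeneous 1)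
  (g₂ : Fin (N + 1) → MvPolynomial (Fin (r₂ + 1)) k) (hg₂ : ∀ i, (g₂ i).IsHomogeneous 1)

theorem linMap_ne (hsurj₁ : Function.Surjective (linG N r₁ g₁ hg₁))
    (hsurj₂ : Function.Surjective (linG N r₂ g₂ hg₂))
    (hz : ∀ i, g₁ i = 0 ∨ g₂ i = 0)
    (p : ↥(CohB1.ProjSpace r₁ k)) (q : ↥(CohB1.ProjSpace r₂ k)) :
    (linMap N r₁ g₁ hg₁ hsurj₁).base p ≠ (linMap N r₂ g₂ hg₂ hsurj₂).base q := by
  intro h
  obtain ⟨i, hi⟩ := exists_mem_basicOpen_X N k ((linMap N r₁ g₁ hg₁ hsurj₁).base p)
  rcases hz i with h0 | h0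
  · exact linMap_notMem_of_eq_zero N r₁ g₁ hg₁ hsurj₁ i h0 p hi
  · rw [h] at hi
    exact linMap_notMem_of_eq_zero N r₂ g₂ hg₂ hsurj₂ i h0 q hi

end Disj

end Groth.Agent.Lib.Helper20.PnCoprod
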