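import Mathlib
import Groth.Prelude.Def_CohB1
import Groth.Agent.Lib.Helper20.PnCoprod1
import Groth.Agent.Lib.Helper20.PnCoprod2
set_option autoImplicit false
universe u
open CategoryTheory CategoryTheory.Limits AlgebraicGeometry TopologicalSpace

namespace Groth.Agent.Lib.Helper20.PnCoprod

section Emb
variable (k : Type u) [Field k] (n m : ℕ)

/-- first block of coordinates -/
noncomputable def ga : Fin (n + m + 1 + 1) → MvPolynomial (Fin (n + 1)) k :=
  fun i => if h : i.val < n + 1 then MvPolynomial.X ⟨i.val, h⟩ else 0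

/-- second block of coordinates -/
noncomputable def gb : Fin (n + m + 1 + 1) → MvPolynomial (Fin (m + 1)) k :=
  fun i => if h : n + 1 ≤ i.val then MvPolynomial.X ⟨i.val - (n + 1), by omega⟩ else 0

def sa : Fin (n + 1) → Fin (n + m + 1 + 1) := fun j => ⟨j.val, by omega⟩

def sb : Fin (m + 1) → Fin (n + m + 1 + 1) := fun j => ⟨n + 1 + j.val, by omega⟩

theorem hga (i : Fin (n + m + 1 + 1)) : (ga k n m i).IsHomogeneous 1 := by
  unfold ga
  split_ifs
  · exact MvPolynomial.isHomogeneous_X _ _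
  · exact MvPolynomial.isHomogeneous_zero _ _ _

theorem hgb (i : Fin (n + m + 1 + 1)) : (gb k n m i).IsHomogeneous 1 := by
  unfold gb
  split_ifs
  · exact MvPolynomial.isHomogeneous_X _ _
  · exact MvPolynomial.isHomogeneous_zero _ _ _

theorem hsa (j : Fin (n + 1)) : ga k n m (sa n m j) = MvPolynomial.X j := by
  unfold ga sa
  rw [dif_pos (by exact j.isLt)]

theorem hsb (j : Fin (m + 1)) : gb k n m (sb n m j) = MvPolynomial.X j := by
  unfold gb sb
  rw [dif_pos (by show n + 1 ≤ n + 1 + j.val; omega)]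
  congr 1
  apply Fin.ext
  show n + 1 + j.val - (n + 1) = j.val
  omega

theorem hz (i : Fin (n + m + 1 + 1)) : ga k n m i = 0 ∨ gb k n m i = 0 := by
  by_cases h : i.val < n + 1
  · right
    unfold gb
    rw [dif_neg (by omega)]
  · left
    unfold ga
    rw [dif_neg h]

theorem main (X₁ X₂ : Scheme.{u}) (p₁ : X₁ ⟶ Spec (CommRingCat.of k))
    (p₂ : X₂ ⟶ Spec (CommRingCat.of k))
    (i₁ : X₁ ⟶ CohB1.ProjSpace n k) [IsClosedImmersion i₁]
    (h₁ : i₁ ≫ CohB1.ProjSpace.toSpec n k = p₁)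
    (i₂ : X₂ ⟶ CohB1.ProjSpace m k) [IsClosedImmersion i₂]
    (h₂ : i₂ ≫ CohB1.ProjSpace.toSpec m k = p₂) :
    ∃ j : X₁ ⨿ X₂ ⟶ CohB1.ProjSpace (n + m + 1) k, IsClosedImmersion j ∧
      j ≫ CohB1.ProjSpace.toSpec (n + m + 1) k = coprod.desc p₁ p₂ := by
  have hsA := linG_surjective (n + m + 1) n (ga k n m) (hga k n m) (sa n m) (hsa k n m)
  have hsB := linG_surjective (n + m + 1) m (gb k n m) (hgb k n m) (sb n m) (hsb k n m)
  refine ⟨coprod.desc (i₁ ≫ linMap (n + m + 1) n (ga k n m) (hga k n m) hsA)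
    (i₂ ≫ linMap (n + m + 1) m (gb k n m) (hgb k n m) hsB), ?_, ?_⟩
  · apply isClosedImmersion_coprodDesc
    intro a b
    rw [Scheme.Hom.comp_base, Scheme.Hom.comp_base]
    exact linMap_ne (n + m + 1) n m (ga k n m) (hga k n m) (gb k n m) (hgb k n m) hsA hsB
      (hz k n m) (i₁.base a) (i₂.base b)
  · apply coprod.hom_ext
    · rw [coprod.inl_desc_assoc, coprod.inl_desc, Category.assoc, linMap_toSpec, h₁]
    · rw [coprod.inr_desc_assoc, coprod.inr_desc, Category.assoc, linMap_toSpec, h₂]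

end Emb

end Groth.Agent.Lib.Helper20.PnCoprod
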