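import Mathlib

set_option autoImplicit false

namespace Groth.Agent.Lib.Helper20.PtStab

open MvPolynomial

variable {k : Type*} [CommRing k] {n : ℕ}

/-- substitution `x_i ↦ Σ_j G_ji x_j`. -/
noncomputable def sG (G : Matrix (Fin n) (Fin n) k) :
    MvPolynomial (Fin n) k →ₐ[k] MvPolynomial (Fin n) k :=
  MvPolynomial.aeval (fun i => ∑ j, MvPolynomial.C (G j i) * MvPolynomial.X j)

/-- substitution `y_i ↦ Σ_j G_ij y_j`. -/
noncomputable def tG (G : Matrix (Fin n) (Fin n) k) :
    MvPolynomial (Fin n) k →ₐ[k] MvPolynomial (Fin n) k :=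
  MvPolynomial.aeval (fun i => ∑ j, MvPolynomial.C (G i j) * MvPolynomial.X j)

@[simp] theorem sG_X (G : Matrix (Fin n) (Fin n) k) (i : Fin n) :
    sG G (X i) = ∑ j, C (G j i) * X j := by simp [sG]

@[simp] theorem tG_X (G : Matrix (Fin n) (Fin n) k) (i : Fin n) :
    tG G (X i) = ∑ j, C (G i j) * X j := by simp [tG]

/-- the linear kernel `Σ x_i y_i` in `k[y][x]`. -/
noncomputable def lin : MvPolynomial (Fin n) (MvPolynomial (Fin n) k) :=
  ∑ i, X i * C (X i)

theorem prod_X_pow_eq_monomial {R : Type*} [CommSemiring R] (κ : Fin n → ℕ) :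
    ∏ i, (X i : MvPolynomial (Fin n) R) ^ κ i =
      monomial (Finsupp.equivFunOnFinite.symm κ) 1 := by
  rw [monomial_eq, C_1, one_mul, Finsupp.prod_fintype _ _ (fun i => by simp)]
  rfl

theorem kernel_expand (d : ℕ) [Fintype {m : Fin n →₀ ℕ // m.degree = d}] :
    (lin : MvPolynomial (Fin n) (MvPolynomial (Fin n) k)) ^ d =
      ∑ m : {m : Fin n →₀ ℕ // m.degree = d},
        monomial m.1 ((m.1.multinomial : MvPolynomial (Fin n) k) * monomial m.1 1) := by
  classical
  rw [lin, Finset.sum_pow_eq_sum_piAntidiag]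
  refine Finset.sum_bij'
    (fun κ hκ => (⟨Finsupp.equivFunOnFinite.symm κ, by
      rw [Finsupp.degree_eq_sum]
      exact (Finset.mem_piAntidiag.mp hκ).1⟩ : {m : Fin n →₀ ℕ // m.degree = d}))
    (fun m _ => (m.1 : Fin n → ℕ)) (fun _ _ => Finset.mem_univ _)
    (fun m _ => by
      rw [Finset.mem_piAntidiag]
      refine ⟨?_, fun _ _ => Finset.mem_univ _⟩
      rw [← Finsupp.degree_eq_sum]
      exact m.2)
    (fun κ _ => rfl) (fun m _ => Subtype.ext (by ext i; rfl)) ?_
  intro κ hκ
  simp only
  have h1 : ∏ i, ((X i : MvPolynomial (Fin n) (MvPolynomial (Fin n) k)) * C (X i)) ^ κ i =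
      monomial (Finsupp.equivFunOnFinite.symm κ) (monomial (Finsupp.equivFunOnFinite.symm κ) 1) := by
    simp_rw [mul_pow]
    rw [Finset.prod_mul_distrib, prod_X_pow_eq_monomial]
    simp_rw [← map_pow]
    rw [← map_prod, prod_X_pow_eq_monomial, mul_comm, C_mul_monomial, mul_one]
  rw [h1]
  have h2 : (Nat.multinomial Finset.univ κ) =
      (Finsupp.equivFunOnFinite.symm κ : Fin n →₀ ℕ).multinomial := by
    rw [Finsupp.multinomial_eq_of_support_subset (Finset.subset_univ _)]
    rfl
  rw [h2]
  have h3 : ((((Finsupp.equivFunOnFinite.symm κ : Fin n →₀ ℕ).multinomial : ℕ) :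
      MvPolynomial (Fin n) (MvPolynomial (Fin n) k))) =
      C (((Finsupp.equivFunOnFinite.symm κ : Fin n →₀ ℕ).multinomial : ℕ) :
        MvPolynomial (Fin n) k) := by
    simp
  rw [h3, C_mul_monomial]


/-- `β`: the substitution `sG` base-changed to coefficients `k[y]`. -/
noncomputable def βG (G : Matrix (Fin n) (Fin n) k) :
    MvPolynomial (Fin n) (MvPolynomial (Fin n) k) →ₐ[MvPolynomial (Fin n) k]
      MvPolynomial (Fin n) (MvPolynomial (Fin n) k) :=
  MvPolynomial.aeval (fun i => ∑ j, C (C (G j i)) * X j)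

theorem βG_map_C (G : Matrix (Fin n) (Fin n) k) (q : MvPolynomial (Fin n) k) :
    βG G (map (C : k →+* MvPolynomial (Fin n) k) q) = map C (sG G q) := by
  have h : ((βG G : MvPolynomial (Fin n) (MvPolynomial (Fin n) k) →+* _).comp
      (map (C : k →+* MvPolynomial (Fin n) k))) =
      (map (C : k →+* MvPolynomial (Fin n) k)).comp
        ((sG G : MvPolynomial (Fin n) k →ₐ[k] MvPolynomial (Fin n) k) :
          MvPolynomial (Fin n) k →+* MvPolynomial (Fin n) k) := by
    apply ringHom_ext
    · intro a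
      simp [βG, sG]
    · intro i
      simp [βG, sG]
  exact RingHom.congr_fun h q

theorem alpha_lin_eq (G : Matrix (Fin n) (Fin n) k) :
    map ((tG G : MvPolynomial (Fin n) k →+* MvPolynomial (Fin n) k)) (lin : MvPolynomial (Fin n) (MvPolynomial (Fin n) k)) =
      βG G lin := by
  simp only [lin, map_sum, map_mul, map_X, map_C, βG, aeval_X, RingHom.coe_coe, tG_X,
    Finset.sum_mul, Finset.mul_sum]
  simp only [aeval_C, algebraMap_eq]
  rw [Finset.sum_comm]
  refine Finset.sum_congr rfl fun i _ => Finset.sum_congr rfl fun j _ => ?_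
  ring

theorem star (G : Matrix (Fin n) (Fin n) k) (d : ℕ) [Fintype {m : Fin n →₀ ℕ // m.degree = d}]
    (l : {m : Fin n →₀ ℕ // m.degree = d}) :
    ∑ m : {m : Fin n →₀ ℕ // m.degree = d},
      ((m.1.multinomial : MvPolynomial (Fin n) k) * monomial m.1 1) *
        C (coeff l.1 (sG G (monomial m.1 1))) =
    (l.1.multinomial : MvPolynomial (Fin n) k) * tG G (monomial l.1 1) := by
  classical
  have h := congrArg (fun P => P ^ d) (alpha_lin_eq G)
  simp only [← map_pow] at h
  rw [kernel_expand d, map_sum, map_sum] at h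
  have h' := congrArg (coeff l.1) h
  rw [coeff_sum, coeff_sum] at h'
  have hL : ∑ m : {m : Fin n →₀ ℕ // m.degree = d},
      coeff l.1 (map ((tG G : MvPolynomial (Fin n) k →+* MvPolynomial (Fin n) k))
        (monomial m.1 ((m.1.multinomial : MvPolynomial (Fin n) k) * monomial m.1 1))) =
      (l.1.multinomial : MvPolynomial (Fin n) k) * tG G (monomial l.1 1) := by
    rw [Finset.sum_eq_single l]
    · rw [map_monomial, coeff_monomial, if_pos rfl]
      simp
    · intro m _ hm
      rw [map_monomial, coeff_monomial, if_neg (fun h => hm (Subtype.ext h))]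
    · intro h; exact absurd (Finset.mem_univ l) h
  have hR : ∀ m : {m : Fin n →₀ ℕ // m.degree = d},
      coeff l.1 (βG G (monomial m.1 ((m.1.multinomial : MvPolynomial (Fin n) k) * monomial m.1 1))) =
      ((m.1.multinomial : MvPolynomial (Fin n) k) * monomial m.1 1) *
        C (coeff l.1 (sG G (monomial m.1 1))) := by
    intro m
    have h1 : (monomial m.1 ((m.1.multinomial : MvPolynomial (Fin n) k) * monomial m.1 1) :
        MvPolynomial (Fin n) (MvPolynomial (Fin n) k)) =
        C ((m.1.multinomial : MvPolynomial (Fin n) k) * monomial m.1 1) *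
          map (C : k →+* MvPolynomial (Fin n) k) (monomial m.1 1) := by
      rw [map_monomial, C_mul_monomial, C_1, mul_one]
    have hC : βG G (C ((m.1.multinomial : MvPolynomial (Fin n) k) * monomial m.1 1)) =
        C ((m.1.multinomial : MvPolynomial (Fin n) k) * monomial m.1 1) := by
      simp [βG]
    rw [h1, map_mul, βG_map_C, hC, coeff_C_mul, coeff_map]
  rw [hL] at h'
  rw [h', Finset.sum_congr rfl (fun m _ => hR m)]

/-- the bridge: the action on points corresponds to the transposed substitution on forms. -/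
theorem bridge (G : Matrix (Fin n) (Fin n) k) (d : ℕ) [Fintype {m : Fin n →₀ ℕ // m.degree = d}]
    (a : {m : Fin n →₀ ℕ // m.degree = d} → k) :
    ∑ m : {m : Fin n →₀ ℕ // m.degree = d}, monomial m.1
      ((m.1.multinomial : k) * ∑ l : {m : Fin n →₀ ℕ // m.degree = d},
        a l * coeff l.1 (sG G (monomial m.1 1))) =
    tG G (∑ l : {m : Fin n →₀ ℕ // m.degree = d}, monomial l.1 ((l.1.multinomial : k) * a l)) := by
  classical
  rw [map_sum]
  have hR : ∀ l : {m : Fin n →₀ ℕ // m.degree = d},
      tG G (monomial l.1 ((l.1.multinomial : k) * a l)) =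
      C (a l) * ∑ m : {m : Fin n →₀ ℕ // m.degree = d},
      ((m.1.multinomial : MvPolynomial (Fin n) k) * monomial m.1 1) *
        C (coeff l.1 (sG G (monomial m.1 1))) := by
    intro l
    rw [star G d l]
    have : (monomial l.1 ((l.1.multinomial : k) * a l) : MvPolynomial (Fin n) k) =
        C (a l) * (C (l.1.multinomial : k) * monomial l.1 1) := by
      rw [C_mul_monomial, C_mul_monomial, mul_one, mul_comm]
    rw [this, map_mul, map_mul]
    simp
  rw [Finset.sum_congr rfl (fun l _ => (hR l).trans (Finset.mul_sum _ _ _))]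
  rw [Finset.sum_comm]
  refine Finset.sum_congr rfl fun m _ => ?_
  have : (monomial m.1 ((m.1.multinomial : k) * ∑ l : {m : Fin n →₀ ℕ // m.degree = d},
        a l * coeff l.1 (sG G (monomial m.1 1))) : MvPolynomial (Fin n) k) =
      C (∑ l : {m : Fin n →₀ ℕ // m.degree = d}, a l * coeff l.1 (sG G (monomial m.1 1))) *
        (C (m.1.multinomial : k) * monomial m.1 1) := by
    rw [C_mul_monomial, C_mul_monomial, mul_one, mul_comm]
  rw [this, map_sum, Finset.sum_mul]
  refine Finset.sum_congr rfl fun l _ => ?_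
  rw [map_mul]
  simp only [map_natCast]
  ring

end Groth.Agent.Lib.Helper20.PtStab
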