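import Mathlib
import Groth.Agent.Lib.Helper20.PtStab1

set_option autoImplicit false

namespace Groth.Agent.Lib.Helper20.PtStab

open MvPolynomial Matrix

section ring
variable {k : Type*} [CommRing k] {n : ℕ}

theorem tG_linForm (G : Matrix (Fin n) (Fin n) k) (p : Fin n → k) :
    tG G (∑ j, C (p j) * X j) = ∑ j, C (∑ i, p i * G i j) * X j := by
  simp only [map_sum, map_mul, tG_X, algHom_C, algebraMap_eq, Finset.mul_sum]
  rw [Finset.sum_comm]
  refine Finset.sum_congr rfl fun j _ => ?_
  rw [Finset.sum_mul]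
  refine Finset.sum_congr rfl fun i _ => ?_
  ring

theorem tG_linForm_fixed (G : Matrix (Fin n) (Fin n) k) (p : Fin n → k)
    (h : ∀ j, ∑ i, p i * G i j = p j) :
    tG G (∑ j, C (p j) * X j) = ∑ j, C (p j) * X j := by
  rw [tG_linForm]
  exact Finset.sum_congr rfl fun j _ => by rw [h j]

/-- transvection matrices. -/
def trv (u v : Fin n → k) (c : k) : Matrix (Fin n) (Fin n) k := 1 + c • Matrix.vecMulVec u v

theorem trv_apply (u v : Fin n → k) (c : k) (i j : Fin n) :
    trv u v c i j = (if i = j then 1 else 0) + c * (u i * v j) := by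
  simp [trv, Matrix.one_apply, Matrix.vecMulVec_apply]

theorem det_trv (u v : Fin n → k) (c : k) (h : v ⬝ᵥ u = 0) : (trv u v c).det = 1 := by
  rw [trv, ← Matrix.smul_vecMulVec, Matrix.vecMulVec_eq Unit,
    Matrix.det_one_add_replicateCol_mul_replicateRow, dotProduct_smul, h, smul_zero, add_zero]

theorem trv_fix (u v : Fin n → k) (c : k) (p : Fin n → k) (hp : p ⬝ᵥ u = 0) (j : Fin n) :
    ∑ i, p i * trv u v c i j = p j := by
  simp only [trv_apply, mul_add, Finset.sum_add_distrib]
  have h1 : ∑ i, p i * (if i = j then (1 : k) else 0) = p j := by simp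
  have h2 : ∑ i, p i * (c * (u i * v j)) = c * v j * (p ⬝ᵥ u) := by
    rw [dotProduct, Finset.mul_sum]
    exact Finset.sum_congr rfl fun i _ => by ring
  rw [h1, h2, hp, mul_zero, add_zero]

end ring

section field
variable {k : Type*} [Field k] {n : ℕ}

theorem trv_injective (u v : Fin n → k) (hu : u ≠ 0) (hv : v ≠ 0) :
    Function.Injective (trv u v) := by
  intro c c' h
  obtain ⟨i, hi⟩ : ∃ i, u i ≠ 0 := by
    by_contra hcon
    push Not at hcon
    exact hu (funext hcon)
  obtain ⟨j, hj⟩ : ∃ j, v j ≠ 0 := by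
    by_contra hcon
    push Not at hcon
    exact hv (funext hcon)
  have := congrFun (congrFun h i) j
  rw [trv_apply, trv_apply] at this
  have h2 : c * (u i * v j) = c' * (u i * v j) := add_left_cancel this
  exact mul_right_cancel₀ (mul_ne_zero hi hj) h2

theorem exists_uv {m n : ℕ} (hn : 1 ≤ n) (hmn : m ≤ n) (p : Fin m → Fin (n + 1) → k) :
    ∃ u v : Fin (n + 1) → k, u ≠ 0 ∧ v ≠ 0 ∧ (∀ i, p i ⬝ᵥ u = 0) ∧ v ⬝ᵥ u = 0 := by
  let L : (Fin (n + 1) → k) →ₗ[k] (Fin m → k) :=
    { toFun := fun u i => p i ⬝ᵥ u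
      map_add' := fun x y => by ext i; simp [dotProduct_add]
      map_smul' := fun c x => by ext i; simp [dotProduct_smul] }
  have hL : LinearMap.ker L ≠ ⊥ := by
    apply LinearMap.ker_ne_bot_of_finrank_lt
    simp only [Module.finrank_fintype_fun_eq_card, Fintype.card_fin]
    omega
  obtain ⟨u, hu, hu0⟩ := Submodule.exists_mem_ne_zero_of_ne_bot hL
  let L' : (Fin (n + 1) → k) →ₗ[k] k :=
    { toFun := fun v => v ⬝ᵥ u
      map_add' := fun x y => by simp [add_dotProduct]
      map_smul' := fun c x => by simp [smul_dotProduct] }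
  have hL' : LinearMap.ker L' ≠ ⊥ := by
    apply LinearMap.ker_ne_bot_of_finrank_lt
    simp only [Module.finrank_fintype_fun_eq_card, Fintype.card_fin, Module.finrank_self]
    omega
  obtain ⟨v, hv, hv0⟩ := Submodule.exists_mem_ne_zero_of_ne_bot hL'
  refine ⟨u, v, hu0, hv0, fun i => ?_, ?_⟩
  · have := LinearMap.mem_ker.mp hu
    exact congrFun this i
  · exact LinearMap.mem_ker.mp hv

end field

end Groth.Agent.Lib.Helper20.PtStab
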