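import Mathlib
import Groth.Prelude.Def_GLin6
import Groth.Agent.Lib.Helper20.PtStab2

set_option autoImplicit false
universe u v w

namespace Groth.Agent.Lib.Helper20.PtStab

open MvPolynomial TensorProduct

/-- a point with infinitely many group points fixing it has no finite stabiliser. -/
theorem not_hasFiniteStab_of_infinite_fixing {k : Type u} [Field k] [Infinite k]
    {A : Type v} [CommRing A] [Bialgebra k A]
    {R : Type w} [CommRing R] [Algebra k R] [HopfRep.Comod k A R] [GLin.IsCoactAlg k A R]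
    (x : R →ₐ[k] k) (g : k → (A →ₐ[k] k)) (hg : Function.Injective g)
    (hfix : ∀ c, GLin.actPt k (g c) x = x) : ¬ GLin.HasFiniteStab k A x := by
  intro hfin
  haveI : Module.Finite k (A ⧸ GLin.stabIdeal k A x) := hfin
  have hkill : ∀ c, ∀ a ∈ GLin.stabIdeal k A x, g c a = 0 := by
    intro c a ha
    have hle : GLin.stabIdeal k A x ≤ RingHom.ker (g c) := by
      rw [GLin.stabIdeal, Ideal.map_le_iff_le_comap]
      intro f hf
      rw [Ideal.mem_comap, RingHom.mem_ker]
      have h1 : GLin.actPt k (g c) x f = x f := by rw [hfix c]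
      have h2 : x f = 0 := hf
      rw [← h2, ← h1]
      rfl
    exact hle ha
  let g' : k → ((A ⧸ GLin.stabIdeal k A x) →ₐ[k] k) := fun c =>
    Ideal.Quotient.liftₐ (GLin.stabIdeal k A x) (g c) (hkill c)
  have hg' : Function.Injective g' := by
    intro c c' h
    apply hg
    have h1 : ∀ c, (g' c).comp (Ideal.Quotient.mkₐ k (GLin.stabIdeal k A x)) = g c :=
      fun c => Ideal.Quotient.liftₐ_comp _ _ _
    rw [← h1 c, ← h1 c', h]
  have : Finite ((A ⧸ GLin.stabIdeal k A x) →ₐ[k] k) := Finite.algHom k _ k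
  exact not_injective_infinite_finite g' hg'

section forms

variable {k : Type u} [Field k] (N d : ℕ)

/-- evaluation of `k[x] ⊗ Mat` at a matrix. -/
noncomputable def rhoG (G : Matrix (Fin N) (Fin N) k) :
    MvPolynomial (Fin N) k ⊗[k] CoordGrp.Mat N k →ₐ[k] MvPolynomial (Fin N) k :=
  (Algebra.TensorProduct.rid k k (MvPolynomial (Fin N) k)).toAlgHom.comp
    (Algebra.TensorProduct.map (AlgHom.id k _) (CoordGrp.Mat.aeval N k G))

theorem rhoG_tmul (G : Matrix (Fin N) (Fin N) k) (p : MvPolynomial (Fin N) k)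
    (a : CoordGrp.Mat N k) : rhoG N G (p ⊗ₜ[k] a) = CoordGrp.Mat.aeval N k G a • p := by
  simp [rhoG]

theorem rhoG_stdCoact (G : Matrix (Fin N) (Fin N) k) :
    (rhoG N G).comp (CoordGrp.stdCoactAlg N k) = sG G := by
  apply MvPolynomial.algHom_ext
  intro i
  rw [AlgHom.comp_apply, CoordGrp.stdCoactAlg_X, map_sum, sG_X]
  refine Finset.sum_congr rfl fun j _ => ?_
  rw [rhoG_tmul, CoordGrp.Mat.aeval_X, MvPolynomial.smul_eq_C_mul]

theorem aeval_coeffT (G : Matrix (Fin N) (Fin N) k) (j : Fin N →₀ ℕ)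
    (w : MvPolynomial (Fin N) k ⊗[k] CoordGrp.Mat N k) :
    CoordGrp.Mat.aeval N k G (CoordGrp.coeffT (k := k) j w) = coeff j (rhoG N G w) := by
  induction w using TensorProduct.induction_on with
  | zero => simp
  | tmul p a =>
    rw [CoordGrp.coeffT_tmul, rhoG_tmul, map_smul, smul_eq_mul, coeff_smul, smul_eq_mul, mul_comm]
  | add x y hx hy => rw [map_add, map_add, map_add, coeff_add, hx, hy]

theorem aeval_formCoeff (G : Matrix (Fin N) (Fin N) k) (l m : CoordGrp.FormIdx N d) :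
    CoordGrp.Mat.aeval N k G (CoordGrp.formCoeff k N d l m) =
      coeff l.1 (sG G (monomial m.1 1)) := by
  rw [CoordGrp.formCoeff, aeval_coeffT, ← rhoG_stdCoact]
  rfl

theorem pt_comp_phi (G : Matrix (Fin N) (Fin N) k) (h : G.det = 1) :
    (CoordGrp.SLn.pt N k G h).comp
      (((CoordGrp.SLn.mkHom N k).comp (CoordGrp.Mat.toGLn N k) :
        CoordGrp.Mat N k →ₐc[k] CoordGrp.SLn N k) : CoordGrp.Mat N k →ₐ[k] CoordGrp.SLn N k) =
      CoordGrp.Mat.aeval N k G := by
  apply CoordGrp.Mat.algHom_ext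
  intro i j
  rw [CoordGrp.Mat.aeval_X]
  have : (((CoordGrp.SLn.mkHom N k).comp (CoordGrp.Mat.toGLn N k) :
        CoordGrp.Mat N k →ₐc[k] CoordGrp.SLn N k) : CoordGrp.Mat N k →ₐ[k] CoordGrp.SLn N k)
        (CoordGrp.Mat.X i j) = CoordGrp.SLn.X i j := by
    change CoordGrp.SLn.mk N k (CoordGrp.Mat.aeval N k (CoordGrp.GLn.genMat N k) (CoordGrp.Mat.X i j)) = _
    rw [CoordGrp.Mat.aeval_X]
    rfl
  rw [AlgHom.comp_apply, this, CoordGrp.SLn.pt_X]

end forms

end Groth.Agent.Lib.Helper20.PtStab
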