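import Mathlib
import Groth.Prelude.Def_GLin6
import Groth.Agent.Lib.Helper20.PtStab3

set_option autoImplicit false
universe u v w

namespace Groth.Agent.Lib.Helper20.PtStab

open MvPolynomial TensorProduct

section forms

variable {k : Type u} [Field k] (N d : ℕ)

/-- the action of a matrix on coordinates of points of the space of forms. -/
noncomputable def actG (G : Matrix (Fin N) (Fin N) k) (a : CoordGrp.FormIdx N d → k) :
    CoordGrp.FormIdx N d → k :=
  fun m => ∑ l : CoordGrp.FormIdx N d, a l * coeff l.1 (sG G (monomial m.1 1))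

theorem actPt_vecPt (G : Matrix (Fin N) (Fin N) k) (h : G.det = 1)
    (a : CoordGrp.FormIdx N d → k) :
    @GLin.actPt k _ (CoordGrp.SLn N k) _ _ (CoordGrp.FormRing k N d) _ _
      (GLin.comodAlong ((CoordGrp.SLn.mkHom N k).comp (CoordGrp.Mat.toGLn N k))
        (CoordGrp.formsCoact k N d))
      (GLin.isCoactAlg_comodAlong ((CoordGrp.SLn.mkHom N k).comp (CoordGrp.Mat.toGLn N k))
        (CoordGrp.formsCoact k N d) (CoordGrp.formsCoact_isCoactAlg k N d))
      (CoordGrp.SLn.pt N k G h) (GLin.vecPt k (CoordGrp.FormIdx N d) a) =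
    GLin.vecPt k (CoordGrp.FormIdx N d) (actG N d G a) := by
  apply MvPolynomial.algHom_ext
  intro m
  change (CoordGrp.SLn.pt N k G h) ((Algebra.TensorProduct.lid k (CoordGrp.SLn N k))
    ((Algebra.TensorProduct.map (GLin.vecPt k (CoordGrp.FormIdx N d) a)
      (AlgHom.id k (CoordGrp.SLn N k)))
      (TensorProduct.map LinearMap.id
        ((((CoordGrp.SLn.mkHom N k).comp (CoordGrp.Mat.toGLn N k) :
          CoordGrp.Mat N k →ₐc[k] CoordGrp.SLn N k)) : CoordGrp.Mat N k →ₗ[k] CoordGrp.SLn N k)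
        (CoordGrp.formsCoactAlg k N d (X m))))) = _
  rw [CoordGrp.formsCoactAlg_X, map_sum, map_sum, map_sum, map_sum]
  simp only [GLin.vecPt, aeval_X, actG]
  refine Finset.sum_congr rfl fun l _ => ?_
  rw [TensorProduct.map_tmul, Algebra.TensorProduct.map_tmul, LinearMap.id_apply, aeval_X,
    AlgHom.id_apply, Algebra.TensorProduct.lid_tmul, map_smul, smul_eq_mul]
  congr 1
  rw [← aeval_formCoeff, ← pt_comp_phi N G h]
  rfl


theorem multinomial_ne_zero (m : CoordGrp.FormIdx N d) (hd : (Nat.factorial d : k) ≠ 0) :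
    ((m.1.multinomial : ℕ) : k) ≠ 0 := by
  have h := Nat.multinomial_spec m.1.support m.1
  have hsum : ∑ i ∈ m.1.support, m.1 i = d := by
    have := m.2
    rw [Finsupp.degree_apply] at this
    exact this
  rw [hsum] at h
  intro h0
  apply hd
  rw [← h, Nat.cast_mul, ← Finsupp.multinomial_eq, h0, mul_zero]

theorem formPoly_injective (hd : (Nat.factorial d : k) ≠ 0) {a b : CoordGrp.FormIdx N d → k}
    (h : CoordGrp.formPoly a = CoordGrp.formPoly b) : a = b := by
  funext m
  have := congrArg (coeff m.1) h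
  rw [CoordGrp.coeff_formPoly, CoordGrp.coeff_formPoly] at this
  exact mul_left_cancel₀ (multinomial_ne_zero N d m hd) this

theorem formPoly_actG (G : Matrix (Fin N) (Fin N) k) (a : CoordGrp.FormIdx N d → k) :
    CoordGrp.formPoly (actG N d G a) = tG G (CoordGrp.formPoly a) := by
  unfold CoordGrp.formPoly actG
  exact bridge G d a

end forms

theorem main (k : Type u) [Field k] [IsAlgClosed k] (n m : ℕ) (hn : 1 ≤ n) (hmn : m ≤ n)
    (hm : (Nat.factorial m : k) ≠ 0) (p : Fin m → Fin (n + 1) → k)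
    (a : CoordGrp.FormIdx (n + 1) m → k)
    (ha : CoordGrp.formPoly a = ∏ i, ∑ j, MvPolynomial.C (p i j) * MvPolynomial.X j) :
    ¬ @GLin.IsStableVec k _ (CoordGrp.SLn (n + 1) k) _ _ (CoordGrp.FormIdx (n + 1) m)
      (GLin.comodAlong ((CoordGrp.SLn.mkHom (n + 1) k).comp (CoordGrp.Mat.toGLn (n + 1) k)) (CoordGrp.formsCoact k (n + 1) m))
      (GLin.isCoactAlg_comodAlong ((CoordGrp.SLn.mkHom (n + 1) k).comp (CoordGrp.Mat.toGLn (n + 1) k)) (CoordGrp.formsCoact k (n + 1) m) (CoordGrp.formsCoact_isCoactAlg k (n + 1) m)) a := by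
  intro hst
  obtain ⟨u, v, hu, hv, hpu, hvu⟩ := exists_uv hn hmn p
  have hdet : ∀ c, (trv u v c).det = 1 := fun c => det_trv u v c hvu
  have hfixa : ∀ c, actG (n + 1) m (trv u v c) a = a := by
    intro c
    apply formPoly_injective (n + 1) m hm
    rw [formPoly_actG, ha, map_prod]
    refine Finset.prod_congr rfl fun i _ => ?_
    exact tG_linForm_fixed _ _ (fun j => trv_fix u v c (p i) (hpu i) j)
  refine @not_hasFiniteStab_of_infinite_fixing k _ _ (CoordGrp.SLn (n + 1) k) _ _
    (CoordGrp.FormRing k (n + 1) m) _ _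
    (GLin.comodAlong ((CoordGrp.SLn.mkHom (n + 1) k).comp (CoordGrp.Mat.toGLn (n + 1) k)) (CoordGrp.formsCoact k (n + 1) m))
    (GLin.isCoactAlg_comodAlong ((CoordGrp.SLn.mkHom (n + 1) k).comp (CoordGrp.Mat.toGLn (n + 1) k)) (CoordGrp.formsCoact k (n + 1) m) (CoordGrp.formsCoact_isCoactAlg k (n + 1) m))
    (GLin.vecPt k _ a) (fun c => CoordGrp.SLn.pt (n + 1) k (trv u v c) (hdet c)) ?_ ?_ hst.2
  · intro c c' h
    apply trv_injective u v hu hv
    ext i j
    have := congrArg (fun φ => φ (CoordGrp.SLn.X i j)) h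
    simpa using this
  · intro c
    rw [actPt_vecPt, hfixa c]

end Groth.Agent.Lib.Helper20.PtStab
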