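import Mathlib
import Groth.Prelude.Def_GLin6
import Groth.Agent.Lib.Helper20.PtStab4

set_option autoImplicit false
universe u v w

namespace Groth.Agent.Lib.Helper20.PtStab

open MvPolynomial TensorProduct

section subst
variable {k : Type*} [CommRing k] {n : ℕ}

theorem tG_tG (G G' : Matrix (Fin n) (Fin n) k) (P : MvPolynomial (Fin n) k) :
    tG G' (tG G P) = tG (G * G') P := by
  have h : (tG G').comp (tG G) = tG (G * G') := by
    apply MvPolynomial.algHom_ext
    intro i
    rw [AlgHom.comp_apply, tG_X, tG_X, map_sum]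
    simp only [map_mul, tG_X, algHom_C, algebraMap_eq, Finset.mul_sum, Matrix.mul_apply]
    rw [Finset.sum_comm]
    refine Finset.sum_congr rfl fun j _ => ?_
    rw [map_sum, Finset.sum_mul]
    refine Finset.sum_congr rfl fun l _ => ?_
    rw [map_mul]
    ring
  exact congrArg (fun φ => φ P) h

theorem tG_one (P : MvPolynomial (Fin n) k) : tG (1 : Matrix (Fin n) (Fin n) k) P = P := by
  have h : tG (1 : Matrix (Fin n) (Fin n) k) = AlgHom.id k _ := by
    apply MvPolynomial.algHom_ext
    intro i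
    rw [tG_X]
    simp [Matrix.one_apply]
  rw [h]
  rfl

end subst

section forms
variable {k : Type u} [Field k] (N d : ℕ)

theorem actG_actG (hd : (Nat.factorial d : k) ≠ 0) (G G' : Matrix (Fin N) (Fin N) k)
    (a : CoordGrp.FormIdx N d → k) :
    actG N d G' (actG N d G a) = actG N d (G * G') a := by
  apply formPoly_injective N d hd
  rw [formPoly_actG, formPoly_actG, formPoly_actG, tG_tG]

theorem actG_one (hd : (Nat.factorial d : k) ≠ 0) (a : CoordGrp.FormIdx N d → k) :
    actG N d 1 a = a := by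
  apply formPoly_injective N d hd
  rw [formPoly_actG, tG_one]

/-- `k`-points of `SL_N` are matrices of determinant one. -/
theorem exists_matrix_of_point (g : CoordGrp.SLn N k →ₐ[k] k) :
    ∃ (G : Matrix (Fin N) (Fin N) k) (h : G.det = 1), g = CoordGrp.SLn.pt N k G h := by
  obtain ⟨G, hGdef⟩ : ∃ G : Matrix (Fin N) (Fin N) k, G = fun i j => g (CoordGrp.SLn.X i j) :=
    ⟨_, rfl⟩
  have hG : G = (g.comp (CoordGrp.SLn.mk N k)).mapMatrix (CoordGrp.GLn.genMat N k) := by
    rw [hGdef]
    ext i j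
    rfl
  have hdet : G.det = 1 := by
    rw [hG, ← AlgHom.map_det, ← CoordGrp.GLn.det_eq, AlgHom.comp_apply,
      CoordGrp.SLn.det_eq_one, map_one]
  refine ⟨G, hdet, ?_⟩
  apply CoordGrp.SLn.algHom_ext
  · intro i j
    rw [CoordGrp.SLn.pt_X, hGdef]
  · have h1 : CoordGrp.SLn.mk N k (CoordGrp.GLn.Dinv : CoordGrp.GLn N k) = 1 := by
      have h2 := congrArg (CoordGrp.SLn.mk N k) (CoordGrp.GLn.det_mul_Dinv (n := N) (k := k))
      rw [map_mul, CoordGrp.SLn.det_eq_one, one_mul, map_one] at h2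
      exact h2
    rw [h1, map_one, map_one]

end forms

section points

/-- weak Nullstellensatz: a proper ideal of a finite type algebra over an algebraically closed
field is contained in the kernel of a rational point. -/
theorem exists_point_of_ne_top {k : Type u} [Field k] [IsAlgClosed k] {A : Type v} [CommRing A]
    [Algebra k A] [Algebra.FiniteType k A] (J : Ideal A) (hJ : J ≠ ⊤) :
    ∃ g : A →ₐ[k] k, J ≤ RingHom.ker g := by
  obtain ⟨M, hM, hJM⟩ := Ideal.exists_le_maximal J hJ
  let _ := Ideal.Quotient.field M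
  have : Algebra.FiniteType k (A ⧸ M) :=
    Algebra.FiniteType.of_surjective (Ideal.Quotient.mkₐ k M) (Ideal.Quotient.mkₐ_surjective k M)
  have : Module.Finite k (A ⧸ M) := finite_of_finite_type_of_isJacobsonRing k (A ⧸ M)
  have hbij : Function.Bijective (algebraMap k (A ⧸ M)) :=
    IsAlgClosed.algebraMap_bijective_of_isIntegral
  let e : k ≃ₐ[k] (A ⧸ M) := AlgEquiv.ofBijective (Algebra.ofId k (A ⧸ M)) hbij
  refine ⟨(e.symm : (A ⧸ M) →ₐ[k] k).comp (Ideal.Quotient.mkₐ k M), fun a ha => ?_⟩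
  rw [RingHom.mem_ker]
  have : Ideal.Quotient.mkₐ k M a = 0 := Ideal.Quotient.eq_zero_iff_mem.mpr (hJM ha)
  rw [AlgHom.comp_apply, this, map_zero]

theorem exists_point_of_isClosedOrbit {k : Type u} [Field k] [IsAlgClosed k]
    {A : Type v} [CommRing A] [Bialgebra k A] [Algebra.FiniteType k A]
    {R : Type w} [CommRing R] [Algebra k R] [HopfRep.Comod k A R] [GLin.IsCoactAlg k A R]
    (x y : R →ₐ[k] k) (hcl : GLin.IsClosedOrbit k A x)
    (hy : RingHom.ker (GLin.orbitHom k A x) ≤ RingHom.ker y) :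
    ∃ g : A →ₐ[k] k, GLin.actPt k g x = y := by
  let 𝔪 : PrimeSpectrum R := ⟨RingHom.ker y, RingHom.ker_isPrime y⟩
  have hmem : 𝔪 ∈ closure (Set.range (PrimeSpectrum.comap (GLin.orbitHom k A x).toRingHom)) := by
    rw [PrimeSpectrum.closure_range_comap, PrimeSpectrum.mem_zeroLocus]
    exact hy
  rw [hcl.closure_eq] at hmem
  obtain ⟨q, hq⟩ := hmem
  obtain ⟨g, hg⟩ := exists_point_of_ne_top (k := k) q.asIdeal q.2.ne_top
  refine ⟨g, ?_⟩
  ext f
  have h1 : f - algebraMap k R (y f) ∈ RingHom.ker y := by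
    rw [RingHom.mem_ker, map_sub, AlgHom.commutes]
    simp
  have h2 : f - algebraMap k R (y f) ∈ (PrimeSpectrum.comap (GLin.orbitHom k A x).toRingHom q).asIdeal := by
    rw [hq]
    exact h1
  have h3 : GLin.orbitHom k A x (f - algebraMap k R (y f)) ∈ q.asIdeal := h2
  have h4 := hg h3
  rw [RingHom.mem_ker, map_sub, AlgHom.commutes, map_sub, AlgHom.commutes] at h4
  have h5 : GLin.actPt k g x f = g (GLin.orbitHom k A x f) := rfl
  rw [h5]
  have : algebraMap k k (y f) = y f := rfl
  rw [this] at h4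
  exact sub_eq_zero.mp h4

end points

end Groth.Agent.Lib.Helper20.PtStab
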