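import Mathlib
import Groth.Prelude.Def_GLin6
import Groth.Agent.Lib.Helper20.PtStab5

set_option autoImplicit false
universe u v w

namespace Groth.Agent.Lib.Helper20.PtStab

open MvPolynomial TensorProduct

/-- a point with an infinite injective family of group points fixing it has no finite stabiliser. -/
theorem not_hasFiniteStab_of_infinite_fixing' {k : Type u} [Field k] {ι : Type*} [Infinite ι]
    {A : Type v} [CommRing A] [Bialgebra k A]
    {R : Type w} [CommRing R] [Algebra k R] [HopfRep.Comod k A R] [GLin.IsCoactAlg k A R]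
    (x : R →ₐ[k] k) (g : ι → (A →ₐ[k] k)) (hg : Function.Injective g)
    (hfix : ∀ c, GLin.actPt k (g c) x = x) : ¬ GLin.HasFiniteStab k A x := by
  intro hfin
  haveI : Module.Finite k (A ⧸ GLin.stabIdeal k A x) := hfin
  have hkill : ∀ c, ∀ a ∈ GLin.stabIdeal k A x, g c a = 0 := by
    intro c a ha
    have hle : GLin.stabIdeal k A x ≤ RingHom.ker (g c) := by
      rw [GLin.stabIdeal, Ideal.map_le_iff_le_comap]
      intro f hf
      rw [Ideal.mem_comap, RingHom.mem_ker]
      have h1 : GLin.actPt k (g c) x f = x f := by rw [hfix c]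
      have h2 : x f = 0 := hf
      rw [← h2, ← h1]
      rfl
    exact hle ha
  let g' : ι → ((A ⧸ GLin.stabIdeal k A x) →ₐ[k] k) := fun c =>
    Ideal.Quotient.liftₐ (GLin.stabIdeal k A x) (g c) (hkill c)
  have hg' : Function.Injective g' := by
    intro c c' h
    apply hg
    have h1 : ∀ c, (g' c).comp (Ideal.Quotient.mkₐ k (GLin.stabIdeal k A x)) = g c :=
      fun c => Ideal.Quotient.liftₐ_comp _ _ _
    rw [← h1 c, ← h1 c', h]
  have : Finite ((A ⧸ GLin.stabIdeal k A x) →ₐ[k] k) := Finite.algHom k _ k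
  exact not_injective_infinite_finite g' hg'

instance finiteType_SLn {k : Type u} [Field k] (N : ℕ) : Algebra.FiniteType k (CoordGrp.SLn N k) := by
  haveI : Algebra.FiniteType k (CoordGrp.GLb N k) :=
    inferInstanceAs (Algebra.FiniteType k (MvPolynomial (CoordGrp.GLPoly.Idx N) k))
  refine Algebra.FiniteType.of_surjective ((CoordGrp.SLn.mk N k).comp (CoordGrp.GLn.mk N k)) ?_
  intro x
  obtain ⟨y, rfl⟩ := Ideal.Quotient.mk_surjective x
  obtain ⟨z, rfl⟩ := Ideal.Quotient.mk_surjective y
  exact ⟨z, rfl⟩

section linform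
variable {k : Type u} [Field k] {N : ℕ}

/-- the linear form attached to a vector. -/
noncomputable def linF (p : Fin N → k) : MvPolynomial (Fin N) k := ∑ j, C (p j) * X j

theorem linF_smul (c : k) (p : Fin N → k) : linF (c • p) = C c * linF p := by
  simp only [linF, Pi.smul_apply, smul_eq_mul, map_mul, Finset.mul_sum]
  exact Finset.sum_congr rfl fun j _ => by ring

theorem linF_isHomogeneous (p : Fin N → k) : (linF p).IsHomogeneous 1 := by
  unfold linF
  exact IsHomogeneous.sum _ _ _ fun j _ => isHomogeneous_C_mul_X _ _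

theorem tG_linF (G : Matrix (Fin N) (Fin N) k) (p : Fin N → k) :
    tG G (linF p) = linF (Matrix.vecMul p G) := by
  unfold linF
  rw [tG_linForm]
  rfl

end linform

section formOfHomog
variable {k : Type u} [Field k] (N d : ℕ)

theorem coeff_formPoly' (a : CoordGrp.FormIdx N d → k) (s : Fin N →₀ ℕ) :
    coeff s (CoordGrp.formPoly a) =
      if h : s.degree = d then (s.multinomial : k) * a ⟨s, h⟩ else 0 := by
  classical
  split_ifs with h
  · exact CoordGrp.coeff_formPoly a ⟨s, h⟩
  · rw [CoordGrp.formPoly, coeff_sum]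
    refine Finset.sum_eq_zero fun m _ => ?_
    rw [coeff_monomial, if_neg]
    intro hm
    exact h (hm ▸ m.2)

/-- the point of the space of forms attached to a homogeneous polynomial. -/
noncomputable def ptOf (P : MvPolynomial (Fin N) k) : CoordGrp.FormIdx N d → k :=
  fun m => ((m.1.multinomial : k))⁻¹ * coeff m.1 P

theorem formPoly_ptOf (hd : (Nat.factorial d : k) ≠ 0) (P : MvPolynomial (Fin N) k)
    (hP : P.IsHomogeneous d) : CoordGrp.formPoly (ptOf N d P) = P := by
  ext s
  rw [coeff_formPoly']
  split_ifs with h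
  · rw [ptOf, ← mul_assoc, mul_inv_cancel₀ (multinomial_ne_zero N d ⟨s, h⟩ hd), one_mul]
  · by_contra hne
    apply h
    have h1 := hP (Ne.symm hne)
    rw [Finsupp.degree_eq_weight_one]
    exact h1

theorem ptOf_formPoly (hd : (Nat.factorial d : k) ≠ 0) (a : CoordGrp.FormIdx N d → k) :
    ptOf N d (CoordGrp.formPoly a) = a := by
  funext m
  rw [ptOf, CoordGrp.coeff_formPoly, ← mul_assoc, inv_mul_cancel₀ (multinomial_ne_zero N d m hd),
    one_mul]

end formOfHomog

end Groth.Agent.Lib.Helper20.PtStab
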