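import Mathlib
import Groth.Prelude.Def_GLin6
import Groth.Agent.Lib.Helper20.PtStab6

set_option autoImplicit false
universe u v w

namespace Groth.Agent.Lib.Helper20.PtStab

open MvPolynomial

section proj

/-- projections attached to a subspace and a complement, with the determinant of the associated
two-weight scalings. -/
theorem exists_proj {k : Type u} [Field k] {V : Type v} [AddCommGroup V] [Module k V]
    [FiniteDimensional k V] (W : Submodule k V) :
    ∃ (πW πC : V →ₗ[k] V), (∀ x, πW x + πC x = x) ∧ (∀ x, πW x ∈ W) ∧ (∀ x ∈ W, πC x = 0) ∧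
      ∀ α β : k, LinearMap.det (α • πW + β • πC) =
        α ^ Module.finrank k W * β ^ (Module.finrank k V - Module.finrank k W) := by
  obtain ⟨C, hC⟩ := Submodule.exists_isCompl W
  let e := Submodule.prodEquivOfIsCompl W C hC
  refine ⟨W.subtype ∘ₗ LinearMap.fst k W C ∘ₗ (e.symm : V →ₗ[k] (W × C)),
    C.subtype ∘ₗ LinearMap.snd k W C ∘ₗ (e.symm : V →ₗ[k] (W × C)), ?_, ?_, ?_, ?_⟩
  · intro x
    have := e.apply_symm_apply x
    rw [Submodule.coe_prodEquivOfIsCompl'] at this
    exact this
  · intro x
    exact (e.symm x).1.2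
  · intro x hx
    have : e.symm x = (⟨x, hx⟩, 0) := Submodule.prodEquivOfIsCompl_symm_apply_left W C hC ⟨x, hx⟩
    simp [this]
  · intro α β
    have hconj : α • (W.subtype ∘ₗ LinearMap.fst k W C ∘ₗ (e.symm : V →ₗ[k] (W × C))) +
        β • (C.subtype ∘ₗ LinearMap.snd k W C ∘ₗ (e.symm : V →ₗ[k] (W × C))) =
        (e : (W × C) →ₗ[k] V) ∘ₗ (LinearMap.prodMap (α • LinearMap.id) (β • LinearMap.id)) ∘ₗ
          (e.symm : V →ₗ[k] (W × C)) := by
      ext x
      simp [e, Submodule.coe_prodEquivOfIsCompl']
    rw [hconj, LinearMap.det_conj, LinearMap.det_prodMap, LinearMap.det_smul, LinearMap.det_smul,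
      LinearMap.det_id, LinearMap.det_id, mul_one, mul_one]
    congr 2
    have := Submodule.finrank_add_eq_of_isCompl hC
    omega

end proj

section matrixOfLinear
variable {k : Type u} [Field k] {N : ℕ}

/-- the matrix acting on linear forms through a linear endomorphism of coefficient vectors. -/
noncomputable def Dm (f : (Fin N → k) →ₗ[k] (Fin N → k)) : Matrix (Fin N) (Fin N) k :=
  (LinearMap.toMatrix' f).transpose

theorem det_Dm (f : (Fin N → k) →ₗ[k] (Fin N → k)) : (Dm f).det = LinearMap.det f := by
  rw [Dm, Matrix.det_transpose, LinearMap.det_toMatrix']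

theorem tG_Dm_linF (f : (Fin N → k) →ₗ[k] (Fin N → k)) (p : Fin N → k) :
    tG (Dm f) (linF p) = linF (f p) := by
  rw [tG_linF, Dm, Matrix.vecMul_transpose, LinearMap.toMatrix'_mulVec]

theorem Dm_injective : Function.Injective (Dm (k := k) (N := N)) := by
  intro f g h
  have h1 : LinearMap.toMatrix' f = LinearMap.toMatrix' g := Matrix.transpose_injective h
  exact LinearMap.toMatrix'.injective h1

end matrixOfLinear

end Groth.Agent.Lib.Helper20.PtStab
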