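import Mathlib
import Groth.Prelude.Def_GLin6
import Groth.Agent.Lib.Helper20.PtStab7

set_option autoImplicit false
universe u v w

namespace Groth.Agent.Lib.Helper20.PtStab

open MvPolynomial

section family
variable {k : Type u} [Field k] {N m : ℕ} (p : Fin m → Fin N → k)
  (W : Submodule k (Fin N → k)) (πW πC : (Fin N → k) →ₗ[k] (Fin N → k)) (e : ℕ)

open Classical in
/-- the degenerating family of vectors. -/
noncomputable def Qv (τ : k) (i : Fin m) : Fin N → k :=
  if p i ∈ W then p i else πC (p i) + τ ^ N • πW (p i)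

/-- the degenerating family of forms. -/
noncomputable def Pv (τ : k) : MvPolynomial (Fin N) k :=
  C (τ ^ e) * ∏ i, linF (Qv p W πW πC τ i)

variable {p W πW πC}

theorem proj_facts (h1 : ∀ x, πW x + πC x = x) (h2 : ∀ x, πW x ∈ W) (h3 : ∀ x ∈ W, πC x = 0) :
    (∀ x ∈ W, πW x = x) ∧ (∀ x, πC (πW x) = 0) ∧ (∀ x, πW (πW x) = πW x) ∧
      (∀ x, πC (πC x) = πC x) ∧ (∀ x, πW (πC x) = 0) := by
  have hA : ∀ x ∈ W, πW x = x := by
    intro x hx
    have := h1 x
    rw [h3 x hx, add_zero] at this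
    exact this
  have hB : ∀ x, πC (πW x) = 0 := fun x => h3 _ (h2 x)
  have hC : ∀ x, πW (πW x) = πW x := fun x => hA _ (h2 x)
  have hD : ∀ x, πC (πC x) = πC x := by
    intro x
    have := congrArg πC (h1 x)
    rw [map_add, hB, zero_add] at this
    exact this
  have hE : ∀ x, πW (πC x) = 0 := by
    intro x
    have := h1 (πC x)
    rw [hD] at this
    exact add_eq_right.mp this
  exact ⟨hA, hB, hC, hD, hE⟩

open Classical in
theorem Hmap (h1 : ∀ x, πW x + πC x = x) (h2 : ∀ x, πW x ∈ W) (h3 : ∀ x ∈ W, πC x = 0)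
    (r r' : ℕ) (hr : r + r' = N) (σ : k) (hσ : σ ≠ 0) (τ : k) (i : Fin m) :
    (σ ^ r' • πW + (σ⁻¹) ^ r • πC) (Qv p W πW πC τ i) =
      (if p i ∈ W then σ ^ r' else (σ⁻¹) ^ r) • Qv p W πW πC (σ * τ) i := by
  obtain ⟨hA, hB, hC, hD, hE⟩ := proj_facts h1 h2 h3
  unfold Qv
  split_ifs with hi
  · rw [LinearMap.add_apply, LinearMap.smul_apply, LinearMap.smul_apply, hA _ hi, h3 _ hi,
      smul_zero, add_zero]
  · rw [LinearMap.add_apply, LinearMap.smul_apply, LinearMap.smul_apply, map_add, map_add,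
      map_smul, map_smul, hE, hC, hD, hB, zero_add, smul_zero, add_zero, smul_add, smul_smul,
      smul_smul, add_comm]
    congr 2
    have this : (σ⁻¹) ^ r * σ ^ r = 1 := by
      rw [← mul_pow, inv_mul_cancel₀ hσ, one_pow]
    have key : σ ^ r' = (σ⁻¹) ^ r * σ ^ (r + r') := by
      rw [pow_add, ← mul_assoc, this, one_mul]
    rw [← hr, mul_pow, ← mul_assoc, ← key]

open Classical in
theorem prod_lam (α β : k) :
    ∏ i : Fin m, (if p i ∈ W then α else β) =
      α ^ (Finset.univ.filter fun i => p i ∈ W).card *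
        β ^ (Finset.univ.filter fun i => ¬ p i ∈ W).card := by
  rw [Finset.prod_ite, Finset.prod_const, Finset.prod_const]

open Classical in
theorem tG_Dm_Pv (h1 : ∀ x, πW x + πC x = x) (h2 : ∀ x, πW x ∈ W) (h3 : ∀ x ∈ W, πC x = 0)
    (r r' : ℕ) (hr : r + r' = N)
    (he : r' * (Finset.univ.filter fun i => p i ∈ W).card =
      e + r * (Finset.univ.filter fun i => ¬ p i ∈ W).card)
    (σ : k) (hσ : σ ≠ 0) (τ : k) :
    tG (Dm (σ ^ r' • πW + (σ⁻¹) ^ r • πC)) (Pv p W πW πC e τ) = Pv p W πW πC e (σ * τ) := by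
  unfold Pv
  rw [map_mul, map_prod, algHom_C, algebraMap_eq]
  have hfac : ∀ i : Fin m, tG (Dm (σ ^ r' • πW + (σ⁻¹) ^ r • πC)) (linF (Qv p W πW πC τ i)) =
      C (if p i ∈ W then σ ^ r' else (σ⁻¹) ^ r) * linF (Qv p W πW πC (σ * τ) i) := by
    intro i
    rw [tG_Dm_linF, Hmap h1 h2 h3 r r' hr σ hσ τ i, linF_smul]
  rw [Finset.prod_congr rfl fun i _ => hfac i, Finset.prod_mul_distrib, ← map_prod, prod_lam,
    ← mul_assoc, ← map_mul]
  congr 2
  rw [← pow_mul, ← pow_mul, he, pow_add, mul_pow]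
  have : σ ^ (r * (Finset.univ.filter fun i => ¬ p i ∈ W).card) *
      (σ⁻¹) ^ (r * (Finset.univ.filter fun i => ¬ p i ∈ W).card) = 1 := by
    rw [← mul_pow, mul_inv_cancel₀ hσ, one_pow]
  calc τ ^ e * (σ ^ e * σ ^ (r * (Finset.univ.filter fun i => ¬ p i ∈ W).card) *
        (σ⁻¹) ^ (r * (Finset.univ.filter fun i => ¬ p i ∈ W).card))
      = τ ^ e * σ ^ e * (σ ^ (r * (Finset.univ.filter fun i => ¬ p i ∈ W).card) *
        (σ⁻¹) ^ (r * (Finset.univ.filter fun i => ¬ p i ∈ W).card)) := by ring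
    _ = σ ^ e * τ ^ e := by rw [this, mul_one, mul_comm]

open Classical in
theorem Pv_one (h1 : ∀ x, πW x + πC x = x) :
    Pv p W πW πC e 1 = ∏ i, linF (p i) := by
  unfold Pv
  rw [one_pow, map_one, one_mul]
  refine Finset.prod_congr rfl fun i _ => ?_
  congr 1
  unfold Qv
  split_ifs with hi
  · rfl
  · rw [one_pow, one_smul, add_comm, h1]

theorem Pv_homog (τ : k) : (Pv p W πW πC e τ).IsHomogeneous m := by
  unfold Pv
  apply IsHomogeneous.C_mul
  have := IsHomogeneous.prod (Finset.univ : Finset (Fin m))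
    (fun i => linF (Qv p W πW πC τ i)) (fun _ => 1) (fun i _ => linF_isHomogeneous _)
  simpa using this

end family

end Groth.Agent.Lib.Helper20.PtStab
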