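import Mathlib
import Groth.Prelude.Def_GLin6
import Groth.Agent.Lib.Helper20.PtStab8

set_option autoImplicit false
universe u v w

namespace Groth.Agent.Lib.Helper20.PtStab

open MvPolynomial

section polyfam
variable {k : Type u} [Field k] {N m : ℕ} (p : Fin m → Fin N → k)
  (W : Submodule k (Fin N → k)) (πW πC : (Fin N → k) →ₗ[k] (Fin N → k)) (e : ℕ)

open Classical in
/-- the family of vectors with polynomial coefficients. -/
noncomputable def Qt (i : Fin m) (j : Fin N) : Polynomial k :=
  if p i ∈ W then Polynomial.C (p i j)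
  else Polynomial.C (πC (p i) j) + Polynomial.X ^ N * Polynomial.C (πW (p i) j)

/-- the family of forms with polynomial coefficients. -/
noncomputable def Pt : MvPolynomial (Fin N) (Polynomial k) :=
  C (Polynomial.X ^ e) * ∏ i, ∑ j, C (Qt p W πW πC i j) * X j

open Classical in
theorem map_Pt (τ : k) :
    MvPolynomial.map (Polynomial.evalRingHom τ) (Pt p W πW πC e) = Pv p W πW πC e τ := by
  unfold Pt Pv
  rw [map_mul, map_prod, MvPolynomial.map_C]
  congr 1
  · simp
  · refine Finset.prod_congr rfl fun i _ => ?_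
    rw [map_sum, linF]
    refine Finset.sum_congr rfl fun j _ => ?_
    rw [map_mul, MvPolynomial.map_C, MvPolynomial.map_X]
    congr 2
    unfold Qt Qv
    split_ifs
    · simp
    · simp
      ring

theorem ptOf_Pv_eq_eval (τ : k) (m' : CoordGrp.FormIdx N m) :
    ptOf N m (Pv p W πW πC e τ) m' =
      Polynomial.eval τ (Polynomial.C ((m'.1.multinomial : k))⁻¹ *
        coeff m'.1 (Pt p W πW πC e)) := by
  rw [← map_Pt, ptOf, coeff_map, Polynomial.eval_mul, Polynomial.eval_C,
    Polynomial.coe_evalRingHom]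

theorem limit [Infinite k] (f : MvPolynomial (CoordGrp.FormIdx N m) k)
    (hf : ∀ τ : k, τ ≠ 0 → MvPolynomial.aeval (ptOf N m (Pv p W πW πC e τ)) f = 0) :
    MvPolynomial.aeval (ptOf N m (Pv p W πW πC e 0)) f = 0 := by
  obtain ⟨ã, hã⟩ : ∃ ã : CoordGrp.FormIdx N m → Polynomial k, ã = fun m' =>
      Polynomial.C ((m'.1.multinomial : k))⁻¹ * coeff m'.1 (Pt p W πW πC e) := ⟨_, rfl⟩
  obtain ⟨g, hgdef⟩ : ∃ g : Polynomial k, g = MvPolynomial.aeval ã f := ⟨_, rfl⟩
  have hev : ∀ τ : k, Polynomial.eval τ g =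
      MvPolynomial.aeval (ptOf N m (Pv p W πW πC e τ)) f := by
    intro τ
    have h := MvPolynomial.comp_aeval (R := k) (f := ã)
      (Polynomial.aeval τ : Polynomial k →ₐ[k] k)
    have h2 := congrArg (fun φ => φ f) h
    simp only [AlgHom.comp_apply, Polynomial.coe_aeval_eq_eval] at h2
    rw [hgdef, h2]
    congr 2
    funext m'
    rw [hã, ptOf_Pv_eq_eval]
  have hg : g = 0 := by
    apply Polynomial.eq_zero_of_infinite_isRoot
    refine Set.Infinite.mono (s := {τ : k | τ ≠ 0}) ?_ ?_
    · intro τ hτ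
      change Polynomial.eval τ g = 0
      rw [hev, hf τ hτ]
    · exact (Set.finite_singleton (0 : k)).infinite_compl
  rw [← hev, hg, Polynomial.eval_zero]

end polyfam

end Groth.Agent.Lib.Helper20.PtStab
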