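import Mathlib
import Groth.Prelude.Def_GLin6
import Groth.Agent.Lib.Helper20.PtStab9

set_option autoImplicit false
universe u v w

namespace Groth.Agent.Lib.Helper20.PtStab

open MvPolynomial

theorem main2 (k : Type u) [Field k] [IsAlgClosed k] (n m : ℕ)
    (hm : (Nat.factorial m : k) ≠ 0) (p : Fin m → Fin (n + 1) → k)
    (a : CoordGrp.FormIdx (n + 1) m → k)
    (ha : CoordGrp.formPoly a = ∏ i, ∑ j, MvPolynomial.C (p i j) * MvPolynomial.X j)
    (hst : @GLin.IsStableVec k _ (CoordGrp.SLn (n + 1) k) _ _ (CoordGrp.FormIdx (n + 1) m)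
      (GLin.comodAlong ((CoordGrp.SLn.mkHom (n + 1) k).comp (CoordGrp.Mat.toGLn (n + 1) k)) (CoordGrp.formsCoact k (n + 1) m))
      (GLin.isCoactAlg_comodAlong ((CoordGrp.SLn.mkHom (n + 1) k).comp (CoordGrp.Mat.toGLn (n + 1) k)) (CoordGrp.formsCoact k (n + 1) m) (CoordGrp.formsCoact_isCoactAlg k (n + 1) m)) a)
    (W : Submodule k (Fin (n + 1) → k)) (hW : W ≠ ⊥) (hW' : W ≠ ⊤) :
    Nat.card {i : Fin m // p i ∈ W} * (n + 1) < m * Module.finrank k W := by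
  classical
  letI cm : HopfRep.Comod k (CoordGrp.SLn (n + 1) k) (CoordGrp.FormRing k (n + 1) m) :=
    GLin.comodAlong ((CoordGrp.SLn.mkHom (n + 1) k).comp (CoordGrp.Mat.toGLn (n + 1) k))
      (CoordGrp.formsCoact k (n + 1) m)
  letI ic : GLin.IsCoactAlg k (CoordGrp.SLn (n + 1) k) (CoordGrp.FormRing k (n + 1) m) :=
    GLin.isCoactAlg_comodAlong ((CoordGrp.SLn.mkHom (n + 1) k).comp (CoordGrp.Mat.toGLn (n + 1) k))
      (CoordGrp.formsCoact k (n + 1) m) (CoordGrp.formsCoact_isCoactAlg k (n + 1) m)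
  by_contra hcon
  rw [not_lt] at hcon
  obtain ⟨N, hN⟩ : ∃ N, N = n + 1 := ⟨_, rfl⟩
  obtain ⟨πW, πC, h1, h2, h3, hdet⟩ := exists_proj W
  obtain ⟨r, hrdef⟩ : ∃ r, r = Module.finrank k W := ⟨_, rfl⟩
  have hrpos : 0 < r := by
    rw [hrdef]
    exact Submodule.one_le_finrank_iff.mpr hW
  have hrlt : r < n + 1 := by
    have := Submodule.finrank_lt hW'
    rw [Module.finrank_fin_fun] at this
    rw [hrdef]
    exact this
  obtain ⟨r', hr⟩ : ∃ r', r + r' = n + 1 := ⟨n + 1 - r, by omega⟩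
  have hr'pos : 0 < r' := by omega
  have hfin : Module.finrank k (Fin (n + 1) → k) - Module.finrank k W = r' := by
    rw [Module.finrank_fin_fun, ← hrdef]
    omega
  obtain ⟨s, hs⟩ : ∃ s, s = (Finset.univ.filter fun i => p i ∈ W).card := ⟨_, rfl⟩
  obtain ⟨s', hs'⟩ : ∃ s', s' = (Finset.univ.filter fun i => ¬ p i ∈ W).card := ⟨_, rfl⟩
  have hss : s + s' = m := by
    have := Finset.card_filter_add_card_filter_not
      (s := (Finset.univ : Finset (Fin m))) (fun i => p i ∈ W)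
    rw [hs, hs']
    simpa using this
  have hcard : Nat.card {i : Fin m // p i ∈ W} = s := by
    rw [Nat.card_eq_fintype_card, Fintype.card_subtype, hs]
  rw [hcard, ← hrdef] at hcon
  obtain ⟨e, he0⟩ : ∃ e, s * (n + 1) = e + m * r := ⟨s * (n + 1) - m * r, by omega⟩
  have he : r' * s = e + r * s' := by
    rw [← hr, ← hss] at he0
    nlinarith [he0]
  rw [hs, hs'] at he
  -- the one-parameter family of matrices
  obtain ⟨H, hH⟩ : ∃ H : k → ((Fin (n + 1) → k) →ₗ[k] (Fin (n + 1) → k)),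
      H = fun σ => σ ^ r' • πW + (σ⁻¹) ^ r • πC := ⟨_, rfl⟩
  have hdetH : ∀ σ : k, σ ≠ 0 → (Dm (H σ)).det = 1 := by
    intro σ hσ
    rw [det_Dm, hH, hdet, hfin, ← hrdef, ← pow_mul, ← pow_mul, mul_comm r r', ← mul_pow,
      mul_inv_cancel₀ hσ, one_pow]
  have hact : ∀ σ : k, σ ≠ 0 → ∀ τ,
      tG (Dm (H σ)) (Pv p W πW πC e τ) = Pv p W πW πC e (σ * τ) := by
    intro σ hσ τ
    rw [hH]
    exact tG_Dm_Pv e h1 h2 h3 r r' hr he σ hσ τ
  have hP1 : Pv p W πW πC e 1 = CoordGrp.formPoly a := by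
    rw [ha, Pv_one e h1]
    rfl
  have hptOf : ∀ τ, CoordGrp.formPoly (ptOf (n + 1) m (Pv p W πW πC e τ)) = Pv p W πW πC e τ :=
    fun τ => formPoly_ptOf (n + 1) m hm _ (Pv_homog e τ)
  have hactG : ∀ σ : k, σ ≠ 0 → ∀ τ, actG (n + 1) m (Dm (H σ))
      (ptOf (n + 1) m (Pv p W πW πC e τ)) = ptOf (n + 1) m (Pv p W πW πC e (σ * τ)) := by
    intro σ hσ τ
    apply formPoly_injective (n + 1) m hm
    rw [formPoly_actG, hptOf, hptOf, hact σ hσ]
  have ha1 : ptOf (n + 1) m (Pv p W πW πC e 1) = a := by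
    rw [hP1, ptOf_formPoly (n + 1) m hm]
  -- orbit closure
  obtain ⟨a₀, ha₀⟩ : ∃ a₀, a₀ = ptOf (n + 1) m (Pv p W πW πC e 0) := ⟨_, rfl⟩
  have hker : RingHom.ker (GLin.orbitHom k (CoordGrp.SLn (n + 1) k)
      (GLin.vecPt k (CoordGrp.FormIdx (n + 1) m) a)) ≤
      RingHom.ker (GLin.vecPt k (CoordGrp.FormIdx (n + 1) m) a₀) := by
    intro f hf
    rw [RingHom.mem_ker] at hf ⊢
    rw [ha₀]
    apply limit p W πW πC e f
    intro τ hτ
    have h5 := actPt_vecPt (n + 1) m (Dm (H τ)) (hdetH τ hτ) a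
    have h6 := hactG τ hτ 1
    rw [mul_one, ha1] at h6
    rw [h6] at h5
    have h7 := congrArg (fun φ => φ f) h5
    change (CoordGrp.SLn.pt (n + 1) k (Dm (H τ)) (hdetH τ hτ))
      (GLin.orbitHom k (CoordGrp.SLn (n + 1) k)
        (GLin.vecPt k (CoordGrp.FormIdx (n + 1) m) a) f) = _ at h7
    rw [hf, map_zero] at h7
    exact h7.symm
  obtain ⟨g, hg⟩ := exists_point_of_isClosedOrbit
    (GLin.vecPt k (CoordGrp.FormIdx (n + 1) m) a)
    (GLin.vecPt k (CoordGrp.FormIdx (n + 1) m) a₀) hst.1 hker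
  obtain ⟨G₀, hG₀, rfl⟩ := exists_matrix_of_point (n + 1) g
  have hG₀a : actG (n + 1) m G₀ a = a₀ := by
    have h5 := actPt_vecPt (n + 1) m G₀ hG₀ a
    have h8 := h5.symm.trans hg
    funext m'
    have := congrArg (fun φ => φ (X m')) h8
    simpa using this
  have hfix0 : ∀ σ : k, σ ≠ 0 → actG (n + 1) m (Dm (H σ)) a₀ = a₀ := by
    intro σ hσ
    have := hactG σ hσ 0
    rw [mul_zero, ← ha₀] at this
    exact this
  have hG₀inv : G₀ * G₀⁻¹ = 1 := Matrix.mul_nonsing_inv G₀ (by rw [hG₀]; exact isUnit_one)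
  have hG₀inv' : G₀⁻¹ * G₀ = 1 := Matrix.nonsing_inv_mul G₀ (by rw [hG₀]; exact isUnit_one)
  have hroot : ∀ c : {c : k // c ≠ 0}, ∃ τ : k, τ ^ r' = c.1 :=
    fun c => IsAlgClosed.exists_pow_nat_eq c.1 hr'pos
  choose τc hτc using hroot
  have hτc0 : ∀ c, τc c ≠ 0 := by
    intro c h0
    have := hτc c
    rw [h0, zero_pow (by omega)] at this
    exact c.2 this.symm
  obtain ⟨Gc, hGc⟩ : ∃ Gc : {c : k // c ≠ 0} → Matrix (Fin (n + 1)) (Fin (n + 1)) k,
      Gc = fun c => G₀ * Dm (H (τc c)) * G₀⁻¹ := ⟨_, rfl⟩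
  have hGcdet : ∀ c, (Gc c).det = 1 := by
    intro c
    rw [hGc]
    change (G₀ * Dm (H (τc c)) * G₀⁻¹).det = 1
    rw [Matrix.det_mul, Matrix.det_mul, hdetH _ (hτc0 c), hG₀, one_mul, one_mul,
      Matrix.det_nonsing_inv, hG₀, Ring.inverse_one]
  have hGcfix : ∀ c, actG (n + 1) m (Gc c) a = a := by
    intro c
    rw [hGc]
    change actG (n + 1) m (G₀ * Dm (H (τc c)) * G₀⁻¹) a = a
    rw [← actG_actG (n + 1) m hm, ← actG_actG (n + 1) m hm, hG₀a, hfix0 _ (hτc0 c), ← hG₀a,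
      actG_actG (n + 1) m hm, hG₀inv, actG_one (n + 1) m hm]
  obtain ⟨w₀, hw₀W, hw₀⟩ := Submodule.exists_mem_ne_zero_of_ne_bot hW
  have hHw : ∀ σ, H σ w₀ = σ ^ r' • w₀ := by
    intro σ
    obtain ⟨hA, -, -, -, -⟩ := proj_facts h1 h2 h3
    rw [hH]
    change (σ ^ r' • πW + (σ⁻¹) ^ r • πC) w₀ = _
    rw [LinearMap.add_apply, LinearMap.smul_apply, LinearMap.smul_apply, hA _ hw₀W, h3 _ hw₀W,
      smul_zero, add_zero]
  have hinj : Function.Injective
      (fun c : {c : k // c ≠ 0} => CoordGrp.SLn.pt (n + 1) k (Gc c) (hGcdet c)) := by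
    intro c c' h
    have hmat : Gc c = Gc c' := by
      ext i j
      have := congrArg (fun φ => φ (CoordGrp.SLn.X i j)) h
      simpa using this
    have e1 : ∀ D : Matrix (Fin (n + 1)) (Fin (n + 1)) k, G₀⁻¹ * (G₀ * D * G₀⁻¹) * G₀ = D := by
      intro D
      rw [Matrix.mul_assoc G₀ D, ← Matrix.mul_assoc G₀⁻¹, hG₀inv', Matrix.one_mul,
        Matrix.mul_assoc, hG₀inv', Matrix.mul_one]
    have hD : Dm (H (τc c)) = Dm (H (τc c')) := by
      have := congrArg (fun M => G₀⁻¹ * M * G₀) hmat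
      rw [hGc] at this
      change G₀⁻¹ * (G₀ * Dm (H (τc c)) * G₀⁻¹) * G₀ = G₀⁻¹ * (G₀ * Dm (H (τc c')) * G₀⁻¹) * G₀
        at this
      rwa [e1, e1] at this
    have hHH := Dm_injective hD
    have h9 := congrArg (fun φ => φ w₀) hHH
    change H (τc c) w₀ = H (τc c') w₀ at h9
    rw [hHw, hHw, hτc, hτc] at h9
    apply Subtype.ext
    by_contra hne
    apply hw₀
    have h0 : (c.1 - c'.1) • w₀ = 0 := by rw [sub_smul, h9, sub_self]
    exact (smul_eq_zero.mp h0).resolve_left (sub_ne_zero.mpr hne)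
  haveI : Infinite {c : k // c ≠ 0} :=
    Set.Infinite.to_subtype (Set.finite_singleton (0 : k)).infinite_compl
  refine not_hasFiniteStab_of_infinite_fixing' (GLin.vecPt k (CoordGrp.FormIdx (n + 1) m) a)
    (fun c => CoordGrp.SLn.pt (n + 1) k (Gc c) (hGcdet c)) hinj ?_ hst.2
  intro c
  have h5 := actPt_vecPt (n + 1) m (Gc c) (hGcdet c) a
  rw [hGcfix c] at h5
  exact h5

end Groth.Agent.Lib.Helper20.PtStab
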