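import Mathlib
import Groth.Agent.Lib.Helper22.QuasiHomeo

set_option autoImplicit false

open Groth.Agent.Lib.Helper22 Topology Set.Notation

namespace Groth.Agent.Lib.Helper20.QuasiHomeoC

universe u v

variable {X : Type u} {Y : Type v} [TopologicalSpace X] [TopologicalSpace Y]

/-- `y` has a locally closed neighbourhood-like piece inside `s`. -/
def LcIn (s : Set Y) (y : Y) : Prop := ∃ t : Set Y, IsLocallyClosed t ∧ y ∈ t ∧ t ⊆ s

theorem LcIn.mono {s s' : Set Y} {y : Y} (h : LcIn s y) (hs : s ⊆ s') : LcIn s' y := by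
  obtain ⟨t, ht, hy, hts⟩ := h
  exact ⟨t, ht, hy, hts.trans hs⟩

theorem LcIn.inter {s s' : Set Y} {y : Y} (h : LcIn s y) (h' : LcIn s' y) : LcIn (s ∩ s') y := by
  obtain ⟨t, ht, hy, hts⟩ := h
  obtain ⟨t', ht', hy', hts'⟩ := h'
  exact ⟨t ∩ t', ht.inter ht', ⟨hy, hy'⟩, Set.inter_subset_inter hts hts'⟩

theorem LcIn.mem {s : Set Y} {y : Y} (h : LcIn s y) : y ∈ s := by
  obtain ⟨t, -, hy, hts⟩ := h
  exact hts hy

theorem lcIn_of_isLocallyClosed {s : Set Y} (hs : IsLocallyClosed s) {y : Y} (hy : y ∈ s) :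
    LcIn s y := ⟨s, hs, hy, le_rfl⟩

theorem lcIn_compl_of_isLocallyClosed {s : Set Y} (hs : IsLocallyClosed s) {y : Y} (hy : y ∉ s) :
    LcIn sᶜ y := by
  obtain ⟨U, C, hU, hC, rfl⟩ := hs
  by_cases hyU : y ∈ U
  · have hyC : y ∉ C := fun h => hy ⟨hyU, h⟩
    refine ⟨Cᶜ, hC.isOpen_compl.isLocallyClosed, hyC, ?_⟩
    intro z hz hz'
    exact hz hz'.2
  · refine ⟨Uᶜ, hU.isClosed_compl.isLocallyClosed, hyU, ?_⟩
    intro z hz hz'
    exact hz hz'.1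

/-- Both a set and its complement are unions of locally closed sets. -/
def LcP (s : Set Y) : Prop := (∀ y ∈ s, LcIn s y) ∧ (∀ y ∉ s, LcIn sᶜ y)

theorem LcP.compl {s : Set Y} (h : LcP s) : LcP sᶜ := by
  refine ⟨fun y hy => h.2 y hy, fun y hy => ?_⟩
  rw [compl_compl]
  exact h.1 y (not_not.mp hy)

theorem LcP.union {s t : Set Y} (hs : LcP s) (ht : LcP t) : LcP (s ∪ t) := by
  refine ⟨fun y hy => ?_, fun y hy => ?_⟩
  · rcases hy with hy | hy
    · exact (hs.1 y hy).mono Set.subset_union_left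
    · exact (ht.1 y hy).mono Set.subset_union_right
  · rw [Set.compl_union]
    exact (hs.2 y fun h => hy (Or.inl h)).inter (ht.2 y fun h => hy (Or.inr h))

theorem LcP.inter {s t : Set Y} (hs : LcP s) (ht : LcP t) : LcP (s ∩ t) := by
  have := (hs.compl.union ht.compl).compl
  rwa [Set.compl_union, compl_compl, compl_compl] at this

theorem lcP_of_isLocallyClosed {s : Set Y} (hs : IsLocallyClosed s) : LcP s :=
  ⟨fun _ hy => lcIn_of_isLocallyClosed hs hy, fun _ hy => lcIn_compl_of_isLocallyClosed hs hy⟩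

theorem lcP_of_isConstructible {s : Set Y} (hs : IsConstructible s) : LcP s := by
  induction hs using IsConstructible.empty_union_induction with
  | open_retrocompact U hUopen hUcomp => exact lcP_of_isLocallyClosed hUopen.isLocallyClosed
  | union s hs t ht hs' ht' => exact hs'.union ht'
  | compl s hs hs' => exact hs'.compl

/-- Transport `LcIn` from an open subspace. -/
theorem lcIn_of_subtype {U : Set Y} (hU : IsOpen U) {s : Set U} {y : U} (h : LcIn s y) :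
    LcIn (Subtype.val '' s) (y : Y) := by
  obtain ⟨t, ht, hy, hts⟩ := h
  refine ⟨Subtype.val '' t, ?_, ⟨y, hy, rfl⟩, Set.image_mono hts⟩
  apply ht.image IsInducing.subtypeVal
  rw [Subtype.range_coe]
  exact hU.isLocallyClosed

theorem lcIn_of_isConstructible_restrict {U : Set Y} (hU : IsOpen U) {s : Set Y}
    (hs : IsConstructible (U ↓∩ s)) {y : Y} (hyU : y ∈ U) (hy : y ∈ s) : LcIn (U ∩ s) y := by
  have h1 := (lcP_of_isConstructible hs).1 ⟨y, hyU⟩ hy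
  refine (lcIn_of_subtype hU h1).mono ?_
  rintro _ ⟨z, hz, rfl⟩
  exact ⟨z.2, hz⟩

theorem lcIn_compl_of_isConstructible_restrict {U : Set Y} (hU : IsOpen U) {s : Set Y}
    (hs : IsConstructible (U ↓∩ s)) {y : Y} (hyU : y ∈ U) (hy : y ∉ s) : LcIn (U ∩ sᶜ) y := by
  have h1 := (lcP_of_isConstructible hs).2 ⟨y, hyU⟩ hy
  refine (lcIn_of_subtype hU h1).mono ?_
  rintro _ ⟨z, hz, rfl⟩
  exact ⟨z.2, hz⟩

theorem lcP_of_isLocallyConstructible {s : Set Y} (hs : IsLocallyConstructible s) : LcP s := by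
  refine ⟨fun y hy => ?_, fun y hy => ?_⟩
  · obtain ⟨U, hUy, hU, hc⟩ := hs y
    exact (lcIn_of_isConstructible_restrict hU hc (mem_of_mem_nhds hUy) hy).mono
      Set.inter_subset_right
  · obtain ⟨U, hUy, hU, hc⟩ := hs y
    exact (lcIn_compl_of_isConstructible_restrict hU hc (mem_of_mem_nhds hUy) hy).mono
      Set.inter_subset_right

variable {f : X → Y}

/-- Key separation lemma. -/
theorem _root_.Groth.Agent.Lib.Helper22.QH.not_lcIn_of_preimage_empty (h : QH f) {A : Set Y} {y : Y} (hA : LcIn A y)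
    (he : f ⁻¹' A = ∅) : False := by
  obtain ⟨t, ht, hy, htA⟩ := hA
  have : t = ∅ := h.eq_empty_of_isLocallyClosed ht (by
    apply Set.eq_empty_of_subset_empty
    rw [← he]
    exact Set.preimage_mono htA)
  rw [this] at hy
  exact hy

theorem _root_.Groth.Agent.Lib.Helper22.QH.subset_of_lcP (h : QH f) {Z Z' : Set Y} (hZ : LcP Z) (hZ' : LcP Z')
    (he : f ⁻¹' Z ⊆ f ⁻¹' Z') : Z ⊆ Z' := by
  intro y hy
  by_contra hy'
  refine h.not_lcIn_of_preimage_empty ((hZ.1 y hy).inter (hZ'.2 y hy')) ?_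
  apply Set.eq_empty_of_subset_empty
  rintro x ⟨hx1, hx2⟩
  exact hx2 (he hx1)

theorem _root_.Groth.Agent.Lib.Helper22.QH.eq_of_lcP (h : QH f) {Z Z' : Set Y} (hZ : LcP Z) (hZ' : LcP Z')
    (he : f ⁻¹' Z = f ⁻¹' Z') : Z = Z' :=
  le_antisymm (h.subset_of_lcP hZ hZ' he.le) (h.subset_of_lcP hZ' hZ he.ge)

theorem lqc_of_isOpen {U : Set Y} (hU : IsOpen U) : LQC U :=
  LQC.of_isLocallyClosed hU.isLocallyClosed

theorem _root_.Groth.Agent.Lib.Helper22.QH.isRetrocompact_preimage_iff (h : QH f) (hf : Continuous f) {U : Set Y}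
    (hU : IsOpen U) : IsRetrocompact U ↔ IsRetrocompact (f ⁻¹' U) := by
  constructor
  · intro hr K' hK' hK'o
    obtain ⟨K, hK, rfl⟩ := h.2 K' hK'o
    have hKc : IsCompact K := (h.isCompact_preimage_iff hf (lqc_of_isOpen hK)).mpr hK'
    have := hr hKc hK
    rw [← Set.preimage_inter]
    exact (h.isCompact_preimage_iff hf (lqc_of_isOpen (hU.inter hK))).mp this
  · intro hr K hK hKo
    have hK' : IsCompact (f ⁻¹' K) := (h.isCompact_preimage_iff hf (lqc_of_isOpen hKo)).mp hK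
    have := hr hK' (hKo.preimage hf)
    rw [← Set.preimage_inter] at this
    exact (h.isCompact_preimage_iff hf (lqc_of_isOpen (hU.inter hKo))).mpr this

theorem _root_.Groth.Agent.Lib.Helper22.QH.isConstructible_preimage (h : QH f) (hf : Continuous f) {Z : Set Y}
    (hZ : IsConstructible Z) : IsConstructible (f ⁻¹' Z) :=
  hZ.preimage hf fun _ hs hs' => (h.isRetrocompact_preimage_iff hf hs).mp hs'

theorem _root_.Groth.Agent.Lib.Helper22.QH.exists_isConstructible_preimage_eq (h : QH f) (hf : Continuous f) {W : Set X}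
    (hW : IsConstructible W) : ∃ Z : Set Y, IsConstructible Z ∧ f ⁻¹' Z = W := by
  induction hW using IsConstructible.empty_union_induction with
  | open_retrocompact V hVopen hVcomp =>
    obtain ⟨U, hU, rfl⟩ := h.2 V hVopen
    exact ⟨U, ((h.isRetrocompact_preimage_iff hf hU).mpr hVcomp).isConstructible hU, rfl⟩
  | union s hs t ht hs' ht' =>
    obtain ⟨Z, hZ, rfl⟩ := hs'
    obtain ⟨Z', hZ', rfl⟩ := ht'
    exact ⟨Z ∪ Z', hZ.union hZ', Set.preimage_union⟩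
  | compl s hs hs' =>
    obtain ⟨Z, hZ, rfl⟩ := hs'
    exact ⟨Zᶜ, hZ.compl, Set.preimage_compl⟩

theorem _root_.Groth.Agent.Lib.Helper22.QH.isLocallyConstructible_preimage (h : QH f)
    (hf : Continuous f) {Z : Set Y}
    (hZ : IsLocallyConstructible Z) : IsLocallyConstructible (f ⁻¹' Z) := by
  intro x
  obtain ⟨U, hUy, hU, hc⟩ := hZ (f x)
  refine ⟨f ⁻¹' U, hf.continuousAt.preimage_mem_nhds hUy, hU.preimage hf, ?_⟩
  have hg : QH (U.restrictPreimage f) := h.restrictPreimage (lqc_of_isOpen hU)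
  exact hg.isConstructible_preimage hf.restrictPreimage hc

theorem _root_.Groth.Agent.Lib.Helper22.QH.exists_local (h : QH f) (hf : Continuous f)
    {W : Set X} {V : Set X} (hV : IsOpen V)
    (hc : IsConstructible (V ↓∩ W)) :
    ∃ U : Set Y, IsOpen U ∧ f ⁻¹' U = V ∧ ∃ Z : Set Y, Z ⊆ U ∧ IsConstructible (U ↓∩ Z) ∧
      f ⁻¹' Z = V ∩ W := by
  obtain ⟨U, hU, rfl⟩ := h.2 V hV
  have hg : QH (U.restrictPreimage f) := h.restrictPreimage (lqc_of_isOpen hU)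
  obtain ⟨Z₀, hZ₀, hZ₀e⟩ := hg.exists_isConstructible_preimage_eq hf.restrictPreimage hc
  refine ⟨U, hU, rfl, Subtype.val '' Z₀, ?_, ?_, ?_⟩
  · rintro _ ⟨z, -, rfl⟩; exact z.2
  · rw [Set.preimage_image_eq _ Subtype.val_injective]; exact hZ₀
  · ext x
    constructor
    · rintro ⟨z, hz, hzx⟩
      have hxU : x ∈ f ⁻¹' U := by show f x ∈ U; rw [← hzx]; exact z.2
      refine ⟨hxU, ?_⟩
      have : (⟨x, hxU⟩ : f ⁻¹' U) ∈ (U.restrictPreimage f) ⁻¹' Z₀ := by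
        show U.restrictPreimage f ⟨x, hxU⟩ ∈ Z₀
        convert hz using 1
        exact Subtype.ext hzx.symm
      rw [hZ₀e] at this
      exact this
    · rintro ⟨hxU, hxW⟩
      have : (⟨x, hxU⟩ : f ⁻¹' U) ∈ (U.restrictPreimage f) ⁻¹' Z₀ := by
        rw [hZ₀e]; exact hxW
      exact ⟨U.restrictPreimage f ⟨x, hxU⟩, this, rfl⟩

theorem _root_.Groth.Agent.Lib.Helper22.QH.exists_isLocallyConstructible_preimage_eq (h : QH f)
    (hf : Continuous f) {W : Set X}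
    (hW : IsLocallyConstructible W) : ∃ Z : Set Y, IsLocallyConstructible Z ∧ f ⁻¹' Z = W := by
  have key : ∀ x : X, ∃ U : Set Y, IsOpen U ∧ f x ∈ U ∧ ∃ Z : Set Y, Z ⊆ U ∧
      IsConstructible (U ↓∩ Z) ∧ f ⁻¹' Z = f ⁻¹' U ∩ W := by
    intro x
    obtain ⟨V, hVx, hV, hc⟩ := hW x
    obtain ⟨U, hU, rfl, Z, hZU, hZc, hZe⟩ := h.exists_local hf hV hc
    exact ⟨U, hU, (mem_of_mem_nhds hVx : x ∈ f ⁻¹' U), Z, hZU, hZc, hZe⟩
  choose U hU hxU Zx hZU hZc hZe using key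
  have hcover : (⋃ x, U x) = Set.univ := by
    apply h.1 _ _ (isOpen_iUnion hU) isOpen_univ
    rw [Set.preimage_iUnion, Set.preimage_univ]
    apply Set.eq_univ_of_forall
    intro x
    exact Set.mem_iUnion.mpr ⟨x, hxU x⟩
  have hZZ : ∀ x x', Zx x' ∩ U x ⊆ Zx x := by
    intro x x' y ⟨hy1, hy2⟩
    by_contra hy3
    have hyU' : y ∈ U x' := hZU x' hy1
    have l1 := lcIn_of_isConstructible_restrict (hU x') (hZc x') hyU' hy1
    have l2 := lcIn_compl_of_isConstructible_restrict (hU x) (hZc x) hy2 hy3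
    refine h.not_lcIn_of_preimage_empty (l1.inter l2) ?_
    apply Set.eq_empty_of_subset_empty
    rintro z ⟨⟨hz1, hz2⟩, hz3, hz4⟩
    have hz2' : z ∈ f ⁻¹' (Zx x') := hz2
    rw [hZe x'] at hz2'
    apply hz4
    show z ∈ f ⁻¹' (Zx x)
    rw [hZe x]
    exact ⟨hz3, hz2'.2⟩
  refine ⟨⋃ x, Zx x, ?_, ?_⟩
  · intro y
    have : y ∈ ⋃ x, U x := by rw [hcover]; trivial
    obtain ⟨x, hx⟩ := Set.mem_iUnion.mp this
    refine ⟨U x, (hU x).mem_nhds hx, hU x, ?_⟩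
    convert hZc x using 1
    ext ⟨z, hz⟩
    simp only [Set.mem_preimage, Set.mem_iUnion]
    constructor
    · rintro ⟨x', hx'⟩
      exact hZZ x x' ⟨hx', hz⟩
    · intro hz'
      exact ⟨x, hz'⟩
  · rw [Set.preimage_iUnion]
    ext x
    simp only [Set.mem_iUnion]
    constructor
    · rintro ⟨x', hx'⟩
      have : x ∈ f ⁻¹' (Zx x') := hx'
      rw [hZe x'] at this
      exact this.2
    · intro hx
      refine ⟨x, ?_⟩
      show x ∈ f ⁻¹' (Zx x)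
      rw [hZe x]
      exact ⟨hxU x, hx⟩

theorem lcIn_sUnion_compl {T : Set (Set Y)} (hT : T.Finite) {y : Y}
    (h : ∀ t ∈ T, LcIn tᶜ y) : LcIn (⋃₀ T)ᶜ y := by
  induction T, hT using Set.Finite.induction_on with
  | empty =>
    rw [Set.sUnion_empty, Set.compl_empty]
    exact ⟨Set.univ, isOpen_univ.isLocallyClosed, trivial, le_rfl⟩
  | insert ha hT ih =>
    rw [Set.sUnion_insert, Set.compl_union]
    exact (h _ (Set.mem_insert _ _)).inter (ih fun t ht => h t (Set.mem_insert_of_mem _ ht))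

theorem lcP_of_qc {Z : Set Y} {T : Set (Set Y)} (hT : T.Finite)
    (hl : ∀ t ∈ T, IsLocallyClosed t) (hZ : Z = ⋃₀ T) : LcP Z := by
  subst hZ
  refine ⟨fun y hy => ?_, fun y hy => ?_⟩
  · obtain ⟨t, ht, hyt⟩ := hy
    exact ⟨t, hl t ht, hyt, Set.subset_sUnion_of_mem ht⟩
  · exact lcIn_sUnion_compl hT fun t ht =>
      lcIn_compl_of_isLocallyClosed (hl t ht) fun hyt => hy ⟨t, ht, hyt⟩

theorem lcP_of_lqc {Z : Set Y} (hZ : LQC Z) : LcP Z := by
  refine ⟨fun y hy => ?_, fun y hy => ?_⟩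
  · obtain ⟨U, hU, hyU, T, hTf, hT, hUT⟩ := hZ y
    have : y ∈ ⋃₀ T := hUT ▸ ⟨hyU, hy⟩
    obtain ⟨t, ht, hyt⟩ := this
    refine ⟨t, hT t ht, hyt, ?_⟩
    have : t ⊆ U ∩ Z := hUT ▸ Set.subset_sUnion_of_mem ht
    exact this.trans Set.inter_subset_right
  · obtain ⟨U, hU, hyU, T, hTf, hT, hUT⟩ := hZ y
    have h1 : LcIn (⋃₀ T)ᶜ y := lcIn_sUnion_compl hTf fun t ht =>
      lcIn_compl_of_isLocallyClosed (hT t ht) fun hyt => by
        have : y ∈ U ∩ Z := hUT ▸ (⟨t, ht, hyt⟩ : y ∈ ⋃₀ T)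
        exact hy this.2
    have h2 : LcIn U y := lcIn_of_isLocallyClosed hU.isLocallyClosed hyU
    refine (h1.inter h2).mono ?_
    rintro z ⟨hz1, hz2⟩ hz3
    exact hz1 (hUT ▸ (⟨hz2, hz3⟩ : z ∈ U ∩ Z))

theorem subset_of_lcP_of_dense {X₀ : Set Y}
    (ha : ∀ Z : Set Y, IsLocallyClosed Z → Z.Nonempty → (Z ∩ X₀).Nonempty) {A B : Set Y}
    (hA : LcP A) (hB : LcP B) (h : A ∩ X₀ ⊆ B) : A ⊆ B := by
  intro y hy
  by_contra hy'
  obtain ⟨E, hE, hyE, hEs⟩ := (hA.1 y hy).inter (hB.2 y hy')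
  obtain ⟨z, hzE, hz0⟩ := ha E hE ⟨y, hyE⟩
  exact (hEs hzE).2 (h ⟨(hEs hzE).1, hz0⟩)

theorem eq_of_lcP_of_dense {X₀ : Set Y}
    (ha : ∀ Z : Set Y, IsLocallyClosed Z → Z.Nonempty → (Z ∩ X₀).Nonempty) {A B : Set Y}
    (hA : LcP A) (hB : LcP B) (h : A ∩ X₀ = B ∩ X₀) : A = B :=
  le_antisymm (subset_of_lcP_of_dense ha hA hB (h.le.trans Set.inter_subset_left))
    (subset_of_lcP_of_dense ha hB hA (h.ge.trans Set.inter_subset_left))

theorem exists_lqc_lift {X₀ : Set Y}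
    (ha : ∀ Z : Set Y, IsLocallyClosed Z → Z.Nonempty → (Z ∩ X₀).Nonempty) {Z₀ : Set X₀}
    (hZ₀ : LQC Z₀) : ∃ Z : Set Y, LQC Z ∧ Subtype.val ⁻¹' Z = Z₀ := by
  have key : ∀ x₀ : X₀, ∃ U : Set Y, IsOpen U ∧ (x₀ : Y) ∈ U ∧ ∃ Zx : Set Y, Zx ⊆ U ∧
      (∃ T : Set (Set Y), T.Finite ∧ (∀ t ∈ T, IsLocallyClosed t) ∧ Zx = ⋃₀ T) ∧
      Subtype.val ⁻¹' Zx = (Subtype.val ⁻¹' U ∩ Z₀ : Set X₀) := by
    intro x₀
    obtain ⟨U₀, hU₀, hxU₀, T₀, hT₀f, hT₀, hUT₀⟩ := hZ₀ x₀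
    obtain ⟨U, hU, rfl⟩ := isOpen_induced_iff.mp hU₀
    have hex : ∀ t₀ : T₀, ∃ t : Set Y, IsLocallyClosed t ∧
        Subtype.val ⁻¹' t = (t₀ : Set X₀) := fun t₀ =>
      IsInducing.subtypeVal.isLocallyClosed_iff.mp (hT₀ t₀ t₀.2)
    choose g hg hg' using hex
    have : Finite T₀ := hT₀f.to_subtype
    refine ⟨U, hU, hxU₀, ⋃₀ (Set.range fun t₀ : T₀ => U ∩ g t₀), ?_,
      ⟨_, Set.finite_range _, ?_, rfl⟩, ?_⟩
    · apply Set.sUnion_subset
      rintro _ ⟨t₀, rfl⟩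
      exact Set.inter_subset_left
    · rintro _ ⟨t₀, rfl⟩
      exact hU.isLocallyClosed.inter (hg t₀)
    · rw [hUT₀]
      ext z
      constructor
      · rintro ⟨_, ⟨t₀, rfl⟩, hzU, hzg⟩
        have : z ∈ (t₀ : Set X₀) := by rw [← hg' t₀]; exact hzg
        exact ⟨t₀, t₀.2, this⟩
      · rintro ⟨t, ht, hzt⟩
        have hzU : z ∈ Subtype.val ⁻¹' U ∩ Z₀ := by rw [hUT₀]; exact ⟨t, ht, hzt⟩
        refine ⟨_, ⟨⟨t, ht⟩, rfl⟩, hzU.1, ?_⟩
        have : z ∈ Subtype.val ⁻¹' (g ⟨t, ht⟩) := by rw [hg' ⟨t, ht⟩]; exact hzt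
        exact this
  choose U hU hxU Zx hZU hZT hZe using key
  have hcover : ∀ y : Y, ∃ x₀ : X₀, y ∈ U x₀ := by
    intro y
    by_contra hy
    push Not at hy
    have hcl : IsClosed (⋃ x₀, U x₀)ᶜ := (isOpen_iUnion hU).isClosed_compl
    obtain ⟨z, hz, hz0⟩ := ha _ hcl.isLocallyClosed ⟨y, by
      simp only [Set.mem_compl_iff, Set.mem_iUnion, not_exists]; exact hy⟩
    exact hz (Set.mem_iUnion.mpr ⟨⟨z, hz0⟩, hxU ⟨z, hz0⟩⟩)
  have hlc : ∀ x, LcP (Zx x) := fun x => by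
    obtain ⟨T, hTf, hT, hTe⟩ := hZT x
    exact lcP_of_qc hTf hT hTe
  have hZZ : ∀ x x', Zx x' ∩ U x ⊆ Zx x := by
    intro x x'
    apply subset_of_lcP_of_dense ha ((hlc x').inter (lcP_of_isLocallyClosed (hU x).isLocallyClosed))
      (hlc x)
    rintro z ⟨⟨hz1, hz2⟩, hz0⟩
    have h1 : (⟨z, hz0⟩ : X₀) ∈ Subtype.val ⁻¹' (Zx x') := hz1
    rw [hZe x'] at h1
    have h2 : (⟨z, hz0⟩ : X₀) ∈ (Subtype.val ⁻¹' U x ∩ Z₀ : Set X₀) := ⟨hz2, h1.2⟩
    rw [← hZe x] at h2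
    exact h2
  refine ⟨⋃ x, Zx x, ?_, ?_⟩
  · intro y
    obtain ⟨x, hx⟩ := hcover y
    obtain ⟨T, hTf, hT, hTe⟩ := hZT x
    refine ⟨U x, hU x, hx, T, hTf, hT, ?_⟩
    rw [← hTe]
    apply le_antisymm
    · rintro z ⟨hzU, hz⟩
      obtain ⟨x', hx'⟩ := Set.mem_iUnion.mp hz
      exact hZZ x x' ⟨hx', hzU⟩
    · intro z hz
      exact ⟨hZU x hz, Set.mem_iUnion.mpr ⟨x, hz⟩⟩
  · ext z
    constructor
    · intro hz
      obtain ⟨x', hx'⟩ := Set.mem_iUnion.mp hz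
      have : z ∈ Subtype.val ⁻¹' (Zx x') := hx'
      rw [hZe x'] at this
      exact this.2
    · intro hz
      refine Set.mem_iUnion.mpr ⟨z, ?_⟩
      show z ∈ Subtype.val ⁻¹' (Zx z)
      rw [hZe z]
      exact ⟨hxU z, hz⟩

end Groth.Agent.Lib.Helper20.QuasiHomeoC
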