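import Mathlib
import Groth.Agent.Lib.Helper20.NormNorm2

set_option autoImplicit false
universe u

namespace Groth.Agent.Lib.Helper20.QuotNorm

open AlgebraicGeometry CategoryTheory TopologicalSpace Opposite Polynomial

theorem stalk_normal {N : Scheme.{u}} {U : N.Opens} (hU : IsAffineOpen U) [IsDomain Γ(N, U)]
    [IsIntegrallyClosed Γ(N, U)] (x : U) :
    IsDomain (N.presheaf.stalk x) ∧ IsIntegrallyClosed (N.presheaf.stalk x) := by
  let _ : Algebra Γ(N, U) (N.presheaf.stalk x) :=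
    TopCat.Presheaf.algebra_section_stalk N.presheaf x
  have hloc : IsLocalization.AtPrime (N.presheaf.stalk x) (hU.primeIdealOf x).asIdeal :=
    hU.isLocalization_stalk x
  let eq : Localization.AtPrime (hU.primeIdealOf x).asIdeal ≃ₐ[Γ(N, U)] (N.presheaf.stalk x) :=
    IsLocalization.algEquiv (hU.primeIdealOf x).asIdeal.primeCompl _ _
  have h1 : IsDomain (Localization.AtPrime (hU.primeIdealOf x).asIdeal) := inferInstance
  have h2 : IsIntegrallyClosed (Localization.AtPrime (hU.primeIdealOf x).asIdeal) :=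
    isIntegrallyClosed_of_isLocalization (Localization.AtPrime (hU.primeIdealOf x).asIdeal)
      (hU.primeIdealOf x).asIdeal.primeCompl (hU.primeIdealOf x).asIdeal.primeCompl_le_nonZeroDivisors
  exact ⟨eq.toRingEquiv.toMulEquiv.isDomain_iff.mp h1, .of_equiv eq.toRingEquiv⟩

/-- sections over a nonempty open of a normal integral scheme form a normal domain. -/
theorem normal_sections {X : Scheme.{u}} [IsIntegral X]
    (hX : ∀ x : X, IsIntegrallyClosed (X.presheaf.stalk x)) (V : X.Opens) [Nonempty V] :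
    IsIntegrallyClosed Γ(X, V) := by
  have hst : ∀ z : V.toScheme, IsIntegrallyClosed (V.toScheme.presheaf.stalk z) := by
    intro z
    haveI := hX (V.ι z)
    exact IsIntegrallyClosed.of_equiv (asIso (V.ι.stalkMap z)).commRingCatIsoToRingEquiv
  haveI : IsIntegral V.toScheme := inferInstance
  haveI hn : IsIntegrallyClosed Γ(V.toScheme, ⊤) :=
    Groth.Agent.Lib.Helper20.NormNorm.isIntegrallyClosed_top hst
  exact IsIntegrallyClosed.of_equiv V.topIso.commRingCatIsoToRingEquiv

/-- flat pullback of a nonzero section of an integral scheme is a nonzerodivisor. -/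
theorem eq_zero_of_mul_pullback {P X : Scheme.{u}} [IsIntegral X] (p₂ : P ⟶ X) [Flat p₂]
    {V : X.Opens} {W : P.Opens} (hWV : W ≤ p₂ ⁻¹ᵁ V) (β : Γ(X, V)) (hβ : β ≠ 0)
    (t : Γ(P, W)) (ht : t * (p₂.appLE V W hWV).hom β = 0) : t = 0 := by
  have hloc : ∀ w : W, ∃ (W' : P.Opens) (hW'W : W' ≤ W), (w : P) ∈ W' ∧
      P.presheaf.map (homOfLE hW'W).op t = 0 := by
    rintro ⟨w, hw⟩
    obtain ⟨_, ⟨V', hV' : IsAffineOpen V', rfl⟩, hpV', hV'V⟩ :=
      X.isBasis_affineOpens.exists_subset_of_mem_open (show p₂.base w ∈ (V : Set X) from hWV hw) V.2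
    obtain ⟨_, ⟨W', hW' : IsAffineOpen W', rfl⟩, hwW', hW'sub⟩ :=
      P.isBasis_affineOpens.exists_subset_of_mem_open
        (show w ∈ ((W ⊓ p₂ ⁻¹ᵁ V' : P.Opens) : Set P) from ⟨hw, hpV'⟩) (W ⊓ p₂ ⁻¹ᵁ V').2
    have hW'W : W' ≤ W := fun x hx => (hW'sub hx).1
    have hW'V' : W' ≤ p₂ ⁻¹ᵁ V' := fun x hx => (hW'sub hx).2
    have hV'V' : V' ≤ V := hV'V
    refine ⟨W', hW'W, hwW', ?_⟩
    have hflat : (p₂.appLE V' W' hW'V').hom.Flat := Scheme.Hom.flat_appLE p₂ hV' hW' hW'V'
    have hN : Nonempty ((V' : X.Opens) : Set X) := ⟨⟨_, hpV'⟩⟩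
    have hinj := @map_injective_of_isIntegral X _ _ _ (homOfLE hV'V') hN
    have hdom : IsDomain Γ(X, V') := @IsIntegral.component_integral X _ _ hN
    have hβ' : X.presheaf.map (homOfLE hV'V').op β ≠ 0 := by
      intro h
      exact hβ (hinj (by rw [map_zero]; exact h))
    have hreg : IsSMulRegular Γ(X, V') (X.presheaf.map (homOfLE hV'V').op β) :=
      (isRegular_of_ne_zero hβ').left.isSMulRegular
    letI := (p₂.appLE V' W' hW'V').hom.toAlgebra
    haveI : Module.Flat Γ(X, V') Γ(P, W') := hflat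
    have hreg' := IsSMulRegular.of_flat (S := Γ(P, W')) hreg
    have hnat : (p₂.appLE V' W' hW'V').hom (X.presheaf.map (homOfLE hV'V').op β) =
        P.presheaf.map (homOfLE hW'W).op ((p₂.appLE V W hWV).hom β) := by
      have e1 : X.presheaf.map (homOfLE hV'V').op ≫ p₂.appLE V' W' hW'V' =
          p₂.appLE V W' (hW'W.trans hWV) := Scheme.Hom.map_appLE ..
      have e2 : p₂.appLE V W hWV ≫ P.presheaf.map (homOfLE hW'W).op =
          p₂.appLE V W' (hW'W.trans hWV) := Scheme.Hom.appLE_map ..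
      exact congrArg (fun h => h.hom β) (e1.trans e2.symm)
    have h1 : (p₂.appLE V' W' hW'V').hom (X.presheaf.map (homOfLE hV'V').op β) *
        P.presheaf.map (homOfLE hW'W).op t = 0 := by
      rw [hnat, ← map_mul, mul_comm, ht, map_zero]
    apply hreg'
    change (p₂.appLE V' W' hW'V').hom (X.presheaf.map (homOfLE hV'V').op β) •
        P.presheaf.map (homOfLE hW'W).op t =
      (p₂.appLE V' W' hW'V').hom (X.presheaf.map (homOfLE hV'V').op β) • (0 : Γ(P, W'))
    rw [smul_eq_mul, smul_eq_mul, h1, mul_zero]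
  choose W' hW'W hmem hzero using hloc
  have hcover : W ≤ iSup W' := by
    intro w hw
    exact Opens.mem_iSup.mpr ⟨⟨w, hw⟩, hmem ⟨w, hw⟩⟩
  refine P.sheaf.eq_of_locally_eq' W' W (fun w => homOfLE (hW'W w)) hcover t 0 fun w => ?_
  change P.presheaf.map (homOfLE (hW'W w)).op t = P.presheaf.map (homOfLE (hW'W w)).op 0
  rw [hzero w, map_zero]

end Groth.Agent.Lib.Helper20.QuotNorm
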