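import Mathlib
import Groth.Agent.Lib.Helper20.QuotNorm1
import Groth.Agent.Lib.Helper12.Normal2

set_option autoImplicit false
universe u

namespace Groth.Agent.Lib.Helper20.QuotNorm

open AlgebraicGeometry CategoryTheory TopologicalSpace Opposite Polynomial

/-- A "quotient" `φ : X ⟶ Y` of a normal integral scheme whose functions are the invariant
functions (for a pair of maps `σ, p₂ : P ⟶ X` with `p₂` flat) has normal local rings. -/
theorem normal_of_invariants {P X Y : Scheme.{u}} [IsIntegral X]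
    (hX : ∀ x : X, IsIntegrallyClosed (X.presheaf.stalk x))
    (σ p₂ : P ⟶ X) [Flat p₂] (φ : X ⟶ Y) (hsurj : Function.Surjective φ.base)
    (hsec : ∀ U : Y.Opens, Function.Injective (φ.app U) ∧
      Set.range (φ.app U) = {f | σ.appLE (φ ⁻¹ᵁ U) (σ ⁻¹ᵁ (φ ⁻¹ᵁ U) ⊓ p₂ ⁻¹ᵁ (φ ⁻¹ᵁ U)) inf_le_left f =
        p₂.appLE (φ ⁻¹ᵁ U) (σ ⁻¹ᵁ (φ ⁻¹ᵁ U) ⊓ p₂ ⁻¹ᵁ (φ ⁻¹ᵁ U)) inf_le_right f})
    (y : Y) : IsDomain (Y.presheaf.stalk y) ∧ IsIntegrallyClosed (Y.presheaf.stalk y) := by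
  obtain ⟨_, ⟨U, hU : IsAffineOpen U, rfl⟩, hyU, -⟩ :=
    Y.isBasis_affineOpens.exists_subset_of_mem_open (Set.mem_univ y) isOpen_univ
  obtain ⟨x, hx⟩ := hsurj y
  have hN : Nonempty ((φ ⁻¹ᵁ U : X.Opens) : Set X) := ⟨⟨x, by show φ.base x ∈ U; rw [hx]; exact hyU⟩⟩
  haveI hdomB : IsDomain Γ(X, φ ⁻¹ᵁ U) := @IsIntegral.component_integral X _ _ hN
  haveI hicB : IsIntegrallyClosed Γ(X, φ ⁻¹ᵁ U) := @normal_sections X _ hX (φ ⁻¹ᵁ U) hN
  obtain ⟨hinj, hrange⟩ := hsec U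
  let ι : Γ(Y, U) →+* Γ(X, φ ⁻¹ᵁ U) := (φ.app U).hom
  have hι : Function.Injective ι := hinj
  haveI hdomA : IsDomain Γ(Y, U) := hι.isDomain ι
  haveI hicA : IsIntegrallyClosed Γ(Y, U) := by
    apply Groth.Agent.Lib.Helper12.Normal2.isIntegrallyClosed_of_scaleRoots
    intro a b p hb hp hrel
    have hιb : ι b ≠ 0 := fun h => hb (hι (by rw [h, map_zero]))
    have hrel' : ((p.map ι).scaleRoots (ι b)).eval (ι a) = 0 := by
      have hlc : ι p.leadingCoeff ≠ 0 := by rw [hp.leadingCoeff, map_one]; exact one_ne_zero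
      rw [← Polynomial.map_scaleRoots p b ι hlc, Polynomial.eval_map, eval₂_hom, hrel, map_zero]
    obtain ⟨c, hc⟩ := Groth.Agent.Lib.Helper12.Normal2.dvd_of_scaleRoots hιb (hp.map ι) hrel'
    -- invariance of c
    set W := σ ⁻¹ᵁ (φ ⁻¹ᵁ U) ⊓ p₂ ⁻¹ᵁ (φ ⁻¹ᵁ U) with hW
    let s : Γ(X, φ ⁻¹ᵁ U) →+* Γ(P, W) := (σ.appLE (φ ⁻¹ᵁ U) W inf_le_left).hom
    let r : Γ(X, φ ⁻¹ᵁ U) →+* Γ(P, W) := (p₂.appLE (φ ⁻¹ᵁ U) W inf_le_right).hom
    have hinv : ∀ z : Γ(Y, U), s (ι z) = r (ι z) := by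
      intro z
      have : (φ.app U) z ∈ Set.range (φ.app U) := ⟨z, rfl⟩
      rw [hrange] at this
      exact this
    have h1 : (s c - r c) * r (ι b) = 0 := by
      have e1 : s (ι a) = s (ι b) * s c := by rw [← map_mul, hc]
      have e2 : r (ι a) = r (ι b) * r c := by rw [← map_mul, hc]
      have e3 : s (ι b) * s c = r (ι b) * r c := by rw [← e1, ← e2, hinv a]
      rw [hinv b] at e3
      linear_combination e3
    have h2 : s c - r c = 0 :=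
      eq_zero_of_mul_pullback p₂ (inf_le_right : W ≤ p₂ ⁻¹ᵁ (φ ⁻¹ᵁ U)) (ι b) hιb _ h1
    have h3 : c ∈ Set.range (φ.app U) := by
      rw [hrange]
      exact sub_eq_zero.mp h2
    obtain ⟨c', hc'⟩ := h3
    refine ⟨c', hι ?_⟩
    rw [map_mul, hc]
    congr 1
    exact hc'.symm
  exact stalk_normal hU ⟨y, hyU⟩

end Groth.Agent.Lib.Helper20.QuotNorm
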