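import Mathlib

/-!
# Diagonal idempotent of `Ch ⊗[A] C → Ch` for `Ch = C_h` unramified over `A`
-/

open TensorProduct

namespace Groth.Agent.Lib.Helper20.RGFit

section idem

variable {A C Ch : Type*} [CommRing A] [CommRing C] [Algebra A C] [CommRing Ch] [Algebra A Ch]
  [Algebra C Ch] [IsScalarTower A C Ch]

variable (A C Ch) in
/-- The multiplication map `Ch ⊗[A] C → Ch`. -/
noncomputable def muD : Ch ⊗[A] C →ₐ[Ch] Ch :=
  Algebra.TensorProduct.lift (AlgHom.id Ch Ch) (IsScalarTower.toAlgHom A C Ch)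
    (fun _ _ => Commute.all _ _)

@[simp] lemma muD_tmul (a : Ch) (c : C) : muD A C Ch (a ⊗ₜ c) = a * algebraMap C Ch c := by
  simp [muD]

variable (A C Ch) in
/-- The map `Ch ⊗[A] C → Ch ⊗[A] Ch`. -/
noncomputable def phi : Ch ⊗[A] C →ₐ[Ch] Ch ⊗[A] Ch :=
  Algebra.TensorProduct.map (AlgHom.id Ch Ch) (IsScalarTower.toAlgHom A C Ch)

@[simp] lemma phi_tmul (a : Ch) (c : C) : phi A C Ch (a ⊗ₜ c) = a ⊗ₜ algebraMap C Ch c := by
  simp [phi]

lemma lmul_phi (x : Ch ⊗[A] C) : Algebra.TensorProduct.lmul' A (phi A C Ch x) = muD A C Ch x := by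
  induction x using TensorProduct.induction_on with
  | zero => simp
  | tmul a c => simp
  | add x y hx hy => simp [hx, hy]

lemma rT_comm (x : Ch ⊗[A] C) :
    (AlgebraTensorModule.rTensor A Ch (Algebra.linearMap C Ch) : C ⊗[A] Ch →ₗ[C] Ch ⊗[A] Ch)
      (Algebra.TensorProduct.comm A Ch C x) = Algebra.TensorProduct.comm A Ch Ch (phi A C Ch x) := by
  induction x using TensorProduct.induction_on with
  | zero => simp
  | tmul a c => simp
  | add x y hx hy => simp only [map_add, hx, hy]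

lemma loc_ker (h : C) [IsLocalization.Away h Ch] (x : Ch ⊗[A] C) (hx : phi A C Ch x = 0) :
    ∃ m : ℕ, ((1 : Ch) ⊗ₜ[A] (h ^ m)) * x = 0 := by
  have hloc : IsLocalizedModule (Submonoid.powers h)
      (AlgebraTensorModule.rTensor A Ch (Algebra.linearMap C Ch) :
        C ⊗[A] Ch →ₗ[C] Ch ⊗[A] Ch) := inferInstance
  have h1 : (AlgebraTensorModule.rTensor A Ch (Algebra.linearMap C Ch) :
        C ⊗[A] Ch →ₗ[C] Ch ⊗[A] Ch) (Algebra.TensorProduct.comm A Ch C x) =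
      (AlgebraTensorModule.rTensor A Ch (Algebra.linearMap C Ch) :
        C ⊗[A] Ch →ₗ[C] Ch ⊗[A] Ch) 0 := by
    rw [rT_comm, hx, map_zero, map_zero]
  obtain ⟨⟨s, m, rfl⟩, hs⟩ := IsLocalizedModule.exists_of_eq (S := Submonoid.powers h) h1
  refine ⟨m, ?_⟩
  apply (Algebra.TensorProduct.comm A Ch C).injective
  rw [map_mul, map_zero]
  simp only [smul_zero, Submonoid.smul_def] at hs
  rw [Algebra.smul_def] at hs
  simpa using hs

lemma loc_surj (h : C) [IsLocalization.Away h Ch] (y : Ch ⊗[A] Ch) :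
    ∃ (x : Ch ⊗[A] C) (m : ℕ), phi A C Ch x = ((1 : Ch) ⊗ₜ[A] (algebraMap C Ch (h ^ m))) * y := by
  have hloc : IsLocalizedModule (Submonoid.powers h)
      (AlgebraTensorModule.rTensor A Ch (Algebra.linearMap C Ch) :
        C ⊗[A] Ch →ₗ[C] Ch ⊗[A] Ch) := inferInstance
  obtain ⟨⟨z, ⟨s, m, rfl⟩⟩, hz⟩ := IsLocalizedModule.surj (Submonoid.powers h)
    (AlgebraTensorModule.rTensor A Ch (Algebra.linearMap C Ch) :
        C ⊗[A] Ch →ₗ[C] Ch ⊗[A] Ch) (Algebra.TensorProduct.comm A Ch Ch y)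
  refine ⟨(Algebra.TensorProduct.comm A Ch C).symm z, m, ?_⟩
  apply (Algebra.TensorProduct.comm A Ch Ch).injective
  rw [← rT_comm, AlgEquiv.apply_symm_apply, ← hz, map_mul]
  simp only [Submonoid.smul_def]
  rw [Algebra.smul_def]
  simp

theorem exists_idem (h : C) [IsLocalization.Away h Ch] [Algebra.FormallyUnramified A Ch]
    [Algebra.EssFiniteType A Ch] :
    ∃ e : Ch ⊗[A] C, IsIdempotentElem e ∧ muD A C Ch e = 1 ∧
      ∀ x : Ch ⊗[A] C, muD A C Ch x = 0 → x * e = 0 := by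
  classical
  obtain ⟨t, ht1, ht2⟩ :=
    (Algebra.FormallyUnramified.iff_exists_tensorProduct (R := A) (S := Ch)).mp inferInstance
  have P0 : ∀ s : Ch, ((1 : Ch) ⊗ₜ[A] s) * t = (s ⊗ₜ[A] (1 : Ch)) * t := fun s => by
    rw [← sub_eq_zero, ← sub_mul]; exact ht1 s
  have P1 : ∀ x : Ch ⊗[A] Ch, x * t = (Algebra.TensorProduct.lmul' A x ⊗ₜ[A] (1 : Ch)) * t := by
    intro x
    induction x using TensorProduct.induction_on with
    | zero => simp
    | tmul a b =>
      have h1 : (a ⊗ₜ[A] b : Ch ⊗[A] Ch) = (a ⊗ₜ 1) * (1 ⊗ₜ b) := by simp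
      rw [h1, mul_assoc, P0 b, ← mul_assoc]
      simp
    | add x y hx hy => rw [add_mul, hx, hy, map_add, TensorProduct.add_tmul, add_mul]
  have tt : t * t = t := by
    rw [P1 t, ht2, ← Algebra.TensorProduct.one_def, one_mul]
  set u : Ch := algebraMap C Ch h with hu_def
  have hu : IsUnit u := IsLocalization.Away.algebraMap_isUnit h
  obtain ⟨v, hv⟩ := hu.exists_left_inv
  obtain ⟨τ, N, hτ⟩ := loc_surj (A := A) h t
  obtain ⟨ε, hεdef⟩ : ∃ ε : Ch ⊗[A] C, ε = ((v ^ N) ⊗ₜ[A] (1 : C)) * τ := ⟨_, rfl⟩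
  have hε : phi A C Ch ε = t := by
    rw [hεdef, map_mul, hτ, phi_tmul, map_one, P0, ← mul_assoc, Algebra.TensorProduct.tmul_mul_tmul,
      map_pow, ← mul_pow, hv, one_pow, one_mul, ← Algebra.TensorProduct.one_def, one_mul]
  obtain ⟨w, hwdef⟩ : ∃ w : Ch ⊗[A] C, w = v ⊗ₜ[A] h := ⟨_, rfl⟩
  have hw : ∀ (m : ℕ) (z : Ch ⊗[A] C), ((1 : Ch) ⊗ₜ[A] (h ^ m)) * z = 0 → w ^ m * z = 0 := by
    intro m z hz
    have h1 : w ^ m = ((v ^ m) ⊗ₜ[A] (1 : C)) * ((1 : Ch) ⊗ₜ[A] (h ^ m)) := by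
      rw [hwdef, Algebra.TensorProduct.tmul_pow, Algebra.TensorProduct.tmul_mul_tmul, mul_one, one_mul]
    rw [h1, mul_assoc, hz, mul_zero]
  have muw : muD A C Ch w = 1 := by rw [hwdef, muD_tmul, hv]
  have phiw : phi A C Ch w * t = t := by
    rw [hwdef, phi_tmul]
    have h1 : (v ⊗ₜ[A] (algebraMap C Ch h) : Ch ⊗[A] Ch) = (v ⊗ₜ 1) * (1 ⊗ₜ u) := by simp [hu_def]
    rw [h1, mul_assoc, P0 u, ← mul_assoc, Algebra.TensorProduct.tmul_mul_tmul, hv, mul_one,
      ← Algebra.TensorProduct.one_def, one_mul]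
  obtain ⟨m1, hm1⟩ := loc_ker h (ε * ε - ε) (by rw [map_sub, map_mul, hε, tt, sub_self])
  obtain ⟨m2, hm2⟩ := loc_ker h ((w - 1) * ε)
    (by rw [map_mul, map_sub, map_one, hε, sub_mul, phiw, one_mul, sub_self])
  have ha := hw m1 _ hm1
  have hb := hw m2 _ hm2
  obtain ⟨k, hk⟩ : ∃ k : ℕ, k = m1 + m2 := ⟨_, rfl⟩
  have hb' : w ^ (k + 1) * ε = w ^ k * ε := by
    have h1 : w ^ k * ((w - 1) * ε) = 0 := by
      rw [hk, pow_add, mul_assoc, hb, mul_zero]
    rw [← sub_eq_zero]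
    rw [← h1]; ring
  have hb'' : ∀ j : ℕ, w ^ (k + j) * ε = w ^ k * ε := by
    intro j
    induction j with
    | zero => simp
    | succ j ih =>
      calc w ^ (k + (j + 1)) * ε = w ^ j * (w ^ (k + 1) * ε) := by ring
        _ = w ^ j * (w ^ k * ε) := by rw [hb']
        _ = w ^ (k + j) * ε := by ring
        _ = _ := ih
  have ha' : w ^ k * (ε * ε) = w ^ k * ε := by
    have h1 : w ^ k * (ε * ε - ε) = 0 := by
      rw [hk, pow_add, mul_comm (w ^ m1), mul_assoc, ha, mul_zero]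
    rw [← sub_eq_zero]
    rw [← h1]; ring
  refine ⟨w ^ k * ε, ?_, ?_, ?_⟩
  · change w ^ k * ε * (w ^ k * ε) = w ^ k * ε
    calc w ^ k * ε * (w ^ k * ε) = w ^ k * (w ^ k * (ε * ε)) := by ring
      _ = w ^ k * (w ^ k * ε) := by rw [ha']
      _ = w ^ (k + k) * ε := by ring
      _ = _ := hb'' k
  · rw [map_mul, map_pow, muw, one_pow, one_mul, ← lmul_phi, hε, ht2]
  · intro x hx
    obtain ⟨m, hm⟩ := loc_ker h (x * ε) (by
      rw [map_mul, hε, P1, lmul_phi, hx, TensorProduct.zero_tmul, zero_mul])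
    have h1 := hw m _ hm
    calc x * (w ^ k * ε) = x * (w ^ (k + m) * ε) := by rw [hb'' m]
      _ = w ^ k * (w ^ m * (x * ε)) := by ring
      _ = 0 := by rw [h1, mul_zero]

end idem

section split

variable {R D : Type*} [CommRing R] [CommRing D] [Algebra R D]

theorem nonempty_splitEquiv (μ : D →ₐ[R] R) (e : D) (he : IsIdempotentElem e) (hμe : μ e = 1)
    (hker : ∀ x, μ x = 0 → x * e = 0) (I : Ideal D) :
    Nonempty ((D ⧸ I) ≃ₗ[R] (R ⧸ I.map μ) × (D ⧸ (I ⊔ Ideal.span {e}))) := by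
  have hμsurj : Function.Surjective μ := fun r => ⟨algebraMap R D r, by simp⟩
  let f1 : D ⧸ I →ₐ[R] R ⧸ I.map μ := Ideal.quotientMapₐ (I.map μ) μ Ideal.le_comap_map
  let f2 : D ⧸ I →ₐ[R] D ⧸ (I ⊔ Ideal.span {e}) := Ideal.Quotient.factorₐ R le_sup_left
  refine ⟨LinearEquiv.ofBijective (f1.toLinearMap.prod f2.toLinearMap) ⟨?_, ?_⟩⟩
  · rw [injective_iff_map_eq_zero]
    intro x hx
    obtain ⟨x, rfl⟩ := Ideal.Quotient.mk_surjective x
    have h1 : f1 (Ideal.Quotient.mk I x) = 0 := congrArg Prod.fst hx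
    have h2 : f2 (Ideal.Quotient.mk I x) = 0 := congrArg Prod.snd hx
    have h1' : μ x ∈ I.map μ := by
      rw [← Ideal.Quotient.eq_zero_iff_mem]
      simpa [f1] using h1
    have h2' : x ∈ I ⊔ Ideal.span {e} := by
      rw [← Ideal.Quotient.eq_zero_iff_mem]
      simpa [f2] using h2
    rw [Ideal.Quotient.eq_zero_iff_mem]
    obtain ⟨j, hj, y, hy, rfl⟩ := Submodule.mem_sup.mp h2'
    obtain ⟨d, rfl⟩ := Ideal.mem_span_singleton'.mp hy
    obtain ⟨j', hj', hjj⟩ := (Ideal.mem_map_iff_of_surjective μ hμsurj).mp h1'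
    -- μ j' = μ (j + d * e) = μ j + μ d
    have h3 : μ (d - (j' - j)) = 0 := by
      rw [map_sub, map_sub, hjj, map_add, map_mul, hμe]; ring
    have h4 := hker _ h3
    have h5 : d * e = (j' - j) * e := by
      rw [← sub_eq_zero, ← sub_mul]; exact h4
    rw [h5]
    exact I.add_mem hj (I.mul_mem_right _ (I.sub_mem hj' hj))
  · rintro ⟨r, y⟩
    obtain ⟨r, rfl⟩ := Ideal.Quotient.mk_surjective r
    obtain ⟨y, rfl⟩ := Ideal.Quotient.mk_surjective y
    refine ⟨Ideal.Quotient.mk I (y * (1 - e) + algebraMap R D r * e), ?_⟩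
    have h0 : μ (1 - e) = 0 := by rw [map_sub, map_one, hμe, sub_self]
    have e1 : f1 (Ideal.Quotient.mk I (y * (1 - e) + algebraMap R D r * e)) =
        Ideal.Quotient.mk _ r := by
      have h1 : f1 (Ideal.Quotient.mk I (y * (1 - e) + algebraMap R D r * e)) =
          Ideal.Quotient.mk _ (μ (y * (1 - e) + algebraMap R D r * e)) := rfl
      rw [h1, map_add, map_mul, h0, mul_zero, zero_add, map_mul, hμe, mul_one, AlgHom.commutes]
      rfl
    have e2 : f2 (Ideal.Quotient.mk I (y * (1 - e) + algebraMap R D r * e)) =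
        Ideal.Quotient.mk _ y := by
      have h1 : f2 (Ideal.Quotient.mk I (y * (1 - e) + algebraMap R D r * e)) =
          Ideal.Quotient.mk _ (y * (1 - e) + algebraMap R D r * e) := rfl
      rw [h1, Ideal.Quotient.eq]
      have : y * (1 - e) + algebraMap R D r * e - y = (algebraMap R D r - y) * e := by ring
      rw [this]
      exact Ideal.mem_sup_right (Ideal.mul_mem_left _ _ (Ideal.mem_span_singleton_self e))
    exact Prod.ext (by exact e1) (by exact e2)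

end split

end Groth.Agent.Lib.Helper20.RGFit
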