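import Groth.Agent.Lib.Helper20.RGFitA
import Groth.Agent.S6890
import Groth.Agent.S6891
import Groth.Agent.S6892
import Groth.Agent.S12084
import Groth.Prelude.Def_FlatCA

/-!
# Fitting ideal of `C/J` extended to `C_h` (Raynaud–Gruson lemma)
-/

open TensorProduct
open scoped Pointwise

universe u

namespace Groth.Agent.Lib.Helper20.RGFit

lemma fittingZero_eq (R : Type u) [CommRing R] (M : Type u) [AddCommGroup M] [Module R M] :
    FlatCA.fittingZero R M = Fitt.ideal R M 0 := by
  unfold FlatCA.fittingZero Fitt.ideal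
  congr 1
  ext d
  constructor
  · rintro ⟨n, x, a, hx, ha, rfl⟩
    exact ⟨n, x, a, hx, fun i _ => ha i, rfl⟩
  · rintro ⟨n, x, a, hx, ha, rfl⟩
    exact ⟨n, x, a, hx, fun i => ha i (by simp), rfl⟩

lemma fitt_congr {R : Type u} [CommRing R] {M M' : Type u} [AddCommGroup M] [Module R M]
    [AddCommGroup M'] [Module R M'] [Module.Finite R M] (e : M ≃ₗ[R] M') (k : ℕ) :
    Fitt.ideal R M k = Fitt.ideal R M' k := by
  have : Module.Finite R M' := Module.Finite.equiv e
  exact le_antisymm ((Groth.Agent.S6892.result M M' k).2.2 e.toLinearMap e.surjective)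
    ((Groth.Agent.S6892.result M' M k).2.2 e.symm.toLinearMap e.symm.surjective)

lemma fp_quotient_ideal {R D : Type*} [CommRing R] [CommRing D] [Algebra R D]
    [Module.FinitePresentation R D] (K : Ideal D) (hK : K.FG) :
    Module.FinitePresentation R (D ⧸ K) := by
  classical
  obtain ⟨s, hs⟩ := hK
  obtain ⟨g, hg⟩ := (Module.Finite.fg_top : (⊤ : Submodule R D).FG)
  have key : K.restrictScalars R = Submodule.span R ((g : Set D) • (s : Set D)) := by
    rw [Submodule.span_smul_of_span_eq_top hg]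
    congr 1
    exact hs.symm
  have fg : (K.restrictScalars R).FG := by
    rw [key]
    exact Submodule.fg_span ((g.finite_toSet).smul (s.finite_toSet))
  refine Module.finitePresentation_of_surjective (Ideal.Quotient.mkₐ R K).toLinearMap
    Ideal.Quotient.mk_surjective ?_
  have hker : LinearMap.ker (Ideal.Quotient.mkₐ R K).toLinearMap = K.restrictScalars R := by
    ext x
    simp [Ideal.Quotient.eq_zero_iff_mem]
  rw [hker]
  exact fg

theorem fitt_main {A C : Type u} [CommRing A] [CommRing C] [Algebra A C] [Module.Finite A C]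
    (Ch : Type u) [CommRing Ch] [Algebra A Ch] [Algebra C Ch] [IsScalarTower A C Ch] (h : C)
    [IsLocalization.Away h Ch] [Algebra.FormallyUnramified A Ch] [Algebra.EssFiniteType A Ch]
    (J : Ideal C) :
    ∃ K : Ideal (Ch ⊗[A] C),
      (Fitt.ideal A (C ⧸ J) 0).map (algebraMap A Ch) =
        J.map (algebraMap C Ch) * Fitt.ideal Ch ((Ch ⊗[A] C) ⧸ K) 0 ∧ (J.FG → K.FG) := by
  obtain ⟨e, he, hμe, hker⟩ := exists_idem (A := A) (C := C) (Ch := Ch) h
  obtain ⟨I, hI⟩ : ∃ I : Ideal (Ch ⊗[A] C),
      I = J.map (Algebra.TensorProduct.includeRight (R := A) (A := Ch) (B := C)) := ⟨_, rfl⟩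
  refine ⟨I ⊔ Ideal.span {e}, ?_, fun hJ => ?_⟩
  · obtain ⟨σ⟩ := nonempty_splitEquiv (muD A C Ch) e he hμe hker I
    have hmap : I.map (muD A C Ch) = J.map (algebraMap C Ch) := by
      have h1 : I.map (muD A C Ch) = (J.map (Algebra.TensorProduct.includeRight (R := A) (A := Ch)
          (B := C)).toRingHom).map (muD A C Ch).toRingHom := by
        rw [hI]; rfl
      rw [h1, Ideal.map_map]
      congr 1
      ext c
      simp
    rw [← Groth.Agent.S6890.result (R := A) (R' := Ch) (C ⧸ J) 0]
    have q : (Ch ⊗[A] (C ⧸ J)) ≃ₗ[Ch] ((Ch ⊗[A] C) ⧸ I) := by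
      rw [hI]
      exact (Algebra.TensorProduct.tensorQuotientEquiv (R := A) Ch C Ch J).toLinearEquiv
    rw [fitt_congr q 0, fitt_congr σ 0, Groth.Agent.S12084.result Ch _ _ 0]
    simp only [zero_add, Finset.range_one, Finset.sum_singleton, Nat.sub_zero]
    rw [(Groth.Agent.S6891.result (R := Ch) (Ch ⧸ I.map (muD A C Ch)) (I.map (muD A C Ch))).2.2, hmap]
  · refine Submodule.FG.sup ?_ (Submodule.fg_span_singleton e)
    rw [hI]
    exact hJ.map _

end Groth.Agent.Lib.Helper20.RGFit
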