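import Groth.Agent.Lib.Helper20.RGFitB

/-!
# Raynaud–Gruson: étale-local divisibility of a Fitting ideal by `J`
-/

open TensorProduct

universe u

namespace Groth.Agent.Lib.Helper20.RGFit

/-- A finitely generated ideal of `C_h` is the extension of a finitely generated ideal of `C`
containing a prescribed element whose image lies in it. -/
lemma exists_fg_map_eq {C Ch : Type*} [CommRing C] [CommRing Ch] [Algebra C Ch] (h : C)
    [IsLocalization.Away h Ch] (J₂ : Ideal Ch) (hJ₂ : J₂.FG) (c₀ : C)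
    (hc₀ : algebraMap C Ch c₀ ∈ J₂) :
    ∃ J₁ : Ideal C, J₁.FG ∧ c₀ ∈ J₁ ∧ J₁.map (algebraMap C Ch) = J₂ := by
  classical
  obtain ⟨s, hs⟩ := hJ₂
  obtain ⟨b, hb⟩ := IsLocalization.exist_integer_multiples_of_finset (Submonoid.powers h) s
  have hbu : IsUnit (algebraMap C Ch (b : C)) := IsLocalization.map_units Ch b
  choose! c hc using hb
  refine ⟨Ideal.span ((s.image c ∪ {c₀} : Finset C) : Set C), ⟨_, rfl⟩, ?_, ?_⟩
  · apply Ideal.subset_span
    simp
  · rw [Ideal.map_span]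
    apply le_antisymm
    · rw [Ideal.span_le]
      rintro _ ⟨x, hx, rfl⟩
      simp only [Finset.coe_union, Finset.coe_image, Finset.coe_singleton, Set.union_singleton,
        Set.mem_insert_iff, Set.mem_image, Finset.mem_coe] at hx
      rcases hx with rfl | ⟨y, hy, rfl⟩
      · exact hc₀
      · rw [hc y hy, Algebra.smul_def]
        apply Ideal.mul_mem_left
        rw [← hs]
        exact Ideal.subset_span hy
    · rw [← hs, Ideal.span_le]
      intro y hy
      have h1 : algebraMap C Ch (c y) ∈ Ideal.span (⇑(algebraMap C Ch) ''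
          ((s.image c ∪ {c₀} : Finset C) : Set C)) := by
        apply Ideal.subset_span
        refine ⟨c y, ?_, rfl⟩
        simp only [Finset.coe_union, Finset.coe_image, Finset.coe_singleton, Set.union_singleton,
          Set.mem_insert_iff, Set.mem_image, Finset.mem_coe]
        exact Or.inr ⟨y, hy, rfl⟩
      rw [hc y hy, Algebra.smul_def] at h1
      obtain ⟨v, hv⟩ := hbu.exists_left_inv
      have h2 := Ideal.mul_mem_left _ v h1
      rwa [← mul_assoc, hv, one_mul] at h2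

theorem etale_step {A : Type u} [CommRing A] {C : Type u} [CommRing C] [Algebra A C]
    [Module.FinitePresentation A C]
    (Ch : Type u) [CommRing Ch] [Algebra A Ch] [Algebra C Ch] [IsScalarTower A C Ch] (h : C)
    [IsLocalization.Away h Ch] [Algebra.FormallyUnramified A Ch] [Algebra.EssFiniteType A Ch]
    (a : A) (J₂ : Ideal Ch) (hJ₂ : J₂.FG) (n : ℕ) (han : algebraMap A Ch (a ^ n) ∈ J₂) :
    ∃ (I : Ideal A) (J' : Ideal Ch), I.FG ∧ a ∈ I.radical ∧ J'.FG ∧
      I.map (algebraMap A Ch) = J₂ * J' := by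
  have han' : algebraMap C Ch (algebraMap A C (a ^ n)) ∈ J₂ := by
    rwa [← IsScalarTower.algebraMap_apply]
  obtain ⟨J₁, hJ₁fg, haJ₁, hJ₁⟩ := exists_fg_map_eq h J₂ hJ₂ _ han'
  obtain ⟨K, hK1, hK2⟩ := fitt_main (A := A) (C := C) Ch h J₁
  have hfp : Module.FinitePresentation A (C ⧸ J₁) := fp_quotient_ideal J₁ hJ₁fg
  have hfp' : Module.FinitePresentation Ch ((Ch ⊗[A] C) ⧸ K) := fp_quotient_ideal K (hK2 hJ₁fg)
  refine ⟨Fitt.ideal A (C ⧸ J₁) 0, Fitt.ideal Ch ((Ch ⊗[A] C) ⧸ K) 0,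
    (Groth.Agent.S6892.result (C ⧸ J₁) (C ⧸ J₁) 0).2.1 hfp, ?_,
    (Groth.Agent.S6892.result ((Ch ⊗[A] C) ⧸ K) ((Ch ⊗[A] C) ⧸ K) 0).2.1 hfp', ?_⟩
  · rw [← PrimeSpectrum.vanishingIdeal_zeroLocus_eq_radical,
      (Groth.Agent.S6891.result (R := A) (C ⧸ J₁) ⊥).2.1, PrimeSpectrum.mem_vanishingIdeal]
    intro p hp
    rw [Module.mem_support_iff_of_finite] at hp
    have h1 : a ^ n ∈ Module.annihilator A (C ⧸ J₁) := by
      rw [Module.mem_annihilator]
      intro m
      obtain ⟨m, rfl⟩ := Ideal.Quotient.mk_surjective m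
      have h2 : a ^ n • (Ideal.Quotient.mk J₁ m) = Ideal.Quotient.mk J₁ (a ^ n • m) := rfl
      rw [h2, Ideal.Quotient.eq_zero_iff_mem, Algebra.smul_def]
      exact J₁.mul_mem_right _ haJ₁
    exact p.2.mem_of_pow_mem n (hp h1)
  · rw [hK1, hJ₁]

end Groth.Agent.Lib.Helper20.RGFit
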