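import Mathlib

/-!
# Abstract rank-one systems (helper20)

Pure group theory behind SGA3 XX 3.1: a group `H` with two additive one-parameter subgroups `P, M : R → H`, a "torus"
`ι : TT →* H` with a character `χ : TT →* Rˣ` and a cocharacter `c : Rˣ →* TT` with `χ ∘ c` the squaring map, `P, M` normalised
by the torus with multipliers `χ`, `χ⁻¹`, and the commutation rule `P a * M b = M (b/u) * ι (c u) * P (a/u)` for `u = 1 + a b`
a unit.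
-/

set_option autoImplicit false

namespace Groth.Agent.Lib.Helper20.RankOne

/-- Abstract rank-one system. -/
structure Sys (R : Type*) [CommRing R] (TT H : Type*) [Group TT] [Group H] where
  P : R → H
  M : R → H
  tor : TT →* H
  χ : TT →* Rˣ
  c : Rˣ →* TT
  P_add : ∀ a b, P (a + b) = P a * P b
  M_add : ∀ a b, M (a + b) = M a * M b
  χ_c : ∀ u, χ (c u) = u ^ 2
  conj_P : ∀ t a, tor t * P a * (tor t)⁻¹ = P (↑(χ t) * a)
  conj_M : ∀ t a, tor t * M a * (tor t)⁻¹ = M (↑(χ t)⁻¹ * a)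
  rule : ∀ (a b : R) (u : Rˣ), (u : R) = 1 + a * b →
    P a * M b = M (b * ↑u⁻¹) * tor (c u) * P (a * ↑u⁻¹)

variable {R : Type*} [CommRing R] {TT H : Type*} [Group TT] [Group H] (D : Sys R TT H)

namespace Sys

theorem P_zero : D.P 0 = 1 := by
  have h := D.P_add 0 0
  rw [add_zero] at h
  exact mul_eq_left.mp h.symm

theorem M_zero : D.M 0 = 1 := by
  have h := D.M_add 0 0
  rw [add_zero] at h
  exact mul_eq_left.mp h.symm

theorem P_neg (a : R) : D.P (-a) = (D.P a)⁻¹ := by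
  rw [eq_inv_iff_mul_eq_one, ← D.P_add, neg_add_cancel, D.P_zero]

theorem M_neg (a : R) : D.M (-a) = (D.M a)⁻¹ := by
  rw [eq_inv_iff_mul_eq_one, ← D.M_add, neg_add_cancel, D.M_zero]

theorem P_mul_P_of_add_eq_zero {a b : R} (h : a + b = 0) : D.P a * D.P b = 1 := by
  rw [← D.P_add, h, D.P_zero]

theorem M_mul_M_of_add_eq_zero {a b : R} (h : a + b = 0) : D.M a * D.M b = 1 := by
  rw [← D.M_add, h, D.M_zero]

/-- The coroot as a map to `H`. -/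
def Hc (u : Rˣ) : H := D.tor (D.c u)

theorem Hc_mul (u v : Rˣ) : D.Hc (u * v) = D.Hc u * D.Hc v := by
  simp only [Hc, map_mul]

theorem Hc_one : D.Hc 1 = 1 := by
  simp only [Hc, map_one]

theorem Hc_inv (u : Rˣ) : D.Hc u⁻¹ = (D.Hc u)⁻¹ := by
  simp only [Hc, map_inv]

theorem tor_P (t : TT) (a : R) : D.tor t * D.P a = D.P (↑(D.χ t) * a) * D.tor t := by
  rw [← D.conj_P, inv_mul_cancel_right]

theorem tor_M (t : TT) (a : R) : D.tor t * D.M a = D.M (↑(D.χ t)⁻¹ * a) * D.tor t := by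
  rw [← D.conj_M, inv_mul_cancel_right]

theorem Hc_P (u : Rˣ) (a : R) : D.Hc u * D.P a = D.P ((u : R) ^ 2 * a) * D.Hc u := by
  have h := D.tor_P (D.c u) a
  rw [D.χ_c, Units.val_pow_eq_pow_val] at h
  exact h

theorem Hc_M (u : Rˣ) (a : R) : D.Hc u * D.M a = D.M (((u⁻¹ : Rˣ) : R) ^ 2 * a) * D.Hc u := by
  have h := D.tor_M (D.c u) a
  rw [D.χ_c, ← inv_pow, Units.val_pow_eq_pow_val] at h
  exact h

/-- The reversed commutation rule. -/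
theorem rule_rev (a b : R) (u : Rˣ) (hu : (u : R) = 1 + a * b) :
    D.M b * D.P a = D.P (a * ↑u⁻¹) * (D.Hc u)⁻¹ * D.M (b * ↑u⁻¹) := by
  have h := D.rule (-a) (-b) u (by rw [hu]; ring)
  have h' := congrArg (fun g => g⁻¹) h
  simp only [mul_inv_rev, neg_mul, P_neg, M_neg, inv_inv] at h'
  rw [h', mul_assoc]
  rfl

/-- The opposite system: exchange `P` and `M`, invert the character and the cocharacter. -/
def op : Sys R TT H where
  P := D.M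
  M := D.P
  tor := D.tor
  χ := invMonoidHom.comp D.χ
  c := D.c.comp invMonoidHom
  P_add := D.M_add
  M_add := D.P_add
  χ_c u := by
    simp only [MonoidHom.comp_apply, invMonoidHom_apply, D.χ_c, inv_pow, inv_inv]
  conj_P t a := by
    simp only [MonoidHom.comp_apply, invMonoidHom_apply]
    exact D.conj_M t a
  conj_M t a := by
    simp only [MonoidHom.comp_apply, invMonoidHom_apply, inv_inv]
    exact D.conj_P t a
  rule a b u hu := by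
    have h := D.rule_rev b a u (by rw [hu]; ring)
    simp only [MonoidHom.comp_apply, invMonoidHom_apply, map_inv]
    exact h

theorem op_Hc (u : Rˣ) : D.op.Hc u = (D.Hc u)⁻¹ := by
  simp only [Hc, op, MonoidHom.comp_apply, invMonoidHom_apply, map_inv]

/-- `H(z) = M(z⁻¹ - 1) P(1) M(z - 1) P(-z⁻¹)`. -/
theorem Hc_eq_prod (z : Rˣ) (y₁ x₁ y₂ x₂ : R) (hy₁ : y₁ * z = 1 - z) (hx₁ : x₁ = 1) (hy₂ : y₂ = z - 1)
    (hx₂ : x₂ * z = -1) :
    D.Hc z = D.M y₁ * D.P x₁ * D.M y₂ * D.P x₂ := by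
  have h := D.rule x₁ y₂ z (by rw [hx₁, hy₂]; ring)
  have e1 : D.M y₁ * D.P x₁ * D.M y₂ * D.P x₂ = D.M y₁ * (D.P x₁ * D.M y₂) * D.P x₂ := by group
  have hz : (z : R) * ↑z⁻¹ = 1 := Units.mul_inv z
  have e2 : D.M y₁ * D.M (y₂ * ↑z⁻¹) = 1 := D.M_mul_M_of_add_eq_zero (by
    rw [hy₂]; linear_combination (↑z⁻¹ : R) * hy₁ - y₁ * hz)
  have e3 : D.P (x₁ * ↑z⁻¹) * D.P x₂ = 1 := D.P_mul_P_of_add_eq_zero (by
    rw [hx₁]; linear_combination (↑z⁻¹ : R) * hx₂ + (-x₂) * hz)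
  rw [e1, h]
  calc D.Hc z = 1 * D.Hc z * 1 := by group
    _ = (D.M y₁ * D.M (y₂ * ↑z⁻¹)) * D.Hc z * (D.P (x₁ * ↑z⁻¹) * D.P x₂) := by rw [e2, e3]
    _ = _ := by simp only [Hc, mul_assoc]

/-- Product of two elements of the big cell. -/
theorem bigCell_mul (x y x' y' y₂ x₂ : R) (t t' : TT) (z : Rˣ) (hz : (z : R) = 1 + x * y')
    (hy₂ : (y₂ - y) * z * ↑(D.χ t) = y') (hx₂ : (x₂ - x') * z * ↑(D.χ t') = x) :
    (D.M y * D.tor t * D.P x) * (D.M y' * D.tor t' * D.P x') = D.M y₂ * D.tor (t * D.c z * t') * D.P x₂ := by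
  have h := D.rule x y' z hz
  have hzz : (z : R) * ↑z⁻¹ = 1 := Units.mul_inv z
  have ht : ((D.χ t : Rˣ) : R) * ↑(D.χ t)⁻¹ = 1 := Units.mul_inv _
  have ht' : ((D.χ t' : Rˣ) : R) * ↑(D.χ t')⁻¹ = 1 := Units.mul_inv _
  have e1 : (D.M y * D.tor t * D.P x) * (D.M y' * D.tor t' * D.P x') =
      D.M y * D.tor t * (D.P x * D.M y') * D.tor t' * D.P x' := by group
  have e2 : D.tor t * D.M (y' * ↑z⁻¹) = D.M (y₂ - y) * D.tor t := by
    rw [D.tor_M]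
    congr 2
    rw [← hy₂]
    linear_combination (y₂ - y) * (↑(D.χ t) : R) * ↑(D.χ t)⁻¹ * hzz + (y₂ - y) * ht
  have e3 : D.P (x * ↑z⁻¹) * D.tor t' = D.tor t' * D.P (x₂ - x') := by
    rw [D.tor_P]
    congr 2
    rw [← hx₂]
    linear_combination (x₂ - x') * (↑(D.χ t') : R) * hzz
  have e4 : D.M y₂ = D.M y * D.M (y₂ - y) := by rw [← D.M_add]; congr 1; ring
  have e5 : D.P x₂ = D.P (x₂ - x') * D.P x' := by rw [← D.P_add]; congr 1; ring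
  rw [e1, h, e4, e5, map_mul, map_mul]
  calc D.M y * D.tor t * (D.M (y' * ↑z⁻¹) * D.tor (D.c z) * D.P (x * ↑z⁻¹)) * D.tor t' * D.P x'
      = D.M y * (D.tor t * D.M (y' * ↑z⁻¹)) * D.tor (D.c z) * (D.P (x * ↑z⁻¹) * D.tor t') * D.P x' := by group
    _ = D.M y * (D.M (y₂ - y) * D.tor t) * D.tor (D.c z) * (D.tor t' * D.P (x₂ - x')) * D.P x' := by rw [e2, e3]
    _ = _ := by group

/-- The Weyl element `w(a) = P(a) M(-a⁻¹) P(a)`. -/
def w (a : Rˣ) : H := D.P a * D.M (-(↑a⁻¹ : R)) * D.P a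

/-- `w(a) w(b) = H(-a b⁻¹)`. -/
theorem w_mul_w (a b : Rˣ) : D.w a * D.w b = D.Hc (-(a * b⁻¹)) := by
  set u : Rˣ := -(a * b⁻¹) with hu
  have ha : (a : R) * ↑a⁻¹ = 1 := Units.mul_inv a
  have hb : (b : R) * ↑b⁻¹ = 1 := Units.mul_inv b
  have huv : (u : R) = -((a : R) * ↑b⁻¹) := by rw [hu, Units.val_neg, Units.val_mul]
  have hui : ((u⁻¹ : Rˣ) : R) = -((b : R) * ↑a⁻¹) := by
    rw [hu, inv_neg, Units.val_neg, mul_inv_rev, inv_inv, Units.val_mul]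
  have h := D.rule ((a : R) + b) (-(↑b⁻¹ : R)) u (by rw [huv]; linear_combination hb)
  have e1 : D.w a * D.w b = D.P a * D.M (-(↑a⁻¹ : R)) * (D.P ((a : R) + b) * D.M (-(↑b⁻¹ : R))) * D.P b := by
    rw [w, w, D.P_add]; group
  have e2 : D.M (-(↑a⁻¹ : R)) * D.M (-(↑b⁻¹ : R) * ↑u⁻¹) = 1 := D.M_mul_M_of_add_eq_zero (by
    rw [hui]; linear_combination (↑a⁻¹ : R) * hb)
  have e3 : D.Hc u * D.P (((a : R) + b) * ↑u⁻¹ + b) = D.P (-(a : R)) * D.Hc u := by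
    rw [D.Hc_P]
    congr 2
    rw [huv, hui]
    linear_combination (-(a : R) ^ 2 * (↑b⁻¹ : R) ^ 2 * b - a * ((b : R) * ↑b⁻¹) ^ 2) * ha +
      (-(a : R) * ((b : R) * ↑b⁻¹ + 1)) * hb
  rw [e1, h]
  calc D.P a * D.M (-(↑a⁻¹ : R)) * (D.M (-(↑b⁻¹ : R) * ↑u⁻¹) * D.tor (D.c u) * D.P (((a : R) + b) * ↑u⁻¹)) * D.P b
      = D.P a * (D.M (-(↑a⁻¹ : R)) * D.M (-(↑b⁻¹ : R) * ↑u⁻¹)) * (D.Hc u * (D.P (((a : R) + b) * ↑u⁻¹) * D.P b)) := by
        simp only [Hc, mul_assoc]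
    _ = D.P a * (D.Hc u * D.P (((a : R) + b) * ↑u⁻¹ + b)) := by rw [e2, mul_one, ← D.P_add]
    _ = D.P a * D.P (-(a : R)) * D.Hc u := by rw [e3, mul_assoc]
    _ = D.Hc u := by rw [D.P_neg, mul_inv_cancel, one_mul]

theorem w_sq (a : Rˣ) : D.w a ^ 2 = D.Hc (-1) := by
  rw [pow_two, D.w_mul_w, mul_inv_cancel]

theorem w_mul_w_neg (a : Rˣ) : D.w a * D.w (-a) = 1 := by
  rw [D.w_mul_w, inv_neg, mul_neg, mul_inv_cancel, neg_neg, D.Hc_one]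

theorem w_inv (a : Rˣ) : (D.w a)⁻¹ = D.w (-a) :=
  inv_eq_of_mul_eq_one_right (D.w_mul_w_neg a)

/-- `w(z a) = H(z) w(a)`. -/
theorem w_smul_left (z a : Rˣ) : D.w (z * a) = D.Hc z * D.w a := by
  have h1 : D.w (z * a) * D.w a = D.Hc z * D.w a * D.w a := by
    rw [D.w_mul_w, mul_assoc (D.Hc z), D.w_mul_w, ← D.Hc_mul]
    congr 1
    rw [mul_inv_cancel_right, mul_inv_cancel, mul_neg, mul_one]
  exact mul_right_cancel h1

/-- `w(z a) = w(a) H(z)⁻¹`. -/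
theorem w_smul_right (z a : Rˣ) : D.w (z * a) = D.w a * (D.Hc z)⁻¹ := by
  have h1 : D.w a * D.w (z * a) = D.w a * (D.w a * (D.Hc z)⁻¹) := by
    rw [D.w_mul_w, ← mul_assoc, D.w_mul_w, ← D.Hc_inv, ← D.Hc_mul]
    congr 1
    rw [mul_inv_rev, mul_inv_cancel_left, mul_inv_cancel, neg_mul, one_mul]
  exact mul_left_cancel h1

/-- Conjugating `w(a)` by a torus element. -/
theorem tor_conj_w (t : TT) (a : Rˣ) : D.tor t * D.w a * (D.tor t)⁻¹ = D.w (D.χ t * a) := by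
  have e : D.tor t * D.w a * (D.tor t)⁻¹ =
      (D.tor t * D.P a * (D.tor t)⁻¹) * (D.tor t * D.M (-(↑a⁻¹ : R)) * (D.tor t)⁻¹) * (D.tor t * D.P a * (D.tor t)⁻¹) := by
    rw [w]; group
  rw [e, D.conj_P, D.conj_M, w, Units.val_mul, mul_inv_rev, Units.val_mul]
  congr 3
  ring

/-- `w(a)` normalises the torus: `w(a) ι(t) w(a)⁻¹ = H(χ t)⁻¹ ι(t)`. -/
theorem w_conj_tor (t : TT) (a : Rˣ) : D.w a * D.tor t * (D.w a)⁻¹ = (D.Hc (D.χ t))⁻¹ * D.tor t := by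
  have h := D.tor_conj_w t a
  rw [D.w_smul_left] at h
  have h2 : D.tor t * D.w a = D.Hc (D.χ t) * D.w a * D.tor t := by
    rw [← h]; group
  calc D.w a * D.tor t * (D.w a)⁻¹ = (D.Hc (D.χ t))⁻¹ * (D.Hc (D.χ t) * D.w a * D.tor t) * (D.w a)⁻¹ := by group
    _ = (D.Hc (D.χ t))⁻¹ * (D.tor t * D.w a) * (D.w a)⁻¹ := by rw [h2]
    _ = _ := by group

/-- The unit `a` with inverse `-a'`, from `a' * a = -1`. -/
def unitOfNegInv (a a' : R) (h : a' * a = -1) : Rˣ :=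
  ⟨a, -a', by rw [mul_neg, mul_comm, h, neg_neg], by rw [neg_mul, h, neg_neg]⟩

omit [Group TT] [Group H] in
@[simp] theorem val_unitOfNegInv (a a' : R) (h : a' * a = -1) : ((unitOfNegInv a a' h : Rˣ) : R) = a := rfl

omit [Group TT] [Group H] in
@[simp] theorem val_inv_unitOfNegInv (a a' : R) (h : a' * a = -1) :
    (((unitOfNegInv a a' h)⁻¹ : Rˣ) : R) = -a' := rfl

theorem w_unitOfNegInv (a a' : R) (h : a' * a = -1) :
    D.w (unitOfNegInv a a' h) = D.P a * D.M a' * D.P a := by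
  rw [w, val_unitOfNegInv, val_inv_unitOfNegInv, neg_neg]

/-- `w(x) w(y) = H(-x y⁻¹)` in unbundled form. -/
theorem weyl_mul_weyl (x x' y y' : R) (hx : x' * x = -1) (hy : y' * y = -1) (m : Rˣ) (hm : ↑m * y = -x) :
    (D.P x * D.M x' * D.P x) * (D.P y * D.M y' * D.P y) = D.Hc m := by
  rw [← D.w_unitOfNegInv x x' hx, ← D.w_unitOfNegInv y y' hy, D.w_mul_w]
  congr 1
  apply Units.ext
  rw [Units.val_neg, Units.val_mul, val_unitOfNegInv, ← mul_neg]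
  have h1 : (m : R) = -x * ↑(unitOfNegInv y y' hy)⁻¹ :=
    (Units.eq_mul_inv_iff_mul_eq (unitOfNegInv y y' hy)).mpr hm
  rw [h1]
  ring

theorem weyl_sq (x x' : R) (hx : x' * x = -1) (n : Rˣ) (hn : (n : R) = -1) :
    (D.P x * D.M x' * D.P x) ^ 2 = D.Hc n := by
  rw [← D.w_unitOfNegInv x x' hx, D.w_sq]
  congr 1
  apply Units.ext
  rw [hn, Units.val_neg, Units.val_one]

theorem weyl_conj_tor (x x' : R) (hx : x' * x = -1) (t : TT) :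
    (D.P x * D.M x' * D.P x) * D.tor t * (D.P x * D.M x' * D.P x)⁻¹ = (D.Hc (D.χ t))⁻¹ * D.tor t := by
  rw [← D.w_unitOfNegInv x x' hx, D.w_conj_tor]

theorem weyl_smul (x x' y y' : R) (hx : x' * x = -1) (z : Rˣ) (hy : y = ↑z * x) (hy' : y' * y = -1) :
    D.P y * D.M y' * D.P y = D.Hc z * (D.P x * D.M x' * D.P x) ∧
      D.P y * D.M y' * D.P y = (D.P x * D.M x' * D.P x) * (D.Hc z)⁻¹ := by
  have e : unitOfNegInv y y' hy' = z * unitOfNegInv x x' hx := by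
    apply Units.ext
    rw [Units.val_mul, val_unitOfNegInv, val_unitOfNegInv, hy]
  rw [← D.w_unitOfNegInv x x' hx, ← D.w_unitOfNegInv y y' hy', e]
  exact ⟨D.w_smul_left z _, D.w_smul_right z _⟩

/-- `ε = H(-1)` commutes with `P`. -/
theorem Hc_neg_one_P (a : R) : D.Hc (-1) * D.P a = D.P a * D.Hc (-1) := by
  rw [D.Hc_P, Units.val_neg, Units.val_one, neg_one_sq, one_mul]

/-- `ε = H(-1)` commutes with `M`. -/
theorem Hc_neg_one_M (a : R) : D.Hc (-1) * D.M a = D.M a * D.Hc (-1) := by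
  rw [D.Hc_M, inv_neg, inv_one, Units.val_neg, Units.val_one, neg_one_sq, one_mul]

theorem Hc_neg_one_mul_self : D.Hc (-1) * D.Hc (-1) = 1 := by
  rw [← D.Hc_mul, neg_mul_neg, one_mul, D.Hc_one]

/-- If `b` and `u` are units with `u (1 - a b) = 1`, then `w(a) = w₋(b) H(-(ab)⁻¹)`. -/
theorem w_eq_op_w_mul (a b u : Rˣ) (hu : (u : R) = 1 + a * (b * u)) :
    D.w a = D.op.w b * D.Hc (-(a * b)⁻¹) := by
  have ha : (a : R) * ↑a⁻¹ = 1 := Units.mul_inv a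
  have hb : (b : R) * ↑b⁻¹ = 1 := Units.mul_inv b
  have huu : (u : R) * ↑u⁻¹ = 1 := Units.mul_inv u
  have h1 := D.rule (a : R) ((b : R) * u) u hu
  set u' : Rˣ := -(a * b * u) with hu'
  have hu'v : (u' : R) = -((a : R) * b * u) := by rw [hu', Units.val_neg, Units.val_mul, Units.val_mul]
  have hu'i : ((u'⁻¹ : Rˣ) : R) = -((↑a⁻¹ : R) * ↑b⁻¹ * ↑u⁻¹) := by
    rw [hu', inv_neg, Units.val_neg, mul_inv, mul_inv, Units.val_mul, Units.val_mul]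
  have h2 := D.rule_rev (a : R) (-(↑a⁻¹ : R) - b * u) u' (by rw [hu'v]; linear_combination ha)
  have hv2 : u * u'⁻¹ = -(a * b)⁻¹ := by
    rw [hu', inv_neg, mul_neg, mul_inv_rev, mul_inv_cancel_left]
  have hv2i : (((-(a * b)⁻¹ : Rˣ)⁻¹ : Rˣ) : R) = -((a : R) * b) := by
    rw [inv_neg, inv_inv, Units.val_neg, Units.val_mul]
  have e0 : D.M (-(↑a⁻¹ : R)) = D.M ((b : R) * u) * D.M (-(↑a⁻¹ : R) - b * u) := by
    rw [← D.M_add]; congr 1; ring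
  have e1 : D.w a = (D.P a * D.M ((b : R) * u)) * (D.M (-(↑a⁻¹ : R) - b * u) * D.P a) := by
    rw [w, e0]; group
  have e2 : D.M ((b : R) * u * ↑u⁻¹) = D.M b := by congr 1; linear_combination (b : R) * huu
  have e3 : D.Hc u * (D.P ((a : R) * ↑u⁻¹) * D.P ((a : R) * ↑u'⁻¹)) = D.P (-(↑b⁻¹ : R)) * D.Hc u := by
    rw [← D.P_add, D.Hc_P]
    congr 2
    rw [hu'i]
    linear_combination (-(↑b⁻¹:R)*(u:R)^2*(↑u⁻¹:R)) * ha + (-(a:R)*(u:R)) * hb + (-(a:R)*(b:R)*(↑b⁻¹:R)*(u:R) + (a:R)*(u:R) - (↑b⁻¹:R)) * huu + (-(↑b⁻¹:R)*(u:R)*(↑u⁻¹:R)) * hu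
  have e4 : D.Hc (-(a * b)⁻¹) * D.M ((-(↑a⁻¹ : R) - b * u) * ↑u'⁻¹) = D.M b * D.Hc (-(a * b)⁻¹) := by
    rw [D.Hc_M]
    congr 2
    rw [hv2i, hu'i]
    linear_combination ((a:R)*(b:R)^3*(↑b⁻¹:R)*(u:R)*(↑u⁻¹:R) + (a:R)*(↑a⁻¹:R)*(b:R)^2*(↑b⁻¹:R)*(↑u⁻¹:R) + (b:R)^2*(↑b⁻¹:R)*(↑u⁻¹:R)) * ha + ((a:R)*(b:R)^2*(u:R)*(↑u⁻¹:R) + (b:R)*(↑u⁻¹:R)) * hb + ((b:R)) * huu + (-(b:R)*(↑u⁻¹:R)) * hu
  have e5 : D.Hc u * (D.Hc u')⁻¹ = D.Hc (-(a * b)⁻¹) := by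
    rw [← D.Hc_inv, ← D.Hc_mul, hv2]
  have e6 : D.op.w b = D.M b * D.P (-(↑b⁻¹ : R)) * D.M b := rfl
  rw [e1, h1, h2, e2, e6]
  calc D.M b * D.tor (D.c u) * D.P ((a : R) * ↑u⁻¹) *
        (D.P ((a : R) * ↑u'⁻¹) * (D.Hc u')⁻¹ * D.M ((-(↑a⁻¹ : R) - b * u) * ↑u'⁻¹))
      = D.M b * (D.Hc u * (D.P ((a : R) * ↑u⁻¹) * D.P ((a : R) * ↑u'⁻¹))) * (D.Hc u')⁻¹ *
          D.M ((-(↑a⁻¹ : R) - b * u) * ↑u'⁻¹) := by simp only [Hc, mul_assoc]
    _ = D.M b * D.P (-(↑b⁻¹ : R)) * (D.Hc u * (D.Hc u')⁻¹) * D.M ((-(↑a⁻¹ : R) - b * u) * ↑u'⁻¹) := by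
        rw [e3]; simp only [mul_assoc]
    _ = D.M b * D.P (-(↑b⁻¹ : R)) * (D.Hc (-(a * b)⁻¹) * D.M ((-(↑a⁻¹ : R) - b * u) * ↑u'⁻¹)) := by
        rw [e5]; simp only [mul_assoc]
    _ = _ := by rw [e4]; simp only [mul_assoc]

/-- With auxiliary units `b, u`, `u (1 - a b) = 1`: `w(a) = w₋(-a⁻¹)`. -/
theorem w_eq_op_w (a b u : Rˣ) (hu : (u : R) = 1 + a * (b * u)) : D.w a = D.op.w (-a⁻¹) := by
  rw [D.w_eq_op_w_mul a b u hu]
  have h := D.op.w_smul_right (-(a * b)⁻¹) b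
  rw [D.op_Hc, inv_inv] at h
  rw [← h]
  congr 1
  rw [neg_mul, mul_inv, mul_assoc, inv_mul_cancel, mul_one]

/-- Transfer of `w(a) = w₋(-a⁻¹)` along an injective morphism of systems to one where auxiliary units exist. -/
theorem w_eq_op_w_of_hom {R' TT' H' : Type*} [CommRing R'] [Group TT'] [Group H'] (D' : Sys R' TT' H')
    (φ : R →+* R') (ψ : H →* H') (hψ : Function.Injective ψ)
    (hP : ∀ r, ψ (D.P r) = D'.P (φ r)) (hM : ∀ r, ψ (D.M r) = D'.M (φ r))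
    (a : Rˣ) (b u : R'ˣ) (hu : (u : R') = 1 + φ a * (b * u)) : D.w a = D.op.w (-a⁻¹) := by
  apply hψ
  have e1 : ψ (D.w a) = D'.w (Units.map (φ : R →* R') a) := by
    rw [w, w, map_mul, map_mul, hP, hM, map_neg, ← map_inv]
    rfl
  have e2 : ψ (D.op.w (-a⁻¹)) = D'.op.w (-(Units.map (φ : R →* R') a)⁻¹) := by
    change ψ (D.M ↑(-a⁻¹) * D.P (-(↑(-a⁻¹)⁻¹ : R)) * D.M ↑(-a⁻¹)) =
      D'.M ↑(-(Units.map (φ : R →* R') a)⁻¹) * D'.P (-(↑(-(Units.map (φ : R →* R') a)⁻¹)⁻¹ : R')) *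
        D'.M ↑(-(Units.map (φ : R →* R') a)⁻¹)
    have k1 : φ ↑(-a⁻¹) = ((-(Units.map (φ : R →* R') a)⁻¹ : R'ˣ) : R') := by
      rw [Units.val_neg, Units.val_neg, map_neg, ← map_inv]; rfl
    have k2 : φ (-(↑(-a⁻¹)⁻¹ : R)) = -(↑(-(Units.map (φ : R →* R') a)⁻¹)⁻¹ : R') := by
      rw [inv_neg, inv_inv, inv_neg, inv_inv, Units.val_neg, Units.val_neg, neg_neg, neg_neg]; rfl
    rw [map_mul, map_mul, hP, hM, k1, k2]
  rw [e1, e2]
  exact D'.w_eq_op_w _ b u hu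

section WithOp

variable (hw : ∀ a : Rˣ, D.w a = D.op.w (-a⁻¹))
include hw

/-- `w(a) P(a) w(a)⁻¹ = M(-a⁻¹)`. -/
theorem w_conj_P (a : Rˣ) : D.w a * D.P a * (D.w a)⁻¹ = D.M (-(↑a⁻¹ : R)) := by
  have h1 : D.w a = D.M (-(↑a⁻¹ : R)) * D.P a * D.M (-(↑a⁻¹ : R)) := by
    rw [hw a]
    change D.M ↑(-a⁻¹) * D.P (-(↑(-a⁻¹)⁻¹ : R)) * D.M ↑(-a⁻¹) = _
    rw [inv_neg, inv_inv, Units.val_neg, Units.val_neg, neg_neg]
  have h2 : D.w a * D.P a = D.M (-(↑a⁻¹ : R)) * D.w a := by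
    conv_lhs => rw [h1]
    rw [w]
    simp only [mul_assoc]
  rw [h2, mul_inv_cancel_right]

/-- `(w(a) P(a))³ = 1`. -/
theorem w_mul_P_cube (a : Rˣ) : (D.w a * D.P a) ^ 3 = 1 := by
  have h1 : D.w a = D.M (-(↑a⁻¹ : R)) * D.P a * D.M (-(↑a⁻¹ : R)) := by
    rw [hw a]
    change D.M ↑(-a⁻¹) * D.P (-(↑(-a⁻¹)⁻¹ : R)) * D.M ↑(-a⁻¹) = _
    rw [inv_neg, inv_inv, Units.val_neg, Units.val_neg, neg_neg]
  have h0 : D.w a = D.P a * D.M (-(↑a⁻¹ : R)) * D.P a := rfl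
  have hsq : D.w a * D.w a = D.Hc (-1) := by rw [← pow_two, D.w_sq]
  -- (W p)^3 = W p (W W) m p  where p W p = W m p
  have h3 : D.P a * D.w a * D.P a = D.w a * D.M (-(↑a⁻¹ : R)) * D.P a := by
    conv_lhs => rw [h1]
    rw [h0]; simp only [mul_assoc]
  calc (D.w a * D.P a) ^ 3 = D.w a * D.P a * D.w a * (D.P a * D.w a * D.P a) := by
        rw [pow_succ, pow_two]; simp only [mul_assoc]
    _ = D.w a * D.P a * (D.w a * D.w a) * D.M (-(↑a⁻¹ : R)) * D.P a := by rw [h3]; simp only [mul_assoc]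
    _ = D.w a * (D.P a * D.Hc (-1)) * D.M (-(↑a⁻¹ : R)) * D.P a := by rw [hsq]; simp only [mul_assoc]
    _ = D.w a * D.Hc (-1) * (D.P a * D.M (-(↑a⁻¹ : R)) * D.P a) := by
        rw [← D.Hc_neg_one_P]; simp only [mul_assoc]
    _ = D.w a * (D.Hc (-1) * D.w a) := by rw [← h0]; simp only [mul_assoc]
    _ = D.w a * D.w a * D.Hc (-1) := by
        have hc : D.Hc (-1) * D.w a = D.w a * D.Hc (-1) := by
          rw [← hsq]; simp only [mul_assoc]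
        rw [hc]; simp only [mul_assoc]
    _ = 1 := by rw [hsq, D.Hc_neg_one_mul_self]

theorem weyl_conj_P (x x' : R) (hx : x' * x = -1) :
    (D.P x * D.M x' * D.P x) * D.P x * (D.P x * D.M x' * D.P x)⁻¹ = D.M x' ∧
      ((D.P x * D.M x' * D.P x) * D.P x) ^ 3 = 1 := by
  rw [← D.w_unitOfNegInv x x' hx]
  refine ⟨?_, D.w_mul_P_cube hw _⟩
  have h := D.w_conj_P hw (unitOfNegInv x x' hx)
  rw [val_unitOfNegInv, val_inv_unitOfNegInv, neg_neg] at h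
  exact h

theorem weyl_neg_and_mul (x x' nx nx' y y' : R) (hx : x' * x = -1) (hnx : nx = -x) (hnx' : nx' = -x')
    (hy : y' * y = -1) (z : Rˣ) (hz : (z : R) = x * y) :
    D.M nx' * D.P nx * D.M nx' = (D.P x * D.M x' * D.P x)⁻¹ ∧
      D.P nx * D.M nx' * D.P nx = (D.P x * D.M x' * D.P x)⁻¹ ∧
      (D.P x * D.M x' * D.P x) * (D.M y * D.P y' * D.M y) = D.Hc z := by
  rw [← D.w_unitOfNegInv x x' hx, D.w_inv]
  have hneg : D.w (-(unitOfNegInv x x' hx)) = D.P nx * D.M nx' * D.P nx := by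
    rw [w, Units.val_neg, inv_neg, Units.val_neg, val_unitOfNegInv, val_inv_unitOfNegInv, neg_neg,
      hnx, hnx']
  refine ⟨?_, hneg.symm, ?_⟩
  · rw [hw]
    change _ = D.M ↑(-(-(unitOfNegInv x x' hx))⁻¹) * D.P (-(↑(-(-(unitOfNegInv x x' hx))⁻¹)⁻¹ : R)) *
      D.M ↑(-(-(unitOfNegInv x x' hx))⁻¹)
    rw [inv_neg, neg_neg, inv_inv, val_unitOfNegInv, val_inv_unitOfNegInv, hnx, hnx']
  · -- w₋(y) = w(-y⁻¹)
    have hy2 : y * y' = -1 := by rw [mul_comm]; exact hy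
    have e : D.M y * D.P y' * D.M y = D.w (unitOfNegInv y' y hy2) := by
      rw [hw]
      change _ = D.M ↑(-(unitOfNegInv y' y hy2)⁻¹) * D.P (-(↑(-(unitOfNegInv y' y hy2)⁻¹)⁻¹ : R)) *
        D.M ↑(-(unitOfNegInv y' y hy2)⁻¹)
      rw [inv_neg, inv_inv, Units.val_neg, Units.val_neg, val_unitOfNegInv, val_inv_unitOfNegInv, neg_neg, neg_neg]
    rw [e, D.w_mul_w]
    congr 1
    apply Units.ext
    rw [Units.val_neg, Units.val_mul, val_unitOfNegInv, val_inv_unitOfNegInv, hz]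
    ring

end WithOp

end Sys

end Groth.Agent.Lib.Helper20.RankOne
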