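import Groth.Agent.Lib.Helper20.RankOneSys

/-!
# Finite free base extensions producing auxiliary units, and `w(a) = w₋(-a⁻¹)` (helper20)
-/

set_option autoImplicit false
universe u
open CategoryTheory MonoidalCategory CartesianMonoidalCategory MonObj GrpObj AlgebraicGeometry CategoryTheory.Limits
open Groth.Agent.Lib.Helper21.GaPts Polynomial

namespace Groth.Agent.Lib.Helper20.RankOne

/-- For a unit `a` of `R` there is a faithfully flat `R`-algebra with a unit `b` such that `b = 1 + a b²`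
(namely `R[b]/(b² - a⁻¹ b + a⁻¹)`). -/
theorem exists_ringExt (R : Type u) [CommRing R] (a : Rˣ) :
    ∃ (R' : Type u) (_ : CommRing R') (_ : Algebra R R'), Module.FaithfullyFlat R R' ∧
      ∃ b : R'ˣ, (b : R') = 1 + algebraMap R R' a * (b * b) := by
  rcases subsingleton_or_nontrivial R with hR | hR
  · exact ⟨R, inferInstance, inferInstance, inferInstance, 1, Subsingleton.elim _ _⟩
  · obtain ⟨c, hc⟩ : ∃ c : R, c = ↑a⁻¹ := ⟨_, rfl⟩
    obtain ⟨f, hf⟩ : ∃ f : R[X], f = X ^ 2 + (C (-c) * X + C c) := ⟨_, rfl⟩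
    have hdeg : (C (-c) * X + C c : R[X]).degree < ((2 : ℕ) : WithBot ℕ) :=
      lt_of_le_of_lt (degree_linear_le) (by norm_num)
    have hmon : f.Monic := by rw [hf]; exact monic_X_pow_add hdeg
    have hnat : f.natDegree = 2 := by
      rw [hf, natDegree_add_eq_left_of_degree_lt (by rw [degree_X_pow]; exact hdeg), natDegree_X_pow]
    have hnu : ¬ IsUnit f := fun hu => by
      have := hmon.eq_one_of_isUnit hu
      rw [this, natDegree_one] at hnat
      exact absurd hnat (by norm_num)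
    have := hmon.free_adjoinRoot
    have : Nontrivial (AdjoinRoot f) :=
      Ideal.Quotient.nontrivial_iff.mpr (by simpa [Ideal.span_singleton_eq_top] using hnu)
    refine ⟨AdjoinRoot f, inferInstance, inferInstance, inferInstance, ?_⟩
    have hexp : ∀ {A : Type u} [CommRing A] (ψ : R →+* A) (x : A),
        eval₂ ψ x f = x ^ 2 + (ψ (-c) * x + ψ c) := by
      intro A _ ψ x
      rw [hf]
      simp only [eval₂_add, eval₂_pow, eval₂_X, eval₂_mul, eval₂_C]
    have hroot := AdjoinRoot.eval₂_root f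
    rw [hexp, map_neg, ← AdjoinRoot.algebraMap_eq] at hroot
    have hac : algebraMap R (AdjoinRoot f) a * algebraMap R (AdjoinRoot f) c = 1 := by
      rw [← map_mul, hc, Units.mul_inv, map_one]
    have hrel : AdjoinRoot.root f = 1 + algebraMap R (AdjoinRoot f) a * (AdjoinRoot.root f * AdjoinRoot.root f) := by
      linear_combination (-(algebraMap R (AdjoinRoot f) a)) * hroot + (1 - AdjoinRoot.root f) * hac
    refine ⟨⟨AdjoinRoot.root f, 1 - algebraMap R (AdjoinRoot f) a * AdjoinRoot.root f, ?_, ?_⟩, hrel⟩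
    · linear_combination hrel
    · linear_combination hrel

variable {S : Scheme.{u}}

/-- For a unit `a` on `X` there is an `S`-scheme `X'` with an epimorphism `π : X' ⟶ X` and a unit `b` on `X'` such that
`b = 1 + π^*(a) b²`. -/
theorem exists_ext (X : Over S) (a : Γ(X.left, ⊤)ˣ) :
    ∃ (X' : Over S) (π : X' ⟶ X), Epi π.left ∧
      ∃ b : Γ(X'.left, ⊤)ˣ, (b : Γ(X'.left, ⊤)) = 1 + π.left.appTop (a : Γ(X.left, ⊤)) * (b * b) := by
  obtain ⟨R', _, _, hff, b₀, hb₀⟩ := exists_ringExt Γ(X.left, ⊤) a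
  let φ : Γ(X.left, ⊤) ⟶ CommRingCat.of R' := CommRingCat.ofHom (algebraMap Γ(X.left, ⊤) R')
  have hφ : φ.hom.FaithfullyFlat := (RingHom.faithfullyFlat_algebraMap_iff).mpr hff
  obtain ⟨hfl, hsurj⟩ := (flat_and_surjective_SpecMap_iff φ).mpr hφ
  let Y : Scheme.{u} := pullback X.left.toSpecΓ (Spec.map φ)
  let π : Y ⟶ X.left := pullback.fst X.left.toSpecΓ (Spec.map φ)
  have : Flat π := inferInstance
  have : Surjective π := inferInstance
  have : Epi π := Flat.epi_of_flat_of_surjective π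
  let ρ : CommRingCat.of R' ⟶ Γ(Y, ⊤) :=
    (Scheme.ΓSpecIso (CommRingCat.of R')).inv ≫ (pullback.snd X.left.toSpecΓ (Spec.map φ)).appTop
  have hρ : φ ≫ ρ = π.appTop := by
    have hsq : π ≫ X.left.toSpecΓ = pullback.snd X.left.toSpecΓ (Spec.map φ) ≫ Spec.map φ := pullback.condition
    have h1 := congrArg (fun g => (Scheme.ΓSpecIso Γ(X.left, ⊤)).inv ≫ g.appTop) hsq
    simp only [Scheme.Hom.comp_appTop] at h1
    rw [Scheme.toSpecΓ_appTop, Iso.inv_hom_id_assoc] at h1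
    rw [h1, ← Category.assoc, Scheme.ΓSpecIso_inv_naturality, Category.assoc]
  have hρa : ∀ r : Γ(X.left, ⊤), ρ.hom (algebraMap Γ(X.left, ⊤) R' r) = π.appTop r := fun r => by
    rw [← hρ]; rfl
  refine ⟨Over.mk (π ≫ X.hom), Over.homMk π rfl, ‹Epi π›, Units.map (ρ.hom : R' →* Γ(Y, ⊤)) b₀, ?_⟩
  have h := congrArg ρ.hom hb₀
  rw [map_add, map_one, map_mul, map_mul, hρa] at h
  exact h

section mkSys_w

variable {G T : Over S} [GrpObj G] [GrpObj T] (i : T ⟶ G) [IsMonHom i]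
  (α : T ⟶ Red.Gm S) [IsMonHom α] (pp pm : Red.Ga S ⟶ G) [IsMonHom pp] [IsMonHom pm]
  (av : Red.Gm S ⟶ T) [IsMonHom av]
  (hpp : ∀ (X : Over S) (t : X ⟶ T) (x : X ⟶ Red.Ga S), ∃ x' : X ⟶ Red.Ga S,
      x' ≫ pp = (t ≫ i) * (x ≫ pp) * (t ≫ i)⁻¹ ∧ Red.gaFn x' = Red.gmFn (t ≫ α) * Red.gaFn x)
  (hpm : ∀ (X : Over S) (t : X ⟶ T) (y : X ⟶ Red.Ga S), ∃ y' : X ⟶ Red.Ga S,
      y' ≫ pm = (t ≫ i) * (y ≫ pm) * (t ≫ i)⁻¹ ∧ Red.gaFn y' * Red.gmFn (t ≫ α) = Red.gaFn y)
  (h2 : av ≫ α = (𝟙 (Red.Gm S)) ^ 2)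
  (hF : ∀ (X : Over S) (x y : X ⟶ Red.Ga S), IsUnit (1 + Red.gaFn x * Red.gaFn y) →
      ∃ (x' y' : X ⟶ Red.Ga S) (z : X ⟶ Red.Gm S), Red.gmFn z = 1 + Red.gaFn x * Red.gaFn y ∧
        Red.gaFn x' * Red.gmFn z = Red.gaFn x ∧ Red.gaFn y' * Red.gmFn z = Red.gaFn y ∧
        (x ≫ pp) * (y ≫ pm) = (y' ≫ pm) * (z ≫ av ≫ i) * (x' ≫ pp))

/-- In the rank-one system of a group scheme, `w(a) = w₋(-a⁻¹)`. -/
theorem mkSys_w_eq_op_w (X : Over S) (a : Γ(X.left, ⊤)ˣ) :
    (mkSys i α pp pm av hpp hpm h2 hF X).w a = (mkSys i α pp pm av hpp hpm h2 hF X).op.w (-a⁻¹) := by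
  obtain ⟨X', π, hπ, b, hb⟩ := exists_ext X a
  let ψ : (X ⟶ G) →* (X' ⟶ G) :=
    { toFun := fun g => π ≫ g
      map_one' := MonObj.comp_one π
      map_mul' := fun g₁ g₂ => MonObj.comp_mul π g₁ g₂ }
  have hψ : Function.Injective ψ := by
    intro g₁ g₂ h
    have h' : π.left ≫ g₁.left = π.left ≫ g₂.left := congrArg CommaMorphism.left h
    exact Over.OverMorphism.ext ((cancel_epi π.left).mp h')
  refine (mkSys i α pp pm av hpp hpm h2 hF X).w_eq_op_w_of_hom (mkSys i α pp pm av hpp hpm h2 hF X')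
    π.left.appTop.hom ψ hψ (fun r => ?_) (fun r => ?_) a b b hb
  · change π ≫ gaPt r ≫ pp = gaPt (π.left.appTop r) ≫ pp
    rw [← Category.assoc, gaPt_comp]
  · change π ≫ gaPt r ≫ pm = gaPt (π.left.appTop r) ≫ pm
    rw [← Category.assoc, gaPt_comp]

end mkSys_w

end Groth.Agent.Lib.Helper20.RankOne
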