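import Groth.Agent.Lib.Helper20.RankOneAbs
import Groth.Agent.Lib.Helper21.GaPts
import Groth.Prelude.Def_GmPts

/-!
# The abstract rank-one system of a group scheme with root groups and coroot (helper20)
-/

set_option autoImplicit false
universe u
open CategoryTheory MonoidalCategory CartesianMonoidalCategory MonObj GrpObj AlgebraicGeometry CategoryTheory.Limits
open Groth.Agent.Lib.Helper21.GaPts

namespace Groth.Agent.Lib.Helper20.RankOne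

variable {S : Scheme.{u}} {G T : Over S} [GrpObj G] [GrpObj T] (i : T ⟶ G) [IsMonHom i]
  (α : T ⟶ Red.Gm S) [IsMonHom α] (pp pm : Red.Ga S ⟶ G) [IsMonHom pp] [IsMonHom pm]
  (av : Red.Gm S ⟶ T) [IsMonHom av]

theorem gaPt_neg {X : Over S} (a : Γ(X.left, ⊤)) : gaPt (S := S) (-a) = (gaPt a)⁻¹ :=
  gaFn_injective (by rw [gaFn_inv, gaFn_gaPt, gaFn_gaPt])

theorem gmFn_eq_iff {X : Over S} (z : X ⟶ Red.Gm S) (u : Γ(X.left, ⊤)ˣ) :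
    Red.gmFn z = u ↔ z = GmPts.ptOfUnit u := by
  constructor
  · intro h
    apply GmPts.gmFn_injective
    change Red.gmFn z = Red.gmFn (GmPts.ptOfUnit u)
    rw [h, GmPts.gmFn_ptOfUnit]
  · intro h
    rw [h, GmPts.gmFn_ptOfUnit]

/-- The rank-one system attached to `(G, T, α, p₊, p₋, α^*)` and a test scheme `X`. -/
noncomputable def mkSys
    (hpp : ∀ (X : Over S) (t : X ⟶ T) (x : X ⟶ Red.Ga S), ∃ x' : X ⟶ Red.Ga S,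
      x' ≫ pp = (t ≫ i) * (x ≫ pp) * (t ≫ i)⁻¹ ∧ Red.gaFn x' = Red.gmFn (t ≫ α) * Red.gaFn x)
    (hpm : ∀ (X : Over S) (t : X ⟶ T) (y : X ⟶ Red.Ga S), ∃ y' : X ⟶ Red.Ga S,
      y' ≫ pm = (t ≫ i) * (y ≫ pm) * (t ≫ i)⁻¹ ∧ Red.gaFn y' * Red.gmFn (t ≫ α) = Red.gaFn y)
    (h2 : av ≫ α = (𝟙 (Red.Gm S)) ^ 2)
    (hF : ∀ (X : Over S) (x y : X ⟶ Red.Ga S), IsUnit (1 + Red.gaFn x * Red.gaFn y) →
      ∃ (x' y' : X ⟶ Red.Ga S) (z : X ⟶ Red.Gm S), Red.gmFn z = 1 + Red.gaFn x * Red.gaFn y ∧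
        Red.gaFn x' * Red.gmFn z = Red.gaFn x ∧ Red.gaFn y' * Red.gmFn z = Red.gaFn y ∧
        (x ≫ pp) * (y ≫ pm) = (y' ≫ pm) * (z ≫ av ≫ i) * (x' ≫ pp))
    (X : Over S) : Sys Γ(X.left, ⊤) (X ⟶ T) (X ⟶ G) where
  P a := gaPt a ≫ pp
  M a := gaPt a ≫ pm
  tor := IsMonHom.monoidHom i X
  χ := (GmPts.equiv X).toMonoidHom.comp (IsMonHom.monoidHom α X)
  c := (IsMonHom.monoidHom av X).comp (GmPts.equiv X).symm.toMonoidHom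
  P_add a b := by rw [gaPt_add, MonObj.mul_comp]
  M_add a b := by rw [gaPt_add, MonObj.mul_comp]
  χ_c u := by
    change GmPts.unitOfPt ((GmPts.ptOfUnit u ≫ av) ≫ α) = u ^ 2
    rw [Category.assoc, h2, MonObj.comp_pow, Category.comp_id]
    change GmPts.equiv X (GmPts.ptOfUnit u ^ 2) = u ^ 2
    rw [map_pow]
    change GmPts.unitOfPt (GmPts.ptOfUnit u) ^ 2 = u ^ 2
    rw [GmPts.unitOfPt_ptOfUnit]
  conj_P t a := by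
    obtain ⟨x', h1, h2'⟩ := hpp X t (gaPt a)
    rw [gaFn_gaPt] at h2'
    change (t ≫ i) * (gaPt a ≫ pp) * (t ≫ i)⁻¹ = gaPt (Red.gmFn (t ≫ α) * a) ≫ pp
    rw [← h1, ← h2', gaPt_gaFn]
  conj_M t a := by
    obtain ⟨y', h1, h2'⟩ := hpm X t (gaPt a)
    rw [gaFn_gaPt] at h2'
    change (t ≫ i) * (gaPt a ≫ pm) * (t ≫ i)⁻¹ = gaPt ((((GmPts.unitOfPt (t ≫ α))⁻¹ : Γ(X.left, ⊤)ˣ) : Γ(X.left, ⊤)) * a) ≫ pm
    rw [← h1]
    congr 1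
    apply gaFn_injective
    rw [gaFn_gaPt, ← h2']
    have hu : Red.gmFn (t ≫ α) = ((GmPts.unitOfPt (t ≫ α) : Γ(X.left, ⊤)ˣ) : Γ(X.left, ⊤)) := rfl
    rw [hu, _root_.mul_comm (Red.gaFn y'), ← _root_.mul_assoc, Units.inv_mul, _root_.one_mul]
  rule a b u hu := by
    obtain ⟨x', y', z, hz, hx', hy', h⟩ := hF X (gaPt a) (gaPt b) (by
      rw [gaFn_gaPt, gaFn_gaPt, ← hu]; exact u.isUnit)
    simp only [gaFn_gaPt] at hz hx' hy'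
    rw [← hu] at hz
    have hz' : z = GmPts.ptOfUnit u := (gmFn_eq_iff z u).mp hz
    have hxe : x' = gaPt (a * ((u⁻¹ : Γ(X.left, ⊤)ˣ) : Γ(X.left, ⊤))) := by
      apply gaFn_injective
      rw [gaFn_gaPt, ← hx', hz, _root_.mul_assoc, Units.mul_inv, _root_.mul_one]
    have hye : y' = gaPt (b * ((u⁻¹ : Γ(X.left, ⊤)ˣ) : Γ(X.left, ⊤))) := by
      apply gaFn_injective
      rw [gaFn_gaPt, ← hy', hz, _root_.mul_assoc, Units.mul_inv, _root_.mul_one]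
    rw [hz', hxe, hye] at h
    rw [h]
    rfl

section mkSys_lemmas

variable (hpp : ∀ (X : Over S) (t : X ⟶ T) (x : X ⟶ Red.Ga S), ∃ x' : X ⟶ Red.Ga S,
      x' ≫ pp = (t ≫ i) * (x ≫ pp) * (t ≫ i)⁻¹ ∧ Red.gaFn x' = Red.gmFn (t ≫ α) * Red.gaFn x)
    (hpm : ∀ (X : Over S) (t : X ⟶ T) (y : X ⟶ Red.Ga S), ∃ y' : X ⟶ Red.Ga S,
      y' ≫ pm = (t ≫ i) * (y ≫ pm) * (t ≫ i)⁻¹ ∧ Red.gaFn y' * Red.gmFn (t ≫ α) = Red.gaFn y)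
    (h2 : av ≫ α = (𝟙 (Red.Gm S)) ^ 2)
    (hF : ∀ (X : Over S) (x y : X ⟶ Red.Ga S), IsUnit (1 + Red.gaFn x * Red.gaFn y) →
      ∃ (x' y' : X ⟶ Red.Ga S) (z : X ⟶ Red.Gm S), Red.gmFn z = 1 + Red.gaFn x * Red.gaFn y ∧
        Red.gaFn x' * Red.gmFn z = Red.gaFn x ∧ Red.gaFn y' * Red.gmFn z = Red.gaFn y ∧
        (x ≫ pp) * (y ≫ pm) = (y' ≫ pm) * (z ≫ av ≫ i) * (x' ≫ pp))
    (X : Over S)

theorem mkSys_P (x : X ⟶ Red.Ga S) : x ≫ pp = (mkSys i α pp pm av hpp hpm h2 hF X).P (Red.gaFn x) := by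
  change x ≫ pp = gaPt (Red.gaFn x) ≫ pp
  rw [gaPt_gaFn]

theorem mkSys_M (x : X ⟶ Red.Ga S) : x ≫ pm = (mkSys i α pp pm av hpp hpm h2 hF X).M (Red.gaFn x) := by
  change x ≫ pm = gaPt (Red.gaFn x) ≫ pm
  rw [gaPt_gaFn]

theorem mkSys_tor (t : X ⟶ T) : t ≫ i = (mkSys i α pp pm av hpp hpm h2 hF X).tor t := rfl

theorem mkSys_χ (t : X ⟶ T) :
    (((mkSys i α pp pm av hpp hpm h2 hF X).χ t : Γ(X.left, ⊤)ˣ) : Γ(X.left, ⊤)) = Red.gmFn (t ≫ α) := rfl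

theorem mkSys_χ' (t : X ⟶ T) :
    (mkSys i α pp pm av hpp hpm h2 hF X).χ t = GmPts.unitOfPt (t ≫ α) := rfl

theorem mkSys_c (z : X ⟶ Red.Gm S) :
    z ≫ av = (mkSys i α pp pm av hpp hpm h2 hF X).c (GmPts.unitOfPt z) := by
  change z ≫ av = GmPts.ptOfUnit (GmPts.unitOfPt z) ≫ av
  rw [GmPts.ptOfUnit_unitOfPt]

theorem mkSys_Hc (z : X ⟶ Red.Gm S) :
    z ≫ av ≫ i = (mkSys i α pp pm av hpp hpm h2 hF X).Hc (GmPts.unitOfPt z) := by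
  change z ≫ av ≫ i = (GmPts.ptOfUnit (GmPts.unitOfPt z) ≫ av) ≫ i
  rw [GmPts.ptOfUnit_unitOfPt, Category.assoc]

end mkSys_lemmas

end Groth.Agent.Lib.Helper20.RankOne
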