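import Mathlib

/-!
# Finite type refinement controlling maps to the completion (algebraic core of S7201)
-/

set_option autoImplicit false

universe u

namespace Groth.Agent.Lib.Helper20.Refine

open IsLocalRing

/-- (copied from `Helper8.AA1`) -/
theorem mem_map_pow_of_evalₐ_eq_zero {A : Type u} [CommRing A] (I : Ideal A) (hI : I.FG)
    (x : AdicCompletion I A) (n : ℕ) (h : AdicCompletion.evalₐ I n x = 0) :
    x ∈ (I ^ n).map (algebraMap A (AdicCompletion I A)) := by
  have h1 : AdicCompletion.eval I A n x = 0 := by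
    rw [← AdicCompletion.factor_evalₐ_eq_eval I x (by simp), h, map_zero]
  have h2 : x ∈ (I ^ n • ⊤ : Submodule A (AdicCompletion I A)) := by
    rw [AdicCompletion.pow_smul_top_eq_ker_eval hI, LinearMap.mem_ker]
    exact h1
  rw [Ideal.smul_top_eq_map] at h2
  exact h2

set_option maxHeartbeats 1600000 in
/-- Algebraic core of S7201. -/
theorem alg7201 {R B : Type u} [CommRing R] [CommRing B] [IsNoetherianRing R] [Algebra R B]
    [Algebra.FiniteType R B]
    (𝔭 : Ideal R) [𝔭.IsPrime] (𝔮 : Ideal B) [𝔮.IsPrime]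
    (OS : Type u) [CommRing OS] [IsLocalRing OS] [Algebra R OS] [IsLocalization.AtPrime OS 𝔭]
    [IsNoetherianRing OS]
    (OT : Type u) [CommRing OT] [IsLocalRing OT] [Algebra B OT] [IsLocalization.AtPrime OT 𝔮]
    (σ : OT →+* AdicCompletion (maximalIdeal OS) OS)
    (hσ : ∀ r : R, σ (algebraMap B OT (algebraMap R B r)) =
      algebraMap OS (AdicCompletion (maximalIdeal OS) OS) (algebraMap R OS r))
    (hloc : ∀ a ∈ maximalIdeal OT, σ a ∈ (maximalIdeal OS).map
      (algebraMap OS (AdicCompletion (maximalIdeal OS) OS)))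
    (N : ℕ) :
    ∃ (B' : Type u) (_ : CommRing B') (_ : Algebra B B'), Algebra.FiniteType B B' ∧
      ∃ (τ₀ : B' →+* AdicCompletion (maximalIdeal OS) OS),
        (∀ b : B, τ₀ (algebraMap B B' b) = σ (algebraMap B OT b)) ∧
        (((maximalIdeal (AdicCompletion (maximalIdeal OS) OS)).comap τ₀).comap
          (algebraMap B B') = 𝔮) ∧
        ∀ (σ' : OT →+* AdicCompletion (maximalIdeal OS) OS),
          (∀ r : R, σ' (algebraMap B OT (algebraMap R B r)) =
            algebraMap OS (AdicCompletion (maximalIdeal OS) OS) (algebraMap R OS r)) →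
          (∃ τ₀' : B' →+* AdicCompletion (maximalIdeal OS) OS,
            ∀ b : B, τ₀' (algebraMap B B' b) = σ' (algebraMap B OT b)) →
          ∀ a : OT, σ a - σ' a ∈ (maximalIdeal OS ^ N).map
            (algebraMap OS (AdicCompletion (maximalIdeal OS) OS)) := by
  classical
  -- notation
  let Ô := AdicCompletion (maximalIdeal OS) OS
  let can : R →+* AdicCompletion (maximalIdeal OS) OS :=
    (algebraMap OS (AdicCompletion (maximalIdeal OS) OS)).comp (algebraMap R OS)
  let ι : B →+* AdicCompletion (maximalIdeal OS) OS := σ.comp (algebraMap B OT)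
  have hι : ∀ r : R, ι (algebraMap R B r) = can r := hσ
  have hmfg : (maximalIdeal OS).FG := (isNoetherianRing_iff_ideal_fg OS).mp inferInstance _
  let Mn : Ideal (AdicCompletion (maximalIdeal OS) OS) :=
    (maximalIdeal OS ^ N).map (algebraMap OS (AdicCompletion (maximalIdeal OS) OS))
  -- presentation of `B`
  obtain ⟨n, f, hf⟩ := Algebra.FiniteType.iff_quotient_mvPolynomial''.mp
    (inferInstance : Algebra.FiniteType R B)
  let x : Fin n → B := fun i => f (MvPolynomial.X i)
  let b : Fin n → AdicCompletion (maximalIdeal OS) OS := fun i => ι (x i)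
  -- generators of `𝔭 ^ N`
  obtain ⟨l, μ, hμ⟩ := (Submodule.fg_iff_exists_fin_generating_family).mp
    (IsNoetherian.noetherian (𝔭 ^ N))
  have hMn : Mn = Ideal.span (Set.range (fun j => can (μ j))) := by
    change Ideal.map _ (maximalIdeal OS ^ N) = _
    have hm : maximalIdeal OS ^ N = (𝔭 ^ N).map (algebraMap R OS) := by
      rw [Ideal.map_pow, IsLocalization.AtPrime.map_eq_maximalIdeal 𝔭 OS]
    have h1 : 𝔭 ^ N = Ideal.span (Set.range μ) := hμ.symm
    rw [hm, Ideal.map_map, h1, Ideal.map_span, ← Set.range_comp]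
    rfl
  -- approximations
  have happ : ∀ i, ∃ a : OS, b i - algebraMap OS (AdicCompletion (maximalIdeal OS) OS) a ∈ Mn := by
    intro i
    obtain ⟨a, ha⟩ := Ideal.Quotient.mk_surjective
      (AdicCompletion.evalₐ (maximalIdeal OS) N (b i))
    refine ⟨a, ?_⟩
    apply mem_map_pow_of_evalₐ_eq_zero (maximalIdeal OS) hmfg
    rw [map_sub, sub_eq_zero, ← ha]
    exact (AdicCompletion.evalₐ_of (maximalIdeal OS) N a).symm
  choose a ha using happ
  have hc : ∀ i, ∃ c : Fin l → AdicCompletion (maximalIdeal OS) OS,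
      ∑ j, c j * can (μ j) = b i - algebraMap OS (AdicCompletion (maximalIdeal OS) OS) (a i) := by
    intro i
    have h1 := ha i
    rw [hMn] at h1
    exact (Ideal.mem_span_range_iff_exists_fun).mp h1
  choose c hc using hc
  have hfrac : ∀ i, ∃ (ru : R × 𝔭.primeCompl), a i * algebraMap R OS ru.2 = algebraMap R OS ru.1 :=
    fun i => IsLocalization.surj 𝔭.primeCompl (a i)
  choose ru hru using hfrac
  let r : Fin n → R := fun i => (ru i).1
  let u : Fin n → R := fun i => ((ru i).2 : R)
  have hu : ∀ i, u i ∉ 𝔭 := fun i => (ru i).2.2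
  have hru' : ∀ i, a i * algebraMap R OS (u i) = algebraMap R OS (r i) := hru
  have hunit : ∀ i, IsUnit (can (u i)) := by
    intro i
    have h1 : IsUnit (algebraMap R OS (u i)) :=
      IsLocalization.map_units OS (⟨u i, hu i⟩ : 𝔭.primeCompl)
    exact h1.map (algebraMap OS (AdicCompletion (maximalIdeal OS) OS))
  -- key identity for `σ`
  have hkey : ∀ i, can (u i) * b i - can (r i) = ∑ j, can (μ j) * (can (u i) * c i j) := by
    intro i
    have h1 : b i = algebraMap OS (AdicCompletion (maximalIdeal OS) OS) (a i) +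
        ∑ j, c i j * can (μ j) := by rw [hc i]; ring
    have h2 : can (r i) = algebraMap OS (AdicCompletion (maximalIdeal OS) OS) (a i) * can (u i) := by
      change algebraMap OS _ (algebraMap R OS (r i)) = _ * algebraMap OS _ (algebraMap R OS (u i))
      rw [← hru' i, map_mul]
    rw [h1, h2, mul_add, Finset.mul_sum]
    have h3 : ∀ j, can (u i) * (c i j * can (μ j)) = can (μ j) * (can (u i) * c i j) := by
      intro j; ring
    simp only [h3]
    ring
  -- the refinement
  let rel : Fin n → MvPolynomial (Fin n × Fin l) B := fun i =>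
    MvPolynomial.C (algebraMap R B (u i) * x i - algebraMap R B (r i)) -
      ∑ j, MvPolynomial.C (algebraMap R B (μ j)) * MvPolynomial.X (i, j)
  let K : Ideal (MvPolynomial (Fin n × Fin l) B) := Ideal.span (Set.range rel)
  let ev : MvPolynomial (Fin n × Fin l) B →+* AdicCompletion (maximalIdeal OS) OS :=
    MvPolynomial.eval₂Hom ι (fun ij => can (u ij.1) * c ij.1 ij.2)
  have hev : ∀ z ∈ K, ev z = 0 := by
    intro z hz
    have hK : K ≤ RingHom.ker ev := by
      rw [Ideal.span_le]
      rintro _ ⟨i, rfl⟩
      rw [SetLike.mem_coe, RingHom.mem_ker]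
      change ev (MvPolynomial.C (algebraMap R B (u i) * x i - algebraMap R B (r i)) -
        ∑ j, MvPolynomial.C (algebraMap R B (μ j)) * MvPolynomial.X (i, j)) = 0
      rw [map_sub, map_sum]
      have h1 : ev (MvPolynomial.C (algebraMap R B (u i) * x i - algebraMap R B (r i))) =
          can (u i) * b i - can (r i) := by
        change MvPolynomial.eval₂Hom ι _ (MvPolynomial.C _) = _
        rw [MvPolynomial.eval₂Hom_C, map_sub, map_mul, hι, hι]
      have h2 : ∀ j, ev (MvPolynomial.C (algebraMap R B (μ j)) * MvPolynomial.X (i, j)) =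
          can (μ j) * (can (u i) * c i j) := by
        intro j
        rw [map_mul]
        change MvPolynomial.eval₂Hom ι _ (MvPolynomial.C _) *
          MvPolynomial.eval₂Hom ι _ (MvPolynomial.X _) = _
        rw [MvPolynomial.eval₂Hom_C, MvPolynomial.eval₂Hom_X', hι]
      rw [h1, Finset.sum_congr rfl (fun j _ => h2 j), hkey i, sub_self]
    exact hK hz
  let τ₀ : (MvPolynomial (Fin n × Fin l) B ⧸ K) →+* AdicCompletion (maximalIdeal OS) OS :=
    Ideal.Quotient.lift K ev hev
  have hτ₀ : ∀ b' : B, τ₀ (algebraMap B (MvPolynomial (Fin n × Fin l) B ⧸ K) b') = ι b' := by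
    intro b'
    change Ideal.Quotient.lift K ev hev (Ideal.Quotient.mk K (MvPolynomial.C b')) = _
    rw [Ideal.Quotient.lift_mk]
    exact MvPolynomial.eval₂Hom_C _ _ _
  refine ⟨MvPolynomial (Fin n × Fin l) B ⧸ K, inferInstance, inferInstance, ?_, τ₀, hτ₀, ?_, ?_⟩
  · exact Algebra.FiniteType.of_surjective (Ideal.Quotient.mkₐ B K) Ideal.Quotient.mk_surjective
  · -- the prime
    ext b'
    rw [Ideal.mem_comap, Ideal.mem_comap, hτ₀]
    change σ (algebraMap B OT b') ∈ _ ↔ _
    constructor
    · intro h
      by_contra hb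
      have h1 : IsUnit (algebraMap B OT b') :=
        IsLocalization.map_units OT (⟨b', hb⟩ : 𝔮.primeCompl)
      exact (IsLocalRing.mem_maximalIdeal _).mp h (h1.map σ)
    · intro hb
      have h1 : algebraMap B OT b' ∈ maximalIdeal OT :=
        (IsLocalization.AtPrime.to_map_mem_maximal_iff OT 𝔮 b').mpr hb
      have h2 := hloc _ h1
      rw [AdicCompletion.maximalIdeal_eq_map]
      exact h2
  · -- control
    intro σ' hσ' ⟨τ₀', hτ₀'⟩
    let ι' : B →+* AdicCompletion (maximalIdeal OS) OS := σ'.comp (algebraMap B OT)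
    have hι' : ∀ r : R, ι' (algebraMap R B r) = can r := hσ'
    have hkey' : ∀ i, can (u i) * ι' (x i) - can (r i) =
        ∑ j, can (μ j) * τ₀' (Ideal.Quotient.mk K (MvPolynomial.X (i, j))) := by
      intro i
      have h0 : Ideal.Quotient.mk K (rel i) = 0 :=
        Ideal.Quotient.eq_zero_iff_mem.mpr (Ideal.subset_span ⟨i, rfl⟩)
      have h1 := congrArg τ₀' h0
      rw [map_zero] at h1
      change τ₀' (Ideal.Quotient.mk K (MvPolynomial.C (algebraMap R B (u i) * x i -
        algebraMap R B (r i)) - ∑ j, MvPolynomial.C (algebraMap R B (μ j)) *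
          MvPolynomial.X (i, j))) = 0 at h1
      rw [map_sub, map_sub, map_sum, map_sum] at h1
      have h2 : τ₀' (Ideal.Quotient.mk K (MvPolynomial.C (algebraMap R B (u i) * x i -
          algebraMap R B (r i)))) = can (u i) * ι' (x i) - can (r i) := by
        have := hτ₀' (algebraMap R B (u i) * x i - algebraMap R B (r i))
        change τ₀' (Ideal.Quotient.mk K (MvPolynomial.C _)) = _ at this
        rw [this]
        change ι' _ = _
        rw [map_sub, map_mul, hι', hι']
      have h3 : ∀ j, τ₀' (Ideal.Quotient.mk K (MvPolynomial.C (algebraMap R B (μ j)) *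
          MvPolynomial.X (i, j))) =
          can (μ j) * τ₀' (Ideal.Quotient.mk K (MvPolynomial.X (i, j))) := by
        intro j
        rw [map_mul, map_mul]
        have := hτ₀' (algebraMap R B (μ j))
        change τ₀' (Ideal.Quotient.mk K (MvPolynomial.C _)) = _ at this
        rw [this]
        change ι' _ * _ = _
        rw [hι']
      rw [h2, Finset.sum_congr rfl (fun j _ => h3 j), sub_eq_zero] at h1
      exact h1
    have hx : ∀ i, b i - ι' (x i) ∈ Mn := by
      intro i
      have h1 : can (u i) * (b i - ι' (x i)) =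
          ∑ j, can (μ j) * (can (u i) * c i j -
            τ₀' (Ideal.Quotient.mk K (MvPolynomial.X (i, j)))) := by
        have e1 := hkey i
        have e2 := hkey' i
        have : can (u i) * (b i - ι' (x i)) =
            (can (u i) * b i - can (r i)) - (can (u i) * ι' (x i) - can (r i)) := by ring
        rw [this, e1, e2, ← Finset.sum_sub_distrib]
        apply Finset.sum_congr rfl
        intro j _
        ring
      have h2 : can (u i) * (b i - ι' (x i)) ∈ Mn := by
        rw [h1, hMn]
        refine Ideal.sum_mem _ (fun j _ => ?_)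
        exact Ideal.mul_mem_right _ _ (Ideal.subset_span ⟨j, rfl⟩)
      exact (Ideal.unit_mul_mem_iff_mem Mn (hunit i)).mp h2
    -- agreement modulo `Mn`
    have hpoly : ((Ideal.Quotient.mk Mn).comp ι).comp f.toRingHom =
        ((Ideal.Quotient.mk Mn).comp ι').comp f.toRingHom := by
      apply MvPolynomial.ringHom_ext
      · intro r'
        simp only [RingHom.comp_apply, AlgHom.toRingHom_eq_coe, RingHom.coe_coe]
        rw [← MvPolynomial.algebraMap_eq, AlgHom.commutes, hι, hι']
      · intro i
        simp only [RingHom.comp_apply, AlgHom.toRingHom_eq_coe, RingHom.coe_coe]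
        exact Ideal.Quotient.eq.mpr (hx i)
    have hB : (Ideal.Quotient.mk Mn).comp ι = (Ideal.Quotient.mk Mn).comp ι' := by
      apply RingHom.ext
      intro b'
      obtain ⟨P, rfl⟩ := hf b'
      exact DFunLike.congr_fun hpoly P
    have hOT : (Ideal.Quotient.mk Mn).comp σ = (Ideal.Quotient.mk Mn).comp σ' := by
      apply IsLocalization.ringHom_ext 𝔮.primeCompl (S := OT)
      exact hB
    intro a'
    exact Ideal.Quotient.eq.mp (DFunLike.congr_fun hOT a')

end Groth.Agent.Lib.Helper20.Refine
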