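import Mathlib
import Groth.Agent.Lib.Helper20.Refine

/-!
# Scheme form of S7201 (chart lemmas copied from `Helper8.AA11`)
-/

set_option backward.isDefEq.respectTransparency.types false
set_option autoImplicit false
set_option linter.unusedSectionVars false
set_option linter.style.haveILetI false

open AlgebraicGeometry CategoryTheory Limits

namespace Groth.Agent.Lib.Helper20.RefineSch

universe u

/-- (copied from `Helper8.AA11`) -/
theorem appLE_chart {Z : Scheme.{u}} {V : Z.Opens} (hV : IsAffineOpen V) {A' : CommRingCat.{u}}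
    (β : Γ(Z, V) ⟶ A') (h : ⊤ ≤ (Spec.map β ≫ hV.fromSpec) ⁻¹ᵁ V) :
    (Spec.map β ≫ hV.fromSpec).appLE V ⊤ h = β ≫ (Scheme.ΓSpecIso A').inv := by
  rw [Scheme.Hom.comp_appLE, hV.fromSpec_app_self, Category.assoc, Scheme.Hom.map_appLE,
    Scheme.ΓSpecIso_inv_naturality, Scheme.Hom.appTop, Scheme.Hom.app_eq_appLE]
  rfl

/-- (copied from `Helper8.AA11`) Stalk map of a chart-morphism on germs of sections. -/
theorem stalkMap_germ_chart {Z : Scheme.{u}} {V : Z.Opens} (hV : IsAffineOpen V)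
    {A' : CommRingCat.{u}} (β : Γ(Z, V) ⟶ A') (u : Spec A')
    (hz : (Spec.map β ≫ hV.fromSpec) u ∈ V) (a : Γ(Z, V)) :
    ((Spec.map β ≫ hV.fromSpec).stalkMap u).hom (Z.presheaf.germ V _ hz a) =
      (StructureSheaf.toStalk A' u).hom (β.hom a) := by
  have hle : ⊤ ≤ (Spec.map β ≫ hV.fromSpec) ⁻¹ᵁ V := by
    intro w _
    change (Spec.map β ≫ hV.fromSpec) w ∈ V
    rw [Scheme.Hom.comp_apply]
    have h2 : hV.fromSpec ((Spec.map β) w) ∈ Set.range hV.fromSpec := Set.mem_range_self _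
    rw [hV.range_fromSpec] at h2
    exact h2
  have h1 := appLE_chart hV β hle
  rw [Scheme.Hom.germ_stalkMap_apply]
  have h2 : (Spec A').presheaf.germ ((Spec.map β ≫ hV.fromSpec) ⁻¹ᵁ V) u hz
      ((Spec.map β ≫ hV.fromSpec).app V a) =
      (Spec A').presheaf.germ ⊤ u trivial
        (((Spec.map β ≫ hV.fromSpec).appLE V ⊤ hle).hom a) :=
    ((Spec A').presheaf.germ_res_apply (homOfLE hle) u trivial _).symm
  rw [h2, h1]
  rfl

/-- (copied from `Helper8.AA11`) -/
theorem germ_appLE {X S : Scheme.{u}} (p : X ⟶ S) (W : S.Opens) (V : X.Opens)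
    (hVW : V ≤ p ⁻¹ᵁ W) (x : X) (hxV : x ∈ V) (r : Γ(S, W)) :
    (X.presheaf.germ V x hxV).hom ((p.appLE W V hVW).hom r) =
      (p.stalkMap x).hom ((S.presheaf.germ W (p x) (hVW hxV)).hom r) := by
  have h1 := Scheme.Hom.germ_stalkMap_apply p W x (hVW hxV) r
  have h2 := X.presheaf.germ_res_apply (homOfLE hVW) x hxV (p.app W r)
  exact h2.trans h1.symm

open IsLocalRing in
set_option maxHeartbeats 1600000 in
theorem main7201 {T S : Scheme.{u}} [IsNoetherian T] [IsNoetherian S]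
    (h : T ⟶ S) [LocallyOfFiniteType h] [QuasiCompact h] (t : T)
    (σ : ↑(T.presheaf.stalk t) →+* (AdicCompletion (IsLocalRing.maximalIdeal ↑(S.presheaf.stalk (h t))) ↑(S.presheaf.stalk (h t))))
    (hσ : σ.comp (h.stalkMap t).hom = algebraMap ↑(S.presheaf.stalk (h t)) (AdicCompletion (IsLocalRing.maximalIdeal ↑(S.presheaf.stalk (h t))) ↑(S.presheaf.stalk (h t))))
    (hloc : ∀ a ∈ IsLocalRing.maximalIdeal ↑(T.presheaf.stalk t),
      σ a ∈ (IsLocalRing.maximalIdeal ↑(S.presheaf.stalk (h t))).map (algebraMap ↑(S.presheaf.stalk (h t)) (AdicCompletion (IsLocalRing.maximalIdeal ↑(S.presheaf.stalk (h t))) ↑(S.presheaf.stalk (h t)))))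
    (N : ℕ) :
    ∃ (T' : Scheme.{u}) (g : T' ⟶ T) (t' : T') (hg : g t' = t) (τ : ↑(T'.presheaf.stalk t') →+* (AdicCompletion (IsLocalRing.maximalIdeal ↑(S.presheaf.stalk (h t))) ↑(S.presheaf.stalk (h t)))),
      LocallyOfFiniteType g ∧ QuasiCompact g ∧
      τ.comp ((g.stalkMap t').hom.comp (T.presheaf.stalkCongr (Inseparable.of_eq hg)).inv.hom) = σ ∧
      ∀ (σ' : ↑(T.presheaf.stalk t) →+* (AdicCompletion (IsLocalRing.maximalIdeal ↑(S.presheaf.stalk (h t))) ↑(S.presheaf.stalk (h t)))),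
        σ'.comp (h.stalkMap t).hom = algebraMap ↑(S.presheaf.stalk (h t)) (AdicCompletion (IsLocalRing.maximalIdeal ↑(S.presheaf.stalk (h t))) ↑(S.presheaf.stalk (h t))) →
        (∃ τ' : ↑(T'.presheaf.stalk t') →+* (AdicCompletion (IsLocalRing.maximalIdeal ↑(S.presheaf.stalk (h t))) ↑(S.presheaf.stalk (h t))),
          τ'.comp ((g.stalkMap t').hom.comp (T.presheaf.stalkCongr (Inseparable.of_eq hg)).inv.hom) = σ') →
        ∀ a : ↑(T.presheaf.stalk t), σ a - σ' a ∈ (IsLocalRing.maximalIdeal ↑(S.presheaf.stalk (h t)) ^ N).map (algebraMap ↑(S.presheaf.stalk (h t)) (AdicCompletion (IsLocalRing.maximalIdeal ↑(S.presheaf.stalk (h t))) ↑(S.presheaf.stalk (h t)))) := by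
  -- affine charts
  obtain ⟨W, hW, hsW, -⟩ := TopologicalSpace.Opens.isBasis_iff_nbhd.mp S.isBasis_affineOpens
    (show h t ∈ (⊤ : S.Opens) from trivial)
  obtain ⟨V, hV, htV, hVW⟩ := TopologicalSpace.Opens.isBasis_iff_nbhd.mp T.isBasis_affineOpens
    (show t ∈ h ⁻¹ᵁ W from hsW)
  letI algRB : Algebra Γ(S, W) Γ(T, V) := (h.appLE W V hVW).hom.toAlgebra
  haveI : IsNoetherianRing Γ(S, W) := IsLocallyNoetherian.component_noetherian ⟨W, hW⟩
  haveI ftB : Algebra.FiniteType Γ(S, W) Γ(T, V) :=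
    HasRingHomProperty.appLE (P := @LocallyOfFiniteType) h inferInstance ⟨W, hW⟩ ⟨V, hV⟩ hVW
  letI algOT : Algebra Γ(T, V) (T.presheaf.stalk t) :=
    TopCat.Presheaf.algebra_section_stalk T.presheaf ⟨t, htV⟩
  letI algOS : Algebra Γ(S, W) (S.presheaf.stalk (h t)) :=
    TopCat.Presheaf.algebra_section_stalk S.presheaf ⟨h t, hsW⟩
  haveI locT := hV.isLocalization_stalk ⟨t, htV⟩
  haveI locS := hW.isLocalization_stalk ⟨h t, hsW⟩
  haveI : IsNoetherianRing (S.presheaf.stalk (h t)) :=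
    IsLocalization.isNoetherianRing (hW.primeIdealOf ⟨h t, hsW⟩).asIdeal.primeCompl _ inferInstance
  have hσ' : ∀ r : Γ(S, W), σ (algebraMap Γ(T, V) (T.presheaf.stalk t)
      (algebraMap Γ(S, W) Γ(T, V) r)) =
      algebraMap (S.presheaf.stalk (h t)) (AdicCompletion (maximalIdeal (S.presheaf.stalk (h t)))
        (S.presheaf.stalk (h t))) (algebraMap Γ(S, W) (S.presheaf.stalk (h t)) r) := by
    intro r
    have h1 := DFunLike.congr_fun hσ ((S.presheaf.germ W (h t) hsW).hom r)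
    rw [RingHom.comp_apply] at h1
    change σ ((T.presheaf.germ V t htV).hom ((h.appLE W V hVW).hom r)) = _
    rw [germ_appLE h W V hVW t htV r]
    exact h1
  obtain ⟨B', _, _, hft, τ₀, hτ₀, hcomap, hctl⟩ :=
    Groth.Agent.Lib.Helper20.Refine.alg7201 (R := Γ(S, W)) (B := Γ(T, V))
      (hW.primeIdealOf ⟨h t, hsW⟩).asIdeal (hV.primeIdealOf ⟨t, htV⟩).asIdeal
      (S.presheaf.stalk (h t)) (T.presheaf.stalk t) σ hσ' hloc N
  let β : Γ(T, V) ⟶ CommRingCat.of B' := CommRingCat.ofHom (algebraMap Γ(T, V) B')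
  let g : Spec (CommRingCat.of B') ⟶ T := Spec.map β ≫ hV.fromSpec
  let 𝔮' : Ideal B' := (maximalIdeal (AdicCompletion (maximalIdeal (S.presheaf.stalk (h t)))
    (S.presheaf.stalk (h t)))).comap τ₀
  haveI h𝔮' : 𝔮'.IsPrime := Ideal.comap_isPrime τ₀ _
  let t' : Spec (CommRingCat.of B') := ⟨𝔮', h𝔮'⟩
  have hg : g t' = t := by
    change hV.fromSpec (Spec.map β t') = t
    have : Spec.map β t' = hV.primeIdealOf ⟨t, htV⟩ := PrimeSpectrum.ext hcomap
    rw [this]
    exact hV.fromSpec_primeIdealOf ⟨t, htV⟩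
  letI algOU : Algebra B' ((Spec (CommRingCat.of B')).presheaf.stalk t') :=
    (StructureSheaf.toStalk B' t').hom.toAlgebra
  haveI locU : IsLocalization.AtPrime ((Spec (CommRingCat.of B')).presheaf.stalk t') 𝔮' :=
    StructureSheaf.IsLocalization.to_stalk (R := B') t'
  have hunits : ∀ y : 𝔮'.primeCompl, IsUnit (τ₀ y) := by
    intro y
    by_contra hy
    exact y.2 ((IsLocalRing.mem_maximalIdeal _).mpr hy)
  let τ : ((Spec (CommRingCat.of B')).presheaf.stalk t') →+*
      AdicCompletion (maximalIdeal (S.presheaf.stalk (h t))) (S.presheaf.stalk (h t)) :=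
    IsLocalization.lift (M := 𝔮'.primeCompl) hunits
  have hτ : ∀ b' : B', τ (algebraMap B' ((Spec (CommRingCat.of B')).presheaf.stalk t') b') = τ₀ b' :=
    fun b' => IsLocalization.lift_eq hunits b'
  have hzT : g t' ∈ V := by
    rw [hg]
    exact htV
  have he' : ∀ a : Γ(T, V), ((g.stalkMap t').hom.comp
      (T.presheaf.stalkCongr (Inseparable.of_eq hg)).inv.hom)
      (algebraMap Γ(T, V) (T.presheaf.stalk t) a) =
      algebraMap B' ((Spec (CommRingCat.of B')).presheaf.stalk t')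
        (algebraMap Γ(T, V) B' a) := by
    intro a
    rw [RingHom.comp_apply]
    have h2 : (T.presheaf.stalkCongr (Inseparable.of_eq hg)).inv.hom
        ((T.presheaf.germ V t htV).hom a) = (T.presheaf.germ V (g t') hzT).hom a :=
      TopCat.Presheaf.germ_stalkSpecializes_apply T.presheaf htV
        (Inseparable.of_eq hg).le a
    change (g.stalkMap t').hom ((T.presheaf.stalkCongr (Inseparable.of_eq hg)).inv.hom
        ((T.presheaf.germ V t htV).hom a)) = _
    rw [h2]
    exact stalkMap_germ_chart hV β t' hzT a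
  refine ⟨Spec (CommRingCat.of B'), g, t', hg, τ, ?_, ?_, ?_, ?_⟩
  · haveI : LocallyOfFiniteType (Spec.map β) := by
      rw [HasRingHomProperty.Spec_iff (P := @LocallyOfFiniteType)]
      exact RingHom.finiteType_algebraMap.mpr hft
    infer_instance
  · infer_instance
  · apply IsLocalization.ringHom_ext (hV.primeIdealOf ⟨t, htV⟩).asIdeal.primeCompl
      (S := T.presheaf.stalk t)
    apply RingHom.ext
    intro a
    rw [RingHom.comp_apply, RingHom.comp_apply, he', hτ, hτ₀]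
    rfl
  · intro σ' hσ'1 ⟨τ', hτ'⟩
    have hσ'' : ∀ r : Γ(S, W), σ' (algebraMap Γ(T, V) (T.presheaf.stalk t)
        (algebraMap Γ(S, W) Γ(T, V) r)) =
        algebraMap (S.presheaf.stalk (h t)) (AdicCompletion (maximalIdeal (S.presheaf.stalk (h t)))
          (S.presheaf.stalk (h t))) (algebraMap Γ(S, W) (S.presheaf.stalk (h t)) r) := by
      intro r
      have h1 := DFunLike.congr_fun hσ'1 ((S.presheaf.germ W (h t) hsW).hom r)
      rw [RingHom.comp_apply] at h1
      change σ' ((T.presheaf.germ V t htV).hom ((h.appLE W V hVW).hom r)) = _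
      rw [germ_appLE h W V hVW t htV r]
      exact h1
    refine hctl σ' hσ'' ⟨τ'.comp (algebraMap B' ((Spec (CommRingCat.of B')).presheaf.stalk t')), ?_⟩
    intro b
    rw [RingHom.comp_apply, ← he']
    exact DFunLike.congr_fun hτ' _

end Groth.Agent.Lib.Helper20.RefineSch
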