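import Mathlib

/-!
# Centralizers of regular (non-derogatory) matrices (helper20)
-/

set_option autoImplicit false

namespace Groth.Agent.Lib.Helper20.RegCentralizer

universe u

open Matrix

section ring

variable {B : Type*} [CommRing B] {n : ℕ}

/-- the matrix with columns `w, g w, …, g^{n-1} w` -/
def krylov (g : Matrix (Fin n) (Fin n) B) (w : Fin n → B) : Matrix (Fin n) (Fin n) B :=
  Matrix.of fun a i => (g ^ (i : ℕ) *ᵥ w) a

theorem mul_krylov_of_commute (g z : Matrix (Fin n) (Fin n) B) (w : Fin n → B)
    (hz : z * g = g * z) (a i : Fin n) :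
    (z * krylov g w) a i = (g ^ (i : ℕ) *ᵥ (z *ᵥ w)) a := by
  have hc : Commute z (g ^ (i : ℕ)) := (show Commute z g from hz).pow_right _
  have h1 : (z * krylov g w) a i = (z *ᵥ (g ^ (i : ℕ) *ᵥ w)) a := by
    rw [Matrix.mul_apply]
    rfl
  rw [h1, Matrix.mulVec_mulVec, Matrix.mulVec_mulVec, hc.eq]

theorem krylov_mulVec (g : Matrix (Fin n) (Fin n) B) (w c : Fin n → B) :
    krylov g w *ᵥ c = (∑ k : Fin n, c k • g ^ (k : ℕ)) *ᵥ w := by
  funext a
  rw [Matrix.sum_mulVec]
  simp only [Matrix.mulVec, dotProduct, krylov, Matrix.of_apply, Finset.sum_apply,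
    Matrix.smul_apply, smul_eq_mul]
  apply Finset.sum_congr rfl
  intro k _
  rw [Finset.sum_mul]
  apply Finset.sum_congr rfl
  intro b _
  ring

/-- if `g` has a cyclic vector then anything commuting with `g` is a polynomial in `g` -/
theorem eq_sum_smul_pow_of_commute (g z : Matrix (Fin n) (Fin n) B) (w : Fin n → B)
    (hw : IsUnit (krylov g w).det) (hz : z * g = g * z) :
    ∃ c : Fin n → B, z = ∑ k : Fin n, c k • g ^ (k : ℕ) := by
  have hP : IsUnit (krylov g w) := (Matrix.isUnit_iff_isUnit_det _).mpr hw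
  let c : Fin n → B := (krylov g w)⁻¹ *ᵥ (z *ᵥ w)
  have hc : krylov g w *ᵥ c = z *ᵥ w := by
    show krylov g w *ᵥ ((krylov g w)⁻¹ *ᵥ (z *ᵥ w)) = z *ᵥ w
    rw [Matrix.mulVec_mulVec, Matrix.mul_nonsing_inv _ hw, Matrix.one_mulVec]
  refine ⟨c, ?_⟩
  set y : Matrix (Fin n) (Fin n) B := ∑ k : Fin n, c k • g ^ (k : ℕ) with hy
  have hyw : y *ᵥ w = z *ᵥ w := by rw [hy, ← krylov_mulVec, hc]
  have hyg : y * g = g * y := by
    rw [hy, Finset.sum_mul, Finset.mul_sum]
    apply Finset.sum_congr rfl
    intro k _
    rw [Matrix.smul_mul, Matrix.mul_smul, ← pow_succ, ← pow_succ']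
  have hzP : z * krylov g w = y * krylov g w := by
    ext a i
    rw [mul_krylov_of_commute g z w hz, mul_krylov_of_commute g y w hyg, hyw]
  exact hP.mul_left_injective hzP

theorem mul_comm_of_commute_of_cyclic (g x y : Matrix (Fin n) (Fin n) B) (w : Fin n → B)
    (hw : IsUnit (krylov g w).det) (hx : x * g = g * x) (hy : y * g = g * y) :
    x * y = y * x := by
  obtain ⟨c, rfl⟩ := eq_sum_smul_pow_of_commute g x w hw hx
  obtain ⟨d, rfl⟩ := eq_sum_smul_pow_of_commute g y w hw hy
  rw [Finset.sum_mul_sum, Finset.sum_mul_sum, Finset.sum_comm]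
  apply Finset.sum_congr rfl
  intro k _
  apply Finset.sum_congr rfl
  intro l _
  rw [Matrix.smul_mul, Matrix.mul_smul, Matrix.smul_mul, Matrix.mul_smul, smul_comm,
    ← pow_add, ← pow_add, add_comm]

end ring

section core

open Polynomial

variable {K : Type u} [Field K]

/-- CRT: for pairwise coprime `q i` every element of `∏ K[X]/(q i)` is the class of a polynomial -/
theorem exists_mk_eq_of_pairwise_isCoprime {ι : Type*} [Finite ι] (q : ι → K[X])
    (hq : Pairwise (fun i j => IsCoprime (q i) (q j)))
    (s : ∀ i, K[X] ⧸ Ideal.span {q i}) :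
    ∃ r : K[X], s = fun i => Ideal.Quotient.mk (Ideal.span {q i}) r := by
  have hI : Pairwise (Function.onFun IsCoprime fun i => Ideal.span ({q i} : Set K[X])) := by
    intro i j hij
    exact (Ideal.isCoprime_span_singleton_iff _ _).mpr (hq hij)
  obtain ⟨t, ht⟩ := Ideal.quotientInfToPiQuotient_surj hI s
  obtain ⟨r, rfl⟩ := Ideal.Quotient.mk_surjective t
  exact ⟨r, ht.symm⟩

/-- a nonzero map between quotients by non-coprime polynomials -/
theorem exists_linearMap_ne_zero_of_not_isCoprime (a b : K[X]) (hb : b ≠ 0)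
    (hab : ¬ IsCoprime a b) :
    ∃ ψ : (K[X] ⧸ Ideal.span {a}) →ₗ[K[X]] (K[X] ⧸ Ideal.span {b}), ψ 1 ≠ 0 := by
  -- a common non-unit divisor
  have hne : Ideal.span ({a} : Set K[X]) ⊔ Ideal.span {b} ≠ ⊤ := by
    intro h
    apply hab
    rw [← Ideal.isCoprime_span_singleton_iff, Ideal.isCoprime_iff_sup_eq]
    exact h
  obtain ⟨d, hd⟩ := (IsPrincipalIdealRing.principal
    (Ideal.span ({a} : Set K[X]) ⊔ Ideal.span {b})).principal
  have hd' : Ideal.span ({a} : Set K[X]) ⊔ Ideal.span {b} = Ideal.span {d} := hd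
  have hda : d ∣ a := by
    rw [← Ideal.mem_span_singleton, ← hd']
    exact Ideal.mem_sup_left (Ideal.mem_span_singleton_self a)
  have hdb : d ∣ b := by
    rw [← Ideal.mem_span_singleton, ← hd']
    exact Ideal.mem_sup_right (Ideal.mem_span_singleton_self b)
  have hdu : ¬ IsUnit d := by
    intro hu
    apply hne
    rw [hd', Ideal.span_singleton_eq_top]
    exact hu
  obtain ⟨a', ha'⟩ := hda
  obtain ⟨b', hb'⟩ := hdb
  have hb'0 : b' ≠ 0 := by
    rintro rfl
    rw [mul_zero] at hb'
    exact hb hb'
  -- multiplication by b'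
  have hle : Ideal.span ({a} : Set K[X]) ≤
      LinearMap.ker ((Submodule.mkQ (Ideal.span ({b} : Set K[X]))).comp
        (LinearMap.mulRight K[X] b')) := by
    rw [Ideal.span_le]
    intro x hx
    rw [Set.mem_singleton_iff] at hx
    rw [SetLike.mem_coe, LinearMap.mem_ker, LinearMap.comp_apply, LinearMap.mulRight_apply,
      Submodule.mkQ_apply, Submodule.Quotient.mk_eq_zero, hx, Ideal.mem_span_singleton]
    exact ⟨a', by rw [ha', hb']; ring⟩
  refine ⟨Submodule.liftQ _ _ hle, ?_⟩
  have h1 : (1 : K[X] ⧸ Ideal.span {a}) = Submodule.Quotient.mk 1 := rfl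
  rw [h1, Submodule.liftQ_apply, LinearMap.comp_apply, LinearMap.mulRight_apply, one_mul,
    Submodule.mkQ_apply]
  intro h0
  rw [Submodule.Quotient.mk_eq_zero, Ideal.mem_span_singleton] at h0
  obtain ⟨t, ht⟩ := h0
  apply hdu
  rw [hb'] at ht
  have : b' * (d * t - 1) = 0 := by
    rw [mul_sub, mul_one, sub_eq_zero]
    calc b' * (d * t) = d * b' * t := by ring
      _ = b' := ht.symm
  rcases mul_eq_zero.mp this with h | h
  · exact absurd h hb'0
  · exact IsUnit.of_mul_eq_one t (sub_eq_zero.mp h)

end core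

section core2

open Polynomial

variable {K : Type u} [Field K]

theorem exists_cyclic_or_exists_injective (V : Type u) [AddCommGroup V] [Module K V]
    [FiniteDimensional K V] (f : V →ₗ[K] V) :
    (∃ w : V, ∀ v : V, ∃ r : K[X], v = aeval f r w) ∨
    (∃ T : (V × K) →ₗ[K] Module.End K V, Function.Injective T ∧ ∀ z, T z * f = f * T z) := by
  classical
  have htors : Module.IsTorsion K[X] (Module.AEval' f) := by
    intro m
    refine ⟨⟨f.charpoly, mem_nonZeroDivisors_of_ne_zero (LinearMap.charpoly_monic f).ne_zero⟩, ?_⟩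
    obtain ⟨v, rfl⟩ := (Module.AEval'.of f).surjective m
    show f.charpoly • Module.AEval'.of f v = 0
    rw [← Module.AEval.of_aeval_smul, LinearMap.aeval_self_charpoly, zero_smul, map_zero]
  obtain ⟨ι, _, p, hp, e, ⟨e₁⟩⟩ := Module.equiv_directSum_of_isTorsion htors
  let q : ι → K[X] := fun i => p i ^ e i
  have hq0 : ∀ i, q i ≠ 0 := fun i => pow_ne_zero _ (hp i).ne_zero
  let S := ∀ i, K[X] ⧸ Ideal.span {q i}
  let e₂ : (DirectSum ι fun i => K[X] ⧸ K[X] ∙ p i ^ e i) ≃ₗ[K[X]] S :=
    DirectSum.linearEquivFunOnFintype K[X] ι _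
  let E : V ≃ₗ[K] S := (Module.AEval'.of f).trans ((e₁.trans e₂).restrictScalars K)
  have hE : ∀ (r : K[X]) (v : V), E (aeval f r v) = r • E v := by
    intro r v
    show (e₁.trans e₂) (Module.AEval'.of f (aeval f r v)) = r • (e₁.trans e₂) (Module.AEval'.of f v)
    rw [← map_smul]
    rfl
  have hEs : ∀ (r : K[X]) (s : S), E.symm (r • s) = aeval f r (E.symm s) := by
    intro r s
    apply E.injective
    rw [hE, E.apply_symm_apply, E.apply_symm_apply]
  by_cases hcop : Pairwise (fun i j => IsCoprime (q i) (q j))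
  · left
    refine ⟨E.symm 1, fun v => ?_⟩
    obtain ⟨r, hr⟩ := exists_mk_eq_of_pairwise_isCoprime q hcop (E v)
    refine ⟨r, ?_⟩
    rw [← hEs]
    apply E.injective
    rw [E.apply_symm_apply, hr]
    funext i
    show Ideal.Quotient.mk _ r = r • (Submodule.Quotient.mk 1 : K[X] ⧸ Ideal.span {q i})
    rw [← Submodule.Quotient.mk_smul, smul_eq_mul, mul_one]
    rfl
  · right
    have hex : ∃ i j, i ≠ j ∧ ¬ IsCoprime (q i) (q j) := by
      by_contra hne
      apply hcop
      intro i j hij
      by_contra hc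
      exact hne ⟨i, j, hij, hc⟩
    obtain ⟨i, j, hij, hnc⟩ := hex
    obtain ⟨ψ, hψ⟩ := exists_linearMap_ne_zero_of_not_isCoprime (q i) (q j) (hq0 j) hnc
    let ψ' : S →ₗ[K[X]] S := (LinearMap.single K[X] _ j).comp (ψ.comp (LinearMap.proj i))
    let ψK : S →ₗ[K] S := ψ'.restrictScalars K
    let T : (V × K) →ₗ[K] Module.End K V :=
      { toFun := fun z => E.symm.toLinearMap ∘ₗ (LinearMap.mul K S (E z.1) + z.2 • ψK) ∘ₗ
          E.toLinearMap
        map_add' := by
          intro z z'
          ext u
          simp only [LinearMap.comp_apply, LinearMap.add_apply, LinearMap.smul_apply,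
            Prod.fst_add, Prod.snd_add, map_add, add_smul, LinearEquiv.coe_coe]
          abel
        map_smul' := by
          intro c z
          ext u
          simp only [LinearMap.comp_apply, LinearMap.add_apply, LinearMap.smul_apply,
            Prod.smul_fst, Prod.smul_snd, map_smul, LinearEquiv.coe_coe,
            RingHom.id_apply, smul_eq_mul, mul_smul]
          rw [← smul_add, map_smul] }
    have hTapp : ∀ (z : V × K) (u : V),
        T z u = E.symm (E z.1 * E u + z.2 • ψ' (E u)) := fun z u => rfl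
    refine ⟨T, ?_, ?_⟩
    · -- injectivity
      rw [← LinearMap.ker_eq_bot, LinearMap.ker_eq_bot']
      rintro ⟨v, c⟩ hz
      have hz' : ∀ t : S, E v * t + c • ψ' t = 0 := by
        intro t
        have := congrArg (fun h : Module.End K V => E (h (E.symm t))) hz
        simp only [hTapp, E.apply_symm_apply, LinearMap.zero_apply, map_zero] at this
        exact this
      have hψ'1 : ψ' 1 = Pi.single j (ψ 1) := rfl
      have hψ'i : ψ' (Pi.single i 1) = Pi.single j (ψ 1) := by
        show (Pi.single j (ψ ((Pi.single i (1 : K[X] ⧸ Ideal.span {q i}) : S) i)) : S) = _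
        rw [Pi.single_eq_same]
      have h1 := hz' 1
      rw [mul_one, hψ'1] at h1
      have h2 := hz' (Pi.single i 1)
      rw [hψ'i] at h2
      have hs : E v = -(c • Pi.single j (ψ 1)) := eq_neg_of_add_eq_zero_left h1
      have h3 : E v * Pi.single i 1 = 0 := by
        rw [hs]
        funext k
        show (-(c • (Pi.single j (ψ 1) : S))) k * (Pi.single i (1 : K[X] ⧸ Ideal.span {q i}) : S) k = 0
        by_cases hk : k = i
        · subst hk
          rw [Pi.neg_apply, Pi.smul_apply, Pi.single_eq_of_ne hij, smul_zero, neg_zero, zero_mul]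
        · rw [Pi.single_eq_of_ne hk, mul_zero]
      rw [h3, zero_add] at h2
      have h4 : c • ψ 1 = 0 := by
        have := congrFun h2 j
        rw [Pi.smul_apply, Pi.single_eq_same] at this
        exact this
      have hc : c = 0 := (smul_eq_zero.mp h4).resolve_right hψ
      have hv : v = 0 := by
        apply E.injective
        rw [hs, h2, neg_zero, map_zero]
      rw [hv, hc]
      rfl
    · -- commutation
      intro z
      ext u
      show T z (f u) = f (T z u)
      have hfu : E (f u) = (X : K[X]) • E u := by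
        rw [← hE, aeval_X]
      have key : E z.1 * ((X : K[X]) • E u) + z.2 • ψ' ((X : K[X]) • E u) =
          (X : K[X]) • (E z.1 * E u + z.2 • ψ' (E u)) := by
        rw [map_smul, smul_add, smul_comm]
        congr 1
        exact mul_smul_comm _ _ _
      rw [hTapp, hTapp, hfu, key, hEs, aeval_X]

end core2

section field

open Polynomial

variable {K : Type u} [Field K]

theorem aeval_toLin'_apply {n : ℕ} (g : Matrix (Fin n) (Fin n) K) (r : K[X]) (w : Fin n → K) :
    aeval (Matrix.toLin' g) r w = (aeval g r) *ᵥ w := by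
  have h := Polynomial.aeval_algHom_apply (Matrix.toLinAlgEquiv' (R := K) (n := Fin n)).toAlgHom g r
  have h' : aeval (Matrix.toLin' g) r = Matrix.toLin' (aeval g r) := h
  rw [h', Matrix.toLin'_apply]

theorem exists_krylov_det_ne_zero {n : ℕ} (g : Matrix (Fin n) (Fin n) K)
    (hg : Module.finrank K
      (Subalgebra.centralizer K ({g} : Set (Matrix (Fin n) (Fin n) K))) = n) :
    ∃ w : Fin n → K, (krylov g w).det ≠ 0 := by
  classical
  rcases Nat.eq_zero_or_pos n with hn0 | hnpos
  · subst hn0
    exact ⟨0, by rw [Matrix.det_isEmpty]; exact one_ne_zero⟩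
  rcases exists_cyclic_or_exists_injective (Fin n → K) (Matrix.toLin' g) with ⟨w, hw⟩ | ⟨T, hT, hTc⟩
  · refine ⟨w, ?_⟩
    have hsurj : Function.Surjective (krylov g w).mulVec := by
      intro v
      obtain ⟨r, hr⟩ := hw v
      rw [aeval_toLin'_apply] at hr
      have hmonic : g.charpoly.Monic := Matrix.charpoly_monic g
      have hdeg : g.charpoly.natDegree = n := by
        rw [Matrix.charpoly_natDegree_eq_dim, Fintype.card_fin]
      have hne1 : g.charpoly ≠ 1 := by
        intro h1
        rw [h1, natDegree_one] at hdeg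
        omega
      let r' := r %ₘ g.charpoly
      have hr' : aeval g r = aeval g r' := by
        have := Polynomial.modByMonic_add_div r g.charpoly
        conv_lhs => rw [← this]
        rw [map_add, map_mul, Matrix.aeval_self_charpoly, zero_mul, add_zero]
      have hlt : r'.natDegree < n := by
        rw [← hdeg]
        exact Polynomial.natDegree_modByMonic_lt r hmonic hne1
      refine ⟨fun k => r'.coeff k, ?_⟩
      show krylov g w *ᵥ (fun k : Fin n => r'.coeff k) = v
      rw [krylov_mulVec, hr, hr', Polynomial.aeval_eq_sum_range' hlt,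
        ← Fin.sum_univ_eq_sum_range (fun k => r'.coeff k • g ^ k) n]
    have hunit : IsUnit (krylov g w) := Matrix.mulVec_surjective_iff_isUnit.mp hsurj
    exact ((Matrix.isUnit_iff_isUnit_det _).mp hunit).ne_zero
  · exfalso
    let C := Subalgebra.centralizer K ({g} : Set (Matrix (Fin n) (Fin n) K))
    have hmem : ∀ z, LinearMap.toMatrix' (T z) ∈ C := by
      intro z
      rw [Subalgebra.mem_centralizer_iff]
      intro g' hg'
      rw [Set.mem_singleton_iff] at hg'
      subst hg'
      have h1 := congrArg LinearMap.toMatrix' (hTc z)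
      rw [Module.End.mul_eq_comp, Module.End.mul_eq_comp, LinearMap.toMatrix'_comp,
        LinearMap.toMatrix'_comp, LinearMap.toMatrix'_toLin'] at h1
      exact h1.symm
    let T' : ((Fin n → K) × K) →ₗ[K] ↥C :=
      LinearMap.codRestrict (Subalgebra.toSubmodule C)
        ((LinearMap.toMatrix' (R := K) (m := Fin n) (n := Fin n)).toLinearMap ∘ₗ T) hmem
    have hT' : Function.Injective T' := by
      intro z z' h
      have h1 : LinearMap.toMatrix' (T z) = LinearMap.toMatrix' (T z') :=
        congrArg Subtype.val h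
      exact hT (LinearMap.toMatrix'.injective h1)
    have hle := LinearMap.finrank_le_finrank_of_injective hT'
    rw [Module.finrank_prod, Module.finrank_fin_fun, Module.finrank_self] at hle
    have : Module.finrank K ↥C = n := hg
    omega

end field

section local_global

theorem krylov_map {B C : Type*} [CommRing B] [CommRing C] {n : ℕ} (ρ : B →+* C)
    (g : Matrix (Fin n) (Fin n) B) (w : Fin n → B) :
    (krylov g w).map ρ = krylov (g.map ρ) (ρ ∘ w) := by
  ext a i
  simp only [krylov, Matrix.map_apply, Matrix.of_apply]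
  rw [RingHom.map_mulVec, Matrix.map_pow]

theorem mul_comm_of_fiberwise_regular (A : Type u) [CommRing A] (n : ℕ)
    (g : Matrix (Fin n) (Fin n) A)
    (hreg : ∀ (K : Type u) [Field K] (φ : A →+* K),
      Module.finrank K (Subalgebra.centralizer K ({g.map φ} : Set (Matrix (Fin n) (Fin n) K))) = n)
    (B : Type u) [CommRing B] [Algebra A B] (x y : Matrix (Fin n) (Fin n) B)
    (hxg : x * g.map (algebraMap A B) = g.map (algebraMap A B) * x)
    (hyg : y * g.map (algebraMap A B) = g.map (algebraMap A B) * y) :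
    x * y = y * x := by
  classical
  rw [← sub_eq_zero]
  ext a b
  apply eq_zero_of_localization
  intro J hJ
  let BJ := Localization.AtPrime J
  let ρ : B →+* BJ := algebraMap B BJ
  let κ := IsLocalRing.ResidueField BJ
  let res : BJ →+* κ := IsLocalRing.residue BJ
  let α : A →+* BJ := ρ.comp (algebraMap A B)
  let φ : A →+* κ := res.comp α
  obtain ⟨wbar, hwbar⟩ := exists_krylov_det_ne_zero (g.map φ) (hreg κ φ)
  choose w hw using fun k => IsLocalRing.residue_surjective (R := BJ) (wbar k)
  let g' : Matrix (Fin n) (Fin n) BJ := g.map α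
  have hdet : IsUnit (krylov g' w).det := by
    have h1 : res (krylov g' w).det = (krylov (g.map φ) wbar).det := by
      rw [RingHom.map_det, RingHom.mapMatrix_apply, krylov_map]
      have h2 : g'.map res = g.map φ := by
        show (g.map α).map res = g.map (res.comp α)
        rw [Matrix.map_map]
        rfl
      have h3 : (res ∘ w) = wbar := funext hw
      rw [h2, h3]
    by_contra hnu
    have hmem : (krylov g' w).det ∈ IsLocalRing.maximalIdeal BJ :=
      (IsLocalRing.mem_maximalIdeal _).mpr hnu
    rw [← IsLocalRing.residue_eq_zero_iff] at hmem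
    apply hwbar
    rw [← h1]
    exact hmem
  have hgmap : (g.map (algebraMap A B)).map ρ = g' := by
    show (g.map (algebraMap A B)).map ρ = g.map (ρ.comp (algebraMap A B))
    rw [Matrix.map_map]
    rfl
  have hx' : x.map ρ * g' = g' * x.map ρ := by
    rw [← hgmap, ← Matrix.map_mul, ← Matrix.map_mul, hxg]
  have hy' : y.map ρ * g' = g' * y.map ρ := by
    rw [← hgmap, ← Matrix.map_mul, ← Matrix.map_mul, hyg]
  have hcomm := mul_comm_of_commute_of_cyclic g' (x.map ρ) (y.map ρ) w hdet hx' hy'
  have h4 : (x * y - y * x).map ρ = 0 := by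
    have h5 : (x * y - y * x).map ρ = (x * y).map ρ - (y * x).map ρ := by
      ext a' b'
      simp only [Matrix.map_apply, Matrix.sub_apply, map_sub]
    rw [h5, Matrix.map_mul, Matrix.map_mul, hcomm, sub_self]
  have := congrFun (congrFun h4 a) b
  exact this

end local_global

section explicit

variable {B : Type*} [CommRing B] {n : ℕ}

/-- explicit form of `eq_sum_smul_pow_of_commute` -/
theorem eq_sum_smul_pow_of_commute' (g z : Matrix (Fin n) (Fin n) B) (w : Fin n → B)
    (hw : IsUnit (krylov g w).det) (hz : z * g = g * z) :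
    z = ∑ k : Fin n, ((krylov g w)⁻¹ *ᵥ (z *ᵥ w)) k • g ^ (k : ℕ) := by
  have hP : IsUnit (krylov g w) := (Matrix.isUnit_iff_isUnit_det _).mpr hw
  let c : Fin n → B := (krylov g w)⁻¹ *ᵥ (z *ᵥ w)
  have hc : krylov g w *ᵥ c = z *ᵥ w := by
    show krylov g w *ᵥ ((krylov g w)⁻¹ *ᵥ (z *ᵥ w)) = z *ᵥ w
    rw [Matrix.mulVec_mulVec, Matrix.mul_nonsing_inv _ hw, Matrix.one_mulVec]
  show z = ∑ k : Fin n, c k • g ^ (k : ℕ)
  set y : Matrix (Fin n) (Fin n) B := ∑ k : Fin n, c k • g ^ (k : ℕ) with hy
  have hyw : y *ᵥ w = z *ᵥ w := by rw [hy, ← krylov_mulVec, hc]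
  have hyg : y * g = g * y := by
    rw [hy, Finset.sum_mul, Finset.mul_sum]
    apply Finset.sum_congr rfl
    intro k _
    rw [Matrix.smul_mul, Matrix.mul_smul, ← pow_succ, ← pow_succ']
  have hzP : z * krylov g w = y * krylov g w := by
    ext a i
    rw [mul_krylov_of_commute g z w hz, mul_krylov_of_commute g y w hyg, hyw]
  exact hP.mul_left_injective hzP

/-- the generic polynomial in `g` -/
noncomputable def genPoly (g : Matrix (Fin n) (Fin n) B) :
    Matrix (Fin n) (Fin n) (MvPolynomial (Fin n) B) :=
  ∑ k : Fin n, (MvPolynomial.X k : MvPolynomial (Fin n) B) • (g.map MvPolynomial.C) ^ (k : ℕ)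

theorem genPoly_commute (g : Matrix (Fin n) (Fin n) B) :
    genPoly g * g.map MvPolynomial.C = g.map MvPolynomial.C * genPoly g := by
  unfold genPoly
  rw [Finset.sum_mul, Finset.mul_sum]
  apply Finset.sum_congr rfl
  intro k _
  rw [Matrix.smul_mul, Matrix.mul_smul, ← pow_succ, ← pow_succ']

theorem genPoly_map {N : Type*} [CommRing N] [Algebra B N] (g : Matrix (Fin n) (Fin n) B)
    (θ : MvPolynomial (Fin n) B →ₐ[B] N) :
    (genPoly g).map θ = ∑ k : Fin n, θ (MvPolynomial.X k) • (g.map (algebraMap B N)) ^ (k : ℕ) := by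
  unfold genPoly
  have hg : (g.map MvPolynomial.C).map θ = g.map (algebraMap B N) := by
    ext a b
    simp only [Matrix.map_apply]
    rw [← MvPolynomial.algebraMap_eq, AlgHom.commutes]
  ext a b
  simp only [Matrix.map_apply, Matrix.sum_apply, Matrix.smul_apply, smul_eq_mul, map_sum, map_mul]
  apply Finset.sum_congr rfl
  intro k _
  congr 1
  have h1 := Matrix.map_pow (g.map MvPolynomial.C) (θ : MvPolynomial (Fin n) B →+* N) (k : ℕ)
  have h2 : (g.map MvPolynomial.C).map (θ : MvPolynomial (Fin n) B →+* N) =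
      g.map (algebraMap B N) := hg
  rw [h2] at h1
  exact congrFun (congrFun h1 a) b

end explicit

section flat

open MvPolynomial

variable (A : Type u) [CommRing A] (n : ℕ) (g : Matrix (Fin n) (Fin n) A)

/-- the ideal defining the centralizer of `g` in `n × n` matrices -/
noncomputable def commIdeal : Ideal (MvPolynomial (Fin n × Fin n) A) :=
  Ideal.span (Set.range fun ij : Fin n × Fin n =>
    (Matrix.mvPolynomialX (Fin n) (Fin n) A * g.map MvPolynomial.C -
      g.map MvPolynomial.C * Matrix.mvPolynomialX (Fin n) (Fin n) A :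
        Matrix (Fin n) (Fin n) (MvPolynomial (Fin n × Fin n) A)) ij.1 ij.2)

variable {A n}

theorem generic_commute {N : Type*} [CommRing N] (θ : MvPolynomial (Fin n × Fin n) A →+* N)
    (hθ : commIdeal A n g ≤ RingHom.ker θ) :
    (Matrix.mvPolynomialX (Fin n) (Fin n) A).map θ * (g.map MvPolynomial.C).map θ =
      (g.map MvPolynomial.C).map θ * (Matrix.mvPolynomialX (Fin n) (Fin n) A).map θ := by
  rw [← Matrix.map_mul, ← Matrix.map_mul]
  ext a b
  simp only [Matrix.map_apply]
  rw [← sub_eq_zero, ← map_sub, ← RingHom.mem_ker]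
  apply hθ
  apply Ideal.subset_span
  exact ⟨(a, b), rfl⟩

theorem map_C_map {N : Type*} [CommRing N] [Algebra A N] {σ : Type*}
    (θ : MvPolynomial σ A →ₐ[A] N) :
    (g.map MvPolynomial.C).map θ = g.map (algebraMap A N) := by
  ext a b
  simp only [Matrix.map_apply]
  rw [← MvPolynomial.algebraMap_eq, AlgHom.commutes]

end flat

section flat2

open MvPolynomial

variable {A : Type u} [CommRing A] {n : ℕ} (g : Matrix (Fin n) (Fin n) A)

/-- coordinate ring of the commutant -/
abbrev QR : Type u := MvPolynomial (Fin n × Fin n) A ⧸ commIdeal A n g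

/-- the determinant in `QR` -/
noncomputable abbrev detQR : QR g :=
  Ideal.Quotient.mk (commIdeal A n g) (Matrix.mvPolynomialX (Fin n) (Fin n) A).det

/-- coordinate ring of the centralizer in `GL_n` -/
abbrev MR : Type u := Localization.Away (detQR g)

/-- localization at the Krylov determinant -/
abbrev MD (w : Fin n → A) : Type u := Localization.Away (algebraMap A (MR g) (krylov g w).det)

/-- the canonical map from the polynomial ring -/
noncomputable def thetaR (w : Fin n → A) : MvPolynomial (Fin n × Fin n) A →ₐ[A] MD g w :=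
  (IsScalarTower.toAlgHom A (MR g) (MD g w)).comp
    ((IsScalarTower.toAlgHom A (QR g) (MR g)).comp (Ideal.Quotient.mkₐ A (commIdeal A n g)))

theorem thetaR_apply (w : Fin n → A) (p : MvPolynomial (Fin n × Fin n) A) :
    thetaR g w p = algebraMap (MR g) (MD g w) (algebraMap (QR g) (MR g)
      (Ideal.Quotient.mk (commIdeal A n g) p)) := rfl

theorem thetaR_ker (w : Fin n → A) :
    commIdeal A n g ≤ RingHom.ker (thetaR g w : MvPolynomial (Fin n × Fin n) A →+* MD g w) := by
  intro p hp
  rw [RingHom.mem_ker]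
  show thetaR g w p = 0
  rw [thetaR_apply, Ideal.Quotient.eq_zero_iff_mem.mpr hp, map_zero, map_zero]

/-- universal property of `MD` -/
theorem exists_algHom_MD (w : Fin n → A) (T : Type u) [CommRing T] [Algebra A T]
    (Y' : Matrix (Fin n) (Fin n) T)
    (hY' : Y' * g.map (algebraMap A T) = g.map (algebraMap A T) * Y')
    (hdetY : IsUnit Y'.det) (hd : IsUnit (algebraMap A T (krylov g w).det)) :
    ∃ F : MD g w →ₐ[A] T, ∀ a b, F (thetaR g w (MvPolynomial.X (a, b))) = Y' a b := by
  classical
  let F0 : MvPolynomial (Fin n × Fin n) A →ₐ[A] T :=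
    MvPolynomial.aeval (fun ij : Fin n × Fin n => Y' ij.1 ij.2)
  have hF0X : (Matrix.mvPolynomialX (Fin n) (Fin n) A).map F0 = Y' := by
    ext a b
    simp only [Matrix.map_apply]
    show F0 (MvPolynomial.X (a, b)) = _
    rw [MvPolynomial.aeval_X]
  have hF0g : (g.map MvPolynomial.C).map F0 = g.map (algebraMap A T) := map_C_map g F0
  have hker : ∀ p : MvPolynomial (Fin n × Fin n) A, p ∈ commIdeal A n g → F0 p = 0 := by
    have hle : commIdeal A n g ≤ RingHom.ker (F0 : MvPolynomial (Fin n × Fin n) A →+* T) := by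
      unfold commIdeal
      rw [Ideal.span_le]
      rintro _ ⟨⟨a, b⟩, rfl⟩
      rw [SetLike.mem_coe, RingHom.mem_ker]
      have h2 : (Matrix.mvPolynomialX (Fin n) (Fin n) A * g.map MvPolynomial.C -
          g.map MvPolynomial.C * Matrix.mvPolynomialX (Fin n) (Fin n) A).map F0 = 0 := by
        have h3 : (Matrix.mvPolynomialX (Fin n) (Fin n) A * g.map MvPolynomial.C -
            g.map MvPolynomial.C * Matrix.mvPolynomialX (Fin n) (Fin n) A).map F0 =
            (Matrix.mvPolynomialX (Fin n) (Fin n) A * g.map MvPolynomial.C).map F0 -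
              (g.map MvPolynomial.C * Matrix.mvPolynomialX (Fin n) (Fin n) A).map F0 := by
          ext a' b'
          simp only [Matrix.map_apply, Matrix.sub_apply, map_sub]
        rw [h3, Matrix.map_mul, Matrix.map_mul, hF0X, hF0g, hY', sub_self]
      exact congrFun (congrFun h2 a) b
    intro p hp
    exact hle hp
  let F1 : QR g →ₐ[A] T := Ideal.Quotient.liftₐ (commIdeal A n g) F0 hker
  have hF1mk : ∀ p, F1 (Ideal.Quotient.mk (commIdeal A n g) p) = F0 p := fun p => rfl
  have hF1det : F1 (detQR g) = Y'.det := by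
    show F0 (Matrix.mvPolynomialX (Fin n) (Fin n) A).det = _
    have h1 := RingHom.map_det (F0 : MvPolynomial (Fin n × Fin n) A →+* T)
      (Matrix.mvPolynomialX (Fin n) (Fin n) A)
    have h1' : F0 (Matrix.mvPolynomialX (Fin n) (Fin n) A).det =
        ((Matrix.mvPolynomialX (Fin n) (Fin n) A).map F0).det := h1
    rw [h1', hF0X]
  let F2 : MR g →ₐ[A] T := IsLocalization.liftAlgHom (M := Submonoid.powers (detQR g)) (f := F1) (by
    rintro ⟨_, k, rfl⟩
    rw [map_pow, hF1det]
    exact hdetY.pow k)
  have hF2 : ∀ q : QR g, F2 (algebraMap (QR g) (MR g) q) = F1 q :=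
    fun q => IsLocalization.lift_eq _ q
  let F : MD g w →ₐ[A] T := IsLocalization.liftAlgHom
    (M := Submonoid.powers (algebraMap A (MR g) (krylov g w).det)) (f := F2) (by
    rintro ⟨_, k, rfl⟩
    rw [map_pow, AlgHom.commutes]
    exact hd.pow k)
  have hF : ∀ m : MR g, F (algebraMap (MR g) (MD g w) m) = F2 m :=
    fun m => IsLocalization.lift_eq _ m
  refine ⟨F, fun a b => ?_⟩
  rw [thetaR_apply, hF, hF2, hF1mk]
  show F0 (MvPolynomial.X (a, b)) = _
  rw [MvPolynomial.aeval_X]

end flat2

section flat3

open MvPolynomial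

variable {A : Type u} [CommRing A] {n : ℕ} (g : Matrix (Fin n) (Fin n) A) (w : Fin n → A)

/-- the element inverted in the polynomial model -/
noncomputable abbrev tElt : MvPolynomial (Fin n) A := C (krylov g w).det * (genPoly g).det

/-- the polynomial model -/
abbrev TR : Type u := Localization.Away (tElt g w)

theorem isUnit_algebraMap_det_MD : IsUnit (algebraMap A (MD g w) (krylov g w).det) := by
  rw [IsScalarTower.algebraMap_apply A (MR g) (MD g w)]
  exact IsLocalization.Away.algebraMap_isUnit _

theorem isUnit_thetaR_det :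
    IsUnit (thetaR g w (Matrix.mvPolynomialX (Fin n) (Fin n) A).det) := by
  rw [thetaR_apply]
  apply IsUnit.map
  exact IsLocalization.Away.algebraMap_isUnit (detQR g)

theorem exists_G0 : ∃ G0 : MvPolynomial (Fin n) A →ₐ[A] MD g w,
    (genPoly g).map G0 = (Matrix.mvPolynomialX (Fin n) (Fin n) A).map (thetaR g w) ∧
      IsUnit (G0 (tElt g w)) := by
  classical
  set gM : Matrix (Fin n) (Fin n) (MD g w) := g.map (algebraMap A (MD g w)) with hgM
  set wM : Fin n → MD g w := (algebraMap A (MD g w)) ∘ w with hwM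
  set xbar : Matrix (Fin n) (Fin n) (MD g w) :=
    (Matrix.mvPolynomialX (Fin n) (Fin n) A).map (thetaR g w) with hxbar
  have hkry : krylov gM wM = (krylov g w).map (algebraMap A (MD g w)) :=
    (krylov_map (algebraMap A (MD g w)) g w).symm
  have hdet : (krylov gM wM).det = algebraMap A (MD g w) (krylov g w).det := by
    rw [hkry]
    exact (RingHom.map_det (algebraMap A (MD g w)) (krylov g w)).symm
  have hw : IsUnit (krylov gM wM).det := by
    rw [hdet]
    exact isUnit_algebraMap_det_MD g w
  have hz : xbar * gM = gM * xbar := by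
    have h1 := generic_commute g (thetaR g w : MvPolynomial (Fin n × Fin n) A →+* MD g w)
      (thetaR_ker g w)
    have h2 : (g.map MvPolynomial.C).map (thetaR g w : MvPolynomial (Fin n × Fin n) A →+* MD g w)
        = gM := map_C_map g (thetaR g w)
    rw [h2] at h1
    exact h1
  set α : Fin n → MD g w := (krylov gM wM)⁻¹ *ᵥ (xbar *ᵥ wM) with hα
  let G0 : MvPolynomial (Fin n) A →ₐ[A] MD g w := MvPolynomial.aeval α
  have hG0 : (genPoly g).map G0 = xbar := by
    rw [genPoly_map g G0]
    have h3 := eq_sum_smul_pow_of_commute' gM xbar wM hw hz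
    rw [h3]
    apply Finset.sum_congr rfl
    intro k _
    congr 1
    show MvPolynomial.aeval α (MvPolynomial.X k) = _
    rw [MvPolynomial.aeval_X]
  refine ⟨G0, hG0, ?_⟩
  have h4 : G0 (tElt g w) = algebraMap A (MD g w) (krylov g w).det *
      thetaR g w (Matrix.mvPolynomialX (Fin n) (Fin n) A).det := by
    rw [map_mul]
    congr 1
    · show MvPolynomial.aeval α (MvPolynomial.C _) = _
      rw [MvPolynomial.aeval_C]
    · have h5 := RingHom.map_det (G0 : MvPolynomial (Fin n) A →+* MD g w) (genPoly g)
      have h6 := RingHom.map_det (thetaR g w : MvPolynomial (Fin n × Fin n) A →+* MD g w)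
        (Matrix.mvPolynomialX (Fin n) (Fin n) A)
      have h5' : G0 (genPoly g).det = ((genPoly g).map G0).det := h5
      have h6' : thetaR g w (Matrix.mvPolynomialX (Fin n) (Fin n) A).det =
        ((Matrix.mvPolynomialX (Fin n) (Fin n) A).map (thetaR g w)).det := h6
      rw [h5', h6', hG0]
  rw [h4]
  exact (isUnit_algebraMap_det_MD g w).mul (isUnit_thetaR_det g w)

end flat3

section flat4

open MvPolynomial

variable {A : Type u} [CommRing A] {n : ℕ} (g : Matrix (Fin n) (Fin n) A) (w : Fin n → A)

theorem flat_TR : Module.Flat A (TR g w) := by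
  haveI : Module.Flat (MvPolynomial (Fin n) A) (TR g w) :=
    IsLocalization.flat (TR g w) (Submonoid.powers (tElt g w))
  exact Module.Flat.trans A (MvPolynomial (Fin n) A) (TR g w)

theorem exists_F : ∃ F : MD g w →ₐ[A] TR g w, ∀ a b,
    F (thetaR g w (MvPolynomial.X (a, b))) =
      algebraMap (MvPolynomial (Fin n) A) (TR g w) (genPoly g a b) := by
  have hu : IsUnit (algebraMap (MvPolynomial (Fin n) A) (TR g w) (tElt g w)) :=
    IsLocalization.Away.algebraMap_isUnit _
  rw [map_mul] at hu
  have hu1 := isUnit_of_mul_isUnit_left hu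
  have hu2 := isUnit_of_mul_isUnit_right hu
  refine exists_algHom_MD g w (TR g w)
    ((genPoly g).map (algebraMap (MvPolynomial (Fin n) A) (TR g w))) ?_ ?_ ?_
  · have h1 := congrArg (fun M => M.map (algebraMap (MvPolynomial (Fin n) A) (TR g w)))
      (genPoly_commute g)
    simp only [Matrix.map_mul] at h1
    have h2 : (g.map MvPolynomial.C).map (algebraMap (MvPolynomial (Fin n) A) (TR g w)) =
        g.map (algebraMap A (TR g w)) := by
      ext a b
      simp only [Matrix.map_apply]
      rw [← MvPolynomial.algebraMap_eq, ← IsScalarTower.algebraMap_apply]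
    rw [h2] at h1
    exact h1
  · have h3 := RingHom.map_det (algebraMap (MvPolynomial (Fin n) A) (TR g w)) (genPoly g)
    have h3' : algebraMap (MvPolynomial (Fin n) A) (TR g w) (genPoly g).det =
      ((genPoly g).map (algebraMap (MvPolynomial (Fin n) A) (TR g w))).det := h3
    rw [← h3']
    exact hu2
  · rw [IsScalarTower.algebraMap_apply A (MvPolynomial (Fin n) A) (TR g w),
      MvPolynomial.algebraMap_eq]
    exact hu1

end flat4

section flat5

open MvPolynomial

variable {A : Type u} [CommRing A] {n : ℕ} (g : Matrix (Fin n) (Fin n) A) (w : Fin n → A)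

theorem flat_MD : Module.Flat A (MD g w) := by
  obtain ⟨F, hF⟩ := exists_F g w
  obtain ⟨G0, hG0, hG0u⟩ := exists_G0 g w
  let G : TR g w →ₐ[A] MD g w :=
    IsLocalization.liftAlgHom (M := Submonoid.powers (tElt g w)) (f := G0) (by
      rintro ⟨_, k, rfl⟩
      rw [map_pow]
      exact hG0u.pow k)
  have hG : ∀ p, G (algebraMap _ (TR g w) p) = G0 p := fun p => IsLocalization.lift_eq _ p
  have hring : ((G.comp F : MD g w →ₐ[A] MD g w) : MD g w →+* MD g w) = RingHom.id _ := by
    apply IsLocalization.ringHom_ext (Submonoid.powers (algebraMap A (MR g) (krylov g w).det))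
    apply IsLocalization.ringHom_ext (Submonoid.powers (detQR g))
    apply Ideal.Quotient.ringHom_ext
    apply MvPolynomial.ringHom_ext
    · intro r
      show G (F (thetaR g w (C r))) = thetaR g w (C r)
      rw [← MvPolynomial.algebraMap_eq, AlgHom.commutes, AlgHom.commutes, AlgHom.commutes]
    · rintro ⟨a, b⟩
      show G (F (thetaR g w (X (a, b)))) = thetaR g w (X (a, b))
      rw [hF, hG]
      have h1 := congrFun (congrFun hG0 a) b
      simp only [Matrix.map_apply] at h1
      rw [h1]
      rfl
  have hFl := flat_TR g w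
  refine Module.Flat.of_retract F.toLinearMap G.toLinearMap ?_
  ext x
  exact congrArg (fun h : MD g w →+* MD g w => h x) hring

end flat5

section flat6

open MvPolynomial

variable {A : Type u} [CommRing A] {n : ℕ} (g : Matrix (Fin n) (Fin n) A)

theorem span_krylov_det_eq_top
    (hreg : ∀ (K : Type u) [Field K] (φ : A →+* K),
      Module.finrank K (Subalgebra.centralizer K ({g.map φ} : Set (Matrix (Fin n) (Fin n) K))) = n) :
    Ideal.span (Set.range fun w : Fin n → A => (krylov g w).det) = ⊤ := by
  by_contra hne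
  obtain ⟨m, hm, hle⟩ := Ideal.exists_le_maximal _ hne
  letI : Field (A ⧸ m) := Ideal.Quotient.field m
  let φ : A →+* A ⧸ m := Ideal.Quotient.mk m
  obtain ⟨wbar, hwbar⟩ := exists_krylov_det_ne_zero (g.map φ) (hreg (A ⧸ m) φ)
  choose w hw using fun i => Ideal.Quotient.mk_surjective (wbar i)
  have hww : φ ∘ w = wbar := funext hw
  have h1 : φ (krylov g w).det = (krylov (g.map φ) wbar).det := by
    have h0 : φ (krylov g w).det = ((krylov g w).map φ).det := RingHom.map_det φ (krylov g w)
    rw [h0, krylov_map, hww]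
  apply hwbar
  rw [← h1]
  exact Ideal.Quotient.eq_zero_iff_mem.mpr (hle (Ideal.subset_span ⟨w, rfl⟩))

theorem isLocalizedModule_away (r : A) :
    IsLocalizedModule.Away r (IsScalarTower.toAlgHom A (MR g)
      (Localization.Away (algebraMap A (MR g) r))).toLinearMap := by
  show IsLocalizedModule (Submonoid.powers r) _
  rw [isLocalizedModule_iff_isLocalization, Algebra.algebraMapSubmonoid_powers]
  infer_instance

theorem flat_MR
    (hreg : ∀ (K : Type u) [Field K] (φ : A →+* K),
      Module.finrank K (Subalgebra.centralizer K ({g.map φ} : Set (Matrix (Fin n) (Fin n) K))) = n) :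
    Module.Flat A (MR g) := by
  let s : Set A := Set.range fun w : Fin n → A => (krylov g w).det
  have spn : Ideal.span s = ⊤ := span_krylov_det_eq_top g hreg
  haveI : ∀ r : s, IsLocalizedModule.Away r.1 (IsScalarTower.toAlgHom A (MR g)
      (Localization.Away (algebraMap A (MR g) r.1))).toLinearMap :=
    fun r => isLocalizedModule_away g r.1
  refine Module.flat_of_isLocalized_span A (MR g) s spn
    (fun r => Localization.Away (algebraMap A (MR g) r.1))
    (fun r => (IsScalarTower.toAlgHom A (MR g) _).toLinearMap) ?_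
  rintro ⟨_, w, rfl⟩
  exact flat_MD g w

end flat6

end Groth.Agent.Lib.Helper20.RegCentralizer
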