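import Mathlib

set_option autoImplicit false

namespace Groth.Agent.Lib.Helper20.RegSeq

universe u v

/-- `r` is a non-zero-divisor modulo `I`. -/
def Nzd {R : Type u} [CommRing R] (I : Ideal R) (r : R) : Prop := ∀ x, r * x ∈ I → x ∈ I

theorem Nzd.neg {R : Type u} [CommRing R] {I : Ideal R} {r : R} (h : Nzd I r) : Nzd I (-r) := by
  intro x hx
  apply h
  rw [neg_mul] at hx
  exact (Ideal.neg_mem_iff I).mp hx

theorem swap {R : Type u} [CommRing R] {I : Ideal R} {x y : R} (hx : Nzd I x)
    (hxy : Nzd (I ⊔ Ideal.span {x}) y) (hy : Nzd I y) : Nzd (I ⊔ Ideal.span {y}) x := by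
  intro z hz
  rw [Submodule.mem_sup] at hz
  obtain ⟨i, hi, j, hj, hij⟩ := hz
  rw [Ideal.mem_span_singleton'] at hj
  obtain ⟨w, hw⟩ := hj
  have h1 : y * w ∈ I ⊔ Ideal.span {x} := by
    have e : y * w = x * z - i := by rw [← hij, ← hw]; ring
    rw [e]
    exact (I ⊔ Ideal.span {x}).sub_mem
      (Ideal.mem_sup_right (Ideal.mul_mem_right _ _ (Ideal.mem_span_singleton_self x)))
      (Ideal.mem_sup_left hi)
  have h2 := hxy w h1
  rw [Submodule.mem_sup] at h2
  obtain ⟨i', hi', j', hj', hij'⟩ := h2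
  rw [Ideal.mem_span_singleton'] at hj'
  obtain ⟨w', hw'⟩ := hj'
  have h3 : x * (z - y * w') ∈ I := by
    have e : x * (z - y * w') = i + y * i' := by
      have e1 : x * z = i + w * y := by rw [← hij, ← hw]
      have e2 : w = i' + w' * x := by rw [← hij', ← hw']
      rw [mul_sub, e1, e2]
      ring
    rw [e]
    exact I.add_mem hi (I.mul_mem_left _ hi')
  have h4 := hx _ h3
  have e : z = (z - y * w') + w' * y := by ring
  rw [e]
  exact Ideal.add_mem _ (Ideal.mem_sup_left h4)
    (Ideal.mem_sup_right (Ideal.mul_mem_left _ _ (Ideal.mem_span_singleton_self y)))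

open Polynomial in
theorem nzd_C {B : Type u} [CommRing B] {I : Ideal B} {a : B} (h : Nzd I a) :
    Nzd (I.map (C : B →+* B[X])) (C a) := by
  intro q hq
  rw [Ideal.mem_map_C_iff] at hq ⊢
  intro n
  have h1 := hq n
  rw [coeff_C_mul] at h1
  exact h _ h1

open Polynomial in
theorem nzd_linear {B : Type u} [CommRing B] {I : Ideal B} {a : B} (r : B) (h : Nzd I a) :
    Nzd (I.map (C : B →+* B[X])) (C a * X - C r) := by
  intro q hq
  rw [Ideal.mem_map_C_iff] at hq ⊢
  have hcoeff : ∀ n, ((C a * X - C r) * q).coeff (n + 1)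
      = a * q.coeff n - r * q.coeff (n + 1) := by
    intro n
    rw [sub_mul, coeff_sub, mul_assoc, coeff_C_mul, coeff_X_mul, coeff_C_mul]
  have key : ∀ k n, q.natDegree < n + k → q.coeff n ∈ I := by
    intro k
    induction k with
    | zero =>
      intro n hn
      rw [coeff_eq_zero_of_natDegree_lt (by omega)]
      exact I.zero_mem
    | succ k ih =>
      intro n hn
      have h1 : q.coeff (n + 1) ∈ I := ih (n + 1) (by omega)
      have h2 := hq (n + 1)
      rw [hcoeff] at h2
      apply h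
      have e : a * q.coeff n
          = (a * q.coeff n - r * q.coeff (n + 1)) + r * q.coeff (n + 1) := by ring
      rw [e]
      exact I.add_mem h2 (I.mul_mem_left _ h1)
  intro n
  exact key (q.natDegree + 1) n (by omega)

theorem nzd_X {σ : Type v} {A : Type u} [CommRing A] (S : Set σ) (t : σ) (ht : t ∉ S) :
    Nzd (Ideal.span ((MvPolynomial.X : σ → MvPolynomial σ A) '' S)) (MvPolynomial.X t) := by
  classical
  intro p hp
  rw [MvPolynomial.mem_ideal_span_X_image] at hp ⊢
  intro m hm
  have hm' : m + Finsupp.single t 1 ∈ (MvPolynomial.X t * p).support := by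
    rw [MvPolynomial.mem_support_iff] at hm ⊢
    rw [mul_comm, MvPolynomial.coeff_mul_X]
    exact hm
  obtain ⟨i, hi, hne⟩ := hp _ hm'
  refine ⟨i, hi, ?_⟩
  have hit : t ≠ i := fun h => ht (h ▸ hi)
  rw [Finsupp.add_apply, Finsupp.single_apply, if_neg hit, add_zero] at hne
  exact hne

theorem transfer {R S : Type u} [CommRing R] [CommRing S] (φ : R ≃+* S) {I : Ideal R} {r : R}
    (h : Nzd (I.map (φ : R →+* S)) (φ r)) : Nzd I r := by
  intro x hx
  have h1 : φ r * φ x ∈ I.map (φ : R →+* S) := by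
    rw [← map_mul]
    exact Ideal.mem_map_of_mem _ hx
  have h2 := h _ h1
  rw [Ideal.map_comap_of_equiv] at h2
  rw [Ideal.mem_comap] at h2
  simpa using h2

theorem isRegular_of_nzd {R : Type u} [CommRing R] (f1 f2 f3 : R)
    (h1 : Nzd ⊥ f1) (h2 : Nzd (Ideal.span {f1}) f2)
    (h3 : Nzd (Ideal.span {f1} ⊔ Ideal.span {f2}) f3)
    (h4 : Ideal.span {f1} ⊔ Ideal.span {f2} ⊔ Ideal.span {f3} ≠ ⊤) :
    RingTheory.Sequence.IsRegular R [f1, f2, f3] := by
  have e0 : (Ideal.ofList ([] : List R) • ⊤ : Submodule R R) = ⊥ := by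
    simp
  have e1 : (Ideal.ofList [f1] • ⊤ : Submodule R R) = Ideal.span {f1} := by
    rw [Ideal.ofList_singleton]
    simp
  have e2 : (Ideal.ofList [f1, f2] • ⊤ : Submodule R R) = Ideal.span {f1} ⊔ Ideal.span {f2} := by
    rw [Ideal.ofList_cons, Ideal.ofList_singleton]
    simp
  have e3 : (Ideal.ofList [f1, f2, f3] • ⊤ : Submodule R R)
      = Ideal.span {f1} ⊔ Ideal.span {f2} ⊔ Ideal.span {f3} := by
    rw [Ideal.ofList_cons, Ideal.ofList_cons, Ideal.ofList_singleton]
    simp [sup_assoc]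
  constructor
  · constructor
    intro i hi
    rw [isSMulRegular_quotient_iff_mem_of_smul_mem]
    have hi' : i < 3 := hi
    interval_cases i
    · intro x hx
      simp only [List.take_zero] at hx ⊢
      rw [e0] at hx ⊢
      exact h1 x hx
    · intro x hx
      simp only [List.take_succ_cons, List.take_zero] at hx ⊢
      rw [e1] at hx ⊢
      exact h2 x hx
    · intro x hx
      simp only [List.take_succ_cons, List.take_zero] at hx ⊢
      rw [e2] at hx ⊢
      exact h3 x hx
  · rw [e3]
    exact fun h => h4 h.symm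

end Groth.Agent.Lib.Helper20.RegSeq
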