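import Mathlib
import Groth.Agent.Lib.Helper8.Lie3
import Groth.Agent.Lib.Helper20.RegSeq1

set_option backward.isDefEq.respectTransparency.types false
set_option autoImplicit false
set_option maxSynthPendingDepth 4
set_option linter.unusedSectionVars false

universe u

namespace Groth.Agent.Lib.Helper20.RegSeq

open Groth.Agent.Lib.Helper8.Lie3

local notation "PC" => Polynomial.C
local notation "PX" => Polynomial.X

variable {A : Type u} [CommRing A]

theorem map_span_singleton {R S : Type u} [CommRing R] [CommRing S] (f : R →+* S) (x : R) :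
    (Ideal.span {x}).map f = Ideal.span {f x} := by
  rw [Ideal.map_span, Set.image_singleton]

theorem b0 (t : Fin 6) : Nzd (⊥ : Ideal (R0 A)) (MvPolynomial.X t) := by
  have h := nzd_X (A := A) (∅ : Set (Fin 6)) t (by simp)
  simpa using h

theorem b1 (s t : Fin 6) (hs : t ≠ s) :
    Nzd (Ideal.span {(MvPolynomial.X s : R0 A)}) (MvPolynomial.X t) := by
  have h := nzd_X (A := A) ({s} : Set (Fin 6)) t (by simpa using hs)
  simpa using h

theorem b2 (s s' t : Fin 6) (hs : t ≠ s) (hs' : t ≠ s') :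
    Nzd (Ideal.span {(MvPolynomial.X s : R0 A)} ⊔ Ideal.span {(MvPolynomial.X s' : R0 A)})
      (MvPolynomial.X t) := by
  have h := nzd_X (A := A) ({s, s'} : Set (Fin 6)) t (by simp [hs, hs'])
  rw [Set.image_pair, Ideal.span_insert] at h
  exact h

theorem t1_a : Nzd (⊥ : Ideal (Polynomial (R0 A))) g1 := by
  have h := nzd_linear (r1 : R0 A) (b0 (A := A) 1)
  rw [Ideal.map_bot] at h
  exact h

theorem t1_b : Nzd (Ideal.span {PC (xu : R0 A)}) g1 := by
  have h := nzd_linear (r1 : R0 A) (b1 (A := A) 0 1 (by decide))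
  rw [map_span_singleton] at h
  exact h

theorem t1_c : Nzd (Ideal.span {PC (xw : R0 A)}) g1 := by
  have h := nzd_linear (r1 : R0 A) (b1 (A := A) 2 1 (by decide))
  rw [map_span_singleton] at h
  exact h

theorem t1_d : Nzd (Ideal.span {PC (xw : R0 A)} ⊔ Ideal.span {PC (xu : R0 A)}) g1 := by
  have h := nzd_linear (r1 : R0 A) (b2 (A := A) 2 0 1 (by decide) (by decide))
  rw [Ideal.map_sup, map_span_singleton, map_span_singleton] at h
  exact h

theorem t1_eu : Nzd (⊥ : Ideal (Polynomial (R0 A))) (PC (xu : R0 A)) := by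
  have h := nzd_C (b0 (A := A) 0)
  rw [Ideal.map_bot] at h
  exact h

theorem t1_ew : Nzd (⊥ : Ideal (Polynomial (R0 A))) (PC (xw : R0 A)) := by
  have h := nzd_C (b0 (A := A) 2)
  rw [Ideal.map_bot] at h
  exact h

theorem t1_f : Nzd (Ideal.span {PC (xw : R0 A)}) (PC (xu : R0 A)) := by
  have h := nzd_C (b1 (A := A) 2 0 (by decide))
  rw [map_span_singleton] at h
  exact h

theorem t1_g : Nzd (Ideal.span {g1 (A := A)}) (PC (xu : R0 A)) := by
  have h := swap (I := ⊥) (x := PC (xu : R0 A)) (y := g1) t1_eu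
    (by rw [bot_sup_eq]; exact t1_b) t1_a
  rwa [bot_sup_eq] at h

theorem t1_h : Nzd (Ideal.span {g1 (A := A)}) (PC (xw : R0 A)) := by
  have h := swap (I := ⊥) (x := PC (xw : R0 A)) (y := g1) t1_ew
    (by rw [bot_sup_eq]; exact t1_c) t1_a
  rwa [bot_sup_eq] at h

theorem t1_i : Nzd (Ideal.span {PC (xw : R0 A)} ⊔ Ideal.span {g1 (A := A)}) (PC (xu : R0 A)) :=
  swap t1_f t1_d t1_c

theorem t2_a : Nzd (Ideal.span {PC (g1 (A := A))}) g2 := by
  have h := nzd_linear (PC (r2 : R0 A)) (t1_g (A := A))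
  rw [map_span_singleton] at h
  exact h

theorem t2_b : Nzd (Ideal.span {PC (g1 (A := A))}) (PC (PC (xw : R0 A))) := by
  have h := nzd_C (t1_h (A := A))
  rw [map_span_singleton] at h
  exact h

theorem t2_c :
    Nzd (Ideal.span {PC (g1 (A := A))} ⊔ Ideal.span {PC (PC (xw : R0 A))}) g2 := by
  have h0 : Nzd (Ideal.span {g1 (A := A)} ⊔ Ideal.span {PC (xw : R0 A)}) (PC (xu : R0 A)) := by
    rw [sup_comm]
    exact t1_i
  have h := nzd_linear (PC (r2 : R0 A)) h0
  rw [Ideal.map_sup, map_span_singleton, map_span_singleton] at h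
  exact h

theorem t2_d :
    Nzd (Ideal.span {PC (g1 (A := A))} ⊔ Ideal.span {g2}) (PC (PC (xw : R0 A))) :=
  swap t2_b t2_c t2_a

theorem t2_e : Nzd (⊥ : Ideal (Polynomial (Polynomial (R0 A)))) (PC (g1 (A := A))) := by
  have h := nzd_C (t1_a (A := A))
  rw [Ideal.map_bot] at h
  exact h

theorem q1 : Nzd (⊥ : Ideal (P3 A)) (PC (PC (g1 (A := A)))) := by
  have h := nzd_C (t2_e (A := A))
  rw [Ideal.map_bot] at h
  exact h

theorem q2 : Nzd (Ideal.span {(PC (PC (g1 (A := A))) : P3 A)}) (PC (g2 (A := A))) := by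
  have h := nzd_C (t2_a (A := A))
  rw [map_span_singleton] at h
  exact h

theorem q3 : Nzd (Ideal.span {(PC (PC (g1 (A := A))) : P3 A)} ⊔ Ideal.span {PC (g2 (A := A))})
    (g3 (A := A)) := by
  have h := nzd_linear (PC (PC (r3 : R0 A))) (t2_d (A := A))
  rw [Ideal.map_sup, map_span_singleton, map_span_singleton] at h
  exact h

theorem nzd_C3 {I : Ideal (R0 A)} {a : R0 A} (h : Nzd I a) :
    Nzd (((I.map PC).map PC).map PC : Ideal (P3 A)) (PC (PC (PC a))) :=
  nzd_C (nzd_C (nzd_C h))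

theorem l1 : Nzd (⊥ : Ideal (P3 A)) (PC (PC (PC (xu : R0 A)))) := by
  have h := nzd_C3 (b0 (A := A) 0)
  rw [Ideal.map_bot, Ideal.map_bot, Ideal.map_bot] at h
  exact h

theorem l2 : Nzd (Ideal.span {(PC (PC (PC (xu : R0 A))) : P3 A)}) (PC (PC (PC (xv : R0 A)))) := by
  have h := nzd_C3 (b1 (A := A) 0 1 (by decide))
  rw [map_span_singleton, map_span_singleton, map_span_singleton] at h
  exact h

theorem l3 : Nzd (Ideal.span {(PC (PC (PC (xu : R0 A))) : P3 A)}
    ⊔ Ideal.span {(PC (PC (PC (xv : R0 A))) : P3 A)}) (PC (PC (PC (xw : R0 A)))) := by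
  have h := nzd_C3 (b2 (A := A) 0 1 2 (by decide) (by decide))
  rw [Ideal.map_sup, Ideal.map_sup, Ideal.map_sup, map_span_singleton, map_span_singleton,
    map_span_singleton, map_span_singleton, map_span_singleton, map_span_singleton] at h
  exact h

theorem σe_apply (P : Lie3Mod.D A) : (σe (A := A) : Lie3Mod.D A →+* P3 A) P = σ P := rfl

theorem σe_apply' (P : Lie3Mod.D A) : σe (A := A) P = σ P := rfl

theorem σ_L1 : σ (Lie3Mod.L1 A) = PC (PC (PC (xu : R0 A))) := by
  simp [Lie3Mod.L1, Lie3Mod.va, Lie3Mod.vi, σ_X0, σ_X8]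

theorem σ_L2 : σ (Lie3Mod.L2 A) = PC (PC (PC (xv : R0 A))) := by
  simp [Lie3Mod.L2, Lie3Mod.vb, Lie3Mod.vf, σ_X1, σ_X5]

theorem σ_L3 : σ (Lie3Mod.L3 A) = PC (PC (PC (xw : R0 A))) := by
  simp [Lie3Mod.L3, Lie3Mod.vd, Lie3Mod.vh, σ_X3, σ_X7]

theorem main (A : Type u) [CommRing A] [Nontrivial A] :
    RingTheory.Sequence.IsRegular (Lie3Mod.D A) [Lie3Mod.L1 A, Lie3Mod.L2 A, Lie3Mod.L3 A] ∧
      RingTheory.Sequence.IsRegular (Lie3Mod.D A) [Lie3Mod.Q1 A, Lie3Mod.Q2 A, Lie3Mod.Q3 A] := by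
  constructor
  · apply isRegular_of_nzd
    · apply transfer (σe (A := A))
      rw [Ideal.map_bot, σe_apply', σ_L1]
      exact l1
    · apply transfer (σe (A := A))
      rw [map_span_singleton, σe_apply, σe_apply', σ_L1, σ_L2]
      exact l2
    · apply transfer (σe (A := A))
      rw [Ideal.map_sup, map_span_singleton, map_span_singleton, σe_apply, σe_apply, σe_apply',
        σ_L1, σ_L2, σ_L3]
      exact l3
    · intro htop
      have hle : Ideal.span {Lie3Mod.L1 A} ⊔ Ideal.span {Lie3Mod.L2 A} ⊔ Ideal.span {Lie3Mod.L3 A}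
          ≤ RingHom.ker (MvPolynomial.eval (fun _ : Fin 9 => (0 : A))) := by
        refine sup_le (sup_le ?_ ?_) ?_ <;>
          rw [Ideal.span_singleton_le_iff_mem, RingHom.mem_ker] <;>
          simp [Lie3Mod.L1, Lie3Mod.L2, Lie3Mod.L3]
      rw [htop] at hle
      exact RingHom.ker_ne_top _ (top_le_iff.mp hle)
  · apply isRegular_of_nzd
    · apply transfer (σe (A := A))
      rw [Ideal.map_bot, σe_apply', σ_Q1]
      exact q1.neg
    · apply transfer (σe (A := A))
      rw [map_span_singleton, σe_apply, σe_apply', σ_Q1, σ_Q2, Ideal.span_singleton_neg]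
      exact q2.neg
    · apply transfer (σe (A := A))
      rw [Ideal.map_sup, map_span_singleton, map_span_singleton, σe_apply, σe_apply, σe_apply',
        σ_Q1, σ_Q2, σ_Q3, Ideal.span_singleton_neg, Ideal.span_singleton_neg]
      exact q3
    · intro htop
      have hle : Ideal.span {Lie3Mod.Q1 A} ⊔ Ideal.span {Lie3Mod.Q2 A} ⊔ Ideal.span {Lie3Mod.Q3 A}
          ≤ RingHom.ker (MvPolynomial.eval (fun _ : Fin 9 => (0 : A))) := by
        refine sup_le (sup_le ?_ ?_) ?_ <;>
          rw [Ideal.span_singleton_le_iff_mem, RingHom.mem_ker] <;>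
          simp [Lie3Mod.Q1, Lie3Mod.Q2, Lie3Mod.Q3]
      rw [htop] at hle
      exact RingHom.ker_ne_top _ (top_le_iff.mp hle)

end Groth.Agent.Lib.Helper20.RegSeq
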