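import Mathlib

set_option autoImplicit false
universe u

open IsLocalRing

namespace Groth.Agent.Lib.Helper20.RegularQuotient

variable {A : Type u} [CommRing A]

/-- In a noetherian local ring, an element of `𝔪 \ 𝔪²` is part of a generating set of `𝔪` of
minimal cardinality; so the maximal ideal of the quotient needs one generator less. -/
theorem spanFinrank_maximalIdeal_quotient_add_one_le [IsLocalRing A] [IsNoetherianRing A]
    (x : A) (hx : x ∈ maximalIdeal A) (hx2 : x ∉ maximalIdeal A ^ 2)
    [IsLocalRing (A ⧸ Ideal.span {x})] :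
    (maximalIdeal (A ⧸ Ideal.span {x})).spanFinrank + 1 ≤ (maximalIdeal A).spanFinrank := by
  classical
  set κ := ResidueField A
  set V := CotangentSpace A
  let xb : V := (maximalIdeal A).toCotangent ⟨x, hx⟩
  have hxb : xb ≠ 0 := by
    intro h
    exact hx2 ((Ideal.toCotangent_eq_zero _ _).mp h)
  have hli : LinearIndepOn κ id ({xb} : Set V) := by
    rw [linearIndepOn_singleton_iff]
    exact hxb
  let b := Module.Basis.extend hli
  set t : Set V := hli.extend (Set.subset_univ _) with ht
  have hxt : xb ∈ t := Module.Basis.subset_extend hli (Set.mem_singleton _)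
  have htspan : Submodule.span κ t = ⊤ := by
    have h := (Module.Basis.extend hli).span_eq
    rw [Module.Basis.range_extend] at h
    exact h
  haveI : Module.Finite κ V := inferInstance
  haveI : Finite t := Module.Finite.finite_basis b
  have htfin : t.Finite := Set.toFinite t
  have hcard : t.ncard = (maximalIdeal A).spanFinrank := by
    rw [spanFinrank_maximalIdeal_eq_finrank_cotangentSpace, Module.finrank_eq_nat_card_basis b]
    rfl
  -- lifts
  let ℓ : V → maximalIdeal A := Function.surjInv (maximalIdeal A).toCotangent_surjective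
  have hℓ : ∀ v, (maximalIdeal A).toCotangent (ℓ v) = v :=
    Function.surjInv_eq (maximalIdeal A).toCotangent_surjective
  let s' : Set (maximalIdeal A) := ℓ '' (t \ {xb})
  let s : Set (maximalIdeal A) := insert ⟨x, hx⟩ s'
  have himg : (maximalIdeal A).toCotangent '' s = t := by
    ext v
    simp only [s, s', Set.image_insert_eq, Set.mem_insert_iff, Set.mem_image, Set.mem_diff,
      Set.mem_singleton_iff]
    constructor
    · rintro (rfl | ⟨_, ⟨w, ⟨hw, _⟩, rfl⟩, rfl⟩)
      · exact hxt
      · rw [hℓ]; exact hw
    · intro hv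
      by_cases hvx : v = xb
      · left; exact hvx
      · right; exact ⟨ℓ v, ⟨v, ⟨hv, hvx⟩, rfl⟩, hℓ v⟩
  have hspan : Submodule.span A s = ⊤ := by
    rw [← CotangentSpace.span_image_eq_top_iff, himg, htspan]
  -- generators of the maximal ideal of the quotient
  let π := Ideal.Quotient.mk (Ideal.span {x})
  have hπ : Function.Surjective π := Ideal.Quotient.mk_surjective
  have hmax : maximalIdeal (A ⧸ Ideal.span {x}) =
      Ideal.span (π '' ((fun z : maximalIdeal A => (z : A)) '' s')) := by
    rw [← map_maximalIdeal_of_surjective π hπ]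
    have h1 : maximalIdeal A = Ideal.span ((fun z : maximalIdeal A => (z : A)) '' s) := by
      have := congrArg (Submodule.map (maximalIdeal A).subtype) hspan
      rw [Submodule.map_span, Submodule.map_top, Submodule.range_subtype] at this
      exact this.symm
    conv_lhs => rw [h1]
    rw [Ideal.map_span]
    have : π '' ((fun z : maximalIdeal A => (z : A)) '' s) =
        insert 0 (π '' ((fun z : maximalIdeal A => (z : A)) '' s')) := by
      simp only [s, Set.image_insert_eq]
      congr 1
      exact Ideal.Quotient.eq_zero_iff_mem.mpr (Ideal.subset_span (Set.mem_singleton x))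
    rw [this]
    exact Submodule.span_insert_zero
  have hs'fin : s'.Finite := (htfin.subset Set.diff_subset).image _
  have hfin2 : (π '' ((fun z : maximalIdeal A => (z : A)) '' s')).Finite :=
    (hs'fin.image _).image _
  have hle1 : (maximalIdeal (A ⧸ Ideal.span {x})).spanFinrank ≤
      (π '' ((fun z : maximalIdeal A => (z : A)) '' s')).ncard := by
    rw [hmax]
    exact Submodule.spanFinrank_span_le_ncard_of_finite hfin2
  have hle2 : (π '' ((fun z : maximalIdeal A => (z : A)) '' s')).ncard ≤ (t \ {xb}).ncard := by
    refine (Set.ncard_image_le (hs'fin.image _)).trans ?_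
    refine (Set.ncard_image_le hs'fin).trans ?_
    exact Set.ncard_image_le (htfin.subset Set.diff_subset)
  have hcard2 : (t \ {xb}).ncard + 1 = t.ncard := by
    rw [Set.ncard_diff_singleton_add_one hxt htfin]
  omega

/-- A regular local ring modulo an element of `𝔪 \ 𝔪²` is regular. -/
theorem isRegularLocalRing_quotient_span_singleton [IsRegularLocalRing A]
    (x : A) (hx : x ∈ maximalIdeal A) (hx2 : x ∉ maximalIdeal A ^ 2) :
    IsRegularLocalRing (A ⧸ Ideal.span {x}) := by
  have hne : Ideal.span {x} ≠ ⊤ := by
    intro h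
    have : Ideal.span {x} ≤ maximalIdeal A := (Ideal.span_singleton_le_iff_mem _).mpr hx
    rw [h] at this
    exact (maximalIdeal.isMaximal A).ne_top (top_le_iff.mp this)
  haveI : Nontrivial (A ⧸ Ideal.span {x}) := Ideal.Quotient.nontrivial_iff.mpr hne
  haveI : IsLocalRing (A ⧸ Ideal.span {x}) :=
    IsLocalRing.of_surjective' (Ideal.Quotient.mk (Ideal.span {x})) Ideal.Quotient.mk_surjective
  apply IsRegularLocalRing.of_spanFinrank_maximalIdeal_le
  have h1 := spanFinrank_maximalIdeal_quotient_add_one_le x hx hx2
  have hreg : ((maximalIdeal A).spanFinrank : WithBot ℕ∞) = ringKrullDim A :=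
    IsRegularLocalRing.spanFinrank_maximalIdeal
  have h2 : ringKrullDim A ≤ ringKrullDim (A ⧸ Ideal.span {x}) + (Ideal.span {x}).spanFinrank :=
    ringKrullDim_le_ringKrullDim_quotient_add_spanFinrank _ (by
      rw [IsLocalRing.ringJacobson_eq_maximalIdeal]
      exact (Ideal.span_singleton_le_iff_mem _).mpr hx)
  have h3 : (Ideal.span {x}).spanFinrank ≤ 1 := by
    have := Submodule.spanFinrank_span_le_ncard_of_finite (R := A) (Set.finite_singleton x)
    simpa using this
  -- arithmetic in `WithBot ℕ∞`
  have hB : ringKrullDim (A ⧸ Ideal.span {x}) ≤ (maximalIdeal (A ⧸ Ideal.span {x})).spanFinrank :=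
    ringKrullDim_le_spanFinrank_maximalIdeal _
  obtain ⟨e, he⟩ : ∃ e : ℕ, ringKrullDim (A ⧸ Ideal.span {x}) = e := by
    have hnonneg : 0 ≤ ringKrullDim (A ⧸ Ideal.span {x}) := ringKrullDim_nonneg_of_nontrivial
    generalize ringKrullDim (A ⧸ Ideal.span {x}) = D at *
    induction D with
    | bot => simp at hnonneg
    | coe D =>
      induction D with
      | top => 
        exfalso
        have : ((⊤ : ℕ∞) : WithBot ℕ∞) ≤ ((maximalIdeal (A ⧸ Ideal.span {x})).spanFinrank : ℕ∞) := by
          exact_mod_cast hB
        rw [WithBot.coe_le_coe] at this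
        simp at this
      | coe e => exact ⟨e, rfl⟩
  rw [he] at h2 ⊢
  rw [← hreg] at h2
  have h4 : ((maximalIdeal A).spanFinrank : WithBot ℕ∞) ≤ ((e + 1 : ℕ) : WithBot ℕ∞) := by
    refine h2.trans ?_
    push_cast
    gcongr
    exact_mod_cast h3
  have h5 : (maximalIdeal A).spanFinrank ≤ e + 1 := by exact_mod_cast h4
  have h6 : (maximalIdeal (A ⧸ Ideal.span {x})).spanFinrank ≤ e := by omega
  exact_mod_cast h6

end Groth.Agent.Lib.Helper20.RegularQuotient
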