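import Mathlib

/-! Counting pairs (binary quadratic form, binary form of degree n) over a finite field with
nonvanishing resultant (helper20). -/

set_option autoImplicit false
set_option linter.unusedSectionVars false
set_option linter.unusedVariables false

open Polynomial

namespace Groth.Agent.Lib.Helper20.ResCount

variable {F : Type*} [Field F]
attribute [local instance] Classical.propDecidable

/-- polynomial from coefficient vector -/
noncomputable def pv (k : ℕ) (v : Fin (k + 1) → F) : F[X] := ∑ j : Fin (k + 1), C (v j) * X ^ (j : ℕ)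

theorem pv_coeff (k : ℕ) (v : Fin (k + 1) → F) (i : ℕ) :
    (pv k v).coeff i = if h : i < k + 1 then v ⟨i, h⟩ else 0 := by
  unfold pv
  rw [finsetSum_coeff]
  simp only [coeff_C_mul, coeff_X_pow]
  split_ifs with h
  · rw [Finset.sum_eq_single ⟨i, h⟩]
    · simp
    · intro j _ hj
      have : i ≠ (j : ℕ) := fun e => hj (Fin.ext e.symm)
      simp [this]
    · simp
  · apply Finset.sum_eq_zero
    intro j _
    have : i ≠ (j : ℕ) := fun e => h (e ▸ j.2)
    simp [this]

theorem pv_coeff_fin (k : ℕ) (v : Fin (k + 1) → F) (i : Fin (k + 1)) :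
    (pv k v).coeff (i : ℕ) = v i := by
  rw [pv_coeff, dif_pos i.2]

theorem pv_natDegree_le (k : ℕ) (v : Fin (k + 1) → F) : (pv k v).natDegree ≤ k := by
  rw [natDegree_le_iff_coeff_eq_zero]
  intro i hi
  rw [pv_coeff, dif_neg (by omega)]

theorem pv_injective (k : ℕ) : Function.Injective (pv (F := F) k) := by
  intro v w h
  funext i
  rw [← pv_coeff_fin k v i, ← pv_coeff_fin k w i, h]

theorem pv_of_coeff (k : ℕ) (P : F[X]) (hP : P.natDegree ≤ k) :
    pv k (fun j : Fin (k + 1) => P.coeff (j : ℕ)) = P := by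
  ext i
  rw [pv_coeff]
  split_ifs with h
  · rfl
  · exact (coeff_eq_zero_of_natDegree_lt (by omega)).symm

theorem pv_add (k : ℕ) (v w : Fin (k + 1) → F) : pv k (v + w) = pv k v + pv k w := by
  unfold pv
  rw [← Finset.sum_add_distrib]
  apply Finset.sum_congr rfl
  intro j _
  rw [Pi.add_apply, C_add, add_mul]

theorem pv_one (r : Fin 2 → F) : pv 1 r = C (r 1) * X + C (r 0) := by
  unfold pv
  rw [Fin.sum_univ_two]
  simp [add_comm]

theorem pv_two (a : Fin 3 → F) : pv 2 a = C (a 2) * X ^ 2 + C (a 1) * X + C (a 0) := by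
  unfold pv
  rw [Fin.sum_univ_three]
  simp
  ring

theorem res_two_one (f : F[X]) (r0 r1 : F) :
    resultant f (C r1 * X + C r0) 2 1 =
      f.coeff 2 * r0 ^ 2 - f.coeff 1 * r0 * r1 + f.coeff 0 * r1 ^ 2 := by
  rw [resultant, Matrix.det_fin_three]
  simp [sylvester, Fin.addCases, Fin.castLT, Fin.subNat]
  ring

/-- the quadratic expression -/
def Qf (a : Fin 3 → F) (r : Fin 2 → F) : F := a 2 * r 0 ^ 2 - a 1 * r 0 * r 1 + a 0 * r 1 ^ 2

theorem res_caseA (m : ℕ) (a : Fin 3 → F) (c : Fin (m + 1) → F) (r : Fin 2 → F) :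
    resultant (pv 2 a) (pv 1 r + pv 2 a * pv m c) 2 (m + 2) = a 2 ^ (m + 1) * Qf a r := by
  rw [resultant_add_mul_right _ _ _ _ _ (by have := pv_natDegree_le m c; omega)
    (pv_natDegree_le 2 a)]
  have e : m + 2 = 1 + (m + 1) := by omega
  rw [e, resultant_add_right_deg _ _ _ _ _ (pv_natDegree_le 1 r), pv_one, res_two_one]
  have h0 := pv_coeff_fin 2 a 0
  have h1 := pv_coeff_fin 2 a 1
  have h2 := pv_coeff_fin 2 a 2
  simp only [Fin.val_zero, Fin.val_one, Fin.val_two] at h0 h1 h2
  rw [h0, h1, h2, Qf]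

theorem res_caseB (n : ℕ) (a : Fin 3 → F) (ha2 : a 2 = 0) (g : F[X]) (hg : g.natDegree ≤ n) :
    resultant (pv 2 a) g 2 n =
      (-1) ^ n * g.coeff n * (if a 1 = 0 then (-1) ^ n * g.coeff n * a 0 ^ n
        else a 1 ^ n * eval (-(a 0 / a 1)) g) := by
  have hf : pv 2 a = C (a 1) * X + C (a 0) := by
    rw [pv_two, ha2]; simp
  have hdeg : (pv 2 a).natDegree ≤ 1 := by
    rw [hf]
    exact natDegree_linear_le
  have hs := resultant_succ_left_deg (pv 2 a) g 1 n hdeg
  rw [show resultant (pv 2 a) g 2 n = resultant (pv 2 a) g (1 + 1) n from rfl, hs]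
  congr 1
  split_ifs with h1
  · rw [hf, h1, C_0, zero_mul, zero_add, resultant_C_left, one_mul, pow_one]
  · have hf' : pv 2 a = C (a 1) * (X + C (a 0 / a 1)) := by
      rw [hf, mul_add, ← C_mul, mul_div_cancel₀ _ h1]
    rw [hf', resultant_C_mul_left, resultant_X_add_C_left _ _ _ hg]


section Count


theorem card_preimage {W U : Type*} [AddCommGroup W] [AddCommGroup U] [Fintype W] [Fintype U]
    (T : W →+ U) (hT : Function.Surjective T) (P : U → Prop) :
    Fintype.card {w // P (T w)} * Fintype.card U = Fintype.card {u // P u} * Fintype.card W := by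
  have hfib : ∀ u : U, Fintype.card {w // T w = u} = Fintype.card {w // T w = 0} := by
    intro u
    obtain ⟨w0, hw0⟩ := hT u
    apply Fintype.card_congr
    exact { toFun := fun w => ⟨w.1 - w0, by rw [map_sub, w.2, hw0, sub_self]⟩
            invFun := fun w => ⟨w.1 + w0, by rw [map_add, w.2, hw0, zero_add]⟩
            left_inv := fun w => by ext; simp
            right_inv := fun w => by ext; simp }
  have h1 : Fintype.card W = Fintype.card U * Fintype.card {w // T w = 0} := by
    rw [← Fintype.card_congr (Equiv.sigmaFiberEquiv T), Fintype.card_sigma]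
    simp [hfib]
  have h2 : Fintype.card {w // P (T w)} =
      Fintype.card {u // P u} * Fintype.card {w // T w = 0} := by
    rw [← Fintype.card_congr (Equiv.sigmaSubtypeFiberEquivSubtype T
      (p := fun w => P (T w)) (q := P) (fun w => Iff.rfl)), Fintype.card_sigma]
    simp [hfib]
  rw [h1, h2]; ring

theorem card_pairs_const {A B : Type*} [Fintype A] [Fintype B] (PA : A → Prop)
    (PR : A → B → Prop) (c : ℕ) (h : ∀ a, PA a → Fintype.card {b // PR a b} = c) :
    Fintype.card {p : A × B // PA p.1 ∧ PR p.1 p.2} = Fintype.card {a // PA a} * c := by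
  have e : {p : A × B // PA p.1 ∧ PR p.1 p.2} ≃ Σ a : {a // PA a}, {b // PR a.1 b} :=
    { toFun := fun p => ⟨⟨p.1.1, p.2.1⟩, ⟨p.1.2, p.2.2⟩⟩
      invFun := fun s => ⟨(s.1.1, s.2.1), ⟨s.1.2, s.2.2⟩⟩
      left_inv := fun p => rfl
      right_inv := fun s => rfl }
  rw [Fintype.card_congr e, Fintype.card_sigma]
  rw [Finset.sum_congr rfl (fun a _ => h a.1 a.2)]
  simp

theorem card_split {X : Type*} [Fintype X] (S D : X → Prop) :
    Fintype.card {x // S x} = Fintype.card {x // D x ∧ S x} + Fintype.card {x // ¬ D x ∧ S x} := by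
  rw [Fintype.card_subtype, Fintype.card_subtype, Fintype.card_subtype]
  rw [← Finset.card_filter_add_card_filter_not (s := Finset.univ.filter S) D]
  rw [Finset.filter_filter, Finset.filter_filter]
  congr 2
  · ext x; simp [and_comm]
  · ext x; simp [and_comm]

theorem card_iff {X : Type*} [Fintype X] (S S' : X → Prop) (h : ∀ x, S x ↔ S' x) :
    Fintype.card {x // S x} = Fintype.card {x // S' x} :=
  Fintype.card_congr (Equiv.subtypeEquivRight h)

theorem card_false {X : Type*} [Fintype X] (S : X → Prop) (h : ∀ x, ¬ S x) :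
    Fintype.card {x // S x} = 0 := by
  rw [Fintype.card_eq_zero_iff]
  exact ⟨fun x => h x.1 x.2⟩

variable (F : Type*) [Field F] [Fintype F]

theorem card_ne_zero : Fintype.card F = Fintype.card {x : F // x ≠ 0} + 1 := by
  rw [Fintype.card_eq_card_units_add_one (α := F)]
  congr 1
  exact Fintype.card_congr unitsEquivNeZero

theorem card_ne_ne : Fintype.card {u : F × F // u.1 ≠ 0 ∧ u.2 ≠ 0} =
    Fintype.card {x : F // x ≠ 0} * Fintype.card {x : F // x ≠ 0} := by
  rw [← Fintype.card_prod]
  exact Fintype.card_congr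
    { toFun := fun u => (⟨u.1.1, u.2.1⟩, ⟨u.1.2, u.2.2⟩)
      invFun := fun v => ⟨(v.1.1, v.2.1), ⟨v.1.2, v.2.2⟩⟩
      left_inv := fun u => rfl
      right_inv := fun v => rfl }

theorem card_ne_eq : Fintype.card {u : F × F // u.1 ≠ 0 ∧ u.2 = 0} =
    Fintype.card {x : F // x ≠ 0} := by
  exact Fintype.card_congr
    { toFun := fun u => ⟨u.1.1, u.2.1⟩
      invFun := fun v => ⟨(v.1, 0), ⟨v.2, rfl⟩⟩
      left_inv := fun u => by
        obtain ⟨⟨x, y⟩, h1, h2⟩ := u
        simp only at h2
        subst h2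
        rfl
      right_inv := fun v => rfl }


end Count

section NCount

theorem ncard_preimage {W U : Type*} [AddCommGroup W] [AddCommGroup U] [Fintype W] [Fintype U]
    (T : W →+ U) (hT : Function.Surjective T) (P : U → Prop) :
    Nat.card {w // P (T w)} * Nat.card U = Nat.card {u // P u} * Nat.card W := by
  simp only [Nat.card_eq_fintype_card]
  exact card_preimage T hT P

theorem ncard_pairs_const {A B : Type*} [Fintype A] [Fintype B] (PA : A → Prop)
    (PR : A → B → Prop) (c : ℕ) (h : ∀ a, PA a → Nat.card {b // PR a b} = c) :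
    Nat.card {p : A × B // PA p.1 ∧ PR p.1 p.2} = Nat.card {a // PA a} * c := by
  simp only [Nat.card_eq_fintype_card] at h ⊢
  exact card_pairs_const PA PR c h

theorem ncard_split {X : Type*} [Fintype X] (S D : X → Prop) :
    Nat.card {x // S x} = Nat.card {x // D x ∧ S x} + Nat.card {x // ¬ D x ∧ S x} := by
  simp only [Nat.card_eq_fintype_card]
  exact card_split S D

theorem ncard_iff {X : Type*} (S S' : X → Prop) (h : ∀ x, S x ↔ S' x) :
    Nat.card {x // S x} = Nat.card {x // S' x} :=
  Nat.card_congr (Equiv.subtypeEquivRight h)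

theorem ncard_false {X : Type*} (S : X → Prop) (h : ∀ x, ¬ S x) :
    Nat.card {x // S x} = 0 := by
  have : IsEmpty {x // S x} := ⟨fun x => h x.1 x.2⟩
  exact Nat.card_of_isEmpty

variable (F : Type*) [Field F] [Fintype F]

theorem ncard_ne_zero : Nat.card F = Nat.card {x : F // x ≠ 0} + 1 := by
  simp only [Nat.card_eq_fintype_card]
  exact card_ne_zero F

theorem ncard_ne_ne : Nat.card {u : F × F // u.1 ≠ 0 ∧ u.2 ≠ 0} =
    Nat.card {x : F // x ≠ 0} * Nat.card {x : F // x ≠ 0} := by
  simp only [Nat.card_eq_fintype_card]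
  exact card_ne_ne F

theorem ncard_ne_eq : Nat.card {u : F × F // u.1 ≠ 0 ∧ u.2 = 0} =
    Nat.card {x : F // x ≠ 0} := by
  simp only [Nat.card_eq_fintype_card]
  exact card_ne_eq F

end NCount

end Groth.Agent.Lib.Helper20.ResCount
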