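import Mathlib
import Groth.Agent.Lib.Helper20.ResCount

set_option autoImplicit false
set_option linter.unusedSectionVars false
set_option linter.unusedVariables false

open Polynomial

namespace Groth.Agent.Lib.Helper20.ResCount

variable (F : Type*) [Field F] [Fintype F]

/-- number of nonzero elements -/
noncomputable abbrev kk : ℕ := Nat.card {x : F // x ≠ 0}
noncomputable abbrev qq : ℕ := Nat.card F

theorem qq_eq : qq F = kk F + 1 := ncard_ne_zero F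

theorem qq_pos : 0 < qq F := Nat.card_pos

theorem card_vec (d : ℕ) : Nat.card (Fin d → F) = qq F ^ d := by
  rw [Nat.card_fun, Nat.card_fin]

theorem count_coord (d : ℕ) (i : Fin d) :
    Nat.card {v : Fin d → F // v i ≠ 0} * qq F = kk F * qq F ^ d := by
  have h := ncard_preimage (Pi.evalAddMonoidHom (fun _ : Fin d => F) i)
    (Function.surjective_eval i) (fun x => x ≠ 0)
  rw [card_vec] at h
  exact h

theorem count_coord2 (d : ℕ) (i j : Fin d) (hij : i ≠ j) :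
    Nat.card {v : Fin d → F // v i ≠ 0 ∧ v j = 0} * (qq F * qq F) = kk F * qq F ^ d := by
  let T : (Fin d → F) →+ F × F :=
    AddMonoidHom.mk' (fun v => (v i, v j)) (fun v w => rfl)
  have hT : Function.Surjective T := by
    rintro ⟨x, y⟩
    refine ⟨Function.update (Function.update (fun _ => (0 : F)) i x) j y, ?_⟩
    show ((Function.update (Function.update (fun _ => (0 : F)) i x) j y) i,
      (Function.update (Function.update (fun _ => (0 : F)) i x) j y) j) = (x, y)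
    rw [Function.update_self, Function.update_of_ne hij, Function.update_self]
  have h := ncard_preimage T hT (fun u => u.1 ≠ 0 ∧ u.2 = 0)
  rw [card_vec, ncard_ne_eq, Nat.card_prod] at h
  exact h

theorem cancel_q {x y : ℕ} (h : x * qq F = y * qq F) : x = y :=
  Nat.eq_of_mul_eq_mul_right (qq_pos F) h

theorem card_a2_ne : Nat.card {a : Fin 3 → F // a 2 ≠ 0} = kk F * qq F ^ 2 := by
  apply cancel_q F
  rw [count_coord F 3 2]; ring

theorem card_r1_ne : Nat.card {r : Fin 2 → F // r 1 ≠ 0} = kk F * qq F := by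
  apply cancel_q F
  rw [count_coord F 2 1]; ring

theorem card_a2_eq_a1_ne : Nat.card {a : Fin 3 → F // a 2 = 0 ∧ a 1 ≠ 0} = kk F * qq F := by
  rw [ncard_iff _ (fun a : Fin 3 → F => a 1 ≠ 0 ∧ a 2 = 0) (fun a => and_comm)]
  apply cancel_q F
  apply cancel_q F
  have h := count_coord2 F 3 1 2 (by decide)
  rw [mul_assoc, h]; ring

theorem card_a_axis : Nat.card {a : Fin 3 → F // a 2 = 0 ∧ a 1 = 0 ∧ a 0 ≠ 0} = kk F := by
  apply Nat.card_congr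
  exact
    { toFun := fun a => ⟨a.1 0, a.2.2.2⟩
      invFun := fun x => ⟨![x.1, 0, 0], by simp [x.2]⟩
      left_inv := fun a => by
        obtain ⟨a, h2, h1, h0⟩ := a
        apply Subtype.ext
        funext i
        fin_cases i
        · rfl
        · exact h1.symm
        · exact h2.symm
      right_inv := fun x => rfl }

theorem card_r_axis : Nat.card {r : Fin 2 → F // r 1 = 0 ∧ r 0 ≠ 0} = kk F := by
  apply Nat.card_congr
  exact
    { toFun := fun r => ⟨r.1 0, r.2.2⟩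
      invFun := fun x => ⟨![x.1, 0], by simp [x.2]⟩
      left_inv := fun r => by
        obtain ⟨r, h1, h0⟩ := r
        apply Subtype.ext
        funext i
        fin_cases i
        · rfl
        · exact h1.symm
      right_inv := fun x => rfl }

variable {F}

theorem res_ne_zero_iff_B1 (m : ℕ) (a : Fin 3 → F) (ha2 : a 2 = 0) (ha1 : a 1 ≠ 0)
    (b : Fin (m + 2 + 1) → F) :
    resultant (pv 2 a) (pv (m + 2) b) 2 (m + 2) ≠ 0 ↔
      b (Fin.last (m + 2)) ≠ 0 ∧ eval (-(a 0 / a 1)) (pv (m + 2) b) ≠ 0 := by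
  rw [res_caseB (m + 2) a ha2 _ (pv_natDegree_le (m + 2) b), if_neg ha1]
  have hc : (pv (m + 2) b).coeff (m + 2) = b (Fin.last (m + 2)) := by
    have := pv_coeff_fin (m + 2) b (Fin.last (m + 2))
    rwa [Fin.val_last] at this
  rw [hc]
  constructor
  · intro h
    refine ⟨fun h0 => h ?_, fun h0 => h ?_⟩
    · rw [h0]; ring
    · rw [h0]; ring
  · rintro ⟨h1, h2⟩
    exact mul_ne_zero (mul_ne_zero (pow_ne_zero _ (by norm_num)) h1)
      (mul_ne_zero (pow_ne_zero _ ha1) h2)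

theorem res_ne_zero_iff_B2 (m : ℕ) (a : Fin 3 → F) (ha2 : a 2 = 0) (ha1 : a 1 = 0)
    (b : Fin (m + 2 + 1) → F) :
    resultant (pv 2 a) (pv (m + 2) b) 2 (m + 2) ≠ 0 ↔
      a 0 ≠ 0 ∧ b (Fin.last (m + 2)) ≠ 0 := by
  rw [res_caseB (m + 2) a ha2 _ (pv_natDegree_le (m + 2) b), if_pos ha1]
  have hc : (pv (m + 2) b).coeff (m + 2) = b (Fin.last (m + 2)) := by
    have := pv_coeff_fin (m + 2) b (Fin.last (m + 2))
    rwa [Fin.val_last] at this
  rw [hc]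
  constructor
  · intro h
    refine ⟨fun h0 => h ?_, fun h0 => h ?_⟩
    · rw [h0, zero_pow (by omega)]; ring
    · rw [h0]; ring
  · rintro ⟨h1, h2⟩
    exact mul_ne_zero (mul_ne_zero (pow_ne_zero _ (by norm_num)) h2)
      (mul_ne_zero (mul_ne_zero (pow_ne_zero _ (by norm_num)) h2) (pow_ne_zero _ h1))

variable (F)

theorem count_N1 (m : ℕ) (a : Fin 3 → F) (ha2 : a 2 = 0) (ha1 : a 1 ≠ 0) :
    Nat.card {b : Fin (m + 2 + 1) → F // resultant (pv 2 a) (pv (m + 2) b) 2 (m + 2) ≠ 0} =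
      kk F ^ 2 * qq F ^ (m + 1) := by
  let c : F := -(a 0 / a 1)
  let T : (Fin (m + 2 + 1) → F) →+ F × F :=
    AddMonoidHom.mk' (fun b => (b (Fin.last (m + 2)), eval c (pv (m + 2) b)))
      (fun b b' => by
        show ((b + b') (Fin.last (m + 2)), eval c (pv (m + 2) (b + b'))) =
          (b (Fin.last (m + 2)), eval c (pv (m + 2) b)) +
            (b' (Fin.last (m + 2)), eval c (pv (m + 2) b'))
        rw [pv_add, eval_add]; rfl)
  have hT : Function.Surjective T := by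
    rintro ⟨x, y⟩
    obtain ⟨P, hP⟩ : ∃ P : F[X], P = C x * X ^ (m + 2) + C (y - x * c ^ (m + 2)) := ⟨_, rfl⟩
    have hdeg : P.natDegree ≤ m + 2 := by
      rw [hP]
      refine (natDegree_add_le _ _).trans (max_le (natDegree_C_mul_X_pow_le _ _) ?_)
      rw [natDegree_C]; omega
    refine ⟨fun j => P.coeff (j : ℕ), ?_⟩
    show ((fun j : Fin (m + 2 + 1) => P.coeff (j : ℕ)) (Fin.last (m + 2)),
      eval c (pv (m + 2) (fun j : Fin (m + 2 + 1) => P.coeff (j : ℕ)))) = (x, y)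
    rw [pv_of_coeff (m + 2) P hdeg]
    have h1 : P.coeff ((Fin.last (m + 2) : Fin (m + 2 + 1)) : ℕ) = x := by
      rw [Fin.val_last, hP, coeff_add, coeff_C_mul, coeff_X_pow, if_pos rfl, coeff_C,
        if_neg (by omega)]
      ring
    have h2 : eval c P = y := by
      rw [hP]
      simp
    exact Prod.ext h1 h2
  have h := ncard_preimage T hT (fun u => u.1 ≠ 0 ∧ u.2 ≠ 0)
  rw [ncard_ne_ne, Nat.card_prod, card_vec] at h
  have e : Nat.card {b : Fin (m + 2 + 1) → F //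
      resultant (pv 2 a) (pv (m + 2) b) 2 (m + 2) ≠ 0} =
      Nat.card {w : Fin (m + 2 + 1) → F // (T w).1 ≠ 0 ∧ (T w).2 ≠ 0} :=
    ncard_iff _ _ (fun b => res_ne_zero_iff_B1 m a ha2 ha1 b)
  rw [e]
  apply cancel_q F
  apply cancel_q F
  rw [mul_assoc, h]
  ring

theorem count_N2 (m : ℕ) (a : Fin 3 → F) (ha2 : a 2 = 0) (ha1 : a 1 = 0) (ha0 : a 0 ≠ 0) :
    Nat.card {b : Fin (m + 2 + 1) → F // resultant (pv 2 a) (pv (m + 2) b) 2 (m + 2) ≠ 0} =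
      kk F * qq F ^ (m + 2) := by
  rw [ncard_iff _ (fun b : Fin (m + 2 + 1) → F => b (Fin.last (m + 2)) ≠ 0)
    (fun b => by rw [res_ne_zero_iff_B2 m a ha2 ha1 b]; exact and_iff_right ha0)]
  apply cancel_q F
  rw [count_coord F (m + 2 + 1) (Fin.last (m + 2))]
  ring

theorem count_N3 (m : ℕ) (a : Fin 3 → F) (ha2 : a 2 = 0) (ha1 : a 1 = 0) (ha0 : a 0 = 0) :
    Nat.card {b : Fin (m + 2 + 1) → F // resultant (pv 2 a) (pv (m + 2) b) 2 (m + 2) ≠ 0} = 0 := by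
  apply ncard_false
  intro b hb
  rw [res_ne_zero_iff_B2 m a ha2 ha1 b] at hb
  exact hb.1 ha0

variable {F}

/-- `(c, r) ↦ r + f * c` on coefficient vectors -/
noncomputable def Psi (m : ℕ) (a : Fin 3 → F) (x : (Fin (m + 1) → F) × (Fin 2 → F)) :
    Fin (m + 2 + 1) → F :=
  fun j => (pv 1 x.2 + pv 2 a * pv m x.1).coeff (j : ℕ)

theorem pv_Psi (m : ℕ) (a : Fin 3 → F) (x : (Fin (m + 1) → F) × (Fin 2 → F)) :
    pv (m + 2) (Psi m a x) = pv 1 x.2 + pv 2 a * pv m x.1 := by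
  apply pv_of_coeff
  refine (natDegree_add_le _ _).trans (max_le ?_ ?_)
  · exact (pv_natDegree_le 1 x.2).trans (by omega)
  · refine natDegree_mul_le.trans ?_
    have h1 := pv_natDegree_le 2 a
    have h2 := pv_natDegree_le m x.1
    omega

theorem natDegree_pv_two (a : Fin 3 → F) (ha2 : a 2 ≠ 0) : (pv 2 a).natDegree = 2 := by
  apply natDegree_eq_of_le_of_coeff_ne_zero (pv_natDegree_le 2 a)
  have := pv_coeff_fin 2 a 2
  simp only [Fin.val_two] at this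
  rw [this]
  exact ha2

theorem Psi_injective (m : ℕ) (a : Fin 3 → F) (ha2 : a 2 ≠ 0) :
    Function.Injective (Psi m a) := by
  intro x y h
  have hp := congrArg (pv (m + 2)) h
  rw [pv_Psi, pv_Psi] at hp
  have hc : pv m x.1 = pv m y.1 := by
    by_contra hne
    have hd : pv m x.1 - pv m y.1 ≠ 0 := sub_ne_zero.mpr hne
    have he : pv 2 a * (pv m x.1 - pv m y.1) = pv 1 y.2 - pv 1 x.2 := by
      linear_combination hp
    have hf0 : pv 2 a ≠ 0 := by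
      intro h0
      have := natDegree_pv_two a ha2
      rw [h0, natDegree_zero] at this
      omega
    have h1 : (pv 2 a * (pv m x.1 - pv m y.1)).natDegree =
        2 + (pv m x.1 - pv m y.1).natDegree := by
      rw [natDegree_mul hf0 hd, natDegree_pv_two a ha2]
    have h2 : (pv 1 y.2 - pv 1 x.2).natDegree ≤ 1 :=
      (natDegree_sub_le _ _).trans (max_le (pv_natDegree_le 1 _) (pv_natDegree_le 1 _))
    rw [he] at h1
    omega
  have hr : pv 1 x.2 = pv 1 y.2 := by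
    rw [hc] at hp
    exact add_right_cancel hp
  exact Prod.ext (pv_injective m hc) (pv_injective 1 hr)

variable (F)

theorem Psi_bijective (m : ℕ) (a : Fin 3 → F) (ha2 : a 2 ≠ 0) :
    Function.Bijective (Psi m a) := by
  rw [Fintype.bijective_iff_injective_and_card]
  refine ⟨Psi_injective m a ha2, ?_⟩
  simp only [Fintype.card_prod, Fintype.card_fun, Fintype.card_fin]
  ring

theorem count_NA (m : ℕ) :
    Nat.card {p : (Fin 3 → F) × (Fin (m + 2 + 1) → F) //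
      p.1 2 ≠ 0 ∧ resultant (pv 2 p.1) (pv (m + 2) p.2) 2 (m + 2) ≠ 0} =
    qq F ^ (m + 1) *
      Nat.card {t : (Fin 3 → F) × (Fin 2 → F) // t.1 2 ≠ 0 ∧ Qf t.1 t.2 ≠ 0} := by
  rw [← card_vec F (m + 1), ← Nat.card_prod]
  symm
  let Φ : (Fin (m + 1) → F) × {t : (Fin 3 → F) × (Fin 2 → F) // t.1 2 ≠ 0 ∧ Qf t.1 t.2 ≠ 0} →
      {p : (Fin 3 → F) × (Fin (m + 2 + 1) → F) //
        p.1 2 ≠ 0 ∧ resultant (pv 2 p.1) (pv (m + 2) p.2) 2 (m + 2) ≠ 0} :=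
    fun x => ⟨(x.2.1.1, Psi m x.2.1.1 (x.1, x.2.1.2)), by
      refine ⟨x.2.2.1, ?_⟩
      show resultant (pv 2 x.2.1.1) (pv (m + 2) (Psi m x.2.1.1 (x.1, x.2.1.2))) 2 (m + 2) ≠ 0
      rw [pv_Psi, res_caseA]
      exact mul_ne_zero (pow_ne_zero _ x.2.2.1) x.2.2.2⟩
  apply Nat.card_congr (Equiv.ofBijective Φ ⟨?_, ?_⟩)
  · rintro ⟨c, ⟨⟨a, r⟩, h1, h2⟩⟩ ⟨c', ⟨⟨a', r'⟩, h1', h2'⟩⟩ h
    have h' := congrArg Subtype.val h
    simp only [Φ] at h'
    have ha : a = a' := (Prod.ext_iff.mp h').1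
    subst ha
    have hb : Psi m a (c, r) = Psi m a (c', r') := (Prod.ext_iff.mp h').2
    have := Psi_injective m a h1 hb
    obtain ⟨hc, hr⟩ := Prod.ext_iff.mp this
    simp only at hc hr
    subst hc
    subst hr
    rfl
  · rintro ⟨⟨a, b⟩, h1, h2⟩
    simp only at h1 h2
    obtain ⟨⟨c, r⟩, hcr⟩ := (Psi_bijective F m a h1).2 b
    have hQ : Qf a r ≠ 0 := by
      intro h0
      apply h2
      rw [← hcr, pv_Psi, res_caseA, h0, mul_zero]
    refine ⟨(c, ⟨(a, r), h1, hQ⟩), ?_⟩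
    apply Subtype.ext
    show (a, Psi m a (c, r)) = (a, b)
    rw [hcr]

variable {F}

theorem Qf_add (a a' : Fin 3 → F) (r : Fin 2 → F) : Qf (a + a') r = Qf a r + Qf a' r := by
  simp only [Qf, Pi.add_apply]
  ring

variable (F)

theorem count_T1 (r : Fin 2 → F) (hr1 : r 1 ≠ 0) :
    Nat.card {a : Fin 3 → F // a 2 ≠ 0 ∧ Qf a r ≠ 0} = kk F ^ 2 * qq F := by
  let T : (Fin 3 → F) →+ F × F :=
    AddMonoidHom.mk' (fun a => (a 2, Qf a r)) (fun a a' => by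
      show ((a + a') 2, Qf (a + a') r) = (a 2, Qf a r) + (a' 2, Qf a' r)
      rw [Qf_add]; rfl)
  have hT : Function.Surjective T := by
    rintro ⟨x, y⟩
    refine ⟨![(y - x * r 0 ^ 2) / r 1 ^ 2, 0, x], ?_⟩
    show ((![(y - x * r 0 ^ 2) / r 1 ^ 2, 0, x] : Fin 3 → F) 2,
      Qf ![(y - x * r 0 ^ 2) / r 1 ^ 2, 0, x] r) = (x, y)
    refine Prod.ext rfl ?_
    show Qf ![(y - x * r 0 ^ 2) / r 1 ^ 2, 0, x] r = y
    simp only [Qf, Matrix.cons_val_zero, Matrix.cons_val_one, Matrix.cons_val_two,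
      Matrix.head_cons, Matrix.tail_cons]
    field_simp
    ring
  have h := ncard_preimage T hT (fun u => u.1 ≠ 0 ∧ u.2 ≠ 0)
  rw [ncard_ne_ne, Nat.card_prod, card_vec] at h
  apply cancel_q F
  apply cancel_q F
  have e : Nat.card {a : Fin 3 → F // a 2 ≠ 0 ∧ Qf a r ≠ 0} =
      Nat.card {w : Fin 3 → F // (T w).1 ≠ 0 ∧ (T w).2 ≠ 0} := rfl
  rw [e, mul_assoc, h]
  ring

theorem count_T2 (r : Fin 2 → F) (hr1 : r 1 = 0) (hr0 : r 0 ≠ 0) :
    Nat.card {a : Fin 3 → F // a 2 ≠ 0 ∧ Qf a r ≠ 0} = kk F * qq F ^ 2 := by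
  rw [ncard_iff _ (fun a : Fin 3 → F => a 2 ≠ 0) (fun a => by
    constructor
    · exact fun h => h.1
    · intro h
      refine ⟨h, ?_⟩
      simp only [Qf, hr1]
      have : a 2 * r 0 ^ 2 ≠ 0 := mul_ne_zero h (pow_ne_zero _ hr0)
      simpa using this)]
  exact card_a2_ne F

theorem count_T3 (r : Fin 2 → F) (hr1 : r 1 = 0) (hr0 : r 0 = 0) :
    Nat.card {a : Fin 3 → F // a 2 ≠ 0 ∧ Qf a r ≠ 0} = 0 := by
  apply ncard_false
  rintro a ⟨_, h⟩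
  apply h
  simp [Qf, hr1, hr0]

theorem count_T :
    Nat.card {t : (Fin 3 → F) × (Fin 2 → F) // t.1 2 ≠ 0 ∧ Qf t.1 t.2 ≠ 0} =
      kk F ^ 2 * qq F ^ 3 := by
  have e1 : Nat.card {t : (Fin 3 → F) × (Fin 2 → F) // t.1 2 ≠ 0 ∧ Qf t.1 t.2 ≠ 0} =
      Nat.card {s : (Fin 2 → F) × (Fin 3 → F) // s.2 2 ≠ 0 ∧ Qf s.2 s.1 ≠ 0} :=
    Nat.card_congr (Equiv.subtypeEquiv (Equiv.prodComm _ _) (fun t => Iff.rfl))
  rw [e1, ncard_split _ (fun s : (Fin 2 → F) × (Fin 3 → F) => s.1 1 ≠ 0)]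
  rw [ncard_pairs_const (fun r : Fin 2 → F => r 1 ≠ 0)
    (fun r (a : Fin 3 → F) => a 2 ≠ 0 ∧ Qf a r ≠ 0) (kk F ^ 2 * qq F) (count_T1 F)]
  rw [ncard_split (fun s : (Fin 2 → F) × (Fin 3 → F) =>
    ¬ s.1 1 ≠ 0 ∧ (s.2 2 ≠ 0 ∧ Qf s.2 s.1 ≠ 0)) (fun s => s.1 0 ≠ 0)]
  have e2 : Nat.card {s : (Fin 2 → F) × (Fin 3 → F) //
      s.1 0 ≠ 0 ∧ (¬ s.1 1 ≠ 0 ∧ (s.2 2 ≠ 0 ∧ Qf s.2 s.1 ≠ 0))} =
      Nat.card {s : (Fin 2 → F) × (Fin 3 → F) //
        (s.1 1 = 0 ∧ s.1 0 ≠ 0) ∧ (s.2 2 ≠ 0 ∧ Qf s.2 s.1 ≠ 0)} :=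
    ncard_iff _ _ (fun s => by
      rw [not_not]
      tauto)
  rw [e2, ncard_pairs_const (fun r : Fin 2 → F => r 1 = 0 ∧ r 0 ≠ 0)
    (fun r (a : Fin 3 → F) => a 2 ≠ 0 ∧ Qf a r ≠ 0) (kk F * qq F ^ 2)
    (fun r hr => count_T2 F r hr.1 hr.2)]
  have e3 : Nat.card {s : (Fin 2 → F) × (Fin 3 → F) //
      ¬ s.1 0 ≠ 0 ∧ (¬ s.1 1 ≠ 0 ∧ (s.2 2 ≠ 0 ∧ Qf s.2 s.1 ≠ 0))} = 0 := by
    apply ncard_false
    rintro s ⟨h0, h1, _, hq⟩
    rw [not_not] at h0 h1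
    apply hq
    simp [Qf, h0, h1]
  rw [e3, card_r1_ne, card_r_axis, qq_eq]
  ring

theorem count_total (m : ℕ) :
    Nat.card {p : (Fin 3 → F) × (Fin (m + 2 + 1) → F) //
      resultant (pv 2 p.1) (pv (m + 2) p.2) 2 (m + 2) ≠ 0} =
      kk F ^ 2 * (qq F + 1) * qq F ^ (m + 3) := by
  rw [ncard_split _ (fun p : (Fin 3 → F) × (Fin (m + 2 + 1) → F) => p.1 2 ≠ 0)]
  rw [count_NA, count_T]
  rw [ncard_split (fun p : (Fin 3 → F) × (Fin (m + 2 + 1) → F) =>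
    ¬ p.1 2 ≠ 0 ∧ resultant (pv 2 p.1) (pv (m + 2) p.2) 2 (m + 2) ≠ 0) (fun p => p.1 1 ≠ 0)]
  have e1 : Nat.card {p : (Fin 3 → F) × (Fin (m + 2 + 1) → F) //
      p.1 1 ≠ 0 ∧ (¬ p.1 2 ≠ 0 ∧ resultant (pv 2 p.1) (pv (m + 2) p.2) 2 (m + 2) ≠ 0)} =
      Nat.card {p : (Fin 3 → F) × (Fin (m + 2 + 1) → F) //
        (p.1 2 = 0 ∧ p.1 1 ≠ 0) ∧ resultant (pv 2 p.1) (pv (m + 2) p.2) 2 (m + 2) ≠ 0} :=
    ncard_iff _ _ (fun p => by
      rw [not_not]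
      tauto)
  rw [e1, ncard_pairs_const (fun a : Fin 3 → F => a 2 = 0 ∧ a 1 ≠ 0)
    (fun a (b : Fin (m + 2 + 1) → F) => resultant (pv 2 a) (pv (m + 2) b) 2 (m + 2) ≠ 0)
    (kk F ^ 2 * qq F ^ (m + 1)) (fun a ha => count_N1 F m a ha.1 ha.2)]
  rw [ncard_split (fun p : (Fin 3 → F) × (Fin (m + 2 + 1) → F) =>
    ¬ p.1 1 ≠ 0 ∧ (¬ p.1 2 ≠ 0 ∧ resultant (pv 2 p.1) (pv (m + 2) p.2) 2 (m + 2) ≠ 0))
    (fun p => p.1 0 ≠ 0)]
  have e2 : Nat.card {p : (Fin 3 → F) × (Fin (m + 2 + 1) → F) //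
      p.1 0 ≠ 0 ∧ (¬ p.1 1 ≠ 0 ∧ (¬ p.1 2 ≠ 0 ∧
        resultant (pv 2 p.1) (pv (m + 2) p.2) 2 (m + 2) ≠ 0))} =
      Nat.card {p : (Fin 3 → F) × (Fin (m + 2 + 1) → F) //
        (p.1 2 = 0 ∧ p.1 1 = 0 ∧ p.1 0 ≠ 0) ∧
          resultant (pv 2 p.1) (pv (m + 2) p.2) 2 (m + 2) ≠ 0} :=
    ncard_iff _ _ (fun p => by
      rw [not_not, not_not]
      tauto)
  rw [e2, ncard_pairs_const (fun a : Fin 3 → F => a 2 = 0 ∧ a 1 = 0 ∧ a 0 ≠ 0)
    (fun a (b : Fin (m + 2 + 1) → F) => resultant (pv 2 a) (pv (m + 2) b) 2 (m + 2) ≠ 0)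
    (kk F * qq F ^ (m + 2)) (fun a ha => count_N2 F m a ha.1 ha.2.1 ha.2.2)]
  have e3 : Nat.card {p : (Fin 3 → F) × (Fin (m + 2 + 1) → F) //
      ¬ p.1 0 ≠ 0 ∧ (¬ p.1 1 ≠ 0 ∧ (¬ p.1 2 ≠ 0 ∧
        resultant (pv 2 p.1) (pv (m + 2) p.2) 2 (m + 2) ≠ 0))} = 0 := by
    apply ncard_false
    rintro p ⟨h0, h1, h2, hR⟩
    rw [not_not] at h0 h1 h2
    rw [res_ne_zero_iff_B2 m p.1 h2 h1 p.2] at hR
    exact hR.1 h0
  rw [e3, card_a2_eq_a1_ne, card_a_axis, qq_eq]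
  ring

end Groth.Agent.Lib.Helper20.ResCount
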