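import Mathlib

/-!
# The sum `∑_{0<i<N} ζ^{ij} / (2 - ζ^i - ζ^{-i}) = j(j-N)/2 + (N²-1)/12`
-/
set_option autoImplicit false
universe u

namespace Groth.Agent.Lib.Helper20

theorem sum_Ioo_eq {M : Type*} [AddCommGroup M] (f : ℕ → M) {N : ℕ} (hN : 0 < N) :
    ∑ i ∈ Finset.Ioo 0 N, f i = ∑ i ∈ Finset.range N, f i - f 0 := by
  rw [Finset.range_eq_Ico, Finset.sum_eq_sum_Ico_succ_bot hN]
  have : Finset.Ico (0 + 1) N = Finset.Ioo 0 N := by
    ext x; simp [Finset.mem_Ico, Finset.mem_Ioo]; omega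
  rw [this]; abel

namespace RootSum

section
variable {K : Type*} [Field K]

/-- the weight `1 / (2 - ζ^i - ζ^{-i})` -/
noncomputable def wt (ζ : K) (i : ℕ) : K := (2 - ζ ^ i - (ζ ^ i)⁻¹)⁻¹

/-- the sum `∑_{0<i<N} ζ^{ij} / (2 - ζ^i - ζ^{-i})` -/
noncomputable def S (ζ : K) (N j : ℕ) : K := ∑ i ∈ Finset.Ioo 0 N, ζ ^ (i * j) * wt ζ i

theorem inv_den {x : K} (hx0 : x ≠ 0) (hx1 : x ≠ 1) :
    (2 - x - x⁻¹)⁻¹ = -x / (x - 1) ^ 2 := by
  have h1 : x - 1 ≠ 0 := sub_ne_zero.2 hx1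
  have h2 : 2 - x - x⁻¹ = -(x - 1) ^ 2 / x := by field_simp; ring
  rw [h2, inv_div]
  field_simp

variable {N : ℕ} {ζ : K} (hζ : IsPrimitiveRoot ζ N)
include hζ

theorem pow_ne_zero' (hN : 0 < N) (i : ℕ) : ζ ^ i ≠ 0 := pow_ne_zero _ (hζ.ne_zero hN.ne')

theorem pow_ne_one' {i : ℕ} (hi0 : 0 < i) (hiN : i < N) : ζ ^ i ≠ 1 :=
  hζ.pow_ne_one_of_pos_of_lt hi0.ne' hiN

omit hζ in
theorem geom_zero {x : K} (hx1 : x ≠ 1) (hxN : x ^ N = 1) : ∑ i ∈ Finset.range N, x ^ i = 0 := by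
  have := mul_geom_sum x N
  rw [hxN, sub_self] at this
  exact (mul_eq_zero.1 this).resolve_left (sub_ne_zero.2 hx1)

theorem S_rec (hN : 0 < N) {j : ℕ} (hj : ¬ N ∣ j + 1) :
    S ζ N (j + 2) - 2 * S ζ N (j + 1) + S ζ N j = 1 := by
  have hterm : ∀ i ∈ Finset.Ioo 0 N, ζ ^ (i * (j + 2)) * wt ζ i - 2 * (ζ ^ (i * (j + 1)) * wt ζ i) +
      ζ ^ (i * j) * wt ζ i = -(ζ ^ (j + 1)) ^ i := by
    intro i hi
    obtain ⟨hi0, hiN⟩ := Finset.mem_Ioo.1 hi
    have hx0 := pow_ne_zero' hζ hN i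
    have hx1 := pow_ne_one' hζ hi0 hiN
    have h1 : ζ ^ i - 1 ≠ 0 := sub_ne_zero.2 hx1
    have e2 : ζ ^ (i * (j + 2)) = (ζ ^ i) ^ (j + 2) := pow_mul _ _ _
    have e1 : ζ ^ (i * (j + 1)) = (ζ ^ i) ^ (j + 1) := pow_mul _ _ _
    have e0 : ζ ^ (i * j) = (ζ ^ i) ^ j := pow_mul _ _ _
    have e3 : (ζ ^ (j + 1)) ^ i = (ζ ^ i) ^ (j + 1) := by rw [← pow_mul, ← pow_mul, mul_comm]
    rw [wt, inv_den hx0 hx1, e2, e1, e0, e3]
    generalize ζ ^ i = x at *
    field_simp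
    ring
  unfold S
  rw [Finset.mul_sum, ← Finset.sum_sub_distrib, ← Finset.sum_add_distrib, Finset.sum_congr rfl hterm,
    Finset.sum_neg_distrib, sum_Ioo_eq _ hN, pow_zero]
  have hx1 : ζ ^ (j + 1) ≠ 1 := fun h => hj ((hζ.pow_eq_one_iff_dvd _).1 h)
  have hxN : (ζ ^ (j + 1)) ^ N = 1 := by rw [← pow_mul, mul_comm, pow_mul, hζ.pow_eq_one, one_pow]
  rw [geom_zero hx1 hxN]
  ring

theorem S_N : S ζ N N = S ζ N 0 := by
  unfold S
  refine Finset.sum_congr rfl (fun i _ => ?_)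
  rw [mul_comm i N, pow_mul, hζ.pow_eq_one, one_pow, mul_zero, pow_zero]

theorem sum_S : ∑ j ∈ Finset.range N, S ζ N j = 0 := by
  unfold S
  rw [Finset.sum_comm]
  refine Finset.sum_eq_zero (fun i hi => ?_)
  obtain ⟨hi0, hiN⟩ := Finset.mem_Ioo.1 hi
  rw [← Finset.sum_mul]
  have : ∑ j ∈ Finset.range N, ζ ^ (i * j) = 0 := by
    simp_rw [pow_mul]
    refine geom_zero (pow_ne_one' hζ hi0 hiN) ?_
    rw [← pow_mul, mul_comm, pow_mul, hζ.pow_eq_one, one_pow]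
  rw [this, zero_mul]

theorem S_formula (hN : 0 < N) (h2 : (2 : K) ≠ 0) : ∀ j : ℕ,
    (j ≤ N → S ζ N j = S ζ N 0 + j * (S ζ N 1 - S ζ N 0) + j * ((j : K) - 1) / 2) ∧
    (j + 1 ≤ N → S ζ N (j + 1) =
      S ζ N 0 + ((j : K) + 1) * (S ζ N 1 - S ζ N 0) + ((j : K) + 1) * j / 2) := by
  intro j
  induction j with
  | zero =>
    refine ⟨fun _ => by simp, fun _ => by simp⟩
  | succ j ih =>
    refine ⟨fun h => ?_, fun h => ?_⟩
    · have := ih.2 h
      rw [this]; push_cast; ring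
    · have hj : ¬ N ∣ j + 1 := Nat.not_dvd_of_pos_of_lt (Nat.succ_pos j) (by omega)
      have hrec := S_rec hζ hN hj
      have h0 := ih.1 (by omega)
      have h1 := ih.2 (by omega)
      have : S ζ N (j + 2) = 1 + 2 * S ζ N (j + 1) - S ζ N j := by linear_combination hrec
      rw [show j + 1 + 1 = j + 2 from rfl, this, h0, h1]
      push_cast
      field_simp
      ring

omit hζ in
theorem sum_sq (n : ℕ) : 6 * ∑ j ∈ Finset.range n, (j : K) ^ 2 = n * ((n : K) - 1) * (2 * n - 1) := by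
  induction n with
  | zero => simp
  | succ n ih => rw [Finset.sum_range_succ, mul_add, ih]; push_cast; ring

omit hζ in
theorem sum_id (n : ℕ) : 2 * ∑ j ∈ Finset.range n, (j : K) = n * ((n : K) - 1) := by
  induction n with
  | zero => simp
  | succ n ih => rw [Finset.sum_range_succ, mul_add, ih]; push_cast; ring

theorem S_eq (h6 : (6 : K) ≠ 0) {j : ℕ} (hj : j < N) :
    S ζ N j = (j : K) * ((j : K) - (N : K)) / 2 + ((N : K) ^ 2 - 1) / 12 := by
  have hN : 0 < N := lt_of_le_of_lt (Nat.zero_le _) hj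
  have h2 : (2 : K) ≠ 0 := by
    intro h; apply h6; rw [show (6 : K) = 2 * 3 by norm_num, h, zero_mul]
  have h3 : (3 : K) ≠ 0 := by
    intro h; apply h6; rw [show (6 : K) = 2 * 3 by norm_num, h, mul_zero]
  have hNK : (N : K) ≠ 0 := by
    have : NeZero N := ⟨hN.ne'⟩
    exact hζ.neZero'.ne
  set a := S ζ N 1 - S ζ N 0 with ha
  have hform := fun j => (S_formula hζ hN h2 j).1
  -- a = -(N-1)/2
  have hNN := hform N le_rfl
  rw [S_N hζ] at hNN
  have ha' : a = -((N : K) - 1) / 2 := by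
    have : (N : K) * (a + ((N : K) - 1) / 2) = 0 := by linear_combination -hNN
    have := (mul_eq_zero.1 this).resolve_left hNK
    linear_combination this
  -- S j = S 0 + j (j - N) / 2
  have hS : ∀ j ≤ N, S ζ N j = S ζ N 0 + (j : K) * ((j : K) - N) / 2 := by
    intro j hj
    rw [hform j hj, ← ha, ha']
    ring
  -- sum
  have hsum := sum_S hζ
  rw [Finset.sum_congr rfl (fun j hj => hS j (Finset.mem_range.1 hj).le)] at hsum
  rw [Finset.sum_add_distrib, Finset.sum_const, Finset.card_range, nsmul_eq_mul] at hsum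
  have hsum2 : ∑ j ∈ Finset.range N, (j : K) * ((j : K) - N) / 2 =
      (∑ j ∈ Finset.range N, (j : K) ^ 2 - N * ∑ j ∈ Finset.range N, (j : K)) / 2 := by
    rw [Finset.mul_sum, ← Finset.sum_sub_distrib, Finset.sum_div]
    refine Finset.sum_congr rfl (fun j _ => ?_)
    ring
  rw [hsum2] at hsum
  have h12 : (12 : K) ≠ 0 := by
    rw [show (12 : K) = 2 * 6 by norm_num]; exact mul_ne_zero h2 h6
  have hS0 : S ζ N 0 = ((N : K) ^ 2 - 1) / 12 := by
    have e1 := sum_sq (K := K) N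
    have e2 := sum_id (K := K) N
    set X := ∑ j ∈ Finset.range N, (j : K) ^ 2 - N * ∑ j ∈ Finset.range N, (j : K) with hX
    have hX2 : X / 2 * 2 = X := div_mul_cancel₀ X h2
    have hsum' : 2 * (N : K) * S ζ N 0 + X = 0 := by linear_combination 2 * hsum - hX2
    have : (N : K) * (S ζ N 0 * 12 - ((N : K) ^ 2 - 1)) = 0 := by
      rw [hX] at hsum'
      linear_combination 6 * hsum' - e1 + 3 * (N : K) * e2
    have := (mul_eq_zero.1 this).resolve_left hNK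
    exact eq_div_of_mul_eq h12 (by linear_combination this)
  rw [hS j hj.le, hS0, add_comm]

end

section
variable {K : Type*} [Field K] {N : ℕ} {ζ : K} (hζ : IsPrimitiveRoot ζ N)
include hζ

theorem geom_ite (e : ℕ) :
    ∑ i ∈ Finset.range N, (ζ ^ e) ^ i = if N ∣ e then (N : K) else 0 := by
  split_ifs with h
  · have : ζ ^ e = 1 := (hζ.pow_eq_one_iff_dvd _).2 h
    simp [this]
  · refine geom_zero (fun h1 => h ((hζ.pow_eq_one_iff_dvd _).1 h1)) ?_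
    rw [← pow_mul, mul_comm, pow_mul, hζ.pow_eq_one, one_pow]

theorem eps_eq (hN : 0 < N) (m : ℕ) :
    ∑ i ∈ Finset.range N, S ζ N i / (N : K) * ζ ^ (m * i) =
      ∑ l ∈ Finset.Ioo 0 N, if N ∣ l + m then wt ζ l else 0 := by
  have hNK : (N : K) ≠ 0 := by
    have : NeZero N := ⟨hN.ne'⟩
    exact hζ.neZero'.ne
  unfold S
  simp_rw [Finset.sum_div, Finset.sum_mul]
  rw [Finset.sum_comm]
  refine Finset.sum_congr rfl (fun l _ => ?_)
  have : ∀ i ∈ Finset.range N, ζ ^ (l * i) * wt ζ l / (N : K) * ζ ^ (m * i) =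
      wt ζ l / (N : K) * (ζ ^ (l + m)) ^ i := by
    intro i _
    rw [← pow_mul, add_mul, pow_add]
    ring
  rw [Finset.sum_congr rfl this, ← Finset.mul_sum, geom_ite hζ]
  split_ifs
  · field_simp
  · rw [mul_zero]

end

section Complex

theorem wt_complex {N : ℕ} {ζ : ℂ} (hζ : IsPrimitiveRoot ζ N) (hN : 0 < N) (l : ℕ) :
    wt ζ l = (((2 - 2 * (ζ ^ l).re)⁻¹ : ℝ) : ℂ) ∧ 0 ≤ (2 - 2 * (ζ ^ l).re)⁻¹ := by
  have hnorm : ‖ζ ^ l‖ = 1 := by
    rw [norm_pow, Complex.norm_eq_one_of_pow_eq_one hζ.pow_eq_one hN.ne', one_pow]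
  rw [wt]
  generalize ζ ^ l = x at *
  constructor
  · rw [Complex.inv_eq_conj hnorm, Complex.ofReal_inv]
    congr 1
    apply Complex.ext
    · simp; ring
    · simp
  · apply inv_nonneg.2
    have := Complex.re_le_norm x
    rw [hnorm] at this
    linarith

theorem eps_complex {N : ℕ} {ζ : ℂ} (hζ : IsPrimitiveRoot ζ N) (hN : 0 < N) (m : ℕ) :
    ∑ i ∈ Finset.range N,
        ((i : ℂ) * ((i : ℂ) - (N : ℂ)) / 2 + ((N : ℂ) ^ 2 - 1) / 12) / (N : ℂ) * ζ ^ (m * i) =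
      ((∑ l ∈ Finset.Ioo 0 N, if N ∣ l + m then (2 - 2 * (ζ ^ l).re)⁻¹ else 0 : ℝ) : ℂ) := by
  have h6 : (6 : ℂ) ≠ 0 := by norm_num
  rw [Finset.sum_congr rfl (fun i hi => by rw [← S_eq hζ h6 (Finset.mem_range.1 hi)]),
    eps_eq hζ hN, Complex.ofReal_sum]
  refine Finset.sum_congr rfl (fun l _ => ?_)
  split_ifs
  · exact (wt_complex hζ hN l).1
  · simp

end Complex

end RootSum

end Groth.Agent.Lib.Helper20
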