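import Mathlib

set_option autoImplicit false
universe u

namespace Groth.Agent.Lib.Helper20.SerreSplit

attribute [local instance] Ideal.Quotient.field

variable {R : Type u} [CommRing R] {M : Type u} [AddCommGroup M] [Module R M]

/-- `B(x) ⊆ M(x) = M/xM`. -/
def Bq (M : Type u) [AddCommGroup M] [Module R M] (x : MaximalSpectrum R) :
    Submodule (R ⧸ x.asIdeal) (M ⧸ (x.asIdeal • ⊤ : Submodule R M)) :=
  Submodule.span (R ⧸ x.asIdeal)
    ((x.asIdeal • ⊤ : Submodule R M).mkQ '' {m : M | ∀ φ : M →ₗ[R] R, φ m ∈ x.asIdeal})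

/-- image of `m` in `V(x) = M(x)/B(x)`. -/
def img (x : MaximalSpectrum R) (m : M) : (M ⧸ (x.asIdeal • ⊤ : Submodule R M)) ⧸ Bq M x :=
  (Bq M x).mkQ ((x.asIdeal • ⊤ : Submodule R M).mkQ m)

theorem img_add (x : MaximalSpectrum R) (m m' : M) : img x (m + m') = img x m + img x m' := by
  simp [img]

theorem img_zero (x : MaximalSpectrum R) : img x (0 : M) = 0 := by simp [img]

theorem img_sub (x : MaximalSpectrum R) (m m' : M) : img x (m - m') = img x m - img x m' := by
  simp [img]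

theorem img_smul (x : MaximalSpectrum R) (a : R) (m : M) :
    img x (a • m) = (Ideal.Quotient.mk x.asIdeal a) • img x m := by
  rfl

theorem img_surjective (x : MaximalSpectrum R) :
    Function.Surjective (img x : M → (M ⧸ (x.asIdeal • ⊤ : Submodule R M)) ⧸ Bq M x) := by
  intro v
  obtain ⟨w, rfl⟩ := (Bq M x).mkQ_surjective v
  obtain ⟨m, rfl⟩ := (x.asIdeal • ⊤ : Submodule R M).mkQ_surjective w
  exact ⟨m, rfl⟩

/-- The functional on `M(x)` induced by a linear form `φ`. -/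
noncomputable def phiBar0 (x : MaximalSpectrum R) (φ : M →ₗ[R] R) :
    (M ⧸ (x.asIdeal • ⊤ : Submodule R M)) →ₗ[R ⧸ x.asIdeal] (R ⧸ x.asIdeal) :=
  LinearMap.extendScalarsOfSurjective (Ideal.Quotient.mk_surjective (I := x.asIdeal))
    ((x.asIdeal • ⊤ : Submodule R M).liftQ ((Submodule.mkQ x.asIdeal) ∘ₗ φ) (by
      rw [Submodule.smul_le]
      intro a ha m _
      rw [LinearMap.mem_ker, LinearMap.comp_apply, map_smul, smul_eq_mul]
      exact (Submodule.Quotient.mk_eq_zero _).2 (x.asIdeal.mul_mem_right _ ha)))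

theorem phiBar0_mk (x : MaximalSpectrum R) (φ : M →ₗ[R] R) (m : M) :
    phiBar0 x φ ((x.asIdeal • ⊤ : Submodule R M).mkQ m) = Ideal.Quotient.mk x.asIdeal (φ m) := rfl

theorem Bq_le_ker (x : MaximalSpectrum R) (φ : M →ₗ[R] R) :
    Bq M x ≤ LinearMap.ker (phiBar0 x φ) := by
  rw [Bq, Submodule.span_le]
  rintro _ ⟨m, hm, rfl⟩
  rw [SetLike.mem_coe, LinearMap.mem_ker, phiBar0_mk]
  exact Ideal.Quotient.eq_zero_iff_mem.2 (hm φ)

/-- The functional on `V(x)` induced by a linear form `φ`. -/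
noncomputable def phiBar (x : MaximalSpectrum R) (φ : M →ₗ[R] R) :
    ((M ⧸ (x.asIdeal • ⊤ : Submodule R M)) ⧸ Bq M x) →ₗ[R ⧸ x.asIdeal] (R ⧸ x.asIdeal) :=
  (Bq M x).liftQ (phiBar0 x φ) (Bq_le_ker x φ)

theorem phiBar_img (x : MaximalSpectrum R) (φ : M →ₗ[R] R) (m : M) :
    phiBar x φ (img x m) = Ideal.Quotient.mk x.asIdeal (φ m) := rfl

theorem img_eq_zero_iff (x : MaximalSpectrum R) (m : M) :
    img x m = 0 ↔ ∀ φ : M →ₗ[R] R, φ m ∈ x.asIdeal := by
  constructor
  · intro h φ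
    have := congrArg (phiBar x φ) h
    rw [phiBar_img, map_zero] at this
    exact Ideal.Quotient.eq_zero_iff_mem.1 this
  · intro h
    rw [img, Submodule.mkQ_apply, Submodule.Quotient.mk_eq_zero]
    exact Submodule.subset_span ⟨m, h, rfl⟩

theorem phiBar_add (x : MaximalSpectrum R) (φ ψ : M →ₗ[R] R) :
    phiBar x (φ + ψ) = phiBar x φ + phiBar x ψ := by
  apply LinearMap.ext
  intro v
  obtain ⟨m, rfl⟩ := img_surjective x v
  simp [phiBar_img]

theorem phiBar_smul (x : MaximalSpectrum R) (a : R) (φ : M →ₗ[R] R) :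
    phiBar x (a • φ) = (Ideal.Quotient.mk x.asIdeal a) • phiBar x φ := by
  apply LinearMap.ext
  intro v
  obtain ⟨m, rfl⟩ := img_surjective x v
  simp [phiBar_img]

theorem phiBar_zero (x : MaximalSpectrum R) :
    phiBar x (0 : M →ₗ[R] R) = 0 := by
  apply LinearMap.ext
  intro v
  obtain ⟨m, rfl⟩ := img_surjective x v
  simp [phiBar_img]

end Groth.Agent.Lib.Helper20.SerreSplit
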