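import Mathlib
import Groth.Agent.Lib.Helper20.SerreSplit

set_option autoImplicit false
universe u

namespace Groth.Agent.Lib.Helper20.SerreSplit

attribute [local instance] Ideal.Quotient.field

variable {R : Type u} [CommRing R] {M : Type u} [AddCommGroup M] [Module R M]

instance finite_Vx [Module.Finite R M] (x : MaximalSpectrum R) :
    Module.Finite (R ⧸ x.asIdeal) ((M ⧸ (x.asIdeal • ⊤ : Submodule R M)) ⧸ Bq M x) := by
  have h1 : Module.Finite (R ⧸ x.asIdeal) (M ⧸ (x.asIdeal • ⊤ : Submodule R M)) :=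
    Module.Finite.of_restrictScalars_finite R _ _
  infer_instance

/-- the subspace of the dual of `V(x)` consisting of functionals induced by linear forms -/
def Wsub (M : Type u) [AddCommGroup M] [Module R M] (x : MaximalSpectrum R) :
    Submodule (R ⧸ x.asIdeal)
      (Module.Dual (R ⧸ x.asIdeal) ((M ⧸ (x.asIdeal • ⊤ : Submodule R M)) ⧸ Bq M x)) where
  carrier := {ψ | ∃ φ : M →ₗ[R] R, phiBar x φ = ψ}
  add_mem' := by
    rintro _ _ ⟨φ, rfl⟩ ⟨ψ, rfl⟩
    exact ⟨φ + ψ, phiBar_add x φ ψ⟩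
  zero_mem' := ⟨0, phiBar_zero x⟩
  smul_mem' := by
    rintro c _ ⟨φ, rfl⟩
    obtain ⟨a, rfl⟩ := Ideal.Quotient.mk_surjective c
    exact ⟨a • φ, phiBar_smul x a φ⟩

theorem Wsub_eq_top [Module.Finite R M] (x : MaximalSpectrum R) : Wsub M x = ⊤ := by
  have h1 : (Wsub M x).dualCoannihilator = ⊥ := by
    rw [eq_bot_iff]
    intro v hv
    rw [Submodule.mem_dualCoannihilator] at hv
    obtain ⟨m, rfl⟩ := img_surjective x v
    rw [Submodule.mem_bot, img_eq_zero_iff]
    intro φ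
    have := hv (phiBar x φ) ⟨φ, rfl⟩
    rw [phiBar_img] at this
    exact Ideal.Quotient.eq_zero_iff_mem.1 this
  have h2 := Subspace.dualCoannihilator_dualAnnihilator_eq (W := Wsub M x)
  rw [h1, Submodule.dualAnnihilator_bot] at h2
  exact h2.symm

theorem exists_phi_of_dual [Module.Finite R M] (x : MaximalSpectrum R)
    (ψ : Module.Dual (R ⧸ x.asIdeal) ((M ⧸ (x.asIdeal • ⊤ : Submodule R M)) ⧸ Bq M x)) :
    ∃ φ : M →ₗ[R] R, phiBar x φ = ψ := by
  have : ψ ∈ Wsub M x := by rw [Wsub_eq_top]; trivial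
  exact this

theorem li_of_det {h : ℕ} (x : MaximalSpectrum R) (s : Fin h → M)
    (φ : Fin h → (M →ₗ[R] R)) (hdet : (Matrix.of fun i j => φ j (s i)).det ∉ x.asIdeal) :
    LinearIndependent (R ⧸ x.asIdeal) (fun i => img x (s i)) := by
  let Φ : ((M ⧸ (x.asIdeal • ⊤ : Submodule R M)) ⧸ Bq M x) →ₗ[R ⧸ x.asIdeal]
      (Fin h → R ⧸ x.asIdeal) := LinearMap.pi (fun j => phiBar x (φ j))
  apply LinearIndependent.of_comp Φ
  have h1 : (Φ ∘ fun i => img x (s i)) =
      ((Ideal.Quotient.mk x.asIdeal).mapMatrix (Matrix.of fun i j => φ j (s i))).row := by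
    funext i j
    rfl
  rw [h1, Matrix.linearIndependent_rows_iff_isUnit, Matrix.isUnit_iff_isUnit_det,
    ← RingHom.map_det, isUnit_iff_ne_zero]
  exact fun h0 => hdet (Ideal.Quotient.eq_zero_iff_mem.1 h0)

theorem det_of_li [Module.Finite R M] {h : ℕ} (x : MaximalSpectrum R) (s : Fin h → M)
    (hli : LinearIndependent (R ⧸ x.asIdeal) (fun i => img x (s i))) :
    ∃ φ : Fin h → (M →ₗ[R] R), (Matrix.of fun i j => φ j (s i)).det ∉ x.asIdeal := by
  have hinj : Function.Injective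
      (Fintype.linearCombination (R ⧸ x.asIdeal) (fun i => img x (s i))) :=
    linearIndependent_iff_injective_fintypeLinearCombination.1 hli
  obtain ⟨g, hg⟩ := LinearMap.exists_leftInverse_of_injective _ (LinearMap.ker_eq_bot.2 hinj)
  have hψ : ∀ j : Fin h, ∃ φ : M →ₗ[R] R, phiBar x φ = (LinearMap.proj j) ∘ₗ g :=
    fun j => exists_phi_of_dual x _
  choose φ hφ using hψ
  refine ⟨φ, ?_⟩
  have h1 : (Ideal.Quotient.mk x.asIdeal).mapMatrix (Matrix.of fun i j => φ j (s i)) = 1 := by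
    ext i j
    change Ideal.Quotient.mk x.asIdeal (φ j (s i)) = _
    rw [← phiBar_img, hφ j]
    have h2 : img x (s i) = Fintype.linearCombination (R ⧸ x.asIdeal) (fun i => img x (s i))
        (Pi.single i 1) := by
      simp [Fintype.linearCombination_apply_single]
    rw [h2, LinearMap.comp_apply]
    have h3 := LinearMap.congr_fun hg (Pi.single i (1 : R ⧸ x.asIdeal))
    rw [LinearMap.comp_apply] at h3
    rw [h3]
    simp [Matrix.one_apply, Pi.single_apply, eq_comm]
  intro hmem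
  have h4 := congrArg Matrix.det h1
  rw [← RingHom.map_det, Matrix.det_one] at h4
  rw [Ideal.Quotient.eq_zero_iff_mem.2 hmem] at h4
  exact zero_ne_one h4

theorem li_iff_det [Module.Finite R M] {h : ℕ} (x : MaximalSpectrum R) (s : Fin h → M) :
    LinearIndependent (R ⧸ x.asIdeal) (fun i => img x (s i)) ↔
    ∃ φ : Fin h → (M →ₗ[R] R), (Matrix.of fun i j => φ j (s i)).det ∉ x.asIdeal :=
  ⟨det_of_li x s, fun ⟨φ, h⟩ => li_of_det x s φ h⟩

/-- `Z(s_1,…,s_h)` is closed. -/
theorem isClosed_Z [Module.Finite R M] {h : ℕ} (s : Fin h → M) :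
    IsClosed {x : MaximalSpectrum R | ¬ LinearIndependent (R ⧸ x.asIdeal) (fun i => img x (s i))} := by
  rw [← isOpen_compl_iff]
  have h1 : {x : MaximalSpectrum R | ¬ LinearIndependent (R ⧸ x.asIdeal) (fun i => img x (s i))}ᶜ =
      ⋃ φ : Fin h → (M →ₗ[R] R), MaximalSpectrum.toPrimeSpectrum ⁻¹'
        (PrimeSpectrum.basicOpen (Matrix.of fun i j => φ j (s i)).det : Set (PrimeSpectrum R)) := by
    ext x
    simp only [Set.mem_compl_iff, Set.mem_ofPred_eq, not_not, Set.mem_iUnion, Set.mem_preimage]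
    rw [li_iff_det]
    rfl
  rw [h1]
  exact isOpen_iUnion fun φ =>
    (PrimeSpectrum.basicOpen _).isOpen.preimage MaximalSpectrum.toPrimeSpectrum_continuous

end Groth.Agent.Lib.Helper20.SerreSplit
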