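import Mathlib
import Groth.Agent.Lib.Helper20.SerreSplitDet

set_option autoImplicit false
universe u

namespace Groth.Agent.Lib.Helper20.SerreSplit

attribute [local instance] Ideal.Quotient.field

open TopologicalSpace

variable {R : Type u} [CommRing R] {M : Type u} [AddCommGroup M] [Module R M]

/-- CRT for finitely many maximal ideals. -/
theorem crt_ring (S : Finset (MaximalSpectrum R)) (r : MaximalSpectrum R → R) :
    ∃ f : R, ∀ x ∈ S, f - r x ∈ x.asIdeal := by
  classical
  have hI : Pairwise (Function.onFun IsCoprime (fun i : S => (i : MaximalSpectrum R).asIdeal)) := by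
    intro i j hij
    apply Ideal.isCoprime_of_isMaximal
    intro h
    exact hij (Subtype.ext (MaximalSpectrum.ext h))
  obtain ⟨f, hf⟩ := Ideal.exists_forall_sub_mem_ideal hI (fun i : S => r i)
  exact ⟨f, fun x hx => hf ⟨x, hx⟩⟩

theorem crt_mod (S : Finset (MaximalSpectrum R)) (a : R) (ha : ∀ x ∈ S, a ∉ x.asIdeal)
    (v : MaximalSpectrum R → M) : ∃ q : M, ∀ x ∈ S, img x (a • q) = img x (v x) := by
  classical
  -- inverses of `a`
  have hb : ∀ x : MaximalSpectrum R, ∃ b : R, x ∈ S → a * b - 1 ∈ x.asIdeal := by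
    intro x
    by_cases hx : x ∈ S
    · obtain ⟨b, hb⟩ := Ideal.Quotient.exists_inv (I := x.asIdeal)
        (a := Ideal.Quotient.mk x.asIdeal a)
        (fun h0 => ha x hx (Ideal.Quotient.eq_zero_iff_mem.1 h0))
      obtain ⟨b, rfl⟩ := Ideal.Quotient.mk_surjective b
      refine ⟨b, fun _ => ?_⟩
      rw [← Ideal.Quotient.eq_zero_iff_mem, map_sub, map_mul, hb, map_one, sub_self]
    · exact ⟨0, fun h => (hx h).elim⟩
  choose b hb using hb
  have he : ∀ x : MaximalSpectrum R, ∃ e : R, ∀ y ∈ S, e - (if y = x then 1 else 0) ∈ y.asIdeal :=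
    fun x => crt_ring S (fun y => if y = x then 1 else 0)
  choose e he using he
  refine ⟨∑ x ∈ S, (e x * b x) • v x, fun y hy => ?_⟩
  have h1 : ∀ x ∈ S, img y (a • ((e x * b x) • v x)) =
      if y = x then img y (v y) else 0 := by
    intro x hx
    rw [smul_smul, img_smul]
    have h2 := he x y hy
    by_cases hyx : y = x
    · subst hyx
      rw [if_pos rfl] at h2 ⊢
      have h3 : Ideal.Quotient.mk y.asIdeal (a * (e y * b y)) = 1 := by
        have h4 : Ideal.Quotient.mk y.asIdeal (e y) = 1 := by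
          rw [← sub_eq_zero, ← map_one (Ideal.Quotient.mk y.asIdeal), ← map_sub]
          exact Ideal.Quotient.eq_zero_iff_mem.2 h2
        have h5 : Ideal.Quotient.mk y.asIdeal (a * b y) = 1 := by
          rw [← sub_eq_zero, ← map_one (Ideal.Quotient.mk y.asIdeal), ← map_sub]
          exact Ideal.Quotient.eq_zero_iff_mem.2 (hb y hy)
        calc Ideal.Quotient.mk y.asIdeal (a * (e y * b y))
            = Ideal.Quotient.mk y.asIdeal (e y) * Ideal.Quotient.mk y.asIdeal (a * b y) := by
              rw [← map_mul]; congr 1; ring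
          _ = 1 := by rw [h4, h5, mul_one]
      rw [h3, one_smul]
    · rw [if_neg hyx] at h2 ⊢
      rw [sub_zero] at h2
      have h3 : Ideal.Quotient.mk y.asIdeal (a * (e x * b x)) = 0 := by
        apply Ideal.Quotient.eq_zero_iff_mem.2
        have : a * (e x * b x) = e x * (a * b x) := by ring
        rw [this]
        exact y.asIdeal.mul_mem_right _ h2
      rw [h3, zero_smul]
  have h6 : img y (a • ∑ x ∈ S, (e x * b x) • v x) =
      ∑ x ∈ S, img y (a • ((e x * b x) • v x)) := by
    rw [Finset.smul_sum]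
    have : ∀ (T : Finset (MaximalSpectrum R)) (g : MaximalSpectrum R → M),
        img y (∑ x ∈ T, g x) = ∑ x ∈ T, img y (g x) := by
      intro T g
      induction T using Finset.induction_on with
      | empty => simp [img_zero]
      | insert z T hz ih => rw [Finset.sum_insert hz, Finset.sum_insert hz, img_add, ih]
    exact this S _
  rw [h6, Finset.sum_congr rfl h1, Finset.sum_ite_eq S y, if_pos hy]

/-- decomposition of the part of a closed set outside another closed set into irreducibles -/
theorem exists_irreducible_cover {X : Type u} [TopologicalSpace X] [NoetherianSpace X]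
    {Z F : Set X} (hZ : IsClosed Z) :
    ∃ 𝒞 : Finset (IrreducibleCloseds X),
      (∀ C ∈ 𝒞, (C : Set X) ⊆ Z ∧ ¬ (C : Set X) ⊆ F) ∧ Z ⊆ F ∪ ⋃ C ∈ 𝒞, (C : Set X) := by
  classical
  obtain ⟨S, hSf, hSc, hSi, hSU⟩ := NoetherianSpace.exists_finite_set_isClosed_irreducible hZ
  lift S to Finset (Set X) using hSf
  -- turn the members into irreducible closeds
  let T : Finset {t : Set X // t ∈ S} := Finset.univ
  let mk : {t : Set X // t ∈ S} → IrreducibleCloseds X :=
    fun t => ⟨t.1, hSi t.1 t.2, hSc t.1 t.2⟩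
  refine ⟨(T.image mk).filter (fun C => ¬ (C : Set X) ⊆ F), ?_, ?_⟩
  · intro C hC
    rw [Finset.mem_filter, Finset.mem_image] at hC
    obtain ⟨⟨t, -, rfl⟩, hCF⟩ := hC
    refine ⟨?_, hCF⟩
    rw [hSU]
    exact Set.subset_sUnion_of_mem t.2
  · intro z hz
    rw [hSU] at hz
    obtain ⟨t, htS, hzt⟩ := hz
    by_cases htF : t ⊆ F
    · exact Or.inl (htF hzt)
    · refine Or.inr ?_
      rw [Set.mem_iUnion₂]
      refine ⟨mk ⟨t, htS⟩, ?_, hzt⟩
      rw [Finset.mem_filter, Finset.mem_image]
      exact ⟨⟨⟨t, htS⟩, Finset.mem_univ _, rfl⟩, htF⟩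

/-- an irreducible closed set contained in a finite union of irreducible closed sets is contained
in one of them -/
theorem exists_mem_of_subset_biUnion {X : Type u} [TopologicalSpace X]
    (T : IrreducibleCloseds X) (𝒞 : Finset (IrreducibleCloseds X))
    (h : (T : Set X) ⊆ ⋃ C ∈ 𝒞, (C : Set X)) : ∃ C ∈ 𝒞, T ≤ C := by
  classical
  have h1 := isIrreducible_iff_sUnion_isClosed.1 T.isIrreducible'
    (𝒞.image (fun C : IrreducibleCloseds X => (C : Set X)))
    (by
      intro z hz
      rw [Finset.mem_image] at hz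
      obtain ⟨C, -, rfl⟩ := hz
      exact C.isClosed')
    (by
      intro z hz
      obtain ⟨C, hC, hzC⟩ := Set.mem_iUnion₂.1 (h hz)
      exact Set.mem_sUnion.2 ⟨(C : Set X), by
        rw [Finset.mem_coe, Finset.mem_image]; exact ⟨C, hC, rfl⟩, hzC⟩)
  obtain ⟨z, hz, hTz⟩ := h1
  rw [Finset.mem_image] at hz
  obtain ⟨C, hC, rfl⟩ := hz
  exact ⟨C, hC, hTz⟩

end Groth.Agent.Lib.Helper20.SerreSplit
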