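import Mathlib
import Groth.Agent.Lib.Helper20.SerreSplitCRT

set_option autoImplicit false
universe u

namespace Groth.Agent.Lib.Helper20.SerreSplit

attribute [local instance] Ideal.Quotient.field

open TopologicalSpace

section LA

variable {K V : Type*} [Field K] [AddCommGroup V] [Module K V]

theorem la1 {h : ℕ} (u : Fin h → V) (a b : V)
    (hli : LinearIndependent K (Fin.snoc (Fin.snoc u a : Fin (h + 1) → V) b : Fin (h + 2) → V))
    (c : K) : LinearIndependent K (Fin.snoc u (a + c • b) : Fin (h + 1) → V) := by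
  rw [linearIndependent_finSnoc] at hli
  obtain ⟨h1, h2⟩ := hli
  rw [linearIndependent_finSnoc] at h1
  obtain ⟨h3, h4⟩ := h1
  rw [linearIndependent_finSnoc]
  refine ⟨h3, fun hmem => ?_⟩
  have hsub : Submodule.span K (Set.range u) ≤
      Submodule.span K (Set.range (Fin.snoc u a : Fin (h + 1) → V)) := by
    apply Submodule.span_mono
    rintro _ ⟨i, rfl⟩
    exact ⟨Fin.castSucc i, by simp⟩
  have ha : a ∈ Submodule.span K (Set.range (Fin.snoc u a : Fin (h + 1) → V)) :=
    Submodule.subset_span ⟨Fin.last h, by simp⟩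
  by_cases hc : c = 0
  · subst hc
    rw [zero_smul, add_zero] at hmem
    exact h4 hmem
  · apply h2
    have h5 : c • b ∈ Submodule.span K (Set.range (Fin.snoc u a : Fin (h + 1) → V)) := by
      have : c • b = (a + c • b) - a := by abel
      rw [this]
      exact Submodule.sub_mem _ (hsub hmem) ha
    have h6 := Submodule.smul_mem _ c⁻¹ h5
    rwa [smul_smul, inv_mul_cancel₀ hc, one_smul] at h6

theorem la2 {h : ℕ} (u : Fin h → V) (a w : V) (hli : LinearIndependent K u)
    (ha : a ∈ Submodule.span K (Set.range u)) (hw : w ∉ Submodule.span K (Set.range u)) :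
    LinearIndependent K (Fin.snoc u (a + w) : Fin (h + 1) → V) := by
  rw [linearIndependent_finSnoc]
  refine ⟨hli, fun hmem => hw ?_⟩
  have : w = (a + w) - a := by abel
  rw [this]
  exact Submodule.sub_mem _ hmem ha

theorem la3 {h : ℕ} (u : Fin h → V) (a : V) (hli : LinearIndependent K u)
    (hn : ¬ LinearIndependent K (Fin.snoc u a : Fin (h + 1) → V)) :
    a ∈ Submodule.span K (Set.range u) := by
  by_contra hmem
  exact hn (linearIndependent_finSnoc.2 ⟨hli, hmem⟩)

theorem exists_notMem_span [FiniteDimensional K V] {h : ℕ} (u : Fin h → V)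
    (hlt : h < Module.finrank K V) : ∃ w : V, w ∉ Submodule.span K (Set.range u) := by
  by_contra hcon
  push Not at hcon
  have h1 : Submodule.span K (Set.range u) = ⊤ := by
    rw [eq_top_iff]; exact fun w _ => hcon w
  have h2 : (Set.range u).finrank K ≤ Fintype.card (Fin h) := finrank_range_le_card u
  rw [Set.finrank, h1, finrank_top, Fintype.card_fin] at h2
  omega

end LA

variable {R : Type u} [CommRing R] {M : Type u} [AddCommGroup M] [Module R M]

theorem img_snoc {h : ℕ} (x : MaximalSpectrum R) (s : Fin h → M) (t : M) :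
    (fun i => img x ((Fin.snoc s t : Fin (h + 1) → M) i)) =
      (Fin.snoc (fun i => img x (s i)) (img x t) : Fin (h + 1) →
        (M ⧸ (x.asIdeal • ⊤ : Submodule R M)) ⧸ Bq M x) := by
  funext i
  refine Fin.lastCases ?_ (fun j => ?_) i
  · simp
  · simp

theorem subset_of_irreducible {X : Type u} [TopologicalSpace X] (C : IrreducibleCloseds X)
    {F F' : Set X} (hF : IsClosed F) (hF' : IsClosed F') (h : (C : Set X) ⊆ F ∪ F')
    (hCF : ¬ (C : Set X) ⊆ F) : (C : Set X) ⊆ F' := by
  have := (isPreirreducible_iff_isClosed_union_isClosed.1 C.isIrreducible'.isPreirreducible)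
    F F' hF hF' h
  exact this.resolve_left hCF

theorem key [Module.Finite R M] [NoetherianSpace (MaximalSpectrum R)] (a : R) (k : ℕ) :
    ∀ (h : ℕ) (s : Fin h → M) (F : Set (MaximalSpectrum R)), IsClosed F →
      (∀ x : MaximalSpectrum R, a ∈ x.asIdeal → x ∈ F) →
      ∀ (S : Finset (MaximalSpectrum R)), (∀ x ∈ S, x ∈ F) → (∀ x ∈ S, a ∉ x.asIdeal) →
      ∀ (v : MaximalSpectrum R → M) (s₀ : M),
      (∀ x : MaximalSpectrum R, h + k ≤ Module.finrank (R ⧸ x.asIdeal)
        ((M ⧸ (x.asIdeal • ⊤ : Submodule R M)) ⧸ Bq M x)) →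
      (∀ x, ¬ LinearIndependent (R ⧸ x.asIdeal) (fun i => img x (s i)) → x ∈ F) →
      ∃ (t : M) (F' : Set (MaximalSpectrum R)), IsClosed F' ∧ (∃ q : M, t = s₀ + a • q) ∧
        (∀ x ∈ S, img x t = img x (v x)) ∧
        (∀ x, ¬ LinearIndependent (R ⧸ x.asIdeal)
          (fun i => img x ((Fin.snoc s t : Fin (h + 1) → M) i)) → x ∈ F ∪ F') ∧
        ∀ Z : IrreducibleCloseds (MaximalSpectrum R), (Z : Set (MaximalSpectrum R)) ⊆ F' →
          (k : ℕ∞) ≤ Order.coheight Z := by
  classical
  induction k with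
  | zero =>
    intro h s F hF haF S hSF hSa v s₀ hrk hZ
    obtain ⟨q, hq⟩ := crt_mod S a hSa (fun x => v x - s₀)
    refine ⟨s₀ + a • q, Set.univ, isClosed_univ, ⟨q, rfl⟩, ?_, fun x _ => Or.inr trivial,
      fun Z _ => by simp⟩
    intro x hx
    rw [img_add, hq x hx, img_sub]
    abel
  | succ k ih =>
    intro h s F hF haF S hSF hSa v s₀ hrk hZ
    -- first approximation
    obtain ⟨s', F'₀, hF'₀, ⟨q', hq'⟩, hs'S, hs'Z, hs'c⟩ := ih h s F hF haF S hSF hSa v s₀
      (fun x => by have := hrk x; omega) hZ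
    obtain ⟨𝒞, h𝒞, hZ'cov⟩ := exists_irreducible_cover (F := F)
      (isClosed_Z (Fin.snoc s s' : Fin (h + 1) → M))
    have h𝒞ht : ∀ C ∈ 𝒞, (k : ℕ∞) ≤ Order.coheight C := by
      intro C hC
      apply hs'c C
      exact subset_of_irreducible C hF hF'₀ (fun x hx => hs'Z x ((h𝒞 C hC).1 hx)) (h𝒞 C hC).2
    -- points in the components
    have hy : ∀ C : {C // C ∈ 𝒞}, ∃ y : MaximalSpectrum R,
        y ∈ (C.1 : Set (MaximalSpectrum R)) ∧ y ∉ F := by
      intro C
      obtain ⟨y, hyC, hyF⟩ := Set.not_subset.1 (h𝒞 C.1 C.2).2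
      exact ⟨y, hyC, hyF⟩
    choose yC hyC using hy
    set Y : Finset (MaximalSpectrum R) := 𝒞.attach.image yC with hYdef
    have hYF : ∀ y ∈ Y, y ∉ F := by
      intro y hyY
      rw [hYdef, Finset.mem_image] at hyY
      obtain ⟨C, -, rfl⟩ := hyY
      exact (hyC C).2
    set F₁ : Set (MaximalSpectrum R) := F ∪ ⋃ C ∈ 𝒞, (C : Set (MaximalSpectrum R)) with hF₁def
    have hF₁ : IsClosed F₁ :=
      hF.union (isClosed_biUnion_finset fun C _ => C.isClosed')
    have hYF₁ : ∀ y ∈ Y, y ∈ F₁ := by
      intro y hyY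
      rw [hYdef, Finset.mem_image] at hyY
      obtain ⟨C, -, rfl⟩ := hyY
      exact Or.inr (Set.mem_iUnion₂.2 ⟨C.1, C.2, (hyC C).1⟩)
    -- new directions at the points
    have hw : ∀ y : MaximalSpectrum R, ∃ w : M, img y w ∉
        Submodule.span (R ⧸ y.asIdeal) (Set.range (fun i => img y (s i))) := by
      intro y
      obtain ⟨w, hw⟩ := exists_notMem_span (K := R ⧸ y.asIdeal) (fun i => img y (s i))
        (by have := hrk y; omega)
      obtain ⟨m, rfl⟩ := img_surjective y w
      exact ⟨m, hw⟩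
    choose w hw using hw
    -- second section
    obtain ⟨s'', F'₁, hF'₁, ⟨q'', hq''⟩, hs''S, hs''Z, hs''c⟩ :=
      ih (h + 1) (Fin.snoc s s' : Fin (h + 1) → M) F₁ hF₁ (fun x hx => Or.inl (haF x hx))
        (S ∪ Y)
        (by
          intro x hx
          rcases Finset.mem_union.1 hx with hx | hx
          · exact Or.inl (hSF x hx)
          · exact hYF₁ x hx)
        (by
          intro x hx
          rcases Finset.mem_union.1 hx with hx | hx
          · exact hSa x hx
          · exact fun hax => hYF x hx (haF x hax))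
        (fun x => if x ∈ Y then w x else 0) 0
        (fun x => by have := hrk x; omega)
        (by
          intro x hx
          exact hZ'cov hx)
    rw [zero_add] at hq''
    obtain ⟨𝒢, h𝒢, hZ''cov⟩ := exists_irreducible_cover (F := F₁)
      (isClosed_Z (Fin.snoc (Fin.snoc s s' : Fin (h + 1) → M) s'' : Fin (h + 2) → M))
    have h𝒢ht : ∀ C ∈ 𝒢, (k : ℕ∞) ≤ Order.coheight C := by
      intro C hC
      apply hs''c C
      exact subset_of_irreducible C hF₁ hF'₁ (fun x hx => hs''Z x ((h𝒢 C hC).1 hx)) (h𝒢 C hC).2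
    have hz : ∀ C : {C // C ∈ 𝒢}, ∃ z : MaximalSpectrum R,
        z ∈ (C.1 : Set (MaximalSpectrum R)) ∧ z ∉ F₁ := by
      intro C
      obtain ⟨z, hzC, hzF⟩ := Set.not_subset.1 (h𝒢 C.1 C.2).2
      exact ⟨z, hzC, hzF⟩
    choose zC hzC using hz
    set Zs : Finset (MaximalSpectrum R) := 𝒢.attach.image zC with hZsdef
    have hZsF₁ : ∀ z ∈ Zs, z ∉ F₁ := by
      intro z hzZ
      rw [hZsdef, Finset.mem_image] at hzZ
      obtain ⟨C, -, rfl⟩ := hzZ
      exact (hzC C).2
    -- the multiplier
    obtain ⟨f, hf⟩ := crt_ring (Y ∪ Zs) (fun x => if x ∈ Y then 1 else 0)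
    have hfY : ∀ y ∈ Y, Ideal.Quotient.mk y.asIdeal f = 1 := by
      intro y hyY
      have := hf y (Finset.mem_union_left _ hyY)
      rw [if_pos hyY] at this
      rw [← sub_eq_zero, ← map_one (Ideal.Quotient.mk y.asIdeal), ← map_sub]
      exact Ideal.Quotient.eq_zero_iff_mem.2 this
    have hfZ : ∀ z ∈ Zs, Ideal.Quotient.mk z.asIdeal f = 0 := by
      intro z hzZ
      have := hf z (Finset.mem_union_right _ hzZ)
      rw [if_neg (fun hzY => hZsF₁ z hzZ (hYF₁ z hzY)), sub_zero] at this
      exact Ideal.Quotient.eq_zero_iff_mem.2 this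
    -- the section
    have himg : ∀ x : MaximalSpectrum R, img x (s' + f • s'') =
        img x s' + (Ideal.Quotient.mk x.asIdeal f) • img x s'' := by
      intro x
      rw [img_add, img_smul]
    set Zt : Set (MaximalSpectrum R) := {x | ¬ LinearIndependent (R ⧸ x.asIdeal)
      (fun i => img x ((Fin.snoc s (s' + f • s'') : Fin (h + 1) → M) i))} with hZtdef
    have hZt : IsClosed Zt := isClosed_Z _
    refine ⟨s' + f • s'', Zt ∩ ((⋃ C ∈ 𝒞, (C : Set (MaximalSpectrum R))) ∪
      ⋃ C ∈ 𝒢, (C : Set (MaximalSpectrum R))),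
      hZt.inter ((isClosed_biUnion_finset fun C _ => C.isClosed').union
        (isClosed_biUnion_finset fun C _ => C.isClosed')),
      ⟨q' + f • q'', by rw [hq', hq'', smul_add, smul_smul, smul_smul, mul_comm a f, add_assoc]⟩,
      ?_, ?_, ?_⟩
    · -- interpolation
      intro x hx
      have hxY : x ∉ Y := fun hxY => hYF x hxY (hSF x hx)
      rw [himg, hs'S x hx, hs''S x (Finset.mem_union_left _ hx), if_neg hxY, img_zero, smul_zero,
        add_zero]
    · -- covering
      intro x hx
      by_cases hxF : x ∈ F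
      · exact Or.inl hxF
      · refine Or.inr ⟨hx, ?_⟩
        by_contra hcon
        rw [Set.mem_union, not_or] at hcon
        have hxF₁ : x ∉ F₁ := by
          rw [hF₁def, Set.mem_union, not_or]
          exact ⟨hxF, hcon.1⟩
        have hli : LinearIndependent (R ⧸ x.asIdeal) (fun i => img x
            ((Fin.snoc (Fin.snoc s s' : Fin (h + 1) → M) s'' : Fin (h + 2) → M) i)) := by
          by_contra hnli
          rcases hZ''cov hnli with h1 | h1
          · exact hxF₁ h1
          · exact hcon.2 h1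
        apply hx
        rw [img_snoc, img_snoc] at hli
        rw [img_snoc, himg]
        exact la1 _ _ _ hli _
    · -- codimension
      intro T hT
      have hT1 : (T : Set (MaximalSpectrum R)) ⊆ ⋃ C ∈ 𝒞 ∪ 𝒢, (C : Set (MaximalSpectrum R)) := by
        intro p hp
        rcases (hT hp).2 with h1 | h1
        · obtain ⟨C, hC, hpC⟩ := Set.mem_iUnion₂.1 h1
          exact Set.mem_iUnion₂.2 ⟨C, Finset.mem_union_left _ hC, hpC⟩
        · obtain ⟨C, hC, hpC⟩ := Set.mem_iUnion₂.1 h1
          exact Set.mem_iUnion₂.2 ⟨C, Finset.mem_union_right _ hC, hpC⟩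
      obtain ⟨C, hC, hTC⟩ := exists_mem_of_subset_biUnion T (𝒞 ∪ 𝒢) hT1
      have hCk : (k : ℕ∞) ≤ Order.coheight C := by
        rcases Finset.mem_union.1 hC with hC | hC
        · exact h𝒞ht C hC
        · exact h𝒢ht C hC
      -- a point of C outside Zt
      have hpt : ∃ p ∈ (C : Set (MaximalSpectrum R)), p ∉ Zt := by
        rcases Finset.mem_union.1 hC with hC | hC
        · refine ⟨yC ⟨C, hC⟩, (hyC ⟨C, hC⟩).1, ?_⟩
          set y := yC ⟨C, hC⟩ with hydef
          have hyY : y ∈ Y := Finset.mem_image.2 ⟨⟨C, hC⟩, Finset.mem_attach _ _, rfl⟩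
          have hyF : y ∉ F := (hyC ⟨C, hC⟩).2
          have hli : LinearIndependent (R ⧸ y.asIdeal) (fun i => img y (s i)) := by
            by_contra hn
            exact hyF (hZ y hn)
          have hnli : ¬ LinearIndependent (R ⧸ y.asIdeal)
              (fun i => img y ((Fin.snoc s s' : Fin (h + 1) → M) i)) :=
            (h𝒞 C hC).1 (hyC ⟨C, hC⟩).1
          rw [img_snoc] at hnli
          have hmem := la3 _ _ hli hnli
          have hs''y : img y s'' = img y (w y) := by
            rw [hs''S y (Finset.mem_union_right _ hyY), if_pos hyY]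
          intro hyZt
          apply hyZt
          rw [img_snoc, himg, hfY y hyY, one_smul, hs''y]
          exact la2 _ _ _ hli hmem (hw y)
        · refine ⟨zC ⟨C, hC⟩, (hzC ⟨C, hC⟩).1, ?_⟩
          set z := zC ⟨C, hC⟩ with hzdef
          have hzZs : z ∈ Zs := Finset.mem_image.2 ⟨⟨C, hC⟩, Finset.mem_attach _ _, rfl⟩
          have hzF₁ : z ∉ F₁ := (hzC ⟨C, hC⟩).2
          have hli : LinearIndependent (R ⧸ z.asIdeal)
              (fun i => img z ((Fin.snoc s s' : Fin (h + 1) → M) i)) := by
            by_contra hn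
            exact hzF₁ (hZ'cov hn)
          intro hzZt
          apply hzZt
          rw [img_snoc, himg, hfZ z hzZs, zero_smul, add_zero, ← img_snoc]
          exact hli
      obtain ⟨p, hpC, hpZt⟩ := hpt
      have hlt : T < C := by
        refine lt_of_le_of_ne hTC ?_
        rintro rfl
        exact hpZt (hT hpC).1
      have := Order.coheight_add_one_le hlt
      calc ((k + 1 : ℕ) : ℕ∞) = (k : ℕ∞) + 1 := by push_cast; rfl
        _ ≤ Order.coheight C + 1 := by gcongr
        _ ≤ Order.coheight T := this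

end Groth.Agent.Lib.Helper20.SerreSplit
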