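import Mathlib
import Groth.Agent.Lib.Helper20.SerreSplitKey

set_option autoImplicit false
universe u

namespace Groth.Agent.Lib.Helper20.SerreSplit

attribute [local instance] Ideal.Quotient.field

open TopologicalSpace

variable {R : Type u} [CommRing R] {M : Type u} [AddCommGroup M] [Module R M]

/-- if `M_x` contains a free direct summand of rank `r` then `dim V(x) ≥ r`. -/
theorem le_finrank_of_summand [Module.FinitePresentation R M] (x : MaximalSpectrum R) (r : ℕ)
    (f : (Fin r → Localization.AtPrime x.asIdeal) →ₗ[Localization.AtPrime x.asIdeal]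
      LocalizedModule x.asIdeal.primeCompl M)
    (g : LocalizedModule x.asIdeal.primeCompl M →ₗ[Localization.AtPrime x.asIdeal]
      (Fin r → Localization.AtPrime x.asIdeal))
    (hgf : g ∘ₗ f = LinearMap.id) :
    r ≤ Module.finrank (R ⧸ x.asIdeal) ((M ⧸ (x.asIdeal • ⊤ : Submodule R M)) ⧸ Bq M x) := by
  classical
  -- elements
  have hs : ∀ i : Fin r, ∃ (m : M) (t : x.asIdeal.primeCompl),
      f (Pi.single i 1) = LocalizedModule.mk m t := by
    intro i
    induction' f (Pi.single i 1) using LocalizedModule.induction_on with m t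
    exact ⟨m, t, rfl⟩
  choose s t hst using hs
  -- linear forms
  have hφ : ∀ j : Fin r, ∃ (φ : M →ₗ[R] R) (u : x.asIdeal.primeCompl),
      (Algebra.linearMap R (Localization.AtPrime x.asIdeal)) ∘ₗ φ =
        u • (((LinearMap.proj j : (Fin r → Localization.AtPrime x.asIdeal) →ₗ[_] _) ∘ₗ g).restrictScalars R ∘ₗ
          LocalizedModule.mkLinearMap x.asIdeal.primeCompl M) :=
    fun j => Module.FinitePresentation.exists_lift_of_isLocalizedModule x.asIdeal.primeCompl
      (Algebra.linearMap R (Localization.AtPrime x.asIdeal)) _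
  choose φ u hφu using hφ
  have hkey : ∀ i j, algebraMap R (Localization.AtPrime x.asIdeal) (φ j (s i)) =
      if i = j then algebraMap R _ ((u i : R) * (t i : R)) else 0 := by
    intro i j
    have h1 := LinearMap.congr_fun (hφu j) (s i)
    simp only [LinearMap.comp_apply, Algebra.linearMap_apply, LinearMap.smul_apply,
      LinearMap.restrictScalars_apply, LinearMap.proj_apply,
      LocalizedModule.mkLinearMap_apply] at h1
    rw [h1]
    have h2 : (t i : R) • (LocalizedModule.mk (s i) (t i) : LocalizedModule x.asIdeal.primeCompl M) =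
        LocalizedModule.mk (s i) 1 := by
      rw [LocalizedModule.smul'_mk, LocalizedModule.mk_eq]
      exact ⟨1, by simp only [one_smul]; rfl⟩
    have h3 : g (LocalizedModule.mk (s i) 1) = (t i : R) • (Pi.single i 1 : Fin r → Localization.AtPrime x.asIdeal) := by
      rw [← h2, ← hst i, LinearMap.map_smul_of_tower, ← LinearMap.comp_apply, hgf,
        LinearMap.id_apply]
    rw [h3]
    by_cases hij : i = j
    · subst hij
      rw [if_pos rfl, Pi.smul_apply, Pi.single_eq_same, Submonoid.smul_def, Algebra.smul_def,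
        Algebra.smul_def, mul_one, map_mul]
    · rw [if_neg hij, Pi.smul_apply, Pi.single_eq_of_ne (Ne.symm hij), smul_zero, smul_zero]
  have hdet : (Matrix.of fun i j => φ j (s i)).det ∉ x.asIdeal := by
    have h4 : (algebraMap R (Localization.AtPrime x.asIdeal)).mapMatrix
        (Matrix.of fun i j => φ j (s i)) =
        Matrix.diagonal (fun i => algebraMap R _ ((u i : R) * (t i : R))) := by
      ext i j
      rw [RingHom.mapMatrix_apply, Matrix.map_apply, Matrix.of_apply, hkey, Matrix.diagonal_apply]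
    have h5 : IsUnit ((algebraMap R (Localization.AtPrime x.asIdeal))
        (Matrix.of fun i j => φ j (s i)).det) := by
      rw [RingHom.map_det, h4, Matrix.det_diagonal]
      rw [IsUnit.prod_univ_iff]
      intro i
      exact IsLocalization.map_units (Localization.AtPrime x.asIdeal)
        (⟨(u i : R) * (t i : R), x.asIdeal.primeCompl.mul_mem (u i).2 (t i).2⟩ :
          x.asIdeal.primeCompl)
    exact (IsLocalization.AtPrime.isUnit_to_map_iff (Localization.AtPrime x.asIdeal) x.asIdeal _).1 h5
  have hli := li_of_det x s φ hdet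
  have := hli.fintype_card_le_finrank
  simpa using this

theorem exists_form_eq_one_of_img_ne_zero (t : M)
    (ht : ∀ x : MaximalSpectrum R, img x t ≠ 0) : ∃ φ : M →ₗ[R] R, φ t = 1 := by
  let I : Ideal R := LinearMap.range (LinearMap.applyₗ t : (M →ₗ[R] R) →ₗ[R] R)
  have hI : I = ⊤ := by
    by_contra hne
    obtain ⟨m, hm, hIm⟩ := Ideal.exists_le_maximal I hne
    apply ht ⟨m, hm⟩
    rw [img_eq_zero_iff]
    intro φ
    exact hIm ⟨φ, rfl⟩
  have h1 : (1 : R) ∈ I := by rw [hI]; trivial
  obtain ⟨φ, hφ⟩ := h1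
  exact ⟨φ, hφ⟩

theorem isClosed_setOf_mem (a : R) : IsClosed {x : MaximalSpectrum R | a ∈ x.asIdeal} := by
  have : {x : MaximalSpectrum R | a ∈ x.asIdeal} =
      MaximalSpectrum.toPrimeSpectrum ⁻¹' (PrimeSpectrum.zeroLocus {a}) := by
    ext x
    simp only [Set.mem_ofPred_eq, Set.mem_preimage, PrimeSpectrum.mem_zeroLocus,
      Set.singleton_subset_iff, SetLike.mem_coe]
    rfl
  rw [this]
  exact (PrimeSpectrum.isClosed_zeroLocus _).preimage MaximalSpectrum.toPrimeSpectrum_continuous

/-- relative Serre theorem: a unimodular element in `p + aM`. -/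
theorem exists_unimodular_rel [Module.Finite R M] [NoetherianSpace (MaximalSpectrum R)] (d : ℕ)
    (hdim : topologicalKrullDim (MaximalSpectrum R) ≤ d)
    (hrk : ∀ x : MaximalSpectrum R, d + 1 ≤ Module.finrank (R ⧸ x.asIdeal)
      ((M ⧸ (x.asIdeal • ⊤ : Submodule R M)) ⧸ Bq M x))
    (a : R) (p : M) (hp : ∀ x : MaximalSpectrum R, a ∈ x.asIdeal → img x p ≠ 0) :
    ∃ (q : M) (φ : M →ₗ[R] R), φ (p + a • q) = 1 := by
  classical
  obtain ⟨t, F', hF', ⟨q, hq⟩, -, htZ, htc⟩ := key (M := M) a (d + 1) 0 (Fin.elim0 : Fin 0 → M)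
    {x : MaximalSpectrum R | a ∈ x.asIdeal} (isClosed_setOf_mem a) (fun x hx => hx) ∅
    (by simp) (by simp) (fun _ => 0) p (fun x => by have := hrk x; omega)
    (fun x hx => (hx linearIndependent_empty_type).elim)
  have hF'empty : F' = ∅ := by
    rw [Set.eq_empty_iff_forall_notMem]
    intro y hy
    let Z : IrreducibleCloseds (MaximalSpectrum R) := ⟨{y}, isIrreducible_singleton, isClosed_singleton⟩
    have h1 := htc Z (by intro z hz; rw [show z = y from hz]; exact hy)
    have h2 : (Order.coheight Z : WithBot ℕ∞) ≤ (d : WithBot ℕ∞) :=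
      (Order.coheight_le_krullDim Z).trans hdim
    have h3 : Order.coheight Z ≤ (d : ℕ∞) := by exact_mod_cast h2
    have h4 : ((d + 1 : ℕ) : ℕ∞) ≤ (d : ℕ∞) := h1.trans h3
    have h5 : d + 1 ≤ d := by exact_mod_cast h4
    omega
  refine ⟨q, ?_⟩
  rw [← hq]
  apply exists_form_eq_one_of_img_ne_zero
  intro x
  by_cases hx : a ∈ x.asIdeal
  · rw [hq, img_add, img_smul, Ideal.Quotient.eq_zero_iff_mem.2 hx, zero_smul, add_zero]
    exact hp x hx
  · have hli : LinearIndependent (R ⧸ x.asIdeal)
        (fun i => img x ((Fin.snoc (Fin.elim0 : Fin 0 → M) t : Fin (0 + 1) → M) i)) := by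
      by_contra hn
      rcases htZ x hn with h1 | h1
      · exact hx h1
      · rw [hF'empty] at h1; exact h1
    have := hli.ne_zero (Fin.last 0)
    have h2 : (Fin.snoc (Fin.elim0 : Fin 0 → M) t : Fin (0 + 1) → M) (Fin.last 0) = t :=
      Fin.snoc_last _ _
    rw [h2] at this
    exact this

theorem exists_unimodular [Module.Finite R M] [NoetherianSpace (MaximalSpectrum R)] (d : ℕ)
    (hdim : topologicalKrullDim (MaximalSpectrum R) ≤ d)
    (hrk : ∀ x : MaximalSpectrum R, d + 1 ≤ Module.finrank (R ⧸ x.asIdeal)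
      ((M ⧸ (x.asIdeal • ⊤ : Submodule R M)) ⧸ Bq M x)) :
    ∃ (t : M) (φ : M →ₗ[R] R), φ t = 1 := by
  obtain ⟨q, φ, h⟩ := exists_unimodular_rel d hdim hrk (1 : R) (0 : M)
    (fun x hx => ((Ideal.ne_top_iff_one _).1 x.isMaximal.ne_top hx).elim)
  exact ⟨0 + (1 : R) • q, φ, h⟩

end Groth.Agent.Lib.Helper20.SerreSplit
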