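import Mathlib
import Groth.Agent.Lib.Helper20.SerreSplitUni

set_option autoImplicit false
universe u

namespace Groth.Agent.Lib.Helper20.SerreSplit

attribute [local instance] Ideal.Quotient.field

open TopologicalSpace

variable {R : Type u} [CommRing R]

theorem isInducing_toPrimeSpectrum :
    Topology.IsInducing (MaximalSpectrum.toPrimeSpectrum : MaximalSpectrum R → PrimeSpectrum R) :=
  ⟨rfl⟩

instance noetherianSpace_maximalSpectrum [IsNoetherianRing R] :
    NoetherianSpace (MaximalSpectrum R) :=
  isInducing_toPrimeSpectrum.noetherianSpace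

theorem dim_maximalSpectrum_le :
    topologicalKrullDim (MaximalSpectrum R) ≤ ringKrullDim R := by
  rw [← PrimeSpectrum.topologicalKrullDim_eq_ringKrullDim]
  exact isInducing_toPrimeSpectrum.topologicalKrullDim_le

variable {P : Type u} [AddCommGroup P] [Module R P]

theorem rank_le_finrank_V [Module.Finite R P] [Module.Projective R P] (x : MaximalSpectrum R) :
    Module.rankAtStalk (R := R) P x.toPrimeSpectrum ≤ Module.finrank (R ⧸ x.asIdeal)
      ((P ⧸ (x.asIdeal • ⊤ : Submodule R P)) ⧸ Bq P x) := by
  have hfp : Module.FinitePresentation R P := Module.finitePresentation_of_projective R P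
  have hfree : Module.Free (Localization.AtPrime x.asIdeal)
      (LocalizedModule x.asIdeal.primeCompl P) := Module.free_of_flat_of_isLocalRing
  let b := Module.finBasisOfFinrankEq (Localization.AtPrime x.asIdeal)
    (LocalizedModule x.asIdeal.primeCompl P) (n := Module.rankAtStalk (R := R) P x.toPrimeSpectrum) rfl
  exact le_finrank_of_summand x _ b.equivFun.symm.toLinearMap b.equivFun.toLinearMap
    (by ext v; simp)

/-- splitting off a rank one free summand given a unimodular element -/
noncomputable def splitEquiv (t : P) (φ : P →ₗ[R] R) (h : φ t = 1) :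
    P ≃ₗ[R] (LinearMap.ker φ) × R where
  toFun m := (⟨m - φ m • t, by
    rw [LinearMap.mem_ker, map_sub, map_smul, h, smul_eq_mul, mul_one, sub_self]⟩, φ m)
  map_add' m m' := by
    ext
    · simp only [map_add, add_smul, Prod.mk_add_mk, Submodule.coe_add]
      abel
    · simp
  map_smul' c m := by
    ext
    · simp only [map_smul, smul_eq_mul, RingHom.id_apply, Prod.smul_mk, Submodule.coe_smul,
        smul_sub, mul_smul]
    · simp
  invFun p := p.1.1 + p.2 • t
  left_inv m := by simp
  right_inv p := by
    obtain ⟨⟨k, hk⟩, r⟩ := p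
    rw [LinearMap.mem_ker] at hk
    ext
    · simp [hk, h]
    · simp [hk, h]

theorem exists_split [IsNoetherianRing R] (d n : ℕ) (hdim : ringKrullDim R = d) (j : ℕ) :
    ∀ (P : Type u) [AddCommGroup P] [Module R P] [Module.Finite R P] [Module.Projective R P],
      (∀ p : PrimeSpectrum R, Module.rankAtStalk (R := R) P p = n) → d + j ≤ n →
      ∃ (P' : Type u) (_ : AddCommGroup P') (_ : Module R P') (_ : Module.Finite R P')
        (_ : Module.Projective R P'),
        (∀ p : PrimeSpectrum R, Module.rankAtStalk (R := R) P' p = n - j) ∧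
        Nonempty (P ≃ₗ[R] P' × (Fin j → R)) := by
  have hnt : Nontrivial R := by
    by_contra hcon
    rw [not_nontrivial_iff_subsingleton] at hcon
    have : ringKrullDim R = ⊥ := ringKrullDim_eq_bot_of_subsingleton
    rw [this] at hdim
    exact WithBot.bot_ne_coe hdim
  induction j with
  | zero =>
    intro P _ _ _ _ hrk _
    exact ⟨P, inferInstance, inferInstance, inferInstance, inferInstance, by simpa using hrk,
      ⟨(LinearEquiv.prodUnique (R := R) (M := P) (M₂ := Fin 0 → R)).symm⟩⟩
  | succ j ih =>
    intro P _ _ _ _ hrk hle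
    obtain ⟨P', _, _, _, _, hrk', ⟨e⟩⟩ := ih P hrk (by omega)
    -- unimodular element in P'
    have hdim' : topologicalKrullDim (MaximalSpectrum R) ≤ d := by
      rw [← hdim]; exact dim_maximalSpectrum_le
    obtain ⟨t, φ, hφ⟩ := exists_unimodular (M := P') d hdim' (fun x => by
      have h1 := rank_le_finrank_V (P := P') x
      rw [hrk'] at h1
      omega)
    let e' := splitEquiv t φ hφ
    have hfin : Module.Finite R (LinearMap.ker φ) :=
      Module.Finite.of_surjective ((LinearMap.fst R _ _) ∘ₗ e'.toLinearMap)
        (Prod.fst_surjective.comp e'.surjective)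
    have hproj : Module.Projective R (LinearMap.ker φ) :=
      Module.Projective.of_split (LinearMap.ker φ).subtype
        ((LinearMap.fst R _ _) ∘ₗ e'.toLinearMap) (by
          ext ⟨k, hk⟩
          rw [LinearMap.mem_ker] at hk
          simp [e', splitEquiv, hk])
    refine ⟨LinearMap.ker φ, inferInstance, inferInstance, hfin, hproj, ?_, ?_⟩
    · intro p
      have h1 := Module.rankAtStalk_eq_of_equiv (R := R) e'
      rw [Module.rankAtStalk_prod, Module.rankAtStalk_self] at h1
      have h2 := congrFun h1 p
      rw [hrk' p] at h2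
      simp only [Pi.add_apply, Pi.one_apply] at h2
      omega
    · have e1 : (P' × (Fin j → R)) ≃ₗ[R] ((LinearMap.ker φ × R) × (Fin j → R)) :=
        LinearEquiv.prodCongr e' (LinearEquiv.refl R (Fin j → R))
      have e2 : ((LinearMap.ker φ × R) × (Fin j → R)) ≃ₗ[R] (LinearMap.ker φ × (R × (Fin j → R))) :=
        LinearEquiv.prodAssoc R _ _ _
      have e3 : (LinearMap.ker φ × (R × (Fin j → R))) ≃ₗ[R] (LinearMap.ker φ × (Fin (j + 1) → R)) :=
        LinearEquiv.prodCongr (LinearEquiv.refl R (LinearMap.ker φ))
          (Fin.consLinearEquiv R (fun _ : Fin (j + 1) => R))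
      exact ⟨((e.trans e1).trans e2).trans e3⟩

end Groth.Agent.Lib.Helper20.SerreSplit
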