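import Mathlib
import Groth.Agent.Lib.Helper20.SerreSplitProj

set_option autoImplicit false
universe u

namespace Groth.Agent.Lib.Helper20.SerreSplit

attribute [local instance] Ideal.Quotient.field

open TopologicalSpace

variable {R : Type u} [CommRing R]

/-- an isomorphism `Q' × R ≃ Q × R` fixing `(0,1)` induces `Q' ≃ Q`. -/
noncomputable def equivOfFix {Q Q' : Type u} [AddCommGroup Q] [Module R Q] [AddCommGroup Q']
    [Module R Q'] (α : (Q' × R) ≃ₗ[R] (Q × R)) (hα : α (0, 1) = (0, 1)) : Q' ≃ₗ[R] Q where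
  toFun y := (α (y, 0)).1
  map_add' y y' := by
    have : ((y + y', 0) : Q' × R) = (y, 0) + (y', 0) := by simp
    rw [this, map_add, Prod.fst_add]
  map_smul' c y := by
    have : ((c • y, 0) : Q' × R) = c • (y, 0) := by simp
    rw [this, map_smul, Prod.smul_fst, RingHom.id_apply]
  invFun x := (α.symm (x, 0)).1
  left_inv y := by
    have hα' : α.symm (0, 1) = (0, 1) := by rw [← hα, α.symm_apply_apply]
    have h1 : ((α (y, 0)).1, (0 : R)) = α (y, 0) - (α (y, 0)).2 • ((0 : Q), (1 : R)) := by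
      ext <;> simp
    simp only
    rw [h1, map_sub, map_smul, α.symm_apply_apply, hα']
    simp
  right_inv x := by
    have h1 : ((α.symm (x, 0)).1, (0 : R)) = α.symm (x, 0) - (α.symm (x, 0)).2 • ((0 : Q'), (1 : R)) := by
      ext <;> simp
    simp only
    rw [h1, map_sub, map_smul, α.apply_symm_apply, hα]
    simp

/-- horizontal shear `(x, r) ↦ (x + r • q, r)`. -/
noncomputable def shearH {Q : Type u} [AddCommGroup Q] [Module R Q] (q : Q) :
    (Q × R) ≃ₗ[R] (Q × R) :=
  (LinearEquiv.prodComm R Q R).trans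
    (((LinearEquiv.refl R R).skewProd (LinearEquiv.refl R Q) (LinearMap.toSpanSingleton R Q q)).trans
      (LinearEquiv.prodComm R R Q))

theorem shearH_apply {Q : Type u} [AddCommGroup Q] [Module R Q] (q : Q) (x : Q) (r : R) :
    shearH q (x, r) = (x + r • q, r) := by
  simp [shearH]

theorem cancel_one [IsNoetherianRing R] (d : ℕ) (hdim : ringKrullDim R = d)
    (Q Q' : Type u) [AddCommGroup Q] [Module R Q] [Module.Finite R Q] [Module.Projective R Q]
    [AddCommGroup Q'] [Module R Q']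
    (hrk : ∀ x : MaximalSpectrum R, d + 1 ≤ Module.rankAtStalk (R := R) Q x.toPrimeSpectrum)
    (θ : (Q' × R) ≃ₗ[R] (Q × R)) : Nonempty (Q' ≃ₗ[R] Q) := by
  have hdim' : topologicalKrullDim (MaximalSpectrum R) ≤ d := by
    rw [← hdim]; exact dim_maximalSpectrum_le
  set p : Q := (θ (0, 1)).1 with hp
  set a : R := (θ (0, 1)).2 with ha
  have hpa : θ (0, 1) = (p, a) := rfl
  -- the linear form showing unimodularity
  let ψ : Q × R →ₗ[R] R := (LinearMap.snd R Q' R) ∘ₗ θ.symm.toLinearMap
  have hψ : ψ (p, a) = 1 := by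
    change (θ.symm (p, a)).2 = 1
    rw [← hpa, θ.symm_apply_apply]
  have hψ' : ψ (p, 0) + a * ψ (0, 1) = 1 := by
    have : ((p, a) : Q × R) = (p, 0) + a • ((0 : Q), (1 : R)) := by ext <;> simp
    rw [this, map_add, map_smul, smul_eq_mul] at hψ
    exact hψ
  obtain ⟨q, φ, hφ⟩ := exists_unimodular_rel (M := Q) d hdim' (fun x =>
    (hrk x).trans (rank_le_finrank_V x)) a p (by
      intro x hax h0
      rw [img_eq_zero_iff] at h0
      have h1 := h0 (ψ ∘ₗ LinearMap.inl R Q R)
      have h2 : (1 : R) ∈ x.asIdeal := by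
        rw [← hψ']
        exact x.asIdeal.add_mem h1 (x.asIdeal.mul_mem_right _ hax)
      exact (Ideal.ne_top_iff_one _).1 x.isMaximal.ne_top h2)
  set p₁ : Q := p + a • q with hp₁
  let E₁ := shearH (R := R) q
  let E₂ : (Q × R) ≃ₗ[R] (Q × R) :=
    (LinearEquiv.refl R Q).skewProd (LinearEquiv.refl R R) ((1 - a) • φ)
  let E₃ := shearH (R := R) (-p₁)
  let α := ((θ.trans E₁).trans E₂).trans E₃
  have hα : α (0, 1) = (0, 1) := by
    change E₃ (E₂ (E₁ (θ (0, 1)))) = (0, 1)
    have h1 : E₁ (p, a) = (p₁, a) := shearH_apply q p a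
    have h2 : E₂ (p₁, a) = (p₁, 1) := by
      rw [LinearEquiv.skewProd_apply]
      simp only [LinearEquiv.refl_apply, LinearMap.smul_apply, smul_eq_mul]
      rw [hφ]
      ext
      · rfl
      · simp
    have h3 : E₃ (p₁, 1) = (0, 1) := by
      rw [shearH_apply]
      simp
    rw [hpa, h1, h2, h3]
  exact ⟨equivOfFix α hα⟩

/-- reassociation `(A × R^m) × R ≃ A × R^(m+1)`. -/
noncomputable def consAssoc (A : Type u) [AddCommGroup A] [Module R A] (m : ℕ) :
    ((A × (Fin m → R)) × R) ≃ₗ[R] (A × (Fin (m + 1) → R)) :=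
  (LinearEquiv.prodAssoc R A (Fin m → R) R).trans
    (LinearEquiv.prodCongr (LinearEquiv.refl R A)
      ((LinearEquiv.prodComm R (Fin m → R) R).trans
        (Fin.consLinearEquiv R (fun _ : Fin (m + 1) => R))))

theorem cancel [IsNoetherianRing R] (d n : ℕ) (hdim : ringKrullDim R = d)
    (P P' : Type u) [AddCommGroup P] [Module R P]
    [AddCommGroup P'] [Module R P'] [Module.Finite R P'] [Module.Projective R P']
    (hrk' : ∀ p : PrimeSpectrum R, Module.rankAtStalk (R := R) P' p = n) (hnd : d < n)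
    (m : ℕ) (e : (P × (Fin m → R)) ≃ₗ[R] (P' × (Fin m → R))) :
    Nonempty (P ≃ₗ[R] P') := by
  induction m with
  | zero =>
    exact ⟨((LinearEquiv.prodUnique (R := R) (M := P) (M₂ := Fin 0 → R)).symm.trans e).trans
      (LinearEquiv.prodUnique (R := R) (M := P') (M₂ := Fin 0 → R))⟩
  | succ m ih =>
    let θ : ((P × (Fin m → R)) × R) ≃ₗ[R] ((P' × (Fin m → R)) × R) :=
      (consAssoc P m).trans (e.trans (consAssoc P' m).symm)
    have hrkQ : ∀ x : MaximalSpectrum R,
        d + 1 ≤ Module.rankAtStalk (R := R) (P' × (Fin m → R)) x.toPrimeSpectrum := by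
      intro x
      rw [Module.rankAtStalk_prod, Pi.add_apply, hrk']
      omega
    obtain ⟨e'⟩ := cancel_one d hdim (P' × (Fin m → R)) (P × (Fin m → R)) hrkQ θ
    exact ih e'

end Groth.Agent.Lib.Helper20.SerreSplit
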