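import Mathlib
import Groth.Agent.Lib.Helper20.SerreSplitUni

set_option autoImplicit false
universe u

namespace Groth.Agent.Lib.Helper20.SerreSplit

attribute [local instance] Ideal.Quotient.field

open Matrix

variable {R : Type u} [CommRing R] {M : Type u} [AddCommGroup M] [Module R M]

/-- localized linear form -/
noncomputable def locForm (f : R) (φ : M →ₗ[R] R) :
    LocalizedModule (Submonoid.powers f) M →ₗ[Localization.Away f] Localization.Away f :=
  LinearMap.extendScalarsOfIsLocalization (Submonoid.powers f) (Localization.Away f)
    (LocalizedModule.lift (Submonoid.powers f)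
      ((Algebra.linearMap R (Localization.Away f)) ∘ₗ φ)
      (fun u => by
        rw [Module.End.isUnit_iff]
        have hu : IsUnit (algebraMap R (Localization.Away f) (u : R)) :=
          IsLocalization.map_units (Localization.Away f) u
        refine ⟨fun a b hab => ?_, fun b => ?_⟩
        · simp only [Module.algebraMap_end_apply] at hab
          have hab' : algebraMap R (Localization.Away f) (u : R) * a =
              algebraMap R (Localization.Away f) (u : R) * b := by
            rw [← Algebra.smul_def, ← Algebra.smul_def]; exact hab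
          exact hu.mul_left_cancel hab'
        · obtain ⟨c, hc⟩ := hu.exists_right_inv
          refine ⟨c * b, ?_⟩
          simp only [Module.algebraMap_end_apply]
          rw [Algebra.smul_def, ← mul_assoc, hc, one_mul]))

theorem locForm_mk (f : R) (φ : M →ₗ[R] R) (m : M) :
    locForm f φ (LocalizedModule.mkLinearMap (Submonoid.powers f) M m) =
      algebraMap R (Localization.Away f) (φ m) := by
  simp [locForm, LocalizedModule.lift_mk]

theorem exists_retraction_of_det {r : ℕ} (s : Fin r → M) (φ : Fin r → (M →ₗ[R] R)) :
    ∃ g : LocalizedModule (Submonoid.powers (Matrix.of fun i j => φ j (s i)).det) M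
        →ₗ[Localization.Away (Matrix.of fun i j => φ j (s i)).det]
        (Fin r → Localization.Away (Matrix.of fun i j => φ j (s i)).det),
      g ∘ₗ Fintype.linearCombination (Localization.Away (Matrix.of fun i j => φ j (s i)).det)
        (fun i => LocalizedModule.mkLinearMap
          (Submonoid.powers (Matrix.of fun i j => φ j (s i)).det) M (s i)) = LinearMap.id := by
  classical
  set f := (Matrix.of fun i j => φ j (s i)).det with hf
  let B : Matrix (Fin r) (Fin r) (Localization.Away f) :=
    (algebraMap R (Localization.Away f)).mapMatrix (Matrix.of fun i j => φ j (s i))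
  have hB : IsUnit B.det := by
    rw [← RingHom.map_det]
    exact IsLocalization.Away.algebraMap_isUnit f
  let G₀ : LocalizedModule (Submonoid.powers f) M →ₗ[Localization.Away f]
      (Fin r → Localization.Away f) := LinearMap.pi (fun j => locForm f (φ j))
  refine ⟨(Matrix.mulVecLin (B⁻¹)ᵀ) ∘ₗ G₀, ?_⟩
  apply LinearMap.ext
  intro c
  have h1 : G₀ (Fintype.linearCombination (Localization.Away f)
      (fun i => LocalizedModule.mkLinearMap (Submonoid.powers f) M (s i)) c) =
      Matrix.mulVec Bᵀ c := by
    funext j
    rw [Fintype.linearCombination_apply, map_sum]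
    simp only [Finset.sum_apply, map_smul, Pi.smul_apply]
    rw [Matrix.mulVec, dotProduct]
    refine Finset.sum_congr rfl fun i _ => ?_
    change c i • locForm f (φ j) _ = _
    rw [locForm_mk, smul_eq_mul, mul_comm]
    rfl
  rw [LinearMap.comp_apply, LinearMap.comp_apply, h1, Matrix.mulVecLin_apply,
    Matrix.mulVec_mulVec, ← Matrix.transpose_mul, Matrix.mul_nonsing_inv _ hB,
    Matrix.transpose_one, Matrix.one_mulVec, LinearMap.id_apply]

theorem det_notMem_of_retraction [Module.FinitePresentation R M] (x : MaximalSpectrum R)
    {r : ℕ} (s : Fin r → M) (f : R) (hfx : f ∉ x.asIdeal)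
    (g : LocalizedModule (Submonoid.powers f) M →ₗ[Localization.Away f]
      (Fin r → Localization.Away f))
    (hg : g ∘ₗ Fintype.linearCombination (Localization.Away f)
        (fun i => LocalizedModule.mkLinearMap (Submonoid.powers f) M (s i)) = LinearMap.id) :
    ∃ φ : Fin r → (M →ₗ[R] R), (Matrix.of fun i j => φ j (s i)).det ∉ x.asIdeal := by
  classical
  have hφ : ∀ j : Fin r, ∃ (φ : M →ₗ[R] R) (u : Submonoid.powers f),
      (Algebra.linearMap R (Localization.Away f)) ∘ₗ φ =
        u • (((LinearMap.proj j : (Fin r → Localization.Away f) →ₗ[_] _) ∘ₗ g).restrictScalars R ∘ₗ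
          LocalizedModule.mkLinearMap (Submonoid.powers f) M) :=
    fun j => Module.FinitePresentation.exists_lift_of_isLocalizedModule (Submonoid.powers f)
      (Algebra.linearMap R (Localization.Away f)) _
  choose φ u hφu using hφ
  refine ⟨φ, ?_⟩
  have hgs : ∀ i, g (LocalizedModule.mkLinearMap (Submonoid.powers f) M (s i)) =
      Pi.single i 1 := by
    intro i
    have := LinearMap.congr_fun hg (Pi.single i 1)
    rw [LinearMap.comp_apply, Fintype.linearCombination_apply_single, one_smul,
      LinearMap.id_apply] at this
    exact this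
  have hkey : ∀ i j, algebraMap R (Localization.Away f) (φ j (s i)) =
      if i = j then algebraMap R _ ((u i : R)) else 0 := by
    intro i j
    have h1 := LinearMap.congr_fun (hφu j) (s i)
    simp only [LinearMap.comp_apply, Algebra.linearMap_apply, LinearMap.smul_apply,
      LinearMap.restrictScalars_apply, LinearMap.proj_apply] at h1
    rw [h1, hgs i]
    by_cases hij : i = j
    · subst hij
      rw [if_pos rfl, Pi.single_eq_same, Submonoid.smul_def, Algebra.smul_def, mul_one]
    · rw [if_neg hij, Pi.single_eq_of_ne (Ne.symm hij), smul_zero]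
  have h4 : (algebraMap R (Localization.Away f)).mapMatrix
      (Matrix.of fun i j => φ j (s i)) =
      Matrix.diagonal (fun i => algebraMap R _ ((u i : R))) := by
    ext i j
    rw [RingHom.mapMatrix_apply, Matrix.map_apply, Matrix.of_apply, hkey, Matrix.diagonal_apply]
  have h5 : algebraMap R (Localization.Away f) (Matrix.of fun i j => φ j (s i)).det =
      algebraMap R _ (∏ i, (u i : R)) := by
    rw [RingHom.map_det, h4, Matrix.det_diagonal, map_prod]
  obtain ⟨⟨c, k, rfl⟩, hc⟩ := (IsLocalization.eq_iff_exists (Submonoid.powers f) _).1 h5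
  intro hmem
  have h6 : f ^ k * ∏ i, (u i : R) ∈ x.asIdeal := by
    rw [← hc]
    exact x.asIdeal.mul_mem_left _ hmem
  have hprime := x.isMaximal.isPrime
  rcases hprime.mem_or_mem h6 with h7 | h7
  · exact hfx (hprime.mem_of_pow_mem _ h7)
  · rw [hprime.prod_mem_iff] at h7
    obtain ⟨i, -, hi⟩ := h7
    obtain ⟨l, hl⟩ := (u i).2
    rw [← hl] at hi
    exact hfx (hprime.mem_of_pow_mem _ hi)

end Groth.Agent.Lib.Helper20.SerreSplit
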