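import Mathlib
import Groth.Agent.Lib.Helper20.SerreSplitCancel

set_option autoImplicit false
universe u

namespace Groth.Agent.Lib.Helper20.SerreSplit

open TopologicalSpace

variable {R : Type u} [CommRing R]

/-- `(ι → A × B) ≃ (ι → A) × (ι → B)`. -/
def piProdEquiv (ι : Type*) (A B : Type*) [AddCommGroup A] [Module R A] [AddCommGroup B]
    [Module R B] : (ι → A × B) ≃ₗ[R] (ι → A) × (ι → B) where
  toFun f := (fun i => (f i).1, fun i => (f i).2)
  map_add' _ _ := rfl
  map_smul' _ _ := rfl
  invFun p := fun i => (p.1 i, p.2 i)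
  left_inv _ := rfl
  right_inv _ := rfl

instance projective_pi_fin (N : ℕ) (Q : Type u) [AddCommGroup Q] [Module R Q]
    [Module.Projective R Q] : Module.Projective R (Fin N → Q) := by
  classical
  exact Module.Projective.of_equiv
    (DFinsupp.linearEquivFunOnFintype (R := R) (M := fun _ : Fin N => Q))

theorem exists_pow_equiv [IsNoetherianRing R] (d n : ℕ) (hdim : ringKrullDim R = d)
    (P Q : Type u) [AddCommGroup P] [Module R P] [Module.Finite R P] [Module.Projective R P]
    [AddCommGroup Q] [Module R Q] [Module.Finite R Q] [Module.Projective R Q]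
    (hrk : ∀ p : PrimeSpectrum R, Module.rankAtStalk (R := R) P p = n)
    (hrk' : ∀ p : PrimeSpectrum R, Module.rankAtStalk (R := R) Q p = n)
    (m : ℕ) (e : (P × (Fin m → R)) ≃ₗ[R] (Q × (Fin m → R))) :
    ∃ N : ℕ, 1 ≤ N ∧ Nonempty ((Fin N → P) ≃ₗ[R] (Fin N → Q)) := by
  rcases Nat.eq_zero_or_pos n with hn | hn
  · subst hn
    have hP : Subsingleton P :=
      Module.rankAtStalk_eq_zero_iff_subsingleton.1 (funext fun p => hrk p)
    have hQ : Subsingleton Q :=
      Module.rankAtStalk_eq_zero_iff_subsingleton.1 (funext fun p => hrk' p)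
    exact ⟨1, le_rfl, ⟨LinearEquiv.ofSubsingleton _ _⟩⟩
  · refine ⟨d + 1, by omega, ?_⟩
    let N := d + 1
    have e1 : (Fin N → (P × (Fin m → R))) ≃ₗ[R] (Fin N → (Q × (Fin m → R))) :=
      LinearEquiv.piCongrRight (fun _ => e)
    have c : (Fin N → Fin m → R) ≃ₗ[R] (Fin (N * m) → R) :=
      (LinearEquiv.curry R R (Fin N) (Fin m)).symm.trans
        (LinearEquiv.funCongrLeft R R finProdFinEquiv.symm)
    have e2 : ((Fin N → P) × (Fin (N * m) → R)) ≃ₗ[R] ((Fin N → Q) × (Fin (N * m) → R)) :=
      ((LinearEquiv.prodCongr (LinearEquiv.refl R _) c.symm).trans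
        (piProdEquiv (R := R) (Fin N) P (Fin m → R)).symm).trans
        (e1.trans ((piProdEquiv (R := R) (Fin N) Q (Fin m → R)).trans
          (LinearEquiv.prodCongr (LinearEquiv.refl R _) c)))
    refine cancel d (N * n) hdim (Fin N → P) (Fin N → Q) ?_ ?_ (N * m) e2
    · intro p
      rw [Module.rankAtStalk_pi, finsum_eq_sum_of_fintype]
      simp [hrk', N]
    · have : d < (d + 1) * n := by nlinarith
      exact this

end Groth.Agent.Lib.Helper20.SerreSplit
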