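import Mathlib

/-!
# A spectral space is a directed limit of finite sober T0 spaces (helper20)
-/

set_option autoImplicit false

namespace Groth.Agent.Lib.Helper20.SpecLim

universe u

open TopologicalSpace

/-- finite topological spaces are quasi-sober -/
theorem quasiSober_of_finite (Y : Type*) [TopologicalSpace Y] [Finite Y] : QuasiSober Y := by
  classical
  constructor
  intro S hS hScl
  have hfin : S.Finite := Set.toFinite S
  let t : Finset (Set Y) := hfin.toFinset.image (fun x => closure {x})
  have h1 : ∀ z ∈ t, IsClosed z := by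
    intro z hz
    obtain ⟨x, -, rfl⟩ := Finset.mem_image.mp hz
    exact isClosed_closure
  have h2 : S ⊆ ⋃₀ (↑t : Set (Set Y)) := by
    intro x hx
    refine Set.mem_sUnion.mpr ⟨closure {x}, ?_, subset_closure rfl⟩
    exact Finset.mem_coe.mpr (Finset.mem_image.mpr ⟨x, hfin.mem_toFinset.mpr hx, rfl⟩)
  obtain ⟨z, hz, hSz⟩ := isIrreducible_iff_sUnion_isClosed.mp hS t h1 h2
  obtain ⟨x, hx, rfl⟩ := Finset.mem_image.mp hz
  refine ⟨x, ?_⟩
  have hxS : x ∈ S := hfin.mem_toFinset.mp hx
  exact le_antisymm (hScl.closure_subset_iff.mpr (Set.singleton_subset_iff.mpr hxS)) hSz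

/-- compactness of the constructible topology: a "finitely consistent" assignment of truth values
to the quasi-compact opens of a spectral space is realised by a point. -/
theorem exists_point_of_finitely_consistent {X : Type u} [TopologicalSpace X] [SpectralSpace X]
    (q : CompactOpens X → Prop)
    (hq : ∀ u : Finset (CompactOpens X), ∃ x : X, ∀ U ∈ u, (x ∈ (U : Set X) ↔ q U)) :
    ∃ x : X, ∀ U : CompactOpens X, (x ∈ (U : Set X) ↔ q U) := by
  classical
  let t : CompactOpens X → Set (WithConstructibleTopology X) :=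
    fun U => {y | WithTopology.ofTopology y ∈ (U : Set X) ↔ q U}
  have htc : ∀ U, IsClosed (t U) := by
    intro U
    rw [WithConstructibleTopology.isClosed_iff]
    by_cases hU : q U
    · have : (WithTopology.toTopology (constructibleTopology X)) ⁻¹' t U = (U : Set X) := by
        ext x
        simp only [t, Set.mem_preimage, Set.mem_ofPred_eq, hU, iff_true]
      rw [this]
      refine (@isOpen_compl_iff X _ (constructibleTopology X)).mp ?_
      apply IsCompact.isOpen_constructibleTopology_of_isClosed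
      · rw [compl_compl]; exact U.isCompact
      · exact U.isOpen.isClosed_compl
    · have : (WithTopology.toTopology (constructibleTopology X)) ⁻¹' t U = (U : Set X)ᶜ := by
        ext x
        simp only [t, Set.mem_preimage, Set.mem_ofPred_eq, hU, iff_false, Set.mem_compl_iff]
      rw [this]
      refine (@isClosed_compl_iff X (constructibleTopology X) _).mpr ?_
      exact IsCompact.isOpen_constructibleTopology_of_isOpen U.isCompact U.isOpen
  have hst : ∀ u : Finset (CompactOpens X),
      (Set.univ ∩ ⋂ i ∈ u, t i).Nonempty := by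
    intro u
    obtain ⟨x, hx⟩ := hq u
    refine ⟨WithTopology.toTopology _ x, Set.mem_univ _, ?_⟩
    simp only [Set.mem_iInter]
    intro U hU
    exact hx U hU
  obtain ⟨y, -, hy⟩ := isCompact_univ.inter_iInter_nonempty t htc hst
  refine ⟨WithTopology.ofTopology y, fun U => ?_⟩
  exact Set.mem_iInter.mp hy U

open CategoryTheory CategoryTheory.Limits Opposite

section functor

variable (X : Type u) [TopologicalSpace X]

/-- the map to the `𝒰`-th power of the Sierpinski space -/
def proj (𝒰 : Finset (CompactOpens X)) (x : X) : ↥𝒰 → Prop := fun U => x ∈ (U.1 : Set X)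

theorem continuous_proj (𝒰 : Finset (CompactOpens X)) : Continuous (proj X 𝒰) :=
  continuous_pi fun U => continuous_Prop.mpr U.1.isOpen

/-- restriction -/
def res {𝒰 𝒱 : Finset (CompactOpens X)} (h : 𝒰 ≤ 𝒱) :
    ↥(Set.range (proj X 𝒱)) → ↥(Set.range (proj X 𝒰)) :=
  fun p => ⟨fun U => p.1 ⟨U.1, h U.2⟩, by
    obtain ⟨x, hx⟩ := p.2
    exact ⟨x, by funext U; rw [← hx]; rfl⟩⟩

theorem continuous_res {𝒰 𝒱 : Finset (CompactOpens X)} (h : 𝒰 ≤ 𝒱) : Continuous (res X h) :=
  Continuous.subtype_mk (f := fun p : ↥(Set.range (proj X 𝒱)) => fun U : ↥𝒰 => p.1 ⟨U.1, h U.2⟩)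
    (continuous_pi fun U => (continuous_apply (⟨U.1, h U.2⟩ : ↥𝒱)).comp continuous_subtype_val) _

/-- the diagram of finite spaces -/
noncomputable def F : (Finset (CompactOpens X))ᵒᵖ ⥤ TopCat.{u} where
  obj 𝒰 := TopCat.of ↥(Set.range (proj X 𝒰.unop))
  map {𝒱 𝒰} f := TopCat.ofHom ⟨res X (leOfHom f.unop), continuous_res X _⟩
  map_id 𝒰 := by
    apply TopCat.hom_ext
    ext p
    rfl
  map_comp f g := by
    apply TopCat.hom_ext
    ext p
    rfl

/-- the cone with vertex `X` -/
noncomputable def cone : Cone (F X) where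
  pt := TopCat.of X
  π :=
    { app := fun 𝒰 => TopCat.ofHom ⟨fun x => ⟨proj X 𝒰.unop x, x, rfl⟩,
        Continuous.subtype_mk (continuous_proj X _) _⟩
      naturality := fun 𝒱 𝒰 f => by
        apply TopCat.hom_ext
        ext x
        rfl }

theorem F_obj_props (𝒰 : (Finset (CompactOpens X))ᵒᵖ) :
    Finite ((F X).obj 𝒰) ∧ T0Space ((F X).obj 𝒰) ∧ QuasiSober ((F X).obj 𝒰) := by
  have h1 : Finite ↥(Set.range (proj X 𝒰.unop)) := inferInstance
  have h2 : T0Space ↥(Set.range (proj X 𝒰.unop)) := inferInstance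
  exact ⟨h1, h2, @quasiSober_of_finite _ _ h1⟩

end functor

section limit

variable (X : Type u) [TopologicalSpace X]

theorem cone_compat (s : Cone (F X)) (p : s.pt) {u v : Finset (CompactOpens X)} (h : u ≤ v)
    (U : CompactOpens X) (hU : U ∈ u) :
    (s.π.app (op u) p).1 ⟨U, hU⟩ = (s.π.app (op v) p).1 ⟨U, h hU⟩ := by
  have hw := s.w (homOfLE h).op
  have := ConcreteCategory.congr_hom hw p
  rw [← this]
  rfl

variable [SpectralSpace X]

theorem exists_lift (s : Cone (F X)) (p : s.pt) :
    ∃ x : X, ∀ U : CompactOpens X,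
      (x ∈ (U : Set X) ↔ (s.π.app (op {U}) p).1 ⟨U, Finset.mem_singleton_self U⟩) := by
  apply exists_point_of_finitely_consistent
  intro u
  obtain ⟨x, hx⟩ := (s.π.app (op u) p).2
  refine ⟨x, fun U hU => ?_⟩
  rw [cone_compat X s p (Finset.singleton_subset_iff.mpr hU) U (Finset.mem_singleton_self U),
    ← hx]
  rfl

/-- the point of `X` determined by a point of a cone -/
noncomputable def liftFun (s : Cone (F X)) (p : s.pt) : X := (exists_lift X s p).choose

theorem liftFun_spec (s : Cone (F X)) (p : s.pt) (U : CompactOpens X) :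
    liftFun X s p ∈ (U : Set X) ↔ (s.π.app (op {U}) p).1 ⟨U, Finset.mem_singleton_self U⟩ :=
  (exists_lift X s p).choose_spec U

theorem continuous_liftFun (s : Cone (F X)) : Continuous (liftFun X s) := by
  rw [(PrespectralSpace.isTopologicalBasis (X := X)).continuous_iff]
  rintro U ⟨hUo, hUc⟩
  let U' : CompactOpens X := ⟨⟨U, hUc⟩, hUo⟩
  have : liftFun X s ⁻¹' U = (s.π.app (op {U'})) ⁻¹'
      {r | r.1 ⟨U', Finset.mem_singleton_self U'⟩} := by
    ext p
    exact liftFun_spec X s p U'
  rw [this]
  apply IsOpen.preimage (s.π.app (op {U'})).hom.continuous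
  have hc : Continuous (fun r : ↥(Set.range (proj X {U'})) =>
      r.1 ⟨U', Finset.mem_singleton_self U'⟩) :=
    (continuous_apply _).comp continuous_subtype_val
  exact continuous_Prop.mp hc

theorem eq_of_forall_mem_iff {x y : X}
    (h : ∀ U : CompactOpens X, (x ∈ (U : Set X) ↔ y ∈ (U : Set X))) : x = y := by
  apply Inseparable.eq
  rw [(PrespectralSpace.isTopologicalBasis (X := X)).inseparable_iff]
  rintro U ⟨hUo, hUc⟩
  exact h ⟨⟨U, hUc⟩, hUo⟩

/-- `X` is the limit of its finite approximations -/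
noncomputable def isLimit : IsLimit (cone X) where
  lift s := TopCat.ofHom ⟨liftFun X s, continuous_liftFun X s⟩
  fac s 𝒰 := by
    apply TopCat.hom_ext
    ext p
    apply Subtype.ext
    funext U
    show (liftFun X s p ∈ (U.1 : Set X)) = (s.π.app 𝒰 p).1 U
    rw [liftFun_spec X s p U.1]
    exact propext (Iff.of_eq (cone_compat X s p
      (Finset.singleton_subset_iff.mpr U.2) U.1 (Finset.mem_singleton_self U.1)))
  uniq s m hm := by
    apply TopCat.hom_ext
    ext p
    apply eq_of_forall_mem_iff X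
    intro U
    show m p ∈ (U : Set X) ↔ liftFun X s p ∈ (U : Set X)
    rw [liftFun_spec X s p U]
    have := ConcreteCategory.congr_hom (hm (op {U})) p
    rw [← this]
    rfl

theorem main : ∃ (J : Type u) (_ : Preorder J) (_ : Nonempty J) (_ : IsDirected J (· ≤ ·))
    (F : Jᵒᵖ ⥤ TopCat.{u}) (c : Cone F), Nonempty (IsLimit c) ∧
      (∀ j : Jᵒᵖ, Finite (F.obj j) ∧ T0Space (F.obj j) ∧ QuasiSober (F.obj j)) ∧
      Nonempty (c.pt ≅ TopCat.of X) := by
  classical
  exact ⟨Finset (CompactOpens X), inferInstance, ⟨∅⟩, inferInstance, F X, cone X, ⟨isLimit X⟩,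
    F_obj_props X, ⟨Iso.refl _⟩⟩

end limit

end Groth.Agent.Lib.Helper20.SpecLim
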