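import Mathlib

/-!
# Topology of spectral spaces: pro-constructible sets, connected components (helper20)
-/

set_option autoImplicit false

namespace Groth.Agent.Lib.Helper20.SpecTop

universe u

open TopologicalSpace Topology

section ct

variable {X : Type u} [TopologicalSpace X]

/-- closed in the constructible topology -/
def CtClosed (E : Set X) : Prop := IsClosed[constructibleTopology X] E

theorem ctClosed_of_compact_open {U : Set X} (hU : IsCompact U) (hUo : IsOpen U) :
    CtClosed U := by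
  refine (@isOpen_compl_iff X _ (constructibleTopology X)).mp ?_
  apply IsCompact.isOpen_constructibleTopology_of_isClosed
  · rw [compl_compl]; exact hU
  · exact hUo.isClosed_compl

theorem ctClosed_compl_of_compact_open {U : Set X} (hU : IsCompact U) (hUo : IsOpen U) :
    CtClosed Uᶜ :=
  (@isClosed_compl_iff X (constructibleTopology X) _).mpr
    (IsCompact.isOpen_constructibleTopology_of_isOpen hU hUo)

theorem CtClosed.inter {E F : Set X} (hE : CtClosed E) (hF : CtClosed F) : CtClosed (E ∩ F) :=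
  @IsClosed.inter X _ _ (constructibleTopology X) hE hF

theorem CtClosed.union {E F : Set X} (hE : CtClosed E) (hF : CtClosed F) : CtClosed (E ∪ F) :=
  @IsClosed.union X _ _ (constructibleTopology X) hE hF

theorem ctClosed_iInter {ι : Sort*} {t : ι → Set X} (h : ∀ i, CtClosed (t i)) :
    CtClosed (⋂ i, t i) :=
  @isClosed_iInter X ι (constructibleTopology X) t h

theorem ctClosed_sInter {S : Set (Set X)} (h : ∀ s ∈ S, CtClosed s) : CtClosed (⋂₀ S) :=
  @isClosed_sInter X (constructibleTopology X) S h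

theorem ctClosed_univ : CtClosed (Set.univ : Set X) := @isClosed_univ X (constructibleTopology X)

theorem ctClosed_empty : CtClosed (∅ : Set X) := @isClosed_empty X (constructibleTopology X)

theorem ctClosed_of_isClosed [PrespectralSpace X] {Z : Set X} (hZ : IsClosed Z) : CtClosed Z := by
  refine (@isOpen_compl_iff X _ (constructibleTopology X)).mp ?_
  have hb := PrespectralSpace.isTopologicalBasis (X := X)
  obtain ⟨S, hS, hSu⟩ := hb.open_eq_sUnion hZ.isOpen_compl
  rw [hSu]
  apply @isOpen_sUnion X (constructibleTopology X)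
  intro U hU
  exact IsCompact.isOpen_constructibleTopology_of_isOpen (hS hU).2 (hS hU).1

/-- compactness of the constructible topology, in terms of finite intersections -/
theorem nonempty_iInter_of_ctClosed [SpectralSpace X] {ι : Type*} (t : ι → Set X)
    (htc : ∀ i, CtClosed (t i)) (hst : ∀ u : Finset ι, (⋂ i ∈ u, t i).Nonempty) :
    (⋂ i, t i).Nonempty := by
  let t' : ι → Set (WithConstructibleTopology X) := fun i => WithTopology.ofTopology ⁻¹' t i
  have htc' : ∀ i, IsClosed (t' i) := by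
    intro i
    rw [WithConstructibleTopology.isClosed_iff]
    exact htc i
  have hst' : ∀ u : Finset ι, (Set.univ ∩ ⋂ i ∈ u, t' i).Nonempty := by
    intro u
    obtain ⟨x, hx⟩ := hst u
    refine ⟨WithTopology.toTopology _ x, Set.mem_univ _, ?_⟩
    simp only [Set.mem_iInter] at hx ⊢
    intro i hi
    exact hx i hi
  obtain ⟨y, -, hy⟩ := isCompact_univ.inter_iInter_nonempty t' htc' hst'
  refine ⟨WithTopology.ofTopology y, ?_⟩
  simp only [Set.mem_iInter] at hy ⊢
  exact hy

end ct

section spec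

variable {X : Type u} [TopologicalSpace X] [SpectralSpace X]

/-- Stacks 0903: a pro-constructible subset stable under specialization is closed. -/
theorem isClosed_of_ctClosed_of_stableUnderSpecialization {E : Set X} (hE : CtClosed E)
    (hs : StableUnderSpecialization E) : IsClosed E := by
  rw [← closure_subset_iff_isClosed]
  intro x hx
  let ι := {U : Set X // IsOpen U ∧ IsCompact U ∧ x ∈ U}
  let t : ι → Set X := fun U => E ∩ U.1
  have htc : ∀ i, CtClosed (t i) := fun U =>
    hE.inter (ctClosed_of_compact_open U.2.2.1 U.2.1)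
  have hst : ∀ u : Finset ι, (⋂ i ∈ u, t i).Nonempty := by
    intro u
    have hopen : IsOpen (⋂ i ∈ u, (i : ι).1) :=
      isOpen_biInter_finset fun i _ => i.2.1
    have hxm : x ∈ ⋂ i ∈ u, (i : ι).1 := by
      simp only [Set.mem_iInter]
      intro i _
      exact i.2.2.2
    obtain ⟨y, hy1, hy2⟩ := mem_closure_iff.mp hx _ hopen hxm
    refine ⟨y, ?_⟩
    simp only [Set.mem_iInter] at hy1 ⊢
    intro i hi
    exact ⟨hy2, hy1 i hi⟩
  obtain ⟨y, hy⟩ := nonempty_iInter_of_ctClosed t htc hst
  simp only [Set.mem_iInter] at hy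
  have hyE : y ∈ E := by
    have hXo : IsOpen (Set.univ : Set X) := isOpen_univ
    exact (hy ⟨Set.univ, isOpen_univ, isCompact_univ, Set.mem_univ x⟩).1
  have hspec : y ⤳ x := by
    rw [specializes_iff_forall_open]
    intro V hV hxV
    obtain ⟨U, ⟨hUo, hUc⟩, hxU, hUV⟩ :=
      (PrespectralSpace.isTopologicalBasis (X := X)).exists_subset_of_mem_open hxV hV
    exact hUV (hy ⟨U, hUo, hUc, hxU⟩).2
  exact hs hspec hyE

/-- the set of generalizations of points of `Z` -/
def gen (Z : Set X) : Set X := {x | ∃ z ∈ Z, x ⤳ z}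

theorem subset_gen (Z : Set X) : Z ⊆ gen Z := fun z hz => ⟨z, hz, specializes_rfl⟩

theorem gen_stableUnderGeneralization (Z : Set X) : StableUnderGeneralization (gen Z) := by
  rintro x y hyx ⟨z, hz, hxz⟩
  exact ⟨z, hz, hyx.trans hxz⟩

theorem gen_eq_sInter {Z : Set X} (hZ : IsClosed Z) :
    gen Z = ⋂₀ {U : Set X | IsOpen U ∧ IsCompact U ∧ Z ⊆ U} := by
  apply Set.Subset.antisymm
  · rintro x ⟨z, hz, hxz⟩ U ⟨hUo, -, hZU⟩
    exact hxz.mem_open hUo (hZU hz)
  · intro x hx
    by_contra hxg
    have hdisj : ∀ z ∈ Z, z ∉ closure ({x} : Set X) := by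
      intro z hz hzc
      exact hxg ⟨z, hz, specializes_iff_mem_closure.mpr hzc⟩
    have hZc : IsCompact Z := hZ.isCompact
    have hb := PrespectralSpace.isTopologicalBasis (X := X)
    -- cover Z by compact opens inside the complement of closure {x}
    have hcov : ∀ z ∈ Z, ∃ U : Set X, (IsOpen U ∧ IsCompact U) ∧ z ∈ U ∧
        U ⊆ (closure ({x} : Set X))ᶜ := fun z hz =>
      hb.exists_subset_of_mem_open (hdisj z hz) isClosed_closure.isOpen_compl
    choose! U hU1 hU2 hU3 using hcov
    obtain ⟨s, hsZ, hs⟩ := hZc.elim_finite_subcover_image (b := Z) (c := U)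
      (fun z hz => (hU1 z hz).1) (fun z hz => Set.mem_biUnion hz (hU2 z hz))
    have hmem : (⋃ z ∈ s, U z) ∈ {U : Set X | IsOpen U ∧ IsCompact U ∧ Z ⊆ U} := by
      refine ⟨isOpen_biUnion fun z hz => (hU1 z (hsZ hz)).1, ?_, hs.2⟩
      exact hs.1.isCompact_biUnion fun z hz => (hU1 z (hsZ hz)).2
    have := hx _ hmem
    simp only [Set.mem_iUnion] at this
    obtain ⟨z, hz, hxz⟩ := this
    exact hU3 z (hsZ hz) hxz (subset_closure rfl)

theorem ctClosed_gen {Z : Set X} (hZ : IsClosed Z) : CtClosed (gen Z) := by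
  rw [gen_eq_sInter hZ]
  apply ctClosed_sInter
  rintro U ⟨hUo, hUc, -⟩
  exact ctClosed_of_compact_open hUc hUo

end spec

section decomposition

variable {X : Type u} [TopologicalSpace X] [SpectralSpace X]

theorem exists_clopen_decomposition (Z : Set X)
    (hconn : ∀ x : X, IsConnected (Z ∩ closure {x}))
    (Z₁ Z₂ : Set X) (h₁ : IsClosed Z₁) (h₂ : IsClosed Z₂) (hdisj : Disjoint Z₁ Z₂)
    (hunion : Z₁ ∪ Z₂ = Z) :
    IsClosed (gen Z₁) ∧ IsClosed (gen Z₂) ∧ Disjoint (gen Z₁) (gen Z₂) ∧
      gen Z₁ ∪ gen Z₂ = Set.univ ∧ Z₁ = Z ∩ gen Z₁ ∧ Z₂ = Z ∩ gen Z₂ := by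
  have hcover : ∀ x : X, x ∈ gen Z₁ ∨ x ∈ gen Z₂ := by
    intro x
    obtain ⟨z, hzZ, hzc⟩ := (hconn x).nonempty
    rw [← hunion] at hzZ
    rcases hzZ with h | h
    · exact Or.inl ⟨z, h, specializes_iff_mem_closure.mpr hzc⟩
    · exact Or.inr ⟨z, h, specializes_iff_mem_closure.mpr hzc⟩
  have hdis : ∀ x : X, x ∈ gen Z₁ → x ∈ gen Z₂ → False := by
    rintro x ⟨z1, hz1, hxz1⟩ ⟨z2, hz2, hxz2⟩
    have hpre := (hconn x).isPreconnected
    rw [isPreconnected_closed_iff] at hpre
    have hsub : Z ∩ closure {x} ⊆ Z₁ ∪ Z₂ := by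
      rw [hunion]; exact Set.inter_subset_left
    obtain ⟨w, -, hw1, hw2⟩ := hpre Z₁ Z₂ h₁ h₂ hsub
      ⟨z1, ⟨hunion ▸ Or.inl hz1, specializes_iff_mem_closure.mp hxz1⟩, hz1⟩
      ⟨z2, ⟨hunion ▸ Or.inr hz2, specializes_iff_mem_closure.mp hxz2⟩, hz2⟩
    exact Set.disjoint_left.mp hdisj hw1 hw2
  have hcl : ∀ (A B : Set X), IsClosed A → (∀ x, x ∈ gen A ∨ x ∈ gen B) →
      (∀ x, x ∈ gen A → x ∈ gen B → False) → IsClosed (gen A) := by
    intro A B hA hc hd
    apply isClosed_of_ctClosed_of_stableUnderSpecialization (ctClosed_gen hA)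
    intro x y hxy hx
    rcases hc y with h | h
    · exact h
    · exact (hd x hx (gen_stableUnderGeneralization B hxy h)).elim
  refine ⟨hcl Z₁ Z₂ h₁ hcover hdis, hcl Z₂ Z₁ h₂ (fun x => (hcover x).symm)
    (fun x h1 h2 => hdis x h2 h1), ?_, ?_, ?_, ?_⟩
  · exact Set.disjoint_left.mpr fun x h1 h2 => hdis x h1 h2
  · exact Set.eq_univ_of_forall fun x => hcover x
  · apply Set.Subset.antisymm
    · intro z hz
      exact ⟨hunion ▸ Or.inl hz, subset_gen _ hz⟩
    · rintro z ⟨hzZ, hzg⟩
      rw [← hunion] at hzZ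
      rcases hzZ with h | h
      · exact h
      · exact (hdis z hzg (subset_gen _ h)).elim
  · apply Set.Subset.antisymm
    · intro z hz
      exact ⟨hunion ▸ Or.inr hz, subset_gen _ hz⟩
    · rintro z ⟨hzZ, hzg⟩
      rw [← hunion] at hzZ
      rcases hzZ with h | h
      · exact (hdis z (subset_gen _ h) hzg).elim
      · exact h

end decomposition

section components

variable {X : Type u} [TopologicalSpace X]

/-- the quasi-component of a point -/
def quasiComp (x : X) : Set X := ⋂ Z : {Z : Set X // IsClopen Z ∧ x ∈ Z}, Z.1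

theorem mem_quasiComp_self (x : X) : x ∈ quasiComp x :=
  Set.mem_iInter.mpr fun Z => Z.2.2

theorem isClosed_quasiComp (x : X) : IsClosed (quasiComp x) :=
  isClosed_iInter fun Z => Z.2.1.isClosed

theorem quasiComp_subset {x : X} {Z : Set X} (hZ : IsClopen Z) (hx : x ∈ Z) : quasiComp x ⊆ Z :=
  Set.iInter_subset _ (⟨Z, hZ, hx⟩ : {Z : Set X // IsClopen Z ∧ x ∈ Z})

theorem exists_isClopen_disjoint_of_isCompact {x : X} {K : Set X} (hK : IsCompact K)
    (hKx : K ∩ quasiComp x = ∅) : ∃ Z : Set X, IsClopen Z ∧ x ∈ Z ∧ K ∩ Z = ∅ := by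
  classical
  obtain ⟨u, hu⟩ := hK.elim_finite_subfamily_closed
    (fun Z : {Z : Set X // IsClopen Z ∧ x ∈ Z} => Z.1) (fun Z => Z.2.1.isClosed) hKx
  refine ⟨⋂ i ∈ u, (i : {Z : Set X // IsClopen Z ∧ x ∈ Z}).1, ?_, ?_, hu⟩
  · exact isClopen_biInter_finset fun i _ => i.2.1
  · simp only [Set.mem_iInter]
    intro i _
    exact i.2.2

theorem isPreconnected_quasiComp [CompactSpace X] [PrespectralSpace X] [QuasiSeparatedSpace X]
    (x : X) : IsPreconnected (quasiComp x) := by
  rw [isPreconnected_iff_subset_of_disjoint_closed]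
  -- symmetric core
  have core : ∀ u v : Set X, IsClosed u → IsClosed v → quasiComp x ⊆ u ∪ v →
      quasiComp x ∩ (u ∩ v) = ∅ → x ∈ u → quasiComp x ⊆ u := by
    intro u v hu hv hsub hdisj hxu
    let B := quasiComp x ∩ u
    let C := quasiComp x ∩ v
    have hB : IsClosed B := (isClosed_quasiComp x).inter hu
    have hC : IsClosed C := (isClosed_quasiComp x).inter hv
    have hBC : B ∩ C = ∅ := by
      apply Set.eq_empty_of_forall_notMem
      rintro y ⟨⟨hy1, hy2⟩, ⟨-, hy3⟩⟩
      have : y ∈ quasiComp x ∩ (u ∩ v) := ⟨hy1, hy2, hy3⟩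
      rw [hdisj] at this
      exact this
    obtain ⟨U, hUc, hUo, hBU, hUC⟩ := PrespectralSpace.exists_isCompact_and_isOpen_between
      hB.isCompact hC.isOpen_compl (fun y hyB hyC => by
        have : y ∈ B ∩ C := ⟨hyB, hyC⟩
        rw [hBC] at this; exact this)
    obtain ⟨V, hVc, hVo, hCV, hVB⟩ := PrespectralSpace.exists_isCompact_and_isOpen_between
      hC.isCompact hB.isOpen_compl (fun y hyC hyB => by
        have : y ∈ B ∩ C := ⟨hyB, hyC⟩
        rw [hBC] at this; exact this)
    have hUV : IsCompact (U ∩ V) := QuasiSeparatedSpace.inter_isCompact U V hUo hUc hVo hVc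
    have h1 : (U ∩ V) ∩ quasiComp x = ∅ := by
      apply Set.eq_empty_of_forall_notMem
      rintro y ⟨⟨hyU, hyV⟩, hyq⟩
      rcases hsub hyq with h | h
      · exact hVB hyV ⟨hyq, h⟩
      · exact hUC hyU ⟨hyq, h⟩
    have h2 : (U ∪ V)ᶜ ∩ quasiComp x = ∅ := by
      apply Set.eq_empty_of_forall_notMem
      rintro y ⟨hy, hyq⟩
      rcases hsub hyq with h | h
      · exact hy (Or.inl (hBU ⟨hyq, h⟩))
      · exact hy (Or.inr (hCV ⟨hyq, h⟩))
    obtain ⟨Z1, hZ1, hxZ1, hZ1e⟩ := exists_isClopen_disjoint_of_isCompact hUV h1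
    obtain ⟨Z2, hZ2, hxZ2, hZ2e⟩ := exists_isClopen_disjoint_of_isCompact
      (hUo.union hVo).isClosed_compl.isCompact h2
    have hZ2' : Z2 ⊆ U ∪ V := by
      intro y hy
      by_contra hn
      have : y ∈ (U ∪ V)ᶜ ∩ Z2 := ⟨hn, hy⟩
      rw [hZ2e] at this; exact this
    have hZ1' : ∀ y ∈ Z1, y ∈ U → y ∈ V → False := by
      intro y hy hyU hyV
      have : y ∈ (U ∩ V) ∩ Z1 := ⟨⟨hyU, hyV⟩, hy⟩
      rw [hZ1e] at this; exact this
    have hxU : x ∈ U := hBU ⟨mem_quasiComp_self x, hxu⟩
    -- the clopen set Z1 ∩ Z2 ∩ U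
    have heq : (Z1 ∩ Z2) ∩ U = (Z1 ∩ Z2) ∩ Vᶜ := by
      ext y
      constructor
      · rintro ⟨⟨hy1, hy2⟩, hyU⟩
        exact ⟨⟨hy1, hy2⟩, fun hyV => hZ1' y hy1 hyU hyV⟩
      · rintro ⟨⟨hy1, hy2⟩, hyV⟩
        rcases hZ2' hy2 with h | h
        · exact ⟨⟨hy1, hy2⟩, h⟩
        · exact (hyV h).elim
    have hclopen : IsClopen ((Z1 ∩ Z2) ∩ U) := by
      refine ⟨?_, (hZ1.inter hZ2).isOpen.inter hUo⟩
      rw [heq]
      exact (hZ1.inter hZ2).isClosed.inter hVo.isClosed_compl
    have hsub' : quasiComp x ⊆ (Z1 ∩ Z2) ∩ U :=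
      quasiComp_subset hclopen ⟨⟨hxZ1, hxZ2⟩, hxU⟩
    intro y hy
    rcases hsub hy with h | h
    · exact h
    · exfalso
      have hyV : y ∈ V := hCV ⟨hy, h⟩
      have := hsub' hy
      exact hZ1' y this.1.1 this.2 hyV
  intro u v hu hv hsub hdisj
  rcases hsub (mem_quasiComp_self x) with h | h
  · exact Or.inl (core u v hu hv hsub hdisj h)
  · refine Or.inr (core v u hv hu ?_ ?_ h)
    · rwa [Set.union_comm]
    · rwa [Set.inter_comm v u]

theorem connectedComponent_eq_quasiComp [CompactSpace X] [PrespectralSpace X]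
    [QuasiSeparatedSpace X] (x : X) : connectedComponent x = quasiComp x := by
  apply Set.Subset.antisymm
  · exact connectedComponent_subset_iInter_isClopen
  · exact (isPreconnected_quasiComp x).subset_connectedComponent (mem_quasiComp_self x)

end components

section closedpoints

variable {X : Type u} [TopologicalSpace X]

theorem closedPoints_surjective [T0Space X] [CompactSpace X] :
    Function.Surjective
      (fun x : {x : X // IsClosed ({x} : Set X)} => ConnectedComponents.mk x.1) := by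
  intro c
  obtain ⟨x, rfl⟩ := ConnectedComponents.surjective_coe c
  obtain ⟨y, hy, hyc⟩ := (isClosed_connectedComponent (x := x)).exists_closed_singleton
    ⟨x, mem_connectedComponent⟩
  exact ⟨⟨y, hyc⟩, ConnectedComponents.coe_eq_coe'.mpr hy⟩

/-- finite disjoint clopen refinement from a finite clopen cover -/
theorem exists_disjoint_refinement {n : ℕ} (Z : Fin n → Set X) (hZ : ∀ k, IsClopen (Z k))
    (hcov : (⋃ k, Z k) = Set.univ) :
    ∃ V : Fin n → Set X, (∀ k, IsClopen (V k)) ∧
      Pairwise (fun k l => Disjoint (V k) (V l)) ∧ (⋃ k, V k) = Set.univ ∧ ∀ k, V k ⊆ Z k := by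
  classical
  let W : Fin n → Set X := fun k => ⋃ l ∈ (Finset.univ.filter (fun l : Fin n => l < k)), Z l
  have hW : ∀ k, IsClopen (W k) := fun k => isClopen_biUnion_finset fun l _ => hZ l
  refine ⟨fun k => Z k \ W k, fun k => (hZ k).diff (hW k), ?_, ?_, fun k => Set.sdiff_subset⟩
  · have key : ∀ k l : Fin n, l < k → Disjoint (Z k \ W k) (Z l \ W l) := by
      intro k l hlk
      rw [Set.disjoint_left]
      rintro y ⟨-, hy2⟩ ⟨hy3, -⟩
      apply hy2
      simp only [W, Set.mem_iUnion, Finset.mem_filter, Finset.mem_univ, true_and]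
      exact ⟨l, hlk, hy3⟩
    intro k l hkl
    rcases lt_or_gt_of_ne hkl with h | h
    · exact (key l k h).symm
    · exact key k l h
  · apply Set.eq_univ_of_forall
    intro y
    have hy : y ∈ ⋃ k, Z k := by rw [hcov]; exact Set.mem_univ y
    obtain ⟨k, hk⟩ := Set.mem_iUnion.mp hy
    have : ∀ m : ℕ, ∀ k : Fin n, k.val = m → y ∈ Z k → ∃ l, y ∈ Z l \ W l := by
      intro m
      induction m using Nat.strong_induction_on with
      | _ m ih =>
        intro k hkm hyk
        by_cases hyW : y ∈ W k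
        · simp only [W, Set.mem_iUnion, Finset.mem_filter, Finset.mem_univ, true_and] at hyW
          obtain ⟨l, hlk, hyl⟩ := hyW
          exact ih l.val (by rw [← hkm]; exact hlk) l rfl hyl
        · exact ⟨k, hyk, hyW⟩
    obtain ⟨l, hl⟩ := this k.val k rfl hk
    exact Set.mem_iUnion.mpr ⟨l, hl⟩

end closedpoints

section wlocal

variable {X : Type u} [TopologicalSpace X] [SpectralSpace X]

theorem refinement_of_bijective
    (hbij : Function.Bijective
      (fun x : {x : X // IsClosed ({x} : Set X)} => ConnectedComponents.mk x.1))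
    (ι : Type*) (U : ι → Set X) (hU : ∀ i, IsOpen (U i)) (hcov : (⋃ i, U i) = Set.univ) :
    ∃ (n : ℕ) (V : Fin n → Set X), (∀ k, IsClopen (V k)) ∧
      Pairwise (fun k l => Disjoint (V k) (V l)) ∧ (⋃ k, V k) = Set.univ ∧
      ∀ k, ∃ i, V k ⊆ U i := by
  classical
  -- each point has a clopen neighbourhood inside some `U i`
  have hloc : ∀ p : X, ∃ Z : Set X, IsClopen Z ∧ p ∈ Z ∧ ∃ i, Z ⊆ U i := by
    intro p
    obtain ⟨x, hxp, hxc⟩ := (isClosed_connectedComponent (x := p)).exists_closed_singleton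
      ⟨p, mem_connectedComponent⟩
    have hxU : x ∈ ⋃ i, U i := by rw [hcov]; exact Set.mem_univ x
    obtain ⟨i, hi⟩ := Set.mem_iUnion.mp hxU
    have hsub : connectedComponent p ⊆ U i := by
      intro q hq
      obtain ⟨z, hzq, hzc⟩ := (isClosed_closure (s := ({q} : Set X))).exists_closed_singleton
        ⟨q, subset_closure rfl⟩
      have hzp : z ∈ connectedComponent p := by
        have h1 : closure ({q} : Set X) ⊆ connectedComponent p :=
          (isClosed_connectedComponent.closure_subset_iff).mpr (Set.singleton_subset_iff.mpr hq)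
        exact h1 hzq
      have hzx : (⟨z, hzc⟩ : {x : X // IsClosed ({x} : Set X)}) = ⟨x, hxc⟩ := by
        apply hbij.1
        show ConnectedComponents.mk z = ConnectedComponents.mk x
        rw [ConnectedComponents.coe_eq_coe'.mpr hzp, ConnectedComponents.coe_eq_coe'.mpr hxp]
      have hzx' : z = x := congrArg Subtype.val hzx
      have hqx : q ⤳ x := by
        rw [← hzx']; exact specializes_iff_mem_closure.mpr hzq
      exact hqx.mem_open (hU i) hi
    rw [connectedComponent_eq_quasiComp] at hsub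
    have hK : (U i)ᶜ ∩ quasiComp p = ∅ := by
      apply Set.eq_empty_of_forall_notMem
      rintro y ⟨hy1, hy2⟩
      exact hy1 (hsub hy2)
    obtain ⟨Z, hZ, hpZ, hZe⟩ := exists_isClopen_disjoint_of_isCompact
      (hU i).isClosed_compl.isCompact hK
    refine ⟨Z, hZ, hpZ, i, ?_⟩
    intro y hy
    by_contra hn
    have : y ∈ (U i)ᶜ ∩ Z := ⟨hn, hy⟩
    rw [hZe] at this
    exact this
  choose Z hZ hpZ hZU using hloc
  obtain ⟨t, ht⟩ := isCompact_univ.elim_finite_subcover Z (fun p => (hZ p).isOpen)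
    (fun y _ => Set.mem_iUnion.mpr ⟨y, hpZ y⟩)
  let e : Fin t.card ≃ ↥t := t.equivFin.symm
  have hcov' : (⋃ k : Fin t.card, Z (e k).1) = Set.univ := by
    apply Set.eq_univ_of_forall
    intro y
    obtain ⟨p, hp⟩ := Set.mem_iUnion.mp (ht (Set.mem_univ y))
    obtain ⟨hpt, hyp⟩ := Set.mem_iUnion.mp hp
    refine Set.mem_iUnion.mpr ⟨e.symm ⟨p, hpt⟩, ?_⟩
    rw [Equiv.apply_symm_apply]
    exact hyp
  obtain ⟨V, hV1, hV2, hV3, hV4⟩ := exists_disjoint_refinement (fun k => Z (e k).1)
    (fun k => hZ _) hcov'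
  refine ⟨t.card, V, hV1, hV2, hV3, fun k => ?_⟩
  obtain ⟨i, hi⟩ := hZU (e k).1
  exact ⟨i, (hV4 k).trans hi⟩

theorem injective_of_refinement
    (href : ∀ (U : ULift.{u} Bool → Set X), (∀ i, IsOpen (U i)) → (⋃ i, U i) = Set.univ →
      ∃ (n : ℕ) (V : Fin n → Set X), (∀ k, IsClopen (V k)) ∧
        Pairwise (fun k l => Disjoint (V k) (V l)) ∧ (⋃ k, V k) = Set.univ ∧
        ∀ k, ∃ i, V k ⊆ U i) :
    Function.Injective
      (fun x : {x : X // IsClosed ({x} : Set X)} => ConnectedComponents.mk x.1) := by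
  rintro ⟨x, hx⟩ ⟨y, hy⟩ hxy
  apply Subtype.ext
  show x = y
  by_contra hne
  have hxy' : ConnectedComponents.mk x = ConnectedComponents.mk y := hxy
  have hyx : y ∈ connectedComponent x := by
    have := ConnectedComponents.coe_eq_coe'.mp hxy'.symm
    exact this
  let U : ULift.{u} Bool → Set X := fun b => if b.down then ({x} : Set X)ᶜ else ({y} : Set X)ᶜ
  have hUo : ∀ i, IsOpen (U i) := by
    rintro ⟨b⟩
    cases b
    · exact hy.isOpen_compl
    · exact hx.isOpen_compl
  have hUc : (⋃ i, U i) = Set.univ := by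
    apply Set.eq_univ_of_forall
    intro z
    by_cases hzx : z = x
    · refine Set.mem_iUnion.mpr ⟨⟨false⟩, ?_⟩
      show z ∈ ({y} : Set X)ᶜ
      rw [hzx]
      exact hne
    · exact Set.mem_iUnion.mpr ⟨⟨true⟩, hzx⟩
  obtain ⟨n, V, hV1, -, hV3, hV4⟩ := href U hUo hUc
  have hxV : x ∈ ⋃ k, V k := by rw [hV3]; exact Set.mem_univ x
  obtain ⟨k, hk⟩ := Set.mem_iUnion.mp hxV
  have hsub := (hV1 k).connectedComponent_subset hk
  obtain ⟨⟨b⟩, hb⟩ := hV4 k
  cases b
  · exact hb (hsub hyx) rfl
  · exact hb hk rfl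

end wlocal

section wlocal2

variable {X : Type u} [TopologicalSpace X] [SpectralSpace X]

/-- a pro-constructible set of closed points is closed -/
theorem isClosed_of_ctClosed_of_forall_isClosed_singleton {E : Set X} (hE : CtClosed E)
    (hpt : ∀ x ∈ E, IsClosed ({x} : Set X)) : IsClosed E := by
  apply isClosed_of_ctClosed_of_stableUnderSpecialization hE
  intro x y hxy hx
  have : y ∈ closure ({x} : Set X) := specializes_iff_mem_closure.mp hxy
  rw [(hpt x hx).closure_eq, Set.mem_singleton_iff] at this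
  rw [this]
  exact hx

theorem closedPoints_bijective_of_wLocal
    (h0 : IsClosed {x : X | IsClosed ({x} : Set X)})
    (huniq : ∀ x : X, ∃! z : X, IsClosed ({z} : Set X) ∧ x ⤳ z) :
    Function.Bijective
      (fun x : {x : X // IsClosed ({x} : Set X)} => ConnectedComponents.mk x.1) := by
  refine ⟨?_, closedPoints_surjective⟩
  rintro ⟨x, hx⟩ ⟨y, hy⟩ hxy
  apply Subtype.ext
  show x = y
  by_contra hne
  have hxy' : ConnectedComponents.mk x = ConnectedComponents.mk y := hxy
  have hyx : y ∈ connectedComponent x := ConnectedComponents.coe_eq_coe'.mp hxy'.symm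
  set X₀ : Set X := {x : X | IsClosed ({x} : Set X)} with hX₀
  -- a compact open separating `x` from `y`
  obtain ⟨U, ⟨hUo, hUc⟩, hxU, hUy⟩ :=
    (PrespectralSpace.isTopologicalBasis (X := X)).exists_subset_of_mem_open
      (show x ∈ ({y} : Set X)ᶜ from hne) hy.isOpen_compl
  have hE1 : IsClosed (X₀ ∩ U) :=
    isClosed_of_ctClosed_of_forall_isClosed_singleton
      ((ctClosed_of_isClosed h0).inter (ctClosed_of_compact_open hUc hUo)) (fun z hz => hz.1)
  have hE2 : IsClosed (X₀ ∩ Uᶜ) :=
    isClosed_of_ctClosed_of_forall_isClosed_singleton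
      ((ctClosed_of_isClosed h0).inter (ctClosed_compl_of_compact_open hUc hUo)) (fun z hz => hz.1)
  have hconn : ∀ p : X, IsConnected (X₀ ∩ closure {p}) := by
    intro p
    obtain ⟨z, ⟨hz1, hz2⟩, hz3⟩ := huniq p
    have : X₀ ∩ closure {p} = {z} := by
      ext w
      simp only [Set.mem_inter_iff, Set.mem_singleton_iff]
      constructor
      · rintro ⟨hw1, hw2⟩
        exact hz3 w ⟨hw1, specializes_iff_mem_closure.mpr hw2⟩
      · rintro rfl
        exact ⟨hz1, specializes_iff_mem_closure.mp hz2⟩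
    rw [this]
    exact isConnected_singleton
  have hdisj : Disjoint (X₀ ∩ U) (X₀ ∩ Uᶜ) := by
    rw [Set.disjoint_left]
    rintro z ⟨-, h1⟩ ⟨-, h2⟩
    exact h2 h1
  have hunion : (X₀ ∩ U) ∪ (X₀ ∩ Uᶜ) = X₀ := by
    rw [← Set.inter_union_distrib_left, Set.union_compl_self, Set.inter_univ]
  obtain ⟨c1, c2, d, un, -, -⟩ := exists_clopen_decomposition X₀ hconn _ _ hE1 hE2 hdisj hunion
  have hclopen : IsClopen (gen (X₀ ∩ U)) := by
    refine ⟨c1, ?_⟩
    have : gen (X₀ ∩ U) = (gen (X₀ ∩ Uᶜ))ᶜ := by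
      ext z
      constructor
      · intro h1 h2
        exact Set.disjoint_left.mp d h1 h2
      · intro h
        have : z ∈ gen (X₀ ∩ U) ∪ gen (X₀ ∩ Uᶜ) := by rw [un]; exact Set.mem_univ z
        rcases this with h' | h'
        · exact h'
        · exact (h h').elim
    rw [this]
    exact c2.isOpen_compl
  have hxg : x ∈ gen (X₀ ∩ U) := subset_gen _ ⟨hx, hxU⟩
  have hyg : y ∈ gen (X₀ ∩ Uᶜ) := subset_gen _ ⟨hy, fun h => hUy h rfl⟩
  have := hclopen.connectedComponent_subset hxg hyx
  exact Set.disjoint_left.mp d this hyg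

end wlocal2

section pi0

variable {X : Type u} [TopologicalSpace X]

/-- `π₀` of a spectral space is Hausdorff -/
theorem t2Space_connectedComponents [CompactSpace X] [PrespectralSpace X]
    [QuasiSeparatedSpace X] : T2Space (ConnectedComponents X) := by
  refine ⟨ConnectedComponents.surjective_coe.forall₂.2 fun a b ne => ?_⟩
  rw [ConnectedComponents.coe_ne_coe] at ne
  have h := connectedComponent_disjoint ne
  rw [connectedComponent_eq_quasiComp b, Set.disjoint_iff_inter_eq_empty] at h
  obtain ⟨Z, hZ, hbZ, hZe⟩ :=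
    exists_isClopen_disjoint_of_isCompact (isClosed_connectedComponent (x := a)).isCompact h
  have hpre : ((↑) : X → ConnectedComponents X) ⁻¹' ((↑) '' Z) = Z :=
    (connectedComponents_preimage_image Z).symm ▸ hZ.biUnion_connectedComponent_eq
  have hV : IsClopen (((↑) : X → ConnectedComponents X) '' Z) := by
    rw [← ConnectedComponents.isQuotientMap_coe.isClopen_preimage, hpre]
    exact hZ
  refine ⟨(((↑) : X → ConnectedComponents X) '' Z)ᶜ, ((↑) : X → ConnectedComponents X) '' Z,
    hV.compl.isOpen, hV.isOpen, ?_, ⟨b, hbZ, rfl⟩, disjoint_compl_left⟩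
  rintro ⟨z, hzZ, hza⟩
  have hz : z ∈ connectedComponent a := ConnectedComponents.coe_eq_coe'.mp hza
  have : z ∈ connectedComponent a ∩ Z := ⟨hz, hzZ⟩
  rw [hZe] at this
  exact this

/-- a closed subspace of a spectral space is spectral -/
theorem spectralSpace_of_isClosed [SpectralSpace X] {Y : Set X} (hY : IsClosed Y) :
    SpectralSpace ↥Y := by
  have hemb : IsClosedEmbedding (Subtype.val : ↥Y → X) := hY.isClosedEmbedding_subtypeVal
  have : CompactSpace ↥Y := isCompact_iff_compactSpace.mp hY.isCompact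
  have : QuasiSober ↥Y := hemb.quasiSober
  have : PrespectralSpace ↥Y := PrespectralSpace.of_isClosedEmbedding _ hemb
  have : QuasiSeparatedSpace ↥Y := by
    let ι := {U : Set X // IsOpen U ∧ IsCompact U}
    let b : ι → Set ↥Y := fun U => Subtype.val ⁻¹' U.1
    have hb : IsTopologicalBasis (Set.range b) := by
      have := (PrespectralSpace.isTopologicalBasis (X := X)).isInducing hemb.isInducing
      convert this using 1
      ext s
      simp only [Set.mem_range, Set.mem_image, Set.mem_ofPred_eq, b, ι]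
      constructor
      · rintro ⟨⟨U, hU⟩, rfl⟩
        exact ⟨U, hU, rfl⟩
      · rintro ⟨U, hU, rfl⟩
        exact ⟨⟨U, hU⟩, rfl⟩
    apply QuasiSeparatedSpace.of_isTopologicalBasis hb
    intro U V
    have : b U ∩ b V = Subtype.val ⁻¹' (U.1 ∩ V.1) := rfl
    rw [this]
    exact hemb.isCompact_preimage
      (QuasiSeparatedSpace.inter_isCompact U.1 V.1 U.2.1 U.2.2 V.2.1 V.2.2)
  exact {}

end pi0

section prod

variable {X T : Type u} [TopologicalSpace X] [TopologicalSpace T]

theorem quasiSober_prod_of_t2 [QuasiSober X] [T2Space T] : QuasiSober (X × T) := by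
  constructor
  intro S hS hScl
  obtain ⟨⟨x0, t0⟩, h0⟩ := hS.nonempty
  have hsnd : ∀ p ∈ S, p.2 = t0 := by
    intro p hp
    have hirr : IsIrreducible (Prod.snd '' S) := hS.image _ continuous_snd.continuousOn
    exact hirr.isPreirreducible.subsingleton ⟨p, hp, rfl⟩ ⟨(x0, t0), h0, rfl⟩
  have hS'irr : IsIrreducible (Prod.fst '' S) := hS.image _ continuous_fst.continuousOn
  have hS'eq : Prod.fst '' S = (fun x : X => (x, t0)) ⁻¹' S := by
    ext x
    constructor
    · rintro ⟨p, hp, rfl⟩
      have := hsnd p hp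
      show (p.1, t0) ∈ S
      rw [← this]
      exact hp
    · intro hx
      exact ⟨(x, t0), hx, rfl⟩
  have hS'cl : IsClosed (Prod.fst '' S) := by
    rw [hS'eq]
    exact hScl.preimage (by fun_prop)
  obtain ⟨ξ, hξ⟩ := QuasiSober.sober hS'irr hS'cl
  refine ⟨(ξ, t0), ?_⟩
  show closure {(ξ, t0)} = S
  rw [← Set.singleton_prod_singleton, closure_prod_eq, hξ.def, closure_singleton]
  ext p
  constructor
  · rintro ⟨h1, h2⟩
    rw [hS'eq] at h1
    have h2' : p.2 = t0 := h2
    have : p = (p.1, t0) := by rw [← h2']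
    rw [this]
    exact h1
  · intro hp
    exact ⟨⟨p, hp, rfl⟩, hsnd p hp⟩

theorem spectralSpace_prod [SpectralSpace X] [CompactSpace T] [T2Space T]
    [TotallyDisconnectedSpace T] : SpectralSpace (X × T) := by
  have hbasis := (PrespectralSpace.isTopologicalBasis (X := X)).prod
    (isTopologicalBasis_isClopen (X := T))
  have : QuasiSober (X × T) := quasiSober_prod_of_t2
  have : PrespectralSpace (X × T) := by
    apply PrespectralSpace.of_isTopologicalBasis hbasis
    rintro _ ⟨U, ⟨-, hUc⟩, V, hV, rfl⟩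
    exact hUc.prod hV.isClosed.isCompact
  have : QuasiSeparatedSpace (X × T) := by
    let ι := {p : Set X × Set T // (IsOpen p.1 ∧ IsCompact p.1) ∧ IsClopen p.2}
    let b : ι → Set (X × T) := fun p => p.1.1 ×ˢ p.1.2
    have hb : IsTopologicalBasis (Set.range b) := by
      convert hbasis using 1
      ext s
      simp only [Set.mem_range, Set.mem_image2, Set.mem_ofPred_eq, b, ι]
      constructor
      · rintro ⟨⟨⟨U, V⟩, hU, hV⟩, rfl⟩
        exact ⟨U, hU, V, hV, rfl⟩
      · rintro ⟨U, hU, V, hV, rfl⟩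
        exact ⟨⟨⟨U, V⟩, hU, hV⟩, rfl⟩
    apply QuasiSeparatedSpace.of_isTopologicalBasis hb
    intro p q
    have : b p ∩ b q = (p.1.1 ∩ q.1.1) ×ˢ (p.1.2 ∩ q.1.2) := Set.prod_inter_prod
    rw [this]
    exact (QuasiSeparatedSpace.inter_isCompact _ _ p.2.1.1 p.2.1.2 q.2.1.1 q.2.1.2).prod
      (p.2.2.inter q.2.2).isClosed.isCompact
  exact {}

end prod

section pullback

variable {X T : Type u} [TopologicalSpace X] [TopologicalSpace T]

/-- the fibre product `X ×_{π₀ X} T` -/
abbrev Pb (g : C(T, ConnectedComponents X)) : Type u :=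
  {p : X × T // ConnectedComponents.mk p.1 = g p.2}

theorem isClosed_pb [SpectralSpace X] (g : C(T, ConnectedComponents X)) :
    IsClosed {p : X × T | ConnectedComponents.mk p.1 = g p.2} := by
  have : T2Space (ConnectedComponents X) := t2Space_connectedComponents
  exact isClosed_eq (ConnectedComponents.continuous_coe.comp continuous_fst)
    (g.continuous.comp continuous_snd)

theorem spectralSpace_pb [SpectralSpace X] [CompactSpace T] [T2Space T]
    [TotallyDisconnectedSpace T] (g : C(T, ConnectedComponents X)) : SpectralSpace (Pb g) := by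
  have : SpectralSpace (X × T) := spectralSpace_prod
  exact spectralSpace_of_isClosed (isClosed_pb g)

theorem isPreconnected_fibre_pb (g : C(T, ConnectedComponents X)) (t : T) :
    IsPreconnected {y : Pb g | y.1.2 = t} := by
  obtain ⟨x0, hx0⟩ := ConnectedComponents.surjective_coe (g t)
  -- the map from the connected component of `x0`
  let j : ↥(connectedComponent x0) → Pb g := fun x => ⟨(x.1, t), by
    show ConnectedComponents.mk x.1 = g t
    rw [← hx0]
    exact ConnectedComponents.coe_eq_coe'.mpr x.2⟩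
  have hj : Continuous j :=
    Continuous.subtype_mk (continuous_subtype_val.prodMk continuous_const) _
  have hconn : IsPreconnected (Set.univ : Set ↥(connectedComponent x0)) := by
    rw [← Topology.IsInducing.subtypeVal.isPreconnected_image, Set.image_univ,
      Subtype.range_coe]
    exact isPreconnected_connectedComponent
  have himg : j '' Set.univ = {y : Pb g | y.1.2 = t} := by
    ext y
    constructor
    · rintro ⟨x, -, rfl⟩
      rfl
    · intro hy
      have hy' : y.1.2 = t := hy
      have hmem : y.1.1 ∈ connectedComponent x0 := by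
        apply ConnectedComponents.coe_eq_coe'.mp
        show ConnectedComponents.mk y.1.1 = ConnectedComponents.mk x0
        rw [y.2, hy', hx0]
      refine ⟨⟨y.1.1, hmem⟩, Set.mem_univ _, ?_⟩
      apply Subtype.ext
      show (y.1.1, t) = y.1
      rw [← hy']
  rw [← himg]
  exact hconn.image j hj.continuousOn

theorem exists_homeomorph_connectedComponents_pb [SpectralSpace X] [CompactSpace T] [T2Space T]
    [TotallyDisconnectedSpace T] (g : C(T, ConnectedComponents X)) :
    ∃ e : ConnectedComponents (Pb g) ≃ₜ T,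
      ∀ y : Pb g, e (ConnectedComponents.mk y) = y.1.2 := by
  have : SpectralSpace (Pb g) := spectralSpace_pb g
  let q : Pb g → T := fun y => y.1.2
  have hq : Continuous q := continuous_snd.comp continuous_subtype_val
  let e0 : ConnectedComponents (Pb g) → T := hq.connectedComponentsLift
  have he0 : Continuous e0 := hq.connectedComponentsLift_continuous
  have he0app : ∀ y : Pb g, e0 (ConnectedComponents.mk y) = y.1.2 :=
    fun y => hq.connectedComponentsLift_apply_coe y
  have hbij : Function.Bijective e0 := by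
    constructor
    · intro c c' hcc
      obtain ⟨y, rfl⟩ := ConnectedComponents.surjective_coe c
      obtain ⟨y', rfl⟩ := ConnectedComponents.surjective_coe c'
      change e0 (ConnectedComponents.mk y) = e0 (ConnectedComponents.mk y') at hcc
      rw [he0app, he0app] at hcc
      apply ConnectedComponents.coe_eq_coe'.mpr
      exact (isPreconnected_fibre_pb g y'.1.2).subset_connectedComponent
        (show y' ∈ {z : Pb g | z.1.2 = y'.1.2} from rfl) (show y ∈ {z : Pb g | z.1.2 = y'.1.2} from hcc)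
    · intro t
      obtain ⟨x0, hx0⟩ := ConnectedComponents.surjective_coe (g t)
      exact ⟨ConnectedComponents.mk (⟨(x0, t), hx0⟩ : Pb g), he0app _⟩
  let eq : ConnectedComponents (Pb g) ≃ T := Equiv.ofBijective e0 hbij
  have heq : Continuous eq := he0
  exact ⟨heq.homeoOfEquivCompactToT2, he0app⟩

end pullback

section wlocalpb

variable {X T : Type u} [TopologicalSpace X] [TopologicalSpace T]

theorem isClosed_singleton_iff_forall_specializes {Y : Type*} [TopologicalSpace Y] (x : Y) :
    IsClosed ({x} : Set Y) ↔ ∀ y, x ⤳ y → y = x := by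
  constructor
  · intro h y hy
    have : y ∈ closure ({x} : Set Y) := specializes_iff_mem_closure.mp hy
    rwa [h.closure_eq, Set.mem_singleton_iff] at this
  · intro h
    rw [← closure_subset_iff_isClosed]
    intro y hy
    exact Set.mem_singleton_iff.mpr (h y (specializes_iff_mem_closure.mpr hy))

theorem mk_eq_of_specializes {x x' : X} (h : x ⤳ x') :
    ConnectedComponents.mk x' = ConnectedComponents.mk x := by
  apply ConnectedComponents.coe_eq_coe'.mpr
  have hpre : IsPreconnected (closure ({x} : Set X)) := isPreconnected_singleton.closure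
  exact hpre.subset_connectedComponent (subset_closure rfl) (specializes_iff_mem_closure.mp h)

theorem specializes_pb_iff [T1Space T] (g : C(T, ConnectedComponents X)) (y y' : Pb g) :
    y ⤳ y' ↔ y.1.1 ⤳ y'.1.1 ∧ y.1.2 = y'.1.2 := by
  rw [subtype_specializes_iff]
  have : (y.1 ⤳ y'.1) ↔ (y.1.1, y.1.2) ⤳ (y'.1.1, y'.1.2) := Iff.rfl
  rw [this, specializes_prod, specializes_iff_eq (x := y.1.2)]

theorem isClosed_singleton_pb_iff [T1Space T] (g : C(T, ConnectedComponents X)) (y : Pb g) :
    IsClosed ({y} : Set (Pb g)) ↔ IsClosed ({y.1.1} : Set X) := by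
  rw [isClosed_singleton_iff_forall_specializes, isClosed_singleton_iff_forall_specializes]
  constructor
  · intro h x' hx'
    let y' : Pb g := ⟨(x', y.1.2), by
      show ConnectedComponents.mk x' = g y.1.2
      rw [mk_eq_of_specializes hx']
      exact y.2⟩
    have := h y' ((specializes_pb_iff g y y').mpr ⟨hx', rfl⟩)
    exact congrArg (fun z : Pb g => z.1.1) this
  · intro h y' hy'
    obtain ⟨h1, h2⟩ := (specializes_pb_iff g y y').mp hy'
    apply Subtype.ext
    exact Prod.ext (h _ h1) h2.symm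

theorem isSpectralMap_pb_fst [SpectralSpace X] [CompactSpace T] (g : C(T, ConnectedComponents X)) :
    IsSpectralMap (fun y : Pb g => y.1.1) := by
  refine ⟨continuous_fst.comp continuous_subtype_val, ?_⟩
  intro U hUo hUc
  have hemb : IsClosedEmbedding (Subtype.val : Pb g → X × T) :=
    (isClosed_pb g).isClosedEmbedding_subtypeVal
  have : (fun y : Pb g => y.1.1) ⁻¹' U = Subtype.val ⁻¹' (U ×ˢ (Set.univ : Set T)) := by
    ext y
    simp
  rw [this]
  exact hemb.isCompact_preimage (hUc.prod isCompact_univ)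

theorem wLocal_pb [CompactSpace T] [T2Space T] [TotallyDisconnectedSpace T]
    (hX : SpectralSpace X ∧ IsClosed {x : X | IsClosed ({x} : Set X)} ∧
      ∀ x : X, ∃! y : X, IsClosed ({y} : Set X) ∧ x ⤳ y)
    (g : C(T, ConnectedComponents X)) :
    (SpectralSpace (Pb g) ∧ IsClosed {y : Pb g | IsClosed ({y} : Set (Pb g))} ∧
      ∀ y : Pb g, ∃! z : Pb g, IsClosed ({z} : Set (Pb g)) ∧ y ⤳ z) ∧
    (IsSpectralMap (fun y : Pb g => y.1.1) ∧
      ∀ y : Pb g, IsClosed ({y} : Set (Pb g)) → IsClosed ({y.1.1} : Set X)) ∧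
    {y : Pb g | IsClosed ({y} : Set (Pb g))} =
      (fun y : Pb g => y.1.1) ⁻¹' {x : X | IsClosed ({x} : Set X)} := by
  obtain ⟨hsp, hcl, huniq⟩ := hX
  have heq : {y : Pb g | IsClosed ({y} : Set (Pb g))} =
      (fun y : Pb g => y.1.1) ⁻¹' {x : X | IsClosed ({x} : Set X)} := by
    ext y
    exact isClosed_singleton_pb_iff g y
  refine ⟨⟨spectralSpace_pb g, ?_, ?_⟩, ⟨isSpectralMap_pb_fst g, ?_⟩, heq⟩
  · rw [heq]
    exact hcl.preimage (continuous_fst.comp continuous_subtype_val)
  · intro y
    obtain ⟨x', ⟨hx'1, hx'2⟩, hx'3⟩ := huniq y.1.1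
    let z : Pb g := ⟨(x', y.1.2), by
      show ConnectedComponents.mk x' = g y.1.2
      rw [mk_eq_of_specializes hx'2]
      exact y.2⟩
    refine ⟨z, ⟨(isClosed_singleton_pb_iff g z).mpr hx'1,
      (specializes_pb_iff g y z).mpr ⟨hx'2, rfl⟩⟩, ?_⟩
    rintro w ⟨hw1, hw2⟩
    obtain ⟨h1, h2⟩ := (specializes_pb_iff g y w).mp hw2
    have := hx'3 w.1.1 ⟨(isClosed_singleton_pb_iff g w).mp hw1, h1⟩
    apply Subtype.ext
    exact Prod.ext this h2.symm
  · intro y hy
    exact (isClosed_singleton_pb_iff g y).mp hy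

end wlocalpb

end Groth.Agent.Lib.Helper20.SpecTop
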