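import Mathlib

set_option autoImplicit false
universe u

open Polynomial

namespace Groth.Agent.Lib.Helper20.Split

lemma adjoinRoot_of_injective {R : Type u} [CommRing R] (g : R[X]) (hg : g.Monic)
    (hdeg : 0 < g.natDegree) : Function.Injective (AdjoinRoot.of g) := by
  rw [injective_iff_map_eq_zero]
  intro a ha
  by_cases hR : Nontrivial R
  · have h1 : AdjoinRoot.mk g (C a) = 0 := ha
    rw [AdjoinRoot.mk_eq_zero] at h1
    have h2 : C a %ₘ g = 0 := (Polynomial.modByMonic_eq_zero_iff_dvd hg).2 h1
    have h3 : C a %ₘ g = C a := by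
      rw [Polynomial.modByMonic_eq_self_iff hg]
      calc (C a).degree ≤ 0 := Polynomial.degree_C_le
        _ < g.degree := by
          rw [Polynomial.degree_eq_natDegree hg.ne_zero]
          exact_mod_cast hdeg
    rw [h3] at h2
    exact Polynomial.C_eq_zero.mp h2
  · rw [not_nontrivial_iff_subsingleton] at hR
    exact Subsingleton.elim _ _

/-- Splitting algebra of a monic polynomial: finite free, faithful, with all roots. -/
theorem exists_splitting (n : ℕ) : ∀ (A : Type u) [CommRing A] (P : A[X]), P.Monic →
    P.natDegree = n →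
    ∃ (A' : Type u) (_ : CommRing A') (_ : Algebra A A'), Module.Free A A' ∧ Module.Finite A A' ∧
      Function.Injective (algebraMap A A') ∧
      ∃ r : Fin n → A', P.map (algebraMap A A') = ∏ i, (X - C (r i)) := by
  induction n with
  | zero =>
    intro A _ P hP hn
    refine ⟨A, inferInstance, inferInstance, inferInstance, inferInstance, fun _ _ h => h,
      Fin.elim0, ?_⟩
    simp only [Algebra.algebraMap_self, Polynomial.map_id, Finset.univ_eq_empty, Finset.prod_empty]
    exact (Polynomial.Monic.natDegree_eq_zero hP).mp hn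
  | succ n ih =>
    intro A _ P hP hn
    let A₁ := AdjoinRoot P
    have hfree : Module.Free A A₁ := hP.free_adjoinRoot
    have hfin : Module.Finite A A₁ := hP.finite_adjoinRoot
    have hinj : Function.Injective (algebraMap A A₁) :=
      adjoinRoot_of_injective P hP (by omega)
    let P₁ : A₁[X] := P.map (algebraMap A A₁)
    have hP₁ : P₁.Monic := hP.map _
    have hroot : P₁.IsRoot (AdjoinRoot.root P) := by
      show Polynomial.eval _ (P.map (AdjoinRoot.of P)) = 0
      rw [Polynomial.eval_map, AdjoinRoot.eval₂_root]
    let Q : A₁[X] := P₁ /ₘ (X - C (AdjoinRoot.root P))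
    have hQ : P₁ = (X - C (AdjoinRoot.root P)) * Q :=
      (Polynomial.mul_divByMonic_eq_iff_isRoot.mpr hroot).symm
    by_cases hA₁ : Nontrivial A₁
    · have hQm : Q.Monic := (Polynomial.monic_X_sub_C _).of_mul_monic_left (hQ ▸ hP₁)
      have hQd : Q.natDegree = n := by
        have h1 : P₁.natDegree = n + 1 := by rw [hP.natDegree_map, hn]
        rw [hQ, Polynomial.Monic.natDegree_mul (Polynomial.monic_X_sub_C _) hQm,
          Polynomial.natDegree_X_sub_C] at h1
        omega
      obtain ⟨A', hA'c, hA'a, hA'free, hA'fin, hA'inj, r, hr⟩ := ih A₁ Q hQm hQd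
      let _ : Algebra A A' := ((algebraMap A₁ A').comp (algebraMap A A₁)).toAlgebra
      have : IsScalarTower A A₁ A' := IsScalarTower.of_algebraMap_eq (fun _ => rfl)
      refine ⟨A', hA'c, inferInstance, Module.Free.trans (S := A₁), Module.Finite.trans A₁ A',
        hA'inj.comp hinj, Fin.cons (algebraMap A₁ A' (AdjoinRoot.root P)) r, ?_⟩
      have : P.map (algebraMap A A') = P₁.map (algebraMap A₁ A') := by
        rw [Polynomial.map_map]; rfl
      rw [this, hQ, Polynomial.map_mul, hr, Fin.prod_univ_succ]
      simp
    · rw [not_nontrivial_iff_subsingleton] at hA₁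
      refine ⟨A₁, inferInstance, inferInstance, hfree, hfin, hinj, fun _ => 0, ?_⟩
      exact Subsingleton.elim _ _

end Groth.Agent.Lib.Helper20.Split
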