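import Mathlib
import Groth.Agent.Lib.Helper20.Split1

set_option autoImplicit false
universe u

open Polynomial

namespace Groth.Agent.Lib.Helper20.Split

/-- The universal algebra with `r` roots of a monic polynomial `P`: finite free, generated by the
roots, with the expected universal property. -/
theorem exists_multiRoot (r : ℕ) : ∀ (R : Type u) [CommRing R] (P : R[X]), P.Monic →
    ∃ (C' : Type u) (_ : CommRing C') (_ : Algebra R C'), Module.Free R C' ∧ Module.Finite R C' ∧
      ∃ t : Fin r → C', (∀ i, aeval (t i) P = 0) ∧ Algebra.adjoin R (Set.range t) = ⊤ ∧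
        ∀ (D : Type u) [CommRing D] [Algebra R D] (d : Fin r → D), (∀ i, aeval (d i) P = 0) →
          ∃ φ : C' →ₐ[R] D, ∀ i, φ (t i) = d i := by
  induction r with
  | zero =>
    intro R _ P hP
    refine ⟨R, inferInstance, inferInstance, inferInstance, inferInstance, Fin.elim0,
      fun i => i.elim0, ?_, ?_⟩
    · exact Subsingleton.elim _ _
    · intro D _ _ d _
      exact ⟨Algebra.ofId R D, fun i => i.elim0⟩
  | succ r ih =>
    intro R _ P hP
    obtain ⟨C₀, hc, ha, hfree, hfin, t₀, ht₀, hadj, huniv⟩ := ih R P hP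
    let P₀ : C₀[X] := P.map (algebraMap R C₀)
    have hP₀ : P₀.Monic := hP.map _
    let C₁ := AdjoinRoot P₀
    have hfree₁ : Module.Free C₀ C₁ := hP₀.free_adjoinRoot
    have hfin₁ : Module.Finite C₀ C₁ := hP₀.finite_adjoinRoot
    have htower : IsScalarTower R C₀ C₁ := inferInstance
    let t : Fin (r + 1) → C₁ := Fin.cons (AdjoinRoot.root P₀) (fun i => algebraMap C₀ C₁ (t₀ i))
    refine ⟨C₁, inferInstance, inferInstance, Module.Free.trans (S := C₀),
      Module.Finite.trans C₀ C₁, t, ?_, ?_, ?_⟩
    · intro i
      refine Fin.cases ?_ (fun j => ?_) i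
      · show aeval (AdjoinRoot.root P₀) P = 0
        have h1 : aeval (AdjoinRoot.root P₀) P = Polynomial.eval₂ (AdjoinRoot.of P₀)
            (AdjoinRoot.root P₀) P₀ := by
          rw [Polynomial.eval₂_map, Polynomial.aeval_def]
          rfl
        rw [h1, AdjoinRoot.eval₂_root]
      · show aeval (algebraMap C₀ C₁ (t₀ j)) P = 0
        rw [Polynomial.aeval_algebraMap_apply, ht₀ j, map_zero]
    · rw [eq_top_iff]
      have h0 : ∀ c : C₀, algebraMap C₀ C₁ c ∈ Algebra.adjoin R (Set.range t) := by
        intro c
        have hc : c ∈ Algebra.adjoin R (Set.range t₀) := by rw [hadj]; trivial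
        induction hc using Algebra.adjoin_induction with
        | mem x hx =>
          obtain ⟨j, rfl⟩ := hx
          exact Algebra.subset_adjoin ⟨j.succ, by simp [t]⟩
        | algebraMap a =>
          rw [← IsScalarTower.algebraMap_apply R C₀ C₁]
          exact Subalgebra.algebraMap_mem _ a
        | add x y _ _ hx hy => rw [map_add]; exact Subalgebra.add_mem _ hx hy
        | mul x y _ _ hx hy => rw [map_mul]; exact Subalgebra.mul_mem _ hx hy
      intro x hxtop
      clear hxtop
      have hx : x ∈ Algebra.adjoin C₀ ({AdjoinRoot.root P₀} : Set C₁) := by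
        rw [AdjoinRoot.adjoinRoot_eq_top]; trivial
      induction hx using Algebra.adjoin_induction with
      | mem y hy =>
        rw [Set.mem_singleton_iff] at hy
        subst hy
        exact Algebra.subset_adjoin ⟨0, by simp [t]⟩
      | algebraMap c => exact h0 c
      | add y z _ _ hy hz => exact Subalgebra.add_mem _ hy hz
      | mul y z _ _ hy hz => exact Subalgebra.mul_mem _ hy hz
    · intro D _ _ d hd
      obtain ⟨φ₀, hφ₀⟩ := huniv D (fun i => d i.succ) (fun i => hd i.succ)
      have hlift : Polynomial.eval₂ (φ₀ : C₀ →+* D) (d 0) P₀ = 0 := by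
        rw [Polynomial.eval₂_map]
        have : (φ₀ : C₀ →+* D).comp (algebraMap R C₀) = algebraMap R D := φ₀.comp_algebraMap
        rw [this, ← Polynomial.aeval_def]
        exact hd 0
      let ψ : C₁ →+* D := AdjoinRoot.lift (φ₀ : C₀ →+* D) (d 0) hlift
      refine ⟨⟨ψ, fun a => ?_⟩, fun i => ?_⟩
      · show ψ (algebraMap C₀ C₁ (algebraMap R C₀ a)) = _
        show AdjoinRoot.lift _ _ hlift (AdjoinRoot.of P₀ (algebraMap R C₀ a)) = _
        rw [AdjoinRoot.lift_of]
        exact φ₀.commutes a
      · refine Fin.cases ?_ (fun j => ?_) i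
        · show AdjoinRoot.lift _ _ hlift (AdjoinRoot.root P₀) = _
          rw [AdjoinRoot.lift_root]
        · show AdjoinRoot.lift _ _ hlift (AdjoinRoot.of P₀ (t₀ j)) = _
          rw [AdjoinRoot.lift_of]
          exact hφ₀ j

end Groth.Agent.Lib.Helper20.Split
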