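import Mathlib
import Groth.Agent.Lib.Helper20.Split2

set_option autoImplicit false
universe u

open Polynomial

namespace Groth.Agent.Lib.Helper20.Split

lemma ker_le_of_generators {R C' : Type u} [CommRing R] [CommRing C'] [Algebra R C'] {r : ℕ}
    (t : Fin r → C') (hadj : Algebra.adjoin R (Set.range t) = ⊤) (σ : C' →ₐ[R] R)
    (𝔮 : Ideal C') (h : ∀ i, t i - algebraMap R C' (σ (t i)) ∈ 𝔮) : RingHom.ker σ ≤ 𝔮 := by
  have key : ∀ c : C', c - algebraMap R C' (σ c) ∈ 𝔮 := by
    intro c
    have hc : c ∈ Algebra.adjoin R (Set.range t) := by rw [hadj]; trivial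
    induction hc using Algebra.adjoin_induction with
    | mem x hx =>
      obtain ⟨i, rfl⟩ := hx
      exact h i
    | algebraMap a => simp
    | add x y _ _ hx hy =>
      have : x + y - algebraMap R C' (σ (x + y)) =
          (x - algebraMap R C' (σ x)) + (y - algebraMap R C' (σ y)) := by
        rw [map_add, map_add]; ring
      rw [this]
      exact 𝔮.add_mem hx hy
    | mul x y _ _ hx hy =>
      have : x * y - algebraMap R C' (σ (x * y)) =
          (x - algebraMap R C' (σ x)) * y + algebraMap R C' (σ x) * (y - algebraMap R C' (σ y)) := by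
        rw [map_mul, map_mul]; ring
      rw [this]
      exact 𝔮.add_mem (𝔮.mul_mem_right _ hx) (𝔮.mul_mem_left _ hy)
  intro c hc
  have := key c
  rw [RingHom.mem_ker] at hc
  have hc' : σ c = 0 := hc
  rwa [hc', map_zero, sub_zero] at this

lemma exists_root_mem {R C' : Type u} [CommRing R] [CommRing C'] [Algebra R C'] {n : ℕ}
    (P : R[X]) (α : Fin n → R) (hP : P = ∏ l, (X - C (α l))) (t : C') (ht : aeval t P = 0)
    (𝔮 : Ideal C') [𝔮.IsPrime] : ∃ l, t - algebraMap R C' (α l) ∈ 𝔮 := by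
  rw [hP, map_prod] at ht
  have h0 : ∏ l, aeval t (X - C (α l)) ∈ 𝔮 := by rw [ht]; exact 𝔮.zero_mem
  obtain ⟨l, -, hl⟩ := (Ideal.IsPrime.prod_mem_iff (p := 𝔮)).mp h0
  refine ⟨l, ?_⟩
  simpa using hl

end Groth.Agent.Lib.Helper20.Split
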