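import Mathlib
import Groth.Agent.Lib.Helper20.Split3

set_option autoImplicit false
universe u

open Polynomial

namespace Groth.Agent.Lib.Helper20.Split

/-- Algebraic core: a finite algebra `B` over `A` becomes, after a finite free faithful base change
`A → A'`, a quotient of a finite free `A'`-algebra `C'` whose spectrum is covered by sections. -/
theorem exists_cover_data (A B : Type u) [CommRing A] [CommRing B] [Algebra A B]
    [Module.Finite A B] :
    ∃ (A' : Type u) (_ : CommRing A') (_ : Algebra A A'), Module.Free A A' ∧ Module.Finite A A' ∧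
      Function.Injective (algebraMap A A') ∧
      ∃ (C' : Type u) (_ : CommRing C') (_ : Algebra A' C'), Module.Free A' C' ∧
        Module.Finite A' C' ∧
        (∀ (D : Type u) [CommRing D] [Algebra A' D] (β : B →+* D),
          (∀ a, β (algebraMap A B a) = algebraMap A' D (algebraMap A A' a)) →
          Algebra.adjoin A' (Set.range β) = ⊤ → ∃ ψ : C' →ₐ[A'] D, Function.Surjective ψ) ∧
        ∃ (m : ℕ) (σ : Fin m → (C' →ₐ[A'] A')),
          ∀ 𝔮 : Ideal C', 𝔮.IsPrime → ∃ j, RingHom.ker (σ j) ≤ 𝔮 := by
  obtain ⟨r, b, hb⟩ := Module.Finite.exists_fin (R := A) (M := B)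
  have hint : ∀ i, ∃ p : A[X], p.Monic ∧ aeval (b i) p = 0 := fun i =>
    Algebra.IsIntegral.isIntegral (R := A) (b i)
  choose p hpm hp0 using hint
  let P : A[X] := ∏ i, p i
  have hPm : P.Monic := Polynomial.monic_prod_of_monic _ _ (fun i _ => hpm i)
  have hP0 : ∀ i, aeval (b i) P = 0 := by
    intro i
    rw [map_prod]
    exact Finset.prod_eq_zero (Finset.mem_univ i) (hp0 i)
  obtain ⟨A', hA'c, hA'a, hA'free, hA'fin, hA'inj, α, hα⟩ :=
    exists_splitting P.natDegree A P hPm rfl
  let P' : A'[X] := P.map (algebraMap A A')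
  have hP'm : P'.Monic := hPm.map _
  obtain ⟨C', hC'c, hC'a, hC'free, hC'fin, t, ht, hadj, huniv⟩ := exists_multiRoot r A' P' hP'm
  refine ⟨A', hA'c, hA'a, hA'free, hA'fin, hA'inj, C', hC'c, hC'a, hC'free, hC'fin, ?_, ?_⟩
  · intro D _ _ β hβ hgen
    have hd : ∀ i, aeval (β (b i)) P' = 0 := by
      intro i
      have h1 : aeval (β (b i)) P' = β (aeval (b i) P) := by
        rw [Polynomial.aeval_def, Polynomial.eval₂_map, Polynomial.aeval_def, Polynomial.hom_eval₂]
        congr 1
        ext a
        simp only [RingHom.comp_apply]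
        exact (hβ a).symm
      rw [h1, hP0, map_zero]
    obtain ⟨ψ, hψ⟩ := huniv D (fun i => β (b i)) hd
    refine ⟨ψ, ?_⟩
    have hrange : Set.range β ⊆ (ψ.range : Set D) := by
      rintro _ ⟨x, rfl⟩
      have hx : x ∈ Submodule.span A (Set.range b) := by rw [hb]; trivial
      induction hx using Submodule.span_induction with
      | mem y hy =>
        obtain ⟨i, rfl⟩ := hy
        exact ⟨t i, hψ i⟩
      | zero => rw [map_zero]; exact Subalgebra.zero_mem _
      | add y z _ _ hy hz => rw [map_add]; exact Subalgebra.add_mem _ hy hz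
      | smul a y _ hy =>
        rw [Algebra.smul_def, map_mul, hβ]
        exact Subalgebra.mul_mem _ (Subalgebra.algebraMap_mem _ _) hy
    have htop : (⊤ : Subalgebra A' D) ≤ ψ.range := by
      rw [← hgen]
      exact Algebra.adjoin_le hrange
    intro x
    exact htop (Algebra.mem_top : x ∈ (⊤ : Subalgebra A' D))
  · -- sections
    have hα0 : ∀ l, aeval (α l) P' = 0 := by
      intro l
      show aeval (α l) (P.map (algebraMap A A')) = 0
      rw [hα, map_prod]
      exact Finset.prod_eq_zero (Finset.mem_univ l) (by simp)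
    have hσ : ∀ j : Fin r → Fin P.natDegree, ∃ σ : C' →ₐ[A'] A', ∀ i, σ (t i) = α (j i) :=
      fun j => huniv A' (fun i => α (j i)) (fun i => hα0 (j i))
    choose σ hσt using hσ
    let e := Fintype.equivFin (Fin r → Fin P.natDegree)
    refine ⟨Fintype.card (Fin r → Fin P.natDegree), fun k => σ (e.symm k), ?_⟩
    intro 𝔮 h𝔮
    have hroot : ∀ i, ∃ l, t i - algebraMap A' C' (α l) ∈ 𝔮 := fun i =>
      exists_root_mem P' α hα (t i) (ht i) 𝔮
    choose j hj using hroot
    refine ⟨e j, ?_⟩
    show RingHom.ker (σ (e.symm (e j))) ≤ 𝔮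
    rw [Equiv.symm_apply_apply]
    apply ker_le_of_generators t hadj (σ j) 𝔮
    intro i
    rw [hσt j i]
    exact hj i

end Groth.Agent.Lib.Helper20.Split
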