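import Mathlib
import Groth.Prelude.Def_Mor2
import Groth.Agent.Lib.Helper20.Split4

set_option autoImplicit false
universe u

open CategoryTheory CategoryTheory.Limits AlgebraicGeometry

namespace Groth.Agent.Lib.Helper20.Split

lemma isFinLocFree_SpecMap {R S : Type u} [CommRing R] [CommRing S] [Algebra R S]
    [Module.Free R S] [Module.Finite R S] :
    Mor2.IsFinLocFree (Spec.map (CommRingCat.ofHom (algebraMap R S))) := by
  refine ⟨(IsFinite.SpecMap_iff _).mpr ?_, Flat.SpecMap_iff.mpr ?_,
    (LocallyOfFinitePresentation.SpecMap_iff _).mpr ?_⟩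
  · exact RingHom.finite_algebraMap.mpr inferInstance
  · exact RingHom.flat_algebraMap_iff.mpr inferInstance
  · have : Module.FinitePresentation R S := Module.finitePresentation_of_projective R S
    exact RingHom.finitePresentation_algebraMap.mpr
      (inferInstance : Algebra.FinitePresentation R S)

lemma isFinLocFree_comp_iso {X Y Z : Scheme.{u}} (f : X ⟶ Y) (g : Y ⟶ Z) [IsIso g]
    (hf : Mor2.IsFinLocFree f) : Mor2.IsFinLocFree (f ≫ g) := by
  obtain ⟨h1, h2, h3⟩ := hf
  exact ⟨inferInstance, inferInstance, inferInstance⟩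

end Groth.Agent.Lib.Helper20.Split
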