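import Mathlib
import Groth.Prelude.Def_Mor2
import Groth.Agent.Lib.Helper20.Split5

set_option autoImplicit false
universe u

open CategoryTheory CategoryTheory.Limits AlgebraicGeometry TensorProduct

namespace Groth.Agent.Lib.Helper20.Split

lemma surjective_SpecMap_of_finite_injective {R S : Type u} [CommRing R] [CommRing S]
    [Algebra R S] [Module.Finite R S] (hinj : Function.Injective (algebraMap R S)) :
    Surjective (Spec.map (CommRingCat.ofHom (algebraMap R S))) := by
  constructor
  have hint : (algebraMap R S).IsIntegral := by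
    have : Algebra.IsIntegral R S := inferInstance
    exact algebraMap_isIntegral_iff.mpr this
  exact hint.comap_surjective hinj

theorem main_Spec (A B : Type u) [CommRing A] [CommRing B] [Algebra A B] [Module.Finite A B] :
    ∃ (X' : Scheme.{u}) (b : X' ⟶ Spec (.of A)) (Z' : Scheme.{u}) (c : Z' ⟶ X')
      (i : pullback (Spec.map (CommRingCat.ofHom (algebraMap A B))) b ⟶ Z'),
      Mor2.IsFinLocFree b ∧ Surjective b ∧ Mor2.IsFinLocFree c ∧ IsClosedImmersion i ∧
      i ≫ c = pullback.snd _ b ∧
      ∃ (m : ℕ) (Zj : Fin m → Scheme.{u}) (ιj : ∀ j, Zj j ⟶ Z'),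
        (∀ j, IsClosedImmersion (ιj j)) ∧ (∀ j, IsIso (ιj j ≫ c)) ∧
        (⋃ j, Set.range (ιj j).base) = Set.univ := by
  obtain ⟨A', _, _, hfree, hfin, hinj, C', _, _, hCfree, hCfin, huniv, m, σ, hcov⟩ :=
    exists_cover_data A B
  letI algD : Algebra A' (B ⊗[A] A') :=
    (Algebra.TensorProduct.includeRight (R := A) (A := B) (B := A')).toRingHom.toAlgebra
  have halgD : ∀ a', algebraMap A' (B ⊗[A] A') a' = (1 : B) ⊗ₜ[A] a' := fun a' => rfl
  let β : B →+* B ⊗[A] A' := Algebra.TensorProduct.includeLeftRingHom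
  have hβ : ∀ a, β (algebraMap A B a) = algebraMap A' (B ⊗[A] A') (algebraMap A A' a) := by
    intro a
    rw [halgD]
    show (algebraMap A B a) ⊗ₜ[A] (1 : A') = (1 : B) ⊗ₜ[A] (algebraMap A A' a)
    rw [Algebra.algebraMap_eq_smul_one, Algebra.algebraMap_eq_smul_one, TensorProduct.smul_tmul]
  have hgen : Algebra.adjoin A' (Set.range β) = ⊤ := by
    rw [eq_top_iff]
    intro x hx
    clear hx
    induction x using TensorProduct.induction_on with
    | zero => exact Subalgebra.zero_mem _
    | tmul b a' =>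
      have : b ⊗ₜ[A] a' = algebraMap A' (B ⊗[A] A') a' * β b := by
        rw [halgD]
        show b ⊗ₜ[A] a' = (1 : B) ⊗ₜ[A] a' * b ⊗ₜ[A] (1 : A')
        rw [Algebra.TensorProduct.tmul_mul_tmul, one_mul, mul_one]
      rw [this]
      exact Subalgebra.mul_mem _ (Subalgebra.algebraMap_mem _ _)
        (Algebra.subset_adjoin ⟨b, rfl⟩)
    | add y z hy hz => exact Subalgebra.add_mem _ hy hz
  obtain ⟨ψ, hψ⟩ := huniv (B ⊗[A] A') β hβ hgen
  have hci : IsClosedImmersion (Spec.map (CommRingCat.ofHom ψ.toRingHom)) :=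
    IsClosedImmersion.spec_of_surjective _ hψ
  refine ⟨Spec (.of A'), Spec.map (CommRingCat.ofHom (algebraMap A A')), Spec (.of C'),
    Spec.map (CommRingCat.ofHom (algebraMap A' C')),
    (pullbackSpecIso A B A').hom ≫ Spec.map (CommRingCat.ofHom ψ.toRingHom),
    isFinLocFree_SpecMap, surjective_SpecMap_of_finite_injective hinj, isFinLocFree_SpecMap,
    inferInstance, ?_, m, fun _ => Spec (.of A'),
    fun j => Spec.map (CommRingCat.ofHom (σ j).toRingHom), ?_, ?_, ?_⟩
  · rw [Category.assoc, ← Spec.map_comp, ← CommRingCat.ofHom_comp]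
    have : ψ.toRingHom.comp (algebraMap A' C') =
        (Algebra.TensorProduct.includeRight (R := A) (A := B) (B := A')).toRingHom := by
      ext a'
      exact ψ.commutes a'
    rw [this]
    exact pullbackSpecIso_hom_snd A B A'
  · intro j
    apply IsClosedImmersion.spec_of_surjective
    intro a'
    exact ⟨algebraMap A' C' a', (σ j).commutes a'⟩
  · intro j
    show IsIso (Spec.map (CommRingCat.ofHom (σ j).toRingHom) ≫
      Spec.map (CommRingCat.ofHom (algebraMap A' C')))
    rw [← Spec.map_comp, ← CommRingCat.ofHom_comp]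
    have : (σ j).toRingHom.comp (algebraMap A' C') = RingHom.id A' := by
      ext a'
      exact (σ j).commutes a'
    rw [this]
    show IsIso (Spec.map (𝟙 (CommRingCat.of A')))
    rw [Spec.map_id]
    infer_instance
  · rw [Set.eq_univ_iff_forall]
    intro x
    obtain ⟨j, hj⟩ := hcov x.asIdeal x.isPrime
    rw [Set.mem_iUnion]
    refine ⟨j, ?_⟩
    have hsurj : Function.Surjective (σ j).toRingHom := by
      intro a'
      exact ⟨algebraMap A' C' a', (σ j).commutes a'⟩
    have key : ∀ y : PrimeSpectrum C', RingHom.ker (σ j) ≤ y.asIdeal →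
        y ∈ Set.range (PrimeSpectrum.comap (σ j).toRingHom) := by
      intro y hy
      rw [range_comap_of_surjective _ _ hsurj, PrimeSpectrum.mem_zeroLocus]
      exact hy
    exact key x hj

end Groth.Agent.Lib.Helper20.Split
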