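import Mathlib
import Groth.Prelude.Def_Mor2
import Groth.Agent.Lib.Helper20.Split6

set_option autoImplicit false
universe u

open CategoryTheory CategoryTheory.Limits AlgebraicGeometry TensorProduct

namespace Groth.Agent.Lib.Helper20.Split

theorem main {X Y : Scheme.{u}} [IsAffine X] (f : Y ⟶ X) [IsFinite f] :
    ∃ (X' : Scheme.{u}) (b : X' ⟶ X) (Z' : Scheme.{u}) (c : Z' ⟶ X') (i : pullback f b ⟶ Z'),
      Mor2.IsFinLocFree b ∧ Surjective b ∧ Mor2.IsFinLocFree c ∧ IsClosedImmersion i ∧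
      i ≫ c = pullback.snd f b ∧
      ∃ (m : ℕ) (Zj : Fin m → Scheme.{u}) (ιj : ∀ j, Zj j ⟶ Z'),
        (∀ j, IsClosedImmersion (ιj j)) ∧ (∀ j, IsIso (ιj j ≫ c)) ∧
        (⋃ j, Set.range (ιj j).base) = Set.univ := by
  have hY : IsAffine Y := isAffine_of_isAffineHom f
  letI alg : Algebra Γ(X, ⊤) Γ(Y, ⊤) := f.appTop.hom.toAlgebra
  have hfin : Module.Finite Γ(X, ⊤) Γ(Y, ⊤) := RingHom.finite_algebraMap.mp f.finite_appTop
  obtain ⟨X', b₀, Z', c, i₀, hb, hbs, hc, hi, hic, m, Zj, ιj, h1, h2, h3⟩ :=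
    main_Spec Γ(X, ⊤) Γ(Y, ⊤)
  have hf₀ : Spec.map (CommRingCat.ofHom (algebraMap Γ(X, ⊤) Γ(Y, ⊤))) = Spec.map f.appTop := rfl
  have hnat : Y.isoSpec.hom ≫ Spec.map (CommRingCat.ofHom (algebraMap Γ(X, ⊤) Γ(Y, ⊤))) =
      f ≫ X.isoSpec.hom := by
    rw [hf₀]
    exact Scheme.isoSpec_hom_naturality f
  have hcomm2 : (b₀ ≫ X.isoSpec.inv) ≫ X.isoSpec.hom = 𝟙 X' ≫ b₀ := by
    rw [Category.assoc, Iso.inv_hom_id, Category.comp_id, Category.id_comp]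
  let e : pullback f (b₀ ≫ X.isoSpec.inv) ⟶
      pullback (Spec.map (CommRingCat.ofHom (algebraMap Γ(X, ⊤) Γ(Y, ⊤)))) b₀ :=
    pullback.map f (b₀ ≫ X.isoSpec.inv) _ b₀ Y.isoSpec.hom (𝟙 X') X.isoSpec.hom hnat.symm hcomm2
  have he : IsIso e := pullback.map_isIso _ _ _ _ _ _ _ _ _
  have hsurj : Surjective (b₀ ≫ X.isoSpec.inv) := inferInstance
  refine ⟨X', b₀ ≫ X.isoSpec.inv, Z', c, e ≫ i₀, isFinLocFree_comp_iso _ _ hb, hsurj, hc,
    inferInstance, ?_, m, Zj, ιj, h1, h2, h3⟩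
  rw [Category.assoc, hic]
  show pullback.map _ _ _ _ _ _ _ _ _ ≫ pullback.snd _ _ = _
  rw [pullback.lift_snd, Category.comp_id]

end Groth.Agent.Lib.Helper20.Split
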