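import Mathlib
import Groth.Agent.Lib.Helper20.SplitAlg

/-!
# Finite free covers dominating standard étale algebras (Stacks 00UJ-style)

Using the universal splitting algebra.
-/

set_option autoImplicit false
universe u
open Polynomial TensorProduct

namespace Groth.Agent.Lib.Helper20.SplitCover

open Groth.Agent.Lib.Helper20.SplitAlg

/-- A monic polynomial splits completely in a finite free, finitely presented, faithfully flat
algebra. -/
theorem exists_splitting_algebra (R : Type u) [CommRing R] (f : R[X]) (hf : f.Monic) :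
    ∃ (U : Type u) (_ : CommRing U) (_ : Algebra R U) (n : ℕ) (α : Fin n → U),
      Module.Finite R U ∧ Algebra.FinitePresentation R U ∧ Module.FaithfullyFlat R U ∧
      f.map (algebraMap R U) = ∏ i, (X - C (α i)) := by
  rcases subsingleton_or_nontrivial R with hR | hR
  · refine ⟨R, inferInstance, inferInstance, 0, Fin.elim0, inferInstance, inferInstance,
      inferInstance, Subsingleton.elim _ _⟩
  · set r := f.natDegree with hr
    set a : Fin r → R := fun i => f.coeff (r - 1 - i) with ha
    have hfa : f = hPoly r a := eq_hPoly_of_monic f hf r rfl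
    let U := MvPolynomial (Fin r) R ⧸ sIdeal r a
    obtain ⟨b⟩ := exists_basis r R a
    have hfin : Module.Finite R U := Module.Finite.of_basis b
    have hfree : Module.Free R U := Module.Free.of_basis b
    have hnt : Nontrivial U := by
      have : b ⟨0, Nat.factorial_pos r⟩ ≠ 0 := b.ne_zero _
      exact ⟨⟨_, _, this⟩⟩
    have hfp : Algebra.FinitePresentation R U := by
      refine Algebra.FinitePresentation.quotient ?_
      exact Submodule.fg_span (Set.finite_range _)
    refine ⟨U, inferInstance, inferInstance, r, fun i => - Ideal.Quotient.mk _ (MvPolynomial.X i),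
      hfin, hfp, inferInstance, ?_⟩
    have h1 := (sIdeal_le_ker_iff r a (Ideal.Quotient.mk (sIdeal r a))).mp
      (le_of_eq Ideal.mk_ker.symm)
    have h2 : (Ideal.Quotient.mk (sIdeal r a)).comp MvPolynomial.C = algebraMap R U := rfl
    rw [h2] at h1
    rw [hfa, ← h1]
    refine Finset.prod_congr rfl fun i _ => ?_
    rw [map_neg, sub_neg_eq_add]


/-- Two primes lying over the same prime of `R` are the kernels of maps to a common field. -/
theorem exists_common_field {R S T : Type u} [CommRing R] [CommRing S] [CommRing T]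
    [Algebra R S] [Algebra R T] (q : Ideal S) [q.IsPrime] (q' : Ideal T) [q'.IsPrime]
    (h : q'.under R = q.under R) :
    ∃ (Ω : Type u) (_ : Field Ω) (a : S →+* Ω) (b : T →+* Ω),
      RingHom.ker a = q ∧ RingHom.ker b = q' ∧
        a.comp (algebraMap R S) = b.comp (algebraMap R T) := by
  let p : Ideal R := q.under R
  let k := p.ResidueField
  let K := q.ResidueField
  let K' := q'.ResidueField
  let φ : k →+* K := Ideal.ResidueField.map p q (algebraMap R S) rfl
  let φ' : k →+* K' := Ideal.ResidueField.map p q' (algebraMap R T) h.symm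
  let _ : Algebra k K := φ.toAlgebra
  let _ : Algebra k K' := φ'.toAlgebra
  have : Nontrivial (K ⊗[k] K') :=
    Algebra.TensorProduct.nontrivial_of_algebraMap_injective_of_flat_left (R := k) K K'
      (algebraMap k K').injective
  obtain ⟨m, hm⟩ := Ideal.exists_maximal (K ⊗[k] K')
  let _ : Field ((K ⊗[k] K') ⧸ m) := Ideal.Quotient.field m
  let ψ : K →+* (K ⊗[k] K') ⧸ m :=
    (Ideal.Quotient.mk m).comp (Algebra.TensorProduct.includeLeftRingHom)
  let ψ' : K' →+* (K ⊗[k] K') ⧸ m :=
    (Ideal.Quotient.mk m).comp (Algebra.TensorProduct.includeRight (R := k) (A := K) (B := K')).toRingHom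
  refine ⟨(K ⊗[k] K') ⧸ m, inferInstance, ψ.comp (algebraMap S K), ψ'.comp (algebraMap T K'),
    ?_, ?_, ?_⟩
  · rw [← RingHom.comap_ker, (RingHom.injective_iff_ker_eq_bot ψ).mp ψ.injective,
      ← RingHom.ker_eq_comap_bot, Ideal.ker_algebraMap_residueField]
  · rw [← RingHom.comap_ker, (RingHom.injective_iff_ker_eq_bot ψ').mp ψ'.injective,
      ← RingHom.ker_eq_comap_bot, Ideal.ker_algebraMap_residueField]
  · ext r
    simp only [RingHom.comp_apply]
    have h1 : algebraMap S K (algebraMap R S r) = algebraMap k K (algebraMap R k r) :=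
      (Ideal.ResidueField.map_algebraMap p q (algebraMap R S) rfl r).symm
    have h2 : algebraMap T K' (algebraMap R T r) = algebraMap k K' (algebraMap R k r) :=
      (Ideal.ResidueField.map_algebraMap p q' (algebraMap R T) h.symm r).symm
    rw [h1, h2]
    show Ideal.Quotient.mk m ((algebraMap k K (algebraMap R k r)) ⊗ₜ[k] (1 : K')) =
      Ideal.Quotient.mk m ((1 : K) ⊗ₜ[k] (algebraMap k K' (algebraMap R k r)))
    rw [Algebra.algebraMap_eq_smul_one, Algebra.algebraMap_eq_smul_one (A := K'),
      TensorProduct.smul_tmul]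



/-- Field-valued points of `S` and `U` over a common point of `R` can be matched after a
principal localization of `U`. -/
def FieldLift (R S U : Type u) [CommRing R] [CommRing S] [CommRing U] [Algebra R S]
    [Algebra R U] : Prop :=
  ∀ (Ω : Type u) [Field Ω] (a : S →+* Ω) (b : U →+* Ω),
    a.comp (algebraMap R S) = b.comp (algebraMap R U) →
    ∃ (g' : U) (hg : IsUnit (b g')) (φ : S →ₐ[R] Localization.Away g'),
      (IsLocalization.Away.lift (S := Localization.Away g') g' hg).comp φ.toRingHom = a

theorem fieldLift_pair {R : Type u} [CommRing R] (P : StandardEtalePair R)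
    (U : Type u) [CommRing U] [Algebra R U] (n : ℕ) (α : Fin n → U)
    (hα : P.f.map (algebraMap R U) = ∏ i, (X - C (α i))) : FieldLift R P.Ring U := by
  intro Ω _ a b hab
  let _ : Algebra R Ω := (b.comp (algebraMap R U)).toAlgebra
  let a' : P.Ring →ₐ[R] Ω := ⟨a, fun r => by
    have := congrArg (fun f => f r) hab
    exact this⟩
  let b' : U →ₐ[R] Ω := ⟨b, fun r => rfl⟩
  -- `a P.X` is a root of `f`
  have h1 : aeval (a' P.X) P.f = 0 := by
    rw [Polynomial.aeval_algHom_apply, P.hasMap_X.1, map_zero]
  have h2 : (P.f.map (algebraMap R Ω)).eval (a' P.X) = 0 := by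
    rw [Polynomial.eval_map_algebraMap]; exact h1
  have h3 : P.f.map (algebraMap R Ω) = ∏ i, (X - C (b (α i))) := by
    have : algebraMap R Ω = b.comp (algebraMap R U) := rfl
    rw [this, ← Polynomial.map_map, hα, Polynomial.map_prod]
    refine Finset.prod_congr rfl fun i _ => ?_
    rw [Polynomial.map_sub, Polynomial.map_X, Polynomial.map_C]
  rw [h3, Polynomial.eval_prod, Finset.prod_eq_zero_iff] at h2
  obtain ⟨i, -, hi⟩ := h2
  rw [Polynomial.eval_sub, Polynomial.eval_X, Polynomial.eval_C, sub_eq_zero] at hi
  -- the element to invert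
  set g' : U := aeval (α i) P.g with hg'
  have hbg : b g' = a (aeval P.X P.g) := by
    have e1 : b' g' = aeval (b' (α i)) P.g := (Polynomial.aeval_algHom_apply b' (α i) P.g).symm
    have e2 : a' (aeval P.X P.g) = aeval (a' P.X) P.g :=
      (Polynomial.aeval_algHom_apply a' P.X P.g).symm
    show b' g' = a' (aeval P.X P.g)
    rw [e1, e2]
    have e3 : b' (α i) = a' P.X := hi.symm
    rw [e3]
  have hunit : IsUnit (b g') := by
    rw [hbg]; exact P.hasMap_X.2.map a
  -- `α i` is a root of `f`
  have hroot : aeval (α i) P.f = 0 := by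
    rw [← Polynomial.eval_map_algebraMap, hα, Polynomial.eval_prod]
    refine Finset.prod_eq_zero (Finset.mem_univ i) ?_
    rw [Polynomial.eval_sub, Polynomial.eval_X, Polynomial.eval_C, sub_self]
  let L := Localization.Away g'
  have hmap : P.HasMap (algebraMap U L (α i)) := by
    constructor
    · have := Polynomial.aeval_algHom_apply (IsScalarTower.toAlgHom R U L) (α i) P.f
      rw [IsScalarTower.coe_toAlgHom'] at this
      rw [this, hroot, map_zero]
    · have := Polynomial.aeval_algHom_apply (IsScalarTower.toAlgHom R U L) (α i) P.g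
      rw [IsScalarTower.coe_toAlgHom'] at this
      rw [this]
      exact IsLocalization.Away.algebraMap_isUnit g'
  refine ⟨g', hunit, P.lift _ hmap, ?_⟩
  let b'' : L →ₐ[R] Ω := IsLocalization.Away.liftAlgHom (S := L) (f := b') g' hunit
  have key : b''.comp (P.lift _ hmap) = a' := by
    apply P.hom_ext
    rw [AlgHom.comp_apply, P.lift_X]
    show IsLocalization.Away.lift g' hunit (algebraMap U L (α i)) = a P.X
    rw [IsLocalization.Away.lift_eq]
    exact hi.symm
  exact congrArg (fun f : P.Ring →ₐ[R] Ω => f.toRingHom) key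



variable {R S S₁ U W : Type u} [CommRing R] [CommRing S] [CommRing S₁] [CommRing U] [CommRing W]
  [Algebra R S] [Algebra R S₁] [Algebra R U] [Algebra R W]

theorem FieldLift.of_equiv (e : S ≃ₐ[R] S₁) (h : FieldLift R S U) : FieldLift R S₁ U := by
  intro Ω _ a b hab
  obtain ⟨g', hg, φ, hφ⟩ := h Ω (a.comp e.toAlgHom.toRingHom) b (by
    ext r
    have := congrArg (fun f => f r) hab
    simp only [RingHom.comp_apply] at this ⊢
    rw [← this]
    congr 1
    exact e.commutes r)
  refine ⟨g', hg, φ.comp e.symm.toAlgHom, ?_⟩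
  ext x
  have := congrArg (fun f => f (e.symm x)) hφ
  simp only [RingHom.comp_apply] at this
  simp only [RingHom.comp_apply]
  rw [show (φ.comp e.symm.toAlgHom).toRingHom x = φ.toRingHom (e.symm x) from rfl, this]
  show a (e (e.symm x)) = a x
  rw [e.apply_symm_apply]

theorem FieldLift.of_algHom (j : U →ₐ[R] W) (h : FieldLift R S U) : FieldLift R S W := by
  intro Ω _ a c hac
  obtain ⟨g', hg, φ, hφ⟩ := h Ω a (c.comp j.toRingHom) (by
    rw [hac]
    ext r
    simp only [RingHom.comp_apply]
    congr 1
    exact (j.commutes r).symm)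
  have hg2 : IsUnit (c (j g')) := hg
  let μ : Localization.Away g' →ₐ[R] Localization.Away (j g') :=
    IsLocalization.Away.mapₐ (Localization.Away g') (Localization.Away (j g')) j g'
  refine ⟨j g', hg2, μ.comp φ, ?_⟩
  rw [← hφ]
  have hμ : (IsLocalization.Away.lift (S := Localization.Away (j g')) (j g') hg2).comp μ.toRingHom =
      IsLocalization.Away.lift (S := Localization.Away g') g' hg := by
    apply IsLocalization.ringHom_ext (Submonoid.powers g')
    ext u
    simp only [RingHom.comp_apply]
    rw [IsLocalization.Away.lift_eq]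
    show IsLocalization.Away.lift (j g') hg2 (IsLocalization.Away.map (Localization.Away g')
      (Localization.Away (j g')) j.toRingHom g' (algebraMap U _ u)) = _
    rw [IsLocalization.Away.map, IsLocalization.map_eq, IsLocalization.Away.lift_eq]
    rfl
  rw [← hμ]
  rfl

/-- the prime-ideal form of `FieldLift` -/
theorem FieldLift.prime (h : FieldLift R S U) (q : Ideal S) [q.IsPrime] (q' : Ideal U) [q'.IsPrime]
    (hqq : q'.under R = q.under R) :
    ∃ (g' : U) (_ : g' ∉ q') (φ : S →ₐ[R] Localization.Away g'),
      (q'.map (algebraMap U (Localization.Away g'))).comap φ = q := by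
  obtain ⟨Ω, _, a, b, ha, hb, hab⟩ := exists_common_field q q' hqq
  obtain ⟨g', hg, φ, hφ⟩ := h Ω a b hab
  have hg' : g' ∉ q' := by
    rw [← hb, RingHom.mem_ker]
    exact hg.ne_zero
  refine ⟨g', hg', φ, ?_⟩
  set b'' := IsLocalization.Away.lift (S := Localization.Away g') g' hg with hb''
  have hker : RingHom.ker b'' = q'.map (algebraMap U (Localization.Away g')) := by
    rw [← IsLocalization.map_under (Submonoid.powers g') (Localization.Away g') (RingHom.ker b'')]
    congr 1
    rw [← hb, Ideal.under, RingHom.comap_ker, hb'', IsLocalization.Away.lift_comp]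
  rw [← hker, ← ha, ← hφ]
  rfl



/-- **Stacks 00UJ** in `FieldLift` form. -/
theorem exists_cover_isStandardEtale (R S : Type u) [CommRing R] [CommRing S] [Algebra R S]
    [Algebra.IsStandardEtale R S] :
    ∃ (U : Type u) (_ : CommRing U) (_ : Algebra R U),
      Module.Finite R U ∧ Algebra.FinitePresentation R U ∧ Module.FaithfullyFlat R U ∧
        FieldLift R S U := by
  obtain ⟨P⟩ := Algebra.IsStandardEtale.nonempty_standardEtalePresentation (R := R) (S := S)
  obtain ⟨U, _, _, n, α, h1, h2, h3, hα⟩ := exists_splitting_algebra R P.f P.monic_f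
  exact ⟨U, inferInstance, inferInstance, h1, h2, h3,
    (fieldLift_pair P.P U n α hα).of_equiv P.equivRing.symm⟩

/-- A finite family of standard étale localizations has a common cover. -/
theorem exists_cover_finset (R S : Type u) [CommRing R] [CommRing S] [Algebra R S]
    (F : Finset S) (hF : ∀ f ∈ F, Algebra.IsStandardEtale R (Localization.Away f)) :
    ∃ (U : Type u) (_ : CommRing U) (_ : Algebra R U),
      Module.Finite R U ∧ Algebra.FinitePresentation R U ∧ Module.FaithfullyFlat R U ∧
        ∀ f ∈ F, FieldLift R (Localization.Away f) U := by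
  classical
  induction F using Finset.induction_on with
  | empty =>
    exact ⟨R, inferInstance, inferInstance, inferInstance, inferInstance, inferInstance,
      fun f hf => absurd hf (Finset.notMem_empty f)⟩
  | insert f₀ F hf₀ ih =>
    obtain ⟨V, _, _, hV1, hV2, hV3, hV⟩ := ih fun f hf => hF f (Finset.mem_insert_of_mem hf)
    have := hF f₀ (Finset.mem_insert_self f₀ F)
    obtain ⟨U, _, _, hU1, hU2, hU3, hU⟩ := exists_cover_isStandardEtale R (Localization.Away f₀)
    refine ⟨U ⊗[R] V, inferInstance, inferInstance, inferInstance, ?_, ?_, ?_⟩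
    · exact Algebra.FinitePresentation.trans R U (U ⊗[R] V)
    · exact Module.FaithfullyFlat.trans R U (U ⊗[R] V)
    · intro f hf
      rcases Finset.mem_insert.mp hf with rfl | hf
      · exact hU.of_algHom Algebra.TensorProduct.includeLeft
      · exact (hV f hf).of_algHom Algebra.TensorProduct.includeRight



theorem exists_finset_isStandardEtale (R S : Type u) [CommRing R] [CommRing S] [Algebra R S]
    [Algebra.Etale R S] :
    ∃ F : Finset S, Ideal.span (F : Set S) = ⊤ ∧
      ∀ f ∈ F, Algebra.IsStandardEtale R (Localization.Away f) := by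
  set s : Set S := {f | Algebra.IsStandardEtale R (Localization.Away f)} with hs_def
  have hs : Ideal.span s = ⊤ := by
    by_contra hne
    obtain ⟨m, hm, hle⟩ := Ideal.exists_le_maximal _ hne
    have := hm.isPrime
    have : Algebra.IsEtaleAt R m := by
      have : Algebra.FormallyEtale S (Localization.AtPrime m) :=
        Algebra.FormallyEtale.of_isLocalization m.primeCompl
      exact Algebra.FormallyEtale.comp R S _
    obtain ⟨f, hf, hfs⟩ := Algebra.IsEtaleAt.exists_isStandardEtale (R := R) m
    exact hf (hle (Ideal.subset_span hfs))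
  obtain ⟨F, hFs, hF⟩ := (Ideal.span_eq_top_iff_finite s).mp hs
  exact ⟨F, hF, fun f hf => hFs hf⟩

/-- **Stacks 00UK-style**: an étale algebra, surjective on spectra, is dominated Zariski locally by a
finite free cover. -/
theorem exists_cover_etale (R S : Type u) [CommRing R] [CommRing S] [Algebra R S]
    [Algebra.Etale R S] (hs : Function.Surjective (PrimeSpectrum.comap (algebraMap R S))) :
    ∃ (U : Type u) (_ : CommRing U) (_ : Algebra R U),
      Module.Finite R U ∧ Algebra.FinitePresentation R U ∧ Module.FaithfullyFlat R U ∧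
        ∀ (q' : Ideal U) [q'.IsPrime], ∃ (g' : U) (_ : g' ∉ q'),
          Nonempty (S →ₐ[R] Localization.Away g') := by
  obtain ⟨F, hF, hFs⟩ := exists_finset_isStandardEtale R S
  obtain ⟨U, _, _, h1, h2, h3, h4⟩ := exists_cover_finset R S F hFs
  refine ⟨U, inferInstance, inferInstance, h1, h2, h3, ?_⟩
  intro q' _
  obtain ⟨q, hq⟩ := hs ⟨q'.under R, inferInstance⟩
  have hq' : q'.under R = q.asIdeal.under R := by
    have := congrArg PrimeSpectrum.asIdeal hq
    exact this.symm
  obtain ⟨f, hfF, hfq⟩ : ∃ f ∈ F, f ∉ q.asIdeal := by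
    by_contra hcon
    push Not at hcon
    have : Ideal.span (F : Set S) ≤ q.asIdeal := Ideal.span_le.mpr fun f hf => hcon f hf
    rw [hF] at this
    exact q.2.ne_top (top_le_iff.mp this)
  obtain ⟨Ω, _, a₀, b, ha, hb, hab⟩ := exists_common_field q.asIdeal q' hq'
  have hu : IsUnit (a₀ f) := by
    refine IsUnit.mk0 _ fun h0 => hfq ?_
    rw [← ha, RingHom.mem_ker]
    exact h0
  let a : Localization.Away f →+* Ω := IsLocalization.Away.lift (S := Localization.Away f) f hu
  have hab' : a.comp (algebraMap R (Localization.Away f)) = b.comp (algebraMap R U) := by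
    rw [IsScalarTower.algebraMap_eq R S (Localization.Away f), ← RingHom.comp_assoc,
      IsLocalization.Away.lift_comp, hab]
  obtain ⟨g', hg, φ, -⟩ := h4 f hfF Ω a b hab'
  refine ⟨g', ?_, ⟨φ.comp (IsScalarTower.toAlgHom R S (Localization.Away f))⟩⟩
  rw [← hb, RingHom.mem_ker]
  exact hg.ne_zero



/-- **Stacks 00UL-style** local version. -/
theorem exists_cover_etale_local (R : Type u) [CommRing R] [IsLocalRing R] (T : Type u)
    [CommRing T] [Algebra R T] [Algebra.Etale R T] (q : Ideal T) [q.IsPrime] (S : Type u)
    [CommRing S] [IsLocalRing S] [Algebra T S] [IsLocalization.AtPrime S q] [Algebra R S]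
    [IsScalarTower R T S] [IsLocalHom (algebraMap R S)] :
    ∃ (U : Type u) (_ : CommRing U) (_ : Algebra R U),
      Module.Finite R U ∧ Algebra.FinitePresentation R U ∧ Module.FaithfullyFlat R U ∧
        ∀ (m' : Ideal U) [m'.IsMaximal], Nonempty (S →ₐ[R] Localization.AtPrime m') := by
  have hEt : Algebra.IsEtaleAt R q := by
    have : Algebra.FormallyEtale T (Localization.AtPrime q) :=
      Algebra.FormallyEtale.of_isLocalization q.primeCompl
    exact Algebra.FormallyEtale.comp R T _
  obtain ⟨f, hfq, hfs⟩ := Algebra.IsEtaleAt.exists_isStandardEtale (R := R) q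
  obtain ⟨U, _, _, h1, h2, h3, h4⟩ := exists_cover_isStandardEtale R (Localization.Away f)
  refine ⟨U, inferInstance, inferInstance, h1, h2, h3, ?_⟩
  intro m' hm'
  -- both primes lie over the maximal ideal of `R`
  have hq : q.under R = IsLocalRing.maximalIdeal R := by
    have e1 : (IsLocalRing.maximalIdeal S).comap (algebraMap T S) = q :=
      IsLocalization.AtPrime.under_maximalIdeal S q
    have e2 : (IsLocalRing.maximalIdeal S).comap (algebraMap R S) = IsLocalRing.maximalIdeal R :=
      IsLocalRing.maximalIdeal_comap (algebraMap R S)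
    rw [Ideal.under, ← e1, Ideal.comap_comap, ← IsScalarTower.algebraMap_eq, e2]
  have hm : m'.under R = IsLocalRing.maximalIdeal R := by
    have : (m'.under R).IsMaximal :=
      Ideal.isMaximal_comap_of_isIntegral_of_isMaximal (R := R) m'
    exact IsLocalRing.eq_maximalIdeal this
  obtain ⟨Ω, _, a₀, b, ha, hb, hab⟩ := exists_common_field q m' (hm.trans hq.symm)
  have hu : IsUnit (a₀ f) := by
    refine IsUnit.mk0 _ fun h0 => hfq ?_
    rw [← ha, RingHom.mem_ker]
    exact h0
  let a : Localization.Away f →+* Ω := IsLocalization.Away.lift (S := Localization.Away f) f hu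
  have hab' : a.comp (algebraMap R (Localization.Away f)) = b.comp (algebraMap R U) := by
    rw [IsScalarTower.algebraMap_eq R T (Localization.Away f), ← RingHom.comp_assoc,
      IsLocalization.Away.lift_comp, hab]
  obtain ⟨g', hg, φ, hφ⟩ := h4 Ω a b hab'
  have hg' : g' ∉ m' := by
    rw [← hb, RingHom.mem_ker]
    exact hg.ne_zero
  let L := Localization.AtPrime m'
  -- the extension of `b` to the local ring
  have hbu : ∀ y : m'.primeCompl, IsUnit (b y) := by
    intro y
    refine IsUnit.mk0 _ fun h0 => y.2 ?_
    have : (y : U) ∈ RingHom.ker b := h0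
    rw [hb] at this
    exact this
  let bm : L →+* Ω := IsLocalization.lift (M := m'.primeCompl) (S := L) hbu
  have hbm : bm.comp (algebraMap U L) = b := IsLocalization.lift_comp hbu
  -- `bm x ≠ 0 → IsUnit x`
  have hunit_of : ∀ x : L, bm x ≠ 0 → IsUnit x := by
    intro x hx
    by_contra hnu
    apply hx
    have hxm : x ∈ IsLocalRing.maximalIdeal L := hnu
    rw [← Localization.AtPrime.map_eq_maximalIdeal] at hxm
    have hle : m'.map (algebraMap U L) ≤ RingHom.ker bm := by
      rw [Ideal.map_le_iff_le_comap, RingHom.comap_ker, hbm, hb]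
    exact hle hxm
  have hgu : IsUnit (IsScalarTower.toAlgHom R U L g') :=
    IsLocalization.map_units L (⟨g', hg'⟩ : m'.primeCompl)
  let ψ : Localization.Away g' →ₐ[R] L :=
    IsLocalization.Away.liftAlgHom (S := Localization.Away g')
      (f := IsScalarTower.toAlgHom R U L) g' hgu
  have hψ : bm.comp ψ.toRingHom =
      IsLocalization.Away.lift (S := Localization.Away g') g' hg := by
    apply IsLocalization.ringHom_ext (Submonoid.powers g')
    ext u
    simp only [RingHom.comp_apply]
    rw [IsLocalization.Away.lift_eq]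
    show bm (IsLocalization.Away.lift g' hgu (algebraMap U _ u)) = b u
    rw [IsLocalization.Away.lift_eq]
    exact congrArg (fun h => h u) hbm
  let χ : T →ₐ[R] L := ψ.comp (φ.comp (IsScalarTower.toAlgHom R T (Localization.Away f)))
  have hχ : ∀ t : T, bm (χ t) = a₀ t := by
    intro t
    have e1 : bm (χ t) = (bm.comp ψ.toRingHom) (φ (algebraMap T (Localization.Away f) t)) := rfl
    rw [e1, hψ]
    have e2 := congrArg (fun h => h (algebraMap T (Localization.Away f) t)) hφ
    simp only [RingHom.comp_apply] at e2
    have e3 : IsLocalization.Away.lift g' hg (φ (algebraMap T (Localization.Away f) t)) =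
        a (algebraMap T (Localization.Away f) t) := e2
    rw [e3]
    exact IsLocalization.Away.lift_eq f hu t
  have hχu : ∀ y : q.primeCompl, IsUnit (χ y) := by
    intro y
    apply hunit_of
    rw [hχ]
    intro h0
    apply y.2
    have : (y : T) ∈ RingHom.ker a₀ := h0
    rw [ha] at this
    exact this
  exact ⟨IsLocalization.liftAlgHom (M := q.primeCompl) (S := S) (f := χ) hχu⟩


end Groth.Agent.Lib.Helper20.SplitCover
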