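import Mathlib

set_option autoImplicit false

namespace Groth.Agent.Lib.Helper20.SprOut

universe u

open MvPolynomial

variable {l : ℕ}

/-- The ideal `(X_k ^ 2 - s_k)`. -/
noncomputable abbrev sqI (D : Type*) [CommRing D] (s : Fin l → D) : Ideal (MvPolynomial (Fin l) D) :=
  Ideal.span (Set.range fun k : Fin l => X k ^ 2 - C (s k))

/-- The ring `D[X_1, …, X_l] / (X_k ^ 2 - s_k)`. -/
abbrev Qr (D : Type*) [CommRing D] (s : Fin l → D) : Type _ :=
  MvPolynomial (Fin l) D ⧸ sqI D s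

section Qmap

variable {D D' : Type*} [CommRing D] [CommRing D'] (φ : D →+* D') (s : Fin l → D)
  (s' : Fin l → D') (hs : ∀ k, φ (s k) = s' k)

include hs in
theorem map_gen (k : Fin l) :
    MvPolynomial.map φ (X k ^ 2 - C (s k)) = (X k ^ 2 - C (s' k) : MvPolynomial (Fin l) D') := by
  rw [map_sub, map_pow, MvPolynomial.map_X, MvPolynomial.map_C, hs]

include hs in
theorem sqI_le_comap : sqI D s ≤ (sqI D' s').comap (MvPolynomial.map φ) := by
  rw [Ideal.span_le]
  rintro _ ⟨k, rfl⟩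
  change MvPolynomial.map φ (X k ^ 2 - C (s k)) ∈ sqI D' s'
  rw [map_gen φ s s' hs]
  exact Ideal.subset_span ⟨k, rfl⟩

/-- The map induced on the quotient rings. -/
noncomputable def Qmap : Qr D s →+* Qr D' s' :=
  Ideal.quotientMap (sqI D' s') (MvPolynomial.map φ) (sqI_le_comap φ s s' hs)

theorem Qmap_mk (P : MvPolynomial (Fin l) D) :
    Qmap φ s s' hs (Ideal.Quotient.mk (sqI D s) P)
      = Ideal.Quotient.mk (sqI D' s') (MvPolynomial.map φ P) := by
  rw [Qmap, Ideal.quotientMap_mk]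

end Qmap

section descent

variable {B : Type*} [CommRing B] (T : Submonoid B)
  {D D' : Type*} [CommRing D] [CommRing D'] [Algebra B D] [Algebra B D'] [Algebra D D']
  [IsScalarTower B D D']
  (hsurj : ∀ x : D', ∃ t ∈ T, ∃ y : D, algebraMap B D' t * x = algebraMap D D' y)
  (hker : ∀ y : D, algebraMap D D' y = 0 → ∃ t ∈ T, algebraMap B D t * y = 0)

include hsurj in
/-- Polynomials over `D'` descend to `D` up to a multiplier from `T`. -/
theorem poly_surj (P : MvPolynomial (Fin l) D') :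
    ∃ t ∈ T, ∃ P₀ : MvPolynomial (Fin l) D,
      C (algebraMap B D' t) * P = MvPolynomial.map (algebraMap D D') P₀ := by
  induction P using MvPolynomial.induction_on with
  | C a =>
    obtain ⟨t, ht, y, hy⟩ := hsurj a
    refine ⟨t, ht, C y, ?_⟩
    rw [MvPolynomial.map_C, ← hy, map_mul]
  | add p q hp hq =>
    obtain ⟨t, ht, P₀, hP⟩ := hp
    obtain ⟨t', ht', Q₀, hQ⟩ := hq
    refine ⟨t * t', T.mul_mem ht ht', C (algebraMap B D t') * P₀ + C (algebraMap B D t) * Q₀, ?_⟩
    have e1 : MvPolynomial.map (algebraMap D D') (C (algebraMap B D t') * P₀)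
        = C (algebraMap B D' t') * (C (algebraMap B D' t) * p) := by
      rw [(MvPolynomial.map (algebraMap D D')).map_mul, MvPolynomial.map_C,
        ← IsScalarTower.algebraMap_apply, hP]
    have e2 : MvPolynomial.map (algebraMap D D') (C (algebraMap B D t) * Q₀)
        = C (algebraMap B D' t) * (C (algebraMap B D' t') * q) := by
      rw [(MvPolynomial.map (algebraMap D D')).map_mul, MvPolynomial.map_C,
        ← IsScalarTower.algebraMap_apply, hQ]
    rw [(MvPolynomial.map (algebraMap D D')).map_add, e1, e2, (algebraMap B D').map_mul, C.map_mul]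
    ring
  | mul_X p i hp =>
    obtain ⟨t, ht, P₀, hP⟩ := hp
    refine ⟨t, ht, P₀ * X i, ?_⟩
    rw [map_mul, MvPolynomial.map_X, ← hP]
    ring

include hker in
/-- A polynomial over `D` dying over `D'` is killed by an element of `T`. -/
theorem poly_ker (P : MvPolynomial (Fin l) D)
    (hP : MvPolynomial.map (algebraMap D D') P = 0) :
    ∃ t ∈ T, C (algebraMap B D t) * P = 0 := by
  classical
  have h1 : ∀ m ∈ P.support, ∃ t ∈ T, algebraMap B D t * coeff m P = 0 := by
    intro m _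
    apply hker
    have h2 := congrArg (coeff m) hP
    rwa [MvPolynomial.coeff_map, coeff_zero] at h2
  choose! τ hτ hτ' using h1
  refine ⟨∏ m ∈ P.support, τ m, T.prod_mem fun m hm => hτ m hm, ?_⟩
  ext m
  rw [coeff_C_mul, coeff_zero]
  by_cases hm : m ∈ P.support
  · rw [← Finset.mul_prod_erase _ _ hm, map_mul, mul_comm (algebraMap B D (τ m)), mul_assoc,
      hτ' m hm, mul_zero]
  · rw [MvPolynomial.notMem_support_iff.mp hm, mul_zero]

variable (s : Fin l → D) (s' : Fin l → D') (hs : ∀ k, algebraMap D D' (s k) = s' k)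

include hsurj in
theorem Qmap_surj (q : Qr D' s') :
    ∃ t ∈ T, ∃ q₀ : Qr D s,
      algebraMap B (Qr D' s') t * q = Qmap (algebraMap D D') s s' hs q₀ := by
  obtain ⟨P, rfl⟩ := Ideal.Quotient.mk_surjective q
  obtain ⟨t, ht, P₀, hP⟩ := poly_surj T hsurj P
  refine ⟨t, ht, Ideal.Quotient.mk _ P₀, ?_⟩
  rw [Qmap_mk, ← hP, map_mul]
  rfl

include hsurj hker in
theorem Qmap_ker (q₀ : Qr D s) (hq : Qmap (algebraMap D D') s s' hs q₀ = 0) :
    ∃ t ∈ T, algebraMap B (Qr D s) t * q₀ = 0 := by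
  obtain ⟨P₀, rfl⟩ := Ideal.Quotient.mk_surjective q₀
  rw [Qmap_mk, Ideal.Quotient.eq_zero_iff_mem] at hq
  obtain ⟨c, hc⟩ := (Ideal.mem_span_range_iff_exists_fun).mp hq
  -- descend the coefficients `c k`
  have h1 : ∀ k, ∃ t ∈ T, ∃ R₀ : MvPolynomial (Fin l) D,
      C (algebraMap B D' t) * c k = MvPolynomial.map (algebraMap D D') R₀ :=
    fun k => poly_surj T hsurj (c k)
  choose τ hτ R₀ hR₀ using h1
  obtain ⟨t, ht⟩ : ∃ t, t = ∏ k, τ k := ⟨_, rfl⟩
  have htT : t ∈ T := ht ▸ T.prod_mem fun k _ => hτ k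
  -- `t • c k` descends to `R₁ k`
  have h2 : ∀ k, ∃ R₁ : MvPolynomial (Fin l) D,
      C (algebraMap B D' t) * c k = MvPolynomial.map (algebraMap D D') R₁ := by
    intro k
    refine ⟨C (algebraMap B D (∏ j ∈ Finset.univ.erase k, τ j)) * R₀ k, ?_⟩
    rw [map_mul, ← hR₀, MvPolynomial.map_C, ← IsScalarTower.algebraMap_apply, ← mul_assoc,
      ← map_mul, ← map_mul, ht, ← Finset.mul_prod_erase _ _ (Finset.mem_univ k), mul_comm (τ k)]
  choose R₁ hR₁ using h2
  have h3 : MvPolynomial.map (algebraMap D D')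
      (C (algebraMap B D t) * P₀ - ∑ k, R₁ k * (X k ^ 2 - C (s k))) = 0 := by
    rw [map_sub, map_mul, MvPolynomial.map_C, ← IsScalarTower.algebraMap_apply, map_sum, ← hc,
      Finset.mul_sum, sub_eq_zero]
    refine Finset.sum_congr rfl fun k _ => ?_
    rw [(MvPolynomial.map (algebraMap D D')).map_mul, map_gen _ s s' hs, ← hR₁, mul_assoc]
  obtain ⟨t', ht', h4⟩ := poly_ker T hker _ h3
  refine ⟨t' * t, T.mul_mem ht' htT, ?_⟩
  have h5 : C (algebraMap B D t') * (C (algebraMap B D t) * P₀)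
      = C (algebraMap B D t') * ∑ k, R₁ k * (X k ^ 2 - C (s k)) := by
    rw [mul_sub] at h4
    exact sub_eq_zero.mp h4
  have h6 : algebraMap B (Qr D s) (t' * t) * Ideal.Quotient.mk (sqI D s) P₀
      = Ideal.Quotient.mk (sqI D s) (C (algebraMap B D t') * (C (algebraMap B D t) * P₀)) := by
    rw [map_mul, map_mul, map_mul, mul_assoc]
    rfl
  rw [h6, h5, Ideal.Quotient.eq_zero_iff_mem]
  refine Ideal.mul_mem_left _ _ (Ideal.sum_mem _ fun k _ => Ideal.mul_mem_left _ _ ?_)
  exact Ideal.subset_span ⟨k, rfl⟩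

end descent

end Groth.Agent.Lib.Helper20.SprOut
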