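import Mathlib
import Groth.Agent.Lib.Helper20.SprOut1

set_option autoImplicit false

namespace Groth.Agent.Lib.Helper20.SprOut

universe u

open MvPolynomial

variable {l : ℕ}

section away

variable {B : Type*} [CommRing B] (T : Submonoid B)
  {D D' : Type*} [CommRing D] [CommRing D'] [Algebra B D] [Algebra B D'] [Algebra D D']
  [IsScalarTower B D D']
  (hunit : ∀ t ∈ T, IsUnit (algebraMap B D' t))
  (hsurj : ∀ x : D', ∃ t ∈ T, ∃ y : D, algebraMap B D' t * x = algebraMap D D' y)
  (hker : ∀ y : D, algebraMap D D' y = 0 → ∃ t ∈ T, algebraMap B D t * y = 0)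
  (s : Fin l → D) (s' : Fin l → D') (hs : ∀ k, algebraMap D D' (s k) = s' k)
  (f₀ : Qr D s)

theorem Qmap_algebraMap (x : B) :
    Qmap (algebraMap D D') s s' hs (algebraMap B (Qr D s) x) = algebraMap B (Qr D' s') x := by
  change Qmap (algebraMap D D') s s' hs (Ideal.Quotient.mk _ (C (algebraMap B D x))) = _
  rw [Qmap_mk, MvPolynomial.map_C, ← IsScalarTower.algebraMap_apply]
  rfl

/-- The induced map on the localizations away from `f₀` and its image. -/
noncomputable def θ :
    Localization.Away f₀ →+* Localization.Away (Qmap (algebraMap D D') s s' hs f₀) :=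
  IsLocalization.Away.map (Localization.Away f₀)
    (Localization.Away (Qmap (algebraMap D D') s s' hs f₀)) (Qmap (algebraMap D D') s s' hs) f₀

theorem θ_algebraMap_Q (q : Qr D s) :
    θ s s' hs f₀ (algebraMap (Qr D s) (Localization.Away f₀) q)
      = algebraMap (Qr D' s') (Localization.Away (Qmap (algebraMap D D') s s' hs f₀))
          (Qmap (algebraMap D D') s s' hs q) := by
  rw [θ, IsLocalization.Away.map, IsLocalization.map_eq]

theorem θ_algebraMap (x : B) :
    θ s s' hs f₀ (algebraMap B (Localization.Away f₀) x)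
      = algebraMap B (Localization.Away (Qmap (algebraMap D D') s s' hs f₀)) x := by
  rw [IsScalarTower.algebraMap_apply B (Qr D s) (Localization.Away f₀), θ_algebraMap_Q,
    Qmap_algebraMap, ← IsScalarTower.algebraMap_apply]

variable (B) in
/-- `θ` as a `B`-algebra map. -/
noncomputable def θₐ :
    Localization.Away f₀ →ₐ[B] Localization.Away (Qmap (algebraMap D D') s s' hs f₀) :=
  AlgHom.mk (θ s s' hs f₀) (θ_algebraMap (B := B) s s' hs f₀)

theorem θₐ_apply (x : Localization.Away f₀) : θₐ B s s' hs f₀ x = θ s s' hs f₀ x := rfl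

include hunit in
theorem isUnit_algebraMap_away (t : B) (ht : t ∈ T) :
    IsUnit (algebraMap B (Localization.Away (Qmap (algebraMap D D') s s' hs f₀)) t) := by
  rw [IsScalarTower.algebraMap_apply B (Qr D' s') (Localization.Away _),
    IsScalarTower.algebraMap_apply B D' (Qr D' s')]
  exact ((hunit t ht).map _).map _

include hunit hsurj hker in
theorem isLocalizedModule_θ :
    IsLocalizedModule T (θₐ B s s' hs f₀).toLinearMap := by
  have hgu : ∀ n : ℕ, IsUnit (algebraMap (Qr D' s')
      (Localization.Away (Qmap (algebraMap D D') s s' hs f₀))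
      (Qmap (algebraMap D D') s s' hs f₀) ^ n) :=
    fun n => IsLocalization.Away.algebraMap_pow_isUnit _ n
  have hfu : ∀ n : ℕ, IsUnit (algebraMap (Qr D s) (Localization.Away f₀) f₀ ^ n) :=
    fun n => IsLocalization.Away.algebraMap_pow_isUnit _ n
  refine ⟨?_, ?_, ?_⟩
  · intro t
    rw [Module.End.isUnit_iff]
    have hu := isUnit_algebraMap_away T hunit s s' hs f₀ t.1 t.2
    constructor
    · intro y y' hyy
      simp only [Module.algebraMap_end_apply] at hyy
      rw [Algebra.smul_def, Algebra.smul_def] at hyy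
      exact hu.mul_left_cancel hyy
    · intro y
      obtain ⟨u, hu'⟩ := hu
      refine ⟨(↑u⁻¹ : Localization.Away _) * y, ?_⟩
      simp only [Module.algebraMap_end_apply]
      rw [Algebra.smul_def, ← hu', ← mul_assoc, Units.mul_inv, one_mul]
  · intro y
    obtain ⟨n, a, ha⟩ := IsLocalization.Away.surj (Qmap (algebraMap D D') s s' hs f₀) y
    obtain ⟨t, ht, q₀, hq₀⟩ := Qmap_surj T hsurj s s' hs a
    refine ⟨⟨IsLocalization.mk' (Localization.Away f₀) q₀ (Submonoid.pow f₀ n), ⟨t, ht⟩⟩, ?_⟩
    apply (hgu n).mul_right_cancel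
    change (t • y) * _ = θ s s' hs f₀ _ * _
    have h1 : IsLocalization.mk' (Localization.Away f₀) q₀ (Submonoid.pow f₀ n)
        * algebraMap (Qr D s) (Localization.Away f₀) (f₀ ^ n)
        = algebraMap (Qr D s) (Localization.Away f₀) q₀ :=
      IsLocalization.mk'_spec _ _ _
    have h2 : algebraMap (Qr D' s') (Localization.Away (Qmap (algebraMap D D') s s' hs f₀))
        (Qmap (algebraMap D D') s s' hs f₀) ^ n
        = θ s s' hs f₀ (algebraMap (Qr D s) (Localization.Away f₀) (f₀ ^ n)) := by
      rw [θ_algebraMap_Q, map_pow, map_pow]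
    have e1 : θ s s' hs f₀ (IsLocalization.mk' (Localization.Away f₀) q₀ (Submonoid.pow f₀ n))
        * algebraMap (Qr D' s') (Localization.Away (Qmap (algebraMap D D') s s' hs f₀))
          (Qmap (algebraMap D D') s s' hs f₀) ^ n
        = algebraMap (Qr D' s') (Localization.Away (Qmap (algebraMap D D') s s' hs f₀))
          (Qmap (algebraMap D D') s s' hs q₀) := by
      rw [h2, ← map_mul, h1, θ_algebraMap_Q]
    rw [e1, ← hq₀, map_mul, ← IsScalarTower.algebraMap_apply, ← ha, Algebra.smul_def, mul_assoc]
  · intro x₁ x₂ h12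
    have h0 : θ s s' hs f₀ (x₁ - x₂) = 0 := by
      rw [map_sub]
      exact sub_eq_zero.mpr h12
    obtain ⟨n, q₀, hq₀⟩ := IsLocalization.Away.surj f₀ (x₁ - x₂)
    have h1 : algebraMap (Qr D' s') (Localization.Away (Qmap (algebraMap D D') s s' hs f₀))
        (Qmap (algebraMap D D') s s' hs q₀) = 0 := by
      rw [← θ_algebraMap_Q, ← hq₀, map_mul, h0, zero_mul]
    rw [IsLocalization.map_eq_zero_iff (Submonoid.powers (Qmap (algebraMap D D') s s' hs f₀))] at h1
    obtain ⟨⟨_, m, rfl⟩, hm⟩ := h1
    have h2 : Qmap (algebraMap D D') s s' hs (f₀ ^ m * q₀) = 0 := by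
      rw [map_mul, map_pow]
      exact hm
    obtain ⟨t, ht, h3⟩ := Qmap_ker T hsurj hker s s' hs _ h2
    refine ⟨⟨t, ht⟩, ?_⟩
    have h4 : algebraMap B (Localization.Away f₀) t * (x₁ - x₂) = 0 := by
      have key : (algebraMap B (Localization.Away f₀) t * (x₁ - x₂))
          * (algebraMap (Qr D s) (Localization.Away f₀) f₀ ^ n
            * algebraMap (Qr D s) (Localization.Away f₀) f₀ ^ m) = 0 := by
        calc (algebraMap B (Localization.Away f₀) t * (x₁ - x₂))
              * (algebraMap (Qr D s) (Localization.Away f₀) f₀ ^ n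
                * algebraMap (Qr D s) (Localization.Away f₀) f₀ ^ m)
            = algebraMap B (Localization.Away f₀) t
                * ((x₁ - x₂) * algebraMap (Qr D s) (Localization.Away f₀) f₀ ^ n)
                * algebraMap (Qr D s) (Localization.Away f₀) f₀ ^ m := by ring
          _ = algebraMap (Qr D s) (Localization.Away f₀)
                (algebraMap B (Qr D s) t * (f₀ ^ m * q₀)) := by
              rw [hq₀, IsScalarTower.algebraMap_apply B (Qr D s) (Localization.Away f₀),
                map_mul, map_mul, map_pow]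
              ring
          _ = 0 := by rw [h3, map_zero]
      exact ((hfu n).mul (hfu m)).mul_left_eq_zero.mp key
    change t • x₁ = t • x₂
    rw [Algebra.smul_def, Algebra.smul_def]
    rw [mul_sub] at h4
    exact sub_eq_zero.mp h4

end away

end Groth.Agent.Lib.Helper20.SprOut
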