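import Mathlib

set_option autoImplicit false

namespace Groth.Agent.Lib.Helper20.SprOut

universe u

section matrices

variable {B : Type*} [CommRing B] (T : Submonoid B) {W W' : Type*} [CommRing W] [CommRing W']
  [Algebra B W] [Algebra B W'] (Ψ : W →ₐ[B] W') [hΨ : IsLocalizedModule T Ψ.toLinearMap] {n : ℕ}

include hΨ in
theorem elt_surj (y : W') : ∃ t ∈ T, ∃ x : W, algebraMap B W' t * y = Ψ x := by
  obtain ⟨⟨x, t⟩, hx⟩ := IsLocalizedModule.surj T Ψ.toLinearMap y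
  refine ⟨t.1, t.2, x, ?_⟩
  rw [← Algebra.smul_def]
  exact hx

include hΨ in
theorem elt_ker (x : W) (hx : Ψ x = 0) : ∃ t ∈ T, algebraMap B W t * x = 0 := by
  have h0 : Ψ.toLinearMap x = Ψ.toLinearMap 0 := by
    rw [map_zero]
    exact hx
  obtain ⟨t, ht⟩ := IsLocalizedModule.exists_of_eq (S := T) (f := Ψ.toLinearMap) h0
  refine ⟨t.1, t.2, ?_⟩
  rw [← Algebra.smul_def]
  rw [smul_zero] at ht
  exact ht

include hΨ in
theorem mat_surj (v : Matrix (Fin n) (Fin n) W') :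
    ∃ t ∈ T, ∃ V : Matrix (Fin n) (Fin n) W, algebraMap B W' t • v = V.map Ψ := by
  classical
  have h1 : ∀ p : Fin n × Fin n, ∃ t ∈ T, ∃ x : W, algebraMap B W' t * v p.1 p.2 = Ψ x :=
    fun p => elt_surj T Ψ (v p.1 p.2)
  choose τ hτ x hx using h1
  refine ⟨∏ p, τ p, T.prod_mem fun p _ => hτ p,
    Matrix.of fun i j => algebraMap B W (∏ p ∈ Finset.univ.erase (i, j), τ p) * x (i, j), ?_⟩
  ext i j
  rw [Matrix.smul_apply, Matrix.map_apply, Matrix.of_apply, map_mul, AlgHom.commutes, ← hx (i, j),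
    smul_eq_mul, ← mul_assoc, ← map_mul, ← Finset.mul_prod_erase _ _ (Finset.mem_univ (i, j)),
    mul_comm (τ (i, j))]

include hΨ in
theorem mat_ker (V : Matrix (Fin n) (Fin n) W) (hV : V.map Ψ = 0) :
    ∃ t ∈ T, algebraMap B W t • V = 0 := by
  classical
  have h1 : ∀ p : Fin n × Fin n, ∃ t ∈ T, algebraMap B W t * V p.1 p.2 = 0 := by
    intro p
    apply elt_ker T Ψ
    have h2 := congrFun (congrFun hV p.1) p.2
    rwa [Matrix.map_apply] at h2
  choose τ hτ hx using h1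
  refine ⟨∏ p, τ p, T.prod_mem fun p _ => hτ p, ?_⟩
  ext i j
  rw [Matrix.smul_apply, Matrix.zero_apply, smul_eq_mul,
    ← Finset.mul_prod_erase _ _ (Finset.mem_univ (i, j)), mul_comm (τ (i, j)), map_mul, mul_assoc,
    hx (i, j), mul_zero]

end matrices

end Groth.Agent.Lib.Helper20.SprOut
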