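import Mathlib
import Groth.Agent.Lib.Helper20.SprOut3

set_option autoImplicit false

namespace Groth.Agent.Lib.Helper20.SprOut

universe u

section descend

variable {B : Type*} [CommRing B] (T : Submonoid B) {W W' : Type*} [CommRing W] [CommRing W']
  [Algebra B W] [Algebra B W'] (Ψ : W →ₐ[B] W') [hΨ : IsLocalizedModule T Ψ.toLinearMap] {n : ℕ}

theorem map_smul_mat (c : W) (M : Matrix (Fin n) (Fin n) W) :
    (c • M).map Ψ = Ψ c • M.map Ψ := by
  ext i j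
  simp [Matrix.map_apply, Matrix.smul_apply]

theorem map_mul_mat (M N : Matrix (Fin n) (Fin n) W) :
    (M * N).map Ψ = M.map Ψ * N.map Ψ :=
  Matrix.map_mul (f := (Ψ : W →+* W'))

theorem map_sub_mat (M N : Matrix (Fin n) (Fin n) W) :
    (M - N).map Ψ = M.map Ψ - N.map Ψ :=
  Matrix.map_sub (f := Ψ) (fun a b => map_sub Ψ a b) M N

theorem map_one_mat : (1 : Matrix (Fin n) (Fin n) W).map Ψ = 1 :=
  Matrix.map_one Ψ (map_zero Ψ) (map_one Ψ)

include hΨ in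
theorem descend (ΛW : W →+* W) (ΛW' : W' →+* W') (hΛ : ∀ x, Ψ (ΛW x) = ΛW' (Ψ x))
    (hΛB : ∀ b : B, ΛW' (algebraMap B W' b) = algebraMap B W' b)
    (H H2 : Matrix (Fin n) (Fin n) W) (v w : Matrix (Fin n) (Fin n) W')
    (hvw : v * w = 1) (hwv : w * v = 1)
    (heq : (v.map ΛW').transpose * H.map Ψ * v = H2.map Ψ) :
    ∃ t ∈ T, ∃ u ∈ T, ∃ V Wm : Matrix (Fin n) (Fin n) W,
      algebraMap B W u • (V * Wm) = algebraMap B W (u * (t * t)) • (1 : Matrix (Fin n) (Fin n) W) ∧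
      algebraMap B W u • (Wm * V) = algebraMap B W (u * (t * t)) • (1 : Matrix (Fin n) (Fin n) W) ∧
      algebraMap B W u • ((V.map ΛW).transpose * H * V) = algebraMap B W (u * (t * t)) • H2 := by
  obtain ⟨t₁, ht₁, V₁, hV₁⟩ := mat_surj T Ψ v
  obtain ⟨t₂, ht₂, W₁, hW₁⟩ := mat_surj T Ψ w
  obtain ⟨t, rfl⟩ : ∃ t, t = t₁ * t₂ := ⟨_, rfl⟩
  obtain ⟨a, ha⟩ : ∃ a, a = algebraMap B W' (t₁ * t₂) := ⟨_, rfl⟩
  obtain ⟨V, rfl⟩ : ∃ V, V = algebraMap B W t₂ • V₁ := ⟨_, rfl⟩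
  obtain ⟨Wm, rfl⟩ : ∃ Wm, Wm = algebraMap B W t₁ • W₁ := ⟨_, rfl⟩
  have hV : (algebraMap B W t₂ • V₁).map Ψ = a • v := by
    rw [map_smul_mat, ← hV₁, AlgHom.commutes, smul_smul, ← map_mul, mul_comm t₂, ha]
  have hW : (algebraMap B W t₁ • W₁).map Ψ = a • w := by
    rw [map_smul_mat, ← hW₁, AlgHom.commutes, smul_smul, ← map_mul, ha]
  have hVΛ : ((algebraMap B W t₂ • V₁).map ΛW).map Ψ = a • v.map ΛW' := by
    have e1 : ((algebraMap B W t₂ • V₁).map ΛW).map Ψ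
        = ((algebraMap B W t₂ • V₁).map Ψ).map ΛW' := by
      ext i j
      simp only [Matrix.map_apply]
      exact hΛ _
    rw [e1, hV]
    ext i j
    simp only [Matrix.map_apply, Matrix.smul_apply, smul_eq_mul, map_mul]
    rw [ha, hΛB]
  have hΨa : Ψ (algebraMap B W ((t₁ * t₂) * (t₁ * t₂))) = a * a := by
    rw [AlgHom.commutes, map_mul, ha]
  have k1 : ((algebraMap B W t₂ • V₁) * (algebraMap B W t₁ • W₁)
      - algebraMap B W ((t₁ * t₂) * (t₁ * t₂)) • (1 : Matrix (Fin n) (Fin n) W)).map Ψ = 0 := by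
    rw [map_sub_mat, map_mul_mat, hV, hW, map_smul_mat, map_one_mat, hΨa, Matrix.smul_mul,
      Matrix.mul_smul, hvw, smul_smul, sub_self]
  have k2 : ((algebraMap B W t₁ • W₁) * (algebraMap B W t₂ • V₁)
      - algebraMap B W ((t₁ * t₂) * (t₁ * t₂)) • (1 : Matrix (Fin n) (Fin n) W)).map Ψ = 0 := by
    rw [map_sub_mat, map_mul_mat, hV, hW, map_smul_mat, map_one_mat, hΨa, Matrix.smul_mul,
      Matrix.mul_smul, hwv, smul_smul, sub_self]
  have k3 : (((algebraMap B W t₂ • V₁).map ΛW).transpose * H * (algebraMap B W t₂ • V₁)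
      - algebraMap B W ((t₁ * t₂) * (t₁ * t₂)) • H2).map Ψ = 0 := by
    rw [map_sub_mat, map_mul_mat, map_mul_mat, Matrix.transpose_map, hVΛ, hV, map_smul_mat, hΨa,
      Matrix.transpose_smul, Matrix.smul_mul, Matrix.smul_mul, Matrix.mul_smul, heq, smul_smul,
      sub_self]
  obtain ⟨u₁, hu₁, e1⟩ := mat_ker T Ψ _ k1
  obtain ⟨u₂, hu₂, e2⟩ := mat_ker T Ψ _ k2
  obtain ⟨u₃, hu₃, e3⟩ := mat_ker T Ψ _ k3
  refine ⟨t₁ * t₂, T.mul_mem ht₁ ht₂, u₁ * u₂ * u₃, T.mul_mem (T.mul_mem hu₁ hu₂) hu₃,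
    algebraMap B W t₂ • V₁, algebraMap B W t₁ • W₁, ?_, ?_, ?_⟩
  · rw [smul_sub, sub_eq_zero] at e1
    have e1' := congrArg (fun M => algebraMap B W (u₂ * u₃) • M) e1
    simp only [smul_smul, ← map_mul] at e1'
    convert e1' using 2 <;> ring_nf
  · rw [smul_sub, sub_eq_zero] at e2
    have e2' := congrArg (fun M => algebraMap B W (u₁ * u₃) • M) e2
    simp only [smul_smul, ← map_mul] at e2'
    convert e2' using 2 <;> ring_nf
  · rw [smul_sub, sub_eq_zero] at e3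
    have e3' := congrArg (fun M => algebraMap B W (u₁ * u₂) • M) e3
    simp only [smul_smul, ← map_mul] at e3'
    convert e3' using 2 <;> ring_nf

end descend

end Groth.Agent.Lib.Helper20.SprOut
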