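import Mathlib
import Groth.Agent.Lib.Helper20.SprOut3
import Groth.Agent.Lib.Helper20.SprOut4

set_option autoImplicit false

namespace Groth.Agent.Lib.Helper20.SprOut

universe u

section push

variable {B : Type*} [CommRing B] {W Y : Type*} [CommRing W] [CommRing Y]
  [Algebra B W] [Algebra B Y] (Θ : W →ₐ[B] Y) {n : ℕ}

theorem cancel_unit_smul (c : Y) (hc : IsUnit c) (M N : Matrix (Fin n) (Fin n) Y)
    (h : c • M = c • N) : M = N := by
  have h1 := congrArg (fun X => (↑hc.unit⁻¹ : Y) • X) h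
  simp only [smul_smul, IsUnit.val_inv_mul, one_smul] at h1
  exact h1

theorem push (ΛW : W →+* W) (ΛY : Y →+* Y) (hΛ : ∀ x, Θ (ΛW x) = ΛY (Θ x))
    (hΛB : ∀ b : B, ΛY (algebraMap B Y b) = algebraMap B Y b)
    (t u : B) (ht : IsUnit (algebraMap B Y t)) (hu : IsUnit (algebraMap B Y u))
    (H H2 V Wm : Matrix (Fin n) (Fin n) W)
    (e1 : algebraMap B W u • (V * Wm)
      = algebraMap B W (u * (t * t)) • (1 : Matrix (Fin n) (Fin n) W))
    (e2 : algebraMap B W u • (Wm * V)
      = algebraMap B W (u * (t * t)) • (1 : Matrix (Fin n) (Fin n) W))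
    (e3 : algebraMap B W u • ((V.map ΛW).transpose * H * V)
      = algebraMap B W (u * (t * t)) • H2) :
    ∃ v : Matrix (Fin n) (Fin n) Y, IsUnit v ∧
      (v.map ΛY).transpose * H.map Θ * v = H2.map Θ := by
  obtain ⟨κ, hκ⟩ : ∃ κ : Y, κ = ↑ht.unit⁻¹ := ⟨_, rfl⟩
  have hκt : κ * algebraMap B Y t = 1 := by rw [hκ]; exact IsUnit.val_inv_mul ht
  have hΛκ : ΛY κ = κ := by
    have h1 : ΛY κ * algebraMap B Y t = 1 := by
      rw [← hΛB t, ← map_mul, hκt, map_one]
    calc ΛY κ = ΛY κ * (algebraMap B Y t * κ) := by rw [mul_comm (algebraMap B Y t), hκt, mul_one]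
      _ = (ΛY κ * algebraMap B Y t) * κ := by ring
      _ = κ := by rw [h1, one_mul]
  have hκ4 : κ * κ * (algebraMap B Y t * algebraMap B Y t) = 1 := by
    calc κ * κ * (algebraMap B Y t * algebraMap B Y t)
        = (κ * algebraMap B Y t) * (κ * algebraMap B Y t) := by ring
      _ = 1 := by rw [hκt, one_mul]
  -- images of the three equations
  have f1 : V.map Θ * Wm.map Θ
      = (algebraMap B Y t * algebraMap B Y t) • (1 : Matrix (Fin n) (Fin n) Y) := by
    have h1 := congrArg (fun M => M.map Θ) e1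
    simp only [map_smul_mat, map_mul_mat, map_one_mat, AlgHom.commutes, map_mul] at h1
    rw [← smul_smul] at h1
    exact cancel_unit_smul _ hu _ _ h1
  have f2 : Wm.map Θ * V.map Θ
      = (algebraMap B Y t * algebraMap B Y t) • (1 : Matrix (Fin n) (Fin n) Y) := by
    have h1 := congrArg (fun M => M.map Θ) e2
    simp only [map_smul_mat, map_mul_mat, map_one_mat, AlgHom.commutes, map_mul] at h1
    rw [← smul_smul] at h1
    exact cancel_unit_smul _ hu _ _ h1
  have f3 : ((V.map ΛW).map Θ).transpose * H.map Θ * V.map Θ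
      = (algebraMap B Y t * algebraMap B Y t) • H2.map Θ := by
    have h1 := congrArg (fun M => M.map Θ) e3
    simp only [map_smul_mat, map_mul_mat, AlgHom.commutes, map_mul, Matrix.transpose_map] at h1
    rw [← smul_smul] at h1
    exact cancel_unit_smul _ hu _ _ h1
  have hVΛ : (κ • V.map Θ).map ΛY = κ • (V.map ΛW).map Θ := by
    ext i j
    simp only [Matrix.map_apply, Matrix.smul_apply, smul_eq_mul, map_mul]
    rw [hΛκ, hΛ]
  refine ⟨κ • V.map Θ, ⟨⟨κ • V.map Θ, κ • Wm.map Θ, ?_, ?_⟩, rfl⟩, ?_⟩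
  · rw [Matrix.smul_mul, Matrix.mul_smul, smul_smul, f1, smul_smul, hκ4, one_smul]
  · rw [Matrix.smul_mul, Matrix.mul_smul, smul_smul, f2, smul_smul, hκ4, one_smul]
  · rw [hVΛ, Matrix.transpose_smul, Matrix.smul_mul, Matrix.smul_mul, Matrix.mul_smul, smul_smul,
      f3, smul_smul, hκ4, one_smul]

end push

end Groth.Agent.Lib.Helper20.SprOut
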