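import Mathlib
import Groth.Agent.Lib.Helper20.SprOut3
import Groth.Agent.Lib.Helper20.SprOut4
import Groth.Agent.Lib.Helper20.SprOut5

set_option autoImplicit false

namespace Groth.Agent.Lib.Helper20.SprOut

universe u v

open scoped TensorProduct

section tensor

variable {B : Type*} [CommRing B] {A : Type*} [CommRing A] [Algebra B A] (lam : A ≃ₐ[B] A)
  {E C' : Type*} [CommRing E] [CommRing C'] [Algebra B E] [Algebra B C'] (θ : E →ₐ[B] C')

/-- The involution extended to `D ⊗ A`, as a ring homomorphism. -/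
noncomputable def ΛR (D : Type*) [CommRing D] [Algebra B D] : D ⊗[B] A →+* D ⊗[B] A :=
  ((Algebra.TensorProduct.congr (AlgEquiv.refl : D ≃ₐ[D] D) lam : D ⊗[B] A ≃ₐ[D] D ⊗[B] A) :
    D ⊗[B] A →+* D ⊗[B] A)

theorem ΛR_apply (D : Type*) [CommRing D] [Algebra B D] (x : D ⊗[B] A) :
    ΛR lam D x = (Algebra.TensorProduct.congr (AlgEquiv.refl : D ≃ₐ[D] D) lam) x := rfl

theorem ΛR_tmul (D : Type*) [CommRing D] [Algebra B D] (d : D) (a : A) :
    ΛR lam D (d ⊗ₜ[B] a) = d ⊗ₜ[B] lam a := by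
  rw [ΛR_apply]
  simp

/-- The base change of `θ`. -/
noncomputable def Ψt : E ⊗[B] A →ₐ[B] C' ⊗[B] A :=
  Algebra.TensorProduct.map θ (AlgHom.id B A)

theorem Ψt_tmul (e : E) (a : A) : Ψt (A := A) θ (e ⊗ₜ[B] a) = θ e ⊗ₜ[B] a := by
  simp [Ψt]

theorem Ψt_Λ (x : E ⊗[B] A) : Ψt θ (ΛR lam E x) = ΛR lam C' (Ψt θ x) := by
  induction x using TensorProduct.induction_on with
  | zero => simp
  | tmul e a => rw [ΛR_tmul, Ψt_tmul, Ψt_tmul, ΛR_tmul]
  | add x y hx hy => rw [map_add, map_add, map_add, map_add, hx, hy]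

theorem ΛR_algebraMap (D : Type*) [CommRing D] [Algebra B D] (b : B) :
    ΛR lam D (algebraMap B (D ⊗[B] A) b) = algebraMap B (D ⊗[B] A) b := by
  rw [Algebra.TensorProduct.algebraMap_apply, ΛR_tmul, map_one]

theorem Ψt_includeRight (a : A) :
    Ψt θ ((Algebra.TensorProduct.includeRight : A →ₐ[B] E ⊗[B] A) a)
      = (Algebra.TensorProduct.includeRight : A →ₐ[B] C' ⊗[B] A) a := by
  rw [Algebra.TensorProduct.includeRight_apply, Ψt_tmul, map_one,
    Algebra.TensorProduct.includeRight_apply]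

theorem map_includeRight {n : ℕ} (h : Matrix (Fin n) (Fin n) A) :
    (h.map (Algebra.TensorProduct.includeRight : A →ₐ[B] E ⊗[B] A)).map (Ψt θ)
      = h.map (Algebra.TensorProduct.includeRight : A →ₐ[B] C' ⊗[B] A) := by
  ext i j
  simp only [Matrix.map_apply]
  exact Ψt_includeRight θ _

theorem isLocalizedModule_Ψt (T : Submonoid B) [hθ : IsLocalizedModule T θ.toLinearMap] :
    IsLocalizedModule T (Ψt (A := A) θ).toLinearMap := by
  have h := IsLocalizedModule.rTensor (R := B) (A := B) T (N := A) θ.toLinearMap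
  have e : (Ψt (A := A) θ).toLinearMap
      = TensorProduct.AlgebraTensorModule.rTensor B A θ.toLinearMap := by
    apply TensorProduct.ext'
    intro e a
    simp [Ψt]
  rw [e]
  exact h

end tensor

end Groth.Agent.Lib.Helper20.SprOut
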