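import Mathlib
import Groth.Agent.Lib.Helper20.SprOut1
import Groth.Agent.Lib.Helper20.SprOut2
import Groth.Agent.Lib.Helper20.SprOut3
import Groth.Agent.Lib.Helper20.SprOut4
import Groth.Agent.Lib.Helper20.SprOut5
import Groth.Agent.Lib.Helper20.SprOut6

set_option autoImplicit false

namespace Groth.Agent.Lib.Helper20.SprOut

universe u v

open scoped TensorProduct
open MvPolynomial

variable {l : ℕ}

section span

variable {B : Type*} [CommRing B] (T : Submonoid B)
  {D D' : Type*} [CommRing D] [CommRing D'] [Algebra B D] [Algebra B D'] [Algebra D D']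
  [IsScalarTower B D D']
  (hsurj : ∀ x : D', ∃ t ∈ T, ∃ y : D, algebraMap B D' t * x = algebraMap D D' y)
  (hker : ∀ y : D, algebraMap D D' y = 0 → ∃ t ∈ T, algebraMap B D t * y = 0)
  (s : Fin l → D) (s' : Fin l → D') (hs : ∀ k, algebraMap D D' (s k) = s' k)
  {r : ℕ} (f₀ : Fin r → Qr D s) (g : Fin r → Qr D' s')
  (hfg : ∀ i, ∃ t ∈ T, algebraMap B (Qr D' s') t * g i = Qmap (algebraMap D D') s s' hs (f₀ i))
  (hspan : Ideal.span (Set.range g) = ⊤)

include hsurj hker hfg hspan in
theorem span_descent : ∃ w ∈ T, algebraMap B (Qr D s) w ∈ Ideal.span (Set.range f₀) := by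
  let S : Ideal (Qr D' s') :=
    { carrier := {q | ∃ t ∈ T, ∃ q₀ ∈ Ideal.span (Set.range f₀),
        algebraMap B (Qr D' s') t * q = Qmap (algebraMap D D') s s' hs q₀}
      add_mem' := by
        rintro q q' ⟨t, ht, q₀, hq₀, e⟩ ⟨t', ht', q₀', hq₀', e'⟩
        refine ⟨t * t', T.mul_mem ht ht',
          algebraMap B (Qr D s) t' * q₀ + algebraMap B (Qr D s) t * q₀',
          Ideal.add_mem _ (Ideal.mul_mem_left _ _ hq₀) (Ideal.mul_mem_left _ _ hq₀'), ?_⟩
        have e1 : Qmap (algebraMap D D') s s' hs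
            (algebraMap B (Qr D s) t' * q₀ + algebraMap B (Qr D s) t * q₀')
            = algebraMap B (Qr D' s') t' * (algebraMap B (Qr D' s') t * q)
              + algebraMap B (Qr D' s') t * (algebraMap B (Qr D' s') t' * q') := by
          rw [(Qmap (algebraMap D D') s s' hs).map_add, (Qmap (algebraMap D D') s s' hs).map_mul,
            (Qmap (algebraMap D D') s s' hs).map_mul, Qmap_algebraMap, Qmap_algebraMap, e, e']
        rw [e1, (algebraMap B (Qr D' s')).map_mul]
        ring
      zero_mem' := ⟨1, T.one_mem, 0, Ideal.zero_mem _, by rw [mul_zero, map_zero]⟩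
      smul_mem' := by
        rintro c q ⟨t, ht, q₀, hq₀, e⟩
        obtain ⟨t', ht', c₀, hc₀⟩ := Qmap_surj T hsurj s s' hs c
        refine ⟨t' * t, T.mul_mem ht' ht, c₀ * q₀, Ideal.mul_mem_left _ _ hq₀, ?_⟩
        rw [(Qmap (algebraMap D D') s s' hs).map_mul, ← e, ← hc₀, smul_eq_mul,
          (algebraMap B (Qr D' s')).map_mul]
        ring }
  have hle : Ideal.span (Set.range g) ≤ S := by
    rw [Ideal.span_le]
    rintro _ ⟨i, rfl⟩
    obtain ⟨t, ht, e⟩ := hfg i
    exact ⟨t, ht, f₀ i, Ideal.subset_span ⟨i, rfl⟩, e⟩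
  have h1 : (1 : Qr D' s') ∈ S := hle (by rw [hspan]; trivial)
  obtain ⟨t, ht, q₀, hq₀, e⟩ := h1
  have h2 : Qmap (algebraMap D D') s s' hs (q₀ - algebraMap B (Qr D s) t) = 0 := by
    rw [map_sub, Qmap_algebraMap, ← e, mul_one, sub_self]
  obtain ⟨u, hu, h3⟩ := Qmap_ker T hsurj hker s s' hs _ h2
  refine ⟨u * t, T.mul_mem hu ht, ?_⟩
  rw [mul_sub, sub_eq_zero] at h3
  rw [map_mul, ← h3]
  exact Ideal.mul_mem_left _ _ hq₀

end span

section oneindex

variable {B : Type*} [CommRing B] (T : Submonoid B)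
  {A : Type*} [CommRing A] [Algebra B A] (lam : A ≃ₐ[B] A) {n : ℕ} (h h' : Matrix (Fin n) (Fin n) A)
  {D D' : Type*} [CommRing D] [CommRing D'] [Algebra B D] [Algebra B D'] [Algebra D D']
  [IsScalarTower B D D']
  (hunit : ∀ t ∈ T, IsUnit (algebraMap B D' t))
  (hsurj : ∀ x : D', ∃ t ∈ T, ∃ y : D, algebraMap B D' t * x = algebraMap D D' y)
  (hker : ∀ y : D, algebraMap D D' y = 0 → ∃ t ∈ T, algebraMap B D t * y = 0)
  (s : Fin l → D) (s' : Fin l → D') (hs : ∀ k, algebraMap D D' (s k) = s' k)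
  (f₀ : Qr D s)

include hunit hsurj hker in
theorem descend_one
    (v : Matrix (Fin n) (Fin n)
      (Localization.Away (Qmap (algebraMap D D') s s' hs f₀) ⊗[B] A))
    (hv : IsUnit v)
    (heq : (v.map (Algebra.TensorProduct.congr
        (AlgEquiv.refl : Localization.Away (Qmap (algebraMap D D') s s' hs f₀)
          ≃ₐ[Localization.Away (Qmap (algebraMap D D') s s' hs f₀)]
            Localization.Away (Qmap (algebraMap D D') s s' hs f₀)) lam)).transpose
      * h.map (Algebra.TensorProduct.includeRight :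
          A →ₐ[B] Localization.Away (Qmap (algebraMap D D') s s' hs f₀) ⊗[B] A) * v
      = h'.map (Algebra.TensorProduct.includeRight :
          A →ₐ[B] Localization.Away (Qmap (algebraMap D D') s s' hs f₀) ⊗[B] A)) :
    ∃ t ∈ T, ∃ u ∈ T, ∃ V Wm : Matrix (Fin n) (Fin n) (Localization.Away f₀ ⊗[B] A),
      algebraMap B (Localization.Away f₀ ⊗[B] A) u • (V * Wm)
        = algebraMap B (Localization.Away f₀ ⊗[B] A) (u * (t * t))
          • (1 : Matrix (Fin n) (Fin n) (Localization.Away f₀ ⊗[B] A)) ∧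
      algebraMap B (Localization.Away f₀ ⊗[B] A) u • (Wm * V)
        = algebraMap B (Localization.Away f₀ ⊗[B] A) (u * (t * t))
          • (1 : Matrix (Fin n) (Fin n) (Localization.Away f₀ ⊗[B] A)) ∧
      algebraMap B (Localization.Away f₀ ⊗[B] A) u
          • ((V.map (ΛR lam (Localization.Away f₀))).transpose
            * h.map (Algebra.TensorProduct.includeRight : A →ₐ[B] Localization.Away f₀ ⊗[B] A) * V)
        = algebraMap B (Localization.Away f₀ ⊗[B] A) (u * (t * t))
          • h'.map (Algebra.TensorProduct.includeRight : A →ₐ[B] Localization.Away f₀ ⊗[B] A) := by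
  have hloc : IsLocalizedModule T (θₐ B s s' hs f₀).toLinearMap :=
    isLocalizedModule_θ T hunit hsurj hker s s' hs f₀
  have hΨ : IsLocalizedModule T (Ψt (A := A) (θₐ B s s' hs f₀)).toLinearMap :=
    isLocalizedModule_Ψt (θₐ B s s' hs f₀) T
  obtain ⟨⟨v, w, hvw, hwv⟩, rfl⟩ := hv
  refine descend T (Ψt (A := A) (θₐ B s s' hs f₀)) (ΛR lam (Localization.Away f₀))
    (ΛR lam (Localization.Away (Qmap (algebraMap D D') s s' hs f₀)))
    (Ψt_Λ lam (θₐ B s s' hs f₀)) (ΛR_algebraMap lam _) _ _ v w hvw hwv ?_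
  rw [map_includeRight, map_includeRight]
  exact heq

end oneindex

section pushone

variable {B : Type*} [CommRing B]
  {A : Type*} [CommRing A] [Algebra B A] (lam : A ≃ₐ[B] A) {n : ℕ} (h h' : Matrix (Fin n) (Fin n) A)
  {D D'' : Type*} [CommRing D] [CommRing D''] [Algebra B D] [Algebra B D''] [Algebra D D'']
  [IsScalarTower B D D'']
  (s : Fin l → D) (s'' : Fin l → D'') (hs : ∀ k, algebraMap D D'' (s k) = s'' k)
  (f₀ : Qr D s)
  (C : Type*) [CommRing C] [Algebra B C] [Algebra (Qr D'' s'') C] [IsScalarTower B (Qr D'' s'') C]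
  [IsLocalization.Away (Qmap (algebraMap D D'') s s'' hs f₀) C]

/-- The comparison map from the explicit localization at the lower level to any model at the
upper level. -/
noncomputable def θC : Localization.Away f₀ →ₐ[B] C :=
  AlgHom.mk
    (IsLocalization.Away.lift (S := Localization.Away f₀) f₀
      (g := (algebraMap (Qr D'' s'') C).comp (Qmap (algebraMap D D'') s s'' hs))
      (IsLocalization.Away.algebraMap_isUnit (Qmap (algebraMap D D'') s s'' hs f₀)))
    (by
      intro x
      rw [IsScalarTower.algebraMap_apply B (Qr D s) (Localization.Away f₀)]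
      change IsLocalization.Away.lift (S := Localization.Away f₀) f₀ _
        (algebraMap (Qr D s) (Localization.Away f₀) (algebraMap B (Qr D s) x)) = _
      rw [IsLocalization.Away.lift_eq, RingHom.comp_apply, Qmap_algebraMap,
        ← IsScalarTower.algebraMap_apply])

include hs in
theorem push_one (t u : B) (ht : IsUnit (algebraMap B C t)) (hu : IsUnit (algebraMap B C u))
    (V Wm : Matrix (Fin n) (Fin n) (Localization.Away f₀ ⊗[B] A))
    (e1 : algebraMap B (Localization.Away f₀ ⊗[B] A) u • (V * Wm)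
        = algebraMap B (Localization.Away f₀ ⊗[B] A) (u * (t * t))
          • (1 : Matrix (Fin n) (Fin n) (Localization.Away f₀ ⊗[B] A)))
    (e2 : algebraMap B (Localization.Away f₀ ⊗[B] A) u • (Wm * V)
        = algebraMap B (Localization.Away f₀ ⊗[B] A) (u * (t * t))
          • (1 : Matrix (Fin n) (Fin n) (Localization.Away f₀ ⊗[B] A)))
    (e3 : algebraMap B (Localization.Away f₀ ⊗[B] A) u
          • ((V.map (ΛR lam (Localization.Away f₀))).transpose
            * h.map (Algebra.TensorProduct.includeRight : A →ₐ[B] Localization.Away f₀ ⊗[B] A) * V)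
        = algebraMap B (Localization.Away f₀ ⊗[B] A) (u * (t * t))
          • h'.map (Algebra.TensorProduct.includeRight : A →ₐ[B] Localization.Away f₀ ⊗[B] A)) :
    ∃ v : Matrix (Fin n) (Fin n) (C ⊗[B] A), IsUnit v ∧
      (v.map (Algebra.TensorProduct.congr (AlgEquiv.refl : C ≃ₐ[C] C) lam)).transpose
        * h.map (Algebra.TensorProduct.includeRight : A →ₐ[B] C ⊗[B] A) * v
        = h'.map (Algebra.TensorProduct.includeRight : A →ₐ[B] C ⊗[B] A) := by
  have ht' : IsUnit (algebraMap B (C ⊗[B] A) t) := by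
    rw [Algebra.TensorProduct.algebraMap_apply]
    exact ht.map (Algebra.TensorProduct.includeLeft : C →ₐ[B] C ⊗[B] A)
  have hu' : IsUnit (algebraMap B (C ⊗[B] A) u) := by
    rw [Algebra.TensorProduct.algebraMap_apply]
    exact hu.map (Algebra.TensorProduct.includeLeft : C →ₐ[B] C ⊗[B] A)
  obtain ⟨v, hv, hveq⟩ := push (Ψt (A := A) (θC s s'' hs f₀ C)) (ΛR lam (Localization.Away f₀))
    (ΛR lam C) (Ψt_Λ lam (θC s s'' hs f₀ C)) (ΛR_algebraMap lam C) t u ht' hu' _ _ V Wm e1 e2 e3
  rw [map_includeRight, map_includeRight] at hveq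
  exact ⟨v, hv, hveq⟩

end pushone

end Groth.Agent.Lib.Helper20.SprOut
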