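import Mathlib
import Groth.Agent.Lib.Helper20.SprOut1
import Groth.Agent.Lib.Helper20.SprOut2
import Groth.Agent.Lib.Helper20.SprOut7

set_option autoImplicit false

namespace Groth.Agent.Lib.Helper20.SprOut

universe u v

open scoped TensorProduct
open MvPolynomial

section locfacts

variable {B : Type*} [CommRing B] (M N : Submonoid B) (hMN : M ≤ N)
  {S S' : Type*} [CommRing S] [CommRing S'] [Algebra B S] [Algebra B S'] [Algebra S S']
  [IsScalarTower B S S'] [IsLocalization M S] [IsLocalization N S']

include N in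
theorem loc_surj (x : S') : ∃ t ∈ N, ∃ y : S, algebraMap B S' t * x = algebraMap S S' y := by
  obtain ⟨a, t, rfl⟩ := IsLocalization.exists_mk'_eq N x
  refine ⟨t.1, t.2, algebraMap B S a, ?_⟩
  rw [← IsScalarTower.algebraMap_apply, mul_comm, IsLocalization.mk'_spec]

include M N in
theorem loc_ker (y : S) (hy : algebraMap S S' y = 0) : ∃ t ∈ N, algebraMap B S t * y = 0 := by
  obtain ⟨a, m, rfl⟩ := IsLocalization.exists_mk'_eq M y
  have h1 : algebraMap B S' a = 0 := by
    have h2 : algebraMap S S' (IsLocalization.mk' S a m * algebraMap B S m) = 0 := by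
      rw [map_mul, hy, zero_mul]
    rwa [IsLocalization.mk'_spec, ← IsScalarTower.algebraMap_apply] at h2
  rw [IsLocalization.map_eq_zero_iff N] at h1
  obtain ⟨t, ht⟩ := h1
  refine ⟨t.1, t.2, ?_⟩
  rw [← IsLocalization.mk'_one (M := M) S, ← IsLocalization.mk'_mul, ht, one_mul,
    IsLocalization.mk'_zero]

end locfacts

section units

variable {B : Type*} [CommRing B] (p : Ideal B) [p.IsPrime]

theorem units_descent (s : (Localization.AtPrime p)ˣ) :
    ∃ a t : B, a ∈ p.primeCompl ∧ t ∈ p.primeCompl ∧
      (s : Localization.AtPrime p) * algebraMap B (Localization.AtPrime p) t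
        = algebraMap B (Localization.AtPrime p) a := by
  obtain ⟨a, t, hat⟩ := IsLocalization.exists_mk'_eq p.primeCompl (s : Localization.AtPrime p)
  have h1 : (s : Localization.AtPrime p) * algebraMap B (Localization.AtPrime p) t
      = algebraMap B (Localization.AtPrime p) a := by
    rw [← hat, IsLocalization.mk'_spec]
  refine ⟨a, t.1, ?_, t.2, h1⟩
  have h2 : IsUnit (algebraMap B (Localization.AtPrime p) a) := by
    rw [← h1]
    exact s.isUnit.mul (IsLocalization.map_units _ t)
  exact (IsLocalization.AtPrime.isUnit_to_map_iff (Localization.AtPrime p) p a).mp h2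

theorem unit_lift (b₀ a t : B) (ha : a ∣ b₀) (ht : t ∣ b₀) :
    ∃ s₀ : (Localization.Away b₀)ˣ,
      (s₀ : Localization.Away b₀) * algebraMap B (Localization.Away b₀) t
        = algebraMap B (Localization.Away b₀) a := by
  have hau : IsUnit (algebraMap B (Localization.Away b₀) a) :=
    IsLocalization.Away.isUnit_of_dvd (x := b₀) ha
  have htu : IsUnit (algebraMap B (Localization.Away b₀) t) :=
    IsLocalization.Away.isUnit_of_dvd (x := b₀) ht
  refine ⟨hau.unit * htu.unit⁻¹, ?_⟩
  rw [Units.val_mul, mul_assoc, IsUnit.val_inv_mul, mul_one]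
  rfl

end units

end Groth.Agent.Lib.Helper20.SprOut
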