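import Mathlib
import Groth.Agent.Lib.Helper20.SprOut1
import Groth.Agent.Lib.Helper20.SprOut2
import Groth.Agent.Lib.Helper20.SprOut7
import Groth.Agent.Lib.Helper20.SprOut8

set_option autoImplicit false

namespace Groth.Agent.Lib.Helper20.SprOut

universe u v

open scoped TensorProduct
open MvPolynomial

theorem main (B : Type u) (A : Type v) [CommRing B] [CommRing A]
    [Algebra B A] (lam : A ≃ₐ[B] A)
    (n : ℕ) (h h' : Matrix (Fin n) (Fin n) A)
    (p : Ideal B) [p.IsPrime]
    (hdata : (∃ (l : ℕ) (s : Fin l → (Localization.AtPrime p)ˣ) (r : ℕ) (f : Fin r → (MvPolynomial (Fin l) (Localization.AtPrime p) ⧸ Ideal.span (Set.range fun k : Fin l => MvPolynomial.X k ^ 2 - MvPolynomial.C (s k : Localization.AtPrime p)))),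
        Ideal.span (Set.range f) = ⊤ ∧
        ∀ (i : Fin r) (C : Type u) [CommRing C] [Algebra B C]
          [Algebra (MvPolynomial (Fin l) (Localization.AtPrime p) ⧸ Ideal.span (Set.range fun k : Fin l => MvPolynomial.X k ^ 2 - MvPolynomial.C (s k : Localization.AtPrime p))) C]
          [IsScalarTower B (MvPolynomial (Fin l) (Localization.AtPrime p) ⧸ Ideal.span (Set.range fun k : Fin l => MvPolynomial.X k ^ 2 - MvPolynomial.C (s k : Localization.AtPrime p))) C]
          [IsLocalization.Away (f i) C],
          ∃ v : Matrix (Fin n) (Fin n) (C ⊗[B] A), IsUnit v ∧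
            (v.map (Algebra.TensorProduct.congr (AlgEquiv.refl : C ≃ₐ[C] C) lam)).transpose * h.map (Algebra.TensorProduct.includeRight : A →ₐ[B] C ⊗[B] A) * v = h'.map (Algebra.TensorProduct.includeRight : A →ₐ[B] C ⊗[B] A))) :
    ∃ b : B, b ∉ p ∧
      (∃ (l : ℕ) (s : Fin l → (Localization.Away b)ˣ) (r : ℕ) (f : Fin r → (MvPolynomial (Fin l) (Localization.Away b) ⧸ Ideal.span (Set.range fun k : Fin l => MvPolynomial.X k ^ 2 - MvPolynomial.C (s k : Localization.Away b)))),
        Ideal.span (Set.range f) = ⊤ ∧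
        ∀ (i : Fin r) (C : Type u) [CommRing C] [Algebra B C]
          [Algebra (MvPolynomial (Fin l) (Localization.Away b) ⧸ Ideal.span (Set.range fun k : Fin l => MvPolynomial.X k ^ 2 - MvPolynomial.C (s k : Localization.Away b))) C]
          [IsScalarTower B (MvPolynomial (Fin l) (Localization.Away b) ⧸ Ideal.span (Set.range fun k : Fin l => MvPolynomial.X k ^ 2 - MvPolynomial.C (s k : Localization.Away b))) C]
          [IsLocalization.Away (f i) C],
          ∃ v : Matrix (Fin n) (Fin n) (C ⊗[B] A), IsUnit v ∧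
            (v.map (Algebra.TensorProduct.congr (AlgEquiv.refl : C ≃ₐ[C] C) lam)).transpose * h.map (Algebra.TensorProduct.includeRight : A →ₐ[B] C ⊗[B] A) * v = h'.map (Algebra.TensorProduct.includeRight : A →ₐ[B] C ⊗[B] A)) := by
  classical
  obtain ⟨l, s, r, f, hspan, hC⟩ := hdata
  -- units
  have hu0 := fun k => units_descent p (s k)
  choose a t ha ht hat using hu0
  obtain ⟨b₀, hb₀⟩ : ∃ b₀, b₀ = ∏ k, (a k * t k) := ⟨_, rfl⟩
  have hb₀T : b₀ ∈ p.primeCompl :=
    hb₀ ▸ Submonoid.prod_mem _ fun k _ => Submonoid.mul_mem _ (ha k) (ht k)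
  have hadvd : ∀ k, a k ∣ b₀ := fun k =>
    hb₀ ▸ (Dvd.intro (t k) rfl).trans (Finset.dvd_prod_of_mem _ (Finset.mem_univ k))
  have htdvd : ∀ k, t k ∣ b₀ := fun k =>
    hb₀ ▸ (Dvd.intro_left (a k) rfl).trans (Finset.dvd_prod_of_mem _ (Finset.mem_univ k))
  -- the algebra structure B_{b₀} → B_p
  have hb₀u : IsUnit (algebraMap B (Localization.AtPrime p) b₀) :=
    IsLocalization.map_units _ (⟨b₀, hb₀T⟩ : p.primeCompl)
  letI alg0 : Algebra (Localization.Away b₀) (Localization.AtPrime p) :=
    (IsLocalization.Away.lift (S := Localization.Away b₀) b₀ hb₀u).toAlgebra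
  have tower0 : IsScalarTower B (Localization.Away b₀) (Localization.AtPrime p) :=
    IsScalarTower.of_algebraMap_eq (fun x => (IsLocalization.Away.lift_eq b₀ hb₀u x).symm)
  have hunit : ∀ t ∈ p.primeCompl, IsUnit (algebraMap B (Localization.AtPrime p) t) :=
    fun t ht => IsLocalization.map_units _ (⟨t, ht⟩ : p.primeCompl)
  have hsurj : ∀ x : Localization.AtPrime p, ∃ t ∈ p.primeCompl, ∃ y : Localization.Away b₀,
      algebraMap B (Localization.AtPrime p) t * x
        = algebraMap (Localization.Away b₀) (Localization.AtPrime p) y :=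
    loc_surj (S := Localization.Away b₀) (S' := Localization.AtPrime p) p.primeCompl
  have hker : ∀ y : Localization.Away b₀,
      algebraMap (Localization.Away b₀) (Localization.AtPrime p) y = 0 →
      ∃ t ∈ p.primeCompl, algebraMap B (Localization.Away b₀) t * y = 0 :=
    loc_ker (Submonoid.powers b₀) p.primeCompl (S := Localization.Away b₀)
      (S' := Localization.AtPrime p)
  -- the units at level b₀
  have hs0 := fun k => unit_lift b₀ (a k) (t k) (hadvd k) (htdvd k)
  choose s₀ hs₀ using hs0
  have hs : ∀ k, algebraMap (Localization.Away b₀) (Localization.AtPrime p)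
      (s₀ k : Localization.Away b₀) = (s k : Localization.AtPrime p) := by
    intro k
    have h1 := congrArg (algebraMap (Localization.Away b₀) (Localization.AtPrime p)) (hs₀ k)
    rw [map_mul, ← IsScalarTower.algebraMap_apply, ← IsScalarTower.algebraMap_apply, ← hat k] at h1
    exact (hunit (t k) (ht k)).mul_right_cancel h1
  -- the functions at level b₀
  have hf0 := fun i => Qmap_surj p.primeCompl hsurj (fun k => (s₀ k : Localization.Away b₀))
    (fun k => (s k : Localization.AtPrime p)) hs (f i)
  choose τ hτ f₀ hf₀ using hf0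
  obtain ⟨w, hw, hwspan⟩ := span_descent p.primeCompl hsurj hker _ _ hs f₀ f
    (fun i => ⟨τ i, hτ i, hf₀ i⟩) hspan
  -- the matrices
  have h7 : ∀ i, ∃ t' ∈ p.primeCompl, ∃ u ∈ p.primeCompl,
      ∃ V Wm : Matrix (Fin n) (Fin n) (Localization.Away (f₀ i) ⊗[B] A),
      algebraMap B (Localization.Away (f₀ i) ⊗[B] A) u • (V * Wm)
        = algebraMap B (Localization.Away (f₀ i) ⊗[B] A) (u * (t' * t'))
          • (1 : Matrix (Fin n) (Fin n) (Localization.Away (f₀ i) ⊗[B] A)) ∧
      algebraMap B (Localization.Away (f₀ i) ⊗[B] A) u • (Wm * V)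
        = algebraMap B (Localization.Away (f₀ i) ⊗[B] A) (u * (t' * t'))
          • (1 : Matrix (Fin n) (Fin n) (Localization.Away (f₀ i) ⊗[B] A)) ∧
      algebraMap B (Localization.Away (f₀ i) ⊗[B] A) u
          • ((V.map (ΛR lam (Localization.Away (f₀ i)))).transpose
            * h.map (Algebra.TensorProduct.includeRight :
                A →ₐ[B] Localization.Away (f₀ i) ⊗[B] A) * V)
        = algebraMap B (Localization.Away (f₀ i) ⊗[B] A) (u * (t' * t'))
          • h'.map (Algebra.TensorProduct.includeRight :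
              A →ₐ[B] Localization.Away (f₀ i) ⊗[B] A) := by
    intro i
    have hτu : IsUnit (algebraMap B (Qr (Localization.AtPrime p)
        (fun k => (s k : Localization.AtPrime p))) (τ i)) := by
      rw [IsScalarTower.algebraMap_apply B (Localization.AtPrime p) (Qr (Localization.AtPrime p) _)]
      exact (hunit (τ i) (hτ i)).map _
    have hassoc : Associated (Qmap (algebraMap (Localization.Away b₀) (Localization.AtPrime p))
        (fun k => (s₀ k : Localization.Away b₀)) (fun k => (s k : Localization.AtPrime p)) hs (f₀ i))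
        (f i) := by
      refine Associated.symm ⟨hτu.unit, ?_⟩
      rw [mul_comm]
      exact hf₀ i
    haveI : IsLocalization.Away (f i) (Localization.Away
        (Qmap (algebraMap (Localization.Away b₀) (Localization.AtPrime p))
        (fun k => (s₀ k : Localization.Away b₀)) (fun k => (s k : Localization.AtPrime p)) hs
        (f₀ i))) := IsLocalization.Away.of_associated hassoc
    obtain ⟨v, hv, hveq⟩ := hC i (Localization.Away
        (Qmap (algebraMap (Localization.Away b₀) (Localization.AtPrime p))
        (fun k => (s₀ k : Localization.Away b₀)) (fun k => (s k : Localization.AtPrime p)) hs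
        (f₀ i)))
    exact descend_one p.primeCompl lam h h' hunit hsurj hker _ _ hs (f₀ i) v hv hveq
  choose t' ht' u hu V Wm e1 e2 e3 using h7
  -- the final level
  obtain ⟨c, hc⟩ : ∃ c, c = w * ∏ i, (t' i * u i) := ⟨_, rfl⟩
  have hcT : c ∈ p.primeCompl :=
    hc ▸ Submonoid.mul_mem _ hw (Submonoid.prod_mem _ fun i _ => Submonoid.mul_mem _ (ht' i) (hu i))
  have hwdvd : w ∣ b₀ * c := ⟨b₀ * ∏ i, (t' i * u i), by rw [hc]; ring⟩
  have hproddvd : (∏ i, (t' i * u i)) ∣ b₀ * c := ⟨b₀ * w, by rw [hc]; ring⟩
  have ht'dvd : ∀ i, t' i ∣ b₀ * c := fun i =>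
    ((Dvd.intro (u i) rfl).trans
      (Finset.dvd_prod_of_mem (fun i => t' i * u i) (Finset.mem_univ i))).trans hproddvd
  have hudvd : ∀ i, u i ∣ b₀ * c := fun i =>
    ((Dvd.intro_left (t' i) rfl).trans
      (Finset.dvd_prod_of_mem (fun i => t' i * u i) (Finset.mem_univ i))).trans hproddvd
  refine ⟨b₀ * c, fun hmem => (Submonoid.mul_mem _ hb₀T hcT) hmem, ?_⟩
  have hb'u : IsUnit (algebraMap B (Localization.Away (b₀ * c)) b₀) :=
    IsLocalization.Away.isUnit_of_dvd (x := b₀ * c) (Dvd.intro _ rfl)
  letI alg1 : Algebra (Localization.Away b₀) (Localization.Away (b₀ * c)) :=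
    (IsLocalization.Away.lift (S := Localization.Away b₀) b₀ hb'u).toAlgebra
  have tower1 : IsScalarTower B (Localization.Away b₀) (Localization.Away (b₀ * c)) :=
    IsScalarTower.of_algebraMap_eq (fun x => (IsLocalization.Away.lift_eq b₀ hb'u x).symm)
  let s'' : Fin l → (Localization.Away (b₀ * c))ˣ := fun k =>
    Units.map (algebraMap (Localization.Away b₀) (Localization.Away (b₀ * c))).toMonoidHom (s₀ k)
  have hs'' : ∀ k, algebraMap (Localization.Away b₀) (Localization.Away (b₀ * c))
      (s₀ k : Localization.Away b₀) = (s'' k : Localization.Away (b₀ * c)) := fun k => rfl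
  have hdvdunit : ∀ (x : B), x ∣ b₀ * c → ∀ (C : Type u) [CommRing C] [Algebra B C]
      [Algebra (Qr (Localization.Away (b₀ * c)) (fun k => (s'' k : Localization.Away (b₀ * c)))) C]
      [IsScalarTower B (Qr (Localization.Away (b₀ * c))
        (fun k => (s'' k : Localization.Away (b₀ * c)))) C], IsUnit (algebraMap B C x) := by
    intro x hx C _ _ _ _
    rw [IsScalarTower.algebraMap_apply B (Qr (Localization.Away (b₀ * c))
        (fun k => (s'' k : Localization.Away (b₀ * c)))) C,
      IsScalarTower.algebraMap_apply B (Localization.Away (b₀ * c))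
        (Qr (Localization.Away (b₀ * c)) (fun k => (s'' k : Localization.Away (b₀ * c))))]
    exact ((IsLocalization.Away.isUnit_of_dvd (x := b₀ * c) hx).map _).map _
  refine ⟨l, s'', r, fun i => Qmap (algebraMap (Localization.Away b₀) (Localization.Away (b₀ * c)))
    (fun k => (s₀ k : Localization.Away b₀)) (fun k => (s'' k : Localization.Away (b₀ * c))) hs''
    (f₀ i), ?_, ?_⟩
  · have h1 : algebraMap B (Qr (Localization.Away (b₀ * c))
        (fun k => (s'' k : Localization.Away (b₀ * c)))) w
        ∈ Ideal.span (Set.range fun i =>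
          Qmap (algebraMap (Localization.Away b₀) (Localization.Away (b₀ * c)))
            (fun k => (s₀ k : Localization.Away b₀))
            (fun k => (s'' k : Localization.Away (b₀ * c))) hs'' (f₀ i)) := by
      have h2 := Ideal.mem_map_of_mem
        (Qmap (algebraMap (Localization.Away b₀) (Localization.Away (b₀ * c)))
          (fun k => (s₀ k : Localization.Away b₀))
          (fun k => (s'' k : Localization.Away (b₀ * c))) hs'') hwspan
      rw [Ideal.map_span, Qmap_algebraMap, ← Set.range_comp] at h2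
      exact h2
    refine Ideal.eq_top_of_isUnit_mem _ h1 ?_
    rw [IsScalarTower.algebraMap_apply B (Localization.Away (b₀ * c))
        (Qr (Localization.Away (b₀ * c)) (fun k => (s'' k : Localization.Away (b₀ * c))))]
    exact (IsLocalization.Away.isUnit_of_dvd (x := b₀ * c) hwdvd).map _
  · intro i C _ _ _ _ _
    exact push_one lam h h' _ _ hs'' (f₀ i) C (t' i) (u i) (hdvdunit _ (ht'dvd i) C)
      (hdvdunit _ (hudvd i) C) (V i) (Wm i) (e1 i) (e2 i) (e3 i)

end Groth.Agent.Lib.Helper20.SprOut
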