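import Mathlib.CategoryTheory.Abelian.Refinements
import Mathlib.CategoryTheory.Subobject.Lattice
import Mathlib.CategoryTheory.Subobject.Limits
import Mathlib.CategoryTheory.Simple
import Mathlib.CategoryTheory.Abelian.Basic
import Mathlib.Order.ModularLattice
import Mathlib.Order.JordanHolder
import Mathlib.Algebra.Homology.ShortComplex.ShortExact

/-! Subobject lattices in abelian categories: modularity, second isomorphism theorem,
covering relation versus simple quotients. -/

set_option autoImplicit false
universe v u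

namespace Groth.Agent.Lib.Helper20

open CategoryTheory CategoryTheory.Limits

variable {A : Type u} [Category.{v} A] [Abelian A] {X : A}

/-- Factoring through a subobject descends along epimorphisms. -/
lemma factors_of_epi_comp (P : Subobject X) {T T' : A} (π : T' ⟶ T) [Epi π] (a : T ⟶ X)
    (h : P.Factors (π ≫ a)) : P.Factors a := by
  have : StrongEpi π := strongEpi_of_epi π
  have sq : CommSq (P.factorThru (π ≫ a) h) π P.arrow a := ⟨by simp⟩
  exact (Subobject.factors_iff _ _).2 ⟨sq.lift, sq.fac_right⟩

/-- Characterisation of maps factoring through a supremum, up to refinements. -/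
lemma sup_factors_iff (x y : Subobject X) {T : A} (a : T ⟶ X) :
    (x ⊔ y).Factors a ↔ ∃ (T' : A) (π : T' ⟶ T) (_ : Epi π) (a₁ a₂ : T' ⟶ X),
      x.Factors a₁ ∧ y.Factors a₂ ∧ π ≫ a = a₁ + a₂ := by
  constructor
  · intro h
    let d : (x : A) ⊞ (y : A) ⟶ X := biprod.desc x.arrow y.arrow
    let s : Subobject X := Subobject.mk (image.ι d)
    have hx : x ≤ s := Subobject.le_mk_of_comm (biprod.inl ≫ factorThruImage d) (by simp [d])
    have hy : y ≤ s := Subobject.le_mk_of_comm (biprod.inr ≫ factorThruImage d) (by simp [d])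
    have hs : s.Factors a := Subobject.factors_of_le a (sup_le hx hy) h
    obtain ⟨c, hc⟩ : ∃ c : T ⟶ image d, c ≫ image.ι d = a :=
      ⟨s.factorThru a hs ≫ (Subobject.underlyingIso (image.ι d)).hom, by simp [s]⟩
    refine ⟨pullback c (factorThruImage d), pullback.fst _ _, inferInstance,
      (pullback.snd _ _ ≫ biprod.fst) ≫ x.arrow, (pullback.snd _ _ ≫ biprod.snd) ≫ y.arrow,
      Subobject.factors_comp_arrow _, Subobject.factors_comp_arrow _, ?_⟩
    rw [← hc, pullback.condition_assoc, image.fac]
    simp only [d, Category.assoc]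
    rw [← Preadditive.comp_add, ← biprod.desc_eq]
  · rintro ⟨T', π, hπ, a₁, a₂, h₁, h₂, e⟩
    apply factors_of_epi_comp _ π
    rw [e]
    exact Subobject.factors_add _ _ (Subobject.sup_factors_of_factors_left h₁)
      (Subobject.sup_factors_of_factors_right h₂)

instance : IsModularLattice (Subobject X) where
  sup_inf_le_assoc_of_le {x} y {z} hxz := by
    apply Subobject.le_of_factors
    have h := Subobject.factors_self ((x ⊔ y) ⊓ z)
    rw [Subobject.inf_factors] at h
    obtain ⟨T', π, hπ, a₁, a₂, h₁, h₂, e⟩ := (sup_factors_iff x y _).1 h.1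
    apply factors_of_epi_comp _ π
    have hz : z.Factors (a₁ + a₂) := by
      rw [← e]; exact Subobject.factors_of_factors_right _ h.2
    have hz₂ : z.Factors a₂ :=
      Subobject.factors_right_of_factors_add _ _ hz (Subobject.factors_of_le _ hxz h₁)
    rw [e]
    exact Subobject.factors_add _ _ (Subobject.sup_factors_of_factors_left h₁)
      (Subobject.sup_factors_of_factors_right ((Subobject.inf_factors _).2 ⟨h₂, hz₂⟩))

/-- The kernel of the cokernel of `ofLE a b` is `ofLE a b`: lifting property. -/
lemma exists_lift_of_comp_cokernel_π_eq_zero {a b : Subobject X} (h : a ≤ b) {T : A}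
    (t : T ⟶ (b : A)) (ht : t ≫ cokernel.π (Subobject.ofLE a b h) = 0) :
    ∃ l : T ⟶ (a : A), l ≫ Subobject.ofLE a b h = t := by
  have hk := Abelian.monoIsKernelOfCokernel _ (cokernelIsCokernel (Subobject.ofLE a b h))
  exact ⟨KernelFork.IsLimit.lift' hk t ht |>.1, KernelFork.IsLimit.lift' hk t ht |>.2⟩

/-- The second isomorphism theorem for subobjects in an abelian category. -/
lemma nonempty_cokernel_sup_iso (x y : Subobject X) :
    Nonempty (cokernel (Subobject.ofLE x (x ⊔ y) le_sup_left) ≅
      cokernel (Subobject.ofLE (x ⊓ y) y inf_le_right)) := by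
  let k := Subobject.ofLE (x ⊓ y) y inf_le_right
  let g : (y : A) ⟶ cokernel (Subobject.ofLE x (x ⊔ y) le_sup_left) :=
    Subobject.ofLE y (x ⊔ y) le_sup_right ≫ cokernel.π _
  have zero : k ≫ g = 0 := by
    have : k ≫ Subobject.ofLE y (x ⊔ y) le_sup_right =
        Subobject.ofLE (x ⊓ y) x inf_le_left ≫ Subobject.ofLE x (x ⊔ y) le_sup_left := by
      simp [k]
    simp only [g]
    rw [reassoc_of% this, cokernel.condition, comp_zero]
  let S : ShortComplex A := ShortComplex.mk k g zero
  have hex : S.Exact := by
    rw [ShortComplex.exact_iff_exact_up_to_refinements]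
    intro T t ht
    obtain ⟨l, hl⟩ := exists_lift_of_comp_cokernel_π_eq_zero le_sup_left
      (t ≫ Subobject.ofLE y (x ⊔ y) le_sup_right) (by simpa [S, g] using ht)
    have e : l ≫ x.arrow = t ≫ y.arrow := by
      have := congrArg (fun m => m ≫ (x ⊔ y).arrow) hl
      simpa using this
    have hf : (x ⊓ y).Factors (t ≫ y.arrow) := by
      rw [Subobject.inf_factors]
      exact ⟨e ▸ Subobject.factors_comp_arrow l, Subobject.factors_comp_arrow t⟩
    refine ⟨T, 𝟙 T, inferInstance, (x ⊓ y).factorThru _ hf, ?_⟩
    rw [Category.id_comp, ← cancel_mono y.arrow]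
    simp [S, k]
  have hepi : Epi g := by
    rw [epi_iff_surjective_up_to_refinements]
    intro T t
    obtain ⟨T₁, π₁, hπ₁, t₁, ht₁⟩ := surjective_up_to_refinements_of_epi
      (cokernel.π (Subobject.ofLE x (x ⊔ y) le_sup_left)) t
    obtain ⟨T₂, π₂, hπ₂, a₁, a₂, h₁, h₂, e⟩ :=
      (sup_factors_iff x y (t₁ ≫ (x ⊔ y).arrow)).1 (Subobject.factors_comp_arrow t₁)
    refine ⟨T₂, π₂ ≫ π₁, inferInstance, y.factorThru a₂ h₂, ?_⟩
    have e' : π₂ ≫ t₁ = x.factorThru a₁ h₁ ≫ Subobject.ofLE x (x ⊔ y) le_sup_left +
        y.factorThru a₂ h₂ ≫ Subobject.ofLE y (x ⊔ y) le_sup_right := by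
      rw [← cancel_mono (x ⊔ y).arrow]
      simp [Preadditive.add_comp, e]
    rw [Category.assoc, ht₁, ← Category.assoc, e', Preadditive.add_comp, Category.assoc,
      cokernel.condition, comp_zero, zero_add, Category.assoc]
  have hmono : Mono S.f := by dsimp [S, k]; infer_instance
  have hS : S.ShortExact := { exact := hex, mono_f := hmono, epi_g := hepi }
  exact ⟨(IsColimit.coconePointUniqueUpToIso (cokernelIsCokernel k) hS.gIsCokernel).symm⟩

/-- If the quotient `b / a` is simple, then `a ⋖ b`. -/
lemma covBy_of_simple_cokernel {a b : Subobject X} (h : a ≤ b)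
    [Simple (cokernel (Subobject.ofLE a b h))] : a ⋖ b := by
  have hne : a ≠ b := by
    rintro rfl
    have : IsIso (Subobject.ofLE a a h) := by
      rw [show Subobject.ofLE a a h = 𝟙 _ by simp]
      infer_instance
    exact Simple.not_isZero (cokernel (Subobject.ofLE a a h)) (isZero_cokernel_of_epi _)
  refine ⟨lt_of_le_of_ne h hne, ?_⟩
  intro c hac hcb
  let j := Subobject.ofLE c b hcb.le
  by_cases hf : j ≫ cokernel.π (Subobject.ofLE a b h) = 0
  · obtain ⟨l, hl⟩ := exists_lift_of_comp_cokernel_π_eq_zero h j hf
    have : c ≤ a := Subobject.le_of_comm l (by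
      have := congrArg (fun m => m ≫ b.arrow) hl
      simpa [j] using this)
    exact (not_le_of_gt hac) this
  · have : Epi (j ≫ cokernel.π (Subobject.ofLE a b h)) := epi_of_nonzero_to_simple hf
    have hj : Epi j := by
      rw [epi_iff_surjective_up_to_refinements]
      intro T t
      obtain ⟨T', π', hπ', u, hu⟩ := surjective_up_to_refinements_of_epi
        (j ≫ cokernel.π (Subobject.ofLE a b h)) (t ≫ cokernel.π (Subobject.ofLE a b h))
      obtain ⟨l, hl⟩ := exists_lift_of_comp_cokernel_π_eq_zero h (π' ≫ t - u ≫ j) (by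
        rw [Preadditive.sub_comp, Category.assoc, Category.assoc, hu, sub_self])
      refine ⟨T', π', hπ', u + l ≫ Subobject.ofLE a c hac.le, ?_⟩
      rw [Preadditive.add_comp, Category.assoc]
      have : Subobject.ofLE a c hac.le ≫ j = Subobject.ofLE a b h := by simp [j]
      rw [this, hl]
      abel
    have : IsIso j := isIso_of_mono_of_epi j
    have : b ≤ c := Subobject.le_of_comm (inv j) (by simp [j])
    exact (not_le_of_gt hcb) this

/-- If `a ⋖ b`, then the quotient `b / a` is simple. -/
lemma simple_cokernel_of_covBy {a b : Subobject X} (h : a ⋖ b) :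
    Simple (cokernel (Subobject.ofLE a b h.le)) := by
  let i := Subobject.ofLE a b h.le
  let π := cokernel.π i
  have hnz : ¬ IsZero (cokernel i) := by
    intro hz
    have : Epi i := Abelian.epi_of_cokernel_π_eq_zero i (hz.eq_of_tgt _ _)
    have : IsIso i := isIso_of_mono_of_epi i
    have : b ≤ a := Subobject.le_of_comm (inv i) (by simp [i])
    exact (not_le_of_gt h.lt) this
  refine ⟨fun {Y} m _ => ⟨fun hiso hm => ?_, fun hm => ?_⟩⟩
  · apply hnz
    rw [IsZero.iff_id_eq_zero, ← cancel_epi m]
    subst hm
    simp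
  · let c : Subobject X := Subobject.mk (pullback.fst π m ≫ b.arrow)
    have hcb : c ≤ b := Subobject.mk_le_of_comm (pullback.fst π m) rfl
    have hac : a ≤ c := Subobject.le_mk_of_comm
      (pullback.lift i 0 (by simp [π])) (by rw [pullback.lift_fst_assoc, Subobject.ofLE_arrow])
    rcases h.eq_or_eq hac hcb with hc | hc
    · exfalso
      have hca : c ≤ a := hc.le
      have hfa : a.Factors (pullback.fst π m ≫ b.arrow) := by
        have := Subobject.factors_of_le (pullback.fst π m ≫ b.arrow) hca
          (Subobject.mk_factors_self _)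
        exact this
      have e1 : pullback.fst π m = a.factorThru _ hfa ≫ i := by
        rw [← cancel_mono b.arrow]
        simp [i]
      have e2 : pullback.snd π m ≫ m = 0 := by
        rw [← pullback.condition, e1, Category.assoc]
        simp [π]
      apply hm
      rw [← cancel_epi (pullback.snd π m), e2, comp_zero]
    · have hbc : b ≤ c := hc.ge
      have hfb : c.Factors b.arrow := Subobject.factors_of_le _ hbc (Subobject.factors_self b)
      have hfb' : ∃ l : (b : A) ⟶ pullback π m, l ≫ pullback.fst π m = 𝟙 _ := by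
        refine ⟨c.factorThru _ hfb ≫ (Subobject.underlyingIso _).hom, ?_⟩
        rw [← cancel_mono b.arrow]
        simp [c]
      obtain ⟨l, hl⟩ := hfb'
      have : Epi m := by
        have e : π = (l ≫ pullback.snd π m) ≫ m := by
          rw [Category.assoc, ← pullback.condition, reassoc_of% hl]
        have : Epi ((l ≫ pullback.snd π m) ≫ m) := by rw [← e]; infer_instance
        exact epi_of_epi (l ≫ pullback.snd π m) m
      exact isIso_of_mono_of_epi m

end Groth.Agent.Lib.Helper20
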