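import Mathlib

/-!
# Cokernel of `ad x` for the subregular nilpotent of `sl_{n+1}` (helper20)
-/

set_option autoImplicit false

namespace Groth.Agent.Lib.Helper20.SubregNilp

universe u

open Matrix

variable {O : Type u} [CommRing O] (n : ℕ)

/-- the matrix with entries given by a function on `ℕ × ℕ` -/
def mat (a : ℕ → ℕ → O) : Matrix (Fin (n + 1)) (Fin (n + 1)) O := fun i j => a i.val j.val

/-- the function on `ℕ × ℕ` extending a matrix by zero -/
def ext (M : Matrix (Fin (n + 1)) (Fin (n + 1)) O) : ℕ → ℕ → O :=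
  fun i j => if h : i < n + 1 ∧ j < n + 1 then M ⟨i, h.1⟩ ⟨j, h.2⟩ else 0

theorem mat_ext (M : Matrix (Fin (n + 1)) (Fin (n + 1)) O) : mat n (ext n M) = M := by
  ext i j
  simp only [mat, ext]
  rw [dif_pos ⟨i.2, j.2⟩]

theorem ext_apply_fin (M : Matrix (Fin (n + 1)) (Fin (n + 1)) O) (i j : Fin (n + 1)) :
    ext n M i.val j.val = M i j := by
  simp only [ext]
  rw [dif_pos ⟨i.2, j.2⟩]

/-- the subregular nilpotent -/
def xfun : ℕ → ℕ → O := fun i j => if j = i + 1 ∧ j < n then 1 else 0

/-- the operator `a ↦ x a - a x` on functions -/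
def D (a : ℕ → ℕ → O) : ℕ → ℕ → O := fun i j =>
  (if i + 1 < n then a (i + 1) j else 0) - (if 1 ≤ j ∧ j < n then a i (j - 1) else 0)

theorem mul_mat_apply (a : ℕ → ℕ → O) (i j : Fin (n + 1)) :
    (mat n (xfun n) * mat n a : Matrix (Fin (n + 1)) (Fin (n + 1)) O) i j = if i.val + 1 < n then a (i.val + 1) j.val else 0 := by
  rw [Matrix.mul_apply]
  simp only [mat, xfun]
  rw [Fin.sum_univ_eq_sum_range (fun k => (if k = i.val + 1 ∧ k < n then (1 : O) else 0) *
    a k j.val) (n + 1)]
  by_cases h : i.val + 1 < n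
  · rw [if_pos h, Finset.sum_eq_single (i.val + 1)]
    · rw [if_pos ⟨rfl, h⟩, one_mul]
    · intro k _ hk
      rw [if_neg (fun hh => hk hh.1), zero_mul]
    · intro hni
      exact absurd (Finset.mem_range.mpr (by omega)) hni
  · rw [if_neg h]
    apply Finset.sum_eq_zero
    intro k _
    rw [if_neg (fun hh => h (by omega)), zero_mul]

theorem mat_mul_apply (a : ℕ → ℕ → O) (i j : Fin (n + 1)) :
    (mat n a * mat n (xfun n) : Matrix (Fin (n + 1)) (Fin (n + 1)) O) i j =
      if 1 ≤ j.val ∧ j.val < n then a i.val (j.val - 1) else 0 := by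
  rw [Matrix.mul_apply]
  simp only [mat, xfun]
  rw [Fin.sum_univ_eq_sum_range (fun k => a i.val k *
    (if j.val = k + 1 ∧ j.val < n then (1 : O) else 0)) (n + 1)]
  by_cases h : 1 ≤ j.val ∧ j.val < n
  · rw [if_pos h, Finset.sum_eq_single (j.val - 1)]
    · rw [if_pos ⟨by omega, h.2⟩, mul_one]
    · intro k _ hk
      rw [if_neg (fun hh => hk (by omega)), mul_zero]
    · intro hni
      exact absurd (Finset.mem_range.mpr (by omega)) hni
  · rw [if_neg h]
    apply Finset.sum_eq_zero
    intro k _
    rw [if_neg (fun hh => h (by omega)), mul_zero]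

theorem bracket_mat (a : ℕ → ℕ → O) :
    mat n (xfun n) * mat n a - mat n a * mat n (xfun n) = mat n (D n a) := by
  ext i j
  rw [Matrix.sub_apply, mul_mat_apply, mat_mul_apply]
  rfl

/-- sum along the `d`-th subdiagonal of the upper-left `n × n` block -/
def phi (b : ℕ → ℕ → O) (d : ℕ) : O := ∑ s ∈ Finset.range (n - d), b (d + s) s

theorem phi_D (a : ℕ → ℕ → O) (d : ℕ) : phi n (D n a) d = 0 := by
  unfold phi D
  rw [Finset.sum_sub_distrib, sub_eq_zero]
  rcases Nat.eq_zero_or_pos (n - d) with h | h
  · rw [h, Finset.sum_range_zero, Finset.sum_range_zero]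
  · obtain ⟨m, hm⟩ : ∃ m, n - d = m + 1 := ⟨n - d - 1, by omega⟩
    rw [hm, Finset.sum_range_succ, Finset.sum_range_succ']
    rw [if_neg (by omega), add_zero, if_neg (by omega), add_zero]
    apply Finset.sum_congr rfl
    intro s hs
    rw [Finset.mem_range] at hs
    rw [if_pos (by omega), if_pos (by omega)]
    rfl

theorem D_sub_one_n (hn : 1 ≤ n) (a : ℕ → ℕ → O) : D n a (n - 1) n = 0 := by
  unfold D
  rw [if_neg (by omega), if_neg (by omega), sub_zero]

theorem D_n_zero (a : ℕ → ℕ → O) : D n a n 0 = 0 := by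
  unfold D
  rw [if_neg (by omega), if_neg (by omega), sub_zero]

/-- the preimage under `D` -/
def pre (b : ℕ → ℕ → O) (τ : O) : ℕ → ℕ → O := fun i j =>
  if i < n ∧ j < n then
    (if j < i then ∑ s ∈ Finset.range (j + 1), b (i - 1 - j + s) s
      else ∑ s ∈ Finset.range i, b s (s + (j + 1 - i)))
  else if i < n ∧ j = n then (if 1 ≤ i then b (i - 1) n else 0)
  else if i = n ∧ j < n then (if j + 1 < n then - b n (j + 1) else 0)
  else τ

theorem D_pre (hn : 1 ≤ n) (b : ℕ → ℕ → O) (τ : O) (hphi : ∀ d, d < n → phi n b d = 0)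
    (hu : b (n - 1) n = 0) (hv : b n 0 = 0) (hnn : b n n = 0)
    (i j : ℕ) (hi : i ≤ n) (hj : j ≤ n) : D n (pre n b τ) i j = b i j := by
  unfold D
  rcases Nat.lt_or_ge i n with hin | hin
  · rcases Nat.lt_or_ge j n with hjn | hjn
    · -- inside the block
      rcases Nat.lt_or_ge i j with hij | hij
      · -- above the diagonal
        rw [if_pos (by omega), if_pos (by omega)]
        unfold pre
        rw [if_pos ⟨by omega, hjn⟩, if_neg (by omega), if_pos ⟨hin, by omega⟩, if_neg (by omega)]
        rw [Finset.sum_range_succ]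
        have : ∀ s, s + (j + 1 - (i + 1)) = s + (j - 1 + 1 - i) := fun s => by omega
        simp only [this]
        rw [add_sub_cancel_left]
        congr 1
        omega
      · -- on or below the diagonal
        rcases Nat.lt_or_ge (i + 1) n with hi1 | hi1
        · rw [if_pos hi1]
          rcases Nat.eq_zero_or_pos j with hj0 | hj0
          · rw [if_neg (by omega), sub_zero]
            unfold pre
            rw [if_pos ⟨hi1, hjn⟩, if_pos (by omega), hj0]
            simp
          · rw [if_pos ⟨hj0, hjn⟩]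
            unfold pre
            rw [if_pos ⟨hi1, hjn⟩, if_pos (by omega), if_pos ⟨hin, by omega⟩, if_pos (by omega)]
            rw [Finset.sum_range_succ]
            have h1 : ∀ s, i + 1 - 1 - j + s = i - 1 - (j - 1) + s := fun s => by omega
            have h2 : j - 1 + 1 = j := by omega
            simp only [h1, h2]
            rw [add_sub_cancel_left]
            congr 1
            omega
        · -- i = n - 1
          have hieq : i = n - 1 := by omega
          rw [if_neg (by omega), zero_sub]
          rcases Nat.eq_zero_or_pos j with hj0 | hj0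
          · rw [if_neg (by omega), neg_zero]
            have := hphi (n - 1) (by omega)
            unfold phi at this
            have h3 : n - (n - 1) = 1 := by omega
            rw [h3, Finset.sum_range_one, add_zero] at this
            rw [hieq, hj0, this]
          · rw [if_pos ⟨hj0, hjn⟩]
            unfold pre
            rw [if_pos ⟨hin, by omega⟩, if_pos (by omega)]
            have := hphi (n - 1 - j) (by omega)
            unfold phi at this
            have h3 : n - (n - 1 - j) = j + 1 := by omega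
            rw [h3, Finset.sum_range_succ] at this
            have h4 : n - 1 - j + j = i := by omega
            rw [h4] at this
            have h5 : ∀ s, i - 1 - (j - 1) + s = n - 1 - j + s := fun s => by omega
            have h6 : j - 1 + 1 = j := by omega
            simp only [h5, h6]
            rw [eq_comm, ← add_eq_zero_iff_eq_neg, add_comm]
            exact this
    · -- column j = n
      have hjeq : j = n := by omega
      rw [if_neg (show ¬(1 ≤ j ∧ j < n) by omega), sub_zero]
      rcases Nat.lt_or_ge (i + 1) n with hi1 | hi1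
      · rw [if_pos hi1]
        unfold pre
        rw [if_neg (by omega), if_pos ⟨hi1, hjeq⟩, if_pos (by omega), hjeq]
        rfl
      · rw [if_neg (by omega)]
        have hieq : i = n - 1 := by omega
        rw [hieq, hjeq, hu]
  · have hieq : i = n := by omega
    rw [if_neg (by omega), zero_sub]
    rcases Nat.lt_or_ge j n with hjn | hjn
    · rcases Nat.eq_zero_or_pos j with hj0 | hj0
      · rw [if_neg (by omega), neg_zero, hieq, hj0, hv]
      · rw [if_pos ⟨hj0, hjn⟩]
        unfold pre
        rw [if_neg (by omega), if_neg (by omega), if_pos ⟨hieq, by omega⟩, if_pos (by omega),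
          neg_neg, hieq]
        congr 1
        omega
    · have hjeq : j = n := by omega
      rw [if_neg (by omega), neg_zero, hieq, hjeq, hnn]

theorem ext_mat (a : ℕ → ℕ → O) (i j : ℕ) (hi : i ≤ n) (hj : j ≤ n) :
    ext n (mat n a) i j = a i j := by
  unfold ext
  rw [dif_pos ⟨by omega, by omega⟩]
  rfl

theorem ext_add (M M' : Matrix (Fin (n + 1)) (Fin (n + 1)) O) (i j : ℕ) :
    ext n (M + M') i j = ext n M i j + ext n M' i j := by
  unfold ext
  by_cases h : i < n + 1 ∧ j < n + 1
  · rw [dif_pos h, dif_pos h, dif_pos h, Matrix.add_apply]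
  · rw [dif_neg h, dif_neg h, dif_neg h, add_zero]

theorem ext_smul (c : O) (M : Matrix (Fin (n + 1)) (Fin (n + 1)) O) (i j : ℕ) :
    ext n (c • M) i j = c * ext n M i j := by
  unfold ext
  by_cases h : i < n + 1 ∧ j < n + 1
  · rw [dif_pos h, dif_pos h, Matrix.smul_apply, smul_eq_mul]
  · rw [dif_neg h, dif_neg h, mul_zero]

theorem phi_congr {b b' : ℕ → ℕ → O} (d : ℕ)
    (h : ∀ i j, i < n → j < n → b i j = b' i j) : phi n b d = phi n b' d := by
  unfold phi
  apply Finset.sum_congr rfl
  intro s hs
  rw [Finset.mem_range] at hs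
  exact h _ _ (by omega) (by omega)

/-- the functional on matrices -/
def PhiM : Matrix (Fin (n + 1)) (Fin (n + 1)) O →ₗ[O] (Fin n → O) × O × O where
  toFun M := (fun d => phi n (ext n M) d.val, ext n M (n - 1) n, ext n M n 0)
  map_add' M M' := by
    refine Prod.ext ?_ (Prod.ext ?_ ?_)
    · funext d
      show phi n (ext n (M + M')) d.val = phi n (ext n M) d.val + phi n (ext n M') d.val
      unfold phi
      rw [← Finset.sum_add_distrib]
      exact Finset.sum_congr rfl fun s _ => ext_add n M M' _ _
    · exact ext_add n M M' _ _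
    · exact ext_add n M M' _ _
  map_smul' c M := by
    refine Prod.ext ?_ (Prod.ext ?_ ?_)
    · funext d
      show phi n (ext n (c • M)) d.val = c • phi n (ext n M) d.val
      unfold phi
      rw [smul_eq_mul, Finset.mul_sum]
      exact Finset.sum_congr rfl fun s _ => ext_smul n c M _ _
    · exact ext_smul n c M _ _
    · exact ext_smul n c M _ _

theorem PhiM_mat_D (hn : 1 ≤ n) (a : ℕ → ℕ → O) : PhiM n (mat n (D n a)) = 0 := by
  refine Prod.ext ?_ (Prod.ext ?_ ?_)
  · funext d
    show phi n (ext n (mat n (D n a))) d.val = 0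
    rw [phi_congr n d.val (b' := D n a) (fun i j hi hj => ext_mat n _ i j hi.le hj.le)]
    exact phi_D n a d.val
  · show ext n (mat n (D n a)) (n - 1) n = 0
    rw [ext_mat n _ _ _ (by omega) le_rfl]
    exact D_sub_one_n n hn a
  · show ext n (mat n (D n a)) n 0 = 0
    rw [ext_mat n _ _ _ le_rfl (by omega)]
    exact D_n_zero n a

theorem exists_preimage (hn : 1 ≤ n) (B : Matrix (Fin (n + 1)) (Fin (n + 1)) O)
    (htr : B.trace = 0) (hB : PhiM n B = 0) :
    ∃ A : Matrix (Fin (n + 1)) (Fin (n + 1)) O, A.trace = 0 ∧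
      mat n (xfun n) * A - A * mat n (xfun n) = B := by
  let b := ext n B
  have hB1 : ∀ d, d < n → phi n b d = 0 := by
    intro d hd
    have := congrArg (fun p => p.1 ⟨d, hd⟩) hB
    exact this
  have hB2 : b (n - 1) n = 0 := congrArg (fun p => p.2.1) hB
  have hB3 : b n 0 = 0 := congrArg (fun p => p.2.2) hB
  have htr' : ∑ i ∈ Finset.range (n + 1), b i i = 0 := by
    rw [← Fin.sum_univ_eq_sum_range (fun i => b i i) (n + 1)]
    rw [← htr, Matrix.trace]
    apply Finset.sum_congr rfl
    intro i _
    exact ext_apply_fin n B i i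
  have hnn : b n n = 0 := by
    rw [Finset.sum_range_succ] at htr'
    have h0 := hB1 0 (by omega)
    unfold phi at h0
    simp only [Nat.sub_zero, zero_add] at h0
    rw [h0, zero_add] at htr'
    exact htr'
  let τ : O := - ∑ i ∈ Finset.range n, pre n b 0 i i
  refine ⟨mat n (pre n b τ), ?_, ?_⟩
  · rw [Matrix.trace]
    have : ∑ i : Fin (n + 1), (mat n (pre n b τ)).diag i =
        ∑ i ∈ Finset.range (n + 1), pre n b τ i i :=
      Fin.sum_univ_eq_sum_range (fun i => pre n b τ i i) (n + 1)
    rw [this, Finset.sum_range_succ]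
    have h1 : pre n b τ n n = τ := by
      unfold pre
      rw [if_neg (by omega), if_neg (by omega), if_neg (by omega)]
    have h2 : ∑ i ∈ Finset.range n, pre n b τ i i = ∑ i ∈ Finset.range n, pre n b 0 i i := by
      apply Finset.sum_congr rfl
      intro i hi
      rw [Finset.mem_range] at hi
      unfold pre
      rw [if_pos (⟨hi, hi⟩ : i < n ∧ i < n), if_pos (⟨hi, hi⟩ : i < n ∧ i < n)]
    rw [h1, h2]
    exact add_neg_cancel _
  · rw [bracket_mat]
    ext i j
    show D n (pre n b τ) i.val j.val = B i j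
    rw [D_pre n hn b τ hB1 hB2 hB3 hnn i.val j.val (by omega) (by omega)]
    exact ext_apply_fin n B i j

/-- a section of `PhiM` with traceless values -/
def sec (c : Fin n → O) (u v : O) : ℕ → ℕ → O := fun i j =>
  if h : i < n ∧ j = 0 then c ⟨i, h.1⟩
  else if i = n - 1 ∧ j = n then u
  else if i = n ∧ j = 0 then v
  else if i = n ∧ j = n then (if h : 0 < n then - c ⟨0, h⟩ else 0)
  else 0

theorem PhiM_sec (hn : 1 ≤ n) (c : Fin n → O) (u v : O) :
    PhiM n (mat n (sec n c u v)) = (c, u, v) := by
  refine Prod.ext ?_ (Prod.ext ?_ ?_)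
  · funext d
    show phi n (ext n (mat n (sec n c u v))) d.val = c d
    rw [phi_congr n d.val (b' := sec n c u v) (fun i j hi hj => ext_mat n _ i j hi.le hj.le)]
    unfold phi
    have hd := d.2
    rw [Finset.sum_eq_single 0]
    · unfold sec
      rw [dif_pos ⟨by omega, rfl⟩]
      rfl
    · intro s hs hs0
      rw [Finset.mem_range] at hs
      unfold sec
      rw [dif_neg (by omega), if_neg (by omega), if_neg (by omega), if_neg (by omega)]
    · intro h
      exact absurd (Finset.mem_range.mpr (by omega)) h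
  · show ext n (mat n (sec n c u v)) (n - 1) n = u
    rw [ext_mat n _ _ _ (by omega) le_rfl]
    unfold sec
    rw [dif_neg (by omega), if_pos ⟨rfl, rfl⟩]
  · show ext n (mat n (sec n c u v)) n 0 = v
    rw [ext_mat n _ _ _ le_rfl (by omega)]
    unfold sec
    rw [dif_neg (by omega), if_neg (by omega), if_pos ⟨rfl, rfl⟩]

theorem trace_sec (hn : 1 ≤ n) (c : Fin n → O) (u v : O) :
    (mat n (sec n c u v)).trace = 0 := by
  rw [Matrix.trace]
  have : ∑ i : Fin (n + 1), (mat n (sec n c u v)).diag i =
      ∑ i ∈ Finset.range (n + 1), sec n c u v i i :=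
    Fin.sum_univ_eq_sum_range (fun i => sec n c u v i i) (n + 1)
  rw [this, Finset.sum_range_succ]
  have hn0 : 0 < n := hn
  have h1 : sec n c u v n n = - c ⟨0, hn0⟩ := by
    unfold sec
    rw [dif_neg (by omega), if_neg (by omega), if_neg (by omega), if_pos ⟨rfl, rfl⟩, dif_pos hn0]
  have h2 : ∑ i ∈ Finset.range n, sec n c u v i i = c ⟨0, hn0⟩ := by
    rw [Finset.sum_eq_single 0]
    · unfold sec
      rw [dif_pos ⟨hn0, rfl⟩]
    · intro s hs hs0
      rw [Finset.mem_range] at hs
      unfold sec
      rw [dif_neg (by omega), if_neg (by omega), if_neg (by omega), if_neg (by omega)]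
    · intro h
      exact absurd (Finset.mem_range.mpr hn0) h
  rw [h1, h2]
  exact add_neg_cancel _

section final

open LieAlgebra.SpecialLinear

attribute [local instance 100] LieRing.ofAssociativeRing

theorem mem_sl_iff (A : Matrix (Fin (n + 1)) (Fin (n + 1)) O) :
    A ∈ sl (Fin (n + 1)) O ↔ A.trace = 0 := Iff.rfl

variable [Nontrivial O]

theorem main (hn : 1 ≤ n) (x : sl (Fin (n + 1)) O)
    (hx : ∀ i j : Fin (n + 1), (x : Matrix (Fin (n + 1)) (Fin (n + 1)) O) i j =
      if j.val = i.val + 1 ∧ j.val < n then 1 else 0) :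
    Module.Free O (sl (Fin (n + 1)) O ⧸
        LinearMap.range (LieAlgebra.ad O (sl (Fin (n + 1)) O) x)) ∧
      Module.finrank O (sl (Fin (n + 1)) O ⧸
        LinearMap.range (LieAlgebra.ad O (sl (Fin (n + 1)) O) x)) = n + 2 := by
  have hxmat : (x : Matrix (Fin (n + 1)) (Fin (n + 1)) O) = mat n (xfun n) := by
    ext i j
    rw [hx]
    rfl
  let Φ : sl (Fin (n + 1)) O →ₗ[O] (Fin n → O) × O × O :=
    (PhiM n).comp ((sl (Fin (n + 1)) O).incl : sl (Fin (n + 1)) O →ₗ[O] _)
  have hΦ : ∀ A : sl (Fin (n + 1)) O, Φ A = PhiM n (A : Matrix (Fin (n + 1)) (Fin (n + 1)) O) :=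
    fun A => rfl
  have hbr : ∀ A : sl (Fin (n + 1)) O,
      ((⁅x, A⁆ : sl (Fin (n + 1)) O) : Matrix (Fin (n + 1)) (Fin (n + 1)) O) =
        mat n (xfun n) * (A : Matrix (Fin (n + 1)) (Fin (n + 1)) O) -
          (A : Matrix (Fin (n + 1)) (Fin (n + 1)) O) * mat n (xfun n) := by
    intro A
    rw [LieSubalgebra.coe_bracket, Ring.lie_def, hxmat]
  have hker : LinearMap.range (LieAlgebra.ad O (sl (Fin (n + 1)) O) x) = LinearMap.ker Φ := by
    apply le_antisymm
    · rintro _ ⟨A, rfl⟩
      rw [LinearMap.mem_ker, LieAlgebra.ad_apply, hΦ, hbr]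
      rw [← mat_ext n (A : Matrix (Fin (n + 1)) (Fin (n + 1)) O), bracket_mat]
      exact PhiM_mat_D n hn _
    · intro B hB
      rw [LinearMap.mem_ker, hΦ] at hB
      have htr : (B : Matrix (Fin (n + 1)) (Fin (n + 1)) O).trace = 0 :=
        (mem_sl_iff n _).mp B.2
      obtain ⟨A, hA1, hA2⟩ := exists_preimage n hn _ htr hB
      refine ⟨⟨A, (mem_sl_iff n _).mpr hA1⟩, ?_⟩
      apply Subtype.ext
      rw [LieAlgebra.ad_apply, hbr]
      exact hA2
  have hsurj : Function.Surjective Φ := by
    rintro ⟨c, u, v⟩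
    refine ⟨⟨mat n (sec n c u v), (mem_sl_iff n _).mpr (trace_sec n hn c u v)⟩, ?_⟩
    rw [hΦ]
    exact PhiM_sec n hn c u v
  let e : (sl (Fin (n + 1)) O ⧸ LinearMap.range (LieAlgebra.ad O (sl (Fin (n + 1)) O) x)) ≃ₗ[O]
      (Fin n → O) × O × O :=
    (Submodule.quotEquivOfEq _ _ hker).trans (Φ.quotKerEquivOfSurjective hsurj)
  refine ⟨Module.Free.of_equiv e.symm, ?_⟩
  rw [LinearEquiv.finrank_eq e, Module.finrank_prod, Module.finrank_prod, Module.finrank_fin_fun,
    Module.finrank_self]

end final

end Groth.Agent.Lib.Helper20.SubregNilp
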