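import Groth.Agent.Lib.Helper29.TwistPeriod2

/-!
# Generation of `O(n)` on a weighted `Proj` for `n ≥ (s - 1)(l - 1)`

`A` graded `R`-algebra generated by homogeneous `f_1, …, f_s` of positive degrees `d_1, …, d_s`,
`l = lcm d_i`.  For `n ≥ (s-1)(l-1)` the sheaf `O(n)` on `Proj A` is generated by the sections
`b / 1`, `b ∈ A_n`.
-/

set_option autoImplicit false

universe u

open CategoryTheory CategoryTheory.Limits AlgebraicGeometry Opposite TopologicalSpace DirectSum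

namespace Groth.Agent.Lib.Helper20.TwistGen

open Groth.Agent.Lib.Helper29.QCoh

section Alg

variable {R A : Type u} [CommRing R] [CommRing A] [Algebra R A] (𝒜 : ℕ → Submodule R A)
  [GradedAlgebra 𝒜]

theorem mul_le_graded (u v : ℕ) : 𝒜 u * 𝒜 v ≤ 𝒜 (u + v) := by
  rw [Submodule.mul_le]
  intro a ha b hb
  exact SetLike.mul_mem_graded ha hb

/-- the degree `N` component of a homogeneous element -/
theorem proj_of_mem {w N : ℕ} {t : A} (ht : t ∈ 𝒜 w) :
    GradedRing.proj 𝒜 N t = if w = N then t else 0 := by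
  rw [GradedRing.proj_apply]
  split_ifs with h
  · subst h
    exact DirectSum.decompose_of_mem_same 𝒜 ht
  · exact DirectSum.decompose_of_mem_ne 𝒜 ht h

variable {s : ℕ} (f : Fin s → A) (deg : Fin s → ℕ) (hf : ∀ i, f i ∈ 𝒜 (deg i))

include hf in
theorem prod_pow_mem (m : Fin s → ℕ) : ∏ j, f j ^ m j ∈ 𝒜 (∑ j, m j * deg j) := by
  have h := SetLike.prod_pow_mem_graded 𝒜 deg f (F := Finset.univ) m (fun k _ => hf k)
  simpa [smul_eq_mul] using h

include hf in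
/-- homogeneous elements are combinations of monomials of the right weight -/
theorem mem_span_monomials (hgen : Algebra.adjoin R (Set.range f) = ⊤) {N : ℕ} {a : A}
    (ha : a ∈ 𝒜 N) :
    a ∈ Submodule.span R {x : A | ∃ m : Fin s → ℕ, (∑ j, m j * deg j = N) ∧ x = ∏ j, f j ^ m j} := by
  have hmem : a ∈ Algebra.adjoin R (Set.range f) := by rw [hgen]; exact Algebra.mem_top
  rw [Algebra.adjoin_range_eq_range_aeval] at hmem
  obtain ⟨p, hp⟩ := hmem
  have ha' : a = ∑ d ∈ p.support, algebraMap R A (p.coeff d) * ∏ j, f j ^ d j := by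
    rw [← hp]
    change MvPolynomial.aeval f p = _
    rw [MvPolynomial.aeval_def, MvPolynomial.eval₂_eq']
  have hproj : GradedRing.proj 𝒜 N a = a := by
    rw [GradedRing.proj_apply]
    exact DirectSum.decompose_of_mem_same 𝒜 ha
  rw [← hproj, ha', map_sum]
  refine Submodule.sum_mem _ (fun d _ => ?_)
  have hterm : algebraMap R A (p.coeff d) * ∏ j, f j ^ d j ∈ 𝒜 (∑ j, d j * deg j) := by
    rw [← Algebra.smul_def]
    exact Submodule.smul_mem _ _ (prod_pow_mem 𝒜 f deg hf (fun j => d j))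
  rw [proj_of_mem 𝒜 hterm]
  split_ifs with h
  · rw [← Algebra.smul_def]
    exact Submodule.smul_mem _ _ (Submodule.subset_span ⟨fun j => d j, h, rfl⟩)
  · exact zero_mem _

include hf in
theorem mul_pow_mem_mono (i : Fin s) (n J : ℕ) {z : A} {T : ℕ}
    (hz : z * f i ^ T ∈ 𝒜 n * 𝒜 (J + T * deg i)) (k : ℕ) :
    z * f i ^ (T + k) ∈ 𝒜 n * 𝒜 (J + (T + k) * deg i) := by
  have h1 : f i ^ k ∈ 𝒜 (k * deg i) := by
    have := SetLike.pow_mem_graded k (hf i)
    simpa [smul_eq_mul] using this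
  have h2 : z * f i ^ (T + k) = (z * f i ^ T) * f i ^ k := by rw [pow_add, mul_assoc]
  rw [h2]
  have h3 : (z * f i ^ T) * f i ^ k ∈ (𝒜 n * 𝒜 (J + T * deg i)) * 𝒜 (k * deg i) :=
    Submodule.mul_mem_mul hz h1
  have h4 : (𝒜 n * 𝒜 (J + T * deg i)) * 𝒜 (k * deg i) ≤ 𝒜 n * 𝒜 (J + (T + k) * deg i) := by
    rw [mul_assoc]
    refine mul_le_mul' le_rfl ?_
    exact (mul_le_graded 𝒜 (J + T * deg i) (k * deg i)).trans (le_of_eq (by congr 1; ring))
  exact h4 h3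

include hf in
theorem monomial_split (hdeg : ∀ i, 0 < deg i) (i : Fin s) (n J : ℕ)
    (hn : (s - 1) * (Finset.univ.lcm deg - 1) ≤ n) (hJ : deg i ∣ J)
    (m : Fin s → ℕ) (hm : ∑ j, m j * deg j = n + J) :
    ∃ T, (∏ j, f j ^ m j) * f i ^ T ∈ 𝒜 n * 𝒜 (J + T * deg i) := by
  classical
  obtain ⟨l, hl⟩ : ∃ l, l = Finset.univ.lcm deg := ⟨_, rfl⟩
  rw [← hl] at hn
  have hdvd : ∀ j, deg j ∣ l := fun j => hl ▸ Finset.dvd_lcm (Finset.mem_univ j)
  have hlpos : 0 < l := by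
    rw [hl, Nat.pos_iff_ne_zero]
    intro h0
    rw [Finset.lcm_eq_zero_iff] at h0
    obtain ⟨j, -, hj⟩ := h0
    exact (hdeg j).ne' hj
  have hL : ∀ j, (l / deg j) * deg j = l := fun j => Nat.div_mul_cancel (hdvd j)
  have hLpos : ∀ j, 0 < l / deg j := fun j =>
    Nat.div_pos (Nat.le_of_dvd hlpos (hdvd j)) (hdeg j)
  obtain ⟨c, hc⟩ : ∃ c : Fin s → ℕ, c = fun j => if j = i then 0 else m j % (l / deg j) :=
    ⟨_, rfl⟩
  obtain ⟨e, he⟩ : ∃ e : Fin s → ℕ, e = fun j => m j - c j := ⟨_, rfl⟩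
  have hci : c i = 0 := by rw [hc]; simp
  have hcj : ∀ j, j ≠ i → c j = m j % (l / deg j) := by
    intro j hj; rw [hc]; dsimp only; rw [if_neg hj]
  have hcm : ∀ j, c j ≤ m j := by
    intro j
    by_cases h : j = i
    · rw [h, hci]; exact Nat.zero_le _
    · rw [hcj j h]; exact Nat.mod_le _ _
  have hme : ∀ j, m j = c j + e j := by
    intro j
    have h1 : e j = m j - c j := by rw [he]
    have := hcm j
    omega
  have hcbound : ∀ j, j ≠ i → c j * deg j ≤ l - 1 := by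
    intro j hj
    rw [hcj j hj]
    have h1 : m j % (l / deg j) < l / deg j := Nat.mod_lt _ (hLpos j)
    have h2 : (m j % (l / deg j) + 1) * deg j ≤ (l / deg j) * deg j :=
      Nat.mul_le_mul_right _ h1
    rw [hL j, add_mul, one_mul] at h2
    have := hdeg j
    omega
  have hedvd : ∀ j, deg i ∣ e j * deg j := by
    intro j
    by_cases h : j = i
    · rw [h]; exact Dvd.intro_left _ rfl
    · have hej : e j = (l / deg j) * (m j / (l / deg j)) := by
        have h1 : e j = m j - c j := by rw [he]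
        rw [h1, hcj j h]
        have := Nat.div_add_mod (m j) (l / deg j)
        omega
      rw [hej, mul_comm (l / deg j), mul_assoc, hL j]
      exact Dvd.dvd.mul_left (hdvd i) _
  obtain ⟨degP, hdegP⟩ : ∃ degP, degP = ∑ j, c j * deg j := ⟨_, rfl⟩
  obtain ⟨degE, hdegE⟩ : ∃ degE, degE = ∑ j, e j * deg j := ⟨_, rfl⟩
  have hsum : degP + degE = n + J := by
    rw [hdegP, hdegE, ← Finset.sum_add_distrib, ← hm]
    refine Finset.sum_congr rfl (fun j _ => ?_)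
    rw [hme j, add_mul]
  have hPle : degP ≤ (s - 1) * (l - 1) := by
    rw [hdegP, ← Finset.add_sum_erase Finset.univ (fun j => c j * deg j) (Finset.mem_univ i), hci,
      zero_mul, zero_add]
    have h1 := Finset.sum_le_card_nsmul (Finset.univ.erase i) (fun j => c j * deg j) (l - 1)
      (fun j hj => hcbound j (Finset.ne_of_mem_erase hj))
    rw [Finset.card_erase_of_mem (Finset.mem_univ i), Finset.card_univ, Fintype.card_fin,
      smul_eq_mul] at h1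
    exact h1
  have hPn : degP ≤ n := hPle.trans hn
  have hEJ : J ≤ degE := by omega
  have hdvdE : deg i ∣ degE := by
    rw [hdegE]; exact Finset.dvd_sum (fun j _ => hedvd j)
  obtain ⟨t, ht⟩ : deg i ∣ degE - J := Nat.dvd_sub hdvdE hJ
  have htu : t * deg i = degE - J := by rw [mul_comm]; exact ht.symm
  refine ⟨t, ?_⟩
  have hprod : ∏ j, f j ^ m j = (∏ j, f j ^ c j) * ∏ j, f j ^ e j := by
    rw [← Finset.prod_mul_distrib]
    refine Finset.prod_congr rfl (fun j _ => ?_)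
    rw [hme j, pow_add]
  have hPc : ∏ j, f j ^ c j ∈ 𝒜 degP := hdegP ▸ prod_pow_mem 𝒜 f deg hf c
  have hPe : ∏ j, f j ^ e j ∈ 𝒜 degE := hdegE ▸ prod_pow_mem 𝒜 f deg hf e
  have hft : f i ^ t ∈ 𝒜 (t * deg i) := by
    have := SetLike.pow_mem_graded t (hf i)
    simpa [smul_eq_mul] using this
  have e1 : (∏ j, f j ^ m j) * f i ^ t = ((∏ j, f j ^ c j) * f i ^ t) * ∏ j, f j ^ e j := by
    rw [hprod]; ring
  rw [e1]
  refine Submodule.mul_mem_mul ?_ ?_
  · have h3 : degP + t * deg i = n := by rw [htu]; omega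
    rw [← h3]
    exact SetLike.mul_mem_graded hPc hft
  · have h3 : J + t * deg i = degE := by rw [htu]; omega
    rw [h3]
    exact hPe

include hf in
theorem exists_pow_mul_mem (hdeg : ∀ i, 0 < deg i) (hgen : Algebra.adjoin R (Set.range f) = ⊤)
    (i : Fin s) (n J : ℕ) (hn : (s - 1) * (Finset.univ.lcm deg - 1) ≤ n) (hJ : deg i ∣ J)
    {a : A} (ha : a ∈ 𝒜 (n + J)) :
    ∃ T, a * f i ^ T ∈ 𝒜 n * 𝒜 (J + T * deg i) := by
  have key : ∀ z ∈ Submodule.span R {x : A | ∃ m : Fin s → ℕ,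
        (∑ j, m j * deg j = n + J) ∧ x = ∏ j, f j ^ m j},
      ∃ T₀, ∀ T, T₀ ≤ T → z * f i ^ T ∈ 𝒜 n * 𝒜 (J + T * deg i) := by
    intro z hz
    refine Submodule.span_induction
      (p := fun z _ => ∃ T₀, ∀ T, T₀ ≤ T → z * f i ^ T ∈ 𝒜 n * 𝒜 (J + T * deg i))
      ?_ ?_ ?_ ?_ hz
    · rintro _ ⟨m, hm, rfl⟩
      obtain ⟨T₀, hT₀⟩ := monomial_split 𝒜 f deg hf hdeg i n J hn hJ m hm
      refine ⟨T₀, fun T hT => ?_⟩
      obtain ⟨k, rfl⟩ := Nat.exists_eq_add_of_le hT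
      exact mul_pow_mem_mono 𝒜 f deg hf i n J hT₀ k
    · exact ⟨0, fun T _ => by rw [zero_mul]; exact zero_mem _⟩
    · rintro x y _ _ ⟨T1, h1⟩ ⟨T2, h2⟩
      refine ⟨max T1 T2, fun T hT => ?_⟩
      rw [add_mul]
      exact add_mem (h1 T (le_trans (le_max_left _ _) hT)) (h2 T (le_trans (le_max_right _ _) hT))
    · rintro r x _ ⟨T1, h1⟩
      refine ⟨T1, fun T hT => ?_⟩
      rw [smul_mul_assoc]
      exact Submodule.smul_mem _ _ (h1 T hT)
  obtain ⟨T₀, h⟩ := key a (mem_span_monomials 𝒜 f deg hf hgen ha)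
  exact ⟨T₀, h T₀ le_rfl⟩

end Alg

section Sheaf

variable {R A : Type u} [CommRing R] [CommRing A] [Algebra R A] (𝒜 : ℕ → Submodule R A)
  [GradedAlgebra 𝒜]

/-- local fraction representation of a section of `O(n)` -/
theorem exists_local_frac {n : ℤ} {V : (Proj 𝒜).Opens} (σ : Γ(Twist.twist 𝒜 n, V)) (x : Proj 𝒜)
    (hx : x ∈ V) :
    ∃ (W : (Proj 𝒜).Opens) (_ : x ∈ W) (hWV : W ≤ V) (i j : ℕ) (a : 𝒜 i) (s : 𝒜 j)
      (hs : ∀ y : W, s.1 ∉ y.1.asHomogeneousIdeal), ((i : ℤ) = j + n ∨ a.1 = 0) ∧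
      ∀ y : W, tfun 𝒜 σ ⟨y.1, hWV y.2⟩ = Localization.mk a.1 ⟨s.1, hs y⟩ := by
  obtain ⟨W, hxW, ι, i, j, a, s, hs, hd, heq⟩ :=
    (show Twist.sectN (𝒜 := 𝒜) n (op V) from σ).2 ⟨x, hx⟩
  exact ⟨W, hxW, leOfHom ι, i, j, a, s, hs, hd, fun y => heq y⟩

set_option maxHeartbeats 1000000 in
theorem span_germ_globalOf_eq_top_of_ge {s : ℕ} (f : Fin s → A) (deg : Fin s → ℕ)
    (hdeg : ∀ i, 0 < deg i) (hf : ∀ i, f i ∈ 𝒜 (deg i))
    (hgen : Algebra.adjoin R (Set.range f) = ⊤) (n : ℕ)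
    (hn : (s - 1) * (Finset.univ.lcm deg - 1) ≤ n) (x : Proj 𝒜) :
    Submodule.span ((Proj 𝒜).presheaf.stalk x)
      (Set.range fun b : 𝒜 n => ((Twist.twist 𝒜 (n : ℤ)).presheaf.germ ⊤ x trivial).hom
        (Twist.globalOf 𝒜 b : (Twist.twist 𝒜 (n : ℤ)).presheaf.obj (op ⊤))) = ⊤ := by
  obtain ⟨_, ⟨i, rfl⟩, hxi⟩ := exists_mem_basicOpen_of_adjoin_homogeneous 𝒜 (Set.range f) hgen
      (by rintro _ ⟨i, rfl⟩; exact ⟨deg i, hf i⟩) x
  rw [eq_top_iff]
  rintro t -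
  obtain ⟨Sp, hSp⟩ : ∃ Sp : Submodule ((Proj 𝒜).presheaf.stalk x)
      ((Twist.twist 𝒜 (n : ℤ)).presheaf.stalk x), Sp =
      Submodule.span ((Proj 𝒜).presheaf.stalk x)
      (Set.range fun b : 𝒜 n => ((Twist.twist 𝒜 (n : ℤ)).presheaf.germ ⊤ x trivial).hom
        (Twist.globalOf 𝒜 b : (Twist.twist 𝒜 (n : ℤ)).presheaf.obj (op ⊤))) := ⟨_, rfl⟩
  have hgenmem : ∀ b : 𝒜 n, ((Twist.twist 𝒜 (n : ℤ)).presheaf.germ ⊤ x trivial).hom
        (Twist.globalOf 𝒜 b : (Twist.twist 𝒜 (n : ℤ)).presheaf.obj (op ⊤)) ∈ Sp := fun b => by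
    rw [hSp]; exact Submodule.subset_span ⟨b, rfl⟩
  rw [← hSp]
  clear hSp
  obtain ⟨V, hxV, σ, rfl⟩ := (Twist.twist 𝒜 (n : ℤ)).presheaf.exists_germ_eq t
  obtain ⟨W, hxW, hWV, i', j', a, sd, hs, hd, heq⟩ := exists_local_frac 𝒜 σ x hxV
  rcases hd with hd | ha0
  swap
  · have h0 : res (Twist.twist 𝒜 (n : ℤ)) hWV σ = 0 := by
      apply tfun_ext
      intro y
      rw [tfun_res, heq y, ha0, Localization.mk_zero]
      rfl
    have h1 : (Twist.twist 𝒜 (n : ℤ)).presheaf.germ V x hxV σ =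
        (Twist.twist 𝒜 (n : ℤ)).presheaf.germ W x hxW (res (Twist.twist 𝒜 (n : ℤ)) hWV σ) :=
      (germ_res _ hWV x hxW σ).symm
    rw [h1, h0, map_zero]
    exact zero_mem _
  · have hij : i' = j' + n := by exact_mod_cast hd
    obtain ⟨d, hddef⟩ : ∃ d, d = deg i := ⟨_, rfl⟩
    have hdpos : 0 < d := hddef ▸ hdeg i
    have ha2 : a.1 * sd.1 ^ (d - 1) ∈ 𝒜 (n + d * j') := by
      have h1 : sd.1 ^ (d - 1) ∈ 𝒜 ((d - 1) * j') := by
        have := SetLike.pow_mem_graded (d - 1) sd.2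
        simpa [smul_eq_mul] using this
      have h2 := SetLike.mul_mem_graded a.2 h1
      have e : i' + (d - 1) * j' = n + d * j' := by
        obtain ⟨d', rfl⟩ := Nat.exists_eq_succ_of_ne_zero hdpos.ne'
        rw [hij, Nat.succ_sub_one, Nat.succ_mul]
        ring
      rwa [e] at h2
    obtain ⟨T, hT⟩ := exists_pow_mul_mem 𝒜 f deg hf hdeg hgen i n (d * j') hn
      (hddef ▸ Dvd.intro _ rfl) ha2
    obtain ⟨W', hW'⟩ : ∃ W' : (Proj 𝒜).Opens, W' = W ⊓ Proj.basicOpen 𝒜 (f i) := ⟨_, rfl⟩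
    have hW'W : W' ≤ W := hW' ▸ inf_le_left
    have hW'f : W' ≤ Proj.basicOpen 𝒜 (f i) := hW' ▸ inf_le_right
    have hxW' : x ∈ W' := by rw [hW']; exact ⟨hxW, hxi⟩
    obtain ⟨den, hden⟩ : ∃ den, den = sd.1 ^ d * f i ^ T := ⟨_, rfl⟩
    have hdenmem : den ∈ 𝒜 (d * j' + T * deg i) := by
      rw [hden]
      refine SetLike.mul_mem_graded ?_ ?_
      · have := SetLike.pow_mem_graded d sd.2
        simpa [smul_eq_mul] using this
      · have := SetLike.pow_mem_graded T (hf i)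
        simpa [smul_eq_mul] using this
    have hdennin : ∀ y : W', den ∉ y.1.asHomogeneousIdeal := by
      intro y h
      rw [hden] at h
      rcases y.1.isPrime.mem_or_mem h with h1 | h1
      · exact hs ⟨y.1, hW'W y.2⟩ (y.1.isPrime.mem_of_pow_mem _ h1)
      · have h2 : y.1 ∈ Proj.basicOpen 𝒜 (f i) := hW'f y.2
        exact (ProjectiveSpectrum.mem_basicOpen 𝒜 (f i) y.1).mp h2
          (y.1.isPrime.mem_of_pow_mem _ h1)
    have key : ∀ z ∈ 𝒜 n * 𝒜 (d * j' + T * deg i),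
        ∃ τ : Γ(Twist.twist 𝒜 (n : ℤ), W'),
          (∀ y : W', tfun 𝒜 τ y = Localization.mk z ⟨den, hdennin y⟩) ∧
          (Twist.twist 𝒜 (n : ℤ)).presheaf.germ W' x hxW' τ ∈ Sp := by
      intro z hz
      refine Submodule.mul_induction_on hz ?_ ?_
      · intro b hb c hc
        refine ⟨mkO 𝒜 W' ⟨c, hc⟩ ⟨den, hdenmem⟩ hdennin •
          res (Twist.twist 𝒜 (n : ℤ)) le_top
            (Twist.globalOf 𝒜 ⟨b, hb⟩ : Γ(Twist.twist 𝒜 (n : ℤ), ⊤)), ?_, ?_⟩
        · intro y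
          rw [tfun_smul, ofun_mkO]
          change Localization.mk c _ * Localization.mk b _ = _
          rw [Localization.mk_mul]
          apply mk_eq_mk_of_mul_eq
          simp only [Submonoid.coe_mul, mul_one]
          ring
        · have e1 := germ_res (Twist.twist 𝒜 (n : ℤ)) (le_top : W' ≤ ⊤) x hxW'
            (Twist.globalOf 𝒜 ⟨b, hb⟩ : Γ(Twist.twist 𝒜 (n : ℤ), ⊤))
          have e2 := (germ_smul (Twist.twist 𝒜 (n : ℤ)) x W' hxW'
            (mkO 𝒜 W' ⟨c, hc⟩ ⟨den, hdenmem⟩ hdennin)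
            (res (Twist.twist 𝒜 (n : ℤ)) le_top
              (Twist.globalOf 𝒜 ⟨b, hb⟩ : Γ(Twist.twist 𝒜 (n : ℤ), ⊤)))).trans
            (congrArg (fun t => (Proj 𝒜).presheaf.germ W' x hxW'
              (mkO 𝒜 W' ⟨c, hc⟩ ⟨den, hdenmem⟩ hdennin) • t) e1)
          exact (congrArg (fun t => t ∈ Sp) e2).mpr (Submodule.smul_mem _ _ (hgenmem ⟨b, hb⟩))
      · rintro z1 z2 ⟨τ1, h1, g1⟩ ⟨τ2, h2, g2⟩
        refine ⟨τ1 + τ2, fun y => ?_, ?_⟩
        · rw [tfun_add, h1, h2, Localization.add_mk_self]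
        · rw [map_add]
          exact add_mem g1 g2
    obtain ⟨τ, hτ, hg⟩ := key _ hT
    have hτσ : τ = res (Twist.twist 𝒜 (n : ℤ)) (hW'W.trans hWV) σ := by
      apply tfun_ext
      intro y
      rw [hτ y, tfun_res]
      have h3 := heq ⟨y.1, hW'W y.2⟩
      rw [h3]
      apply mk_eq_mk_of_mul_eq
      subst hden
      obtain ⟨d', rfl⟩ := Nat.exists_eq_succ_of_ne_zero hdpos.ne'
      show sd.1 * (a.1 * sd.1 ^ (d' + 1 - 1) * f i ^ T) = (sd.1 ^ (d' + 1) * f i ^ T) * a.1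
      rw [Nat.add_sub_cancel, pow_succ]
      ring
    rw [← germ_res (Twist.twist 𝒜 (n : ℤ)) (hW'W.trans hWV) x hxW' σ, ← hτσ]
    exact hg

end Sheaf

end Groth.Agent.Lib.Helper20.TwistGen
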