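import Mathlib

/-!
# Leading coefficients of twisted translates `x_i ↦ x_i + g_i t^N` of a polynomial in `t`
-/
set_option autoImplicit false
universe u v

namespace Groth.Agent.Lib.Helper20

open Polynomial

section IsTop
variable {R : Type*} [CommRing R]

/-- `p` has degree at most `e` and its coefficient of index `e` is `c`. -/
def IsTop (p : R[X]) (e : ℕ) (c : R) : Prop := p.natDegree ≤ e ∧ p.coeff e = c

theorem IsTop.mul {p q : R[X]} {e e' : ℕ} {c c' : R} (hp : IsTop p e c) (hq : IsTop q e' c') :
    IsTop (p * q) (e + e') (c * c') :=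
  ⟨natDegree_mul_le_of_le hp.1 hq.1, by rw [coeff_mul_add_eq_of_natDegree_le hp.1 hq.1, hp.2, hq.2]⟩

theorem IsTop.pow {p : R[X]} {e : ℕ} {c : R} (hp : IsTop p e c) (n : ℕ) :
    IsTop (p ^ n) (n * e) (c ^ n) :=
  ⟨natDegree_pow_le_of_le n hp.1, by rw [coeff_pow_of_natDegree_le hp.1, hp.2]⟩

theorem IsTop.C (a : R) : IsTop (Polynomial.C a) 0 a :=
  ⟨by simp, by simp⟩

theorem IsTop.X_pow [Nontrivial R] (n : ℕ) : IsTop (X ^ n : R[X]) n 1 :=
  ⟨by simp, by simp⟩

theorem IsTop.of_lt {p : R[X]} {e : ℕ} (h : p.natDegree < e) : IsTop p e 0 :=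
  ⟨h.le, coeff_eq_zero_of_natDegree_lt h⟩

theorem IsTop.lt {p : R[X]} {e e' : ℕ} {c : R} (hp : IsTop p e c) (h : e < e') : IsTop p e' 0 :=
  IsTop.of_lt (lt_of_le_of_lt hp.1 h)

theorem IsTop.sum {ι : Type*} (s : Finset ι) (f : ι → R[X]) (e : ℕ) (c : ι → R)
    (h : ∀ i ∈ s, IsTop (f i) e (c i)) : IsTop (∑ i ∈ s, f i) e (∑ i ∈ s, c i) :=
  ⟨natDegree_sum_le_of_forall_le s f (fun i hi => (h i hi).1), by
    rw [finsetSum_coeff]; exact Finset.sum_congr rfl (fun i hi => (h i hi).2)⟩

theorem IsTop.prod {ι : Type*} (s : Finset ι) (f : ι → R[X]) (e : ι → ℕ) (c : ι → R)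
    (h : ∀ i ∈ s, IsTop (f i) (e i) (c i)) :
    IsTop (∏ i ∈ s, f i) (∑ i ∈ s, e i) (∏ i ∈ s, c i) := by
  classical
  induction s using Finset.induction_on with
  | empty => simpa using IsTop.C (1 : R)
  | insert a s ha ih =>
    rw [Finset.prod_insert ha, Finset.sum_insert ha, Finset.prod_insert ha]
    exact (h a (Finset.mem_insert_self a s)).mul (ih fun i hi => h i (Finset.mem_insert_of_mem hi))

theorem IsTop.congr {p : R[X]} {e e' : ℕ} {c c' : R} (hp : IsTop p e c) (he : e = e') (hc : c = c') :
    IsTop p e' c' := by subst he; subst hc; exact hp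

theorem IsTop.leadingCoeff {p : R[X]} {e : ℕ} {c : R} (hp : IsTop p e c) (hc : c ≠ 0) :
    p.natDegree = e ∧ p.leadingCoeff = c := by
  have h1 : p.natDegree = e := natDegree_eq_of_le_of_coeff_ne_zero hp.1 (by rw [hp.2]; exact hc)
  exact ⟨h1, by rw [Polynomial.leadingCoeff, h1, hp.2]⟩

end IsTop


section Twist

variable {k : Type u} [CommRing k] {r : ℕ} {K : Type v} [CommRing K] [Nontrivial K] [Algebra k K]

/-- the substitution `x_i ↦ x_i + g_i t^N`. -/
noncomputable def twist (N : ℕ) (g : Fin r → K) :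
    MvPolynomial (Fin r) k →ₐ[k] Polynomial (MvPolynomial (Fin r) K) :=
  MvPolynomial.aeval (fun i : Fin r =>
    Polynomial.C (MvPolynomial.X i) + Polynomial.C (MvPolynomial.C (g i)) * Polynomial.X ^ N)

theorem isTop_linear {N : ℕ} (hN : 0 < N) (g : Fin r → K) (i : Fin r) :
    IsTop (Polynomial.C (MvPolynomial.X i) + Polynomial.C (MvPolynomial.C (g i)) * Polynomial.X ^ N :
      Polynomial (MvPolynomial (Fin r) K)) N (MvPolynomial.C (g i)) := by
  refine ⟨?_, ?_⟩
  · refine (natDegree_add_le _ _).trans (max_le ?_ ?_)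
    · simp
    · exact (natDegree_C_mul_le _ _).trans (by simp)
  · rw [coeff_add, coeff_C, if_neg hN.ne', zero_add, coeff_C_mul, coeff_X_pow, if_pos rfl, mul_one]

theorem isTop_twist_monomial {N : ℕ} (hN : 0 < N) (g : Fin r → K) (α : Fin r →₀ ℕ) (c : k) :
    IsTop (twist N g (MvPolynomial.monomial α c)) (N * α.degree)
      (MvPolynomial.C (algebraMap k K c * ∏ i, g i ^ α i)) := by
  rw [twist, MvPolynomial.aeval_monomial, Finsupp.prod_fintype _ _ (fun i => pow_zero _)]
  have h1 : IsTop (algebraMap k (Polynomial (MvPolynomial (Fin r) K)) c) 0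
      (MvPolynomial.C (algebraMap k K c)) := by
    have : algebraMap k (Polynomial (MvPolynomial (Fin r) K)) c =
        Polynomial.C (MvPolynomial.C (algebraMap k K c)) := by
      rw [IsScalarTower.algebraMap_apply k (MvPolynomial (Fin r) K), Polynomial.algebraMap_apply,
        MvPolynomial.algebraMap_apply]
      rfl
    rw [this]
    exact IsTop.C _
  have h2 := IsTop.prod Finset.univ
    (fun i : Fin r => (Polynomial.C (MvPolynomial.X i) +
      Polynomial.C (MvPolynomial.C (g i)) * Polynomial.X ^ N :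
      Polynomial (MvPolynomial (Fin r) K)) ^ α i) (fun i => α i * N)
    (fun i => (MvPolynomial.C (g i)) ^ α i) (fun i _ => (isTop_linear hN g i).pow (α i))
  refine (h1.mul h2).congr ?_ ?_
  · rw [zero_add, ← Finset.sum_mul, mul_comm, Finsupp.degree_eq_sum]
  · rw [map_mul, map_prod]
    simp only [map_pow]


theorem isTop_twist {N : ℕ} (hN : 0 < N) (g : Fin r → K) (p : MvPolynomial (Fin r) k) (d : ℕ)
    (hd : p.totalDegree ≤ d) :
    IsTop (twist N g p) (N * d)
      (MvPolynomial.C (MvPolynomial.aeval g (MvPolynomial.homogeneousComponent d p))) := by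
  classical
  have hp : twist N g p = ∑ α ∈ p.support, twist N g (MvPolynomial.monomial α (p.coeff α)) := by
    conv_lhs => rw [← MvPolynomial.support_sum_monomial_coeff p]
    rw [map_sum]
  rw [hp]
  refine (IsTop.sum p.support _ (N * d)
    (fun α => if α.degree = d then MvPolynomial.C (algebraMap k K (p.coeff α) * ∏ i, g i ^ α i)
      else 0) ?_).congr rfl ?_
  · intro α hα
    have hle : α.degree ≤ d := by
      have := MvPolynomial.le_totalDegree hα
      rw [Finsupp.degree_eq_sum]
      rw [Finsupp.sum_fintype _ _ (fun _ => rfl)] at this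
      exact this.trans hd
    split_ifs with h
    · rw [← h]; exact isTop_twist_monomial hN g α _
    · exact (isTop_twist_monomial hN g α _).lt
        (Nat.mul_lt_mul_of_pos_left (lt_of_le_of_ne hle h) hN)
  · rw [MvPolynomial.homogeneousComponent_apply, map_sum, map_sum, Finset.sum_filter]
    refine Finset.sum_congr rfl (fun α _ => ?_)
    split_ifs with h
    · rw [MvPolynomial.aeval_monomial, Finsupp.prod_fintype _ _ (fun i => pow_zero _)]
    · rfl

end Twist


section Main

theorem homogeneousComponent_totalDegree_ne_zero {σ : Type*} {R : Type*} [CommSemiring R]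
    {p : MvPolynomial σ R} (hp : p ≠ 0) :
    MvPolynomial.homogeneousComponent p.totalDegree p ≠ 0 := by
  classical
  have hne : p.support.Nonempty := by
    rwa [Finset.nonempty_iff_ne_empty, Ne, MvPolynomial.support_eq_empty]
  obtain ⟨α, hα, hsup⟩ := Finset.exists_mem_eq_sup p.support hne (fun s => s.sum fun _ e => e)
  intro h0
  have := MvPolynomial.coeff_homogeneousComponent p.totalDegree p α
  rw [h0, MvPolynomial.coeff_zero, if_pos] at this
  · exact (MvPolynomial.mem_support_iff.1 hα) this.symm
  · rw [MvPolynomial.totalDegree, hsup]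
    rfl

theorem exists_isTop_twist {k : Type u} [CommRing k] {r : ℕ}
    (f : Polynomial (MvPolynomial (Fin r) k)) (hf : f ≠ 0) :
    ∃ (h : MvPolynomial (Fin r) k) (a b : ℕ), h ≠ 0 ∧ (1 ≤ f.natDegree → 1 ≤ a + b) ∧
      ∀ N : ℕ, f.natDegree < N →
      ∀ (K : Type v) [CommRing K] [Nontrivial K] [Algebra k K] (g : Fin r → K),
      IsTop (Polynomial.eval₂ (twist N g : MvPolynomial (Fin r) k →ₐ[k] _).toRingHom Polynomial.X f)
        (N * a + b) (MvPolynomial.C (MvPolynomial.aeval g h)) := by
  classical
  set N₀ := f.natDegree + 1 with hN₀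
  set wt : ℕ → ℕ := fun j => N₀ * (f.coeff j).totalDegree + j with hwt
  have hne : f.support.Nonempty := by
    rwa [Finset.nonempty_iff_ne_empty, Ne, Polynomial.support_eq_empty]
  obtain ⟨j₀, hj₀, hmax⟩ := Finset.exists_max_image f.support wt hne
  have hlt : ∀ j ∈ f.support, j < N₀ := fun j hj =>
    Nat.lt_succ_of_le (Polynomial.le_natDegree_of_mem_supp j hj)
  refine ⟨MvPolynomial.homogeneousComponent (f.coeff j₀).totalDegree (f.coeff j₀),
    (f.coeff j₀).totalDegree, j₀,
    homogeneousComponent_totalDegree_ne_zero (Polynomial.mem_support_iff.1 hj₀), ?_, ?_⟩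
  · intro h1
    have hn : f.natDegree ∈ f.support := Polynomial.natDegree_mem_support_of_nonzero hf
    have := hmax _ hn
    simp only [hwt] at this
    by_contra hcon
    have ha : (f.coeff j₀).totalDegree = 0 := by omega
    have hb : j₀ = 0 := by omega
    rw [ha, hb] at this
    have : f.natDegree ≤ 0 := le_trans (Nat.le_add_left _ _) this
    omega
  · intro N hN K _ _ _ g
    have hN0 : 0 < N := lt_of_le_of_lt (Nat.zero_le _) hN
    rw [Polynomial.eval₂_eq_sum, Polynomial.sum_def]
    refine (IsTop.sum f.support _ (N * (f.coeff j₀).totalDegree + j₀)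
      (fun j => if j = j₀ then MvPolynomial.C (MvPolynomial.aeval g
        (MvPolynomial.homogeneousComponent (f.coeff j₀).totalDegree (f.coeff j₀))) else 0) ?_).congr
        rfl ?_
    · intro j hj
      have hj' := (isTop_twist hN0 g (f.coeff j) _ le_rfl).mul (IsTop.X_pow j)
      split_ifs with h
      · subst h
        exact hj'.congr rfl (mul_one _)
      · refine hj'.lt ?_
        have h1 := hmax j hj
        simp only [hwt] at h1
        have h2 := hlt j hj
        have h3 := hlt j₀ hj₀
        have hNN : N₀ ≤ N := hN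
        set a := (f.coeff j₀).totalDegree
        set dj := (f.coeff j).totalDegree
        rcases lt_trichotomy dj a with hlt' | heq | hgt
        · calc N * dj + j < N * dj + N := by omega
            _ = N * (dj + 1) := by ring
            _ ≤ N * a := Nat.mul_le_mul_left _ hlt'
            _ ≤ N * a + j₀ := Nat.le_add_right _ _
        · rw [heq] at h1 ⊢
          have : j ≤ j₀ := by omega
          have : j < j₀ := lt_of_le_of_ne this h
          omega
        · exfalso
          have : N₀ * (a + 1) ≤ N₀ * dj := Nat.mul_le_mul_left _ hgt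
          have h4 : N₀ * (a + 1) = N₀ * a + N₀ := by ring
          omega
    · rw [Finset.sum_ite_eq' f.support j₀, if_pos hj₀]

end Main

end Groth.Agent.Lib.Helper20
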