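import Groth.Agent.Lib.Helper20.UnramifiedNear
import Mathlib.AlgebraicGeometry.Fiber
import Mathlib.AlgebraicGeometry.Limits
import Mathlib.FieldTheory.Separable
import Mathlib.RingTheory.Unramified.Field

set_option autoImplicit false
universe u
open CategoryTheory CategoryTheory.Limits AlgebraicGeometry

namespace Groth.Agent.Lib.Helper20

set_option backward.isDefEq.respectTransparency false in
lemma unramified_sigmaDesc_of_separable (k : Type u) [Field k] (ι : Type u) (K : ι → Type u)
    [∀ i, Field (K i)] [∀ i, Algebra k (K i)]
    (h : ∀ i, FiniteDimensional k (K i) ∧ Algebra.IsSeparable k (K i)) :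
    FormallyUnramified (Sigma.desc (fun i => Spec.map (CommRingCat.ofHom (algebraMap k (K i))))) ∧
    LocallyOfFiniteType (Sigma.desc (fun i => Spec.map (CommRingCat.ofHom (algebraMap k (K i))))) := by
  constructor
  · refine IsZariskiLocalAtSource.sigmaDesc (P := @FormallyUnramified.{u}) fun i => ?_
    rw [HasRingHomProperty.Spec_iff (P := @FormallyUnramified)]
    have := (h i).2
    exact RingHom.formallyUnramified_algebraMap.mpr (Algebra.FormallyUnramified.of_isSeparable k (K i))
  · refine IsZariskiLocalAtSource.sigmaDesc (P := @LocallyOfFiniteType.{u}) fun i => ?_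
    rw [HasRingHomProperty.Spec_iff (P := @LocallyOfFiniteType)]
    have := (h i).1
    exact RingHom.finiteType_algebraMap.mpr inferInstance

set_option backward.isDefEq.respectTransparency false in
/-- A property that is Zariski-local at the source holds as soon as it holds near every point. -/
lemma of_forall_holdsNear (Q : MorphismProperty Scheme.{u}) [IsZariskiLocalAtSource Q]
    {X S : Scheme.{u}} (f : X ⟶ S) (h : ∀ x, HoldsNear Q f x) : Q f := by
  have : Q.RespectsIso := inferInstance
  simp_rw [holdsNear_iff_opens Q] at h
  choose U hxU hU using h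
  rw [IsZariskiLocalAtSource.iff_of_iSup_eq_top (P := Q) U]
  · exact hU
  · rw [eq_top_iff]
    intro x _
    exact TopologicalSpace.Opens.mem_iSup.mpr ⟨x, hxU x⟩

lemma holdsNear_of_holds (Q : MorphismProperty Scheme.{u}) {X S : Scheme.{u}} (f : X ⟶ S)
    (h : Q f) (x : X) : HoldsNear Q f x :=
  ⟨X, 𝟙 X, inferInstance, ⟨x, rfl⟩, by rwa [Category.id_comp]⟩

end Groth.Agent.Lib.Helper20

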