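import Mathlib

/-!
# Galois descent elements for rings of invariants (helper20)

Let a group `H` act on a commutative ring `A` over `R`, `H₁, H₂ ≤ H` with `H₁` normal, and
`ρ : H ⧸ H₁ → H` a system of representatives with values in `H₂`.  For `e` in the product of the
ideals `J_c = (c • y - y : y ∈ A^{H₁})` (`c ≠ 1`) of `A^{H₁}` and `m ∈ A^{H₁ ⊓ H₂}` we show
`e * m ∈ A^{H₁} ⊔ A^{H₂}`.
-/

set_option autoImplicit false
set_option linter.style.haveILetI false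
set_option linter.unusedSectionVars false
universe u v w

namespace Groth.Agent.Lib.Helper20.WQ

open scoped Pointwise TensorProduct

variable {R : Type u} {A : Type v} {H : Type w} [CommRing R] [CommRing A] [Algebra R A] [Group H]
  [MulSemiringAction H A] [SMulCommClass H R A]

/-- the subalgebra of invariants of a subgroup -/
abbrev FS (R : Type u) (A : Type v) {H : Type w} [CommRing R] [CommRing A] [Algebra R A] [Group H]
    [MulSemiringAction H A] [SMulCommClass H R A] (H' : Subgroup H) : Subalgebra R A :=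
  FixedPoints.subalgebra R A H'

theorem mem_FS (H' : Subgroup H) (a : A) : a ∈ FS R A H' ↔ ∀ h : H, h ∈ H' → h • a = a := by
  constructor
  · intro h g hg
    exact h ⟨g, hg⟩
  · intro h g
    exact h g.1 g.2

theorem FS_mono {H' H'' : Subgroup H} (h : H' ≤ H'') : FS R A H'' ≤ FS R A H' := by
  intro a ha
  rw [mem_FS] at ha ⊢
  exact fun g hg => ha g (h hg)

theorem quot_smul_coe' (N : Subgroup H) [N.Normal] (σ : H) (x : FS R A N) :
    (((QuotientGroup.mk σ : H ⧸ N) • x : FS R A N) : A) = σ • (x : A) := rfl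

theorem exists_rep (H₁ H₂ : Subgroup H) [H₁.Normal] (hsup : H₁ ⊔ H₂ = ⊤) (c : H ⧸ H₁) :
    ∃ h : H, h ∈ H₂ ∧ (QuotientGroup.mk h : H ⧸ H₁) = c := by
  obtain ⟨g, rfl⟩ := QuotientGroup.mk_surjective c
  have hg : g ∈ ((H₁ ⊔ H₂ : Subgroup H) : Set H) := by rw [hsup]; trivial
  rw [Subgroup.normal_mul] at hg
  obtain ⟨h₁, hh₁, h₂, hh₂, rfl⟩ := hg
  refine ⟨h₂, hh₂, ?_⟩
  rw [QuotientGroup.eq]
  have : h₂⁻¹ * (h₁ * h₂) = h₂⁻¹ * h₁ * h₂ := by group
  rw [this]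
  exact ‹H₁.Normal›.conj_mem' h₁ hh₁ h₂

section descent

variable (H₁ H₂ : Subgroup H) [H₁.Normal] [Fintype (H ⧸ H₁)] (ρ : H ⧸ H₁ → H)
  (hρ₂ : ∀ c, ρ c ∈ H₂) (hρ : ∀ c, (QuotientGroup.mk (ρ c) : H ⧸ H₁) = c)

/-- the trace along representatives -/
def tr (z : A) : A := ∑ c : H ⧸ H₁, ρ c • z

include hρ in
theorem smul_coe_eq_rep (c : H ⧸ H₁) (y : FS R A H₁) :
    ((c • y : FS R A H₁) : A) = ρ c • (y : A) := by
  conv_lhs => rw [← hρ c]
  rfl

include hρ₂ hρ in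
theorem tr_mem (z : A) (hz : z ∈ FS R A (H₁ ⊓ H₂)) : tr H₁ ρ z ∈ FS R A H₂ := by
  rw [mem_FS] at hz ⊢
  intro τ hτ
  unfold tr
  rw [Finset.smul_sum]
  have h1 : ∀ c : H ⧸ H₁, τ • ρ c • z = ρ ((QuotientGroup.mk τ : H ⧸ H₁) * c) • z := by
    intro c
    rw [← mul_smul]
    have h2 : (τ * ρ c)⁻¹ * ρ ((QuotientGroup.mk τ : H ⧸ H₁) * c) ∈ H₁ ⊓ H₂ := by
      refine Subgroup.mem_inf.mpr ⟨?_, ?_⟩
      · rw [← QuotientGroup.eq, QuotientGroup.mk_mul, hρ, hρ]
      · exact H₂.mul_mem (H₂.inv_mem (H₂.mul_mem hτ (hρ₂ c))) (hρ₂ _)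
    have h3 := hz _ h2
    rw [mul_smul, inv_smul_eq_iff] at h3
    exact h3.symm
  rw [Finset.sum_congr rfl (fun c _ => h1 c)]
  exact Fintype.sum_equiv (Equiv.mulLeft (QuotientGroup.mk τ : H ⧸ H₁)) _ _ (fun c => rfl)

include hρ₂ hρ in
theorem rep_one_smul (m : A) (hm : m ∈ FS R A (H₁ ⊓ H₂)) : ρ 1 • m = m := by
  rw [mem_FS] at hm
  apply hm
  refine Subgroup.mem_inf.mpr ⟨?_, hρ₂ 1⟩
  rw [← QuotientGroup.eq_one_iff]
  exact hρ 1

/-- the homomorphisms `x ⊗ y ↦ x * c • y`. -/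
noncomputable def phi (R : Type u) (A : Type v) {H : Type w} [CommRing R] [CommRing A] [Algebra R A]
    [Group H] [MulSemiringAction H A] [SMulCommClass H R A] (H₁ : Subgroup H) [H₁.Normal]
    (c : H ⧸ H₁) : FS R A H₁ ⊗[R] FS R A H₁ →ₐ[R] FS R A H₁ :=
  Algebra.TensorProduct.productMap (AlgHom.id R (FS R A H₁))
    (MulSemiringAction.toAlgHom R (FS R A H₁) c)

theorem phi_tmul (c : H ⧸ H₁) (x y : FS R A H₁) : phi R A H₁ c (x ⊗ₜ[R] y) = x * c • y := by
  unfold phi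
  rw [Algebra.TensorProduct.productMap_apply_tmul]
  rfl

theorem phi_one_surjective : Function.Surjective (phi R A H₁ 1) := by
  intro x
  refine ⟨x ⊗ₜ[R] 1, ?_⟩
  rw [phi_tmul, smul_one, mul_one]

/-- the ideals `J_c`. -/
def Jc (R : Type u) (A : Type v) {H : Type w} [CommRing R] [CommRing A] [Algebra R A]
    [Group H] [MulSemiringAction H A] [SMulCommClass H R A] (H₁ : Subgroup H) [H₁.Normal]
    (c : H ⧸ H₁) : Ideal (FS R A H₁) :=
  Ideal.span (Set.range fun y : FS R A H₁ => c • y - y)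

theorem Jc_le (c : H ⧸ H₁) :
    Jc R A H₁ c ≤ Ideal.map (phi R A H₁ 1) (RingHom.ker (phi R A H₁ c)) := by
  unfold Jc
  rw [Ideal.span_le]
  rintro _ ⟨y, rfl⟩
  have h1 : (c • y) ⊗ₜ[R] (1 : FS R A H₁) - (1 : FS R A H₁) ⊗ₜ[R] y ∈
      RingHom.ker (phi R A H₁ c) := by
    rw [RingHom.mem_ker, map_sub, phi_tmul, phi_tmul, smul_one, mul_one, one_mul, sub_self]
  have h2 := Ideal.mem_map_of_mem (phi R A H₁ 1) h1
  rw [map_sub, phi_tmul, phi_tmul, smul_one, mul_one, one_mul, one_smul] at h2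
  exact h2

theorem prod_Jc_le (F : Finset (H ⧸ H₁)) :
    ∏ c ∈ F, Jc R A H₁ c ≤
      Ideal.map (phi R A H₁ 1) (F.inf fun c => RingHom.ker (phi R A H₁ c)) := by
  classical
  induction F using Finset.induction_on with
  | empty =>
    rw [Finset.prod_empty, Finset.inf_empty,
      Ideal.map_top]
    exact le_top
  | insert a F ha ih =>
    rw [Finset.prod_insert ha, Finset.inf_insert]
    refine le_trans (Ideal.mul_mono (Jc_le H₁ a) ih) ?_
    rw [← Ideal.map_mul]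
    exact Ideal.map_mono Ideal.mul_le_inf

/-- the trace along representatives, as a linear map -/
noncomputable def trL : A →ₗ[R] A := ∑ c : H ⧸ H₁, DistribSMul.toLinearMap R A (ρ c)

theorem trL_apply (z : A) : trL (R := R) H₁ ρ z = tr H₁ ρ z := by
  unfold trL tr
  rw [LinearMap.sum_apply]
  rfl

/-- the bilinear map `(x, y) ↦ x * tr (y * m)`. -/
noncomputable def psi (m : A) : FS R A H₁ ⊗[R] FS R A H₁ →ₗ[R] A :=
  TensorProduct.lift (LinearMap.mk₂ R
    (fun x y : FS R A H₁ => (x : A) * trL (R := R) H₁ ρ ((y : A) * m))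
    (fun x₁ x₂ y => by
      show ((x₁ + x₂ : FS R A H₁) : A) * _ = _
      rw [Subalgebra.coe_add, add_mul])
    (fun c x y => by
      show ((c • x : FS R A H₁) : A) * _ = _
      rw [Subalgebra.coe_smul, Algebra.smul_mul_assoc])
    (fun x y₁ y₂ => by
      show (x : A) * trL (R := R) H₁ ρ (((y₁ + y₂ : FS R A H₁) : A) * m) = _
      rw [Subalgebra.coe_add, add_mul, map_add, mul_add])
    (fun c x y => by
      show (x : A) * trL (R := R) H₁ ρ (((c • y : FS R A H₁) : A) * m) = _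
      rw [Subalgebra.coe_smul, Algebra.smul_mul_assoc, map_smul, mul_smul_comm]))

theorem psi_tmul (m : A) (x y : FS R A H₁) :
    psi H₁ ρ m (x ⊗ₜ[R] y) = (x : A) * tr H₁ ρ ((y : A) * m) := by
  unfold psi
  rw [TensorProduct.lift.tmul, LinearMap.mk₂_apply, trL_apply]

include hρ in
theorem psi_eq_sum (m : A) (ε : FS R A H₁ ⊗[R] FS R A H₁) :
    psi H₁ ρ m ε = ∑ c : H ⧸ H₁, ((phi R A H₁ c ε : FS R A H₁) : A) * ρ c • m := by
  induction ε using TensorProduct.induction_on with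
  | zero => simp
  | tmul x y =>
    rw [psi_tmul]
    unfold tr
    rw [Finset.mul_sum]
    refine Finset.sum_congr rfl (fun c _ => ?_)
    rw [phi_tmul, Subalgebra.coe_mul, smul_coe_eq_rep H₁ ρ hρ, smul_mul', mul_assoc]
  | add x y hx hy =>
    rw [map_add, hx, hy, ← Finset.sum_add_distrib]
    refine Finset.sum_congr rfl (fun c _ => ?_)
    rw [map_add, Subalgebra.coe_add, add_mul]

include hρ₂ hρ in
theorem psi_mem (m : A) (hm : m ∈ FS R A (H₁ ⊓ H₂)) (ε : FS R A H₁ ⊗[R] FS R A H₁) :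
    psi H₁ ρ m ε ∈ FS R A H₁ ⊔ FS R A H₂ := by
  induction ε using TensorProduct.induction_on with
  | zero => rw [map_zero]; exact zero_mem _
  | tmul x y =>
    rw [psi_tmul]
    refine mul_mem ((le_sup_left : FS R A H₁ ≤ _) x.2) ((le_sup_right : FS R A H₂ ≤ _) ?_)
    apply tr_mem H₁ H₂ ρ hρ₂ hρ
    exact mul_mem (FS_mono inf_le_left y.2) hm
  | add x y hx hy =>
    rw [map_add]
    exact add_mem hx hy

include hρ₂ hρ in
/-- the descent lemma: `(∏_{c ≠ 1} J_c) · A^{H₁ ⊓ H₂} ⊆ A^{H₁} ⊔ A^{H₂}`. -/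
theorem mul_mem_sup [DecidableEq (H ⧸ H₁)] (e : FS R A H₁)
    (he : e ∈ ∏ c ∈ (Finset.univ.erase (1 : H ⧸ H₁)), Jc R A H₁ c) (m : A)
    (hm : m ∈ FS R A (H₁ ⊓ H₂)) : (e : A) * m ∈ FS R A H₁ ⊔ FS R A H₂ := by
  have h1 := prod_Jc_le (R := R) (A := A) H₁ (Finset.univ.erase (1 : H ⧸ H₁)) he
  rw [Ideal.mem_map_iff_of_surjective _ (phi_one_surjective H₁)] at h1
  obtain ⟨ε, hε, hεe⟩ := h1
  have h2 := psi_mem H₁ H₂ ρ hρ₂ hρ m hm ε
  rw [psi_eq_sum H₁ ρ hρ, Finset.sum_eq_single (1 : H ⧸ H₁)] at h2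
  · rw [hεe, rep_one_smul H₁ H₂ ρ hρ₂ hρ m hm] at h2
    exact h2
  · intro c _ hc
    have h3 : ε ∈ RingHom.ker (phi R A H₁ c) :=
      (Submodule.mem_finsetInf.mp hε) c (Finset.mem_erase.mpr ⟨hc, Finset.mem_univ _⟩)
    rw [RingHom.mem_ker] at h3
    rw [h3, ZeroMemClass.coe_zero, zero_mul]
  · intro h
    exact absurd (Finset.mem_univ _) h

end descent

end Groth.Agent.Lib.Helper20.WQ
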