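import Mathlib
import Groth.Agent.Lib.Helper20.WQA

/-!
# Linear disjointness of rings of invariants (helper20)
-/

set_option autoImplicit false
set_option linter.style.haveILetI false
set_option linter.unusedSectionVars false
universe u v w

namespace Groth.Agent.Lib.Helper20.WQ

open scoped Pointwise TensorProduct

variable {R : Type u} {A : Type v} {H : Type w} [CommRing R] [CommRing A] [Algebra R A] [Group H]
  [MulSemiringAction H A] [SMulCommClass H R A]

section disjoint

variable (H₁ H₂ : Subgroup H) [H₁.Normal] [Fintype (H ⧸ H₁)] (ρ : H ⧸ H₁ → H)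
  (hρ₂ : ∀ c, ρ c ∈ H₂) (hρ : ∀ c, (QuotientGroup.mk (ρ c) : H ⧸ H₁) = c)

include hρ in
theorem tr_invariant (z : A) (hz : z ∈ FS R A H₁) (τ : H) : τ • tr H₁ ρ z = tr H₁ ρ z := by
  have h1 : z ∈ FS R A (H₁ ⊓ ⊤) := by rw [inf_top_eq]; exact hz
  have h2 := tr_mem (R := R) H₁ ⊤ ρ (fun _ => Subgroup.mem_top _) hρ z h1
  rw [mem_FS] at h2
  exact h2 τ (Subgroup.mem_top _)

/-- the characters `y ↦ ρ c • y` on `A^{H₁}`. -/
def chi (c : H ⧸ H₁) : FS R A H₁ →* A :=
  ((MulSemiringAction.toRingHom H A (ρ c)).comp (FS R A H₁).subtype : FS R A H₁ →+* A)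

theorem chi_apply (c : H ⧸ H₁) (y : FS R A H₁) : chi (R := R) H₁ ρ c y = ρ c • (y : A) := rfl

include hρ in
theorem chi_injective (hfix₁ : ∀ σ : H, (∀ y : FS R A H₁, σ • (y : A) = y) → σ ∈ H₁) :
    Function.Injective (chi (R := R) (A := A) H₁ ρ) := by
  intro c c' hcc'
  rw [← hρ c, ← hρ c', QuotientGroup.eq]
  apply hfix₁
  intro y
  have h1 := DFunLike.congr_fun hcc' y
  rw [chi_apply, chi_apply] at h1
  rw [mul_smul, ← h1, inv_smul_smul]

include hρ₂ hρ in
theorem linearIndependent_basis [IsDomain A]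
    (hfixH : ∀ a : A, (∀ h : H, h • a = a) → a ∈ Set.range (algebraMap R A))
    (hfix₁ : ∀ σ : H, (∀ y : FS R A H₁, σ • (y : A) = y) → σ ∈ H₁)
    {ι : Type*} (b : Module.Basis ι R (FS R A H₂)) :
    LinearIndependent (FS R A H₁) ((FS R A H₂).val ∘ b) := by
  classical
  rw [linearIndependent_iff']
  intro s g hg i hi
  -- step 1: traces vanish
  have htr : ∀ (y : FS R A H₁) (j : ι), j ∈ s → tr H₁ ρ ((y : A) * (g j : A)) = 0 := by
    intro y
    have h1 : ∑ j ∈ s, tr H₁ ρ ((y : A) * (g j : A)) * ((b j : FS R A H₂) : A) = 0 := by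
      have h2 : ∀ c : H ⧸ H₁, ∑ j ∈ s, ρ c • ((y : A) * (g j : A)) * ((b j : FS R A H₂) : A) = 0 := by
        intro c
        have h3 : ρ c • ((y : A) * ∑ j ∈ s, (g j : A) * ((b j : FS R A H₂) : A)) = 0 := by
          have h4 : ∑ j ∈ s, (g j : A) * ((b j : FS R A H₂) : A) = 0 := by
            rw [← hg]
            refine Finset.sum_congr rfl (fun j _ => ?_)
            rfl
          rw [h4, mul_zero, smul_zero]
        rw [Finset.mul_sum, Finset.smul_sum] at h3
        rw [← h3]
        refine Finset.sum_congr rfl (fun j _ => ?_)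
        have h5 : ρ c • ((b j : FS R A H₂) : A) = b j := (mem_FS H₂ _).mp (b j).2 (ρ c) (hρ₂ c)
        conv_rhs => rw [← mul_assoc, smul_mul', h5]
      unfold tr
      simp_rw [Finset.sum_mul]
      rw [Finset.sum_comm]
      exact Finset.sum_eq_zero (fun c _ => h2 c)
    -- traces are in `R`
    have h6 : ∀ j, ∃ r : R, algebraMap R A r = tr H₁ ρ ((y : A) * (g j : A)) := by
      intro j
      apply hfixH
      intro τ
      exact tr_invariant H₁ ρ hρ _ (mul_mem y.2 (g j).2) τ
    choose r hr using h6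
    have h7 : ∑ j ∈ s, r j • b j = 0 := by
      apply Subtype.ext
      rw [ZeroMemClass.coe_zero, ← h1, AddSubmonoidClass.coe_finsetSum]
      refine Finset.sum_congr rfl (fun j _ => ?_)
      rw [← hr j, Subalgebra.coe_smul, Algebra.smul_def]
    have h8 := (linearIndependent_iff'.mp b.linearIndependent) s r h7
    intro j hj
    rw [← hr j, h8 j hj, map_zero]
  -- step 2: Dedekind independence
  have hli := (linearIndependent_monoidHom (FS R A H₁) A).comp (chi (R := R) (A := A) H₁ ρ)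
    (chi_injective H₁ ρ hρ hfix₁)
  have h9 : ∑ c : H ⧸ H₁, (ρ c • (g i : A)) • ((fun f : FS R A H₁ →* A => (f : FS R A H₁ → A)) ∘
      chi (R := R) (A := A) H₁ ρ) c = 0 := by
    funext y
    rw [Finset.sum_apply, Pi.zero_apply, ← htr y i hi]
    unfold tr
    refine Finset.sum_congr rfl (fun c _ => ?_)
    rw [Pi.smul_apply, Function.comp_apply, smul_eq_mul, chi_apply, smul_mul', mul_comm]
  have h10 := (Fintype.linearIndependent_iff.mp hli) (fun c => ρ c • (g i : A)) h9 1
  have h11 : (g i : A) = 0 := by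
    have := congrArg (fun a => (ρ 1)⁻¹ • a) h10
    simpa using this
  exact Subtype.ext h11

include hρ₂ hρ in
theorem linearDisjoint [IsDomain A]
    (hfixH : ∀ a : A, (∀ h : H, h • a = a) → a ∈ Set.range (algebraMap R A))
    (hfix₁ : ∀ σ : H, (∀ y : FS R A H₁, σ • (y : A) = y) → σ ∈ H₁)
    [Module.Free R (FS R A H₂)] : (FS R A H₁).LinearDisjoint (FS R A H₂) :=
  Subalgebra.LinearDisjoint.of_basis_right _ _ (Module.Free.chooseBasis R (FS R A H₂))
    (linearIndependent_basis H₁ H₂ ρ hρ₂ hρ hfixH hfix₁ _)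

end disjoint

end Groth.Agent.Lib.Helper20.WQ
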