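import Mathlib
import Groth.Agent.Lib.Helper20.WQB
import Groth.Agent.Lib.Helper20.PG1

/-!
# Rings of invariants: conductor estimate at primes with small inertia (helper20)
-/

set_option autoImplicit false
set_option linter.style.haveILetI false
set_option linter.unusedSectionVars false
universe u v w

namespace Groth.Agent.Lib.Helper20.WQ

open scoped Pointwise TensorProduct

variable {R : Type u} {A : Type v} {H : Type w} [CommRing R] [CommRing A] [Algebra R A] [Group H]
  [MulSemiringAction H A] [SMulCommClass H R A]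

/-- finite group version of `FQ.inertia_quot_le`. -/
theorem inertia_quot_le_finite [Finite H] (N : Subgroup H) [N.Normal] (P : Ideal A) [P.IsPrime] :
    (P.under (FixedPoints.subalgebra R A N)).inertia (H ⧸ N) ≤
      (P.inertia H).map (QuotientGroup.mk' N) := by
  letI : TopologicalSpace H := ⊥
  haveI : DiscreteTopology H := ⟨rfl⟩
  letI : TopologicalSpace A := ⊥
  haveI : DiscreteTopology A := ⟨rfl⟩
  haveI : IsTopologicalGroup H := { }
  haveI : CompactSpace H := Finite.compactSpace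
  haveI : ContinuousSMul H A := ⟨continuous_of_discreteTopology⟩
  exact FQ.inertia_quot_le N (isOpen_discrete _) P

theorem inertia_smul_eq (hcomm : ∀ g h : H, g * h = h * g) (g : H) (P : Ideal A) :
    (g • P).inertia H = P.inertia H := by
  ext τ
  rw [AddSubgroup.mem_inertia, AddSubgroup.mem_inertia]
  constructor
  · intro h a
    have h1 := h (g • a)
    have h2 : τ • g • a - g • a = g • (τ • a - a) := by
      rw [smul_sub, ← mul_smul, ← mul_smul, hcomm τ g]
    rw [h2] at h1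
    exact (Ideal.smul_mem_pointwise_smul_iff).mp h1
  · intro h a
    have h1 := h (g⁻¹ • a)
    have h2 : τ • a - a = g • (τ • g⁻¹ • a - g⁻¹ • a) := by
      rw [smul_sub, smul_inv_smul, ← mul_smul, ← mul_smul, hcomm g τ, mul_inv_cancel_right]
    rw [h2]
    exact Ideal.smul_mem_pointwise_smul _ _ _ h1

section oneside

variable [Finite H] (H₁ H₂ : Subgroup H) [H₁.Normal] (hsup : H₁ ⊔ H₂ = ⊤)

include hsup in
set_option maxHeartbeats 800000 in
/-- if all primes of `A` over `𝔭` have inertia group inside `H₁`, then some `r ∉ 𝔭` multiplies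
`A^{H₁ ⊓ H₂}` into `A^{H₁} ⊔ A^{H₂}`. -/
theorem exists_notMem_smul_mem [Algebra.IsIntegral R A] (𝔭 : Ideal R) [𝔭.IsPrime]
    (hI : ∀ P : Ideal A, P.IsPrime → P.comap (algebraMap R A) = 𝔭 → P.inertia H ≤ H₁)
    (z : A) (hz : z ∈ FS R A (H₁ ⊓ H₂)) :
    ∃ r : R, r ∉ 𝔭 ∧ r • z ∈ FS R A H₁ ⊔ FS R A H₂ := by
  classical
  cases nonempty_fintype (H ⧸ H₁)
  choose ρ hρ₂ hρ using exists_rep H₁ H₂ hsup
  by_contra hcon
  push Not at hcon
  haveI : Algebra.IsIntegral R (FS R A H₁) :=
    Algebra.IsIntegral.of_injective (FS R A H₁).val Subtype.val_injective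
  haveI : Algebra.IsIntegral (FS R A H₁) A := Algebra.IsIntegral.tower_top R
  have h𝔟 : (∏ c ∈ (Finset.univ.erase (1 : H ⧸ H₁)), Jc R A H₁ c).comap
      (algebraMap R (FS R A H₁)) ≤ 𝔭 := by
    intro r hr
    by_contra hr𝔭
    apply hcon r hr𝔭
    have h1 := mul_mem_sup H₁ H₂ ρ hρ₂ hρ (algebraMap R (FS R A H₁) r) (Ideal.mem_comap.mp hr) z hz
    rw [Algebra.smul_def]
    exact h1
  obtain ⟨𝔮, h𝔮le, h𝔮prime, h𝔮over⟩ := Ideal.exists_ideal_over_prime_of_isIntegral 𝔭 _ h𝔟
  obtain ⟨c, hc, hcle⟩ := (Ideal.IsPrime.prod_le h𝔮prime).mp h𝔮le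
  obtain ⟨P', -, hP'prime, hP'over⟩ := Ideal.exists_ideal_over_prime_of_isIntegral 𝔮
    (⊥ : Ideal A) (by
      intro y hy
      have h1 : algebraMap (FS R A H₁) A y = 0 := by simpa using hy
      have h2 : y = 0 := Subtype.ext h1
      rw [h2]
      exact zero_mem _)
  have hc_in : c ∈ (P'.under (FixedPoints.subalgebra R A H₁)).inertia (H ⧸ H₁) := by
    rw [AddSubgroup.mem_inertia]
    intro y
    have h1 : c • y - y ∈ 𝔮 := hcle (Ideal.subset_span ⟨y, rfl⟩)
    rw [← hP'over] at h1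
    exact h1
  obtain ⟨σ, hσ, rfl⟩ := inertia_quot_le_finite (R := R) H₁ P' hc_in
  have hσ₁ : σ ∈ H₁ := by
    refine hI P' hP'prime ?_ hσ
    rw [← h𝔮over, ← hP'over, Ideal.comap_comap]
    rfl
  have : (QuotientGroup.mk' H₁ σ) = 1 := (QuotientGroup.eq_one_iff σ).mpr hσ₁
  exact (Finset.mem_erase.mp hc).1 this

end oneside

end Groth.Agent.Lib.Helper20.WQ
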