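import Mathlib
import Groth.Agent.Lib.Helper20.WQC
import Groth.Agent.Lib.Helper18.AnUnram1
import Groth.Agent.Lib.Helper18.Hull

/-!
# Rings of invariants: the binary generation lemma (helper20)
-/

set_option autoImplicit false
set_option linter.style.haveILetI false
set_option linter.unusedSectionVars false
universe u v w

namespace Groth.Agent.Lib.Helper20.WQ

open scoped Pointwise TensorProduct

/-- depth-two extension for free submodules over a Noetherian normal domain. -/
theorem mem_of_forall_smul_mem {R : Type u} {M : Type v} [CommRing R] [IsDomain R]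
    [IsNoetherianRing R] [IsIntegrallyClosed R] [AddCommGroup M] [Module R M]
    (htf : ∀ (a : R) (m : M), a ≠ 0 → a • m = 0 → m = 0)
    (B : Submodule R M) [Module.Free R B] (𝔭 : Ideal R) (h𝔭 : ¬ 𝔭.height ≤ 1)
    (z : M) (hz : ∀ r ∈ 𝔭, r • z ∈ B) : z ∈ B := by
  classical
  have h𝔭bot : 𝔭 ≠ ⊥ := by
    rintro rfl
    apply h𝔭
    rw [Ideal.height_bot]
    exact zero_le_one
  obtain ⟨a, ha, ha0⟩ := Submodule.exists_mem_ne_zero_of_ne_bot h𝔭bot
  obtain ⟨b⟩ : Nonempty (Module.Basis _ R B) := ⟨Module.Free.chooseBasis R B⟩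
  obtain ⟨y, hy⟩ : ∃ y : B, (y : M) = a • z := ⟨⟨a • z, hz a ha⟩, rfl⟩
  have key : ∀ k, ∃ w : R, b.repr y k = a * w := by
    intro k
    by_contra hk
    have hne : (Ideal.Quotient.mk (Ideal.span {a}) (b.repr y k)) ≠ 0 := by
      rw [Ne, Ideal.Quotient.eq_zero_iff_mem, Ideal.mem_span_singleton']
      rintro ⟨c, hc⟩
      exact hk ⟨c, by rw [← hc, mul_comm]⟩
    obtain ⟨P, hP, hle⟩ := exists_le_isAssociatedPrime_of_isNoetherianRing R _ hne
    have h1 := Groth.Agent.Lib.Helper18.Nag.height_le_one_of_mem_associatedPrimes_span R a ha0 P hP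
    have h2 : 𝔭 ≤ P := by
      intro r hr
      apply hle
      rw [Submodule.mem_colon_singleton, Submodule.mem_bot]
      obtain ⟨u, hu⟩ : ∃ u : B, (u : M) = r • z := ⟨⟨r • z, hz r hr⟩, rfl⟩
      have h3 : r • y = a • u := by
        apply Subtype.ext
        rw [Submodule.coe_smul, Submodule.coe_smul, hy, hu, smul_comm]
      have h4 : r * b.repr y k = a * b.repr u k := by
        have := congrArg (fun t => b.repr t k) h3
        simpa using this
      show Ideal.Quotient.mk (Ideal.span {a}) (r * b.repr y k) = 0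
      rw [Ideal.Quotient.eq_zero_iff_mem, h4]
      exact Ideal.mul_mem_right _ _ (Ideal.mem_span_singleton_self a)
    exact h𝔭 ((Ideal.height_mono h2).trans h1)
  obtain ⟨g, hg⟩ : ∃ g : R → R, ∀ t, (∃ w, t = a * w) → t = a * g t := by
    refine ⟨fun t => if h : ∃ w, t = a * w then Classical.choose h else 0, fun t ht => ?_⟩
    simp only [dif_pos ht]
    exact Classical.choose_spec ht
  have hg0 : g 0 = 0 := by
    have := hg 0 ⟨0, by simp⟩
    exact (mul_eq_zero.mp this.symm).resolve_left ha0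
  have h5 : b.repr y = a • (b.repr y).mapRange g hg0 := by
    ext k
    rw [Finsupp.smul_apply, Finsupp.mapRange_apply, smul_eq_mul]
    exact hg _ (key k)
  have h6 : y = a • b.repr.symm ((b.repr y).mapRange g hg0) := by
    apply b.repr.injective
    rw [map_smul, LinearEquiv.apply_symm_apply]
    exact h5
  have h7 : a • (z - (b.repr.symm ((b.repr y).mapRange g hg0) : M)) = 0 := by
    rw [smul_sub, ← hy, ← Submodule.coe_smul, ← h6, sub_self]
  have h8 := htf a _ ha0 h7
  rw [sub_eq_zero] at h8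
  rw [h8]
  exact Submodule.coe_mem _

variable {R : Type u} {A : Type v} {H : Type w} [CommRing R] [CommRing A] [Algebra R A] [Group H]
  [MulSemiringAction H A] [SMulCommClass H R A]

/-- a commutative group has only normal subgroups. -/
theorem normal_of_comm (hcomm : ∀ g h : H, g * h = h * g) (K : Subgroup H) : K.Normal :=
  ⟨fun n hn g => by rw [hcomm g n, mul_inv_cancel_right]; exact hn⟩

theorem isInvariant_of_hfix
    (hfixH : ∀ a : A, (∀ h : H, h • a = a) → a ∈ Set.range (algebraMap R A)) :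
    Algebra.IsInvariant R A H :=
  ⟨fun b hb => hfixH b hb⟩

set_option maxHeartbeats 800000 in
/-- **Binary generation lemma.** -/
theorem sup_eq_of_inertia [Finite H] [IsDomain A] [IsDomain R] [IsNoetherianRing R]
    [IsIntegrallyClosed R] [Module.Finite R A]
    (hcomm : ∀ g h : H, g * h = h * g)
    (hinj : Function.Injective (algebraMap R A))
    (hfixH : ∀ a : A, (∀ h : H, h • a = a) → a ∈ Set.range (algebraMap R A))
    (H₁ H₂ : Subgroup H) (hsup : H₁ ⊔ H₂ = ⊤)
    (hfix₁ : ∀ σ : H, (∀ y : FS R A H₁, σ • (y : A) = y) → σ ∈ H₁)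
    [Module.Free R (FS R A H₁)] [Module.Free R (FS R A H₂)]
    (hI : ∀ P : Ideal A, P.IsPrime → P.height ≤ 1 → P.inertia H ≤ H₁ ∨ P.inertia H ≤ H₂) :
    FS R A H₁ ⊔ FS R A H₂ = FS R A (H₁ ⊓ H₂) ∧ Module.Free R ↥(FS R A H₁ ⊔ FS R A H₂) := by
  classical
  haveI : H₁.Normal := normal_of_comm hcomm H₁
  haveI : H₂.Normal := normal_of_comm hcomm H₂
  haveI : Algebra.IsInvariant R A H := isInvariant_of_hfix hfixH
  haveI : Algebra.IsIntegral R A := inferInstance
  cases nonempty_fintype (H ⧸ H₁)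
  choose ρ hρ₂ hρ using exists_rep H₁ H₂ hsup
  have hLD := linearDisjoint H₁ H₂ ρ hρ₂ hρ hfixH hfix₁
  have hfree : Module.Free R ↥(FS R A H₁ ⊔ FS R A H₂) := hLD.sup_free_of_free
  refine ⟨?_, hfree⟩
  apply le_antisymm (sup_le (FS_mono inf_le_left) (FS_mono inf_le_right))
  by_contra hnot
  obtain ⟨B, hB⟩ : ∃ B : Subalgebra R A, B = FS R A H₁ ⊔ FS R A H₂ := ⟨_, rfl⟩
  obtain ⟨C, hC⟩ : ∃ C : Subalgebra R A, C = FS R A (H₁ ⊓ H₂) := ⟨_, rfl⟩
  rw [← hB, ← hC] at hnot
  rw [← hB] at hfree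
  obtain ⟨N, hN⟩ : ∃ N : Submodule R A, N = Subalgebra.toSubmodule B := ⟨_, rfl⟩
  have hNmem : ∀ a : A, a ∈ N ↔ a ∈ B := fun a => by rw [hN, Subalgebra.mem_toSubmodule]
  haveI : Module.Free R N := by rw [hN]; exact hfree
  obtain ⟨M, hM⟩ : ∃ M : Submodule R (A ⧸ N), M = (Subalgebra.toSubmodule C).map N.mkQ :=
    ⟨_, rfl⟩
  have hMmem : ∀ q : A ⧸ N, q ∈ M ↔ ∃ z, z ∈ C ∧ N.mkQ z = q := fun q => by
    rw [hM]; exact Submodule.mem_map
  haveI : Nontrivial M := by
    obtain ⟨z, hzC, hzB⟩ := SetLike.not_le_iff_exists.mp hnot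
    refine ⟨⟨⟨N.mkQ z, (hMmem _).mpr ⟨z, hzC, rfl⟩⟩, 0, ?_⟩⟩
    intro h
    apply hzB
    have h1 := congrArg Subtype.val h
    rw [Submodule.coe_zero] at h1
    change N.mkQ z = 0 at h1
    rw [Submodule.mkQ_apply, Submodule.Quotient.mk_eq_zero] at h1
    exact (hNmem z).mp h1
  obtain ⟨𝔭, h𝔭⟩ := associatedPrimes.nonempty R M
  obtain ⟨h𝔭prime, x, hx⟩ := isAssociatedPrime_iff.mp h𝔭
  obtain ⟨z, hzC, hzx⟩ : ∃ z, z ∈ C ∧ N.mkQ z = (x : A ⧸ N) := (hMmem _).mp x.2
  have hmem : ∀ r : R, r ∈ 𝔭 ↔ r • z ∈ B := by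
    intro r
    rw [hx, Submodule.mem_colon_singleton, Submodule.mem_bot, ← hNmem,
      ← Submodule.Quotient.mk_eq_zero, ← Submodule.mkQ_apply, map_smul, hzx, ← Submodule.coe_smul]
    constructor
    · intro h; rw [h]; rfl
    · intro h; exact Subtype.ext h
  have hzB : z ∉ B := fun h => h𝔭prime.ne_top (by
    rw [Ideal.eq_top_iff_one, hmem, one_smul]; exact h)
  have hker : (⊥ : Ideal A).comap (algebraMap R A) ≤ 𝔭 := by
    intro r hr
    rw [Ideal.mem_comap, Ideal.mem_bot] at hr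
    have : r = 0 := hinj (by rw [hr, map_zero])
    rw [this]; exact zero_mem _
  obtain ⟨P, -, hPprime, hPover⟩ := Ideal.exists_ideal_over_prime_of_isIntegral 𝔭 _ hker
  have hall : ∀ P' : Ideal A, P'.IsPrime → P'.comap (algebraMap R A) = 𝔭 →
      P'.inertia H = P.inertia H := by
    intro P' hP' hP'over
    obtain ⟨g, hg⟩ := Algebra.IsInvariant.exists_smul_of_under_eq R A H P P'
      (by rw [Ideal.under_def, Ideal.under_def, hPover, hP'over])
    rw [hg, inertia_smul_eq hcomm]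
  by_cases hht : P.height ≤ 1
  · rcases hI P hPprime hht with h1 | h2
    · obtain ⟨r, hr, hrz⟩ := exists_notMem_smul_mem H₁ H₂ hsup 𝔭
        (fun P' hP' hP'over => by rw [hall P' hP' hP'over]; exact h1) z (by rw [← hC]; exact hzC)
      apply hr
      rw [hmem, hB]
      exact hrz
    · obtain ⟨r, hr, hrz⟩ := exists_notMem_smul_mem H₂ H₁ (by rw [sup_comm]; exact hsup) 𝔭
        (fun P' hP' hP'over => by rw [hall P' hP' hP'over]; exact h2) z
        (by rw [inf_comm, ← hC]; exact hzC)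
      apply hr
      rw [hmem, hB, sup_comm]
      exact hrz
  · have h1 := Groth.Agent.Lib.Helper18.Hull.height_le_height_comap_of_isIntegral (A := R) P
    rw [hPover] at h1
    have h2 : ¬ 𝔭.height ≤ 1 := fun h => hht (h1.trans h)
    apply hzB
    rw [← hNmem]
    apply mem_of_forall_smul_mem (R := R) (M := A) _ N 𝔭 h2 z
    · intro r hr
      rw [hNmem, ← hmem]
      exact hr
    · intro a m ha hm
      rw [Algebra.smul_def, mul_eq_zero] at hm
      rcases hm with h | h
      · exact absurd (hinj (by rw [h, map_zero])) ha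
      · exact h

end Groth.Agent.Lib.Helper20.WQ
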