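import Mathlib
import Groth.Agent.Lib.Helper20.WQD

/-!
# Rings of invariants of an elementary abelian group generated by inertia groups (helper20)
-/

set_option autoImplicit false
set_option linter.style.haveILetI false
set_option linter.unusedSectionVars false
universe u v w

namespace Groth.Agent.Lib.Helper20.WQ

open scoped Pointwise TensorProduct

/-- `n` subgroups of order `p` generating a commutative group of order `p ^ n` are independent. -/
theorem iInf_erase_eq_bot {H : Type w} [Group H] [Finite H]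
    (hcomm : ∀ g h : H, g * h = h * g) (p n : ℕ) (hcard : Nat.card H = p ^ n)
    (Gi : Fin n → Subgroup H) (hGi : ∀ i, Nat.card (Gi i) = p) (hsup : (⨆ i, Gi i) = ⊤) :
    (⨅ i, ⨆ j ∈ (Finset.univ.erase i : Finset (Fin n)), Gi j) = ⊥ := by
  classical
  have hc : Pairwise fun i j : Fin n => ∀ x y : H, x ∈ Gi i → y ∈ Gi j → Commute x y :=
    fun i j _ x y _ _ => hcomm x y
  obtain ⟨φ, hφ⟩ : ∃ φ : (∀ i, Gi i) →* H, φ = Subgroup.noncommPiCoprod hc := ⟨_, rfl⟩
  have hφs : ∀ (i : Fin n) (y : Gi i), φ (Pi.mulSingle i y) = y := fun i y => by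
    rw [hφ]; exact Subgroup.noncommPiCoprod_mulSingle i y
  have hsurj : Function.Surjective φ := by
    rw [← MonoidHom.range_eq_top, hφ, Subgroup.noncommPiCoprod_range, hsup]
  have hcardpi : Nat.card (∀ i, Gi i) = Nat.card H := by
    rw [Nat.card_pi, hcard]
    simp [hGi]
  have hinjφ : Function.Injective φ :=
    ((Nat.bijective_iff_surjective_and_card φ).mpr ⟨hsurj, hcardpi⟩).1
  rw [eq_bot_iff]
  intro h hh
  rw [Subgroup.mem_bot]
  obtain ⟨g, rfl⟩ := hsurj h
  have hg : ∀ i, g i = 1 := by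
    intro i
    have h1 : (⨆ j ∈ (Finset.univ.erase i : Finset (Fin n)), Gi j) ≤
        ((Pi.evalMonoidHom (fun i => Gi i) i).ker).map φ := by
      refine iSup₂_le (fun j hj => ?_)
      intro x hx
      refine ⟨Pi.mulSingle j ⟨x, hx⟩, ?_, hφs j ⟨x, hx⟩⟩
      rw [SetLike.mem_coe, MonoidHom.mem_ker, Pi.evalMonoidHom_apply,
        Pi.mulSingle_eq_of_ne (Finset.ne_of_mem_erase hj).symm]
    obtain ⟨g', hg', hgg'⟩ := h1 ((Subgroup.mem_iInf.mp hh) i)
    have h2 := hinjφ hgg'
    rw [← h2]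
    exact hg'
  have h3 : g = 1 := funext hg
  rw [h3, map_one]

variable {R : Type u} {A : Type v} {H : Type w} [CommRing R] [CommRing A] [Algebra R A] [Group H]
  [MulSemiringAction H A] [SMulCommClass H R A]

/-- Galois correspondence: the fixing subgroup of `A^{H'}` is `H'`. -/
theorem hfix_sub [Finite H] [IsDomain A] [FaithfulSMul H A]
    (hinj : Function.Injective (algebraMap R A))
    (hfixH : ∀ a : A, (∀ h : H, h • a = a) → a ∈ Set.range (algebraMap R A)) (H' : Subgroup H) :
    ∀ σ : H, (∀ y : FS R A H', σ • (y : A) = y) → σ ∈ H' := by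
  intro σ hσ
  haveI : IsGaloisGroup H R A := ⟨inferInstance, inferInstance, isInvariant_of_hfix hfixH⟩
  haveI : FaithfulSMul R A := (faithfulSMul_iff_algebraMap_injective R A).mpr hinj
  haveI : FaithfulSMul (FS R A H') A :=
    (faithfulSMul_iff_algebraMap_injective _ A).mpr Subtype.val_injective
  have h := IsGaloisGroup.fixingSubgroup_range_algebraMap H R (FS R A H') A H'
  rw [← h, mem_fixingSubgroup_iff]
  rintro _ ⟨y, rfl⟩
  exact hσ y

theorem inertia_bot [FaithfulSMul H A] : (⊥ : Ideal A).inertia H = ⊥ := by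
  rw [eq_bot_iff]
  intro σ hσ
  rw [Subgroup.mem_bot]
  apply FaithfulSMul.eq_of_smul_eq_smul (α := A)
  intro a
  have h1 : σ • a - a ∈ (⊥ : Ideal A) := hσ a
  rw [Ideal.mem_bot, sub_eq_zero] at h1
  rw [h1, one_smul]

theorem FS_top_eq_bot
    (hfixH : ∀ a : A, (∀ h : H, h • a = a) → a ∈ Set.range (algebraMap R A)) :
    FS R A (⊤ : Subgroup H) = ⊥ := by
  rw [eq_bot_iff]
  intro a ha
  rw [Algebra.mem_bot]
  exact hfixH a (fun h => (mem_FS _ a).mp ha h (Subgroup.mem_top h))

theorem FS_bot_eq_top : FS R A (⊥ : Subgroup H) = ⊤ := by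
  rw [eq_top_iff]
  intro a _
  rw [mem_FS]
  intro h hh
  rw [Subgroup.mem_bot] at hh
  rw [hh, one_smul]

end Groth.Agent.Lib.Helper20.WQ
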