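import Mathlib
import Groth.Agent.Lib.Helper20.WQE

/-!
# Rings of invariants generated by the invariants of the complementary subgroups (helper20)
-/

set_option autoImplicit false
set_option linter.style.haveILetI false
set_option linter.unusedSectionVars false
universe u v w

namespace Groth.Agent.Lib.Helper20.WQ

open scoped Pointwise TensorProduct

variable {R : Type u} {A : Type v} {H : Type w} [CommRing R] [CommRing A] [Algebra R A] [Group H]
  [MulSemiringAction H A] [SMulCommClass H R A]

set_option maxHeartbeats 800000 in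
theorem iSup_FS_eq_top (p : ℕ) [Finite H] [IsDomain A] [IsDomain R] [IsNoetherianRing R]
    [IsIntegrallyClosed R] [Module.Finite R A] [FaithfulSMul H A]
    (hinj : Function.Injective (algebraMap R A))
    (hfix : ∀ a : A, (∀ h : H, h • a = a) → a ∈ Set.range (algebraMap R A))
    (hcomm : ∀ g h : H, g * h = h * g)
    (n : ℕ) (hcard : Nat.card H = p ^ n) (Gi : Fin n → Subgroup H)
    (hGi : ∀ i, Nat.card (Gi i) = p) (hsup : (⨆ i, Gi i) = ⊤)
    (hMR3 : ∀ P : Ideal A, P.IsPrime → P.height = 1 → P.inertia H ≠ ⊥ → ∃ i, P.inertia H = Gi i)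
    (hMR4 : ∀ i, Module.Free R
      (FS R A (⨆ j ∈ (Finset.univ.erase i : Finset (Fin n)), Gi j))) :
    (⨆ i, FS R A (⨆ j ∈ (Finset.univ.erase i : Finset (Fin n)), Gi j)) = ⊤ := by
  classical
  have hbot := iInf_erase_eq_bot hcomm p n hcard Gi hGi hsup
  obtain ⟨Kp, hKp⟩ : ∃ Kp : Fin n → Subgroup H,
      ∀ i, (⨆ j ∈ (Finset.univ.erase i : Finset (Fin n)), Gi j) = Kp i := ⟨_, fun _ => rfl⟩
  have hMR4' : ∀ i, Module.Free R (FS R A (Kp i)) := fun i => by rw [← hKp]; exact hMR4 i
  simp only [hKp] at hbot ⊢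
  have hle : ∀ i j, j ≠ i → Gi j ≤ Kp i := by
    intro i j hji
    rw [← hKp]
    exact le_iSup₂_of_le j (Finset.mem_erase.mpr ⟨hji, Finset.mem_univ j⟩) le_rfl
  have key : ∀ S : Finset (Fin n),
      (⨆ i ∈ S, FS R A (Kp i)) = FS R A (⨅ i ∈ S, Kp i) ∧
        Module.Free R ↥(FS R A (⨅ i ∈ S, Kp i)) := by
    intro S
    induction S using Finset.induction_on with
    | empty =>
      have e0 : (⨅ i ∈ (∅ : Finset (Fin n)), Kp i) = ⊤ := by simp
      have e1 : (⨆ i ∈ (∅ : Finset (Fin n)), FS R A (Kp i)) = ⊥ := by simp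
      rw [e0, e1, FS_top_eq_bot hfix]
      refine ⟨rfl, ?_⟩
      exact Module.Free.of_equiv (Algebra.botEquivOfInjective hinj).symm.toLinearEquiv
    | insert i S hiS ih =>
      obtain ⟨ih1, ih2⟩ := ih
      haveI := ih2
      haveI := hMR4' i
      have hsup' : (⨅ j ∈ S, Kp j) ⊔ Kp i = ⊤ := by
        rw [eq_top_iff, ← hsup]
        refine iSup_le (fun j => ?_)
        by_cases hji : j = i
        · subst hji
          refine le_sup_of_le_left (le_iInf₂ (fun k hk => hle k j ?_))
          rintro rfl
          exact hiS hk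
        · exact le_sup_of_le_right (hle i j hji)
      have hI : ∀ P : Ideal A, P.IsPrime → P.height ≤ 1 →
          P.inertia H ≤ (⨅ j ∈ S, Kp j) ∨ P.inertia H ≤ Kp i := by
        intro P hP hht
        rcases hht.lt_or_eq with h0 | h1
        · rw [Order.lt_one_iff, Ideal.height_eq_zero_iff_eq_bot] at h0
          left
          rw [h0, inertia_bot]
          exact bot_le
        · by_cases hbot : P.inertia H = ⊥
          · left
            rw [hbot]
            exact bot_le
          · obtain ⟨j, hj⟩ := hMR3 P hP h1 hbot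
            rw [hj]
            by_cases hji : j = i
            · left
              subst hji
              exact le_iInf₂ (fun k hk => hle k j (by rintro rfl; exact hiS hk))
            · right
              exact hle i j hji
      obtain ⟨h1, h2⟩ := sup_eq_of_inertia hcomm hinj hfix (⨅ j ∈ S, Kp j) (Kp i) hsup'
        (hfix_sub hinj hfix _) hI
      have h3 : (⨅ j ∈ insert i S, Kp j) = (⨅ j ∈ S, Kp j) ⊓ Kp i := by
        rw [Finset.iInf_insert, inf_comm]
      have h4 : (⨆ j ∈ insert i S, FS R A (Kp j)) =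
          FS R A (⨅ j ∈ S, Kp j) ⊔ FS R A (Kp i) := by
        rw [Finset.iSup_insert, ih1, sup_comm]
      rw [h4, h3, h1]
      refine ⟨rfl, ?_⟩
      rw [← h1]
      exact h2
  obtain ⟨h1, -⟩ := key Finset.univ
  have h2 : (⨅ i ∈ (Finset.univ : Finset (Fin n)), Kp i) = ⊥ := by
    simp only [Finset.mem_univ, iInf_true]
    exact hbot
  rw [h2, FS_bot_eq_top] at h1
  simpa using h1

end Groth.Agent.Lib.Helper20.WQ
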