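import Mathlib
import Groth.Agent.Lib.Helper20.WeilCohPt

set_option autoImplicit false
universe u v w
open CategoryTheory AlgebraicGeometry CategoryTheory.Limits
open WeilCoh

namespace Groth.Agent.Lib.Helper20.WeilCohLib

variable {k : Type u} [Field k]

/-- Morphisms into a product in `Var k`. -/
theorem exists_lift {X Y Q Z : Var k} (p : Q ⟶ X) (q : Q ⟶ Y) (hQ : IsProd p q)
    (a : Z ⟶ X) (b : Z ⟶ Y) : ∃ g : Z ⟶ Q, g ≫ p = a ∧ g ≫ q = b := by
  have hw : sm a ≫ X.obj.hom = sm b ≫ Y.obj.hom := by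
    rw [show sm a ≫ X.obj.hom = Z.obj.hom from Over.w a.hom,
      show sm b ≫ Y.obj.hom = Z.obj.hom from Over.w b.hom]
  let l : Z.obj.left ⟶ Q.obj.left := hQ.lift (sm a) (sm b) hw
  have hl1 : l ≫ sm p = sm a := hQ.lift_fst _ _ _
  have hl2 : l ≫ sm q = sm b := hQ.lift_snd _ _ _
  have hQhom : sm p ≫ X.obj.hom = Q.obj.hom := Over.w p.hom
  have hlw : l ≫ Q.obj.hom = Z.obj.hom := by
    rw [← hQhom, ← Category.assoc, hl1]
    exact Over.w a.hom
  refine ⟨ObjectProperty.homMk (Over.homMk l hlw), ?_, ?_⟩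
  · apply ObjectProperty.hom_ext
    apply Over.OverMorphism.ext
    exact hl1
  · apply ObjectProperty.hom_ext
    apply Over.OverMorphism.ext
    exact hl2

variable {K : Type v} [Field K] (T : TheoryOn.{u, v, w} k (IsVar k) K)

/-- The class of (the transpose of) a graph acts as pull-back: for `g : X ⟶ Q` a section of `q`,
`q_*(p^* b · cl(g η)) = (g ≫ p)^* b`. -/
theorem push_pull_mul_cl_section [IsAlgClosed k] {X Q : Var k} (p q : Q ⟶ X) (hQ : IsProd p q)
    (g : X ⟶ Q) (hq : g ≫ q = 𝟙 X) [IrreducibleSpace X.obj.left] (j : ℤ) (b : T.H X)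
    (hb : b ∈ T.gr X j)
    (hmem : T.pull p b * T.cl Q (sm g (genericPoint X.obj.left)) ∈
      T.gr Q (j + 2 * (dim X.obj.left : ℤ))) :
    (T.push q (j + 2 * (dim X.obj.left : ℤ))
      ⟨T.pull p b * T.cl Q (sm g (genericPoint X.obj.left)), hmem⟩ : T.H X) = T.pull (g ≫ p) b := by
  have hd := dim_prod T p q hQ
  have hd' : (dim Q.obj.left : ℤ) = dim X.obj.left + dim X.obj.left := by exact_mod_cast hd
  have hcod : (codim Q.obj.left (sm g (genericPoint ↥X.obj.left)) : ℤ) = dim X.obj.left := by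
    unfold codim
    rw [pdim_section g q hq, hd]
    simp
  have hΓmem : T.cl Q (sm g (genericPoint ↥X.obj.left)) ∈ T.gr Q (2 * (dim X.obj.left : ℤ)) := by
    have := T.cl_mem Q (sm g (genericPoint ↥X.obj.left))
    rwa [hcod] at this
  refine eq_of_forall_tr_mul T j (2 * (dim X.obj.left : ℤ) - j) (by ring) _ _ ?_
    (T.pull_mem _ j b hb) ?_
  · have h := (T.push q (j + 2 * (dim X.obj.left : ℤ))
      ⟨T.pull p b * T.cl Q (sm g (genericPoint X.obj.left)), hmem⟩).2
    convert h using 2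
    rw [hd']; ring
  · intro t ht
    rw [tr_push_mul' T q _ (2 * (dim X.obj.left : ℤ) - j) _ t ht (by rw [hd']; ring)]
    show T.tr Q (T.pull p b * T.cl Q (sm g (genericPoint X.obj.left)) * T.pull q t) = _
    rw [mul_comm_of_even T _ _ _ _ (T.pull_mem p j b hb) hΓmem (Or.inr (even_two_mul _)), mul_assoc,
      tr_cl_section_mul T g q hq _ (by
        have h := SetLike.mul_mem_graded (T.pull_mem p j b hb) (T.pull_mem q _ t ht)
        convert h using 2
        ring)]
    rw [map_mul, ← AlgHom.comp_apply, ← AlgHom.comp_apply, ← T.pull_comp, ← T.pull_comp, hq,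
      T.pull_id]
    rfl

end Groth.Agent.Lib.Helper20.WeilCohLib
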