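import Mathlib
import Groth.Agent.Lib.Helper20.WeilCohCorr

set_option autoImplicit false
universe u v w
open CategoryTheory AlgebraicGeometry CategoryTheory.Limits
open WeilCoh

namespace Groth.Agent.Lib.Helper20.WeilCohLib

variable {k : Type u} [Field k] {P₀ : ObjectProperty (Over (Spec (CommRingCat.of k)))}
variable {K : Type v} [Field K] (T : TheoryOn.{u, v, w} k P₀ K)

/-- dual family to a basis of `H^i(X)` inside `H^{2 dim X - i}(X)`. -/
theorem exists_dual_family (X : P₀.FullSubcategory) (i : ℤ) {ι : Type}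
    [Fintype ι] [DecidableEq ι] (e : Module.Basis ι K (T.gr X i)) :
    ∃ f : ι → T.gr X (2 * (dim X.obj.left : ℤ) - i), ∀ a b : ι,
      T.tr X ((f b : T.H X) * (e a : T.H X)) = if a = b then 1 else 0 := by
  haveI hperf : (pairing K (T.gr X (2 * (dim X.obj.left : ℤ) - i)) (T.gr X i)
      (T.tr X)).IsPerfPair := T.duality X _ _ (by ring)
  refine ⟨fun l => (pairing K (T.gr X (2 * (dim X.obj.left : ℤ) - i)) (T.gr X i)
      (T.tr X)).toPerfPair.symm (e.coord l), fun a b => ?_⟩
  have h := LinearMap.apply_symm_toPerfPair_self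
    (pairing K (T.gr X (2 * (dim X.obj.left : ℤ) - i)) (T.gr X i) (T.tr X)) (e.coord b)
  have h2 := LinearMap.congr_fun h (e a)
  have h3 : T.tr X ((((pairing K (T.gr X (2 * (dim X.obj.left : ℤ) - i)) (T.gr X i)
      (T.tr X)).toPerfPair.symm (e.coord b) : T.gr X (2 * (dim X.obj.left : ℤ) - i)) : T.H X) *
      (e a : T.H X)) = e.coord b (e a) := h2
  rw [h3, Module.Basis.coord_apply, Module.Basis.repr_self, Finsupp.single_apply]

/-- the coordinates of a class with respect to a basis are given by pairing with the dual family -/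
theorem repr_eq_tr (X : P₀.FullSubcategory) (i : ℤ) {ι : Type}
    [Fintype ι] [DecidableEq ι] (e : Module.Basis ι K (T.gr X i))
    (f : ι → T.gr X (2 * (dim X.obj.left : ℤ) - i))
    (hf : ∀ a b : ι, T.tr X ((f b : T.H X) * (e a : T.H X)) = if a = b then 1 else 0)
    (z : T.gr X i) (a : ι) : e.repr z a = T.tr X ((f a : T.H X) * (z : T.H X)) := by
  have hz : (z : T.H X) = ∑ c : ι, (e.repr z c) • (e c : T.H X) := by
    have h := e.sum_repr z
    have h2 := congrArg (Subtype.val) h
    simp only [AddSubmonoidClass.coe_finsetSum, SetLike.val_smul] at h2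
    exact h2.symm
  conv_rhs => rw [hz]
  rw [Finset.mul_sum, map_sum]
  simp_rw [mul_smul_comm, map_smul, smul_eq_mul, hf]
  rw [Finset.sum_eq_single a]
  · simp
  · intro c _ hca
    simp [hca]
  · intro h
    exact absurd (Finset.mem_univ a) h

/-- trace of an endomorphism of `H^i(X)` through a basis and its dual family -/
theorem trace_eq_sum_tr (X : P₀.FullSubcategory) (i : ℤ) {ι : Type}
    [Fintype ι] [DecidableEq ι] (e : Module.Basis ι K (T.gr X i))
    (f : ι → T.gr X (2 * (dim X.obj.left : ℤ) - i))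
    (hf : ∀ a b : ι, T.tr X ((f b : T.H X) * (e a : T.H X)) = if a = b then 1 else 0)
    (M : T.gr X i →ₗ[K] T.gr X i) :
    LinearMap.trace K _ M = ∑ a : ι, T.tr X ((f a : T.H X) * (M (e a) : T.H X)) := by
  rw [LinearMap.trace_eq_matrix_trace K e, Matrix.trace]
  refine Finset.sum_congr rfl fun a _ => ?_
  rw [Matrix.diag_apply, LinearMap.toMatrix_apply, repr_eq_tr T X i e f hf]

section Corr

variable {X Y P : P₀.FullSubcategory} (p : P ⟶ X) (q : P ⟶ Y)

/-- The action of a class `φ ∈ H^m(P)` as a correspondence: `x ↦ q_*(p^* x · φ)`. -/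
noncomputable def corrAct (m : ℤ) (φ : T.gr P m) (i : ℤ) :
    T.gr X i →ₗ[K] T.gr Y (i + m + 2 * (dim Y.obj.left : ℤ) - 2 * (dim P.obj.left : ℤ)) :=
  (T.push q (i + m)) ∘ₗ
    ((LinearMap.mulRight K (φ : T.H P)).restrict (p := T.gr P i) (q := T.gr P (i + m))
      (fun _x hx => SetLike.mul_mem_graded hx φ.2)) ∘ₗ (T.pullDeg p i)

theorem corrAct_coe (m : ℤ) (φ : T.gr P m) (i : ℤ) (x : T.gr X i) :
    ((corrAct T p q m φ i x : T.gr Y _) : T.H Y) =
      (T.push q (i + m) ⟨T.pull p (x : T.H X) * (φ : T.H P),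
        SetLike.mul_mem_graded (T.pull_mem p i x x.2) φ.2⟩ : T.H Y) := rfl

theorem tr_corrAct_mul (m : ℤ) (φ : T.gr P m) (i : ℤ) (x : T.gr X i) (n : ℤ) (y : T.H Y)
    (hy : y ∈ T.gr Y n) (hn : n = 2 * (dim P.obj.left : ℤ) - (i + m)) :
    T.tr Y ((corrAct T p q m φ i x : T.H Y) * y) =
      T.tr P (T.pull p (x : T.H X) * (φ : T.H P) * T.pull q y) := by
  rw [corrAct_coe, tr_push_mul' T q _ n _ y hy hn]

end Corr

end Groth.Agent.Lib.Helper20.WeilCohLib
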