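import Mathlib
import Groth.Agent.Lib.Helper20.WeilCohCorr2

set_option autoImplicit false
universe u v w
open CategoryTheory AlgebraicGeometry CategoryTheory.Limits
open WeilCoh

namespace Groth.Agent.Lib.Helper20.WeilCohLib

variable {k : Type u} [Field k] {P₀ : ObjectProperty (Over (Spec (CommRingCat.of k)))}
variable {K : Type v} [Field K] (T : TheoryOn.{u, v, w} k P₀ K)
variable {X Y P : P₀.FullSubcategory} (p : P ⟶ X) (q : P ⟶ Y)

/-- A class on a product is determined by its action as a correspondence. -/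
theorem corrAct_injective (hP : IsProd p q) (m : ℤ) (φ φ' : T.gr P m)
    (h : ∀ i, corrAct T p q m φ i = corrAct T p q m φ' i) : φ = φ' := by
  apply Subtype.ext
  refine eq_of_forall_tr_mul_left T (2 * (dim P.obj.left : ℤ) - m) m (by ring) _ _ φ.2 φ'.2 ?_
  intro c _
  refine kunneth_induction T p q hP (fun c => T.tr P (c * (φ : T.H P)) = T.tr P (c * (φ' : T.H P)))
    (by simp) (fun x y hx hy => by simp only [add_mul, map_add, hx, hy]) ?_ c
  intro s t x y hx hy
  by_cases hst : s + t + m = 2 * (dim P.obj.left : ℤ)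
  · have h1 := LinearMap.congr_fun (h s) ⟨x, hx⟩
    have h2 := congrArg (fun z : T.gr Y (s + m + 2 * (dim Y.obj.left : ℤ) - 2 * (dim P.obj.left : ℤ)) =>
      T.tr Y ((z : T.H Y) * y)) h1
    rw [tr_corrAct_mul T p q m φ s ⟨x, hx⟩ t y hy (by omega),
      tr_corrAct_mul T p q m φ' s ⟨x, hx⟩ t y hy (by omega)] at h2
    have hc1 := T.gradedComm P t m _ _ (T.pull_mem q t y hy) φ.2
    have hc2 := T.gradedComm P t m _ _ (T.pull_mem q t y hy) φ'.2
    rw [mul_assoc, hc1, mul_assoc, hc2, mul_smul_comm, mul_smul_comm, map_smul, map_smul, ← mul_assoc,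
      ← mul_assoc]
    exact congrArg _ h2
  · have hv : ∀ ψ : T.H P, ψ ∈ T.gr P m →
        T.tr P (T.pull p x * T.pull q y * ψ) = 0 := by
      intro ψ hψ
      exact T.tr_vanish P (s + t + m) _
        (SetLike.mul_mem_graded (SetLike.mul_mem_graded (T.pull_mem p s x hx) (T.pull_mem q t y hy)) hψ)
        hst
    rw [hv _ φ.2, hv _ φ'.2]

section Phi0

variable (m : ℤ)
  (L : (i : ℤ) → T.gr X i →ₗ[K] T.gr Y (i + m + 2 * (dim Y.obj.left : ℤ) - 2 * (dim P.obj.left : ℤ)))
  (ι : ℕ → Type) [∀ i, Fintype (ι i)] [∀ i, DecidableEq (ι i)]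
  (e : (i : ℕ) → Module.Basis (ι i) K ↥(T.gr X (i : ℤ)))
  (f : (i : ℕ) → ι i → T.gr X (2 * (dim X.obj.left : ℤ) - i))

/-- The class on the product with prescribed action `L`. -/
noncomputable def phi0 : T.H P :=
  ∑ i ∈ Finset.range (2 * dim X.obj.left + 1), ∑ a : ι i,
    ((-1 : K) ^ i) • (T.pull p (f i a : T.H X) * T.pull q (L (i : ℤ) (e i a) : T.H Y))

omit [∀ i, DecidableEq (ι i)] in
theorem phi0_mem (hP : IsProd p q) : phi0 T p q m L ι e f ∈ T.gr P m := by
  have hd := dim_prod T p q hP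
  have hd' : (dim P.obj.left : ℤ) = dim X.obj.left + dim Y.obj.left := by exact_mod_cast hd
  refine Submodule.sum_mem _ fun i _ => Submodule.sum_mem _ fun a _ => Submodule.smul_mem _ _ ?_
  have h := SetLike.mul_mem_graded (T.pull_mem p _ _ (f i a).2)
    (T.pull_mem q _ _ (L (i : ℤ) (e i a)).2)
  convert h using 2
  rw [hd']; ring

theorem corrAct_phi0 (hP : IsProd p q)
    (hf : ∀ (i : ℕ) (a b : ι i), T.tr X ((f i b : T.H X) * (e i a : T.H X)) = if a = b then 1 else 0)
    (j : ℤ) : corrAct T p q m ⟨phi0 T p q m L ι e f, phi0_mem T p q m L ι e f hP⟩ j = L j := by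
  have hd := dim_prod T p q hP
  have hd' : (dim P.obj.left : ℤ) = dim X.obj.left + dim Y.obj.left := by exact_mod_cast hd
  apply LinearMap.ext
  intro x
  by_cases hj0 : j < 0 ∨ 2 * (dim X.obj.left : ℤ) < j
  · have hbot := T.vanish X j hj0
    have hx0 : x = 0 := by
      apply Subtype.ext
      have h1 : (x : T.H X) ∈ (⊥ : Submodule K (T.H X)) := hbot ▸ x.2
      exact (Submodule.mem_bot K).mp h1
    rw [hx0, map_zero, map_zero]
  push Not at hj0
  obtain ⟨hj1, hj2⟩ := hj0
  obtain ⟨j', rfl⟩ := Int.eq_ofNat_of_zero_le hj1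
  have hj'le : j' ≤ 2 * dim X.obj.left := by exact_mod_cast hj2
  apply Subtype.ext
  refine eq_of_forall_tr_mul T
    ((j' : ℤ) + m + 2 * (dim Y.obj.left : ℤ) - 2 * (dim P.obj.left : ℤ))
    (2 * (dim P.obj.left : ℤ) - ((j' : ℤ) + m)) (by ring) _ _
    (Subtype.mem _) (Subtype.mem _) ?_
  intro y hy
  rw [tr_corrAct_mul T p q m _ _ x _ y hy rfl]
  obtain ⟨x, hx⟩ := x
  show T.tr P (T.pull p x * phi0 T p q m L ι e f * T.pull q y) = _
  have hexp : T.pull p x * phi0 T p q m L ι e f * T.pull q y =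
      ∑ i ∈ Finset.range (2 * dim X.obj.left + 1), ∑ a : ι i,
        ((-1 : K) ^ i) • (T.pull p (x * (f i a : T.H X)) *
          T.pull q ((L (i : ℤ) (e i a) : T.H Y) * y)) := by
    simp only [phi0, Finset.mul_sum, Finset.sum_mul, mul_smul_comm, smul_mul_assoc, map_mul]
    refine Finset.sum_congr rfl fun i _ => Finset.sum_congr rfl fun a _ => ?_
    congr 1
    simp only [mul_assoc]
  rw [hexp, map_sum]
  simp_rw [map_sum, map_smul, smul_eq_mul]
  rw [Finset.sum_eq_single j']
  · have hsum : ∀ a : ι j',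
        T.tr P (T.pull p (x * (f j' a : T.H X)) * T.pull q ((L (j' : ℤ) (e j' a) : T.H Y) * y)) =
        T.tr X (x * (f j' a : T.H X)) * T.tr Y ((L (j' : ℤ) (e j' a) : T.H Y) * y) := by
      intro a
      refine T.tr_prod p q hP _ _ ?_ ?_
      · have h := SetLike.mul_mem_graded hx (f j' a).2
        convert h using 2
        ring
      · have h := SetLike.mul_mem_graded (L (j' : ℤ) (e j' a)).2 hy
        convert h using 2
        ring
    simp_rw [hsum]
    have hcoef : ∀ a : ι j', T.tr X (x * (f j' a : T.H X)) =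
        (-1 : K) ^ j' * (e j').repr ⟨x, hx⟩ a := by
      intro a
      have hc := T.gradedComm X (j' : ℤ) (2 * (dim X.obj.left : ℤ) - j') x (f j' a : T.H X) hx
        (f j' a).2
      rw [hc, map_smul, smul_eq_mul]
      have hsgn : ((-1 : K) ^ ((j' : ℤ).natAbs * (2 * (dim X.obj.left : ℤ) - j').natAbs)) =
          (-1 : K) ^ j' := by
        have h1 : ((j' : ℤ)).natAbs = j' := Int.natAbs_natCast j'
        have h2 : (2 * (dim X.obj.left : ℤ) - j').natAbs = 2 * dim X.obj.left - j' := by omega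
        rw [h1, h2]
        rcases Nat.even_or_odd j' with hev | hodd
        · rw [hev.neg_one_pow, (hev.mul_right _).neg_one_pow]
        · have : Odd (2 * dim X.obj.left - j') := by
            obtain ⟨m, hm⟩ := hodd
            exact ⟨dim X.obj.left - m - 1, by omega⟩
          rw [hodd.neg_one_pow, (hodd.mul this).neg_one_pow]
      rw [hsgn, repr_eq_tr T X (j' : ℤ) (e j') (f j') (hf j')]
    simp_rw [hcoef]
    have hLx : (L (j' : ℤ) ⟨x, hx⟩ : T.H Y) =
        ∑ a : ι j', ((e j').repr ⟨x, hx⟩ a) • (L (j' : ℤ) (e j' a) : T.H Y) := by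
      conv_lhs => rw [← (e j').sum_repr ⟨x, hx⟩]
      rw [map_sum, AddSubmonoidClass.coe_finsetSum]
      refine Finset.sum_congr rfl fun a _ => ?_
      rw [map_smul]; rfl
    rw [hLx, Finset.sum_mul, map_sum]
    refine Finset.sum_congr rfl fun a _ => ?_
    rw [smul_mul_assoc, map_smul, smul_eq_mul, ← mul_assoc, ← mul_assoc, ← pow_add]
    have : Even (j' + j') := ⟨j', rfl⟩
    rw [this.neg_one_pow, one_mul]
  · intro i _ hij
    refine Finset.sum_eq_zero fun a _ => ?_
    rw [tr_pull_mul_pull_eq_zero T p q hP ((j' : ℤ) + (2 * (dim X.obj.left : ℤ) - i)) _ _ _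
      (SetLike.mul_mem_graded hx (f i a).2)
      (SetLike.mul_mem_graded (L (i : ℤ) (e i a)).2 hy) (by
        left
        intro h
        apply hij
        have : (i : ℤ) = j' := by omega
        exact_mod_cast this), mul_zero]
  · intro h
    exact absurd (Finset.mem_range.mpr (by omega)) h

/-- Every class on a product is of the form `phi0` of its own action. -/
theorem eq_phi0 (hP : IsProd p q)
    (hf : ∀ (i : ℕ) (a b : ι i), T.tr X ((f i b : T.H X) * (e i a : T.H X)) = if a = b then 1 else 0)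
    (φ : T.gr P m) : (φ : T.H P) = phi0 T p q m (corrAct T p q m φ) ι e f := by
  have h := corrAct_injective T p q hP m φ
    ⟨phi0 T p q m (corrAct T p q m φ) ι e f, phi0_mem T p q m _ ι e f hP⟩
    (fun i => (corrAct_phi0 T p q m (corrAct T p q m φ) ι e f hP hf i).symm)
  exact congrArg Subtype.val h

end Phi0

/-- The trace is invariant under the swap of the factors of a product. -/
theorem tr_pull_swap {X Y P P' : P₀.FullSubcategory} (p : P ⟶ X) (q : P ⟶ Y) (hP : IsProd p q)
    (p' : P' ⟶ Y) (q' : P' ⟶ X) (hP' : IsProd p' q') (σ : P ⟶ P') (hσ₁ : σ ≫ p' = q)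
    (hσ₂ : σ ≫ q' = p) (c : T.H P') : T.tr P (T.pull σ c) = T.tr P' c := by
  refine kunneth_induction T p' q' hP' (fun c => T.tr P (T.pull σ c) = T.tr P' c) (by simp)
    (fun x y hx hy => by simp only [map_add, hx, hy]) ?_ c
  intro s t a b ha hb
  have hpull : T.pull σ (T.pull p' a * T.pull q' b) = T.pull q a * T.pull p b := by
    rw [map_mul, ← AlgHom.comp_apply, ← AlgHom.comp_apply, ← T.pull_comp, ← T.pull_comp, hσ₁, hσ₂]
  rw [hpull, T.gradedComm P s t _ _ (T.pull_mem q s a ha) (T.pull_mem p t b hb), map_smul, smul_eq_mul]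
  by_cases hst : s = 2 * (dim Y.obj.left : ℤ) ∧ t = 2 * (dim X.obj.left : ℤ)
  · obtain ⟨hs, ht⟩ := hst
    subst hs ht
    rw [T.tr_prod p q hP b a hb ha, T.tr_prod p' q' hP' a b ha hb]
    have he : Even ((2 * (dim Y.obj.left : ℤ)).natAbs * (2 * (dim X.obj.left : ℤ)).natAbs) :=
      (Int.natAbs_even.mpr (even_two_mul _)).mul_right _
    rw [he.neg_one_pow, one_mul, mul_comm]
  · rw [tr_pull_mul_pull_eq_zero T p q hP t s b a hb ha (by
        by_contra hcon
        push Not at hcon
        exact hst ⟨hcon.2, hcon.1⟩), mul_zero,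
      tr_pull_mul_pull_eq_zero T p' q' hP' s t a b ha hb (by
        by_contra hcon
        push Not at hcon
        exact hst ⟨hcon.1, hcon.2⟩)]

end Groth.Agent.Lib.Helper20.WeilCohLib
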