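import Mathlib
import Groth.Agent.Lib.Helper20.WeilCohCorr
import Groth.Agent.Lib.Helper29.VA7
import Groth.Agent.Lib.Helper10.OrbitDim2
import Groth.Agent.Lib.Lead.BMDim
import Groth.Agent.Lib.Helper21.OpenAt4
import Groth.Agent.Lib.Helper21.FibDim11

/-!
# Dimension bookkeeping for Weil cohomology theories

`pdim ≤ dim`, invariance of `pdim` under closed immersions and under morphisms with finite
residue extension.
-/

set_option autoImplicit false
universe u v w
open CategoryTheory AlgebraicGeometry CategoryTheory.Limits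
open WeilCoh

namespace Groth.Agent.Lib.Helper20.WeilCohLib

variable {k : Type u} [Field k]

theorem quasiCompact_hom (X : Var k) : QuasiCompact X.obj.hom := by
  obtain ⟨n, i, hi, hcomp⟩ := X.property.2.1
  rw [← hcomp]
  infer_instance

theorem locallyOfFiniteType_hom (X : Var k) : LocallyOfFiniteType X.obj.hom := by
  have : Smooth X.obj.hom := X.property.1
  infer_instance

theorem pdim_le_dim (X : Var k) (η : X.obj.left) : pdim X.obj.left η ≤ dim X.obj.left := by
  have := quasiCompact_hom X
  have := locallyOfFiniteType_hom X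
  exact Groth.Agent.Lib.Lead.BMDim.natDim_set_le _
    (Groth.Agent.Lib.Helper10.OrbitDim.dim_lt_top X.obj.hom)

theorem pdim_closedEmbedding {X Y : Scheme.{u}} (f : X ⟶ Y) [IsClosedImmersion f] (η : X) :
    pdim Y (f η) = pdim X η := by
  have hce : Topology.IsClosedEmbedding f := f.isClosedEmbedding
  have hcl : closure ({f η} : Set Y) = f '' closure ({η} : Set X) := by
    rw [← hce.closure_image_eq, Set.image_singleton]
  unfold pdim
  rw [hcl]
  exact (natDim_congr (hce.isEmbedding.homeomorphImage _)).symm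

/-- Over a one-point base, a morphism with finite residue extension at `ξ` preserves the
dimension of the closure of `ξ`. -/
theorem topologicalKrullDim_closure_eq {X Y S : Scheme.{u}} (f : X ⟶ Y) (t : Y ⟶ S)
    [LocallyOfFiniteType t] [LocallyOfFiniteType (f ≫ t)] [Subsingleton ↥S] (ξ : X)
    (hfin : f.residueDegree ξ ≠ 0) :
    topologicalKrullDim ↥(closure ({ξ} : Set X)) =
      topologicalKrullDim ↥(closure ({f ξ} : Set Y)) := by
  obtain ⟨n, hn⟩ := Groth.Agent.Lib.Helper21.FibDim.exists_nat_trdeg_residueFieldMap t (f ξ)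
  have hc : @Algebra.trdeg (Y.residueField (f ξ)) (X.residueField ξ) _ _
      (f.residueFieldMap ξ).hom.toAlgebra = ((0 : ℕ) : Cardinal) := by
    letI := (f.residueFieldMap ξ).hom.toAlgebra
    have hpos : 0 < Module.finrank (Y.residueField (f ξ)) (X.residueField ξ) :=
      Nat.pos_of_ne_zero hfin
    haveI : Module.Finite (Y.residueField (f ξ)) (X.residueField ξ) :=
      Module.finite_of_finrank_pos hpos
    rw [Nat.cast_zero]
    exact _root_.trdeg_eq_zero
  have h3 := Groth.Agent.Lib.Helper21.FibDim.trdeg_comp f t ξ n 0 hn hc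
  have h1 := Groth.Agent.Lib.Helper21.OpenAt.topologicalKrullDim_closure_inter_fiber t (f ξ) n hn
  have h2 := Groth.Agent.Lib.Helper21.OpenAt.topologicalKrullDim_closure_inter_fiber (f ≫ t) ξ
    (n + 0) h3
  have e1 : closure ({f ξ} : Set Y) ∩ t.base ⁻¹' {t (f ξ)} = closure {f ξ} :=
    Set.inter_eq_left.2 (fun x _ => Subsingleton.elim _ _)
  have e2 : closure ({ξ} : Set X) ∩ (f ≫ t).base ⁻¹' {(f ≫ t) ξ} = closure {ξ} :=
    Set.inter_eq_left.2 (fun x _ => Subsingleton.elim _ _)
  rw [e1] at h1
  rw [e2] at h2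
  rw [h1, h2, add_zero]

theorem pdim_map_of_residueDegree_ne_zero {X Y : Var k} (f : X ⟶ Y) (ξ : X.obj.left)
    (h : (sm f).residueDegree ξ ≠ 0) : pdim Y.obj.left (sm f ξ) = pdim X.obj.left ξ := by
  have := locallyOfFiniteType_hom Y
  have : LocallyOfFiniteType (sm f ≫ Y.obj.hom) := by
    rw [show sm f ≫ Y.obj.hom = X.obj.hom from Over.w f.hom]
    exact locallyOfFiniteType_hom X
  have : Subsingleton ↥(Spec (CommRingCat.of k)) :=
    inferInstanceAs (Subsingleton (PrimeSpectrum k))
  unfold pdim natDim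
  rw [topologicalKrullDim_closure_eq (sm f) Y.obj.hom ξ h]

end Groth.Agent.Lib.Helper20.WeilCohLib
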