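import Mathlib
import Groth.Prelude.Def_WeilCoh
import Groth.Agent.Lib.Helper20.WeilCoh
import Groth.Agent.Lib.Helper20.DualDet
import Groth.Agent.Lib.Helper20.FrobScheme
import Groth.Agent.Lib27.SmoothSch
import Groth.Agent.S15445

/-!
# The geometric Frobenius on Weil cohomology (helper20)

* `det_charpoly_of_tr_pull`: functional-equation core for an endomorphism multiplying the trace
  by `d`.
* `tr_pull_frob`: the geometric Frobenius `F` of `X̄ = X ×_{k₀} k` satisfies
  `tr (F^* a) = q ^ dim X̄ * tr a` on top-degree classes.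
-/

set_option autoImplicit false
universe u v w
open CategoryTheory AlgebraicGeometry Polynomial
open WeilCoh

namespace Groth.Agent.Lib.Helper20.WeilCohFrob

open Groth.Agent.Lib.Helper20.WeilCohLib

section General

variable {k : Type u} [Field k] {P : ObjectProperty (Over (Spec (CommRingCat.of k)))}
variable {K : Type v} [Field K] (T : TheoryOn.{u, v, w} k P K)

/-- Functional equation, linear-algebra core: an endomorphism multiplying the trace by `d`. -/
theorem det_charpoly_of_tr_pull {Z : P.FullSubcategory} (F : Z ⟶ Z) (d : K)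
    (hdeg : ∀ a ∈ T.gr Z (2 * (dim Z.obj.left : ℤ)), T.tr Z (T.pull F a) = d * T.tr Z a)
    (i j : ℤ) (hij : i + j = 2 * (dim Z.obj.left : ℤ)) :
    LinearMap.det (T.pullDeg F j) * LinearMap.det (T.pullDeg F i) =
        d ^ Module.finrank K (T.gr Z i) ∧
      LinearMap.det (T.pullDeg F i) • (LinearMap.charpoly (T.pullDeg F j)).reverse =
        (-1 : K[X]) ^ Module.finrank K (T.gr Z i) *
          (LinearMap.charpoly (T.pullDeg F i)).comp (C d * X) := by
  have hP := T.duality Z i j hij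
  refine Groth.Agent.Lib.Helper20.DualDet.pairing_identity
    (pairing K (T.gr Z i) (T.gr Z j) (T.tr Z)) (T.pullDeg F i) (T.pullDeg F j) d ?_
  intro a b
  rw [pairing_apply, pairing_apply]
  change T.tr Z (T.pull F (a : T.H Z) * T.pull F (b : T.H Z)) = _
  rw [← map_mul]
  refine hdeg _ ?_
  rw [← hij]
  exact SetLike.mul_mem_graded a.2 b.2

end General


section Frobenius

variable (k₀ : Type u) [Field k₀] [Finite k₀] (k : Type u) [Field k] [IsAlgClosed k] [Algebra k₀ k]
    (K : Type v) [Field K] [CharZero K] (T : WeilCoh.Theory k K)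
    {X : Scheme.{u}} (f : X ⟶ Spec (CommRingCat.of k₀))
    (FX : X ⟶ X) (hFb : FX.base = 𝟙 _) (hle : ∀ U : X.Opens, U ≤ FX ⁻¹ᵁ U)
    (hFapp : ∀ (U : X.Opens) (s : Γ(X, U)), (FX.appLE U U (hle U)).hom s = s ^ Nat.card k₀)
    (Xb : WeilCoh.Var k) (π : Xb.obj.left ⟶ X)
    (hπ : IsPullback π Xb.obj.hom f (Spec.map (CommRingCat.ofHom (algebraMap k₀ k))))
    (F : Xb ⟶ Xb) (hF : WeilCoh.sm F ≫ π = π ≫ FX)

include hFb hFapp hπ hF in
theorem tr_pull_frob (a : T.H Xb) (ha : a ∈ T.gr Xb (2 * (WeilCoh.dim Xb.obj.left : ℤ))) :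
    T.tr Xb (T.pull F a) = ((Nat.card k₀ : K) ^ WeilCoh.dim Xb.obj.left) * T.tr Xb a := by
  have hsm : Smooth Xb.obj.hom := Xb.property.1
  have hirr : IrreducibleSpace ↥Xb.obj.left := Xb.property.2.2
  have hred : IsReduced Xb.obj.left := Groth.Agent.Lib27.SmoothSch.isReduced_of_smooth Xb.obj.hom
  have hint : IsIntegral Xb.obj.left := isIntegral_of_irreducibleSpace_of_isReduced _
  have hFg : WeilCoh.sm F ≫ Xb.obj.hom = Xb.obj.hom := Over.w F.hom
  obtain ⟨s, hs⟩ := Groth.Agent.Lib.Helper20.DimTrdeg.exists_nat_eq_topologicalKrullDim Xb.obj.hom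
  have hdim : WeilCoh.dim Xb.obj.left = s := by
    unfold WeilCoh.dim WeilCoh.natDim
    rw [hs]
    rfl
  have hfix := Groth.Agent.Lib.Helper20.FrobScheme.frob_genericPoint f FX hFb hle hFapp
    Xb.obj.hom π hπ (WeilCoh.sm F) hFg hF
  have hdeg := Groth.Agent.Lib.Helper20.FrobScheme.residueDegree_frob f FX hFb hle hFapp
    Xb.obj.hom π hπ (WeilCoh.sm F) hFg hF s hs
  have h := Groth.Agent.S15445.result k K T Xb Xb F hfix rfl a ha
  rw [h, hdeg, hdim, Nat.cast_pow]

end Frobenius

end Groth.Agent.Lib.Helper20.WeilCohFrob
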