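import Mathlib
import Groth.Agent.Lib.Helper20.WeilCohPt
import Groth.Agent.Lib.Helper20.WeilCohIso0

set_option autoImplicit false
universe u v w
open CategoryTheory AlgebraicGeometry CategoryTheory.Limits
open WeilCoh

namespace Groth.Agent.Lib.Helper20.WeilCohLib

variable {k : Type u} [Field k] {K : Type v} [Field K] (T : TheoryOn.{u, v, w} k (IsVar k) K)

/-- Pull-back of a cycle class along an isomorphism. -/
theorem pull_cl_of_iso {X Y : Var k} (f : X ⟶ Y) (g : Y ⟶ X) (hfg : f ≫ g = 𝟙 X)
    (hgf : g ≫ f = 𝟙 Y) (η : X.obj.left) : T.pull f (T.cl Y (sm f η)) = T.cl X η := by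
  have h1 : sm f ≫ sm g = 𝟙 X.obj.left := by rw [← sm_comp, hfg, sm_id]
  have h2 : sm g ≫ sm f = 𝟙 Y.obj.left := by rw [← sm_comp, hgf, sm_id]
  let e : X.obj.left ≅ Y.obj.left := ⟨sm f, sm g, h1, h2⟩
  let h : X.obj.left ≃ₜ Y.obj.left := Scheme.homeoOfIso e
  have hh : ∀ x, h x = sm f x := fun x => rfl
  haveI : IsIso (sm f) := ⟨sm g, h1, h2⟩
  -- the preimage of the closure
  have hS : (sm f) ⁻¹' closure ({sm f η} : Set Y.obj.left) = closure ({η} : Set X.obj.left) := by
    have : (sm f : X.obj.left → Y.obj.left) = h := rfl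
    rw [this, h.preimage_closure]
    congr 1
    ext x
    simp only [Set.mem_preimage, Set.mem_singleton_iff]
    exact h.injective.eq_iff
  have hcomp : ∀ w, IsCompPt ((sm f) ⁻¹' closure ({sm f η} : Set Y.obj.left)) w ↔ w = η := by
    intro w
    rw [hS]
    exact isCompPt_closure_singleton_iff η w
  -- dimensions
  have hdimXY : dim X.obj.left = dim Y.obj.left := natDim_congr h
  have hpdim : pdim X.obj.left η = pdim Y.obj.left (sm f η) := by
    unfold pdim
    refine natDim_congr (h.subtype fun x => ?_)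
    rw [← hS]
    rfl
  have hmult : ∀ (w : X.obj.left)
      (hw : IsCompPt ((sm f) ⁻¹' closure ({sm f η} : Set Y.obj.left)) w),
      preimMult (sm f) (sm f η) w hw.1 = 1 := by
    intro w hw
    obtain rfl := (hcomp w).mp hw
    refine preimMult_eq_one_of_surjective (sm f) w ?_
    have : IsIso ((sm f).stalkMap w) := inferInstance
    exact (ConcreteCategory.bijective_of_isIso ((sm f).stalkMap w)).2
  have hpull := T.cl_pull f (sm f η) (fun w hw => by
    obtain rfl := (hcomp w).mp hw
    rw [hpdim, hdimXY]; ring) (Or.inr hmult)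
  haveI : Unique {w : X.obj.left // IsCompPt ((sm f) ⁻¹' closure ({sm f η} : Set Y.obj.left)) w} :=
    { default := ⟨η, (hcomp η).mpr rfl⟩
      uniq := fun a => Subtype.ext ((hcomp a.1).mp a.2) }
  rw [finsum_unique] at hpull
  rw [hpull, hmult _ (default : {w : X.obj.left // IsCompPt ((sm f) ⁻¹' closure ({sm f η} : Set Y.obj.left)) w}).2]
  have hd : ((default : {w : X.obj.left // IsCompPt ((sm f) ⁻¹' closure ({sm f η} : Set Y.obj.left)) w}) : X.obj.left) = η := (hcomp _).mp (Subtype.property _)
  rw [hd, Nat.cast_one, one_smul]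

end Groth.Agent.Lib.Helper20.WeilCohLib
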