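import Mathlib
import Groth.Agent.Lib.Helper20.WeilCohCorr3

set_option autoImplicit false
universe u v w
open CategoryTheory AlgebraicGeometry CategoryTheory.Limits
open WeilCoh

namespace Groth.Agent.Lib.Helper20.WeilCohLib

variable {k : Type u} [Field k] {P₀ : ObjectProperty (Over (Spec (CommRingCat.of k)))}
variable {K : Type v} [Field K] (T : TheoryOn.{u, v, w} k P₀ K)

theorem sign_eq' {K : Type v} [Field K] (a b : ℤ) (i : ℕ) (ha : Even a ↔ Even i) (hb : Even b ↔ Even i) :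
    (-1 : K) ^ (a.natAbs * b.natAbs) = (-1 : K) ^ i := by
  rcases Nat.even_or_odd i with hev | hodd
  · have : Even (a.natAbs * b.natAbs) := (Int.natAbs_even.mpr (ha.mpr hev)).mul_right _
    rw [this.neg_one_pow, hev.neg_one_pow]
  · have ha' : Odd a.natAbs := by
      rw [Int.natAbs_odd, ← Int.not_even_iff_odd, ha, Nat.not_even_iff_odd]; exact hodd
    have hb' : Odd b.natAbs := by
      rw [Int.natAbs_odd, ← Int.not_even_iff_odd, hb, Nat.not_even_iff_odd]; exact hodd
    rw [(ha'.mul hb').neg_one_pow, hodd.neg_one_pow]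

theorem coe_mem_of_eq' {X : P₀.FullSubcategory} {i j : ℤ} (h : i = j)
    (z : T.gr X i) : (z : T.H X) ∈ T.gr X j := by
  subst h; exact z.2

/-- Lefschetz-type trace formula for the composite of two correspondences (general degrees, with
the intermediate degree `i1 i` free up to the stated identities). -/
theorem tr_mul_pull_swap_eq_sum {X Y P P' : P₀.FullSubcategory}
    (p : P ⟶ X) (q : P ⟶ Y) (hP : IsProd p q)
    (p' : P' ⟶ Y) (q' : P' ⟶ X) (hP' : IsProd p' q')
    (σ : P ⟶ P') (hσ₁ : σ ≫ p' = q) (hσ₂ : σ ≫ q' = p) (m m' : ℤ)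
    (i1 : ℕ → ℤ)
    (h1 : ∀ i : ℕ, (i : ℤ) + m + 2 * (dim Y.obj.left : ℤ) - 2 * (dim P.obj.left : ℤ) = i1 i)
    (h2 : ∀ i : ℕ, i1 i + m' + 2 * (dim X.obj.left : ℤ) - 2 * (dim P'.obj.left : ℤ) = i)
    (φ : T.gr P m) (ψ : T.gr P' m') :
    T.tr P ((φ : T.H P) * T.pull σ (ψ : T.H P')) =
      ∑ i ∈ Finset.range (2 * dim X.obj.left + 1),
        (-1 : K) ^ i * LinearMap.trace K ↥(T.gr X (i : ℤ))
          (((LinearEquiv.ofEq _ _ (congrArg (T.gr X) (h2 i))).toLinearMap ∘ₗ
              corrAct T p' q' m' ψ (i1 i)) ∘ₗ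
            ((LinearEquiv.ofEq _ _ (congrArg (T.gr Y) (h1 i))).toLinearMap ∘ₗ
              corrAct T p q m φ (i : ℤ))) := by
  classical
  have hd := dim_prod T p q hP
  have hd' : (dim P.obj.left : ℤ) = dim X.obj.left + dim Y.obj.left := by exact_mod_cast hd
  have hdP' := dim_prod T p' q' hP'
  have hdP'' : (dim P'.obj.left : ℤ) = dim Y.obj.left + dim X.obj.left := by exact_mod_cast hdP'
  -- bases
  let ι : ℕ → Type := fun i => Fin (Module.finrank K (T.gr X (i : ℤ)))
  let e : (i : ℕ) → Module.Basis (ι i) K ↥(T.gr X (i : ℤ)) := fun i => Module.finBasis K _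
  choose f hf using fun i : ℕ => exists_dual_family T X (i : ℤ) (e i)
  -- expand `φ`
  have hφ := eq_phi0 T p q m ι e f hP hf φ
  conv_lhs => rw [hφ]
  unfold phi0
  rw [Finset.sum_mul, map_sum]
  refine Finset.sum_congr rfl fun i hi => ?_
  rw [Finset.sum_mul, map_sum]
  -- the trace
  rw [trace_eq_sum_tr T X (i : ℤ) (e i) (f i) (hf i), Finset.mul_sum]
  refine Finset.sum_congr rfl fun a _ => ?_
  rw [smul_mul_assoc, map_smul, smul_eq_mul]
  congr 1
  -- abbreviations
  set w0 := corrAct T p q m φ (i : ℤ) (e i a) with hw0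
  set w : T.gr Y (i1 i) := LinearEquiv.ofEq _ _ (congrArg (T.gr Y) (h1 i)) w0 with hw
  have hww0 : (w : T.H Y) = (w0 : T.H Y) := rfl
  -- the right-hand side, unfolded
  show T.tr P (T.pull p (f i a : T.H X) * T.pull q (w0 : T.H Y) * T.pull σ (ψ : T.H P')) =
    T.tr X ((f i a : T.H X) *
      ((corrAct T p' q' m' ψ _ w : T.gr X _) : T.H X))
  rw [← hww0]
  set Bw := corrAct T p' q' m' ψ _ w with hBw
  have hBwmem : (Bw : T.H X) ∈ T.gr X (i : ℤ) := coe_mem_of_eq' T (h2 i) Bw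
  -- step 1: commute `f` and `Bw`
  have hc1 := T.gradedComm X (2 * (dim X.obj.left : ℤ) - i) (i : ℤ) (f i a : T.H X) (Bw : T.H X)
    (f i a).2 hBwmem
  rw [hc1, map_smul, smul_eq_mul]
  -- step 2: the defining property of the action of `ψ`
  rw [tr_corrAct_mul T p' q' _ ψ _ w (2 * (dim X.obj.left : ℤ) - i) (f i a : T.H X) (f i a).2
    (by have := h2 i; omega)]
  -- step 3: swap
  rw [← tr_pull_swap T p q hP p' q' hP' σ hσ₁ hσ₂]
  rw [map_mul (T.pull σ), map_mul (T.pull σ), ← AlgHom.comp_apply, ← AlgHom.comp_apply (T.pull σ),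
    ← T.pull_comp, ← T.pull_comp, hσ₁, hσ₂]
  -- step 4: move `p^* f` to the front
  have hmem1 : T.pull q (w : T.H Y) * T.pull σ (ψ : T.H P') ∈ T.gr P (i1 i + m') :=
    SetLike.mul_mem_graded (T.pull_mem q _ _ w.2) (T.pull_mem σ _ _ ψ.2)
  have hc2 := T.gradedComm P _ _ _ _ hmem1 (T.pull_mem p _ _ (f i a).2)
  rw [hc2, map_smul, smul_eq_mul, ← mul_assoc, ← mul_assoc]
  -- signs
  have hs1 : (-1 : K) ^ ((2 * (dim X.obj.left : ℤ) - i).natAbs * ((i : ℤ)).natAbs) = (-1 : K) ^ i :=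
    sign_eq' _ _ i (by
      rw [Int.even_sub, Int.even_coe_nat]
      simp) (by rw [Int.even_coe_nat])
  have hs2 : (-1 : K) ^ ((i1 i + m').natAbs *
        (2 * (dim X.obj.left : ℤ) - i).natAbs) = (-1 : K) ^ i :=
    sign_eq' _ _ i (by
      have : i1 i + m' = i + 2 * (dim Y.obj.left : ℤ) := by
        have := h2 i; omega
      rw [this, Int.even_add, Int.even_coe_nat]
      simp) (by
      rw [Int.even_sub, Int.even_coe_nat]
      simp)
  rw [hs1, hs2, ← pow_add]
  have : Even (i + i) := ⟨i, rfl⟩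
  rw [this.neg_one_pow, one_mul]

end Groth.Agent.Lib.Helper20.WeilCohLib
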