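import Mathlib
import Groth.Prelude.Def_ChowOps
import Groth.Agent.Lib.Helper20.WeilCohPt
import Groth.Agent.Lib.Helper20.WeilCohZero0

set_option autoImplicit false
universe u v w
open CategoryTheory AlgebraicGeometry CategoryTheory.Limits
open WeilCoh

namespace Groth.Agent.Lib.Helper20.WeilCohLib

variable {k : Type u} [Field k] [IsAlgClosed k]

theorem isClosed_of_delta_zero (X : Var k) (δ : X.obj.left → ℤ)
    (hδ : Cyc.DeltaCompat X.obj.hom δ (fun _ => 0)) (x : X.obj.left) (hx : δ x = 0) :
    IsClosed ({x} : Set X.obj.left) := by
  obtain ⟨n, hn, hδn⟩ := hδ x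
  have hn0 : n = 0 := by
    rw [hx] at hδn
    simp only [zero_add] at hδn
    exact_mod_cast hδn.symm
  subst hn0
  apply isClosed_of_isAlgebraic_residueField X.obj.hom x
  letI := (X.obj.hom.residueFieldMap x).hom.toAlgebra
  have halg : Algebra.IsAlgebraic ((Spec (CommRingCat.of k)).residueField (X.obj.hom x))
      (X.obj.left.residueField x) := by
    rw [← trdeg_eq_zero_iff]
    simpa using hn
  have hint : Algebra.IsIntegral ((Spec (CommRingCat.of k)).residueField (X.obj.hom x))
      (X.obj.left.residueField x) := Algebra.IsAlgebraic.isIntegral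
  intro y
  exact hint.isIntegral y

omit [IsAlgClosed k] in
theorem support_finite (X : Var k) [QuasiCompact X.obj.hom]
    (α : AlgebraicCycle X.obj.left ℤ) : (Function.support α).Finite := by
  haveI : CompactSpace X.obj.left := QuasiCompact.compactSpace_of_compactSpace X.obj.hom
  have h := α.locallyFiniteSupport.finite_inter_support_of_isCompact (W := Set.univ) isCompact_univ
  simpa using h

end Groth.Agent.Lib.Helper20.WeilCohLib
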