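import Mathlib
import Groth.Prelude.Def_ChowOps
import Groth.Agent.Lib.Helper20.WeilCohPt
import Groth.Agent.Lib.Helper20.WeilCohZero0
import Groth.Agent.Lib.Helper20.WeilCohZero1

set_option autoImplicit false
universe u v w
open CategoryTheory AlgebraicGeometry CategoryTheory.Limits
open WeilCoh

namespace Groth.Agent.Lib.Helper20.WeilCohLib

variable {k : Type u} [Field k] [IsAlgClosed k]

theorem deg_eq_finsum (X : Var k) [QuasiCompact X.obj.hom] (δ : X.obj.left → ℤ)
    (hδ : Cyc.DeltaCompat X.obj.hom δ (fun _ => 0))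
    (α : AlgebraicCycle X.obj.left ℤ) (hα : α ∈ Cyc.Zk X.obj.left δ 0) :
    ChowOps.deg X.obj.hom δ α = ∑ᶠ x, α x := by
  unfold ChowOps.deg AlgebraicCycle.map
  rw [Function.locallyFinsupp.map_apply]
  classical
  refine finsum_congr fun x => ?_
  have hxS : x ∈ (X.obj.hom : X.obj.left → Spec (CommRingCat.of k)) ⁻¹'
      {IsLocalRing.closedPoint k} := Subsingleton.elim (α := PrimeSpectrum k) _ _
  rw [finsum_eq_if]
  split_ifs with hmem
  swap
  · exact absurd hxS hmem
  by_cases hx : α x = 0
  · simp [hx]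
  · have hδx : δ x = 0 := by
      by_contra h
      exact hx (hα x h)
    have hcl := isClosed_of_delta_zero X δ hδ x hδx
    have h1 : AlgebraicCycle.mapCoeff X.obj.hom δ (fun _ => (0 : ℤ)) x = 1 := by
      unfold AlgebraicCycle.mapCoeff
      rw [if_pos hδx]
      exact residueDegree_eq_one_of_isClosed X.obj.hom x hcl
    rw [h1]
    simp

variable {K : Type v} [Field K] (T : TheoryOn.{u, v, w} k (IsVar k) K)

theorem tr_clCyc_zeroCycle (X : Var k) [QuasiCompact X.obj.hom] (δ : X.obj.left → ℤ)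
    (hδ : Cyc.DeltaCompat X.obj.hom δ (fun _ => 0))
    (α : AlgebraicCycle X.obj.left ℤ) (hα : α ∈ Cyc.Zk X.obj.left δ 0) :
    T.tr X (T.clCyc X α) = ((ChowOps.deg X.obj.hom δ α : ℤ) : K) := by
  rw [deg_eq_finsum X δ hδ α hα]
  unfold TheoryOn.clCyc
  have hfin := support_finite X α
  have hfin1 : (Function.support fun ξ : X.obj.left => ((α ξ : ℤ) : K) • T.cl X ξ).Finite := by
    refine hfin.subset fun ξ hξ => ?_
    rw [Function.mem_support] at hξ ⊢
    intro h0
    apply hξ
    rw [h0]; simp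
  rw [map_finsum _ hfin1]
  have hcast : ((∑ᶠ x, α x : ℤ) : K) = ∑ᶠ x, ((α x : ℤ) : K) :=
    map_finsum (Int.castAddHom K) hfin
  rw [hcast]
  refine finsum_congr fun x => ?_
  by_cases hx : α x = 0
  · simp [hx]
  · have hδx : δ x = 0 := by
      by_contra h
      exact hx (hα x h)
    have hcl := isClosed_of_delta_zero X δ hδ x hδx
    rw [map_smul, tr_cl_of_isClosed T X x hcl, smul_eq_mul, mul_one]

theorem clCyc_mem_top (X : Var k) [QuasiCompact X.obj.hom] (δ : X.obj.left → ℤ)
    (hδ : Cyc.DeltaCompat X.obj.hom δ (fun _ => 0))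
    (α : AlgebraicCycle X.obj.left ℤ) (hα : α ∈ Cyc.Zk X.obj.left δ 0) :
    T.clCyc X α ∈ T.gr X (2 * (dim X.obj.left : ℤ)) := by
  unfold TheoryOn.clCyc
  apply finsum_induction (p := fun a => a ∈ T.gr X (2 * (dim X.obj.left : ℤ)))
  · exact Submodule.zero_mem _
  · intro a b ha hb
    exact Submodule.add_mem _ ha hb
  · intro x
    by_cases hx : α x = 0
    · simp [hx]
    · have hδx : δ x = 0 := by
        by_contra h
        exact hx (hα x h)
      have hcl := isClosed_of_delta_zero X δ hδ x hδx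
      refine Submodule.smul_mem _ _ ?_
      have h := T.cl_mem X x
      have hc : codim X.obj.left x = dim X.obj.left := by
        unfold codim
        rw [pdim_of_isClosed x hcl]; simp
      rwa [hc] at h

end Groth.Agent.Lib.Helper20.WeilCohLib
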