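import Mathlib
import Groth.Agent.Lib.Helper20.DetExp
import Groth.Prelude.Def_W4c1zetahwZeta

/-!
# Linear differential equations for power series, characteristic polynomials and zeta functions
-/

set_option autoImplicit false
universe u v w

namespace Groth.Agent.Lib.Helper20.ZetaODE

open PowerSeries

section Sol

variable {K : Type*} [Field K]

/-- `G` solves the linear differential equation `G' = A G`. -/
def IsSol (A G : PowerSeries K) : Prop := PowerSeries.derivative K G = A * G

theorem IsSol.mul {A B G H : PowerSeries K} (hG : IsSol A G) (hH : IsSol B H) :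
    IsSol (A + B) (G * H) := by
  unfold IsSol at *
  rw [Derivation.leibniz, hG, hH, smul_eq_mul, smul_eq_mul]
  ring

theorem isSol_one : IsSol (0 : PowerSeries K) 1 := by
  unfold IsSol
  rw [zero_mul]
  exact Derivation.map_one_eq_zero _

theorem IsSol.prod {ι : Type*} (s : Finset ι) (A G : ι → PowerSeries K)
    (h : ∀ i ∈ s, IsSol (A i) (G i)) : IsSol (∑ i ∈ s, A i) (∏ i ∈ s, G i) := by
  classical
  induction s using Finset.induction_on with
  | empty => simpa using isSol_one
  | insert a s ha ih =>
    rw [Finset.sum_insert ha, Finset.prod_insert ha]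
    exact (h a (Finset.mem_insert_self a s)).mul
      (ih fun i hi => h i (Finset.mem_insert_of_mem hi))

theorem constantCoeff_prod_eq_one {ι : Type*} (s : Finset ι) (G : ι → PowerSeries K)
    (h : ∀ i ∈ s, constantCoeff (G i) = 1) : constantCoeff (∏ i ∈ s, G i) = 1 := by
  rw [map_prod]
  exact Finset.prod_eq_one h

variable [CharZero K]

theorem IsSol.unique {A B G H : PowerSeries K} (hG : IsSol A G) (hH : IsSol B H) (hAB : A = B)
    (h0 : constantCoeff G = constantCoeff H) : G = H := by
  subst hAB
  exact Groth.Agent.Lib.Helper20.DetExp.eq_of_derivative_eq_mul A G H hG hH h0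

end Sol

section Charpoly

variable {K : Type*} [Field K] {V : Type*} [AddCommGroup V] [Module K V] [Module.Finite K V]

theorem isSol_charpoly_reverse (φ : Module.End K V) :
    IsSol (-(PowerSeries.mk fun l => LinearMap.trace K V (φ ^ (l + 1))))
      (((LinearMap.charpoly φ).reverse : Polynomial K) : PowerSeries K) := by
  classical
  let b := Module.finBasis K V
  set M := LinearMap.toMatrix b b φ with hM
  have h1 : LinearMap.charpoly φ = M.charpoly := (LinearMap.charpoly_toMatrix φ b).symm
  have h2 : ∀ l : ℕ, LinearMap.trace K V (φ ^ (l + 1)) = Matrix.trace (M ^ (l + 1)) := by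
    intro l
    rw [LinearMap.trace_eq_matrix_trace K b, LinearMap.toMatrix_pow]
  unfold IsSol
  rw [h1, Matrix.reverse_charpoly]
  have h3 : (PowerSeries.mk fun l => LinearMap.trace K V (φ ^ (l + 1))) =
      PowerSeries.mk fun l => Matrix.trace (M ^ (l + 1)) := by
    ext l
    simp only [PowerSeries.coeff_mk, h2]
  rw [h3]
  exact Groth.Agent.Lib.Helper20.DetExp.derivative_charpolyRev M

theorem constantCoeff_charpoly_reverse (φ : Module.End K V) :
    constantCoeff ((((LinearMap.charpoly φ).reverse : Polynomial K) : PowerSeries K)) = 1 := by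
  classical
  let b := Module.finBasis K V
  have h1 : LinearMap.charpoly φ = (LinearMap.toMatrix b b φ).charpoly :=
    (LinearMap.charpoly_toMatrix φ b).symm
  rw [h1, Matrix.reverse_charpoly, ← PowerSeries.coeff_zero_eq_constantCoeff_apply,
    Polynomial.coeff_coe, Polynomial.coeff_zero_eq_eval_zero, Matrix.eval_charpolyRev]

end Charpoly

section Zeta

open CategoryTheory AlgebraicGeometry

variable {k₀ : Type u} [Field k₀] {X : Scheme.{u}} (f : X ⟶ Spec (CommRingCat.of k₀))
  (K : Type v) [Field K] [CharZero K]

theorem derivative_map {R S : Type*} [CommRing R] [CommRing S] (φ : R →+* S) (G : PowerSeries R) :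
    PowerSeries.derivative S (PowerSeries.map φ G) =
      PowerSeries.map φ (PowerSeries.derivative R G) := by
  ext n
  rw [PowerSeries.coeff_derivative, PowerSeries.coeff_map, PowerSeries.coeff_map,
    PowerSeries.coeff_derivative, map_mul, map_add, map_natCast, map_one]

theorem constantCoeff_logZeta : constantCoeff (Zeta.logZeta f) = 0 := by
  rw [← PowerSeries.coeff_zero_eq_constantCoeff_apply]
  unfold Zeta.logZeta
  rw [PowerSeries.coeff_mk]
  simp

theorem isSol_zetaFun :
    IsSol (PowerSeries.mk fun l => ((Zeta.nPts f (l + 1) : ℕ) : K))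
      (PowerSeries.map (algebraMap ℚ K) (Zeta.zetaFun f)) := by
  unfold IsSol
  rw [derivative_map]
  unfold Zeta.zetaFun
  rw [PowerSeries.derivative_subst (HasSubst.of_constantCoeff_zero' (constantCoeff_logZeta f)),
    PowerSeries.derivative_exp, mul_comm, map_mul]
  congr 1
  ext l
  rw [PowerSeries.coeff_map, PowerSeries.coeff_derivative, PowerSeries.coeff_mk]
  unfold Zeta.logZeta
  rw [PowerSeries.coeff_mk]
  have h2 : ((l : ℚ) + 1) ≠ 0 := by exact_mod_cast Nat.succ_ne_zero l
  have h3 : (Zeta.nPts f (l + 1) : ℚ) / ((l + 1 : ℕ) : ℚ) * ((l : ℚ) + 1) =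
      (Zeta.nPts f (l + 1) : ℚ) := by
    push_cast
    field_simp
  rw [h3, map_natCast]

theorem constantCoeff_zetaFun :
    constantCoeff (PowerSeries.map (algebraMap ℚ K) (Zeta.zetaFun f)) = 1 := by
  rw [← PowerSeries.coeff_zero_eq_constantCoeff_apply, PowerSeries.coeff_map,
    PowerSeries.coeff_zero_eq_constantCoeff_apply]
  unfold Zeta.zetaFun
  have hL := constantCoeff_logZeta f
  have h := PowerSeries.constantCoeff_subst (HasSubst.of_constantCoeff_zero' hL) (PowerSeries.exp ℚ)
  have h' : constantCoeff ((PowerSeries.exp ℚ).subst (Zeta.logZeta f)) =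
      finsum fun d => PowerSeries.coeff d (PowerSeries.exp ℚ) • constantCoeff (Zeta.logZeta f ^ d) := h
  rw [h', finsum_eq_single _ 0]
  · simp
  · intro d hd
    rw [map_pow, hL, zero_pow hd, smul_zero]

end Zeta

section Split

theorem alt_sum_split {R : Type*} [CommRing R] (b : ℕ → R) (n : ℕ) :
    ∑ i ∈ Finset.range (2 * n + 1), (-1 : R) ^ i * b i =
      ∑ i ∈ Finset.range (n + 1), b (2 * i) - ∑ i ∈ Finset.range n, b (2 * i + 1) := by
  induction n with
  | zero => simp
  | succ n ih =>
    have h1 : 2 * (n + 1) + 1 = (2 * n + 1) + 1 + 1 := by ring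
    rw [h1, Finset.sum_range_succ, Finset.sum_range_succ, ih,
      Finset.sum_range_succ (fun i => b (2 * i)) (n + 1),
      Finset.sum_range_succ (fun i => b (2 * i + 1)) n]
    have h2 : (-1 : R) ^ (2 * n + 1) = -1 := by
      rw [pow_succ, pow_mul]; simp
    have h3 : (-1 : R) ^ (2 * n + 1 + 1) = 1 := by
      rw [pow_succ, h2]; simp
    have h4 : 2 * n + 1 + 1 = 2 * (n + 1) := by ring
    rw [h2, h3, h4]
    ring

end Split

end Groth.Agent.Lib.Helper20.ZetaODE
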