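import Mathlib
import Groth.Prelude.Def_WeilCoh
import Groth.Prelude.Def_W4c1zetahwZeta
import Groth.Agent.Lib.Helper20.WeilCoh
import Groth.Agent.Lib.Helper20.WeilCohPt
import Groth.Agent.Lib.Helper20.WeilCohCorr
import Groth.Agent.Lib.Helper20.WeilCohIso0
import Groth.Agent.Lib.Helper20.FrobCount
import Groth.Agent.Lib.Helper20.DetExp
import Groth.Agent.Lib.Helper20.ZetaODE
import Groth.Agent.S15450

/-!
# The zeta function from a Weil cohomology theory (helper20)
-/

set_option autoImplicit false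
universe u v w
open CategoryTheory AlgebraicGeometry
open WeilCoh

namespace Groth.Agent.Lib.Helper20.WeilCohZeta

open Groth.Agent.Lib.Helper20.WeilCohLib Groth.Agent.Lib.Helper20.FrobFix
  Groth.Agent.Lib.Helper20.FrobCount

section Iterate

variable {X : Scheme.{u}} (FX : X ⟶ X)

/-- iterates of an endomorphism. -/
noncomputable def frobPow : ℕ → (X ⟶ X)
  | 0 => 𝟙 X
  | m + 1 => frobPow m ≫ FX

variable (hle : ∀ U : X.Opens, U ≤ FX ⁻¹ᵁ U)

include hle in
theorem frobPow_le (m : ℕ) (U : X.Opens) : U ≤ (frobPow FX m) ⁻¹ᵁ U := by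
  induction m with
  | zero => exact le_rfl
  | succ m ih =>
    intro x hx
    change (frobPow FX m ≫ FX) x ∈ U
    rw [Scheme.Hom.comp_apply]
    exact hle U (ih hx)

variable (q : ℕ)
  (hFapp : ∀ (U : X.Opens) (s : Γ(X, U)), (FX.appLE U U (hle U)).hom s = s ^ q)

include hFapp in
theorem frobPow_appLE (m : ℕ) (U : X.Opens) (s : Γ(X, U)) :
    ((frobPow FX m).appLE U U (frobPow_le FX hle m U)).hom s = s ^ (q ^ m) := by
  induction m generalizing s with
  | zero =>
    rw [pow_zero, pow_one]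
    have h := appLE_of_eq_id (frobPow FX 0) rfl U (frobPow_le FX hle 0 U)
    rw [h]
    rfl
  | succ m ih =>
    have h1 : FX.appLE U U (hle U) ≫ (frobPow FX m).appLE U U (frobPow_le FX hle m U) =
        (frobPow FX (m + 1)).appLE U U (frobPow_le FX hle (m + 1) U) := by
      rw [Scheme.Hom.appLE_comp_appLE]
      rfl
    have h2 : ((frobPow FX m).appLE U U (frobPow_le FX hle m U)).hom
        ((FX.appLE U U (hle U)).hom s) =
        ((frobPow FX (m + 1)).appLE U U (frobPow_le FX hle (m + 1) U)).hom s :=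
      congrArg (fun φ => φ.hom s) h1
    rw [← h2, hFapp U s, ih, ← pow_mul, pow_succ']

end Iterate

section VarIterate

variable {k : Type u} [Field k] {Xb : WeilCoh.Var k} (F : Xb ⟶ Xb)

/-- iterates of an endomorphism in `Var k`. -/
noncomputable def Fpow : ℕ → (Xb ⟶ Xb)
  | 0 => 𝟙 Xb
  | m + 1 => Fpow m ≫ F

theorem sm_Fpow_comp {X : Scheme.{u}} (FX : X ⟶ X) (π : Xb.obj.left ⟶ X)
    (hF : WeilCoh.sm F ≫ π = π ≫ FX) (m : ℕ) :
    WeilCoh.sm (Fpow F m) ≫ π = π ≫ frobPow FX m := by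
  induction m with
  | zero =>
    change 𝟙 _ ≫ π = π ≫ 𝟙 _
    rw [Category.id_comp, Category.comp_id]
  | succ m ih =>
    change (WeilCoh.sm (Fpow F m) ≫ WeilCoh.sm F) ≫ π = π ≫ (frobPow FX m ≫ FX)
    rw [Category.assoc, hF, ← Category.assoc, ih, Category.assoc]

variable {K : Type v} [Field K] (T : TheoryOn.{u, v, w} k (IsVar k) K)

theorem pullDeg_Fpow (m : ℕ) (i : ℤ) : T.pullDeg (Fpow F m) i = (T.pullDeg F i) ^ m := by
  induction m with
  | zero =>
    ext a
    change T.pull (𝟙 Xb) (a : T.H Xb) = a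
    rw [T.pull_id]
    rfl
  | succ m ih =>
    rw [pow_succ, ← ih]
    ext a
    change T.pull (Fpow F m ≫ F) (a : T.H Xb) = T.pull (Fpow F m) (T.pull F (a : T.H Xb))
    rw [T.pull_comp]
    rfl

end VarIterate


section Trace

variable {k₀ : Type u} [Field k₀] [Finite k₀] {k : Type u} [Field k] [IsAlgClosed k] [Algebra k₀ k]
  {K : Type v} [Field K] [CharZero K] (T : WeilCoh.Theory k K)
  {X : Scheme.{u}} (f : X ⟶ Spec (CommRingCat.of k₀)) [LocallyOfFiniteType f] [QuasiCompact f]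
  (GX : X ⟶ X) (m : ℕ) (hm : 0 < m) (hGle : ∀ U : X.Opens, U ≤ GX ⁻¹ᵁ U)
  (hGapp : ∀ (U : X.Opens) (s : Γ(X, U)), (GX.appLE U U (hGle U)).hom s = s ^ (Nat.card k₀ ^ m))
  (Xb : WeilCoh.Var k) (π : Xb.obj.left ⟶ X)
  (hπ : IsPullback π Xb.obj.hom f (Spec.map (CommRingCat.ofHom (algebraMap k₀ k))))
  (G : Xb ⟶ Xb) (hG : WeilCoh.sm G ≫ π = π ≫ GX)
  (Pb : WeilCoh.Var k) (p q : Pb ⟶ Xb) (hP : WeilCoh.IsProd p q)
  (d j : Xb ⟶ Pb) (hdp : d ≫ p = 𝟙 Xb) (hdq : d ≫ q = 𝟙 Xb) (hjp : j ≫ p = 𝟙 Xb) (hjq : j ≫ q = G)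

include hm hGapp hπ hG hP hdp hdq hjp hjq in
/-- The intersection number of the graph of the `q^m`-Frobenius with the diagonal is `N_m`. -/
theorem tr_cl_graph_mul_cl_diag [IrreducibleSpace Xb.obj.left] :
    T.tr Pb (T.cl Pb (sm j (genericPoint Xb.obj.left)) *
      T.cl Pb (sm d (genericPoint Xb.obj.left))) = (Zeta.nPts f m : K) := by
  classical
  have hsm : Smooth Xb.obj.hom := Xb.property.1
  have hlft : LocallyOfFiniteType Xb.obj.hom := inferInstance
  have hqc : QuasiCompact Xb.obj.hom := MorphismProperty.of_isPullback hπ inferInstance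
  have hcpt : CompactSpace Xb.obj.left := QuasiCompact.compactSpace_of_compactSpace Xb.obj.hom
  set η := genericPoint Xb.obj.left with hη
  have hdp' : sm d ≫ sm p = 𝟙 Xb.obj.left := by rw [← sm_comp, hdp, sm_id]
  have hdq' : sm d ≫ sm q = 𝟙 Xb.obj.left := by rw [← sm_comp, hdq, sm_id]
  have hjp' : sm j ≫ sm p = 𝟙 Xb.obj.left := by rw [← sm_comp, hjp, sm_id]
  have hjq' : sm j ≫ sm q = sm G := by rw [← sm_comp, hjq]
  have hGg : sm G ≫ Xb.obj.hom = Xb.obj.hom := Over.w G.hom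
  have hP' : IsPullback (sm p) (sm q) Xb.obj.hom Xb.obj.hom := hP
  have hjci : IsClosedImmersion (sm j) := isClosedImmersion_of_section j p hjp
  have hce : Topology.IsClosedEmbedding (sm j) := (sm j).isClosedEmbedding
  have hjr : IsClosed (Set.range (sm j)) := hce.isClosed_range
  have hclos : closure ({sm j η} : Set Pb.obj.left) = Set.range (sm j) := by
    rw [← Set.image_singleton, hce.closure_image_eq, genericPoint_spec Xb.obj.left, Set.image_univ]
  -- characteristic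
  have : Fintype k₀ := Fintype.ofFinite k₀
  have hq2 : 2 ≤ Nat.card k₀ := by
    rw [Nat.card_eq_fintype_card]; exact Fintype.one_lt_card
  have hQ : 2 ≤ Nat.card k₀ ^ m := two_le_pow _ m hm hq2
  have hQk : ((Nat.card k₀ ^ m : ℕ) : k) = 0 := by
    have h0 : (Nat.card k₀ : k) = 0 := by
      have h1 : (Fintype.card k₀ : k₀) = 0 := FiniteField.cast_card_eq_zero k₀
      rw [Nat.card_eq_fintype_card, ← map_natCast (algebraMap k₀ k), h1, map_zero]
    rw [Nat.cast_pow, h0, zero_pow hm.ne']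
  -- the count
  have hcount := natCard_setOf_eq f GX m hm hGle hGapp Xb.obj.hom π hπ (sm G) hGg hG (sm p) (sm q)
    hP' (sm d) (sm j) hdp' hdq' hjp' hjq' hjr
  have hfinS := finite_setOf_eq' f GX m hm hGle hGapp Xb.obj.hom π hπ (sm G) hG (sm p) (sm q)
    (sm d) (sm j) hdp' hdq' hjp' hjq' hjr
  -- the preimage
  have hmem : ∀ w : Xb.obj.left, w ∈ (sm d) ⁻¹' closure ({sm j η} : Set Pb.obj.left) →
      sm d w = sm j w := by
    intro w hw
    refine eq_of_mem_range (sm p) (sm d) (sm j) hdp' hjp' w ?_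
    rw [← hclos]; exact hw
  have hclosedpt : ∀ w : Xb.obj.left, sm d w = sm j w → IsClosed ({w} : Set Xb.obj.left) :=
    fun w hw => isClosed_of_eq f GX _ hQ hGle hGapp Xb.obj.hom π hπ (sm G) hG (sm p) (sm q)
      (sm d) (sm j) hdp' hdq' hjp' hjq' w hw
  have hcomp : ∀ w : Xb.obj.left,
      IsCompPt ((sm d) ⁻¹' closure ({sm j η} : Set Pb.obj.left)) w ↔ sm d w = sm j w := by
    intro w
    constructor
    · intro hw
      exact hmem w hw.1
    · intro hw
      refine ⟨?_, ?_⟩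
      · change sm d w ∈ closure ({sm j η} : Set Pb.obj.left)
        rw [hclos, hw]; exact ⟨w, rfl⟩
      · intro w' hw' hsp
        have hcl' := hclosedpt w' (hmem w' hw')
        have h1 : w ∈ closure ({w'} : Set Xb.obj.left) := specializes_iff_mem_closure.mp hsp
        rw [hcl'.closure_eq] at h1
        exact h1.symm
  -- degrees
  have hd := dim_prod T p q hP
  have hcodj : (codim Pb.obj.left (sm j η) : ℤ) = dim Xb.obj.left := by
    unfold codim
    rw [pdim_section j p hjp, hd]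
    simp
  have hcodd : (codim Pb.obj.left (sm d η) : ℤ) = dim Xb.obj.left := by
    unfold codim
    rw [pdim_section d p hdp, hd]
    simp
  have hjmem : T.cl Pb (sm j η) ∈ T.gr Pb (2 * (dim Xb.obj.left : ℤ)) := by
    have := T.cl_mem Pb (sm j η)
    rwa [hcodj] at this
  have hdmem : T.cl Pb (sm d η) ∈ T.gr Pb (2 * (dim Xb.obj.left : ℤ)) := by
    have := T.cl_mem Pb (sm d η)
    rwa [hcodd] at this
  rw [mul_comm_of_even T _ _ _ _ hjmem hdmem (Or.inl (even_two_mul _)),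
    tr_cl_section_mul T d p hdp _ hjmem]
  -- the pull-back formula
  have hpull := T.cl_pull d (sm j η) (by
    intro w hw
    have hcl := hclosedpt w ((hcomp w).mp hw)
    rw [pdim_of_isClosed w hcl, pdim_section j p hjp, hd]
    push_cast
    ring) (Or.inr (by
    intro w hw
    exact preimMult_eq_one f GX _ hQ hQk hGle hGapp Xb.obj.hom π hπ (sm G) hGg hG (sm p) (sm q)
      (sm d) (sm j) hdp' hdq' hjp' hjq' η w hw.1 ((hcomp w).mp hw)))
  rw [hpull]
  have hone : ∀ w : {w : Xb.obj.left //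
      IsCompPt ((sm d) ⁻¹' closure ({sm j η} : Set Pb.obj.left)) w},
      ((preimMult (sm d) (sm j η) w.1 w.2.1 : ℕ) : K) • T.cl Xb w.1 = T.cl Xb w.1 := by
    intro w
    rw [preimMult_eq_one f GX _ hQ hQk hGle hGapp Xb.obj.hom π hπ (sm G) hGg hG (sm p) (sm q)
      (sm d) (sm j) hdp' hdq' hjp' hjq' η w.1 w.2.1 ((hcomp w.1).mp w.2), Nat.cast_one, one_smul]
  rw [finsum_congr hone]
  let E : {w : Xb.obj.left // IsCompPt ((sm d) ⁻¹' closure ({sm j η} : Set Pb.obj.left)) w} ≃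
      {w : Xb.obj.left // sm d w = sm j w} := Equiv.subtypeEquivRight hcomp
  have hfin : Finite {w : Xb.obj.left // sm d w = sm j w} := hfinS.to_subtype
  have hfin' : Finite {w : Xb.obj.left //
      IsCompPt ((sm d) ⁻¹' closure ({sm j η} : Set Pb.obj.left)) w} := Finite.of_equiv _ E.symm
  have : Fintype {w : Xb.obj.left //
      IsCompPt ((sm d) ⁻¹' closure ({sm j η} : Set Pb.obj.left)) w} := Fintype.ofFinite _
  rw [finsum_eq_sum_of_fintype, map_sum]
  have htr : ∀ w : {w : Xb.obj.left //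
      IsCompPt ((sm d) ⁻¹' closure ({sm j η} : Set Pb.obj.left)) w},
      T.tr Xb (T.cl Xb w.1) = 1 :=
    fun w => tr_cl_of_isClosed T Xb w.1 (hclosedpt w.1 ((hcomp w.1).mp w.2))
  rw [Finset.sum_congr rfl (fun w _ => htr w), Finset.sum_const, Finset.card_univ,
    nsmul_eq_mul, mul_one, ← hcount, ← Nat.card_congr E, Nat.card_eq_fintype_card]

end Trace


section Main

variable (k₀ : Type u) [Field k₀] [Finite k₀] (k : Type u) [Field k] [IsAlgClosed k] [Algebra k₀ k]
  (K : Type v) [Field K] [CharZero K] (T : WeilCoh.Theory k K)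
  {X : Scheme.{u}} (f : X ⟶ Spec (CommRingCat.of k₀)) [LocallyOfFiniteType f] [QuasiCompact f]
  (FX : X ⟶ X) (hle : ∀ U : X.Opens, U ≤ FX ⁻¹ᵁ U)
  (hFapp : ∀ (U : X.Opens) (s : Γ(X, U)), (FX.appLE U U (hle U)).hom s = s ^ Nat.card k₀)
  (Xb : WeilCoh.Var k) (π : Xb.obj.left ⟶ X)
  (hπ : IsPullback π Xb.obj.hom f (Spec.map (CommRingCat.ofHom (algebraMap k₀ k))))
  (F : Xb ⟶ Xb) (hF : WeilCoh.sm F ≫ π = π ≫ FX)
  (Pb : WeilCoh.Var k) (p q : Pb ⟶ Xb) (hP : WeilCoh.IsProd p q)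

include hFapp hπ hF hP in
/-- The Lefschetz trace formula for the powers of the Frobenius: the alternating sum of the
traces of `(F^*)^m` is the number `N_m`. -/
theorem alt_trace_eq_nPts (m : ℕ) (hm : 0 < m) :
    ∑ i ∈ Finset.range (2 * WeilCoh.dim Xb.obj.left + 1),
      (-1 : K) ^ i * LinearMap.trace K ↥(T.gr Xb (i : ℤ)) ((T.pullDeg F (i : ℤ)) ^ m) =
      (Zeta.nPts f m : K) := by
  have hirr : IrreducibleSpace ↥Xb.obj.left := Xb.property.2.2
  obtain ⟨d, hdp, hdq⟩ := exists_lift p q hP (𝟙 Xb) (𝟙 Xb)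
  obtain ⟨j, hjp, hjq⟩ := exists_lift p q hP (𝟙 Xb) (Fpow F m)
  have h1 := Groth.Agent.S15450.result k K T Xb Pb (Fpow F m) p q hP j d hjp hjq hdp hdq
  have h2 := tr_cl_graph_mul_cl_diag T f (frobPow FX m) m hm (frobPow_le FX hle m)
    (frobPow_appLE FX hle (Nat.card k₀) hFapp m) Xb π hπ (Fpow F m) (sm_Fpow_comp F FX π hF m)
    Pb p q hP d j hdp hdq hjp hjq
  rw [← h2, h1]
  refine Finset.sum_congr rfl fun i _ => ?_
  rw [pullDeg_Fpow]

include hFapp hπ hF hP in
/-- The zeta function as an alternating product of characteristic polynomials of the Frobenius. -/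
theorem zetaFun_mul_prod_even_eq_prod_odd :
    PowerSeries.map (algebraMap ℚ K) (Zeta.zetaFun f) *
        (∏ i ∈ Finset.range (WeilCoh.dim Xb.obj.left + 1),
          ((LinearMap.charpoly (T.pullDeg F ((2 * i : ℕ) : ℤ))).reverse : PowerSeries K)) =
      ∏ i ∈ Finset.range (WeilCoh.dim Xb.obj.left),
        ((LinearMap.charpoly (T.pullDeg F ((2 * i + 1 : ℕ) : ℤ))).reverse : PowerSeries K) := by
  set n := WeilCoh.dim Xb.obj.left with hn
  -- the logarithmic derivatives
  let A : ℕ → PowerSeries K := fun i =>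
    PowerSeries.mk fun l => LinearMap.trace K ↥(T.gr Xb (i : ℤ)) ((T.pullDeg F (i : ℤ)) ^ (l + 1))
  have hsolP : ∀ i : ℕ, Groth.Agent.Lib.Helper20.ZetaODE.IsSol (-(A i))
      ((LinearMap.charpoly (T.pullDeg F (i : ℤ))).reverse : PowerSeries K) :=
    fun i => Groth.Agent.Lib.Helper20.ZetaODE.isSol_charpoly_reverse (T.pullDeg F (i : ℤ))
  have hccP : ∀ i : ℕ, PowerSeries.constantCoeff
      (((LinearMap.charpoly (T.pullDeg F (i : ℤ))).reverse : Polynomial K) : PowerSeries K) = 1 :=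
    fun i => Groth.Agent.Lib.Helper20.ZetaODE.constantCoeff_charpoly_reverse (T.pullDeg F (i : ℤ))
  have hsolZ := Groth.Agent.Lib.Helper20.ZetaODE.isSol_zetaFun f K
  have hL := hsolZ.mul (Groth.Agent.Lib.Helper20.ZetaODE.IsSol.prod (Finset.range (n + 1))
    (fun i => -(A (2 * i)))
    (fun i => ((LinearMap.charpoly (T.pullDeg F ((2 * i : ℕ) : ℤ))).reverse : PowerSeries K))
    (fun i _ => hsolP (2 * i)))
  have hR := Groth.Agent.Lib.Helper20.ZetaODE.IsSol.prod (Finset.range n)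
    (fun i => -(A (2 * i + 1)))
    (fun i => ((LinearMap.charpoly (T.pullDeg F ((2 * i + 1 : ℕ) : ℤ))).reverse : PowerSeries K))
    (fun i _ => hsolP (2 * i + 1))
  refine hL.unique hR ?_ ?_
  · ext l
    have h1 := alt_trace_eq_nPts k₀ k K T f FX hle hFapp Xb π hπ F hF Pb p q hP (l + 1)
      (Nat.succ_pos l)
    rw [Groth.Agent.Lib.Helper20.ZetaODE.alt_sum_split] at h1
    simp only [map_add, map_sum, map_neg, PowerSeries.coeff_mk, A]
    rw [← h1]
    simp only [Finset.sum_neg_distrib]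
    ring
  · rw [map_mul, Groth.Agent.Lib.Helper20.ZetaODE.constantCoeff_zetaFun,
      Groth.Agent.Lib.Helper20.ZetaODE.constantCoeff_prod_eq_one _ _ (fun i _ => hccP (2 * i)),
      Groth.Agent.Lib.Helper20.ZetaODE.constantCoeff_prod_eq_one _ _ (fun i _ => hccP (2 * i + 1)),
      mul_one]

end Main

end Groth.Agent.Lib.Helper20.WeilCohZeta
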