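import Mathlib
import Groth.Agent.Lib.Helper26.WeilSym

/-!
# Functional equation for Weil polynomials (helper20)

For a monic `P ∈ ℤ[X]` all of whose complex roots have absolute value `√q`:
`refl_eq`: `x^n P(q/x) = P(0) · P(x)`; `coeff_symm`: `P(0) = ε q^D` and
`c_{D-r} = ε q^r c_{D+r}` when `deg P = 2D`; `hpoly`, `hpoly_spec`: a polynomial `h ∈ ℤ[F,V]`
with `F^D h ≡ P(F)` modulo `FV - q`; `aeval_refl_field`.
-/

set_option autoImplicit false
set_option linter.style.haveILetI false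

universe u

open Polynomial

namespace Groth.Agent.Lib.Helper20.WeilFE

open Groth.Agent.Lib.Helper26.WeilSym

lemma aeval_refl_field {K : Type u} [Field K] (P : ℤ[X]) (q : ℤ) (w : K) (hw : w ≠ 0) :
    aeval w (refl P q) = w ^ P.natDegree * aeval ((q : K) / w) P := by
  unfold Groth.Agent.Lib.Helper26.WeilSym.refl
  rw [map_sum, aeval_eq_sum_range, Finset.mul_sum]
  apply Finset.sum_congr rfl
  intro j hj
  rw [Finset.mem_range] at hj
  have hj' : j ≤ P.natDegree := by omega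
  rw [map_mul, aeval_C, map_pow, aeval_X, zsmul_eq_mul, div_pow]
  have : w ^ P.natDegree = w ^ (P.natDegree - j) * w ^ j := by
    rw [← pow_add]
    congr 1
    omega
  rw [this]
  have hwj : w ^ j ≠ 0 := pow_ne_zero _ hw
  simp only [eq_intCast, Int.cast_mul, Int.cast_pow]
  field_simp

theorem refl_eq (P : ℤ[X]) (hm : P.Monic) (q : ℕ)
    (hweil : ∀ z ∈ P.aroots ℂ, ‖z‖ = Real.sqrt (q : ℝ)) :
    refl P (q : ℤ) = C (P.coeff 0) * P := by
  have hinj : Function.Injective (Polynomial.map (algebraMap ℤ ℂ)) :=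
    Polynomial.map_injective _ (algebraMap ℤ ℂ).injective_int
  apply hinj
  apply Polynomial.eq_of_infinite_eval_eq
  refine Set.Infinite.mono (fun w hw => ?_) ((Set.finite_singleton (0 : ℂ)).infinite_compl)
  have hw0 : w ≠ 0 := by
    intro h
    exact hw (by rw [h]; exact Set.mem_singleton _)
  show eval w ((refl P (q : ℤ)).map (algebraMap ℤ ℂ)) = eval w ((C (P.coeff 0) * P).map (algebraMap ℤ ℂ))
  rw [Polynomial.eval_map_algebraMap, Polynomial.eval_map_algebraMap]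
  have hsplit : (P.map (algebraMap ℤ ℂ)).Splits := IsAlgClosed.splits _
  have hqz : ∀ z ∈ P.aroots ℂ, z * (starRingEnd ℂ) z = ((q : ℤ) : ℂ) := by
    intro z hz
    rw [Complex.mul_conj, Complex.normSq_eq_norm_sq, hweil z hz, Real.sq_sqrt (Nat.cast_nonneg q)]
    simp
  have h1 : aeval w (refl P (q : ℤ)) = w ^ P.natDegree * aeval (((q : ℤ) : ℂ) / w) P :=
    aeval_refl P q w hw0
  have hcard : Multiset.card (P.aroots ℂ) = P.natDegree := by
    rw [aroots, ← hsplit.natDegree_eq_card_roots, hm.natDegree_map]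
  have h2 : aeval (((q : ℤ) : ℂ) / w) P =
      ((P.aroots ℂ).map (fun z => ((q : ℤ) : ℂ) / w - z)).prod :=
    hsplit.aeval_eq_prod_aroots_of_monic hm _
  have h3 : w ^ P.natDegree * ((P.aroots ℂ).map (fun z => ((q : ℤ) : ℂ) / w - z)).prod
      = ((P.aroots ℂ).map (fun z => (-z) * (w - (starRingEnd ℂ) z))).prod := by
    rw [← hcard, ← Multiset.prod_replicate, ← Multiset.map_const', ← Multiset.prod_map_mul]
    congr 1
    apply Multiset.map_congr rfl
    intro z hz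
    have h := hqz z hz
    calc w * (((q : ℤ) : ℂ) / w - z) = ((q : ℤ) : ℂ) - w * z := by
          rw [mul_sub, mul_div_cancel₀ _ hw0]
      _ = (-z) * (w - (starRingEnd ℂ) z) := by rw [← h]; ring
  have h4 : ((P.aroots ℂ).map (fun z => (-z) * (w - (starRingEnd ℂ) z))).prod =
      ((P.aroots ℂ).map (fun z => -z)).prod *
        ((P.aroots ℂ).map (fun z => w - (starRingEnd ℂ) z)).prod := Multiset.prod_map_mul
  have h5 : ((P.aroots ℂ).map (fun z => -z)).prod = ((P.coeff 0 : ℤ) : ℂ) := by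
    have h := hsplit.coeff_zero_eq_prod_roots_of_monic (hm.map _)
    rw [coeff_map, hm.natDegree_map] at h
    rw [Multiset.prod_map_neg, hcard]
    show (-1 : ℂ) ^ P.natDegree * (P.aroots ℂ).prod = _
    rw [aroots, ← h]
    simp
  have h6 : ((P.aroots ℂ).map (fun z => w - (starRingEnd ℂ) z)).prod = aeval w P := by
    have e1 : aeval ((starRingEnd ℂ) w) P =
        ((P.aroots ℂ).map (fun z => (starRingEnd ℂ) w - z)).prod :=
      hsplit.aeval_eq_prod_aroots_of_monic hm _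
    have e2 : (starRingEnd ℂ) (aeval ((starRingEnd ℂ) w) P) = aeval w P := by
      rw [aeval_conj_int]; simp
    rw [← e2, e1, map_multiset_prod, Multiset.map_map]
    congr 1
    apply Multiset.map_congr rfl
    intro z _
    simp
  rw [h1, h2, h3, h4, h5, h6, map_mul, aeval_C]
  simp

theorem coeff_zero_eq (P : ℤ[X]) (hm : P.Monic) (D : ℕ) (hdeg : P.natDegree = 2 * D) (q : ℕ)
    (hweil : ∀ z ∈ P.aroots ℂ, ‖z‖ = Real.sqrt (q : ℝ)) :
    ∃ ε : ℤ, ε * ε = 1 ∧ P.coeff 0 = ε * (q : ℤ) ^ D := by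
  obtain ⟨Pc, hPc⟩ : ∃ Pc : ℂ[X], Pc = P.map (algebraMap ℤ ℂ) := ⟨_, rfl⟩
  have hPc_monic : Pc.Monic := by rw [hPc]; exact hm.map _
  have hsplit : Pc.Splits := IsAlgClosed.splits Pc
  have hc0 : Pc.coeff 0 = (-1) ^ Pc.natDegree * Pc.roots.prod :=
    hsplit.coeff_zero_eq_prod_roots_of_monic hPc_monic
  have hdegc : Pc.natDegree = 2 * D := by rw [hPc, hm.natDegree_map, hdeg]
  have hcard : Multiset.card Pc.roots = 2 * D := by rw [← hsplit.natDegree_eq_card_roots, hdegc]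
  have hroots : ∀ z ∈ Pc.roots, ‖z‖ = Real.sqrt (q : ℝ) := by
    intro z hz
    apply hweil z
    rw [aroots, ← hPc]; exact hz
  have hnorm : ‖Pc.roots.prod‖ = (Real.sqrt (q : ℝ)) ^ (2 * D) := by
    rw [← hcard]
    have h1 : ‖Pc.roots.prod‖ = (Pc.roots.map (fun z => ‖z‖)).prod :=
      map_multiset_prod (normHom : ℂ →*₀ ℝ) _
    have h2 : ∀ x ∈ Pc.roots.map (fun z => ‖z‖), x = Real.sqrt (q : ℝ) := by
      intro x hx
      obtain ⟨z, hz, rfl⟩ := Multiset.mem_map.mp hx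
      exact hroots z hz
    rw [h1, Multiset.eq_replicate_of_mem h2, Multiset.prod_replicate, Multiset.card_map]
  have hq : (Real.sqrt (q : ℝ)) ^ (2 * D) = ((q : ℝ)) ^ D := by
    rw [pow_mul, Real.sq_sqrt (by positivity)]
  have hcoef : Pc.coeff 0 = ((P.coeff 0 : ℤ) : ℂ) := by
    rw [hPc, Polynomial.coeff_map]; simp
  have habs : |(P.coeff 0 : ℝ)| = ((q : ℝ)) ^ D := by
    rw [← hq, ← hnorm, ← Complex.norm_intCast, ← hcoef, hc0, hdegc, pow_mul]
    simp
  have habs' : |P.coeff 0| = ((q : ℕ) : ℤ) ^ D := by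
    have : ((|P.coeff 0| : ℤ) : ℝ) = ((((q : ℕ) : ℤ) ^ D : ℤ) : ℝ) := by
      rw [Int.cast_abs, habs]; norm_cast
    exact_mod_cast this
  rcases abs_eq (by positivity : (0 : ℤ) ≤ ((q : ℕ) : ℤ) ^ D) |>.mp habs' with h | h
  · exact ⟨1, by norm_num, by rw [h, one_mul]⟩
  · exact ⟨-1, by norm_num, by rw [h]; ring⟩

theorem coeff_symm (P : ℤ[X]) (hm : P.Monic) (D : ℕ) (hdeg : P.natDegree = 2 * D) (q : ℕ)
    (hq : 0 < q) (hweil : ∀ z ∈ P.aroots ℂ, ‖z‖ = Real.sqrt (q : ℝ)) :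
    ∃ ε : ℤ, ε * ε = 1 ∧ P.coeff 0 = ε * (q : ℤ) ^ D ∧
      ∀ r ≤ D, P.coeff (D - r) = ε * (q : ℤ) ^ r * P.coeff (D + r) := by
  obtain ⟨ε, hε, h0⟩ := coeff_zero_eq P hm D hdeg q hweil
  refine ⟨ε, hε, h0, ?_⟩
  intro r hr
  have h1 := refl_eq P hm q hweil
  have h2 : (refl P (q : ℤ)).coeff (D - r) = (C (P.coeff 0) * P).coeff (D - r) := by rw [h1]
  rw [coeff_refl P q (D - r) (by omega), coeff_C_mul, h0, hdeg] at h2
  have e1 : 2 * D - (D - r) = D + r := by omega
  rw [e1, pow_add] at h2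
  have hq0 : ((q : ℤ)) ^ D ≠ 0 := pow_ne_zero _ (by exact_mod_cast hq.ne')
  have h3 : (q : ℤ) ^ D * (P.coeff (D + r) * (q : ℤ) ^ r) = (q : ℤ) ^ D * (ε * P.coeff (D - r)) := by
    linear_combination h2
  have h4 := mul_left_cancel₀ hq0 h3
  calc P.coeff (D - r) = (ε * ε) * P.coeff (D - r) := by rw [hε, one_mul]
    _ = ε * (ε * P.coeff (D - r)) := by ring
    _ = ε * (P.coeff (D + r) * (q : ℤ) ^ r) := by rw [h4]
    _ = ε * (q : ℤ) ^ r * P.coeff (D + r) := by ring

open MvPolynomial in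
/-- the symmetric polynomial `h` with `F^D h ≡ P(F)` mod `FV - q` -/
noncomputable def hpoly (P : ℤ[X]) (ε : ℤ) (D : ℕ) : MvPolynomial (Fin 2) ℤ :=
  ∑ r ∈ Finset.range (D + 1), MvPolynomial.C (P.coeff (D + r)) * MvPolynomial.X 0 ^ r +
    ∑ r ∈ Finset.range D, MvPolynomial.C (ε * P.coeff (D + (r + 1))) * MvPolynomial.X 1 ^ (r + 1)

theorem hpoly_spec (P : ℤ[X]) (ε : ℤ) (D : ℕ) (q : ℤ) (hdeg : P.natDegree ≤ 2 * D)
    (hsym : ∀ r ≤ D, P.coeff (D - r) = ε * q ^ r * P.coeff (D + r)) :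
    MvPolynomial.X 0 ^ D * hpoly P ε D -
        Polynomial.aeval (MvPolynomial.X 0 : MvPolynomial (Fin 2) ℤ) P ∈
      Ideal.span ({MvPolynomial.X 0 * MvPolynomial.X 1 - MvPolynomial.C q} :
        Set (MvPolynomial (Fin 2) ℤ)) := by
  have hP : Polynomial.aeval (MvPolynomial.X 0 : MvPolynomial (Fin 2) ℤ) P =
      ∑ k ∈ Finset.range (D + (D + 1)), MvPolynomial.C (P.coeff k) * MvPolynomial.X 0 ^ k := by
    conv_lhs => rw [Polynomial.as_sum_range' P (D + (D + 1)) (by omega)]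
    rw [map_sum]
    apply Finset.sum_congr rfl
    intro k _
    rw [← Polynomial.C_mul_X_pow_eq_monomial, map_mul, Polynomial.aeval_C, map_pow,
      Polynomial.aeval_X]
    rfl
  rw [hP, Finset.sum_range_add, ← Finset.sum_range_reflect]
  have key : MvPolynomial.X 0 ^ D * hpoly P ε D -
      (∑ j ∈ Finset.range D, MvPolynomial.C (P.coeff (D - 1 - j)) * MvPolynomial.X 0 ^ (D - 1 - j) +
        ∑ x ∈ Finset.range (D + 1), MvPolynomial.C (P.coeff (D + x)) * MvPolynomial.X 0 ^ (D + x)) =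
      ∑ r ∈ Finset.range D, MvPolynomial.C (ε * P.coeff (D + (r + 1))) *
        (MvPolynomial.X 0 ^ (D - 1 - r) *
          ((MvPolynomial.X 0 * MvPolynomial.X 1) ^ (r + 1) - (MvPolynomial.C q) ^ (r + 1))) := by
    rw [hpoly, mul_add, Finset.mul_sum, Finset.mul_sum]
    have e1 : ∑ i ∈ Finset.range (D + 1), MvPolynomial.X 0 ^ D *
        (MvPolynomial.C (P.coeff (D + i)) * MvPolynomial.X 0 ^ i) =
        ∑ x ∈ Finset.range (D + 1), (MvPolynomial.C (P.coeff (D + x)) *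
          MvPolynomial.X 0 ^ (D + x) : MvPolynomial (Fin 2) ℤ) := by
      apply Finset.sum_congr rfl
      intro i _
      rw [pow_add]; ring
    rw [e1]
    have e2 : ∀ r ∈ Finset.range D, (MvPolynomial.C (P.coeff (D - 1 - r)) *
        MvPolynomial.X 0 ^ (D - 1 - r) : MvPolynomial (Fin 2) ℤ) =
        MvPolynomial.C (ε * P.coeff (D + (r + 1))) * (MvPolynomial.X 0 ^ (D - 1 - r) *
          (MvPolynomial.C q) ^ (r + 1)) := by
      intro r hr
      rw [Finset.mem_range] at hr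
      have h1 := hsym (r + 1) (by omega)
      have e : D - (r + 1) = D - 1 - r := by omega
      rw [e] at h1
      rw [h1, ← map_pow, MvPolynomial.C_mul, MvPolynomial.C_mul, MvPolynomial.C_mul]
      ring
    rw [Finset.sum_congr rfl e2]
    have e3 : ∀ r ∈ Finset.range D, (MvPolynomial.X 0 ^ D *
        (MvPolynomial.C (ε * P.coeff (D + (r + 1))) * MvPolynomial.X 1 ^ (r + 1)) :
          MvPolynomial (Fin 2) ℤ) =
        MvPolynomial.C (ε * P.coeff (D + (r + 1))) * (MvPolynomial.X 0 ^ (D - 1 - r) *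
          (MvPolynomial.X 0 * MvPolynomial.X 1) ^ (r + 1)) := by
      intro r hr
      rw [Finset.mem_range] at hr
      have hpow : (MvPolynomial.X 0 : MvPolynomial (Fin 2) ℤ) ^ D =
          MvPolynomial.X 0 ^ (D - 1 - r) * MvPolynomial.X 0 ^ (r + 1) := by
        rw [← pow_add]; congr 1; omega
      rw [hpow, mul_pow]; ring
    rw [Finset.sum_congr rfl e3]
    have e4 : ∑ r ∈ Finset.range D, MvPolynomial.C (ε * P.coeff (D + (r + 1))) *
        (MvPolynomial.X 0 ^ (D - 1 - r) *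
          ((MvPolynomial.X 0 * MvPolynomial.X 1) ^ (r + 1) - (MvPolynomial.C q) ^ (r + 1))) =
        ∑ r ∈ Finset.range D, MvPolynomial.C (ε * P.coeff (D + (r + 1))) *
          (MvPolynomial.X 0 ^ (D - 1 - r) * (MvPolynomial.X 0 * MvPolynomial.X 1) ^ (r + 1)) -
        ∑ r ∈ Finset.range D, (MvPolynomial.C (ε * P.coeff (D + (r + 1))) *
          (MvPolynomial.X 0 ^ (D - 1 - r) * (MvPolynomial.C q) ^ (r + 1)) :
            MvPolynomial (Fin 2) ℤ) := by
      rw [← Finset.sum_sub_distrib]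
      apply Finset.sum_congr rfl
      intro r _
      ring
    rw [e4]
    ring
  rw [key]
  apply Ideal.sum_mem
  intro r _
  apply Ideal.mul_mem_left
  apply Ideal.mul_mem_left
  obtain ⟨c, hc⟩ := sub_dvd_pow_sub_pow (MvPolynomial.X 0 * MvPolynomial.X 1 :
    MvPolynomial (Fin 2) ℤ) (MvPolynomial.C q) (r + 1)
  rw [hc]
  exact Ideal.mul_mem_right _ _ (Ideal.subset_span rfl)

end Groth.Agent.Lib.Helper20.WeilFE
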