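import Mathlib

set_option autoImplicit false
universe u

namespace Groth.Agent.Lib.Helper20.WeilGm

open Function

/-- Lifting units along the reductions modulo the maximal ideals of a semilocal base, for an
integral algebra. -/
theorem exists_unit_lift {A R : Type u} [CommRing A] [CommRing R] [Finite (MaximalSpectrum A)]
    (φ : A →+* R) (hφ : φ.IsIntegral)
    (Rm : MaximalSpectrum A → Type u) [∀ m, CommRing (Rm m)] (ρ : ∀ m, R →+* Rm m)
    (hsurj : ∀ m, Surjective (ρ m)) (hker : ∀ m, RingHom.ker (ρ m) = m.asIdeal.map φ)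
    (v : ∀ m, (Rm m)ˣ) : ∃ w : Rˣ, ∀ m, ρ m (w : R) = (v m : Rm m) := by
  classical
  have hcop : Pairwise (IsCoprime on fun m : MaximalSpectrum A => RingHom.ker (ρ m)) := by
    intro m m' hne
    show IsCoprime (RingHom.ker (ρ m)) (RingHom.ker (ρ m'))
    rw [hker, hker, Ideal.isCoprime_iff_sup_eq, ← Ideal.map_sup]
    have : m.asIdeal ⊔ m'.asIdeal = ⊤ := by
      apply Ideal.IsMaximal.coprime_of_ne m.isMaximal m'.isMaximal
      intro h
      exact hne (MaximalSpectrum.ext h)
    rw [this, Ideal.map_top]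
  choose x hx using fun m => hsurj m (v m : Rm m)
  obtain ⟨r, hr⟩ := Ideal.exists_forall_sub_mem_ideal hcop x
  have hrm : ∀ m, ρ m r = (v m : Rm m) := by
    intro m
    have := hr m
    rw [RingHom.mem_ker, map_sub, sub_eq_zero] at this
    rw [this, hx]
  have hunit : IsUnit r := by
    by_contra hnu
    obtain ⟨n, hn, hrn⟩ := exists_max_ideal_of_mem_nonunits hnu
    haveI := hn
    have hp : (n.comap φ).IsMaximal := Ideal.isMaximal_comap_of_isIntegral_of_isMaximal' φ hφ n
    let m : MaximalSpectrum A := ⟨n.comap φ, hp⟩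
    have hmn : m.asIdeal.map φ ≤ n := Ideal.map_comap_le
    obtain ⟨c, hc⟩ := hsurj m ((v m)⁻¹ : (Rm m)ˣ)
    have h1 : r * c - 1 ∈ RingHom.ker (ρ m) := by
      rw [RingHom.mem_ker, map_sub, map_mul, hrm, hc, map_one]
      simp
    rw [hker] at h1
    have h2 : r * c - 1 ∈ n := hmn h1
    have h3 : (1 : R) ∈ n := by
      have := n.sub_mem (n.mul_mem_right c hrn) h2
      simpa using this
    exact hn.ne_top ((Ideal.eq_top_iff_one n).mpr h3)
  exact ⟨hunit.unit, fun m => by simpa using hrm m⟩

open CategoryTheory in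
/-- In a pushout square of commutative rings, the cobase change of a surjection is a surjection
whose kernel is generated by the image of the kernel. -/
theorem pushout_surjective_ker {R₀ R₁ R₂ R₃ : CommRingCat.{u}} {a : R₀ ⟶ R₁} {b : R₀ ⟶ R₂}
    {c : R₁ ⟶ R₃} {d : R₂ ⟶ R₃} (h : IsPushout a b c d) (hb : Surjective b.hom) :
    Surjective c.hom ∧ RingHom.ker c.hom = (RingHom.ker b.hom).map a.hom := by
  have hw : ∀ x, c.hom (a.hom x) = d.hom (b.hom x) := fun x => congr($(h.w).hom x)
  constructor
  · -- surjectivity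
    let S : Subring R₃ := c.hom.range
    let u' : R₁ →+* S := c.hom.rangeRestrict
    have hle : RingHom.ker b.hom ≤ RingHom.ker (u'.comp a.hom) := by
      intro x hx
      rw [RingHom.mem_ker] at hx ⊢
      apply Subtype.ext
      show c.hom (a.hom x) = 0
      rw [hw, hx, map_zero]
    let v' : R₂ →+* S := RingHom.liftOfSurjective b.hom hb ⟨u'.comp a.hom, hle⟩
    have hv' : v'.comp b.hom = u'.comp a.hom :=
      RingHom.liftOfRightInverse_comp _ _ _ ⟨u'.comp a.hom, hle⟩
    have comm : a ≫ CommRingCat.ofHom u' = b ≫ CommRingCat.ofHom v' := by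
      refine CommRingCat.hom_ext (RingHom.ext fun x => ?_)
      exact (RingHom.congr_fun hv' x).symm
    let w' := h.desc (CommRingCat.ofHom u') (CommRingCat.ofHom v') comm
    have h1 : w' ≫ CommRingCat.ofHom S.subtype = 𝟙 R₃ := by
      apply h.hom_ext
      · rw [← Category.assoc, h.inl_desc, Category.comp_id]
        ext x
        rfl
      · rw [← Category.assoc, h.inr_desc, Category.comp_id]
        ext y
        obtain ⟨x, rfl⟩ := hb y
        show ((v'.comp b.hom) x : R₃) = d.hom (b.hom x)
        rw [hv', ← hw]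
        rfl
    intro y
    have h2 : ((w'.hom y : S) : R₃) = y := congr($(h1).hom y)
    obtain ⟨x, hx⟩ := (w'.hom y).2
    exact ⟨x, hx.trans h2⟩
  · apply le_antisymm
    · intro y hy
      set I := (RingHom.ker b.hom).map a.hom with hI
      let u : R₁ →+* R₁ ⧸ I := Ideal.Quotient.mk I
      have hle : RingHom.ker b.hom ≤ RingHom.ker (u.comp a.hom) := by
        intro x hx
        rw [RingHom.mem_ker]
        show Ideal.Quotient.mk I (a.hom x) = 0
        rw [Ideal.Quotient.eq_zero_iff_mem]
        exact Ideal.mem_map_of_mem _ hx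
      let v : R₂ →+* R₁ ⧸ I := RingHom.liftOfSurjective b.hom hb ⟨u.comp a.hom, hle⟩
      have hv : v.comp b.hom = u.comp a.hom :=
        RingHom.liftOfRightInverse_comp _ _ _ ⟨u.comp a.hom, hle⟩
      have comm : a ≫ CommRingCat.ofHom u = b ≫ CommRingCat.ofHom v := by
        ext x
        exact (RingHom.congr_fun hv x).symm
      let w := h.desc (CommRingCat.ofHom u) (CommRingCat.ofHom v) comm
      have h1 : c ≫ w = CommRingCat.ofHom u := h.inl_desc _ _ _
      have h2 : u y = w.hom (c.hom y) := (congr($(h1).hom y)).symm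
      rw [RingHom.mem_ker] at hy
      rw [hy, map_zero] at h2
      exact Ideal.Quotient.eq_zero_iff_mem.mp h2
    · rw [Ideal.map_le_iff_le_comap]
      intro x hx
      rw [RingHom.mem_ker] at hx
      show c.hom (a.hom x) = 0
      rw [hw, hx, map_zero]

end Groth.Agent.Lib.Helper20.WeilGm
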