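import Mathlib
import Groth.Prelude.Def_WeilRes
import Groth.Prelude.Def_GmPts
import Groth.Agent.Lib.Helper20.WeilGm1

set_option autoImplicit false
universe u

open CategoryTheory CategoryTheory.Limits AlgebraicGeometry Function

namespace Groth.Agent.Lib.Helper20.WeilGm

set_option maxHeartbeats 800000 in
theorem main (A : Type u) [CommRing A] [Finite (MaximalSpectrum A)]
    (B : Type u) [CommRing B] [Algebra A B] [Module.Finite A B]
    (f : Spec (CommRingCat.of B) ⟶ Spec (CommRingCat.of A))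
    (hf : f = Spec.map (CommRingCat.ofHom (algebraMap A B)))
    (P : Over (Spec (CommRingCat.of A)))
    (q : Red.bc f P ⟶ Red.Gm (Spec (CommRingCat.of B)))
    (hP : WeilRes.IsWeilRes f (Red.Gm (Spec (CommRingCat.of B))) P q)
    (u : ∀ m : MaximalSpectrum A, Spec (CommRingCat.of (A ⧸ m.asIdeal)) ⟶ P.left)
    (hu : ∀ m : MaximalSpectrum A, u m ≫ P.hom =
      (Spec.map (CommRingCat.ofHom (Ideal.Quotient.mk m.asIdeal)))) :
    ∃ s : Spec (CommRingCat.of A) ⟶ P.left, s ≫ P.hom = 𝟙 (Spec (CommRingCat.of A)) ∧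
      ∀ m : MaximalSpectrum A,
        (Spec.map (CommRingCat.ofHom (Ideal.Quotient.mk m.asIdeal))) ≫ s = u m := by
  let S : Scheme.{u} := Spec (CommRingCat.of A)
  let πS : ∀ m : MaximalSpectrum A, Spec (CommRingCat.of (A ⧸ m.asIdeal)) ⟶ S := fun m =>
    Spec.map (CommRingCat.ofHom (Ideal.Quotient.mk m.asIdeal))
  let T₀ : Over S := Over.mk (𝟙 S)
  let Tm : MaximalSpectrum A → Over S := fun m => Over.mk (πS m)
  let j : ∀ m, Tm m ⟶ T₀ := fun m => Over.homMk (πS m) (by simp [T₀, Tm])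
  let um : ∀ m, Tm m ⟶ P := fun m => Over.homMk (u m) (hu m)
  let Φ : ∀ T : Over S, (T ⟶ P) → (Γ((Red.bc f T).left, ⊤))ˣ := fun T g =>
    GmPts.unitOfPt (WeilRes.restr f q T g)
  have hΦbij : ∀ T, Bijective (Φ T) := fun T =>
    (Function.bijective_iff_has_inverse.mpr
      ⟨GmPts.ptOfUnit, GmPts.ptOfUnit_unitOfPt, GmPts.unitOfPt_ptOfUnit⟩).comp (hP T)
  have hΦnat : ∀ {T₁ T : Over S} (t : T₁ ⟶ T) (g : T ⟶ P), Φ T₁ (t ≫ g) =
      Units.map ((Over.pullback f).map t).left.appTop.hom.toMonoidHom (Φ T g) := by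
    intro T₁ T t g
    show GmPts.unitOfPt (WeilRes.restr f q T₁ (t ≫ g)) = _
    rw [WeilRes.restr_comp, GmPts.unitOfPt_comp]
  -- the schemes
  let k : ∀ m, pullback (πS m) f ⟶ pullback (𝟙 S) f := fun m => ((Over.pullback f).map (j m)).left
  have hk1 : ∀ m, k m ≫ pullback.fst (𝟙 S) f = pullback.fst (πS m) f ≫ πS m := fun m =>
    pullback.lift_fst _ _ _
  have hk2 : ∀ m, k m ≫ pullback.snd (𝟙 S) f = pullback.snd (πS m) f := fun m =>
    pullback.lift_snd _ _ _
  have hpb : ∀ m, IsPullback (k m) (pullback.fst (πS m) f) (pullback.fst (𝟙 S) f) (πS m) := by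
    intro m
    have t : IsPullback (k m ≫ pullback.snd (𝟙 S) f) (pullback.fst (πS m) f) f (πS m ≫ 𝟙 S) := by
      rw [hk2, Category.comp_id]
      exact (IsPullback.of_hasPullback (πS m) f).flip
    exact IsPullback.of_right t (hk1 m) (IsPullback.of_hasPullback (𝟙 S) f).flip
  have hpo : ∀ m, IsPushout (pullback.fst (𝟙 S) f).appTop (πS m).appTop (k m).appTop
      (pullback.fst (πS m) f).appTop := fun m => isPushout_appTop_of_isPullback (hpb m)
  let eA := Scheme.ΓSpecIso (CommRingCat.of A)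
  let eB := Scheme.ΓSpecIso (CommRingCat.of B)
  let eQ := fun m : MaximalSpectrum A => Scheme.ΓSpecIso (CommRingCat.of (A ⧸ m.asIdeal))
  have hpo' : ∀ m, IsPushout (eA.inv ≫ (pullback.fst (𝟙 S) f).appTop)
      (CommRingCat.ofHom (Ideal.Quotient.mk m.asIdeal)) (k m).appTop
      ((eQ m).inv ≫ (pullback.fst (πS m) f).appTop) := by
    intro m
    refine (hpo m).of_iso eA (Iso.refl _) (eQ m) (Iso.refl _) (by simp) ?_ (by simp) (by simp)
    exact Scheme.ΓSpecIso_naturality _
  let φ : A →+* Γ(pullback (𝟙 S) f, ⊤) := (eA.inv ≫ (pullback.fst (𝟙 S) f).appTop).hom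
  have hρ : ∀ m, Surjective (k m).appTop.hom ∧
      RingHom.ker (k m).appTop.hom = m.asIdeal.map φ := by
    intro m
    have h1 := pushout_surjective_ker (hpo' m) Ideal.Quotient.mk_surjective
    refine ⟨h1.1, ?_⟩
    rw [h1.2]
    congr 1
    exact Ideal.mk_ker
  -- integrality of φ
  have hφint : φ.IsIntegral := by
    have hcond : pullback.fst (𝟙 S) f = pullback.snd (𝟙 S) f ≫ f := by
      have := pullback.condition (f := 𝟙 S) (g := f)
      rwa [Category.comp_id] at this
    have hnat : f.appTop ≫ eB.hom = eA.hom ≫ CommRingCat.ofHom (algebraMap A B) := by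
      rw [hf]
      exact Scheme.ΓSpecIso_naturality _
    have hnat' : eA.inv ≫ f.appTop = CommRingCat.ofHom (algebraMap A B) ≫ eB.inv := by
      rw [Iso.inv_comp_eq, ← Category.assoc, Iso.eq_comp_inv, hnat]
    let ψ : B →+* Γ(pullback (𝟙 S) f, ⊤) := (eB.inv ≫ (pullback.snd (𝟙 S) f).appTop).hom
    have hφψ : φ = ψ.comp (algebraMap A B) := by
      have h2 : eA.inv ≫ (pullback.fst (𝟙 S) f).appTop =
          CommRingCat.ofHom (algebraMap A B) ≫ (eB.inv ≫ (pullback.snd (𝟙 S) f).appTop) := by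
        rw [hcond, Scheme.Hom.comp_appTop, ← Category.assoc, hnat', Category.assoc]
      ext a
      exact congr($(h2).hom a)
    haveI : IsIso (pullback.snd (𝟙 S) f) := inferInstance
    haveI : IsIso (pullback.snd (𝟙 S) f).appTop := by
      show IsIso ((pullback.snd (𝟙 S) f).app ⊤)
      infer_instance
    haveI : IsIso (eB.inv ≫ (pullback.snd (𝟙 S) f).appTop) := inferInstance
    have hψsurj : Surjective ψ :=
      (ConcreteCategory.bijective_of_isIso (eB.inv ≫ (pullback.snd (𝟙 S) f).appTop)).2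
    rw [hφψ]
    exact RingHom.IsIntegral.trans _ _ (fun x => Algebra.IsIntegral.isIntegral x)
      (RingHom.isIntegral_of_surjective _ hψsurj)
  obtain ⟨w, hw⟩ := exists_unit_lift φ hφint (fun m => Γ(pullback (πS m) f, ⊤))
    (fun m => (k m).appTop.hom) (fun m => (hρ m).1) (fun m => (hρ m).2)
    (fun m => Φ (Tm m) (um m))
  obtain ⟨s', hs'⟩ := (hΦbij T₀).2 w
  have hjs : ∀ m, j m ≫ s' = um m := by
    intro m
    apply (hΦbij (Tm m)).1
    rw [hΦnat, hs']
    ext
    exact hw m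
  refine ⟨s'.left, Over.w s', fun m => ?_⟩
  have := congrArg (fun t => t.left) (hjs m)
  exact this

end Groth.Agent.Lib.Helper20.WeilGm
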