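import Mathlib
import Groth.Agent.Lib.Helper20.WeilFE
import Groth.Agent.S17984

/-!
# Minimal central orders of Weil numbers: common data (helper20)

`data`: for a finite family of pairwise nonconjugate Weil `q`-numbers of even total degree `2D`
there are a sign `ε` and `h ∈ ℤ[F,V]` with `F^D h ≡ P_w(F)` mod `FV - q`, the kernel of
`ℤ[F,V] → ∏ K_i` is `(FV - q, h)`, and `h` is regular modulo `FV - q`.
Also: `pi_ne_zero`, `aeval_pi_prod`, `aeval_V_prod` (`q/π_i` is a root of `P_w`).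
-/

set_option autoImplicit false
set_option linter.style.haveILetI false

universe u

open MvPolynomial

namespace Groth.Agent.Lib.Helper20.WeilOrd

open Groth.Agent.Lib.Helper20.WeilFE Groth.Agent.Lib.Helper26.WeilSym

section
variable (p e : ℕ) [Fact p.Prime] (ι : Type) [Fintype ι] (K : ι → Type u) [∀ i, Field (K i)]
  [∀ i, CharZero (K i)] (π : ∀ i, K i)

theorem prod_monic (hint : ∀ i, IsIntegral ℤ (π i)) : (∏ i, minpoly ℤ (π i)).Monic :=
  Polynomial.monic_prod_of_monic _ _ (fun i _ => minpoly.monic (hint i))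

theorem prod_natDegree (hint : ∀ i, IsIntegral ℤ (π i)) (D : ℕ)
    (hD : ∑ i, (minpoly ℤ (π i)).natDegree = 2 * D) :
    (∏ i, minpoly ℤ (π i)).natDegree = 2 * D := by
  rw [Polynomial.natDegree_prod_of_monic _ _ (fun i _ => minpoly.monic (hint i)), hD]

theorem prod_weil (hint : ∀ i, IsIntegral ℤ (π i))
    (hweil : ∀ i, ∀ z ∈ (minpoly ℤ (π i)).aroots ℂ, ‖z‖ = Real.sqrt ((p : ℝ) ^ e)) :
    ∀ z ∈ (∏ i, minpoly ℤ (π i)).aroots ℂ, ‖z‖ = Real.sqrt (((p ^ e : ℕ)) : ℝ) := by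
  intro z hz
  rw [Polynomial.mem_aroots] at hz
  obtain ⟨_, hz0⟩ := hz
  rw [map_prod, Finset.prod_eq_zero_iff] at hz0
  obtain ⟨i, _, hi⟩ := hz0
  have := hweil i z (by
    rw [Polynomial.mem_aroots]
    exact ⟨(minpoly.monic (hint i)).ne_zero, hi⟩)
  rw [this]; push_cast; rfl

theorem aeval_pi_prod (i : ι) : Polynomial.aeval (π i) (∏ j, minpoly ℤ (π j)) = 0 := by
  rw [map_prod]
  exact Finset.prod_eq_zero (Finset.mem_univ i) (minpoly.aeval ℤ (π i))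

theorem data (he : 0 < e) (hint : ∀ i, IsIntegral ℤ (π i))
    (hweil : ∀ i, ∀ z ∈ (minpoly ℤ (π i)).aroots ℂ, ‖z‖ = Real.sqrt ((p : ℝ) ^ e))
    (hinj : ∀ i j, minpoly ℤ (π i) = minpoly ℤ (π j) → i = j)
    (D : ℕ) (hD : ∑ i, (minpoly ℤ (π i)).natDegree = 2 * D) :
    ∃ (ε : ℤ) (h : MvPolynomial (Fin 2) ℤ), ε * ε = 1 ∧
      (∏ i, minpoly ℤ (π i)).coeff 0 = ε * ((p : ℤ) ^ e) ^ D ∧
      (X 0 ^ D * h - Polynomial.aeval (X 0 : MvPolynomial (Fin 2) ℤ) (∏ i, minpoly ℤ (π i)) ∈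
        Ideal.span ({X 0 * X 1 - C ((p : ℤ) ^ e)} : Set (MvPolynomial (Fin 2) ℤ))) ∧
      RingHom.ker (MvPolynomial.aeval ![fun i => π i, fun i => ((p : K i) ^ e) / π i] :
        MvPolynomial (Fin 2) ℤ →ₐ[ℤ] ((i : ι) → K i)) =
        Ideal.span {X 0 * X 1 - C ((p : ℤ) ^ e), h} ∧
      (∀ b : MvPolynomial (Fin 2) ℤ,
        h * b ∈ Ideal.span ({X 0 * X 1 - C ((p : ℤ) ^ e)} : Set (MvPolynomial (Fin 2) ℤ)) →
        b ∈ Ideal.span ({X 0 * X 1 - C ((p : ℤ) ^ e)} : Set (MvPolynomial (Fin 2) ℤ))) := by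
  have hp : p.Prime := Fact.out
  have hq : 0 < p ^ e := pow_pos hp.pos e
  have hmonic := prod_monic ι K π hint
  have hdeg := prod_natDegree ι K π hint D hD
  obtain ⟨ε, hε, h0, hsym⟩ := coeff_symm (∏ i, minpoly ℤ (π i)) hmonic D hdeg (p ^ e) hq
    (prod_weil p e ι K π hint hweil)
  have hcast : ((p ^ e : ℕ) : ℤ) = (p : ℤ) ^ e := by push_cast; rfl
  rw [hcast] at h0 hsym
  have hh := hpoly_spec (∏ i, minpoly ℤ (π i)) ε D ((p : ℤ) ^ e) hdeg.le hsym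
  refine ⟨ε, hpoly (∏ i, minpoly ℤ (π i)) ε D, hε, h0, hh, ?_, ?_⟩
  · exact (Groth.Agent.S17984.final p e ι K π he hint hweil hinj D hD _ hh).1
  · intro b hb
    have hr : (X 0 * X 1 - C ((p : ℤ) ^ e) : MvPolynomial (Fin 2) ℤ) =
        Groth.Agent.S17984.rr (p ^ e) := by
      rw [Groth.Agent.S17984.rr]; push_cast; rfl
    rw [hr] at hb hh ⊢
    exact Groth.Agent.S17984.h_regular (p ^ e) hq.ne' D _ hmonic.ne_zero _ hh b hb

theorem pi_ne_zero (he : 0 < e) (hint : ∀ i, IsIntegral ℤ (π i))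
    (ε : ℤ) (hε : ε * ε = 1) (D : ℕ)
    (h0 : (∏ i, minpoly ℤ (π i)).coeff 0 = ε * ((p : ℤ) ^ e) ^ D) (i : ι) : π i ≠ 0 := by
  intro hz
  have hp : p.Prime := Fact.out
  have h1 : (minpoly ℤ (π i)).coeff 0 = 0 := by
    have h5 := minpoly.aeval ℤ (π i)
    rw [hz] at h5
    rw [Polynomial.aeval_def, Polynomial.eval₂_at_zero] at h5
    rw [hz]
    apply (algebraMap ℤ (K i)).injective_int
    rw [h5, map_zero]
  have h2 : (∏ i, minpoly ℤ (π i)).coeff 0 = 0 := by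
    rw [Polynomial.coeff_zero_eq_eval_zero, Polynomial.eval_prod]
    apply Finset.prod_eq_zero (Finset.mem_univ i)
    rw [← Polynomial.coeff_zero_eq_eval_zero]; exact h1
  rw [h0] at h2
  have hnz : ((p : ℤ) ^ e) ≠ 0 := pow_ne_zero _ (by exact_mod_cast hp.ne_zero)
  rcases mul_eq_zero.mp h2 with h3 | h3
  · rw [h3] at hε; simp at hε
  · exact pow_ne_zero _ hnz h3

/-- `q/π_i` is again a root of `P_w`. -/
theorem aeval_V_prod (he : 0 < e) (hint : ∀ i, IsIntegral ℤ (π i))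
    (hweil : ∀ i, ∀ z ∈ (minpoly ℤ (π i)).aroots ℂ, ‖z‖ = Real.sqrt ((p : ℝ) ^ e))
    (ε : ℤ) (hε : ε * ε = 1) (D : ℕ)
    (h0 : (∏ i, minpoly ℤ (π i)).coeff 0 = ε * ((p : ℤ) ^ e) ^ D) (i : ι) :
    Polynomial.aeval (((p : K i) ^ e) / π i) (∏ j, minpoly ℤ (π j)) = 0 := by
  have hp : p.Prime := Fact.out
  have hπ := pi_ne_zero p e ι K π he hint ε hε D h0 i
  have hqK : ((p : K i) ^ e) ≠ 0 := pow_ne_zero _ (by exact_mod_cast hp.ne_zero)
  have hV : ((p : K i) ^ e) / π i ≠ 0 := div_ne_zero hqK hπ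
  have h1 := refl_eq (∏ j, minpoly ℤ (π j)) (prod_monic ι K π hint) (p ^ e)
    (prod_weil p e ι K π hint hweil)
  have h2 := aeval_refl_field (∏ j, minpoly ℤ (π j)) ((p ^ e : ℕ) : ℤ) (((p : K i) ^ e) / π i) hV
  rw [h1, map_mul, Polynomial.aeval_C] at h2
  have e1 : (((p ^ e : ℕ) : ℤ) : K i) / (((p : K i) ^ e) / π i) = π i := by
    push_cast
    field_simp
  rw [e1, aeval_pi_prod, mul_zero] at h2
  rcases mul_eq_zero.mp h2 with h3 | h3
  · exfalso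
    rw [h0] at h3
    have h4 : (algebraMap ℤ (K i)) (ε * ((p : ℤ) ^ e) ^ D) ≠ 0 := by
      rw [Ne, map_eq_zero_iff _ (algebraMap ℤ (K i)).injective_int]
      intro h5
      rcases mul_eq_zero.mp h5 with h6 | h6
      · rw [h6] at hε; simp at hε
      · exact pow_ne_zero _ (pow_ne_zero _ (by exact_mod_cast hp.ne_zero)) h6
    exact h4 h3
  · exact h3

end

end Groth.Agent.Lib.Helper20.WeilOrd
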