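import Mathlib
import Groth.Agent.S17984
import Groth.Agent.S17999

/-!
# The minimal central order enlarged by a rational Weil number: kernel (helper20)
-/

set_option autoImplicit false
universe u

open MvPolynomial

namespace Groth.Agent.Lib.Helper20.WeilGor

/-- evaluation at the point `(s, s)` -/
noncomputable def evs (s : ℤ) : MvPolynomial (Fin 2) ℤ →+* ℤ := MvPolynomial.eval (fun _ => s)

theorem evs_X (s : ℤ) (i : Fin 2) : evs s (X i) = s := by simp [evs]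
theorem evs_C (s a : ℤ) : evs s (C a) = a := by simp [evs]

theorem evs_aeval (s : ℤ) (i : Fin 2) (P : Polynomial ℤ) :
    evs s (Polynomial.aeval (X i : MvPolynomial (Fin 2) ℤ) P) = P.eval s := by
  have h := Polynomial.hom_eval₂ P (algebraMap ℤ (MvPolynomial (Fin 2) ℤ)) (evs s) (X i)
  rw [Polynomial.aeval_def, h, evs_X]
  have h2 : (evs s).comp (algebraMap ℤ (MvPolynomial (Fin 2) ℤ)) = RingHom.id ℤ :=
    RingHom.ext_int _ _
  rw [h2, Polynomial.eval₂_id]

theorem sub_C_mem (s : ℤ) (b : MvPolynomial (Fin 2) ℤ) :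
    b - C (evs s b) ∈ Ideal.span ({X 0 - C s, X 1 - C s} : Set (MvPolynomial (Fin 2) ℤ)) := by
  induction b using MvPolynomial.induction_on with
  | C a => rw [evs_C, sub_self]; exact Ideal.zero_mem _
  | add f g hf hg =>
    have : f + g - C (evs s (f + g)) = (f - C (evs s f)) + (g - C (evs s g)) := by
      rw [map_add, map_add]; ring
    rw [this]
    exact Ideal.add_mem _ hf hg
  | mul_X f i hf =>
    have hX : (X i - C s : MvPolynomial (Fin 2) ℤ) ∈
        Ideal.span ({X 0 - C s, X 1 - C s} : Set (MvPolynomial (Fin 2) ℤ)) := by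
      apply Ideal.subset_span
      fin_cases i
      · exact Or.inl rfl
      · exact Or.inr rfl
    have : f * X i - C (evs s (f * X i)) = (f - C (evs s f)) * X i + C (evs s f) * (X i - C s) := by
      rw [map_mul, evs_X, map_mul]; ring
    rw [this]
    exact Ideal.add_mem _ (Ideal.mul_mem_right _ _ hf) (Ideal.mul_mem_left _ _ hX)

theorem mem_of_evs (s : ℤ) (b : MvPolynomial (Fin 2) ℤ) (hb : evs s b = 0) :
    b ∈ Ideal.span ({X 0 - C s, X 1 - C s} : Set (MvPolynomial (Fin 2) ℤ)) := by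
  have := sub_C_mem s b
  rwa [hb, map_zero, sub_zero] at this

theorem evs_rr (s q : ℤ) (hs : s ^ 2 = q) :
    evs s (X 0 * X 1 - C q) = 0 := by
  rw [map_sub, map_mul, evs_X, evs_X, evs_C, ← hs]; ring

theorem evs_of_mem_span_rr (s q : ℤ) (hs : s ^ 2 = q) (x : MvPolynomial (Fin 2) ℤ)
    (hx : x ∈ Ideal.span ({X 0 * X 1 - C q} : Set (MvPolynomial (Fin 2) ℤ))) : evs s x = 0 := by
  obtain ⟨c, rfl⟩ := Ideal.mem_span_singleton'.mp hx
  rw [map_mul, evs_rr s q hs, mul_zero]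

/-- the ideal `J` -/
noncomputable def JJ (s q : ℤ) (h : MvPolynomial (Fin 2) ℤ) : Ideal (MvPolynomial (Fin 2) ℤ) :=
  Ideal.span {X 0 * X 1 - C q, h * (X 0 - C s), h * (X 1 - C s)}

theorem rr_mem_JJ (s q : ℤ) (h : MvPolynomial (Fin 2) ℤ) : X 0 * X 1 - C q ∈ JJ s q h :=
  Ideal.subset_span (Or.inl rfl)

theorem g1_mem_JJ (s q : ℤ) (h : MvPolynomial (Fin 2) ℤ) : h * (X 0 - C s) ∈ JJ s q h :=
  Ideal.subset_span (Or.inr (Or.inl rfl))

theorem g2_mem_JJ (s q : ℤ) (h : MvPolynomial (Fin 2) ℤ) : h * (X 1 - C s) ∈ JJ s q h :=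
  Ideal.subset_span (Or.inr (Or.inr rfl))

/-- abstract form of the kernel computation -/
theorem inf_ker_evs (s q : ℤ) (hs : s ^ 2 = q) (h : MvPolynomial (Fin 2) ℤ)
    (hm : evs s h ≠ 0) :
    Ideal.span ({X 0 * X 1 - C q, h} : Set (MvPolynomial (Fin 2) ℤ)) ⊓ RingHom.ker (evs s) =
      JJ s q h := by
  apply le_antisymm
  · rintro x ⟨hx1, hx2⟩
    obtain ⟨a, b, hab⟩ := Ideal.mem_span_pair.mp hx1
    have hx2' : evs s x = 0 := hx2
    rw [← hab, map_add, map_mul, map_mul, evs_rr s q hs, mul_zero, zero_add] at hx2'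
    have hb : evs s b = 0 := (mul_eq_zero.mp hx2').resolve_right hm
    obtain ⟨c1, c2, hc⟩ := Ideal.mem_span_pair.mp (mem_of_evs s b hb)
    have : x = a * (X 0 * X 1 - C q) + c1 * (h * (X 0 - C s)) + c2 * (h * (X 1 - C s)) := by
      rw [← hab, ← hc]; ring
    rw [this]
    exact Ideal.add_mem _ (Ideal.add_mem _ (Ideal.mul_mem_left _ _ (rr_mem_JJ s q h))
      (Ideal.mul_mem_left _ _ (g1_mem_JJ s q h))) (Ideal.mul_mem_left _ _ (g2_mem_JJ s q h))
  · unfold JJ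
    rw [Ideal.span_le]
    rintro x (rfl | rfl | rfl)
    · exact ⟨Ideal.subset_span (Or.inl rfl), evs_rr s q hs⟩
    · refine ⟨Ideal.mul_mem_right _ _ (Ideal.subset_span (Or.inr rfl)), ?_⟩
      show evs s _ = 0
      rw [map_mul, map_sub, evs_X, evs_C, sub_self, mul_zero]
    · refine ⟨Ideal.mul_mem_right _ _ (Ideal.subset_span (Or.inr rfl)), ?_⟩
      show evs s _ = 0
      rw [map_mul, map_sub, evs_X, evs_C, sub_self, mul_zero]

theorem aeval_const_eq (s : ℤ) (x : MvPolynomial (Fin 2) ℤ) :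
    (MvPolynomial.aeval (fun _ : Fin 2 => (s : ℚ)) : MvPolynomial (Fin 2) ℤ →ₐ[ℤ] ℚ) x =
      ((evs s x : ℤ) : ℚ) := by
  induction x using MvPolynomial.induction_on with
  | C a => simp [evs]
  | add f g hf hg => rw [map_add, map_add, hf, hg]; push_cast; rfl
  | mul_X f i hf => rw [map_mul, map_mul, hf, evs_X]; simp

section Fields

variable (p e : ℕ) [Fact p.Prime] (s : ℤ)
  (ι : Type) [Fintype ι] (K : ι → Type u) [∀ i, Field (K i)] [∀ i, CharZero (K i)] (π : ∀ i, K i)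

/-- the map to the product enlarged by `ℚ` -/
noncomputable abbrev phiw : MvPolynomial (Fin 2) ℤ →ₐ[ℤ] (((i : ι) → K i) × ℚ) :=
  MvPolynomial.aeval ![(⟨fun i => π i, (s : ℚ)⟩ : ((i : ι) → K i) × ℚ),
    ⟨fun i => ((p : K i) ^ e) / π i, (s : ℚ)⟩]

noncomputable abbrev phiv : MvPolynomial (Fin 2) ℤ →ₐ[ℤ] ((i : ι) → K i) :=
  MvPolynomial.aeval ![fun i => π i, fun i => ((p : K i) ^ e) / π i]

theorem phiw_fst (x : MvPolynomial (Fin 2) ℤ) :
    (phiw p e s ι K π x).1 = phiv p e ι K π x := by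
  have h := congrArg (fun f => f x) (MvPolynomial.comp_aeval (R := ℤ)
    (f := ![(⟨fun i => π i, (s : ℚ)⟩ : ((i : ι) → K i) × ℚ),
      ⟨fun i => ((p : K i) ^ e) / π i, (s : ℚ)⟩]) (AlgHom.fst ℤ ((i : ι) → K i) ℚ))
  simp only [AlgHom.comp_apply] at h
  have h2 : (fun i => (AlgHom.fst ℤ ((i : ι) → K i) ℚ)
      ((![(⟨fun i => π i, (s : ℚ)⟩ : ((i : ι) → K i) × ℚ),
      ⟨fun i => ((p : K i) ^ e) / π i, (s : ℚ)⟩] : Fin 2 → ((i : ι) → K i) × ℚ) i)) =
      ![fun i => π i, fun i => ((p : K i) ^ e) / π i] := by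
    funext i
    fin_cases i <;> rfl
  rw [h2] at h
  exact h

theorem phiw_snd (x : MvPolynomial (Fin 2) ℤ) :
    (phiw p e s ι K π x).2 = ((evs s x : ℤ) : ℚ) := by
  have h := congrArg (fun f => f x) (MvPolynomial.comp_aeval (R := ℤ)
    (f := ![(⟨fun i => π i, (s : ℚ)⟩ : ((i : ι) → K i) × ℚ),
      ⟨fun i => ((p : K i) ^ e) / π i, (s : ℚ)⟩]) (AlgHom.snd ℤ ((i : ι) → K i) ℚ))
  simp only [AlgHom.comp_apply] at h
  have h2 : (fun i => (AlgHom.snd ℤ ((i : ι) → K i) ℚ)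
      ((![(⟨fun i => π i, (s : ℚ)⟩ : ((i : ι) → K i) × ℚ),
      ⟨fun i => ((p : K i) ^ e) / π i, (s : ℚ)⟩] : Fin 2 → ((i : ι) → K i) × ℚ) i)) =
      fun _ => (s : ℚ) := by
    funext i
    fin_cases i <;> rfl
  rw [h2] at h
  have h3 : (AlgHom.snd ℤ ((i : ι) → K i) ℚ) (phiw p e s ι K π x) = (phiw p e s ι K π x).2 := rfl
  rw [← h3, h]
  exact aeval_const_eq s x

theorem ker_phiw :
    RingHom.ker (phiw p e s ι K π) = RingHom.ker (phiv p e ι K π) ⊓ RingHom.ker (evs s) := by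
  ext x
  rw [Ideal.mem_inf, RingHom.mem_ker, RingHom.mem_ker, RingHom.mem_ker]
  constructor
  · intro hx
    refine ⟨?_, ?_⟩
    · rw [← phiw_fst p e s, hx]; rfl
    · have h2 := phiw_snd p e s ι K π x
      rw [hx] at h2
      have h3 : ((evs s x : ℤ) : ℚ) = 0 := h2.symm
      exact_mod_cast h3
  · rintro ⟨h1, h2⟩
    apply Prod.ext
    · rw [phiw_fst, h1]; rfl
    · rw [phiw_snd, h2]; rfl

end Fields

end Groth.Agent.Lib.Helper20.WeilGor
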