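import Mathlib
import Groth.Agent.S17984
import Groth.Agent.S17987
import Groth.Agent.S17999
import Groth.Agent.Lib.Helper20.WeilGor1

/-!
# The minimal central order enlarged by a rational Weil number: arithmetic of `h(s,s)` (helper20)
-/

set_option autoImplicit false
universe u

open MvPolynomial

namespace Groth.Agent.Lib.Helper20.WeilGor

theorem eval_ne_zero_of_irreducible (P : Polynomial ℤ) (hirr : Irreducible P)
    (hdeg : P.natDegree ≠ 1) (a : ℤ) : P.eval a ≠ 0 := by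
  intro h0
  have hroot : P.IsRoot a := h0
  obtain ⟨Q, hQ⟩ := Polynomial.dvd_iff_isRoot.mpr hroot
  rcases hirr.isUnit_or_isUnit hQ with h1 | h1
  · exact Polynomial.not_isUnit_X_sub_C a h1
  · obtain ⟨u, hu, hu'⟩ := Polynomial.isUnit_iff.mp h1
    apply hdeg
    rw [hQ, ← hu', Polynomial.natDegree_mul (Polynomial.X_sub_C_ne_zero a)
      (by rw [Ne, Polynomial.C_eq_zero]; exact hu.ne_zero), Polynomial.natDegree_X_sub_C,
      Polynomial.natDegree_C]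

theorem sym_eval (P : Polynomial ℤ) (d : ℕ) (s : ℤ) (hdeg : P.natDegree = 2 * d)
    (hsym : ∀ r ≤ d, P.coeff (d - r) = s ^ (2 * r) * P.coeff (d + r)) :
    ∃ c : ℤ, P.eval s = s ^ d * c ∧ s ∣ c - P.coeff d := by
  refine ⟨P.coeff d + s * (2 * ∑ j ∈ Finset.range d, P.coeff (d + (j + 1)) * s ^ j), ?_,
    ⟨2 * ∑ j ∈ Finset.range d, P.coeff (d + (j + 1)) * s ^ j, by ring⟩⟩
  rw [Polynomial.eval_eq_sum_range, hdeg, show 2 * d + 1 = d + (d + 1) by ring,
    Finset.sum_range_add, Finset.sum_range_succ', add_zero]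
  have h1 : ∑ x ∈ Finset.range d, P.coeff x * s ^ x =
      ∑ j ∈ Finset.range d, P.coeff (d + (j + 1)) * s ^ (d + (j + 1)) := by
    rw [← Finset.sum_range_reflect]
    refine Finset.sum_congr rfl fun j hj => ?_
    have hj' : j < d := Finset.mem_range.mp hj
    have e1 : d - 1 - j = d - (j + 1) := by omega
    rw [e1, hsym (j + 1) (by omega), mul_comm (s ^ (2 * (j + 1))), mul_assoc, ← pow_add]
    congr 2
    omega
  have h2 : ∑ j ∈ Finset.range d, P.coeff (d + (j + 1)) * s ^ (d + (j + 1)) =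
      s ^ d * (s * ∑ j ∈ Finset.range d, P.coeff (d + (j + 1)) * s ^ j) := by
    rw [Finset.mul_sum, Finset.mul_sum]
    refine Finset.sum_congr rfl fun j _ => ?_
    rw [pow_add, pow_succ]
    ring
  rw [h1, h2]
  ring

section Fields

variable (p e : ℕ) [Fact p.Prime] (s : ℤ)
  (ι : Type) [Fintype ι] (K : ι → Type u) [∀ i, Field (K i)] [∀ i, CharZero (K i)] (π : ∀ i, K i)

theorem p_dvd_s (he : 0 < e) (hs : s ^ 2 = (p : ℤ) ^ e) : (p : ℤ) ∣ s := by
  have hpZ : Prime (p : ℤ) := Nat.prime_iff_prime_int.mp Fact.out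
  have h1 : (p : ℤ) ∣ s ^ 2 := by
    rw [hs]; exact dvd_pow_self _ he.ne'
  exact hpZ.dvd_of_dvd_pow h1

theorem s_ne_zero (hs : s ^ 2 = (p : ℤ) ^ e) : s ≠ 0 := by
  intro h0
  rw [h0] at hs
  have hp : (p : ℤ) ≠ 0 := by exact_mod_cast (Fact.out : p.Prime).ne_zero
  exact (pow_ne_zero e hp) (by rw [← hs]; ring)

theorem sqrt_eq_abs (hs : s ^ 2 = (p : ℤ) ^ e) : Real.sqrt ((p : ℝ) ^ e) = |(s : ℝ)| := by
  have h1 : ((p : ℝ) ^ e) = (s : ℝ) ^ 2 := by
    have := congrArg (fun z : ℤ => (z : ℝ)) hs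
    simp only [Int.cast_pow, Int.cast_natCast] at this
    exact this.symm
  rw [h1, Real.sqrt_sq_eq_abs]

theorem no_real_root (hs : s ^ 2 = (p : ℤ) ^ e) (hint : ∀ i, IsIntegral ℤ (π i))
    (hdeg : ∀ i, (minpoly ℤ (π i)).natDegree ≠ 1)
    (hweil : ∀ i, ∀ z ∈ (minpoly ℤ (π i)).aroots ℂ, ‖z‖ = Real.sqrt ((p : ℝ) ^ e)) :
    ∀ i, ∀ z ∈ (minpoly ℤ (π i)).aroots ℂ, z.im ≠ 0 := by
  intro i z hz him
  have hnorm := hweil i z hz
  rw [sqrt_eq_abs p e s hs] at hnorm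
  have hzre : z = (z.re : ℂ) := by
    apply Complex.ext
    · simp
    · simp [him]
  have habs : |z.re| = |(s : ℝ)| := by
    rw [← hnorm, hzre, Complex.norm_real, Real.norm_eq_abs]
    simp
  have hcases : z = ((s : ℤ) : ℂ) ∨ z = ((-s : ℤ) : ℂ) := by
    rcases abs_eq_abs.mp habs with h | h
    · left; rw [hzre, h]; push_cast; rfl
    · right; rw [hzre, h]; push_cast; rfl
  rw [Polynomial.mem_aroots] at hz
  have key : ∀ a : ℤ, z = ((a : ℤ) : ℂ) → False := by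
    intro a ha
    have h1 := hz.2
    rw [ha] at h1
    have h2 : Polynomial.aeval ((a : ℤ) : ℂ) (minpoly ℤ (π i)) =
        (((minpoly ℤ (π i)).eval a : ℤ) : ℂ) := by
      have := Polynomial.aeval_algebraMap_apply_eq_algebraMap_eval (A := ℂ) a (minpoly ℤ (π i))
      simpa using this
    rw [h2] at h1
    have h3 : (minpoly ℤ (π i)).eval a = 0 := by exact_mod_cast h1
    exact eval_ne_zero_of_irreducible _ (minpoly.irreducible (hint i)) (hdeg i) a h3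
  rcases hcases with h | h
  · exact key s h
  · exact key (-s) h

theorem pow_mul_evs (hs : s ^ 2 = (p : ℤ) ^ e) (D : ℕ) (P : Polynomial ℤ)
    (h : MvPolynomial (Fin 2) ℤ)
    (hh : X 0 ^ D * h - Polynomial.aeval (X 0 : MvPolynomial (Fin 2) ℤ) P ∈
      Ideal.span ({X 0 * X 1 - C ((p : ℤ) ^ e)} : Set (MvPolynomial (Fin 2) ℤ))) :
    s ^ D * evs s h = P.eval s := by
  have h1 := evs_of_mem_span_rr s _ hs _ hh
  rw [map_sub, map_mul, map_pow, evs_X, evs_aeval] at h1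
  exact sub_eq_zero.mp h1

theorem evs_h_ne_zero (hs : s ^ 2 = (p : ℤ) ^ e) (hint : ∀ i, IsIntegral ℤ (π i))
    (hdeg : ∀ i, (minpoly ℤ (π i)).natDegree ≠ 1) (D : ℕ)
    (h : MvPolynomial (Fin 2) ℤ)
    (hh : X 0 ^ D * h - Polynomial.aeval (X 0 : MvPolynomial (Fin 2) ℤ) (∏ i, minpoly ℤ (π i)) ∈
      Ideal.span ({X 0 * X 1 - C ((p : ℤ) ^ e)} : Set (MvPolynomial (Fin 2) ℤ))) :
    evs s h ≠ 0 := by
  intro h0
  have h1 := pow_mul_evs p e s hs D _ h hh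
  rw [h0, mul_zero, Polynomial.eval_prod] at h1
  obtain ⟨i, _, hi⟩ := Finset.prod_eq_zero_iff.mp h1.symm
  exact eval_ne_zero_of_irreducible _ (minpoly.irreducible (hint i)) (hdeg i) s hi

/-- Part (1): the kernel. -/
theorem ker_phiw_eq (he : 0 < e) (hs : s ^ 2 = (p : ℤ) ^ e) (hint : ∀ i, IsIntegral ℤ (π i))
    (hdeg : ∀ i, (minpoly ℤ (π i)).natDegree ≠ 1)
    (hweil : ∀ i, ∀ z ∈ (minpoly ℤ (π i)).aroots ℂ, ‖z‖ = Real.sqrt ((p : ℝ) ^ e))
    (hinj : ∀ i j, minpoly ℤ (π i) = minpoly ℤ (π j) → i = j)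
    (D : ℕ) (hD : ∑ i, (minpoly ℤ (π i)).natDegree = 2 * D)
    (h : MvPolynomial (Fin 2) ℤ)
    (hh : X 0 ^ D * h - Polynomial.aeval (X 0 : MvPolynomial (Fin 2) ℤ) (∏ i, minpoly ℤ (π i)) ∈
      Ideal.span ({X 0 * X 1 - C ((p : ℤ) ^ e)} : Set (MvPolynomial (Fin 2) ℤ))) :
    RingHom.ker (phiw p e s ι K π) = JJ s ((p : ℤ) ^ e) h := by
  rw [ker_phiw]
  have h1 := (Groth.Agent.S17984.result p e he ι K π hint hweil hinj D hD h hh).1
  rw [show RingHom.ker (phiv p e ι K π) = _ from h1]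
  exact inf_ker_evs s _ hs h (evs_h_ne_zero p e s ι K π hs hint hdeg D h hh)

/-- ordinary iff `p ∤ h(s,s)` -/
theorem ordinary_iff (he : 0 < e) (hs : s ^ 2 = (p : ℤ) ^ e) (hint : ∀ i, IsIntegral ℤ (π i))
    (hdeg : ∀ i, (minpoly ℤ (π i)).natDegree ≠ 1)
    (hweil : ∀ i, ∀ z ∈ (minpoly ℤ (π i)).aroots ℂ, ‖z‖ = Real.sqrt ((p : ℝ) ^ e))
    (D : ℕ) (hD : ∑ i, (minpoly ℤ (π i)).natDegree = 2 * D)
    (h : MvPolynomial (Fin 2) ℤ)
    (hh : X 0 ^ D * h - Polynomial.aeval (X 0 : MvPolynomial (Fin 2) ℤ) (∏ i, minpoly ℤ (π i)) ∈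
      Ideal.span ({X 0 * X 1 - C ((p : ℤ) ^ e)} : Set (MvPolynomial (Fin 2) ℤ))) :
    (∀ i, 2 * Multiset.card (((minpoly ℤ (π i)).aroots (PadicAlgCl p)).filter
      (fun z => ‖z‖ = 1)) = (minpoly ℤ (π i)).natDegree) ↔ ¬ ((p : ℤ) ∣ evs s h) := by
  have hpZ : Prime (p : ℤ) := Nat.prime_iff_prime_int.mp Fact.out
  have hnr := no_real_root p e s ι K π hs hint hdeg hweil
  rw [Groth.Agent.S17987.result p e he ι K π hint hweil hnr]
  have hps := p_dvd_s p e s he hs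
  have hs0 := s_ne_zero p e s hs
  -- per-polynomial data
  have hdata : ∀ i, ∃ c : ℤ, (minpoly ℤ (π i)).eval s =
      s ^ ((minpoly ℤ (π i)).natDegree / 2) * c ∧
      s ∣ c - (minpoly ℤ (π i)).coeff ((minpoly ℤ (π i)).natDegree / 2) ∧
      (minpoly ℤ (π i)).natDegree = 2 * ((minpoly ℤ (π i)).natDegree / 2) := by
    intro i
    obtain ⟨heven, hsymm⟩ := Groth.Agent.Lib.Helper26.WeilSym.main p e he (K i) (π i) (hint i)
      (hweil i) (hnr i)
    obtain ⟨d, hd⟩ := heven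
    have hd2 : (minpoly ℤ (π i)).natDegree / 2 = d := by omega
    have hd3 : (minpoly ℤ (π i)).natDegree = 2 * d := by omega
    rw [hd2] at hsymm ⊢
    obtain ⟨c, hc1, hc2⟩ := sym_eval (minpoly ℤ (π i)) d s hd3 (fun r hr => by
      rw [hsymm r hr, pow_mul, ← hs, ← pow_mul])
    exact ⟨c, hc1, hc2, hd3⟩
  choose c hc1 hc2 hc3 using hdata
  have hsumd : ∑ i, (minpoly ℤ (π i)).natDegree / 2 = D := by
    have h1 : ∑ i, (minpoly ℤ (π i)).natDegree = 2 * ∑ i, (minpoly ℤ (π i)).natDegree / 2 := by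
      rw [Finset.mul_sum]
      exact Finset.sum_congr rfl fun i _ => hc3 i
    omega
  have hm : evs s h = ∏ i, c i := by
    have h1 := pow_mul_evs p e s hs D _ h hh
    rw [Polynomial.eval_prod] at h1
    have h2 : ∏ i, (minpoly ℤ (π i)).eval s = s ^ D * ∏ i, c i := by
      rw [← hsumd, ← Finset.prod_pow_eq_pow_sum, ← Finset.prod_mul_distrib]
      exact Finset.prod_congr rfl fun i _ => hc1 i
    rw [h2] at h1
    exact mul_left_cancel₀ (pow_ne_zero D hs0) h1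
  rw [hm, Prime.dvd_finsetProd_iff hpZ, Prime.dvd_finsetProd_iff hpZ]
  have hiff : ∀ i, (p : ℤ) ∣ (minpoly ℤ (π i)).coeff ((minpoly ℤ (π i)).natDegree / 2) ↔
      (p : ℤ) ∣ c i := by
    intro i
    have h1 : (p : ℤ) ∣ c i - (minpoly ℤ (π i)).coeff ((minpoly ℤ (π i)).natDegree / 2) :=
      hps.trans (hc2 i)
    constructor
    · intro h2
      have := dvd_add h1 h2
      rwa [sub_add_cancel] at this
    · intro h2
      have := dvd_sub h2 h1
      rwa [sub_sub_cancel] at this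
  constructor
  · rintro h1 ⟨i, hi, h2⟩
    exact h1 ⟨i, hi, (hiff i).mpr h2⟩
  · rintro h1 ⟨i, hi, h2⟩
    exact h1 ⟨i, hi, (hiff i).mp h2⟩

end Fields

end Groth.Agent.Lib.Helper20.WeilGor
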