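import Mathlib
import Groth.Prelude.Def_CAlg
import Groth.Agent.S17984
import Groth.Agent.S17985
import Groth.Agent.Lib.Helper16.GorBC1
import Groth.Agent.Lib.Helper16.GorBC2
import Groth.Agent.Lib.Helper2.Gor.GK1

/-!
# Gorenstein tools: localisations of quotients killed locally, complete intersections in `ℤ[F,V]`
(helper20)
-/

set_option autoImplicit false
set_option linter.style.haveILetI false
universe u

open MvPolynomial

namespace Groth.Agent.Lib.Helper20.WeilGor

/-- If every element of the kernel of a surjection `π : A → R` is killed by an element outside the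
prime `Q' = π⁻¹ Q`, the localisations `A_{Q'}` and `R_Q` are isomorphic. -/
theorem loc_equiv {A R : Type u} [CommRing A] [CommRing R] (π : A →+* R)
    (hπ : Function.Surjective π) (Q : Ideal R) [Q.IsPrime] (Q' : Ideal A) [Q'.IsPrime]
    (hQ : Q' = Q.comap π)
    (hk : ∀ k ∈ RingHom.ker π, ∃ f, π f ∉ Q ∧ f * k = 0) :
    Nonempty (Localization.AtPrime Q' ≃+* Localization.AtPrime Q) := by
  subst hQ
  let g := Localization.localRingHom (Q.comap π) Q π rfl
  have hsurj : Function.Surjective g := by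
    intro x
    obtain ⟨r, ⟨t, ht⟩, rfl⟩ := IsLocalization.exists_mk'_eq Q.primeCompl x
    obtain ⟨a, rfl⟩ := hπ r
    obtain ⟨b, rfl⟩ := hπ t
    have hb : b ∈ (Q.comap π).primeCompl := fun h => ht h
    refine ⟨IsLocalization.mk' _ a ⟨b, hb⟩, ?_⟩
    exact Localization.localRingHom_mk' _ _ _ _ _ _
  have hinj : Function.Injective g := by
    rw [injective_iff_map_eq_zero]
    intro z hz
    obtain ⟨a, ⟨b, hb⟩, rfl⟩ := IsLocalization.exists_mk'_eq (Q.comap π).primeCompl z
    have h1 : g (IsLocalization.mk' _ a ⟨b, hb⟩) =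
        IsLocalization.mk' (Localization.AtPrime Q) (π a)
          (⟨π b, fun h => hb h⟩ : Q.primeCompl) :=
      Localization.localRingHom_mk' _ _ _ _ _ _
    rw [h1, IsLocalization.mk'_eq_zero_iff] at hz
    obtain ⟨⟨t, ht⟩, htz⟩ := hz
    obtain ⟨t', rfl⟩ := hπ t
    have h2 : t' * a ∈ RingHom.ker π := by
      rw [RingHom.mem_ker, map_mul]; exact htz
    obtain ⟨f, hf1, hf2⟩ := hk _ h2
    rw [IsLocalization.mk'_eq_zero_iff]
    refine ⟨⟨f * t', ?_⟩, ?_⟩
    · intro h
      have h3 : π (f * t') ∈ Q := h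
      rw [map_mul] at h3
      rcases Ideal.IsPrime.mem_or_mem inferInstance h3 with h4 | h4
      · exact hf1 h4
      · exact ht h4
    · show f * t' * a = 0
      rw [mul_assoc]; exact hf2
  exact ⟨RingEquiv.ofBijective g ⟨hinj, hsurj⟩⟩

/-- transfer of the Gorenstein property along `loc_equiv`, forward -/
theorem gorLocal_of_loc {A R : Type u} [CommRing A] [CommRing R] (π : A →+* R)
    (hπ : Function.Surjective π) (Q : Ideal R) [Q.IsPrime]
    (hk : ∀ k ∈ RingHom.ker π, ∃ f, π f ∉ Q ∧ f * k = 0)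
    (hA : LocCoh.IsGorensteinRing A) :
    LocCoh.IsGorensteinLocalRing (Localization.AtPrime Q) := by
  haveI : (Q.comap π).IsPrime := Ideal.comap_isPrime π Q
  obtain ⟨e⟩ := loc_equiv π hπ Q (Q.comap π) rfl hk
  exact Groth.Agent.Lib.Helper2.GK.gor_of_ringEquiv e (hA.isGorensteinLocalRing_localization _)

/-- transfer of the Gorenstein property along `loc_equiv`, backward -/
theorem gorLocal_of_loc' {A R : Type u} [CommRing A] [CommRing R] (π : A →+* R)
    (hπ : Function.Surjective π) (Q' : Ideal A) [Q'.IsPrime] (hle : RingHom.ker π ≤ Q')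
    (hk : ∀ k ∈ RingHom.ker π, ∃ f, f ∉ Q' ∧ f * k = 0)
    (hR : LocCoh.IsGorensteinRing R) :
    LocCoh.IsGorensteinLocalRing (Localization.AtPrime Q') := by
  haveI : (Q'.map π).IsPrime := Ideal.map_isPrime_of_surjective hπ hle
  have hc : (Q'.map π).comap π = Q' := by
    rw [Ideal.comap_map_of_surjective π hπ]
    exact sup_eq_left.mpr (by
      intro x hx
      exact hle (by rw [RingHom.mem_ker]; exact (Ideal.mem_comap.mp hx |> fun h => by simpa using h)))
  obtain ⟨e⟩ := loc_equiv π hπ (Q'.map π) Q' hc.symm (by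
    intro k hkk
    obtain ⟨f, hf1, hf2⟩ := hk k hkk
    refine ⟨f, ?_, hf2⟩
    intro h
    apply hf1
    rw [← hc]
    exact h)
  exact Groth.Agent.Lib.Helper2.GK.gor_of_ringEquiv e.symm
    (hR.isGorensteinLocalRing_localization _)

/-- complete intersections `ℤ[F,V]/(a, g)` are Gorenstein (in any universe) -/
theorem ci_gor (a g : MvPolynomial (Fin 2) ℤ) (ha : a ≠ 0)
    (hreg : ∀ b : MvPolynomial (Fin 2) ℤ, g * b ∈ Ideal.span ({a} : Set (MvPolynomial (Fin 2) ℤ)) →
      b ∈ Ideal.span ({a} : Set (MvPolynomial (Fin 2) ℤ))) :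
    ∃ (B2 : Type u) (_ : CommRing B2) (m : MvPolynomial (Fin 2) ℤ →+* B2),
      Function.Surjective m ∧ (∀ x, m x = 0 ↔ x ∈ Ideal.span ({a, g} : Set (MvPolynomial (Fin 2) ℤ))) ∧
      LocCoh.IsGorensteinRing B2 := by
  let eZ : ℤ ≃+* ULift.{u} ℤ := ULift.ringEquiv.symm
  haveI : IsRegularRing (ULift.{u} ℤ) := IsRegularRing.of_ringEquiv eZ
  haveI : IsRegularRing (MvPolynomial (Fin 2) (ULift.{u} ℤ)) := inferInstance
  have hPuG : LocCoh.IsGorensteinRing (MvPolynomial (Fin 2) (ULift.{u} ℤ)) :=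
    Groth.Agent.Lib.Helper16.GorBC.gorRing_of_isRegularRing _
  obtain ⟨eP, -⟩ : ∃ eP : MvPolynomial (Fin 2) ℤ ≃+* MvPolynomial (Fin 2) (ULift.{u} ℤ), True :=
    ⟨MvPolynomial.mapEquiv (Fin 2) eZ, trivial⟩
  haveI : IsDomain (MvPolynomial (Fin 2) (ULift.{u} ℤ)) :=
    Function.Injective.isDomain eP.symm.toRingHom eP.symm.injective
  have hau : eP a ∈ nonZeroDivisors (MvPolynomial (Fin 2) (ULift.{u} ℤ)) :=
    mem_nonZeroDivisors_of_ne_zero (by
      intro h1; exact ha (by simpa using h1))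
  obtain ⟨B1, _, m1, hm1s, hm1k, hB1⟩ := Groth.Agent.S17985.gor_step _ hPuG (eP a) hau
  have hmemI1 : ∀ y : MvPolynomial (Fin 2) (ULift.{u} ℤ),
      m1 y = 0 ↔ eP.symm y ∈ Ideal.span {a} := by
    intro y
    rw [hm1k, Ideal.mem_span_singleton', Ideal.mem_span_singleton']
    constructor
    · rintro ⟨c, hc⟩
      exact ⟨eP.symm c, by rw [← hc, map_mul, RingEquiv.symm_apply_apply]⟩
    · rintro ⟨c, hc⟩
      refine ⟨eP c, ?_⟩
      rw [← map_mul, hc, RingEquiv.apply_symm_apply]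
  have hhbar : m1 (eP g) ∈ nonZeroDivisors B1 := by
    rw [mem_nonZeroDivisors_iff_right]
    intro y hy
    obtain ⟨y', rfl⟩ := hm1s y
    rw [← map_mul, hmemI1, map_mul, RingEquiv.symm_apply_apply, mul_comm] at hy
    rw [hmemI1]
    exact hreg _ hy
  obtain ⟨B2, _, m2, hm2s, hm2k, hB2⟩ := Groth.Agent.S17985.gor_step B1 hB1 (m1 (eP g)) hhbar
  have hm21 : ∀ x, m2 (m1 x) = 0 ↔ eP.symm x ∈ Ideal.span {a, g} := by
    intro x
    rw [hm2k, Ideal.mem_span_singleton', Ideal.mem_span_pair]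
    constructor
    · rintro ⟨c, hc⟩
      obtain ⟨c', rfl⟩ := hm1s c
      rw [← map_mul, ← sub_eq_zero, ← map_sub, hmemI1, Ideal.mem_span_singleton'] at hc
      obtain ⟨d, hd⟩ := hc
      rw [map_sub, map_mul, RingEquiv.symm_apply_apply] at hd
      exact ⟨-d, eP.symm c', by linear_combination -hd⟩
    · rintro ⟨c1, c2, hc⟩
      refine ⟨m1 (eP c2), ?_⟩
      rw [← map_mul, ← sub_eq_zero, ← map_sub, hmemI1, Ideal.mem_span_singleton']
      refine ⟨-c1, ?_⟩
      rw [map_sub, map_mul, RingEquiv.symm_apply_apply, RingEquiv.symm_apply_apply, ← hc]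
      ring
  refine ⟨B2, inferInstance, (m2.comp m1).comp eP.toRingHom, ?_, ?_, hB2⟩
  · exact (hm2s.comp hm1s).comp eP.surjective
  · intro x
    show m2 (m1 (eP x)) = 0 ↔ _
    rw [hm21, RingEquiv.symm_apply_apply]

end Groth.Agent.Lib.Helper20.WeilGor
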