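import Mathlib
import Groth.Prelude.Def_CAlg
import Groth.Agent.S17984
import Groth.Agent.S17985
import Groth.Agent.Lib.Helper20.WeilGor1
import Groth.Agent.Lib.Helper20.WeilGor3

/-!
# `ℤ[F,V]/(FV-q, h(F-s), h(V-s))` is Gorenstein when `p ∤ h(s,s)` (helper20)
-/

set_option autoImplicit false
set_option linter.style.haveILetI false
universe u

open MvPolynomial

namespace Groth.Agent.Lib.Helper20.WeilGor

theorem evs_congr_zero (s : ℤ) (b : MvPolynomial (Fin 2) ℤ) : s ∣ evs s b - evs 0 b := by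
  induction b using MvPolynomial.induction_on with
  | C a => rw [evs_C, evs_C, sub_self]; exact dvd_zero _
  | add f g hf hg =>
    rw [map_add, map_add]
    have : evs s f + evs s g - (evs 0 f + evs 0 g) = (evs s f - evs 0 f) + (evs s g - evs 0 g) := by
      ring
    rw [this]; exact dvd_add hf hg
  | mul_X f i hf =>
    rw [map_mul, map_mul, evs_X, evs_X, mul_zero, sub_zero]
    exact Dvd.intro_left _ rfl

section Abstract

variable (s : ℤ) (n : ℕ) (hn : n ≠ 0) (hs : s ^ 2 = (n : ℤ))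
  (D : ℕ) (P : Polynomial ℤ) (hP : P ≠ 0) (h : MvPolynomial (Fin 2) ℤ)
  (hh : X 0 ^ D * h - Polynomial.aeval (X 0 : MvPolynomial (Fin 2) ℤ) P ∈
    Ideal.span ({Groth.Agent.S17984.rr n} : Set (MvPolynomial (Fin 2) ℤ)))

include hs in
theorem s_ne_zero' (hn : n ≠ 0) : s ≠ 0 := by
  intro h0
  rw [h0] at hs
  apply hn
  have : (n : ℤ) = 0 := by rw [← hs]; ring
  exact_mod_cast this

include hn hP hh in
theorem g1_regular (b : MvPolynomial (Fin 2) ℤ)
    (hb : (h * (X 0 - C s)) * b ∈ Ideal.span ({Groth.Agent.S17984.rr n} : Set _)) :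
    b ∈ Ideal.span ({Groth.Agent.S17984.rr n} : Set (MvPolynomial (Fin 2) ℤ)) := by
  refine Groth.Agent.S17984.h_regular n hn D (P * (Polynomial.X - Polynomial.C s))
    (mul_ne_zero hP (Polynomial.X_sub_C_ne_zero s)) (h * (X 0 - C s)) ?_ b hb
  have : X 0 ^ D * (h * (X 0 - C s)) -
      Polynomial.aeval (X 0 : MvPolynomial (Fin 2) ℤ) (P * (Polynomial.X - Polynomial.C s)) =
      (X 0 ^ D * h - Polynomial.aeval (X 0 : MvPolynomial (Fin 2) ℤ) P) * (X 0 - C s) := by
    rw [map_mul, map_sub, Polynomial.aeval_X, Polynomial.aeval_C]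
    rw [show (algebraMap ℤ (MvPolynomial (Fin 2) ℤ)) s = C s from rfl]
    ring
  rw [this]
  exact Ideal.mul_mem_right _ _ hh

include hn hs hP hh in
theorem g2_regular (b : MvPolynomial (Fin 2) ℤ)
    (hb : (h * (X 1 - C s)) * b ∈ Ideal.span ({Groth.Agent.S17984.rr n} : Set _)) :
    b ∈ Ideal.span ({Groth.Agent.S17984.rr n} : Set (MvPolynomial (Fin 2) ℤ)) := by
  have hs0 := s_ne_zero' s n hs hn
  refine Groth.Agent.S17984.h_regular n hn (D + 1)
    (P * (Polynomial.C (-s) * (Polynomial.X - Polynomial.C s)))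
    (mul_ne_zero hP (mul_ne_zero (by rw [Ne, Polynomial.C_eq_zero]; exact neg_ne_zero.mpr hs0)
      (Polynomial.X_sub_C_ne_zero s))) (h * (X 1 - C s)) ?_ b hb
  have hq : (C (n : ℤ) : MvPolynomial (Fin 2) ℤ) = C s * C s := by
    rw [← C_mul, ← hs]; ring_nf
  have : X 0 ^ (D + 1) * (h * (X 1 - C s)) -
      Polynomial.aeval (X 0 : MvPolynomial (Fin 2) ℤ)
        (P * (Polynomial.C (-s) * (Polynomial.X - Polynomial.C s))) =
      X 0 ^ D * h * Groth.Agent.S17984.rr n -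
      C s * (X 0 - C s) * (X 0 ^ D * h - Polynomial.aeval (X 0 : MvPolynomial (Fin 2) ℤ) P) := by
    rw [map_mul, map_mul, map_sub, Polynomial.aeval_X, Polynomial.aeval_C, Polynomial.aeval_C]
    rw [show (algebraMap ℤ (MvPolynomial (Fin 2) ℤ)) s = C s from rfl,
      show (algebraMap ℤ (MvPolynomial (Fin 2) ℤ)) (-s) = - C s by
        rw [← C_neg]; rfl, Groth.Agent.S17984.rr, hq]
    ring
  rw [this]
  exact Ideal.sub_mem _ (Ideal.mul_mem_left _ _ (Ideal.subset_span rfl))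
    (Ideal.mul_mem_left _ _ hh)

include hs in
theorem X0_mul_mem (y : MvPolynomial (Fin 2) ℤ) (hy : y ∈ JJ s (n : ℤ) h) :
    X 0 * y ∈ Ideal.span ({Groth.Agent.S17984.rr n, h * (X 0 - C s)} :
      Set (MvPolynomial (Fin 2) ℤ)) := by
  have hq : (C (n : ℤ) : MvPolynomial (Fin 2) ℤ) = C s * C s := by
    rw [← C_mul, ← hs]; ring_nf
  unfold JJ at hy
  induction hy using Submodule.span_induction with
  | mem x hx =>
    rcases hx with rfl | rfl | rfl
    · exact Ideal.mul_mem_left _ _ (Ideal.subset_span (Or.inl rfl))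
    · exact Ideal.mul_mem_left _ _ (Ideal.subset_span (Or.inr rfl))
    · have : X 0 * (h * (X 1 - C s)) =
          h * Groth.Agent.S17984.rr n - C s * (h * (X 0 - C s)) := by
        rw [Groth.Agent.S17984.rr, hq]; ring
      rw [this]
      exact Ideal.sub_mem _ (Ideal.mul_mem_left _ _ (Ideal.subset_span (Or.inl rfl)))
        (Ideal.mul_mem_left _ _ (Ideal.subset_span (Or.inr rfl)))
  | zero => rw [mul_zero]; exact Ideal.zero_mem _
  | add x y _ _ hx hy => rw [mul_add]; exact Ideal.add_mem _ hx hy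
  | smul c x _ hx =>
    rw [smul_eq_mul, mul_left_comm]; exact Ideal.mul_mem_left _ _ hx

include hs in
theorem X1_mul_mem (y : MvPolynomial (Fin 2) ℤ) (hy : y ∈ JJ s (n : ℤ) h) :
    X 1 * y ∈ Ideal.span ({Groth.Agent.S17984.rr n, h * (X 1 - C s)} :
      Set (MvPolynomial (Fin 2) ℤ)) := by
  have hq : (C (n : ℤ) : MvPolynomial (Fin 2) ℤ) = C s * C s := by
    rw [← C_mul, ← hs]; ring_nf
  unfold JJ at hy
  induction hy using Submodule.span_induction with
  | mem x hx =>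
    rcases hx with rfl | rfl | rfl
    · exact Ideal.mul_mem_left _ _ (Ideal.subset_span (Or.inl rfl))
    · have : X 1 * (h * (X 0 - C s)) =
          h * Groth.Agent.S17984.rr n - C s * (h * (X 1 - C s)) := by
        rw [Groth.Agent.S17984.rr, hq]; ring
      rw [this]
      exact Ideal.sub_mem _ (Ideal.mul_mem_left _ _ (Ideal.subset_span (Or.inl rfl)))
        (Ideal.mul_mem_left _ _ (Ideal.subset_span (Or.inr rfl)))
    · exact Ideal.mul_mem_left _ _ (Ideal.subset_span (Or.inr rfl))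
  | zero => rw [mul_zero]; exact Ideal.zero_mem _
  | add x y _ _ hx hy => rw [mul_add]; exact Ideal.add_mem _ hx hy
  | smul c x _ hx =>
    rw [smul_eq_mul, mul_left_comm]; exact Ideal.mul_mem_left _ _ hx

theorem span_pair_le_JJ1 :
    Ideal.span ({Groth.Agent.S17984.rr n, h * (X 0 - C s)} : Set (MvPolynomial (Fin 2) ℤ)) ≤
      JJ s (n : ℤ) h := by
  rw [Ideal.span_le]
  rintro x (rfl | rfl)
  · exact rr_mem_JJ s _ h
  · exact g1_mem_JJ s _ h

theorem span_pair_le_JJ2 :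
    Ideal.span ({Groth.Agent.S17984.rr n, h * (X 1 - C s)} : Set (MvPolynomial (Fin 2) ℤ)) ≤
      JJ s (n : ℤ) h := by
  rw [Ideal.span_le]
  rintro x (rfl | rfl)
  · exact rr_mem_JJ s _ h
  · exact g2_mem_JJ s _ h

include hs in
theorem JJ_le_ker_evs : JJ s (n : ℤ) h ≤ RingHom.ker (evs s) := by
  unfold JJ
  rw [Ideal.span_le]
  rintro x (rfl | rfl | rfl)
  · exact evs_rr s _ hs
  · show evs s _ = 0
    rw [map_mul, map_sub, evs_X, evs_C, sub_self, mul_zero]
  · show evs s _ = 0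
    rw [map_mul, map_sub, evs_X, evs_C, sub_self, mul_zero]

theorem mul_mem_JJ_of_evs (y : MvPolynomial (Fin 2) ℤ) (hy : evs s y = 0) :
    h * y ∈ JJ s (n : ℤ) h := by
  obtain ⟨c1, c2, hc⟩ := Ideal.mem_span_pair.mp (mem_of_evs s y hy)
  rw [← hc]
  have : h * (c1 * (X 0 - C s) + c2 * (X 1 - C s)) =
      c1 * (h * (X 0 - C s)) + c2 * (h * (X 1 - C s)) := by ring
  rw [this]
  exact Ideal.add_mem _ (Ideal.mul_mem_left _ _ (g1_mem_JJ s _ h))
    (Ideal.mul_mem_left _ _ (g2_mem_JJ s _ h))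

end Abstract

section Main

theorem map_span_mem {R : Type u} [CommRing R] (φ : MvPolynomial (Fin 2) ℤ →+* R) (Q : Ideal R)
    (a b : MvPolynomial (Fin 2) ℤ) (ha : φ a ∈ Q) (hb : φ b ∈ Q) (y : MvPolynomial (Fin 2) ℤ)
    (hy : y ∈ Ideal.span ({a, b} : Set (MvPolynomial (Fin 2) ℤ))) : φ y ∈ Q := by
  obtain ⟨c1, c2, rfl⟩ := Ideal.mem_span_pair.mp hy
  rw [map_add, map_mul, map_mul]
  exact Ideal.add_mem _ (Ideal.mul_mem_left _ _ ha) (Ideal.mul_mem_left _ _ hb)

/-- `(⇐)`: if `p ∤ h(s,s)` the ring `ℤ[F,V]/J` is Gorenstein. -/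
theorem gor_of_not_dvd (p : ℕ) (hp : p.Prime) (e : ℕ) (he : 0 < e) (s : ℤ)
    (hs : s ^ 2 = ((p ^ e : ℕ) : ℤ))
    (D : ℕ) (P : Polynomial ℤ) (hP : P ≠ 0) (h : MvPolynomial (Fin 2) ℤ)
    (hh : X 0 ^ D * h - Polynomial.aeval (X 0 : MvPolynomial (Fin 2) ℤ) P ∈
      Ideal.span ({Groth.Agent.S17984.rr (p ^ e)} : Set (MvPolynomial (Fin 2) ℤ)))
    (hpm : ¬ ((p : ℤ) ∣ evs s h))
    (R : Type u) [CommRing R] (φ : MvPolynomial (Fin 2) ℤ →+* R) (hφ : Function.Surjective φ)
    (hker : RingHom.ker φ = JJ s ((p ^ e : ℕ) : ℤ) h) :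
    LocCoh.IsGorensteinRing R := by
  have hn : p ^ e ≠ 0 := (pow_pos hp.pos e).ne'
  have hpZ : Prime (p : ℤ) := Nat.prime_iff_prime_int.mp hp
  haveI : IsNoetherianRing R := isNoetherianRing_of_surjective _ R φ hφ
  have hmemker : ∀ y, φ y = 0 ↔ y ∈ JJ s ((p ^ e : ℕ) : ℤ) h := by
    intro y
    rw [← hker, RingHom.mem_ker]
  refine { isGorensteinLocalRing_localization := ?_ }
  intro Q _
  by_cases h0 : φ (X 0) ∈ Q
  · by_cases h1 : φ (X 1) ∈ Q
    · -- both coordinates in `Q`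
      have hrr0 : φ (Groth.Agent.S17984.rr (p ^ e)) = 0 :=
        (hmemker _).mpr (rr_mem_JJ s _ h)
      have hnQ : φ (C ((p ^ e : ℕ) : ℤ)) ∈ Q := by
        have : φ (C ((p ^ e : ℕ) : ℤ)) = φ (X 0) * φ (X 1) - φ (Groth.Agent.S17984.rr (p ^ e)) := by
          rw [← map_mul, ← map_sub, Groth.Agent.S17984.rr]; congr 1; ring
        rw [this, hrr0, sub_zero]
        exact Ideal.mul_mem_right _ _ h0
      have hpQ : φ (C (p : ℤ)) ∈ Q := by
        have : (C ((p ^ e : ℕ) : ℤ) : MvPolynomial (Fin 2) ℤ) = C (p : ℤ) ^ e := by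
          rw [← C_pow]; push_cast; rfl
        rw [this, map_pow] at hnQ
        exact Ideal.IsPrime.mem_of_pow_mem inferInstance e hnQ
      have hps : (p : ℤ) ∣ s := by
        have h1 : (p : ℤ) ∣ s ^ 2 := by
          rw [hs]; push_cast; exact dvd_pow_self _ he.ne'
        exact hpZ.dvd_of_dvd_pow h1
      have hsQ : φ (C s) ∈ Q := by
        obtain ⟨s', rfl⟩ := hps
        rw [C_mul, map_mul]
        exact Ideal.mul_mem_right _ _ hpQ
      have hhQ : φ h ∉ Q := by
        intro hhQ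
        have h2 := sub_C_mem 0 h
        have h3 : φ (h - C (evs 0 h)) ∈ Q := by
          refine map_span_mem φ Q _ _ ?_ ?_ _ h2
          · rw [C_0, sub_zero]; exact h0
          · rw [C_0, sub_zero]; exact h1
        rw [map_sub] at h3
        have h4 : φ (C (evs 0 h)) ∈ Q := by
          have := Ideal.sub_mem _ hhQ h3
          rwa [sub_sub_cancel] at this
        have hnd : ¬ ((p : ℤ) ∣ evs 0 h) := by
          intro hd
          apply hpm
          have h5 := hps.trans (evs_congr_zero s h)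
          have := dvd_add h5 hd
          rwa [sub_add_cancel] at this
        obtain ⟨a, b, hab⟩ := (hpZ.irreducible.coprime_iff_not_dvd).mpr hnd
        have h6 : φ (C (1 : ℤ)) ∈ Q := by
          rw [← hab, C_add, C_mul, C_mul, map_add, map_mul, map_mul]
          exact Ideal.add_mem _ (Ideal.mul_mem_left _ _ hpQ) (Ideal.mul_mem_left _ _ h4)
        rw [C_1, map_one] at h6
        exact Ideal.IsPrime.ne_top inferInstance ((Ideal.eq_top_iff_one Q).mpr h6)
      -- the map to `ℤ`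
      let eZ : ℤ ≃+* ULift.{u} ℤ := ULift.ringEquiv.symm
      have hle' : RingHom.ker φ ≤ RingHom.ker (eZ.toRingHom.comp (evs s)) := by
        intro x hx
        rw [hker] at hx
        have := JJ_le_ker_evs s (p ^ e) hs h hx
        rw [RingHom.mem_ker] at this ⊢
        rw [RingHom.comp_apply, this, map_zero]
      obtain ⟨π₃, hπ₃⟩ : ∃ π₃ : R →+* ULift.{u} ℤ, ∀ x, π₃ (φ x) = eZ (evs s x) :=
        ⟨RingHom.liftOfSurjective φ hφ ⟨eZ.toRingHom.comp (evs s), hle'⟩,
          fun x => RingHom.liftOfSurjective_comp_apply φ hφ ⟨eZ.toRingHom.comp (evs s), hle'⟩ x⟩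
      have hsurj : Function.Surjective π₃ := by
        intro z
        refine ⟨φ (C (eZ.symm z)), ?_⟩
        rw [hπ₃, evs_C, RingEquiv.apply_symm_apply]
      have hkerπ : ∀ k ∈ RingHom.ker π₃, ∃ y, k = φ y ∧ evs s y = 0 := by
        intro k hk
        obtain ⟨y, rfl⟩ := hφ k
        refine ⟨y, rfl, ?_⟩
        rw [RingHom.mem_ker, hπ₃] at hk
        exact eZ.injective (by rw [hk, map_zero])
      have hle : RingHom.ker π₃ ≤ Q := by
        intro k hk
        obtain ⟨y, rfl, hy⟩ := hkerπ k hk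
        refine map_span_mem φ Q _ _ ?_ ?_ _ (mem_of_evs s y hy)
        · rw [map_sub]; exact Ideal.sub_mem _ h0 hsQ
        · rw [map_sub]; exact Ideal.sub_mem _ h1 hsQ
      haveI : IsRegularRing (ULift.{u} ℤ) := IsRegularRing.of_ringEquiv eZ
      have hZ : LocCoh.IsGorensteinRing (ULift.{u} ℤ) :=
        Groth.Agent.Lib.Helper16.GorBC.gorRing_of_isRegularRing _
      refine gorLocal_of_loc' π₃ hsurj Q hle ?_ hZ
      intro k hk
      obtain ⟨y, rfl, hy⟩ := hkerπ k hk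
      refine ⟨φ h, hhQ, ?_⟩
      rw [← map_mul, hmemker]
      exact mul_mem_JJ_of_evs s (p ^ e) h y hy
    · -- `V ∉ Q`
      obtain ⟨B2, _, m, hms, hmk, hB2⟩ := ci_gor.{u} (Groth.Agent.S17984.rr (p ^ e))
        (h * (X 1 - C s)) (Groth.Agent.S17984.rr_ne_zero _ hn)
        (g2_regular s (p ^ e) hn hs D P hP h hh)
      have hle : RingHom.ker m ≤ RingHom.ker φ := by
        intro x hx
        rw [RingHom.mem_ker, hmk] at hx
        rw [RingHom.mem_ker, hmemker]
        exact span_pair_le_JJ2 s (p ^ e) h hx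
      obtain ⟨π₁, hπ₁⟩ : ∃ π₁ : B2 →+* R, ∀ x, π₁ (m x) = φ x :=
        ⟨RingHom.liftOfSurjective m hms ⟨φ, hle⟩,
          fun x => RingHom.liftOfSurjective_comp_apply m hms ⟨φ, hle⟩ x⟩
      have hπs : Function.Surjective π₁ := by
        intro z
        obtain ⟨x, rfl⟩ := hφ z
        exact ⟨m x, hπ₁ x⟩
      refine gorLocal_of_loc π₁ hπs Q ?_ hB2
      intro k hk
      obtain ⟨y, rfl⟩ := hms k
      rw [RingHom.mem_ker, hπ₁, hmemker] at hk
      refine ⟨m (X 1), by rw [hπ₁]; exact h1, ?_⟩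
      rw [← map_mul, hmk]
      exact X1_mul_mem s (p ^ e) hs h y hk
  · -- `F ∉ Q`
    obtain ⟨B2, _, m, hms, hmk, hB2⟩ := ci_gor.{u} (Groth.Agent.S17984.rr (p ^ e))
      (h * (X 0 - C s)) (Groth.Agent.S17984.rr_ne_zero _ hn)
      (g1_regular s (p ^ e) hn D P hP h hh)
    have hle : RingHom.ker m ≤ RingHom.ker φ := by
      intro x hx
      rw [RingHom.mem_ker, hmk] at hx
      rw [RingHom.mem_ker, hmemker]
      exact span_pair_le_JJ1 s (p ^ e) h hx
    obtain ⟨π₁, hπ₁⟩ : ∃ π₁ : B2 →+* R, ∀ x, π₁ (m x) = φ x :=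
      ⟨RingHom.liftOfSurjective m hms ⟨φ, hle⟩,
        fun x => RingHom.liftOfSurjective_comp_apply m hms ⟨φ, hle⟩ x⟩
    have hπs : Function.Surjective π₁ := by
      intro z
      obtain ⟨x, rfl⟩ := hφ z
      exact ⟨m x, hπ₁ x⟩
    refine gorLocal_of_loc π₁ hπs Q ?_ hB2
    intro k hk
    obtain ⟨y, rfl⟩ := hms k
    rw [RingHom.mem_ker, hπ₁, hmemker] at hk
    refine ⟨m (X 0), by rw [hπ₁]; exact h0, ?_⟩
    rw [← map_mul, hmk]
    exact X0_mul_mem s (p ^ e) hs h y hk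

end Main

end Groth.Agent.Lib.Helper20.WeilGor
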