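import Mathlib
import Groth.Prelude.Def_CAlg
import Groth.Agent.S17984
import Groth.Agent.S17985
import Groth.Agent.S17999
import Groth.Agent.Lib.Helper9.FrobGor2
import Groth.Agent.Lib.Helper20.WeilGor1
import Groth.Agent.Lib.Helper20.WeilGor3
import Groth.Agent.Lib.Helper20.WeilGor4

/-!
# `ℤ[F,V]/(FV-q, h(F-s), h(V-s))` is not Gorenstein when `p ∣ h(s,s)` (helper20)
-/

set_option autoImplicit false
set_option linter.style.haveILetI false
universe u

open MvPolynomial

namespace Groth.Agent.Lib.Helper20.WeilGor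

/-- substitution keeping only the variable `i` -/
noncomputable def sub (i : Fin 2) : MvPolynomial (Fin 2) ℤ →ₐ[ℤ] MvPolynomial (Fin 2) ℤ :=
  MvPolynomial.aeval (fun k => if k = i then X i else 0)

theorem sub_X_self (i : Fin 2) : sub i (X i) = X i := by simp [sub]
theorem sub_X_ne (i k : Fin 2) (h : k ≠ i) : sub i (X k) = 0 := by simp [sub, h]
theorem sub_C (i : Fin 2) (a : ℤ) : sub i (C a) = C a := by simp [sub]

theorem sub_mem (i j : Fin 2) (hk : ∀ k : Fin 2, k = i ∨ k = j) (hji : j ≠ i)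
    (b : MvPolynomial (Fin 2) ℤ) :
    b - sub i b ∈ Ideal.span ({X j} : Set (MvPolynomial (Fin 2) ℤ)) := by
  induction b using MvPolynomial.induction_on with
  | C a => rw [sub_C, sub_self]; exact Ideal.zero_mem _
  | add f g hf hg =>
    have : f + g - sub i (f + g) = (f - sub i f) + (g - sub i g) := by rw [map_add]; ring
    rw [this]; exact Ideal.add_mem _ hf hg
  | mul_X f k hf =>
    rcases hk k with rfl | rfl
    · have : f * X k - sub k (f * X k) = (f - sub k f) * X k := by
        rw [map_mul, sub_X_self]; ring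
      rw [this]; exact Ideal.mul_mem_right _ _ hf
    · rw [map_mul, sub_X_ne i k hji, mul_zero, sub_zero]
      exact Ideal.mul_mem_left _ _ (Ideal.subset_span rfl)

theorem sub_sub_C_mem (i j : Fin 2) (hk : ∀ k : Fin 2, k = i ∨ k = j) (hji : j ≠ i)
    (b : MvPolynomial (Fin 2) ℤ) :
    sub i b - C (evs 0 b) ∈ Ideal.span ({X i} : Set (MvPolynomial (Fin 2) ℤ)) := by
  induction b using MvPolynomial.induction_on with
  | C a => rw [sub_C, evs_C, sub_self]; exact Ideal.zero_mem _
  | add f g hf hg =>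
    have : sub i (f + g) - C (evs 0 (f + g)) = (sub i f - C (evs 0 f)) + (sub i g - C (evs 0 g)) := by
      rw [map_add, map_add, C_add]; ring
    rw [this]; exact Ideal.add_mem _ hf hg
  | mul_X f k hf =>
    rw [map_mul, map_mul, evs_X, mul_zero, C_0, sub_zero]
    rcases hk k with rfl | rfl
    · rw [sub_X_self]; exact Ideal.mul_mem_left _ _ (Ideal.subset_span rfl)
    · rw [sub_X_ne i k hji, mul_zero]; exact Ideal.zero_mem _

section Theta

variable (p : ℕ) [Fact p.Prime]

/-- reduction mod `p` and substitution `X i ↦ X`, other variable `↦ 0` -/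
noncomputable def theta (i : Fin 2) : MvPolynomial (Fin 2) ℤ →+* Polynomial (ZMod p) :=
  MvPolynomial.eval₂Hom (Polynomial.C.comp (Int.castRingHom (ZMod p)))
    (fun k => if k = i then Polynomial.X else 0)

theorem theta_X_self (i : Fin 2) : theta p i (X i) = Polynomial.X := by simp [theta]
theorem theta_X_ne (i k : Fin 2) (h : k ≠ i) : theta p i (X k) = 0 := by simp [theta, h]
theorem theta_C (i : Fin 2) (a : ℤ) : theta p i (C a) = Polynomial.C ((a : ℤ) : ZMod p) := by
  simp [theta]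

theorem theta_sub_self (i : Fin 2) (b : MvPolynomial (Fin 2) ℤ) :
    theta p i (sub i b) = theta p i b := by
  induction b using MvPolynomial.induction_on with
  | C a => rw [sub_C]
  | add f g hf hg => rw [map_add, map_add, map_add, hf, hg]
  | mul_X f k hf =>
    rw [map_mul, map_mul, map_mul, hf]
    by_cases hki : k = i
    · rw [hki, sub_X_self]
    · rw [sub_X_ne i k hki, map_zero, theta_X_ne p i k hki]

theorem theta_sub_ne (i j : Fin 2) (hji : j ≠ i) (b : MvPolynomial (Fin 2) ℤ) :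
    theta p j (sub i b) = Polynomial.C (((evs 0 b : ℤ)) : ZMod p) := by
  induction b using MvPolynomial.induction_on with
  | C a => rw [sub_C, theta_C, evs_C]
  | add f g hf hg => rw [map_add, map_add, map_add, hf, hg]; push_cast; rw [Polynomial.C_add]
  | mul_X f k hf =>
    rw [map_mul, map_mul, map_mul, evs_X, mul_zero]
    by_cases hki : k = i
    · rw [hki, sub_X_self, theta_X_ne p j i (Ne.symm hji), mul_zero]; simp
    · rw [sub_X_ne i k hki, map_zero, mul_zero]; simp

theorem theta_aeval (i : Fin 2) (P : Polynomial ℤ) :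
    theta p i (Polynomial.aeval (X i : MvPolynomial (Fin 2) ℤ) P) =
      P.map (Int.castRingHom (ZMod p)) := by
  rw [Polynomial.aeval_def, Polynomial.hom_eval₂, theta_X_self]
  have : (theta p i).comp (algebraMap ℤ (MvPolynomial (Fin 2) ℤ)) =
      Polynomial.C.comp (Int.castRingHom (ZMod p)) := RingHom.ext_int _ _
  rw [this]
  rfl

theorem theta_rr (i j : Fin 2) (hij : i ≠ j) (n : ℕ) (hn : (p : ℤ) ∣ (n : ℤ)) :
    theta p i (X i * X j - C (n : ℤ)) = 0 := by
  rw [map_sub, map_mul, theta_X_ne p i j (Ne.symm hij), mul_zero, theta_C, zero_sub, neg_eq_zero,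
    Polynomial.C_eq_zero]
  exact (ZMod.intCast_zmod_eq_zero_iff_dvd _ _).mpr hn

end Theta

section NotGor

variable (p : ℕ) [Fact p.Prime]

theorem not_mem_span_X_mul (f : Polynomial (ZMod p)) (hf : f ≠ 0) :
    f ∉ Ideal.span ({Polynomial.X * f} : Set (Polynomial (ZMod p))) := by
  intro hmem
  obtain ⟨c, hc⟩ := Ideal.mem_span_singleton'.mp hmem
  have h1 : f * (1 - c * Polynomial.X) = 0 := by
    linear_combination -hc
  have h2 : (1 - c * Polynomial.X : Polynomial (ZMod p)) = 0 :=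
    (mul_eq_zero.mp h1).resolve_left hf
  have h3 := congrArg (Polynomial.eval 0) h2
  simp at h3

/-- `(⇒)`: if `p ∣ h(s,s)` the ring `ℤ[F,V]/J` is not Gorenstein. -/
theorem not_gor_of_dvd (e : ℕ) (he : 0 < e) (s : ℤ) (hs : s ^ 2 = ((p ^ e : ℕ) : ℤ))
    (P : Polynomial ℤ) (hPm : P.Monic) (h : MvPolynomial (Fin 2) ℤ)
    (hPi : ∀ i : Fin 2, Polynomial.aeval (X i : MvPolynomial (Fin 2) ℤ) P ∈
      Ideal.span ({Groth.Agent.S17984.rr (p ^ e), h} : Set (MvPolynomial (Fin 2) ℤ)))
    (hpm : (p : ℤ) ∣ evs s h)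
    (R : Type u) [CommRing R] (φ : MvPolynomial (Fin 2) ℤ →+* R) (hφ : Function.Surjective φ)
    (hker : RingHom.ker φ = JJ s ((p ^ e : ℕ) : ℤ) h)
    (hreg : φ (C (p : ℤ)) ∈ nonZeroDivisors R) :
    ¬ LocCoh.IsGorensteinRing R := by
  intro hG
  have hp : p.Prime := Fact.out
  have hpZ : Prime (p : ℤ) := Nat.prime_iff_prime_int.mp hp
  have hpn : (p : ℤ) ∣ ((p ^ e : ℕ) : ℤ) := by
    push_cast; exact dvd_pow_self _ he.ne'
  have hps : (p : ℤ) ∣ s := by
    have h1 : (p : ℤ) ∣ s ^ 2 := by rw [hs]; exact hpn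
    exact hpZ.dvd_of_dvd_pow h1
  have hp0 : (p : ℤ) ∣ evs 0 h := by
    have h5 := hps.trans (evs_congr_zero s h)
    have := dvd_sub hpm h5
    rwa [sub_sub_cancel] at this
  obtain ⟨I, hI⟩ : ∃ I : Ideal (MvPolynomial (Fin 2) ℤ),
      I = JJ s ((p ^ e : ℕ) : ℤ) h ⊔ Ideal.span {C (p : ℤ)} := ⟨_, rfl⟩
  have hJI : JJ s ((p ^ e : ℕ) : ℤ) h ≤ I := by rw [hI]; exact le_sup_left
  have hCp : C (p : ℤ) ∈ I := by
    rw [hI]; exact Ideal.mem_sup_right (Ideal.subset_span rfl)
  have hCdvd : ∀ a : ℤ, (p : ℤ) ∣ a → C a ∈ I := by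
    rintro a ⟨a', rfl⟩
    rw [C_mul]; exact Ideal.mul_mem_right _ _ hCp
  have hrrI : Groth.Agent.S17984.rr (p ^ e) ∈ I := hJI (rr_mem_JJ s _ h)
  have hXX : ∀ i j : Fin 2, i ≠ j → (X i * X j : MvPolynomial (Fin 2) ℤ) ∈ I := by
    have h01 : (X 0 * X 1 : MvPolynomial (Fin 2) ℤ) ∈ I := by
      have : (X 0 * X 1 : MvPolynomial (Fin 2) ℤ) =
          Groth.Agent.S17984.rr (p ^ e) + C ((p ^ e : ℕ) : ℤ) := by
        rw [Groth.Agent.S17984.rr]; ring
      rw [this]; exact Ideal.add_mem _ hrrI (hCdvd _ hpn)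
    intro i j hij
    fin_cases i <;> fin_cases j
    · exact absurd rfl hij
    · exact h01
    · rw [mul_comm]; exact h01
    · exact absurd rfl hij
  have hgI : ∀ i : Fin 2, h * (X i - C s) ∈ I := by
    intro i
    fin_cases i
    · exact hJI (g1_mem_JJ s _ h)
    · exact hJI (g2_mem_JJ s _ h)
  have hXh : ∀ i : Fin 2, X i * h ∈ I := by
    intro i
    have : X i * h = h * (X i - C s) + C s * h := by ring
    rw [this]
    exact Ideal.add_mem _ (hgI i) (Ideal.mul_mem_right _ _ (hCdvd s hps))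
  have hk2 : ∀ i j : Fin 2, i ≠ j → ∀ k : Fin 2, k = i ∨ k = j := by
    intro i j hij k
    fin_cases i <;> fin_cases j <;> fin_cases k <;> simp_all
  have hXsub : ∀ i k : Fin 2, X k * sub i h ∈ I := by
    intro i k
    obtain ⟨j, hji⟩ : ∃ j : Fin 2, j ≠ i := by
      fin_cases i
      · exact ⟨1, by decide⟩
      · exact ⟨0, by decide⟩
    have hkk := hk2 i j (Ne.symm hji)
    rcases hkk k with rfl | rfl
    · -- `X i * sub i h`
      obtain ⟨c, hc⟩ := Ideal.mem_span_singleton'.mp (sub_mem k j hkk hji h)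
      have : X k * sub k h = X k * h - c * (X k * X j) := by
        linear_combination ((X k : MvPolynomial (Fin 2) ℤ)) * hc
      rw [this]
      exact Ideal.sub_mem _ (hXh k) (Ideal.mul_mem_left _ _ (hXX k j (Ne.symm hji)))
    · -- `X j * sub i h`
      obtain ⟨c, hc⟩ := Ideal.mem_span_singleton'.mp (sub_sub_C_mem i k hkk hji h)
      have : X k * sub i h = C (evs 0 h) * X k + c * (X i * X k) := by
        linear_combination (-(X k : MvPolynomial (Fin 2) ℤ)) * hc
      rw [this]
      exact Ideal.add_mem _ (Ideal.mul_mem_right _ _ (hCdvd _ hp0))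
        (Ideal.mul_mem_left _ _ (hXX i k (Ne.symm hji)))
  -- the quotient by `p`
  obtain ⟨Cq, _, π, hπs, hπk, hCG⟩ : ∃ (Cq : Type u) (_ : CommRing Cq)
      (π : MvPolynomial (Fin 2) ℤ →+* Cq), Function.Surjective π ∧ (∀ x, π x = 0 ↔ x ∈ I) ∧
      LocCoh.IsGorensteinRing Cq := by
    refine ⟨R ⧸ Ideal.span {φ (C (p : ℤ))}, inferInstance,
      (Ideal.Quotient.mk _).comp φ, Ideal.Quotient.mk_surjective.comp hφ, ?_,
      Groth.Agent.Lib.Helper16.GorBC.gorRing_quot R hG _ hreg _ rfl⟩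
    intro x
    rw [RingHom.comp_apply, Ideal.Quotient.eq_zero_iff_mem, Ideal.mem_span_singleton']
    constructor
    · rintro ⟨c, hc⟩
      obtain ⟨c', rfl⟩ := hφ c
      have h1 : x - c' * C (p : ℤ) ∈ JJ s ((p ^ e : ℕ) : ℤ) h := by
        rw [← hker, RingHom.mem_ker, map_sub, map_mul, hc, sub_self]
      have h2 : x = (x - c' * C (p : ℤ)) + c' * C (p : ℤ) := by ring
      rw [h2]
      exact Ideal.add_mem _ (hJI h1) (Ideal.mul_mem_left _ _ hCp)
    · intro hx
      rw [hI] at hx
      obtain ⟨y, hy, z, hz, rfl⟩ := Submodule.mem_sup.mp hx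
      obtain ⟨c, rfl⟩ := Ideal.mem_span_singleton'.mp hz
      refine ⟨φ c, ?_⟩
      have h1 : φ y = 0 := by rw [← RingHom.mem_ker, hker]; exact hy
      rw [map_add, map_mul, h1, zero_add]
  -- finiteness
  have hfinI : Finite (MvPolynomial (Fin 2) ℤ ⧸ I) := by
    refine Groth.Agent.S17999.finite_quot (p : ℤ) (by exact_mod_cast hp.ne_zero) I
      ((Polynomial.X - Polynomial.C s) * P) ((Polynomial.monic_X_sub_C s).mul hPm) ?_ ?_ hCp
    all_goals
      rw [map_mul, map_sub, Polynomial.aeval_X, Polynomial.aeval_C]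
      rw [show (algebraMap ℤ (MvPolynomial (Fin 2) ℤ)) s = C s from rfl]
    · obtain ⟨a, b, hab⟩ := Ideal.mem_span_pair.mp (hPi 0)
      rw [← hab]
      have : (X 0 - C s) * (a * Groth.Agent.S17984.rr (p ^ e) + b * h) =
          (X 0 - C s) * a * Groth.Agent.S17984.rr (p ^ e) + b * (h * (X 0 - C s)) := by ring
      rw [this]
      exact Ideal.add_mem _ (Ideal.mul_mem_left _ _ hrrI) (Ideal.mul_mem_left _ _ (hgI 0))
    · obtain ⟨a, b, hab⟩ := Ideal.mem_span_pair.mp (hPi 1)
      rw [← hab]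
      have : (X 1 - C s) * (a * Groth.Agent.S17984.rr (p ^ e) + b * h) =
          (X 1 - C s) * a * Groth.Agent.S17984.rr (p ^ e) + b * (h * (X 1 - C s)) := by ring
      rw [this]
      exact Ideal.add_mem _ (Ideal.mul_mem_left _ _ hrrI) (Ideal.mul_mem_left _ _ (hgI 1))
  have hfinC : Finite Cq := by
    have hsurj : Function.Surjective (Ideal.Quotient.lift I π (fun x hx => (hπk x).mpr hx)) :=
      Ideal.Quotient.lift_surjective_of_surjective _ _ hπs
    exact Finite.of_surjective _ hsurj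
  haveI : IsArtinianRing Cq := isArtinian_of_finite
  have hdim : ringKrullDim Cq ≤ 0 := by
    have : Ring.KrullDimLE 0 Cq := inferInstance
    exact_mod_cast Ring.krullDimLE_iff.mp this
  haveI := hCG
  have hinjC := Groth.Agent.Lib.Helper9.FrobGor.injective_self_of_gor (C := Cq) hdim
  -- the maximal ideal at the origin
  have hIevs : ∀ x ∈ I, (p : ℤ) ∣ evs 0 x := by
    intro x hx
    rw [hI] at hx
    have hle : JJ s ((p ^ e : ℕ) : ℤ) h ⊔ Ideal.span {C (p : ℤ)} ≤
        Ideal.comap (evs 0) (Ideal.span {(p : ℤ)}) := by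
      rw [sup_le_iff]
      constructor
      · unfold JJ
        rw [Ideal.span_le]
        rintro y (rfl | rfl | rfl)
        · rw [SetLike.mem_coe, Ideal.mem_comap]
          rw [Ideal.mem_span_singleton, map_sub, map_mul, evs_X, evs_C, zero_mul, zero_sub]
          exact (dvd_neg).mpr hpn
        · rw [SetLike.mem_coe, Ideal.mem_comap]
          rw [Ideal.mem_span_singleton, map_mul, map_sub, evs_X, evs_C, zero_sub]
          exact Dvd.dvd.mul_left ((dvd_neg).mpr hps) _
        · rw [SetLike.mem_coe, Ideal.mem_comap]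
          rw [Ideal.mem_span_singleton, map_mul, map_sub, evs_X, evs_C, zero_sub]
          exact Dvd.dvd.mul_left ((dvd_neg).mpr hps) _
      · rw [Ideal.span_le]
        rintro y rfl
        rw [SetLike.mem_coe, Ideal.mem_comap]
        rw [Ideal.mem_span_singleton, evs_C]
    exact Ideal.mem_span_singleton.mp (hle hx)
  have hleε : RingHom.ker π ≤ RingHom.ker ((Int.castRingHom (ZMod p)).comp (evs 0)) := by
    intro x hx
    rw [RingHom.mem_ker, hπk] at hx
    rw [RingHom.mem_ker, RingHom.comp_apply]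
    exact (ZMod.intCast_zmod_eq_zero_iff_dvd _ _).mpr (hIevs x hx)
  obtain ⟨ε, hε⟩ : ∃ ε : Cq →+* ZMod p, ∀ x, ε (π x) = ((evs 0 x : ℤ) : ZMod p) :=
    ⟨RingHom.liftOfSurjective π hπs ⟨_, hleε⟩,
      fun x => RingHom.liftOfSurjective_comp_apply π hπs ⟨_, hleε⟩ x⟩
  have hεs : Function.Surjective ε := by
    intro z
    obtain ⟨a, rfl⟩ := ZMod.intCast_surjective z
    exact ⟨π (C a), by rw [hε, evs_C]⟩
  haveI hqmax : (RingHom.ker ε).IsMaximal := RingHom.ker_isMaximal_of_surjective ε hεs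
  have hkill : ∀ i : Fin 2, ∀ r ∈ RingHom.ker ε, r * π (sub i h) = 0 := by
    intro i r hr
    obtain ⟨y, rfl⟩ := hπs r
    rw [RingHom.mem_ker, hε, ZMod.intCast_zmod_eq_zero_iff_dvd] at hr
    rw [← map_mul, hπk]
    obtain ⟨c1, c2, hc⟩ := Ideal.mem_span_pair.mp (sub_C_mem 0 y)
    rw [C_0, sub_zero, sub_zero] at hc
    have : y * sub i h = C (evs 0 y) * sub i h + c1 * (X 0 * sub i h) + c2 * (X 1 * sub i h) := by
      linear_combination (-(sub i h)) * hc
    rw [this]
    exact Ideal.add_mem _ (Ideal.add_mem _ (Ideal.mul_mem_right _ _ (hCdvd _ hr))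
      (Ideal.mul_mem_left _ _ (hXsub i 0))) (Ideal.mul_mem_left _ _ (hXsub i 1))
  -- test maps
  have hθne : ∀ i : Fin 2, theta p i h ≠ 0 := by
    intro i h0
    obtain ⟨a, b, hab⟩ := Ideal.mem_span_pair.mp (hPi i)
    have h1 := congrArg (theta p i) hab
    rw [map_add, map_mul, map_mul, h0, mul_zero, add_zero, theta_aeval] at h1
    have hrr : theta p i (Groth.Agent.S17984.rr (p ^ e)) = 0 := by
      fin_cases i
      · exact theta_rr p 0 1 (by decide) (p ^ e) hpn
      · have : Groth.Agent.S17984.rr (p ^ e) = X 1 * X 0 - C ((p ^ e : ℕ) : ℤ) := by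
          rw [Groth.Agent.S17984.rr]; ring
        rw [this]
        exact theta_rr p 1 0 (by decide) (p ^ e) hpn
    rw [hrr, mul_zero] at h1
    exact (hPm.map (Int.castRingHom (ZMod p))).ne_zero h1.symm
  have hθI : ∀ i : Fin 2, ∀ x ∈ I, theta p i x ∈
      Ideal.span ({Polynomial.X * theta p i h} : Set (Polynomial (ZMod p))) := by
    intro i x hx
    rw [hI] at hx
    have hs0 : ((s : ℤ) : ZMod p) = 0 := (ZMod.intCast_zmod_eq_zero_iff_dvd _ _).mpr hps
    have hrr : theta p i (Groth.Agent.S17984.rr (p ^ e)) = 0 := by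
      fin_cases i
      · exact theta_rr p 0 1 (by decide) (p ^ e) hpn
      · have : Groth.Agent.S17984.rr (p ^ e) = X 1 * X 0 - C ((p ^ e : ℕ) : ℤ) := by
          rw [Groth.Agent.S17984.rr]; ring
        rw [this]
        exact theta_rr p 1 0 (by decide) (p ^ e) hpn
    have hg : ∀ k : Fin 2, theta p i (h * (X k - C s)) ∈
        Ideal.span ({Polynomial.X * theta p i h} : Set (Polynomial (ZMod p))) := by
      intro k
      rw [map_mul, map_sub, theta_C, hs0, Polynomial.C_0, sub_zero]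
      by_cases hki : k = i
      · rw [hki, theta_X_self, mul_comm]; exact Ideal.subset_span rfl
      · rw [theta_X_ne p i k hki, mul_zero]; exact Ideal.zero_mem _
    have hle : JJ s ((p ^ e : ℕ) : ℤ) h ⊔ Ideal.span {C (p : ℤ)} ≤
        Ideal.comap (theta p i) (Ideal.span {Polynomial.X * theta p i h}) := by
      rw [sup_le_iff]
      constructor
      · unfold JJ
        rw [Ideal.span_le]
        rintro y (rfl | rfl | rfl)
        · rw [SetLike.mem_coe, Ideal.mem_comap]
          have : (X 0 * X 1 - C ((p ^ e : ℕ) : ℤ) : MvPolynomial (Fin 2) ℤ) =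
              Groth.Agent.S17984.rr (p ^ e) := rfl
          rw [this, hrr]; exact Ideal.zero_mem _
        · exact hg 0
        · exact hg 1
      · rw [Ideal.span_le]
        rintro y rfl
        rw [SetLike.mem_coe, Ideal.mem_comap]
        rw [theta_C]
        have : ((p : ℤ) : ZMod p) = 0 := by simp
        rw [this, Polynomial.C_0]; exact Ideal.zero_mem _
    exact hle hx
  have hΨ : ∀ i : Fin 2, ∃ Ψ : Cq →+* (Polynomial (ZMod p) ⧸
      Ideal.span ({Polynomial.X * theta p i h} : Set (Polynomial (ZMod p)))),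
      ∀ x, Ψ (π x) = Ideal.Quotient.mk _ (theta p i x) := by
    intro i
    have hle : RingHom.ker π ≤ RingHom.ker ((Ideal.Quotient.mk
        (Ideal.span ({Polynomial.X * theta p i h} : Set (Polynomial (ZMod p))))).comp
        (theta p i)) := by
      intro x hx
      rw [RingHom.mem_ker, hπk] at hx
      rw [RingHom.mem_ker, RingHom.comp_apply, Ideal.Quotient.eq_zero_iff_mem]
      exact hθI i x hx
    exact ⟨RingHom.liftOfSurjective π hπs ⟨_, hle⟩,
      fun x => RingHom.liftOfSurjective_comp_apply π hπs ⟨_, hle⟩ x⟩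
  obtain ⟨Ψ0, hΨ0⟩ := hΨ 0
  obtain ⟨Ψ1, hΨ1⟩ := hΨ 1
  have hx0 : π (sub 0 h) ≠ 0 := by
    intro h0
    have h1 := congrArg Ψ0 h0
    rw [hΨ0, map_zero, theta_sub_self, Ideal.Quotient.eq_zero_iff_mem] at h1
    exact not_mem_span_X_mul p _ (hθne 0) h1
  obtain ⟨c, hc⟩ := Groth.Agent.Lib.Helper9.FrobGor.exists_mul_eq hinjC (RingHom.ker ε) hx0
    (hkill 0) (hkill 1)
  have h1 := congrArg Ψ1 hc
  rw [map_mul, hΨ1, hΨ1, theta_sub_self, theta_sub_ne p 0 1 (by decide)] at h1
  have h2 : (((evs 0 h : ℤ)) : ZMod p) = 0 := (ZMod.intCast_zmod_eq_zero_iff_dvd _ _).mpr hp0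
  rw [h2, Polynomial.C_0, map_zero, mul_zero, Ideal.Quotient.eq_zero_iff_mem] at h1
  exact not_mem_span_X_mul p _ (hθne 1) h1

end NotGor

end Groth.Agent.Lib.Helper20.WeilGor
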