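import Mathlib
import Groth.Prelude.Def_CAlg
import Groth.Agent.S17984
import Groth.Agent.S17985
import Groth.Agent.S17987
import Groth.Agent.S17999
import Groth.Agent.Lib.Helper20.WeilGor1
import Groth.Agent.Lib.Helper20.WeilGor2
import Groth.Agent.Lib.Helper20.WeilGor4
import Groth.Agent.Lib.Helper20.WeilGor5

/-!
# The minimal central order enlarged by a rational Weil number: kernel and Gorenstein criterion
(helper20)
-/

set_option autoImplicit false
set_option linter.style.haveILetI false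
universe u

open MvPolynomial

namespace Groth.Agent.Lib.Helper20.WeilGor

section Final

variable (p e : ℕ) [Fact p.Prime] (s : ℤ)
  (ι : Type) [Fintype ι] (K : ι → Type u) [∀ i, Field (K i)] [∀ i, CharZero (K i)] (π : ∀ i, K i)

theorem aeval_mem_span (he : 0 < e) (hint : ∀ i, IsIntegral ℤ (π i))
    (hweil : ∀ i, ∀ z ∈ (minpoly ℤ (π i)).aroots ℂ, ‖z‖ = Real.sqrt ((p : ℝ) ^ e))
    (hinj : ∀ i j, minpoly ℤ (π i) = minpoly ℤ (π j) → i = j)
    (D : ℕ) (hD : ∑ i, (minpoly ℤ (π i)).natDegree = 2 * D)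
    (h : MvPolynomial (Fin 2) ℤ)
    (hh : X 0 ^ D * h - Polynomial.aeval (X 0 : MvPolynomial (Fin 2) ℤ) (∏ i, minpoly ℤ (π i)) ∈
      Ideal.span ({X 0 * X 1 - C ((p : ℤ) ^ e)} : Set (MvPolynomial (Fin 2) ℤ))) (k : Fin 2) :
    Polynomial.aeval (X k : MvPolynomial (Fin 2) ℤ) (∏ i, minpoly ℤ (π i)) ∈
      Ideal.span ({X 0 * X 1 - C ((p : ℤ) ^ e), h} : Set (MvPolynomial (Fin 2) ℤ)) := by
  have h1 := (Groth.Agent.S17984.result p e he ι K π hint hweil hinj D hD h hh).1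
  rw [← h1]
  refine (Groth.Agent.S17999.mem_ker_iff p e ι K π _).mpr (fun j => ?_)
  rw [Groth.Agent.S17999.psi_aeval]
  fin_cases k
  · rw [show ((⟨0, by decide⟩ : Fin 2)) = 0 from rfl, Groth.Agent.S17999.psi_X0]
    exact Groth.Agent.Lib.Helper20.WeilOrd.aeval_pi_prod ι K π j
  · rw [show ((⟨1, by decide⟩ : Fin 2)) = 1 from rfl, Groth.Agent.S17999.psi_X1]
    exact Groth.Agent.S17999.aeval_V p e ι K π hint hweil j

theorem p_regular (x : (phiw p e s ι K π).range)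
    (hx : x * (phiw p e s ι K π).rangeRestrict (C (p : ℤ)) = 0) : x = 0 := by
  have hp : p.Prime := Fact.out
  have h1 := congrArg Subtype.val hx
  have h2 : ((phiw p e s ι K π).rangeRestrict (C (p : ℤ)) : ((i : ι) → K i) × ℚ) =
      ((p : ℤ) : ((i : ι) → K i) × ℚ) := by
    show phiw p e s ι K π (C (p : ℤ)) = _
    rw [MvPolynomial.aeval_C]; simp
  have h3 : (x : ((i : ι) → K i) × ℚ) * ((p : ℤ) : ((i : ι) → K i) × ℚ) = 0 := by
    rw [← h2]; exact h1
  apply Subtype.ext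
  apply Prod.ext
  · funext i
    have h4 := congrArg (fun z => z.1 i) h3
    simp only [Prod.fst_mul, Pi.mul_apply, Prod.fst_zero, Pi.zero_apply] at h4
    have h5 : ((((p : ℤ) : ((i : ι) → K i) × ℚ)).1 i) = (p : K i) := by simp
    rw [h5] at h4
    exact (mul_eq_zero.mp h4).resolve_right (by exact_mod_cast hp.ne_zero)
  · have h4 := congrArg (fun z => z.2) h3
    simp only [Prod.snd_mul, Prod.snd_zero] at h4
    have h5 : ((((p : ℤ) : ((i : ι) → K i) × ℚ)).2) = (p : ℚ) := by simp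
    rw [h5] at h4
    exact (mul_eq_zero.mp h4).resolve_right (by exact_mod_cast hp.ne_zero)

/-- Part (2): Gorenstein iff ordinary. -/
theorem gor_iff (he : 0 < e) (hs : s ^ 2 = (p : ℤ) ^ e) (hint : ∀ i, IsIntegral ℤ (π i))
    (hdeg : ∀ i, (minpoly ℤ (π i)).natDegree ≠ 1)
    (hweil : ∀ i, ∀ z ∈ (minpoly ℤ (π i)).aroots ℂ, ‖z‖ = Real.sqrt ((p : ℝ) ^ e))
    (hinj : ∀ i j, minpoly ℤ (π i) = minpoly ℤ (π j) → i = j)
    (D : ℕ) (hD : ∑ i, (minpoly ℤ (π i)).natDegree = 2 * D)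
    (h : MvPolynomial (Fin 2) ℤ)
    (hh : X 0 ^ D * h - Polynomial.aeval (X 0 : MvPolynomial (Fin 2) ℤ) (∏ i, minpoly ℤ (π i)) ∈
      Ideal.span ({X 0 * X 1 - C ((p : ℤ) ^ e)} : Set (MvPolynomial (Fin 2) ℤ))) :
    LocCoh.IsGorensteinRing (phiw p e s ι K π).range ↔
      ∀ i, 2 * Multiset.card (((minpoly ℤ (π i)).aroots (PadicAlgCl p)).filter
        (fun z => ‖z‖ = 1)) = (minpoly ℤ (π i)).natDegree := by
  have hp : p.Prime := Fact.out
  rw [ordinary_iff p e s ι K π he hs hint hdeg hweil D hD h hh]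
  have hcast : ((p ^ e : ℕ) : ℤ) = (p : ℤ) ^ e := by push_cast; rfl
  have hs' : s ^ 2 = ((p ^ e : ℕ) : ℤ) := by rw [hcast]; exact hs
  have hrr : Groth.Agent.S17984.rr (p ^ e) = X 0 * X 1 - C ((p : ℤ) ^ e) := by
    rw [Groth.Agent.S17984.rr, hcast]
  have hh' : X 0 ^ D * h - Polynomial.aeval (X 0 : MvPolynomial (Fin 2) ℤ)
      (∏ i, minpoly ℤ (π i)) ∈
      Ideal.span ({Groth.Agent.S17984.rr (p ^ e)} : Set (MvPolynomial (Fin 2) ℤ)) := by
    rw [hrr]; exact hh
  have hPm := Groth.Agent.Lib.Helper20.WeilOrd.prod_monic ι K π hint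
  obtain ⟨φ, hφdef⟩ : ∃ φ : MvPolynomial (Fin 2) ℤ →+* (phiw p e s ι K π).range,
      φ = (phiw p e s ι K π).rangeRestrict.toRingHom := ⟨_, rfl⟩
  have hφ : Function.Surjective φ := by
    rw [hφdef]; exact (phiw p e s ι K π).rangeRestrict_surjective
  have hker : RingHom.ker φ = JJ s ((p ^ e : ℕ) : ℤ) h := by
    rw [hcast, ← ker_phiw_eq p e s ι K π he hs hint hdeg hweil hinj D hD h hh]
    ext x
    rw [RingHom.mem_ker, RingHom.mem_ker, hφdef]
    constructor
    · intro h1; exact congrArg Subtype.val h1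
    · intro h1; exact Subtype.ext h1
  constructor
  · intro hG hdvd
    have hPi : ∀ k : Fin 2, Polynomial.aeval (X k : MvPolynomial (Fin 2) ℤ)
        (∏ i, minpoly ℤ (π i)) ∈
        Ideal.span ({Groth.Agent.S17984.rr (p ^ e), h} : Set (MvPolynomial (Fin 2) ℤ)) := by
      intro k
      rw [hrr]
      exact aeval_mem_span p e ι K π he hint hweil hinj D hD h hh k
    have hreg : φ (C (p : ℤ)) ∈ nonZeroDivisors (phiw p e s ι K π).range := by
      rw [mem_nonZeroDivisors_iff_right]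
      intro x hx
      rw [hφdef] at hx
      exact p_regular p e s ι K π x hx
    exact not_gor_of_dvd p e he s hs' _ hPm h hPi hdvd _ φ hφ hker hreg hG
  · intro hnd
    exact gor_of_not_dvd p hp e he s hs' D _ hPm.ne_zero h hh' hnd _ φ hφ hker

end Final

end Groth.Agent.Lib.Helper20.WeilGor
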