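import Mathlib

/-!
# The functional equation of the zeta function: rational-function bookkeeping (helper20)

`zeta_fe`: from `δ_{2n-i} δ_i = q^{n B_i}` and
`δ_i • reverse χ_{2n-i} = (-1)^{B_i} χ_i(q^n X)` deduce `Z(1/(q^n t)) = ± q^{nE/2} t^E Z(t)`.
-/

set_option autoImplicit false

namespace Groth.Agent.Lib.Helper20.ZetaFE

open Polynomial

variable {K : Type*} [Field K]

/-- evaluation of a reversed polynomial at the inverse of `w = C Q * X` -/
theorem aeval_reverse (Q : K) (hQ : Q ≠ 0) (χ : K[X]) :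
    aeval ((RatFunc.X : RatFunc K)⁻¹ * RatFunc.C Q⁻¹) χ.reverse *
      (RatFunc.C Q * RatFunc.X) ^ χ.natDegree =
    algebraMap K[X] (RatFunc K) (χ.comp (C Q * X)) := by
  have hw : (RatFunc.C Q * RatFunc.X : RatFunc K) ≠ 0 :=
    mul_ne_zero ((_root_.map_ne_zero _).mpr hQ) RatFunc.X_ne_zero
  letI : Invertible (RatFunc.C Q * RatFunc.X : RatFunc K) := invertibleOfNonzero hw
  have hinv : ⅟(RatFunc.C Q * RatFunc.X : RatFunc K) = (RatFunc.X : RatFunc K)⁻¹ * RatFunc.C Q⁻¹ := by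
    rw [invOf_eq_inv, mul_inv_rev, map_inv₀]
  have h := eval₂_reverse_mul_pow (algebraMap K (RatFunc K)) (RatFunc.C Q * RatFunc.X : RatFunc K) χ
  rw [hinv] at h
  rw [aeval_def, h]
  have h2 : (RatFunc.C Q * RatFunc.X : RatFunc K) = algebraMap K[X] (RatFunc K) (C Q * X) := by
    rw [map_mul, RatFunc.algebraMap_C, RatFunc.algebraMap_X]
  rw [h2, ← aeval_def, aeval_algebraMap_apply]
  congr 1


section Comb

theorem alt_sum_split (b : ℕ → ℤ) (n : ℕ) :
    ∑ i ∈ Finset.range (2 * n + 1), (-1 : ℤ) ^ i * b i =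
      ∑ i ∈ Finset.range (n + 1), b (2 * i) - ∑ i ∈ Finset.range n, b (2 * i + 1) := by
  induction n with
  | zero => simp
  | succ n ih =>
    have h1 : 2 * (n + 1) + 1 = (2 * n + 1) + 1 + 1 := by ring
    rw [h1, Finset.sum_range_succ, Finset.sum_range_succ, ih,
      Finset.sum_range_succ (fun i => b (2 * i)) (n + 1),
      Finset.sum_range_succ (fun i => b (2 * i + 1)) n]
    have h2 : (-1 : ℤ) ^ (2 * n + 1) = -1 := by
      rw [pow_succ, pow_mul]; simp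
    have h3 : (-1 : ℤ) ^ (2 * n + 1 + 1) = 1 := by
      rw [pow_succ, h2]; simp
    rw [h2, h3]
    have h4 : 2 * n + 1 + 1 = 2 * (n + 1) := by ring
    rw [h4]
    ring

theorem sum_split (b : ℕ → ℤ) (n : ℕ) :
    ∑ i ∈ Finset.range (2 * n + 1), b i =
      ∑ i ∈ Finset.range (n + 1), b (2 * i) + ∑ i ∈ Finset.range n, b (2 * i + 1) := by
  induction n with
  | zero => simp
  | succ n ih =>
    have h1 : 2 * (n + 1) + 1 = (2 * n + 1) + 1 + 1 := by ring
    rw [h1, Finset.sum_range_succ, Finset.sum_range_succ, ih,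
      Finset.sum_range_succ (fun i => b (2 * i)) (n + 1),
      Finset.sum_range_succ (fun i => b (2 * i + 1)) n]
    have h4 : 2 * n + 1 + 1 = 2 * (n + 1) := by ring
    rw [h4]
    ring

theorem sum_symm (b : ℕ → ℤ) (n : ℕ) (hb : ∀ i ≤ 2 * n, b (2 * n - i) = b i) :
    ∑ i ∈ Finset.range (2 * n + 1), b i = 2 * ∑ i ∈ Finset.range n, b i + b n := by
  have h1 : 2 * n + 1 = n + (n + 1) := by ring
  rw [h1, Finset.sum_range_add, Finset.sum_range_succ' (fun x => b (n + x))]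
  have h2 : ∑ x ∈ Finset.range n, b (n + (x + 1)) = ∑ x ∈ Finset.range n, b x := by
    rw [← Finset.sum_range_reflect (fun x => b x) n]
    refine Finset.sum_congr rfl fun x hx => ?_
    have hx' := Finset.mem_range.mp hx
    have h3 : n + (x + 1) = 2 * n - (n - 1 - x) := by omega
    rw [h3]
    exact hb _ (by omega)
  rw [h2, add_zero]
  ring

theorem even_mul_alt_sum (b : ℕ → ℤ) (n : ℕ) (hb : ∀ i ≤ 2 * n, b (2 * n - i) = b i)
    (h5 : Odd n → Even (b n)) :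
    Even ((n : ℤ) * ∑ i ∈ Finset.range (2 * n + 1), (-1 : ℤ) ^ i * b i) := by
  rcases Nat.even_or_odd n with hn | hn
  · exact Even.mul_right (by exact_mod_cast hn) _
  · apply Even.mul_left
    obtain ⟨c, hc⟩ := h5 hn
    have e1 := alt_sum_split b n
    have e2 := sum_split b n
    have e3 := sum_symm b n hb
    refine ⟨∑ i ∈ Finset.range n, b i + c - ∑ i ∈ Finset.range n, b (2 * i + 1), ?_⟩
    rw [e1]
    rw [e2] at e3
    linarith

end Comb


section Main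

variable (n : ℕ) (q : K) (B : ℕ → ℕ) (δ : ℕ → K) (χ : ℕ → K[X])

theorem step_single (hq : q ≠ 0)
    (h2 : ∀ i ≤ 2 * n, δ i • (χ (2 * n - i)).reverse =
      (-1 : K[X]) ^ B i * (χ i).comp (C (q ^ n) * X))
    (h4 : ∀ i, (χ i).natDegree = B i) (i : ℕ) (hi : i ≤ 2 * n) :
    aeval ((RatFunc.X : RatFunc K)⁻¹ * RatFunc.C (q ^ n)⁻¹) (χ i).reverse *
      (RatFunc.C (q ^ n) * RatFunc.X) ^ B i =
    RatFunc.C ((-1) ^ B i * δ i) * algebraMap K[X] (RatFunc K) (χ (2 * n - i)).reverse := by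
  have hQ : q ^ n ≠ 0 := pow_ne_zero _ hq
  have h := aeval_reverse (q ^ n) hQ (χ i)
  rw [h4 i] at h
  rw [h]
  have h3 : (χ i).comp (C (q ^ n) * X) = (-1 : K[X]) ^ B i * (δ i • (χ (2 * n - i)).reverse) := by
    rw [h2 i hi, ← mul_assoc, ← pow_add, ← two_mul, pow_mul]
    simp
  rw [h3, map_mul, Polynomial.smul_eq_C_mul, map_mul, RatFunc.algebraMap_C, map_mul, ← mul_assoc]
  congr 2
  rw [map_pow, map_neg, map_one, map_pow, map_neg, map_one]


theorem step_odd (hq : q ≠ 0)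
    (h2 : ∀ i ≤ 2 * n, δ i • (χ (2 * n - i)).reverse =
      (-1 : K[X]) ^ B i * (χ i).comp (C (q ^ n) * X))
    (h4 : ∀ i, (χ i).natDegree = B i) :
    aeval ((RatFunc.X : RatFunc K)⁻¹ * RatFunc.C (q ^ n)⁻¹)
        (∏ i ∈ Finset.range n, (χ (2 * i + 1)).reverse) *
      (RatFunc.C (q ^ n) * RatFunc.X) ^ (∑ i ∈ Finset.range n, B (2 * i + 1)) =
    RatFunc.C (∏ i ∈ Finset.range n, ((-1) ^ B (2 * i + 1) * δ (2 * i + 1))) *
      algebraMap K[X] (RatFunc K) (∏ i ∈ Finset.range n, (χ (2 * i + 1)).reverse) := by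
  rw [map_prod, ← Finset.prod_pow_eq_pow_sum, ← Finset.prod_mul_distrib]
  rw [Finset.prod_congr rfl (fun i hi => step_single n q B δ χ hq h2 h4 (2 * i + 1)
    (by have := Finset.mem_range.mp hi; omega))]
  rw [Finset.prod_mul_distrib, map_prod, map_prod]
  congr 1
  rw [← Finset.prod_range_reflect (fun i => algebraMap K[X] (RatFunc K) (χ (2 * i + 1)).reverse) n]
  refine Finset.prod_congr rfl fun i hi => ?_
  have := Finset.mem_range.mp hi
  have h3 : 2 * n - (2 * i + 1) = 2 * (n - 1 - i) + 1 := by omega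
  rw [h3]

theorem step_even (hq : q ≠ 0)
    (h2 : ∀ i ≤ 2 * n, δ i • (χ (2 * n - i)).reverse =
      (-1 : K[X]) ^ B i * (χ i).comp (C (q ^ n) * X))
    (h4 : ∀ i, (χ i).natDegree = B i) :
    aeval ((RatFunc.X : RatFunc K)⁻¹ * RatFunc.C (q ^ n)⁻¹)
        (∏ i ∈ Finset.range (n + 1), (χ (2 * i)).reverse) *
      (RatFunc.C (q ^ n) * RatFunc.X) ^ (∑ i ∈ Finset.range (n + 1), B (2 * i)) =
    RatFunc.C (∏ i ∈ Finset.range (n + 1), ((-1) ^ B (2 * i) * δ (2 * i))) *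
      algebraMap K[X] (RatFunc K) (∏ i ∈ Finset.range (n + 1), (χ (2 * i)).reverse) := by
  rw [map_prod, ← Finset.prod_pow_eq_pow_sum, ← Finset.prod_mul_distrib]
  rw [Finset.prod_congr rfl (fun i hi => step_single n q B δ χ hq h2 h4 (2 * i)
    (by have := Finset.mem_range.mp hi; omega))]
  rw [Finset.prod_mul_distrib, map_prod, map_prod]
  congr 1
  rw [← Finset.prod_range_reflect (fun i => algebraMap K[X] (RatFunc K) (χ (2 * i)).reverse)
    (n + 1)]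
  refine Finset.prod_congr rfl fun i hi => ?_
  have := Finset.mem_range.mp hi
  have h3 : 2 * n - 2 * i = 2 * (n + 1 - 1 - i) := by omega
  rw [h3]

theorem sq_prod_odd
    (h1 : ∀ i ≤ 2 * n, δ (2 * n - i) * δ i = (q ^ n) ^ B i) :
    (∏ i ∈ Finset.range n, δ (2 * i + 1)) ^ 2 = (q ^ n) ^ (∑ i ∈ Finset.range n, B (2 * i + 1)) := by
  rw [sq, ← Finset.prod_pow_eq_pow_sum]
  nth_rewrite 1 [← Finset.prod_range_reflect (fun i => δ (2 * i + 1)) n]
  rw [← Finset.prod_mul_distrib]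
  refine Finset.prod_congr rfl fun i hi => ?_
  have := Finset.mem_range.mp hi
  have h3 : 2 * (n - 1 - i) + 1 = 2 * n - (2 * i + 1) := by omega
  rw [h3]
  exact h1 _ (by omega)

theorem sq_prod_even
    (h1 : ∀ i ≤ 2 * n, δ (2 * n - i) * δ i = (q ^ n) ^ B i) :
    (∏ i ∈ Finset.range (n + 1), δ (2 * i)) ^ 2 =
      (q ^ n) ^ (∑ i ∈ Finset.range (n + 1), B (2 * i)) := by
  rw [sq, ← Finset.prod_pow_eq_pow_sum]
  nth_rewrite 1 [← Finset.prod_range_reflect (fun i => δ (2 * i)) (n + 1)]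
  rw [← Finset.prod_mul_distrib]
  refine Finset.prod_congr rfl fun i hi => ?_
  have := Finset.mem_range.mp hi
  have h3 : 2 * (n + 1 - 1 - i) = 2 * n - 2 * i := by omega
  rw [h3]
  exact h1 _ (by omega)


theorem zeta_fe (hq : q ≠ 0)
    (h1 : ∀ i ≤ 2 * n, δ (2 * n - i) * δ i = (q ^ n) ^ B i)
    (h2 : ∀ i ≤ 2 * n, δ i • (χ (2 * n - i)).reverse =
      (-1 : K[X]) ^ B i * (χ i).comp (C (q ^ n) * X))
    (h3 : ∀ i ≤ 2 * n, B (2 * n - i) = B i)
    (h4 : ∀ i, (χ i).natDegree = B i)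
    (h5 : Odd n → Even (B n)) :
    ∃ ε : K, (ε = 1 ∨ ε = -1) ∧
      aeval ((RatFunc.X : RatFunc K)⁻¹ * RatFunc.C (q ^ n)⁻¹)
          (∏ i ∈ Finset.range n, (χ (2 * i + 1)).reverse) /
        aeval ((RatFunc.X : RatFunc K)⁻¹ * RatFunc.C (q ^ n)⁻¹)
          (∏ i ∈ Finset.range (n + 1), (χ (2 * i)).reverse) =
      RatFunc.C ε * RatFunc.C q ^ ((n : ℤ) *
          (∑ i ∈ Finset.range (2 * n + 1), (-1 : ℤ) ^ i * (B i : ℤ)) / 2) *
        (RatFunc.X : RatFunc K) ^ (∑ i ∈ Finset.range (2 * n + 1), (-1 : ℤ) ^ i * (B i : ℤ)) *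
        (algebraMap K[X] (RatFunc K) (∏ i ∈ Finset.range n, (χ (2 * i + 1)).reverse) /
         algebraMap K[X] (RatFunc K) (∏ i ∈ Finset.range (n + 1), (χ (2 * i)).reverse)) := by
  set u : RatFunc K := (RatFunc.X : RatFunc K)⁻¹ * RatFunc.C (q ^ n)⁻¹ with hu
  set w : RatFunc K := RatFunc.C (q ^ n) * RatFunc.X with hwdef
  set No : ℕ := ∑ i ∈ Finset.range n, B (2 * i + 1) with hNo
  set Ne : ℕ := ∑ i ∈ Finset.range (n + 1), B (2 * i) with hNe
  set E : ℤ := ∑ i ∈ Finset.range (2 * n + 1), (-1 : ℤ) ^ i * (B i : ℤ) with hE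
  set Num : K[X] := ∏ i ∈ Finset.range n, (χ (2 * i + 1)).reverse with hNum
  set Den : K[X] := ∏ i ∈ Finset.range (n + 1), (χ (2 * i)).reverse with hDen
  have hQ : q ^ n ≠ 0 := pow_ne_zero _ hq
  have hCq : (RatFunc.C q : RatFunc K) ≠ 0 := (_root_.map_ne_zero _).mpr hq
  have hw : w ≠ 0 := mul_ne_zero ((_root_.map_ne_zero _).mpr hQ) RatFunc.X_ne_zero
  have hEeq : E = (Ne : ℤ) - (No : ℤ) := by
    rw [hE, alt_sum_split (fun i => (B i : ℤ)) n, hNe, hNo, Nat.cast_sum, Nat.cast_sum]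
  -- parity
  obtain ⟨m, hm⟩ := even_mul_alt_sum (fun i => (B i : ℤ)) n
    (fun i hi => by
      change ((B (2 * n - i) : ℕ) : ℤ) = (B i : ℤ)
      rw [h3 i hi])
    (fun hn => by
      obtain ⟨c, hc⟩ := h5 hn
      refine ⟨(c : ℤ), ?_⟩
      change ((B n : ℕ) : ℤ) = (c : ℤ) + c
      rw [hc]
      push_cast
      ring)
  have hm' : (n : ℤ) * E = m + m := hm
  have hdiv : (n : ℤ) * E / 2 = m := by
    rw [hm']; omega
  -- the two product formulas
  have hOdd := step_odd n q B δ χ hq h2 h4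
  have hEven := step_even n q B δ χ hq h2 h4
  rw [← hu, ← hwdef, ← hNo, ← hNum] at hOdd
  rw [← hu, ← hwdef, ← hNe, ← hDen] at hEven
  rw [Finset.prod_mul_distrib, Finset.prod_pow_eq_pow_sum, ← hNo] at hOdd
  rw [Finset.prod_mul_distrib, Finset.prod_pow_eq_pow_sum, ← hNe] at hEven
  set Do : K := ∏ i ∈ Finset.range n, δ (2 * i + 1) with hDo
  set De : K := ∏ i ∈ Finset.range (n + 1), δ (2 * i) with hDe
  have hOdd' : aeval u Num = RatFunc.C ((-1) ^ No * Do) * algebraMap K[X] (RatFunc K) Num *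
      (w ^ No)⁻¹ := by
    rw [← hOdd, mul_inv_cancel_right₀ (pow_ne_zero _ hw)]
  have hEven' : aeval u Den = RatFunc.C ((-1) ^ Ne * De) * algebraMap K[X] (RatFunc K) Den *
      (w ^ Ne)⁻¹ := by
    rw [← hEven, mul_inv_cancel_right₀ (pow_ne_zero _ hw)]
  -- the constant
  have hsq : (Do / De) ^ 2 = (q ^ (-m)) ^ 2 := by
    rw [div_pow, sq_prod_odd n q B δ h1, sq_prod_even n q B δ h1, ← hNo, ← hNe,
      ← zpow_natCast (q ^ n) No, ← zpow_natCast (q ^ n) Ne, ← zpow_sub₀ hQ, ← zpow_natCast q n,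
      ← zpow_mul, ← zpow_natCast (q ^ (-m)) 2, ← zpow_mul]
    congr 1
    have : (No : ℤ) - Ne = -E := by rw [hEeq]; ring
    rw [this, mul_neg, hm']
    push_cast
    ring
  obtain ⟨ε', hε', hDD⟩ : ∃ ε' : K, (ε' = 1 ∨ ε' = -1) ∧ Do / De = ε' * q ^ (-m) := by
    rcases sq_eq_sq_iff_eq_or_eq_neg.mp hsq with h | h
    · exact ⟨1, Or.inl rfl, by rw [h, one_mul]⟩
    · exact ⟨-1, Or.inr rfl, by rw [h, neg_one_mul]⟩
  have hσ : ∃ σ : K, (σ = 1 ∨ σ = -1) ∧ ((-1 : K) ^ No) / ((-1) ^ Ne) = σ := by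
    rcases neg_one_pow_eq_or K No with h | h <;> rcases neg_one_pow_eq_or K Ne with h' | h' <;>
      rw [h, h']
    · exact ⟨1, Or.inl rfl, by simp⟩
    · exact ⟨-1, Or.inr rfl, by simp⟩
    · exact ⟨-1, Or.inr rfl, by simp⟩
    · exact ⟨1, Or.inl rfl, by simp⟩
  obtain ⟨σ, hσ1, hσ2⟩ := hσ
  refine ⟨σ * ε', ?_, ?_⟩
  · rcases hσ1 with rfl | rfl <;> rcases hε' with rfl | rfl <;> simp
  · have hconst : (RatFunc.C ((-1) ^ No * Do) : RatFunc K) / RatFunc.C ((-1) ^ Ne * De) =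
        RatFunc.C (σ * ε') * RatFunc.C q ^ (-m) := by
      rw [← map_div₀, mul_div_mul_comm, hσ2, hDD, ← mul_assoc, map_mul, map_zpow₀]
    have hwpow : (w ^ No)⁻¹ / (w ^ Ne)⁻¹ = RatFunc.C q ^ (m + m) * RatFunc.X ^ E := by
      rw [inv_div_inv, ← zpow_natCast w Ne, ← zpow_natCast w No, ← zpow_sub₀ hw, ← hEeq, hwdef,
        mul_zpow, map_pow, ← zpow_natCast (RatFunc.C q) n, ← zpow_mul, hm']
    rw [hOdd', hEven', mul_div_mul_comm, mul_div_mul_comm, hconst, hwpow, hdiv]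
    have hz : (RatFunc.C q : RatFunc K) ^ (-m) * RatFunc.C q ^ (m + m) = RatFunc.C q ^ m := by
      rw [← zpow_add₀ hCq]
      congr 1
      ring
    rw [← hz]
    ring

end Main

end Groth.Agent.Lib.Helper20.ZetaFE
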