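import Mathlib
import Groth.Agent.S14459
import Groth.Agent.S14455
import Groth.Agent.S13055
import Groth.Agent.S13050
import Groth.Agent.Lib27.Sch.ZetaAffineLine
set_option autoImplicit false
universe u
open CategoryTheory CategoryTheory.Limits AlgebraicGeometry TopologicalSpace

namespace Groth.Agent.Lib.Helper20.ZetaPn

section Iso
variable {k : Type u} [Field k] [Finite k]

/-- The zeta function is invariant under isomorphisms. -/
theorem zetaFun_iso_comp {X Y : Scheme.{u}}
    (f : X ⟶ Spec (CommRingCat.of k)) [LocallyOfFiniteType f] [QuasiCompact f]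
    (g : Y ⟶ X) [IsIso g] : Zeta.zetaFun (g ≫ f) = Zeta.zetaFun f := by
  haveI : ∀ i : PUnit.{u + 1}, IsImmersion ((fun _ : PUnit.{u + 1} => g) i) :=
    fun _ => inferInstance
  have h := Groth.Agent.S14459.result f (ι := PUnit.{u + 1}) (fun _ => Y) (fun _ => g) ?_
  · rw [h, Fintype.prod_unique]
  · intro x _
    refine ⟨PUnit.unit, ?_, fun _ _ => rfl⟩
    refine ⟨(inv g).base x, ?_⟩
    rw [← Scheme.Hom.comp_apply, IsIso.inv_hom_id]
    rfl

/-- The zeta function of the point. -/
theorem zetaFun_point :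
    Zeta.zetaFun (𝟙 (Spec (CommRingCat.of k))) * (1 - PowerSeries.X) = 1 := by
  have hP : ∀ m : ℕ, 1 ≤ m → (Zeta.nPts (𝟙 (Spec (CommRingCat.of k))) m : ℤ) =
      (1 : Polynomial ℤ).eval ((Nat.card k : ℤ) ^ m) := by
    intro m hm
    obtain ⟨K, _, _, _, h1, -⟩ := Groth.Agent.Lib27.ZetaAffineLine.exists_extension (k := k) m hm
    rw [← h1, ← Groth.Agent.S13050.result (𝟙 (Spec (CommRingCat.of k))) K]
    have : SgaExt.pointCount (𝟙 (Spec (CommRingCat.of k))) K = 1 := by
      unfold SgaExt.pointCount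
      rw [Nat.card_eq_one_iff_unique]
      refine ⟨⟨fun a b => Subtype.ext ?_⟩, ⟨⟨Spec.map (CommRingCat.ofHom (algebraMap k K)),
        Category.comp_id _⟩⟩⟩
      have ha := a.2
      have hb := b.2
      rw [Category.comp_id] at ha hb
      rw [ha, hb]
    rw [this]
    simp
  have h := Groth.Agent.S13055.result (𝟙 (Spec (CommRingCat.of k))) (1 : Polynomial ℤ) hP
  simpa using h

end Iso

end Groth.Agent.Lib.Helper20.ZetaPn
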