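import Mathlib
import Groth.Agent.Lib.Helper20.ZetaPn1
set_option autoImplicit false
universe u
open CategoryTheory CategoryTheory.Limits AlgebraicGeometry TopologicalSpace

namespace Groth.Agent.Lib.Helper20.ZetaPn

section Aff
variable (k : Type u) [Field k] [Finite k]

/-- The structure morphism `Spec A ⟶ Spec k` of a `k`-algebra. -/
noncomputable abbrev sp (A : Type u) [CommRing A] [Algebra k A] :
    Spec (CommRingCat.of A) ⟶ Spec (CommRingCat.of k) :=
  Spec.map (CommRingCat.ofHom (algebraMap k A))

instance lft_sp (A : Type u) [CommRing A] [Algebra k A] [Algebra.FiniteType k A] :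
    LocallyOfFiniteType (sp k A) := by
  rw [HasRingHomProperty.Spec_iff (P := @LocallyOfFiniteType)]
  exact RingHom.finiteType_algebraMap.mpr inferInstance

theorem zetaFun_sp_congr (A B : Type u) [CommRing A] [Algebra k A] [CommRing B] [Algebra k B]
    [Algebra.FiniteType k A] (e : A ≃ₐ[k] B) :
    Zeta.zetaFun (sp k B) = Zeta.zetaFun (sp k A) := by
  have h1 : Spec.map (CommRingCat.ofHom (e : A →+* B)) ≫ sp k A = sp k B := by
    unfold sp
    rw [← Spec.map_comp]
    congr 1
    refine CommRingCat.hom_ext (RingHom.ext fun c => ?_)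
    exact e.commutes c
  haveI : IsIso (Spec.map (CommRingCat.ofHom (e : A →+* B))) := by
    have : IsIso (CommRingCat.ofHom (e : A →+* B)) :=
      (e.toRingEquiv.toCommRingCatIso).isIso_hom
    infer_instance
  rw [← h1]
  exact zetaFun_iso_comp (sp k A) _

theorem zetaFun_sp_affineLine (R : Type u) [CommRing R] [Algebra k R] [Algebra.FiniteType k R] :
    Zeta.zetaFun (sp k (MvPolynomial PUnit.{u + 1} R)) =
      PowerSeries.rescale (Nat.card k : ℚ) (Zeta.zetaFun (sp k R)) := by
  have h1 : sp k (MvPolynomial PUnit.{u + 1} R) =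
      (AffineSpace.SpecIso PUnit.{u + 1} (CommRingCat.of R)).inv ≫
        ((𝔸(PUnit.{u + 1}; Spec (CommRingCat.of R)) ↘ Spec (CommRingCat.of R)) ≫ sp k R) := by
    rw [← Category.assoc, AffineSpace.SpecIso_inv_over]
    unfold sp
    rw [← Spec.map_comp]
    rfl
  rw [h1, zetaFun_iso_comp]
  exact Groth.Agent.S14455.result (sp k R)

theorem zetaFun_sp_mvPolynomial (σ : Type) [hσ : Finite σ] :
    Zeta.zetaFun (sp k (MvPolynomial σ k)) =
      PowerSeries.rescale ((Nat.card k : ℚ) ^ Nat.card σ)
        (Zeta.zetaFun (𝟙 (Spec (CommRingCat.of k)))) := by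
  revert hσ
  refine Finite.induction_empty_option
    (P := fun σ : Type => ∀ [Finite σ], Zeta.zetaFun (sp k (MvPolynomial σ k)) =
      PowerSeries.rescale ((Nat.card k : ℚ) ^ Nat.card σ)
        (Zeta.zetaFun (𝟙 (Spec (CommRingCat.of k))))) ?_ ?_ ?_ σ
  · intro α β e ih hβ
    have hα : Finite α := Finite.of_equiv _ e.symm
    rw [← Nat.card_congr e]
    rw [zetaFun_sp_congr k _ _ (MvPolynomial.renameEquiv k e)]
    exact ih
  · intro _
    rw [zetaFun_sp_congr k _ _ (MvPolynomial.isEmptyAlgEquiv k PEmpty).symm]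
    have h0 : Nat.card PEmpty = 0 := Nat.card_of_isEmpty
    rw [h0, pow_zero, PowerSeries.rescale_one, RingHom.id_apply]
    congr 1
    unfold sp
    rw [Algebra.algebraMap_self]
    exact Spec.map_id _
  · intro α _ ih _
    have e1 : MvPolynomial (Option α) k ≃ₐ[k] MvPolynomial PUnit.{u + 1} (MvPolynomial α k) :=
      (MvPolynomial.optionEquivLeft k α).trans
        ((MvPolynomial.uniqueAlgEquiv (MvPolynomial α k) PUnit.{u + 1}).symm.restrictScalars k)
    have hft : Algebra.FiniteType k (MvPolynomial PUnit.{u + 1} (MvPolynomial α k)) :=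
      Algebra.FiniteType.trans (S := MvPolynomial α k) inferInstance inferInstance
    rw [zetaFun_sp_congr k _ _ e1.symm, zetaFun_sp_affineLine, ih, PowerSeries.rescale_rescale,
      Finite.card_option, pow_succ]

end Aff

end Groth.Agent.Lib.Helper20.ZetaPn
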