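import Mathlib
import Groth.Agent.Lib.Helper20.ZetaPn2
import Groth.Agent.Lib.Helper25.ChartPoly1
set_option autoImplicit false
universe u
open CategoryTheory CategoryTheory.Limits AlgebraicGeometry TopologicalSpace HomogeneousLocalization

namespace Groth.Agent.Lib.Helper20.ZetaPn

open Groth.Agent.Lib.Helper25.ChartPoly Groth.Agent.Lib.Helper29.QCoh

section Chart
variable (k : Type u) [Field k] [Finite k] (n : ℕ) (i : Fin (n + 1))

theorem card_ne (i : Fin (n + 1)) : Nat.card {j : Fin (n + 1) // j ≠ i} = n := by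
  rw [← Nat.card_congr (finSuccAboveEquiv i), Nat.card_eq_fintype_card, Fintype.card_fin]

/-- The zeta function of the standard chart `D_+(X_i) ≅ 𝔸^n` of `P^n`. -/
theorem zetaFun_chart :
    Zeta.zetaFun ((Proj.basicOpen (CohB1.polyGrading n k) (MvPolynomial.X i)).ι ≫
      (Proj.toSpecZero (CohB1.polyGrading n k) ≫
        Spec.map (CommRingCat.ofHom (algebraMap k (CohB1.polyGrading n k 0))))) =
    PowerSeries.rescale ((Nat.card k : ℚ) ^ n) (Zeta.zetaFun (𝟙 (Spec (CommRingCat.of k)))) := by
  have f_deg : (MvPolynomial.X i : MvPolynomial (Fin (n + 1)) k) ∈ CohB1.polyGrading n k 1 :=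
    MvPolynomial.isHomogeneous_X k i
  have hm : 0 < 1 := one_pos
  have h1 : (Proj.basicOpen (CohB1.polyGrading n k) (MvPolynomial.X i)).ι =
      (Proj.basicOpenIsoSpec (CohB1.polyGrading n k) (MvPolynomial.X i) f_deg hm).hom ≫
        Proj.awayι (CohB1.polyGrading n k) (MvPolynomial.X i) f_deg hm := by
    rw [← Iso.inv_comp_eq]
    exact Proj.basicOpenIsoSpec_inv_ι _ _ f_deg hm
  have h2 : Proj.awayι (CohB1.polyGrading n k) (MvPolynomial.X i) f_deg hm ≫
      (Proj.toSpecZero (CohB1.polyGrading n k) ≫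
        Spec.map (CommRingCat.ofHom (algebraMap k (CohB1.polyGrading n k 0)))) =
      Spec.map (CommRingCat.ofHom (theta n k i)) ≫
        sp k (MvPolynomial {j : Fin (n + 1) // j ≠ i} k) := by
    rw [Proj.awayι_toSpecZero_assoc]
    unfold sp
    rw [← Spec.map_comp, ← Spec.map_comp]
    congr 1
    refine CommRingCat.hom_ext (RingHom.ext fun c => ?_)
    show (fromZeroRingHom (CohB1.polyGrading n k) _)
        (algebraMap k (CohB1.polyGrading n k 0) c) =
      theta n k i (algebraMap k (MvPolynomial {j : Fin (n + 1) // j ≠ i} k) c)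
    rw [MvPolynomial.algebraMap_eq, theta_C]
    rfl
  haveI hiso : IsIso (Spec.map (CommRingCat.ofHom (theta n k i))) := by
    have : IsIso (CommRingCat.ofHom (theta n k i)) :=
      ((RingEquiv.ofBijective (theta n k i) (theta_bijective n k i)).toCommRingCatIso).isIso_hom
    infer_instance
  rw [h1, Category.assoc, h2, ← Category.assoc, zetaFun_iso_comp,
    zetaFun_sp_mvPolynomial, card_ne]

end Chart

end Groth.Agent.Lib.Helper20.ZetaPn
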