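import Mathlib
import Groth.Agent.Lib.Helper20.PnCoprod2
set_option autoImplicit false
universe u
open CategoryTheory CategoryTheory.Limits AlgebraicGeometry TopologicalSpace

namespace Groth.Agent.Lib.Helper20.ZetaPn

open Groth.Agent.Lib.Helper20.PnCoprod

section Hyp
variable (k : Type u) [Field k] (n : ℕ)

/-- coordinates of the hyperplane `x_{n+1} = 0` -/
noncomputable def gh : Fin (n + 1 + 1) → MvPolynomial (Fin (n + 1)) k :=
  fun j => if h : j.val < n + 1 then MvPolynomial.X ⟨j.val, h⟩ else 0

theorem hgh (j : Fin (n + 1 + 1)) : (gh k n j).IsHomogeneous 1 := by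
  unfold gh
  split_ifs
  · exact MvPolynomial.isHomogeneous_X _ _
  · exact MvPolynomial.isHomogeneous_zero _ _ _

theorem gh_castSucc (j : Fin (n + 1)) : gh k n j.castSucc = MvPolynomial.X j := by
  unfold gh
  rw [dif_pos (by exact j.isLt)]
  rfl

theorem gh_last : gh k n (Fin.last (n + 1)) = 0 := by
  unfold gh
  rw [dif_neg (by simp)]

theorem hsurj : Function.Surjective (linG (n + 1) n (gh k n) (hgh k n)) :=
  linG_surjective (n + 1) n (gh k n) (hgh k n) Fin.castSucc (gh_castSucc k n)

/-- The hyperplane `P^n ⟶ P^{n+1}`, `x_{n+1} = 0`. -/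
noncomputable def hyp : CohB1.ProjSpace n k ⟶ CohB1.ProjSpace (n + 1) k :=
  linMap (n + 1) n (gh k n) (hgh k n) (hsurj k n)

instance : IsClosedImmersion (hyp k n) :=
  isClosedImmersion_linMap (n + 1) n (gh k n) (hgh k n) (hsurj k n)

theorem hyp_toSpec : hyp k n ≫ CohB1.ProjSpace.toSpec (n + 1) k = CohB1.ProjSpace.toSpec n k :=
  linMap_toSpec (n + 1) n (gh k n) (hgh k n) (hsurj k n)

/-- the inclusion of polynomial rings as a graded hom -/
noncomputable def incG : CohB1.polyGrading n k →+*ᵍ CohB1.polyGrading (n + 1) k where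
  toRingHom := (MvPolynomial.rename (Fin.castSucc : Fin (n + 1) → Fin (n + 1 + 1))).toRingHom
  map_mem := fun {i x} hx => by
    rw [MvPolynomial.mem_homogeneousSubmodule] at hx
    show (MvPolynomial.rename Fin.castSucc x) ∈
      MvPolynomial.homogeneousSubmodule (Fin (n + 1 + 1)) k i
    rw [MvPolynomial.mem_homogeneousSubmodule]
    exact hx.rename_isHomogeneous

theorem incG_apply (x : MvPolynomial (Fin (n + 1)) k) :
    incG k n x = MvPolynomial.rename Fin.castSucc x := rfl

theorem sub_inc_lin_mem (a : MvPolynomial (Fin (n + 1 + 1)) k) :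
    a - incG k n (linG (n + 1) n (gh k n) (hgh k n) a) ∈
      Ideal.span {(MvPolynomial.X (Fin.last (n + 1)) : MvPolynomial (Fin (n + 1 + 1)) k)} := by
  induction a using MvPolynomial.induction_on with
  | C c =>
    rw [linG_apply, MvPolynomial.aeval_C, incG_apply]
    have : MvPolynomial.rename (Fin.castSucc : Fin (n + 1) → Fin (n + 1 + 1))
        (algebraMap k (MvPolynomial (Fin (n + 1)) k) c) = MvPolynomial.C c := by
      rw [MvPolynomial.algebraMap_eq, MvPolynomial.rename_C]
    rw [this, sub_self]
    exact Ideal.zero_mem _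
  | add p q hp hq =>
    rw [map_add, map_add]
    have : p + q - (incG k n (linG (n + 1) n (gh k n) (hgh k n) p) +
        incG k n (linG (n + 1) n (gh k n) (hgh k n) q)) =
        (p - incG k n (linG (n + 1) n (gh k n) (hgh k n) p)) +
        (q - incG k n (linG (n + 1) n (gh k n) (hgh k n) q)) := by ring
    rw [this]
    exact Ideal.add_mem _ hp hq
  | mul_X p j hp =>
    rw [map_mul, map_mul]
    have hX : linG (n + 1) n (gh k n) (hgh k n) (MvPolynomial.X j) = gh k n j := by
      rw [linG_apply, MvPolynomial.aeval_X]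
    rw [hX]
    induction j using Fin.lastCases with
    | last =>
      rw [gh_last, map_zero, mul_zero, sub_zero]
      exact Ideal.mul_mem_left _ _ (Ideal.subset_span rfl)
    | cast j' =>
      rw [gh_castSucc, incG_apply (k := k) (n := n) (MvPolynomial.X j'), MvPolynomial.rename_X,
        ← sub_mul]
      exact Ideal.mul_mem_right _ _ hp

theorem exists_preimage (z : Proj (CohB1.polyGrading (n + 1) k))
    (hz' : (MvPolynomial.X (Fin.last (n + 1)) : MvPolynomial (Fin (n + 1 + 1)) k) ∈
        z.asHomogeneousIdeal) :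
    ∃ p : Proj (CohB1.polyGrading n k),
      ProjectiveSpectrum.comap (linG (n + 1) n (gh k n) (hgh k n))
        (linG_irrelevant (n + 1) n (gh k n) (hgh k n) (hsurj k n)) p = z := by
  have hspan : Ideal.span {(MvPolynomial.X (Fin.last (n + 1)) :
      MvPolynomial (Fin (n + 1 + 1)) k)} ≤ z.asHomogeneousIdeal.toIdeal := by
    rw [Ideal.span_le, Set.singleton_subset_iff]
    exact hz'
  have hnot : ¬ HomogeneousIdeal.irrelevant (CohB1.polyGrading n k) ≤
      z.asHomogeneousIdeal.comap (incG k n) := by
    intro hle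
    obtain ⟨j, hj⟩ := exists_mem_basicOpen_X (n + 1) k z
    rw [Proj.mem_basicOpen] at hj
    induction j using Fin.lastCases with
    | last => exact hj hz'
    | cast j' =>
      apply hj
      have h1 : (MvPolynomial.X j' : MvPolynomial (Fin (n + 1)) k) ∈
          HomogeneousIdeal.irrelevant (CohB1.polyGrading n k) :=
        HomogeneousIdeal.mem_irrelevant_of_mem (CohB1.polyGrading n k) one_pos
          (MvPolynomial.isHomogeneous_X k j')
      have h2 := hle h1
      have h3 : incG k n (MvPolynomial.X j') ∈ z.asHomogeneousIdeal := h2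
      rwa [incG_apply, MvPolynomial.rename_X] at h3
  have hprime : (z.asHomogeneousIdeal.comap (incG k n)).toIdeal.IsPrime := by
    haveI := z.isPrime
    show (Ideal.comap (incG k n) z.asHomogeneousIdeal.toIdeal).IsPrime
    infer_instance
  let p : ProjectiveSpectrum (CohB1.polyGrading n k) :=
    ⟨z.asHomogeneousIdeal.comap (incG k n), hprime, hnot⟩
  refine ⟨p, ?_⟩
  apply ProjectiveSpectrum.ext
  apply HomogeneousIdeal.toIdeal_injective
  ext a
  show incG k n (linG (n + 1) n (gh k n) (hgh k n) a) ∈ z.asHomogeneousIdeal.toIdeal ↔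
    a ∈ z.asHomogeneousIdeal.toIdeal
  have hd := hspan (sub_inc_lin_mem k n a)
  constructor
  · intro h
    have := Ideal.add_mem _ hd h
    rwa [sub_add_cancel] at this
  · intro h
    have := Ideal.sub_mem _ h hd
    rwa [sub_sub_cancel] at this

/-- The last standard chart of `P^{n+1}`. -/
noncomputable def lastOpen : (CohB1.ProjSpace (n + 1) k).Opens :=
  Proj.basicOpen (CohB1.polyGrading (n + 1) k) (MvPolynomial.X (Fin.last (n + 1)))

theorem range_hyp :
    Set.range (hyp k n).base = ((lastOpen k n : (CohB1.ProjSpace (n + 1) k).Opens) : Set _)ᶜ := by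
  apply Set.Subset.antisymm
  · rintro _ ⟨p, rfl⟩
    exact linMap_notMem_of_eq_zero (n + 1) n (gh k n) (hgh k n) (hsurj k n) _ (gh_last k n) p
  · intro z hz
    have hz' : (MvPolynomial.X (Fin.last (n + 1)) : MvPolynomial (Fin (n + 1 + 1)) k) ∈
        (z : ProjectiveSpectrum (CohB1.polyGrading (n + 1) k)).asHomogeneousIdeal := by
      by_contra h
      exact hz h
    obtain ⟨p, hp⟩ := exists_preimage k n z hz'
    exact ⟨p, hp⟩

end Hyp

end Groth.Agent.Lib.Helper20.ZetaPn
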