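import Mathlib
import Groth.Agent.Lib.Helper20.ZetaPn3
import Groth.Agent.Lib.Helper20.ZetaPn4
import Groth.Agent.S13052
import Groth.Agent.S9705
set_option autoImplicit false
universe u
open CategoryTheory CategoryTheory.Limits AlgebraicGeometry TopologicalSpace

namespace Groth.Agent.Lib.Helper20.ZetaPn

open Groth.Agent.Lib.Helper20.PnCoprod

section Main
variable (k : Type u) [Field k] [Finite k]

theorem rescale_point_mul (a : ℚ) :
    PowerSeries.rescale a (Zeta.zetaFun (𝟙 (Spec (CommRingCat.of k)))) *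
      (1 - PowerSeries.C a * PowerSeries.X) = 1 := by
  have h := congrArg (PowerSeries.rescale a) (zetaFun_point (k := k))
  rw [map_mul, map_sub, map_one, PowerSeries.rescale_X] at h
  exact h

theorem zetaFun_P0 :
    Zeta.zetaFun (CohB1.ProjSpace.toSpec 0 k) = Zeta.zetaFun (𝟙 (Spec (CommRingCat.of k))) := by
  haveI := Groth.Agent.S9705.isProper_toSpec 0 k
  have htop : Proj.basicOpen (CohB1.polyGrading 0 k) (MvPolynomial.X (0 : Fin (0 + 1))) = ⊤ := by
    rw [eq_top_iff]
    intro z _
    obtain ⟨j, hj⟩ := exists_mem_basicOpen_X 0 k z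
    have : j = 0 := Fin.ext (by have := j.isLt; show j.val = 0; omega)
    rw [this] at hj
    exact hj
  have h1 := zetaFun_chart k 0 (0 : Fin (0 + 1))
  rw [pow_zero, PowerSeries.rescale_one, RingHom.id_apply] at h1
  rw [← h1]
  have h2 : ∀ (U : (CohB1.ProjSpace 0 k).Opens), U = ⊤ →
      Zeta.zetaFun (U.ι ≫ CohB1.ProjSpace.toSpec 0 k) =
        Zeta.zetaFun (CohB1.ProjSpace.toSpec 0 k) := by
    rintro U rfl
    haveI : IsIso (⊤ : (CohB1.ProjSpace 0 k).Opens).ι := by
      rw [← Scheme.topIso_hom]; infer_instance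
    exact zetaFun_iso_comp _ _
  exact (h2 _ htop).symm

theorem main (n : ℕ) :
    Zeta.zetaFun (CohB1.ProjSpace.toSpec n k) *
        ∏ i ∈ Finset.range (n + 1),
          (1 - PowerSeries.C ((Nat.card k : ℚ) ^ i) * PowerSeries.X) = 1 := by
  induction n with
  | zero =>
    rw [zetaFun_P0, Finset.prod_range_one, pow_zero]
    have h := rescale_point_mul k 1
    rw [PowerSeries.rescale_one, RingHom.id_apply] at h
    exact h
  | succ n ih =>
    haveI := Groth.Agent.S9705.isProper_toSpec (n + 1) k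
    have h1 := Groth.Agent.S13052.result (CohB1.ProjSpace.toSpec (n + 1) k) (lastOpen k n)
      (hyp k n) (range_hyp k n)
    have h2 : Zeta.zetaFun ((lastOpen k n).ι ≫ CohB1.ProjSpace.toSpec (n + 1) k) =
        PowerSeries.rescale ((Nat.card k : ℚ) ^ (n + 1))
          (Zeta.zetaFun (𝟙 (Spec (CommRingCat.of k)))) :=
      zetaFun_chart k (n + 1) (Fin.last (n + 1))
    rw [h1, hyp_toSpec, h2, Finset.prod_range_succ, mul_mul_mul_comm, ih, one_mul]
    exact rescale_point_mul k _

end Main

end Groth.Agent.Lib.Helper20.ZetaPn
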